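import Groth.Agent.Lib.Helper29.PullSect
universe u
open CategoryTheory CategoryTheory.Limits AlgebraicGeometry TopologicalSpace Opposite
open scoped TensorProduct

namespace Groth.Agent.Lib.Helper29.QCoh
variable {X : Scheme.{u}}

/-- A morphism of `O_X`-modules from a compatible family of semilinear maps on sections. -/
noncomputable def homOfApp {M N : X.Modules} (φ : ∀ W : X.Opens, Γ(M, W) →+ Γ(N, W))
    (hsmul : ∀ (W : X.Opens) (r : Γ(X, W)) (σ : Γ(M, W)), φ W (r • σ) = r • φ W σ)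
    (hres : ∀ {W W' : X.Opens} (h : W' ≤ W) (σ : Γ(M, W)),
      φ W' (res M h σ) = res N h (φ W σ)) : M ⟶ N :=
  ⟨PresheafOfModules.homMk
    { app := fun W => AddCommGrpCat.ofHom (φ W.unop)
      naturality := by
        intro W W' i
        ext σ
        exact hres (leOfHom i.unop) σ }
    (fun W r σ => hsmul W.unop r σ)⟩

theorem homOfApp_app {M N : X.Modules} (φ : ∀ W : X.Opens, Γ(M, W) →+ Γ(N, W))
    (hsmul : ∀ (W : X.Opens) (r : Γ(X, W)) (σ : Γ(M, W)), φ W (r • σ) = r • φ W σ)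
    (hres : ∀ {W W' : X.Opens} (h : W' ≤ W) (σ : Γ(M, W)),
      φ W' (res M h σ) = res N h (φ W σ)) (W : X.Opens) (σ : Γ(M, W)) :
    (homOfApp φ hsmul hres).app W σ = φ W σ := rfl

theorem eq_of_res_cover_eq (M : X.Modules) {ι : Type*} (V : ι → X.Opens) {U : X.Opens}
    (hVU : ∀ i, V i ≤ U) (hcover : U ≤ iSup V) (s t : Γ(M, U))
    (h : ∀ i, res M (hVU i) s = res M (hVU i) t) : s = t := by
  rw [← sub_eq_zero]
  refine eq_zero_of_res_cover_eq_zero M V hVU hcover _ fun i => ?_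
  rw [map_sub, h i, sub_self]

section Cocycle
variable {M N : X.Modules} {ι : Type*} (U : ι → X.Opens) (m : ∀ i, Γ(M, U i)) (n : ∀ i, Γ(N, U i))

/-- `σ` and `τ` have the same coefficients with respect to the local generators `m i`, `n i`. -/
def SameCoeff (W : X.Opens) (σ : Γ(M, W)) (τ : Γ(N, W)) : Prop :=
  ∀ i, ∃ a : Γ(X, W ⊓ U i),
    res M inf_le_left σ = a • res M inf_le_right (m i) ∧
    res N inf_le_left τ = a • res N inf_le_right (n i)

variable {U m n}

theorem SameCoeff.symm {W : X.Opens} {σ : Γ(M, W)} {τ : Γ(N, W)} (h : SameCoeff U m n W σ τ) :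
    SameCoeff U n m W τ σ := fun i => (h i).imp fun _ ha => ha.symm

theorem SameCoeff.add {W : X.Opens} {σ σ' : Γ(M, W)} {τ τ' : Γ(N, W)}
    (h : SameCoeff U m n W σ τ) (h' : SameCoeff U m n W σ' τ') :
    SameCoeff U m n W (σ + σ') (τ + τ') := fun i => by
  obtain ⟨a, h1, h2⟩ := h i
  obtain ⟨a', h1', h2'⟩ := h' i
  exact ⟨a + a', by rw [map_add, h1, h1', add_smul], by rw [map_add, h2, h2', add_smul]⟩

theorem SameCoeff.zero {W : X.Opens} : SameCoeff U m n W 0 0 := fun i =>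
  ⟨0, by rw [map_zero, zero_smul], by rw [map_zero, zero_smul]⟩

theorem SameCoeff.smul {W : X.Opens} {σ : Γ(M, W)} {τ : Γ(N, W)}
    (h : SameCoeff U m n W σ τ) (r : Γ(X, W)) :
    SameCoeff U m n W (r • σ) (r • τ) := fun i => by
  obtain ⟨a, h1, h2⟩ := h i
  exact ⟨rres X inf_le_left r * a, by rw [res_smul, h1, smul_smul], by rw [res_smul, h2, smul_smul]⟩

theorem SameCoeff.res {W W' : X.Opens} (hW : W' ≤ W) {σ : Γ(M, W)} {τ : Γ(N, W)}
    (h : SameCoeff U m n W σ τ) :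
    SameCoeff U m n W' (res M hW σ) (res N hW τ) := fun i => by
  obtain ⟨a, h1, h2⟩ := h i
  have hle : W' ⊓ U i ≤ W ⊓ U i := inf_le_inf_right _ hW
  refine ⟨rres X hle a, ?_, ?_⟩
  · have := congrArg (QCoh.res M hle) h1
    rw [res_res, res_smul, res_res] at this
    rw [res_res]; exact this
  · have := congrArg (QCoh.res N hle) h2
    rw [res_res, res_smul, res_res] at this
    rw [res_res]; exact this

theorem SameCoeff.unique (hU : ∀ x : X, ∃ i, x ∈ U i) (hm : ∀ i, IsTriv M (U i) (m i))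
    {W : X.Opens} {σ : Γ(M, W)} {τ τ' : Γ(N, W)}
    (h : SameCoeff U m n W σ τ) (h' : SameCoeff U m n W σ τ') : τ = τ' := by
  refine eq_of_res_cover_eq N (fun i => W ⊓ U i) (fun i => inf_le_left) ?_ τ τ' fun i => ?_
  · intro x hx
    obtain ⟨i, hi⟩ := hU x
    exact Opens.mem_iSup.mpr ⟨i, ⟨hx, hi⟩⟩
  · obtain ⟨a, h1, h2⟩ := h i
    obtain ⟨a', h1', h2'⟩ := h' i
    have : a = a' := ((hm i).restrict inf_le_right).smul_left_cancel (h1.symm.trans h1')
    rw [h2, h2', this]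

theorem SameCoeff.exists (hU : ∀ x : X, ∃ i, x ∈ U i) (hm : ∀ i, IsTriv M (U i) (m i))
    (hc : ∀ i j, ∃ g : Γ(X, U i ⊓ U j),
      QCoh.res M inf_le_left (m i) = g • QCoh.res M inf_le_right (m j) ∧
      QCoh.res N inf_le_left (n i) = g • QCoh.res N inf_le_right (n j))
    {W : X.Opens} (σ : Γ(M, W)) : ∃ τ : Γ(N, W), SameCoeff U m n W σ τ := by
  have ha : ∀ i, ∃ a : Γ(X, W ⊓ U i), QCoh.res M inf_le_left σ = a • QCoh.res M inf_le_right (m i) :=
    fun i => ((hm i).restrict inf_le_right).exists_eq_smul _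
  choose a ha using ha
  have hcompat : ∀ i j, QCoh.res N (inf_le_left : (W ⊓ U i) ⊓ (W ⊓ U j) ≤ W ⊓ U i)
      (a i • QCoh.res N inf_le_right (n i)) =
      QCoh.res N (inf_le_right : (W ⊓ U i) ⊓ (W ⊓ U j) ≤ W ⊓ U j)
      (a j • QCoh.res N inf_le_right (n j)) := by
    intro i j
    obtain ⟨g, hg1, hg2⟩ := hc i j
    -- Z = (W ⊓ U i) ⊓ (W ⊓ U j)
    have hZij : (W ⊓ U i) ⊓ (W ⊓ U j) ≤ U i ⊓ U j :=
      inf_le_inf inf_le_right inf_le_right
    have hZj : (W ⊓ U i) ⊓ (W ⊓ U j) ≤ U j := inf_le_right.trans inf_le_right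
    have hZi : (W ⊓ U i) ⊓ (W ⊓ U j) ≤ U i := inf_le_left.trans inf_le_right
    have hZW : (W ⊓ U i) ⊓ (W ⊓ U j) ≤ W := inf_le_left.trans inf_le_left
    -- restrict hg1, hg2 to Z
    have hg1' : QCoh.res M hZi (m i) = rres X hZij g • QCoh.res M hZj (m j) := by
      have := congrArg (QCoh.res M hZij) hg1
      rwa [res_res, res_smul, res_res] at this
    have hg2' : QCoh.res N hZi (n i) = rres X hZij g • QCoh.res N hZj (n j) := by
      have := congrArg (QCoh.res N hZij) hg2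
      rwa [res_res, res_smul, res_res] at this
    -- σ on Z two ways
    have e1 : QCoh.res M hZW σ = (rres X (inf_le_left : (W ⊓ U i) ⊓ (W ⊓ U j) ≤ W ⊓ U i) (a i) * rres X hZij g) •
        QCoh.res M hZj (m j) := by
      have := congrArg (QCoh.res M (inf_le_left : (W ⊓ U i) ⊓ (W ⊓ U j) ≤ W ⊓ U i)) (ha i)
      rw [res_res, res_smul, res_res, hg1', smul_smul] at this
      exact this
    have e2 : QCoh.res M hZW σ = (rres X (inf_le_right : (W ⊓ U i) ⊓ (W ⊓ U j) ≤ W ⊓ U j) (a j)) •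
        QCoh.res M hZj (m j) := by
      have := congrArg (QCoh.res M (inf_le_right : (W ⊓ U i) ⊓ (W ⊓ U j) ≤ W ⊓ U j)) (ha j)
      rw [res_res, res_smul, res_res] at this
      exact this
    have e3 : rres X (inf_le_left : (W ⊓ U i) ⊓ (W ⊓ U j) ≤ W ⊓ U i) (a i) * rres X hZij g =
        rres X (inf_le_right : (W ⊓ U i) ⊓ (W ⊓ U j) ≤ W ⊓ U j) (a j) :=
      ((hm j).restrict hZj).smul_left_cancel (e1.symm.trans e2)
    rw [res_smul, res_smul, res_res, res_res, hg2', smul_smul, e3]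
  obtain ⟨τ, hτ⟩ := exists_gluing N (fun i => W ⊓ U i) W (fun i => inf_le_left)
    (by
      intro x hx
      obtain ⟨i, hi⟩ := hU x
      exact Opens.mem_iSup.mpr ⟨i, ⟨hx, hi⟩⟩)
    (fun i => a i • QCoh.res N inf_le_right (n i)) hcompat
  exact ⟨τ, fun i => ⟨a i, ha i, hτ i⟩⟩

/-- **Gluing isomorphisms of locally trivial modules**: two modules with local generators over a
common cover having the same transition functions are isomorphic, by an isomorphism matching the
generators. -/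
theorem exists_iso_of_cocycle (hU : ∀ x : X, ∃ i, x ∈ U i)
    (hm : ∀ i, IsTriv M (U i) (m i)) (hn : ∀ i, IsTriv N (U i) (n i))
    (hc : ∀ i j, ∃ g : Γ(X, U i ⊓ U j),
      QCoh.res M inf_le_left (m i) = g • QCoh.res M inf_le_right (m j) ∧
      QCoh.res N inf_le_left (n i) = g • QCoh.res N inf_le_right (n j)) :
    ∃ φ : M ≅ N, ∀ i, φ.hom.app (U i) (m i) = n i := by
  have hc' : ∀ i j, ∃ g : Γ(X, U i ⊓ U j),
      QCoh.res N inf_le_left (n i) = g • QCoh.res N inf_le_right (n j) ∧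
      QCoh.res M inf_le_left (m i) = g • QCoh.res M inf_le_right (m j) :=
    fun i j => (hc i j).imp fun _ h => h.symm
  have hex : ∀ (W : X.Opens) (σ : Γ(M, W)), ∃ τ : Γ(N, W), SameCoeff U m n W σ τ :=
    fun W σ => SameCoeff.exists hU hm hc σ
  choose F hF using hex
  have huniq : ∀ {W : X.Opens} {σ : Γ(M, W)} {τ : Γ(N, W)}, SameCoeff U m n W σ τ → F W σ = τ :=
    fun h => SameCoeff.unique hU hm (hF _ _) h
  let φ : ∀ W : X.Opens, Γ(M, W) →+ Γ(N, W) := fun W =>
    { toFun := F W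
      map_zero' := huniq SameCoeff.zero
      map_add' := fun σ σ' => huniq ((hF W σ).add (hF W σ')) }
  have hφ : ∀ W σ, φ W σ = F W σ := fun _ _ => rfl
  let Φ : M ⟶ N := homOfApp φ
    (fun W r σ => huniq ((hF W σ).smul r))
    (fun {W W'} h σ => huniq ((hF W σ).res h))
  have hΦ : ∀ W σ, Φ.app W σ = F W σ := fun _ _ => rfl
  have hiso : IsIso Φ := by
    rw [isIso_iff_app_bijective]
    intro W
    constructor
    · intro σ σ' h
      rw [hΦ, hΦ] at h
      have h1 := (hF W σ).symm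
      have h2 := (hF W σ').symm
      rw [h] at h1
      exact SameCoeff.unique hU hn h1 h2
    · intro τ
      obtain ⟨σ, hσ⟩ := SameCoeff.exists hU hn hc' τ
      exact ⟨σ, huniq hσ.symm⟩
  refine ⟨asIso Φ, fun i => ?_⟩
  change Φ.app (U i) (m i) = n i
  rw [hΦ]
  exact huniq fun j => hc i j

end Cocycle

end Groth.Agent.Lib.Helper29.QCoh
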