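import Groth.Agent.Lib.Helper29.QCohCrit
universe u v w
open CategoryTheory CategoryTheory.Limits AlgebraicGeometry Opposite TopologicalSpace

/-! # Direct images of quasi-coherent modules along affine morphisms -/

namespace Groth.Agent.Lib.Helper29.QCoh

variable {X Y : Scheme.{u}}

theorem pushforward_smul (f : X ⟶ Y) (M : X.Modules) (V : Y.Opens) (r : Γ(Y, V))
    (m : Γ((Scheme.Modules.pushforward f).obj M, V)) :
    r • m = (show Γ((Scheme.Modules.pushforward f).obj M, V) from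
      (f.app V r) • (show Γ(M, f ⁻¹ᵁ V) from m)) := rfl

theorem pushforward_res (f : X ⟶ Y) (M : X.Modules) {V V' : Y.Opens} (h : V' ≤ V)
    (m : Γ((Scheme.Modules.pushforward f).obj M, V)) :
    res ((Scheme.Modules.pushforward f).obj M) h m =
      (show Γ((Scheme.Modules.pushforward f).obj M, V') from
        res M (f.preimage_mono h) (show Γ(M, f ⁻¹ᵁ V) from m)) := rfl

theorem app_map_apply (f : X ⟶ Y) {V V' : Y.Opens} (h : V' ≤ V) (r : Γ(Y, V)) :
    f.app V' (Y.presheaf.map (homOfLE h).op r) =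
      X.presheaf.map (homOfLE (f.preimage_mono h)).op (f.app V r) := by
  have := f.naturality (homOfLE h).op
  exact congrArg (fun k => k.hom r) this

/-- The direct image of a quasi-coherent module along an affine morphism is quasi-coherent. -/
theorem isQuasicoherent_pushforward_of_isAffineHom (f : X ⟶ Y) [IsAffineHom f] (M : X.Modules)
    [M.IsQuasicoherent] : ((Scheme.Modules.pushforward f).obj M).IsQuasicoherent := by
  refine isQuasicoherent_of_localizing _ (fun V : Y.affineOpens => (V : Y.Opens))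
    (isOpenCover_affineOpens Y) (fun V => V.2) ?_ ?_
  · rintro ⟨V, hV⟩ g s
    change ∃ (n : ℕ) (m : Γ(M, f ⁻¹ᵁ V)), _
    have hW : IsAffineOpen (f ⁻¹ᵁ V) := hV.preimage f
    have e : f ⁻¹ᵁ Y.basicOpen g = X.basicOpen (f.app V g) := Scheme.preimage_basicOpen f g
    obtain ⟨n, m, hm⟩ := exists_pow_smul_eq_res M hW (f.app V g)
      (res M e.ge (show Γ(M, f ⁻¹ᵁ Y.basicOpen g) from s))
    refine ⟨n, m, ?_⟩
    rw [pushforward_res, pushforward_smul]
    change _ • (show Γ(M, f ⁻¹ᵁ Y.basicOpen g) from s) = res M _ m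
    apply res_injective_of_eq M e.symm
    rw [res_smul, res_res, map_pow, app_map_apply, map_pow, map_map_apply]
    exact hm
  · rintro ⟨V, hV⟩ g m hm
    have hW : IsAffineOpen (f ⁻¹ᵁ V) := hV.preimage f
    have e : f ⁻¹ᵁ Y.basicOpen g = X.basicOpen (f.app V g) := Scheme.preimage_basicOpen f g
    have h0 : res M (X.basicOpen_le (f.app V g)) (show Γ(M, f ⁻¹ᵁ V) from m) = 0 := by
      rw [pushforward_res] at hm
      have h1 : res M (f.preimage_mono (Y.basicOpen_le g)) (show Γ(M, f ⁻¹ᵁ V) from m) = 0 := hm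
      rw [← res_res M (f.preimage_mono (Y.basicOpen_le g)) e.ge, h1, map_zero]
    obtain ⟨n, hn⟩ := exists_pow_smul_eq_zero M hW (f.app V g) _ h0
    refine ⟨n, ?_⟩
    rw [pushforward_smul, map_pow]
    exact hn

/-- Finiteness of sections of a direct image along a finite morphism. -/
theorem module_finite_pushforward_of_isFinite (f : X ⟶ Y) [IsFinite f] (M : X.Modules)
    [M.IsQuasicoherent] [M.IsFiniteType] {V : Y.Opens} (hV : IsAffineOpen V) :
    Module.Finite Γ(Y, V) Γ((Scheme.Modules.pushforward f).obj M, V) := by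
  have hW : IsAffineOpen (f ⁻¹ᵁ V) := hV.preimage f
  have hfin : Module.Finite Γ(X, f ⁻¹ᵁ V) Γ(M, f ⁻¹ᵁ V) := module_finite_of_isFiniteType M hW
  have hf : (f.app V).hom.Finite := IsFinite.finite_app f V hV
  let alg : Algebra Γ(Y, V) Γ(X, f ⁻¹ᵁ V) := (f.app V).hom.toAlgebra
  have hf' : Module.Finite Γ(Y, V) Γ(X, f ⁻¹ᵁ V) := hf
  let inst : Module Γ(Y, V) Γ(M, f ⁻¹ᵁ V) :=
    Module.compHom Γ(M, f ⁻¹ᵁ V) (algebraMap Γ(Y, V) Γ(X, f ⁻¹ᵁ V))
  have : IsScalarTower Γ(Y, V) Γ(X, f ⁻¹ᵁ V) Γ(M, f ⁻¹ᵁ V) :=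
    IsScalarTower.of_compHom Γ(Y, V) Γ(X, f ⁻¹ᵁ V) Γ(M, f ⁻¹ᵁ V)
  have h3 : Module.Finite Γ(Y, V) Γ(M, f ⁻¹ᵁ V) :=
    Module.Finite.trans Γ(X, f ⁻¹ᵁ V) Γ(M, f ⁻¹ᵁ V)
  let e : Γ(M, f ⁻¹ᵁ V) ≃ₗ[Γ(Y, V)] Γ((Scheme.Modules.pushforward f).obj M, V) :=
    { toFun := fun m => m
      invFun := fun m => m
      map_add' := fun _ _ => rfl
      map_smul' := fun _ _ => rfl
      left_inv := fun _ => rfl
      right_inv := fun _ => rfl }
  exact Module.Finite.equiv e

/-- The direct image of a quasi-coherent module of finite type along a finite morphism is of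
finite type. -/
theorem isFiniteType_pushforward_of_isFinite (f : X ⟶ Y) [IsFinite f] (M : X.Modules)
    [M.IsQuasicoherent] [M.IsFiniteType] :
    ((Scheme.Modules.pushforward f).obj M).IsFiniteType := by
  have := isQuasicoherent_pushforward_of_isAffineHom f M
  rw [isFiniteType_iff_forall_module_finite]
  intro V hV
  exact module_finite_pushforward_of_isFinite f M hV

/-- If the sections of `f_* M` over `V` are finitely generated over `Γ(Y, V)`, then the sections
of `M` over `f⁻¹ V` are finitely generated over `Γ(X, f⁻¹ V)`. -/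
theorem module_finite_of_pushforward (f : X ⟶ Y) (M : X.Modules) (V : Y.Opens)
    (h : Module.Finite Γ(Y, V) Γ((Scheme.Modules.pushforward f).obj M, V)) :
    Module.Finite Γ(X, f ⁻¹ᵁ V) Γ(M, f ⁻¹ᵁ V) := by
  let alg : Algebra Γ(Y, V) Γ(X, f ⁻¹ᵁ V) := (f.app V).hom.toAlgebra
  let inst : Module Γ(Y, V) Γ(M, f ⁻¹ᵁ V) :=
    Module.compHom Γ(M, f ⁻¹ᵁ V) (algebraMap Γ(Y, V) Γ(X, f ⁻¹ᵁ V))
  have : IsScalarTower Γ(Y, V) Γ(X, f ⁻¹ᵁ V) Γ(M, f ⁻¹ᵁ V) :=
    IsScalarTower.of_compHom Γ(Y, V) Γ(X, f ⁻¹ᵁ V) Γ(M, f ⁻¹ᵁ V)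
  let e : Γ(M, f ⁻¹ᵁ V) ≃ₗ[Γ(Y, V)] Γ((Scheme.Modules.pushforward f).obj M, V) :=
    { toFun := fun m => m
      invFun := fun m => m
      map_add' := fun _ _ => rfl
      map_smul' := fun _ _ => rfl
      left_inv := fun _ => rfl
      right_inv := fun _ => rfl }
  have h3 : Module.Finite Γ(Y, V) Γ(M, f ⁻¹ᵁ V) := Module.Finite.equiv e.symm
  exact Module.Finite.of_restrictScalars_finite Γ(Y, V) Γ(X, f ⁻¹ᵁ V) Γ(M, f ⁻¹ᵁ V)

/-- For an affine morphism `f` and `M` quasi-coherent: if `f_* M` is of finite type then so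
is `M`. -/
theorem isFiniteType_of_pushforward (f : X ⟶ Y) [IsAffineHom f] (M : X.Modules)
    [M.IsQuasicoherent] (h : ((Scheme.Modules.pushforward f).obj M).IsFiniteType) :
    M.IsFiniteType := by
  have := isQuasicoherent_pushforward_of_isAffineHom f M
  refine isFiniteType_of_module_finite M (fun V : Y.affineOpens => f ⁻¹ᵁ (V : Y.Opens)) ?_
    (fun V => V.2.preimage f) (fun V => ?_)
  · rw [IsOpenCover, eq_top_iff]
    rintro x -
    obtain ⟨V, hV⟩ := (isOpenCover_affineOpens Y).exists_mem (f x)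
    exact Opens.mem_iSup.mpr ⟨V, hV⟩
  · apply module_finite_of_pushforward
    exact module_finite_of_isFiniteType _ V.2

end Groth.Agent.Lib.Helper29.QCoh
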