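import Groth.Agent.Lib.Helper29.QCohExt
import Groth.Agent.Lib.Helper29.QCohPush
universe u v w
open CategoryTheory CategoryTheory.Limits AlgebraicGeometry Opposite TopologicalSpace

/-! # The qcqs lemma for quasi-coherent modules and direct images along qcqs morphisms -/

namespace Groth.Agent.Lib.Helper29.QCoh

variable {X Y : Scheme.{u}}

theorem eq_zero_of_res_cover_eq_zero (M : X.Modules) {ι : Type*} (V : ι → X.Opens) {U : X.Opens}
    (hVU : ∀ i, V i ≤ U) (hcover : U ≤ iSup V) (s : Γ(M, U))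
    (h : ∀ i, res M (hVU i) s = 0) : s = 0 := by
  refine eq_zero_of_germ_eq_zero M s fun x hx => ?_
  obtain ⟨i, hi⟩ := Opens.mem_iSup.mp (hcover hx)
  rw [← germ_res M (hVU i) x hi, h i, map_zero]

theorem rsmul_eq_smul_res (M : X.Modules) {U W : X.Opens} (h : W ≤ U) (f : Γ(X, U))
    (m : Γ(M, U)) : rsmul M h f (res M h m) = res M h (f • m) := by
  unfold rsmul
  rw [res_smul]

/-- A compact open is a finite union of affine opens. -/
theorem exists_finite_affine_cover {U : X.Opens} (hU : IsCompact (U : Set X)) :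
    ∃ (n : ℕ) (V : Fin n → X.Opens), (∀ i, IsAffineOpen (V i)) ∧ (∀ i, V i ≤ U) ∧
      U ≤ iSup V := by
  obtain ⟨s, hs', hs⟩ :=
    (isCompact_and_isOpen_iff_finite_and_eq_biUnion_affineOpens (U := (U : Set X))).mp ⟨hU, U.2⟩
  have := hs'.to_subtype
  cases nonempty_fintype s
  let e := Fintype.equivFin s
  refine ⟨Fintype.card s, fun k => ((e.symm k : s) : X.affineOpens).1,
    fun k => ((e.symm k : s) : X.affineOpens).2, fun k x hx => ?_, fun x hx => ?_⟩
  · have : x ∈ (U : Set X) := by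
      rw [hs]
      exact Set.mem_iUnion₂.mpr ⟨(e.symm k : s).1, (e.symm k : s).2, hx⟩
    exact this
  · have hx' : x ∈ (U : Set X) := hx
    rw [hs] at hx'
    obtain ⟨i, hi, hxi⟩ := Set.mem_iUnion₂.mp hx'
    refine Opens.mem_iSup.mpr ⟨e ⟨i, hi⟩, ?_⟩
    simpa using hxi

/-- First half of the qcqs lemma for quasi-coherent modules: a section over a quasi-compact
open `U` which vanishes on `U_f` is killed by a power of `f`. -/
theorem exists_pow_smul_eq_zero_of_isCompact (M : X.Modules) [M.IsQuasicoherent] {U : X.Opens}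
    (hU : IsCompact (U : Set X)) (f : Γ(X, U)) (m : Γ(M, U))
    (hm : res M (X.basicOpen_le f) m = 0) : ∃ n : ℕ, f ^ n • m = 0 := by
  obtain ⟨k, V, hV, hVU, hcov⟩ := exists_finite_affine_cover hU
  have h1 : ∀ i, ∃ n : ℕ, rsmul M (hVU i) (f ^ n) (res M (hVU i) m) = 0 := fun i => by
    refine exists_rsmul_pow_eq_zero M (hV i) (hVU i) f _ ?_
    rw [res_res, ← res_res M (X.basicOpen_le f) (inf_le_right : V i ⊓ X.basicOpen f ≤ _), hm,
      map_zero]
  choose n hn using h1
  refine ⟨Finset.univ.sup n, ?_⟩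
  refine eq_zero_of_res_cover_eq_zero M V hVU hcov _ fun i => ?_
  rw [← rsmul_eq_smul_res, rsmul_pow_of_le M (hVU i) f (Finset.le_sup (Finset.mem_univ i)), hn i,
    rsmul_zero]

/-- Second half of the qcqs lemma for quasi-coherent modules: a section over `U_f`, with `U`
quasi-compact and quasi-separated, extends to `U` after multiplication by a power of `f`. -/
theorem exists_pow_smul_eq_res_of_qcqs (M : X.Modules) [M.IsQuasicoherent] {U : X.Opens}
    (hU : IsCompact (U : Set X)) (hU' : IsQuasiSeparated (U : Set X)) (f : Γ(X, U))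
    (s : Γ(M, X.basicOpen f)) :
    ∃ (n : ℕ) (m : Γ(M, U)),
      (X.presheaf.map (homOfLE (X.basicOpen_le f)).op f) ^ n • s =
        res M (X.basicOpen_le f) m := by
  obtain ⟨k, V, hV, hVU, hcov⟩ := exists_finite_affine_cover hU
  -- local extensions
  have h1 : ∀ i, ∃ (n : ℕ) (u : Γ(M, V i)),
      rsmul M ((inf_le_left : V i ⊓ X.basicOpen f ≤ V i).trans (hVU i)) (f ^ n)
        (res M (inf_le_right : V i ⊓ X.basicOpen f ≤ X.basicOpen f) s) =
        res M (inf_le_left : V i ⊓ X.basicOpen f ≤ V i) u := fun i =>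
    exists_rsmul_pow_eq_res M (hV i) (hVU i) f _
  choose n u hu using h1
  set N := Finset.univ.sup n with hN
  -- common exponent
  let u' : ∀ i, Γ(M, V i) := fun i => rsmul M (hVU i) (f ^ (N - n i)) (u i)
  have hu' : ∀ i, rsmul M ((inf_le_left : V i ⊓ X.basicOpen f ≤ V i).trans (hVU i)) (f ^ N)
        (res M (inf_le_right : V i ⊓ X.basicOpen f ≤ X.basicOpen f) s) =
        res M (inf_le_left : V i ⊓ X.basicOpen f ≤ V i) (u' i) := fun i => by
    rw [rsmul_pow_of_le M _ f (Finset.le_sup (Finset.mem_univ i) : n i ≤ N), hu i]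
    exact (rsmul_res M (hVU i) inf_le_left (f ^ (N - n i)) (u i)).symm
  -- differences on overlaps are killed by a power of `f`
  have h2 : ∀ i j, ∃ a : ℕ, rsmul M ((inf_le_left : V i ⊓ V j ≤ V i).trans (hVU i)) (f ^ a)
      (res M (inf_le_left : V i ⊓ V j ≤ V i) (u' i) -
        res M (inf_le_right : V i ⊓ V j ≤ V j) (u' j)) = 0 := fun i j => by
    have hc : IsCompact ((V i ⊓ V j : X.Opens) : Set X) :=
      hU' _ _ (hVU i) (V i).2 (hV i).isCompact (hVU j) (V j).2 (hV j).isCompact
    have hle : V i ⊓ V j ≤ U := inf_le_left.trans (hVU i)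
    set g := X.presheaf.map (homOfLE hle).op f with hg
    have e0 : X.basicOpen g = (V i ⊓ V j) ⊓ X.basicOpen f := basicOpen_res_eq hle f
    set d := res M (inf_le_left : V i ⊓ V j ≤ V i) (u' i) -
        res M (inf_le_right : V i ⊓ V j ≤ V j) (u' j) with hd
    have hd0 : res M (X.basicOpen_le g) d = 0 := by
      apply res_injective_of_eq M e0.symm
      rw [res_res, map_zero, hd, map_sub, res_res, res_res, sub_eq_zero]
      have hi : (V i ⊓ V j) ⊓ X.basicOpen f ≤ V i ⊓ X.basicOpen f :=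
        inf_le_inf_right _ inf_le_left
      have hj : (V i ⊓ V j) ⊓ X.basicOpen f ≤ V j ⊓ X.basicOpen f :=
        inf_le_inf_right _ inf_le_right
      have ei := congrArg (res M hi) (hu' i)
      have ej := congrArg (res M hj) (hu' j)
      rw [rsmul_res, res_res, res_res] at ei ej
      exact ei.symm.trans ej
    obtain ⟨a, ha⟩ := exists_pow_smul_eq_zero_of_isCompact M hc g d hd0
    refine ⟨a, ?_⟩
    unfold rsmul
    rw [map_pow]
    exact ha
  choose a ha using h2
  set A := Finset.univ.sup (fun i => Finset.univ.sup (a i)) with hA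
  have hA' : ∀ i j, a i j ≤ A := fun i j =>
    (Finset.le_sup (f := a i) (Finset.mem_univ j)).trans
      (Finset.le_sup (f := fun i => Finset.univ.sup (a i)) (Finset.mem_univ i))
  -- glue
  let w : ∀ i, Γ(M, V i) := fun i => rsmul M (hVU i) (f ^ A) (u' i)
  have hw : ∀ i j, res M (inf_le_left : V i ⊓ V j ≤ V i) (w i) =
      res M (inf_le_right : V i ⊓ V j ≤ V j) (w j) := fun i j => by
    rw [← sub_eq_zero]
    have e1 : res M (inf_le_left : V i ⊓ V j ≤ V i) (w i) =
        rsmul M ((inf_le_left : V i ⊓ V j ≤ V i).trans (hVU i)) (f ^ A)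
          (res M inf_le_left (u' i)) := rsmul_res M (hVU i) inf_le_left (f ^ A) (u' i)
    have e2 : res M (inf_le_right : V i ⊓ V j ≤ V j) (w j) =
        rsmul M ((inf_le_left : V i ⊓ V j ≤ V i).trans (hVU i)) (f ^ A)
          (res M inf_le_right (u' j)) := rsmul_res M (hVU j) inf_le_right (f ^ A) (u' j)
    rw [e1, e2, ← rsmul_sub, rsmul_pow_of_le M _ f (hA' i j), ha i j, rsmul_zero]
  obtain ⟨m, hm⟩ := exists_gluing M V U hVU hcov w hw
  refine ⟨A + N, m, ?_⟩
  -- check on the cover `V i ⊓ X.basicOpen f` of `X.basicOpen f`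
  rw [← sub_eq_zero]
  refine eq_zero_of_res_cover_eq_zero M (fun i => V i ⊓ X.basicOpen f) (fun i => inf_le_right)
    (fun x hx => ?_) _ fun i => ?_
  · obtain ⟨i, hi⟩ := Opens.mem_iSup.mp (hcov (X.basicOpen_le f hx))
    exact Opens.mem_iSup.mpr ⟨i, ⟨hi, hx⟩⟩
  · rw [map_sub, sub_eq_zero, res_res,
      ← res_res M (hVU i) (inf_le_left : V i ⊓ X.basicOpen f ≤ V i), hm i]
    have e1 : res M (inf_le_left : V i ⊓ X.basicOpen f ≤ V i) (w i) =
        rsmul M ((inf_le_left : V i ⊓ X.basicOpen f ≤ V i).trans (hVU i)) (f ^ A)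
          (res M inf_le_left (u' i)) := rsmul_res M (hVU i) inf_le_left (f ^ A) (u' i)
    rw [e1, ← hu' i, ← rsmul_pow_add, res_smul]
    unfold rsmul
    rw [map_pow, map_map_apply, map_pow]

/-- The direct image of a quasi-coherent module along a quasi-compact quasi-separated morphism
is quasi-coherent. -/
theorem isQuasicoherent_pushforward_of_qcqs (f : X ⟶ Y) [QuasiCompact f] [QuasiSeparated f]
    (M : X.Modules) [M.IsQuasicoherent] :
    ((Scheme.Modules.pushforward f).obj M).IsQuasicoherent := by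
  refine isQuasicoherent_of_localizing _ (fun V : Y.affineOpens => (V : Y.Opens))
    (isOpenCover_affineOpens Y) (fun V => V.2) ?_ ?_
  · rintro ⟨V, hV⟩ g s
    change ∃ (n : ℕ) (m : Γ(M, f ⁻¹ᵁ V)), _
    have hW : IsCompact ((f ⁻¹ᵁ V : X.Opens) : Set X) :=
      QuasiCompact.isCompact_preimage (f := f) _ V.2 hV.isCompact
    have hW' : IsQuasiSeparated ((f ⁻¹ᵁ V : X.Opens) : Set X) :=
      f.isQuasiSeparated_preimage hV.isQuasiSeparated
    have e : f ⁻¹ᵁ Y.basicOpen g = X.basicOpen (f.app V g) := Scheme.preimage_basicOpen f g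
    obtain ⟨n, m, hm⟩ := exists_pow_smul_eq_res_of_qcqs M hW hW' (f.app V g)
      (res M e.ge (show Γ(M, f ⁻¹ᵁ Y.basicOpen g) from s))
    refine ⟨n, m, ?_⟩
    rw [pushforward_res, pushforward_smul]
    change _ • (show Γ(M, f ⁻¹ᵁ Y.basicOpen g) from s) = res M _ m
    apply res_injective_of_eq M e.symm
    rw [res_smul, res_res, map_pow, app_map_apply, map_pow, map_map_apply]
    exact hm
  · rintro ⟨V, hV⟩ g m hm
    have hW : IsCompact ((f ⁻¹ᵁ V : X.Opens) : Set X) :=
      QuasiCompact.isCompact_preimage (f := f) _ V.2 hV.isCompact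
    have e : f ⁻¹ᵁ Y.basicOpen g = X.basicOpen (f.app V g) := Scheme.preimage_basicOpen f g
    have h0 : res M (X.basicOpen_le (f.app V g)) (show Γ(M, f ⁻¹ᵁ V) from m) = 0 := by
      rw [pushforward_res] at hm
      have h1 : res M (f.preimage_mono (Y.basicOpen_le g)) (show Γ(M, f ⁻¹ᵁ V) from m) = 0 := hm
      rw [← res_res M (f.preimage_mono (Y.basicOpen_le g)) e.ge, h1, map_zero]
    obtain ⟨n, hn⟩ := exists_pow_smul_eq_zero_of_isCompact M hW (f.app V g) _ h0
    refine ⟨n, ?_⟩
    rw [pushforward_smul, map_pow]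
    exact hn

end Groth.Agent.Lib.Helper29.QCoh
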