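import Groth.Agent.Lib.Helper29.QCohBasic
import Mathlib.Topology.Sheaves.Abelian
universe u v v' u'
open CategoryTheory CategoryTheory.Limits

namespace Groth.Agent.Lib.Helper29.QCoh

section
variable {C : Type u'} [Category.{v'} C] {J : GrothendieckTopology C} (R : Sheaf J RingCat.{u})
  [HasSheafify J AddCommGrpCat.{v}] [J.WEqualsLocallyBijective AddCommGrpCat.{v}]

instance toSheaf_preservesEpimorphisms :
    (SheafOfModules.toSheaf.{v} R).PreservesEpimorphisms where
  preserves {M N} φ hφ := by
    let α : R.obj ⟶ R.obj := 𝟙 _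
    let a := PresheafOfModules.sheafification.{v} α
    let G := SheafOfModules.forget.{v} R ⋙ PresheafOfModules.restrictScalars α
    let adj : a ⊣ G := PresheafOfModules.sheafificationAdjunction.{v} α
    let F := SheafOfModules.toSheaf.{v} R
    have hnat : a.map (G.map φ) ≫ adj.counit.app N = adj.counit.app M ≫ φ :=
      adj.counit.naturality φ
    have h1 : Epi (a.map (G.map φ)) := by
      have : a.map (G.map φ) = adj.counit.app M ≫ φ ≫ inv (adj.counit.app N) := by
        rw [← Category.assoc, ← hnat, Category.assoc, IsIso.hom_inv_id, Category.comp_id]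
      rw [this]
      infer_instance
    let e := Abelian.factorThruImage (G.map φ)
    let m := Abelian.image.ι (G.map φ)
    have hem : e ≫ m = G.map φ := Abelian.image.fac _
    have h2 : Mono (a.map m) := inferInstance
    have h3 : Epi (a.map m) := by
      have : a.map e ≫ a.map m = a.map (G.map φ) := by rw [← Functor.map_comp, hem]
      rw [← this] at h1
      exact epi_of_epi (a.map e) (a.map m)
    have h4 : IsIso (a.map m) := isIso_of_mono_of_epi _
    have h5 : Epi (F.map (a.map e)) := by
      change Epi ((presheafToSheaf J AddCommGrpCat).map ((PresheafOfModules.toPresheaf R.obj).map e))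
      infer_instance
    have h6 : Epi (F.map (a.map (G.map φ))) := by
      rw [← hem, Functor.map_comp, Functor.map_comp]
      infer_instance
    have : F.map φ = F.map (inv (adj.counit.app M)) ≫ F.map (a.map (G.map φ)) ≫
        F.map (adj.counit.app N) := by
      rw [← Functor.map_comp, ← Functor.map_comp, hnat, IsIso.inv_hom_id_assoc]
    rw [this]
    infer_instance

instance toSheaf_preservesHomology : (SheafOfModules.toSheaf.{v} R).PreservesHomology :=
  Functor.preservesHomology_of_preservesEpis_and_kernels _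

end

open AlgebraicGeometry

variable {X : Scheme.{u}}

/-- The forgetful functor from `O_X`-modules to sheaves of abelian groups. -/
noncomputable def toSheafAb (X : Scheme.{u}) : X.Modules ⥤ TopCat.Sheaf AddCommGrpCat.{u} X :=
  SheafOfModules.toSheaf X.ringCatSheaf

instance : (toSheafAb X).Additive :=
  inferInstanceAs (SheafOfModules.toSheaf X.ringCatSheaf).Additive
instance : (toSheafAb X).Faithful :=
  inferInstanceAs (SheafOfModules.toSheaf X.ringCatSheaf).Faithful
instance : (toSheafAb X).PreservesHomology :=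
  inferInstanceAs (SheafOfModules.toSheaf X.ringCatSheaf).PreservesHomology
instance : (toSheafAb X).PreservesEpimorphisms :=
  inferInstanceAs (SheafOfModules.toSheaf X.ringCatSheaf).PreservesEpimorphisms
noncomputable instance : PreservesFiniteLimits (toSheafAb X) :=
  inferInstanceAs (PreservesFiniteLimits (SheafOfModules.toSheaf X.ringCatSheaf))

/-- The stalk functor at `x` on `O_X`-modules, valued in abelian groups. -/
noncomputable abbrev stalkFunctor (X : Scheme.{u}) (x : X) : X.Modules ⥤ AddCommGrpCat.{u} :=
  toSheafAb X ⋙ TopCat.Sheaf.forget AddCommGrpCat.{u} X ⋙ TopCat.Presheaf.stalkFunctor AddCommGrpCat.{u} x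

theorem exact_iff_stalk (S : ShortComplex X.Modules) :
    S.Exact ↔ ∀ x : X, (S.map (stalkFunctor X x)).Exact := by
  have h1 : S.Exact ↔ (S.map (toSheafAb X)).Exact :=
    (ShortComplex.exact_map_iff_of_faithful S (toSheafAb X)).symm
  rw [h1]
  exact TopCat.Sheaf.exact_iff_stalkFunctor_map_exact (S.map (toSheafAb X))

theorem stalkFunctor_obj (M : X.Modules) (x : X) :
    (stalkFunctor X x).obj M = M.presheaf.stalk x := rfl

/-- The map on stalks induced by a morphism of `O_X`-modules. -/
noncomputable abbrev stalkMap {M N : X.Modules} (φ : M ⟶ N) (x : X) :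
    M.presheaf.stalk x ⟶ N.presheaf.stalk x :=
  (stalkFunctor X x).map φ

theorem stalkMap_germ {M N : X.Modules} (φ : M ⟶ N) (x : X) (U : X.Opens) (hx : x ∈ U)
    (m : Γ(M, U)) :
    stalkMap φ x (M.presheaf.germ U x hx m) = N.presheaf.germ U x hx (φ.app U m) :=
  TopCat.Presheaf.stalkFunctor_map_germ_apply U x hx φ.mapPresheaf m

theorem epi_iff_stalkMap_surjective {M N : X.Modules} (φ : M ⟶ N) :
    Epi φ ↔ ∀ x : X, Function.Surjective (stalkMap φ x) := by
  have h0 : φ ≫ (0 : N ⟶ N) = 0 := comp_zero
  rw [← (ShortComplex.mk φ (0 : N ⟶ N) h0).exact_iff_epi rfl, exact_iff_stalk]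
  refine forall_congr' fun x => ?_
  rw [((ShortComplex.mk φ (0 : N ⟶ N) h0).map (stalkFunctor X x)).exact_iff_epi
    ((stalkFunctor X x).map_zero _ _), AddCommGrpCat.epi_iff_surjective]
  rfl

theorem mono_iff_stalkMap_injective {M N : X.Modules} (φ : M ⟶ N) :
    Mono φ ↔ ∀ x : X, Function.Injective (stalkMap φ x) := by
  have h0 : (0 : M ⟶ M) ≫ φ = 0 := zero_comp
  rw [← (ShortComplex.mk (0 : M ⟶ M) φ h0).exact_iff_mono rfl, exact_iff_stalk]
  refine forall_congr' fun x => ?_
  rw [((ShortComplex.mk (0 : M ⟶ M) φ h0).map (stalkFunctor X x)).exact_iff_mono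
    ((stalkFunctor X x).map_zero _ _), AddCommGrpCat.mono_iff_injective]
  rfl

theorem exact_iff_stalk_function_exact (S : ShortComplex X.Modules) :
    S.Exact ↔ ∀ x : X, Function.Exact (stalkMap S.f x) (stalkMap S.g x) := by
  rw [exact_iff_stalk]
  exact forall_congr' fun x => (S.map (stalkFunctor X x)).ab_exact_iff_function_exact

theorem isZero_iff_stalk_subsingleton (M : X.Modules) :
    IsZero M ↔ ∀ x : X, Subsingleton (M.presheaf.stalk x) := by
  have h1 : IsZero M ↔ IsZero ((toSheafAb X).obj M) := by
    rw [IsZero.iff_id_eq_zero, IsZero.iff_id_eq_zero, ← (toSheafAb X).map_id M]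
    constructor
    · intro h; rw [h, Functor.map_zero]
    · intro h
      apply (toSheafAb X).map_injective
      rw [h, Functor.map_zero]
  rw [h1, TopCat.Sheaf.isZero_iff_stalkFunctor_obj_isZero]
  exact forall_congr' fun x => AddCommGrpCat.isZero_iff_subsingleton

theorem stalkMap_smul {M N : X.Modules} (φ : M ⟶ N) (x : X) (r : X.presheaf.stalk x)
    (t : M.presheaf.stalk x) : stalkMap φ x (r • t) = r • stalkMap φ x t := by
  obtain ⟨U, hxU, s, rfl⟩ := M.presheaf.exists_germ_eq t
  obtain ⟨V, hxV, a, rfl⟩ := X.presheaf.exists_germ_eq r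
  have hxW : x ∈ U ⊓ V := ⟨hxU, hxV⟩
  have e1 : M.presheaf.germ U x hxU s = M.presheaf.germ (U ⊓ V) x hxW
      (M.presheaf.map (homOfLE inf_le_left).op s) :=
    (M.presheaf.germ_res_apply (homOfLE inf_le_left) x hxW s).symm
  have e2 : X.presheaf.germ V x hxV a = X.presheaf.germ (U ⊓ V) x hxW
      (X.presheaf.map (homOfLE inf_le_right).op a) :=
    (X.presheaf.germ_res_apply (homOfLE inf_le_right) x hxW a).symm
  rw [e1, e2, ← germ_smul, stalkMap_germ, stalkMap_germ, Scheme.Modules.Hom.app_smul, germ_smul]

open Opposite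


/-- Sections over `U`, as a functor from `O_X`-modules to abelian groups. -/
noncomputable abbrev sectionsFunctor (X : Scheme.{u}) (U : X.Opens) : X.Modules ⥤ AddCommGrpCat.{u} :=
  Scheme.Modules.toPresheaf X ⋙ (evaluation _ _).obj (op U)

noncomputable instance (U : X.Opens) : PreservesFiniteLimits (sectionsFunctor X U) := by
  have : PreservesLimits (Scheme.Modules.toPresheaf X) := inferInstance
  have : PreservesFiniteLimits (Scheme.Modules.toPresheaf X) := ⟨fun _ _ _ => inferInstance⟩
  have : PreservesFiniteLimits ((evaluation (TopologicalSpace.Opens X)ᵒᵖ AddCommGrpCat.{u}).obj (op U)) :=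
    ⟨fun _ _ _ => inferInstance⟩
  exact comp_preservesFiniteLimits _ _

instance (U : X.Opens) : (sectionsFunctor X U).Additive where
  map_add := rfl

theorem sectionsFunctor_map {M N : X.Modules} (φ : M ⟶ N) (U : X.Opens) :
    (sectionsFunctor X U).map φ = φ.app U := rfl

/-- Sections are left exact. -/
theorem app_exact_of_exact_of_mono (S : ShortComplex X.Modules) (hS : S.Exact) [Mono S.f]
    (U : X.Opens) : Function.Exact (S.f.app U) (S.g.app U) := by
  have h31 := (Functor.preservesFiniteLimits_tfae (sectionsFunctor X U)).out 3 1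
  have hpf : PreservesFiniteLimits (sectionsFunctor X U) := inferInstance
  have := h31.mp hpf S ⟨hS, inferInstance⟩
  exact (S.map (sectionsFunctor X U)).ab_exact_iff_function_exact.mp this.1

theorem mono_iff_app_injective {M N : X.Modules} (φ : M ⟶ N) :
    Mono φ ↔ ∀ U : X.Opens, Function.Injective (φ.app U) := by
  rw [mono_iff_stalkMap_injective]
  exact TopCat.Presheaf.app_injective_iff_stalkFunctor_map_injective
    (F := (toSheafAb X).obj M) (G := N.presheaf) φ.mapPresheaf

theorem isIso_iff_stalkMap_bijective {M N : X.Modules} (φ : M ⟶ N) :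
    IsIso φ ↔ ∀ x : X, Function.Bijective (stalkMap φ x) := by
  have h1 : IsIso φ ↔ IsIso ((toSheafAb X).map φ) := by
    constructor
    · intro h; infer_instance
    · intro h
      have : (toSheafAb X).ReflectsIsomorphisms :=
        inferInstanceAs (SheafOfModules.toSheaf X.ringCatSheaf).ReflectsIsomorphisms
      exact isIso_of_reflects_iso φ (toSheafAb X)
  rw [h1, TopCat.Presheaf.isIso_iff_stalkFunctor_map_iso]
  refine forall_congr' fun x => ?_
  rw [← ConcreteCategory.isIso_iff_bijective]
  rfl

theorem section_ext (M : X.Modules) {U : X.Opens} (s t : Γ(M, U))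
    (h : ∀ (x : X) (hx : x ∈ U), M.presheaf.germ U x hx s = M.presheaf.germ U x hx t) : s = t :=
  TopCat.Presheaf.section_ext ((toSheafAb X).obj M) U s t h

theorem eq_zero_of_germ_eq_zero (M : X.Modules) {U : X.Opens} (s : Γ(M, U))
    (h : ∀ (x : X) (hx : x ∈ U), M.presheaf.germ U x hx s = 0) : s = 0 :=
  section_ext M s 0 fun x hx => by rw [h x hx, map_zero]

end Groth.Agent.Lib.Helper29.QCoh
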