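import Groth.Agent.Lib.Helper29.QCohPullback
import Groth.Prelude.Def_FlatMod2
import Groth.Prelude.Def_Pic
import Mathlib.Algebra.Category.ModuleCat.Sheaf.PullbackFree
universe u
open CategoryTheory CategoryTheory.Limits AlgebraicGeometry Opposite TopologicalSpace
open scoped TensorProduct

/-! # Finite locally free modules: dictionary

`FlatMod.IsFinLocFree`, `FlatMod.IsFinLocFreeOfRank`, `PicF.IsInvertible` in terms of open
immersions along which the module becomes free, stability under inverse image, and the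
affine-local normal form (sections over small affine opens form a free module). -/

namespace Groth.Agent.Lib.Helper29.QCoh

open Scheme.Modules

instance opensMap_final {X Y : TopCat.{u}} (g : X ⟶ Y) : (Opens.map g).Final := by
  constructor
  intro U
  let T : StructuredArrow U (Opens.map g) := StructuredArrow.mk (Y := ⊤) (homOfLE le_top)
  have : Nonempty (StructuredArrow U (Opens.map g)) := ⟨T⟩
  refine zigzag_isConnected (fun A B => ?_)
  have hA : A ⟶ T := StructuredArrow.homMk (homOfLE le_top) (Subsingleton.elim _ _)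
  have hB : B ⟶ T := StructuredArrow.homMk (homOfLE le_top) (Subsingleton.elim _ _)
  exact (Zigzag.of_hom hA).trans (Zigzag.of_inv hB)

variable {X Y : Scheme.{u}} (f : X ⟶ Y)

/-- The prelude's `freeMod X n` is the free module on `ULift (Fin n)`. -/
noncomputable def freeModIso (X : Scheme.{u}) (n : ℕ) :
    FlatMod.freeMod X n ≅ freeM X (ULift.{u} (Fin n)) :=
  Sigma.whiskerEquiv (f := fun _ : Fin n => Coh.structureModule X)
    (g := fun _ : ULift.{u} (Fin n) => SheafOfModules.unit X.ringCatSheaf)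
    Equiv.ulift.symm (fun _ => Iso.refl _)

/-- Inverse image of the structure sheaf. -/
noncomputable def pullbackUnitIso : (Scheme.Modules.pullback f).obj (unitM Y) ≅ unitM X :=
  letI e : (SheafOfModules.pullback (Scheme.Hom.toRingCatSheafHom f)).obj
      (SheafOfModules.unit Y.ringCatSheaf) ≅ SheafOfModules.unit X.ringCatSheaf :=
    asIso (SheafOfModules.pullbackObjUnitToUnit (Scheme.Hom.toRingCatSheafHom f))
  e

/-- Inverse image of a free module. -/
noncomputable def pullbackFreeIso (I : Type u) :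
    (Scheme.Modules.pullback f).obj (freeM Y I) ≅ freeM X I :=
  SheafOfModules.pullbackObjFreeIso _ I

/-- Inverse image of `freeMod`. -/
noncomputable def pullbackFreeModIso (n : ℕ) :
    (Scheme.Modules.pullback f).obj (FlatMod.freeMod Y n) ≅ FlatMod.freeMod X n :=
  (Scheme.Modules.pullback f).mapIso (freeModIso Y n) ≪≫ pullbackFreeIso f _ ≪≫
    (freeModIso X n).symm

/-- `freeMod X 1` is the structure sheaf. -/
noncomputable def freeModOneIso (X : Scheme.{u}) : FlatMod.freeMod X 1 ≅ unitM X :=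
  (Sigma.whiskerEquiv (f := fun _ : Fin 1 => Coh.structureModule X)
    (g := fun _ : PUnit.{1} => Coh.structureModule X)
    (Equiv.equivPUnit (Fin 1)) (fun _ => Iso.refl _)) ≪≫
    (coproductUniqueIso (fun _ : PUnit.{1} => Coh.structureModule X))

/-- Base change of inverse images along a commutative square. -/
noncomputable def pullbackSquareIso {X' Y' : Scheme.{u}} {f : X ⟶ Y} {g : Y' ⟶ Y} {f' : X' ⟶ Y'}
    {g' : X' ⟶ X} (h : g' ≫ f = f' ≫ g) (F : Y.Modules) :
    (Scheme.Modules.pullback g').obj ((Scheme.Modules.pullback f).obj F) ≅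
      (Scheme.Modules.pullback f').obj ((Scheme.Modules.pullback g).obj F) :=
  (pullbackComp g' f).app F ≪≫ (pullbackCongr h).app F ≪≫ (pullbackComp f' g).symm.app F

/-- `M` becomes free of rank `n` after inverse image along `j` (meant for open immersions). -/
def IsFreeAlong {Z : Scheme.{u}} (M : X.Modules) (j : Z ⟶ X) (n : ℕ) : Prop :=
  Nonempty ((Scheme.Modules.pullback j).obj M ≅ FlatMod.freeMod Z n)

theorem IsFreeAlong.comp {Z Z' : Scheme.{u}} {M : X.Modules} {j : Z ⟶ X} {n : ℕ}
    (h : IsFreeAlong M j n) (k : Z' ⟶ Z) : IsFreeAlong M (k ≫ j) n := by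
  obtain ⟨e⟩ := h
  exact ⟨(pullbackComp k j).symm.app M ≪≫ (Scheme.Modules.pullback k).mapIso e ≪≫
    pullbackFreeModIso k n⟩

theorem IsFreeAlong.of_eq {Z : Scheme.{u}} {M : X.Modules} {j j' : Z ⟶ X} {n : ℕ}
    (h : IsFreeAlong M j n) (e : j = j') : IsFreeAlong M j' n := e ▸ h

theorem IsFreeAlong.of_range_subset {Z Z' : Scheme.{u}} {M : X.Modules} {j : Z ⟶ X}
    [IsOpenImmersion j] {n : ℕ} (h : IsFreeAlong M j n) (j' : Z' ⟶ X)
    (hr : Set.range j'.base ⊆ Set.range j.base) : IsFreeAlong M j' n :=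
  (h.comp (IsOpenImmersion.lift j j' hr)).of_eq (IsOpenImmersion.lift_fac j j' hr)

theorem IsFreeAlong.of_iso {Z : Scheme.{u}} {M N : X.Modules} {j : Z ⟶ X} {n : ℕ}
    (h : IsFreeAlong M j n) (e : M ≅ N) : IsFreeAlong N j n := by
  obtain ⟨e'⟩ := h
  exact ⟨(Scheme.Modules.pullback j).mapIso e.symm ≪≫ e'⟩

theorem isFreeAlong_iff_restrict {Z : Scheme.{u}} (M : X.Modules) (j : Z ⟶ X) [IsOpenImmersion j]
    (n : ℕ) : IsFreeAlong M j n ↔ Nonempty (M.restrict j ≅ FlatMod.freeMod Z n) :=
  ⟨fun ⟨e⟩ => ⟨(restrictFunctorIsoPullback j).app M ≪≫ e⟩,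
    fun ⟨e⟩ => ⟨(restrictFunctorIsoPullback j).symm.app M ≪≫ e⟩⟩

/-- Inverse images of modules free along `j` are free along the base change. -/
theorem IsFreeAlong.pullback {X' Z Z' : Scheme.{u}} {M : X.Modules} {j : Z ⟶ X} {n : ℕ}
    (h : IsFreeAlong M j n) (f : X' ⟶ X) (j' : Z' ⟶ X') (f' : Z' ⟶ Z) (hc : j' ≫ f = f' ≫ j) :
    IsFreeAlong ((Scheme.Modules.pullback f).obj M) j' n := by
  obtain ⟨e⟩ := h
  exact ⟨pullbackSquareIso hc M ≪≫ (Scheme.Modules.pullback f').mapIso e ≪≫
    pullbackFreeModIso f' n⟩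

theorem isFinLocFree_iff_isFreeAlong (M : X.Modules) :
    FlatMod.IsFinLocFree M ↔ ∀ x : X, ∃ (U : X.Opens) (n : ℕ), x ∈ U ∧ IsFreeAlong M U.ι n := by
  refine forall_congr' fun x => ?_
  refine exists_congr fun U => exists_congr fun n => and_congr_right fun _ => ?_
  exact (isFreeAlong_iff_restrict M U.ι n).symm

theorem isFinLocFreeOfRank_iff_isFreeAlong (n : ℕ) (M : X.Modules) :
    FlatMod.IsFinLocFreeOfRank n M ↔ ∀ x : X, ∃ (U : X.Opens), x ∈ U ∧ IsFreeAlong M U.ι n := by
  refine forall_congr' fun x => ?_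
  refine exists_congr fun U => and_congr_right fun _ => ?_
  exact (isFreeAlong_iff_restrict M U.ι n).symm

/-- A more flexible form: freeness along arbitrary open immersions. -/
theorem isFinLocFree_of_isFreeAlong (M : X.Modules)
    (h : ∀ x : X, ∃ (Z : Scheme.{u}) (j : Z ⟶ X) (_ : IsOpenImmersion j) (n : ℕ),
      x ∈ Set.range j.base ∧ IsFreeAlong M j n) : FlatMod.IsFinLocFree M := by
  rw [isFinLocFree_iff_isFreeAlong]
  intro x
  obtain ⟨Z, j, hj, n, hx, hfree⟩ := h x
  refine ⟨j.opensRange, n, hx, hfree.of_range_subset _ ?_⟩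
  rw [Scheme.Opens.range_ι]
  rfl

theorem isFinLocFreeOfRank_of_isFreeAlong (n : ℕ) (M : X.Modules)
    (h : ∀ x : X, ∃ (Z : Scheme.{u}) (j : Z ⟶ X) (_ : IsOpenImmersion j),
      x ∈ Set.range j.base ∧ IsFreeAlong M j n) : FlatMod.IsFinLocFreeOfRank n M := by
  rw [isFinLocFreeOfRank_iff_isFreeAlong]
  intro x
  obtain ⟨Z, j, hj, hx, hfree⟩ := h x
  refine ⟨j.opensRange, hx, hfree.of_range_subset _ ?_⟩
  rw [Scheme.Opens.range_ι]
  rfl

theorem isFinLocFree_of_isFinLocFreeOfRank {n : ℕ} {M : X.Modules}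
    (h : FlatMod.IsFinLocFreeOfRank n M) : FlatMod.IsFinLocFree M := fun x => by
  obtain ⟨U, hx, e⟩ := h x
  exact ⟨U, n, hx, e⟩

theorem isInvertible_iff_isFinLocFreeOfRank_one (M : X.Modules) :
    PicF.IsInvertible M ↔ FlatMod.IsFinLocFreeOfRank 1 M := by
  refine forall_congr' fun x => exists_congr fun U => and_congr_right fun _ => ?_
  exact ⟨fun ⟨e⟩ => ⟨e ≪≫ (freeModOneIso _).symm⟩, fun ⟨e⟩ => ⟨e ≪≫ freeModOneIso _⟩⟩

/-- Inverse images of finite locally free modules are finite locally free. -/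
theorem isFinLocFree_pullback {X' : Scheme.{u}} (f : X' ⟶ X) {M : X.Modules}
    (h : FlatMod.IsFinLocFree M) : FlatMod.IsFinLocFree ((Scheme.Modules.pullback f).obj M) := by
  rw [isFinLocFree_iff_isFreeAlong] at h ⊢
  intro x'
  obtain ⟨U, n, hx, hfree⟩ := h (f.base x')
  exact ⟨f ⁻¹ᵁ U, n, hx, hfree.pullback f _ (f ∣_ U) (morphismRestrict_ι f U).symm⟩

theorem isFinLocFreeOfRank_pullback {X' : Scheme.{u}} (f : X' ⟶ X) {n : ℕ} {M : X.Modules}
    (h : FlatMod.IsFinLocFreeOfRank n M) :
    FlatMod.IsFinLocFreeOfRank n ((Scheme.Modules.pullback f).obj M) := by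
  rw [isFinLocFreeOfRank_iff_isFreeAlong] at h ⊢
  intro x'
  obtain ⟨U, hx, hfree⟩ := h (f.base x')
  exact ⟨f ⁻¹ᵁ U, hx, hfree.pullback f _ (f ∣_ U) (morphismRestrict_ι f U).symm⟩

theorem isInvertible_pullback {X' : Scheme.{u}} (f : X' ⟶ X) {M : X.Modules}
    (h : PicF.IsInvertible M) : PicF.IsInvertible ((Scheme.Modules.pullback f).obj M) := by
  rw [isInvertible_iff_isFinLocFreeOfRank_one] at h ⊢
  exact isFinLocFreeOfRank_pullback f h

theorem isFinLocFree_of_iso {M N : X.Modules} (e : M ≅ N) (h : FlatMod.IsFinLocFree M) :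
    FlatMod.IsFinLocFree N := by
  rw [isFinLocFree_iff_isFreeAlong] at h ⊢
  intro x
  obtain ⟨U, n, hx, hfree⟩ := h x
  exact ⟨U, n, hx, hfree.of_iso e⟩

theorem isFinLocFree_freeMod (X : Scheme.{u}) (n : ℕ) : FlatMod.IsFinLocFree (FlatMod.freeMod X n) := by
  rw [isFinLocFree_iff_isFreeAlong]
  intro x
  exact ⟨⊤, n, trivial, ⟨pullbackFreeModIso _ n⟩⟩


/-- On `Spec R`, a module is free of rank `n` as soon as its module of global sections is. -/
theorem nonempty_iso_freeMod_spec {R : CommRingCat.{u}} (N : (Spec R).Modules) [N.IsQuasicoherent]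
    (n : ℕ) (e : (moduleSpecΓFunctor.obj N) ≃ₗ[R] (Fin n →₀ R)) :
    Nonempty (N ≅ FlatMod.freeMod (Spec R) n) := by
  let e' : moduleSpecΓFunctor.obj N ≅ ModuleCat.of R (ULift.{u} (Fin n) →₀ R) :=
    (e ≪≫ₗ (Finsupp.domLCongr Equiv.ulift.symm)).toModuleIso
  exact ⟨(asIso (fromTildeΓ N)).symm ≪≫ (tilde.functor R).mapIso e' ≪≫ tildeFinsupp _ ≪≫
    (freeModIso _ n).symm⟩

/-- Conversely, global sections of a free module on `Spec R`. -/
theorem nonempty_linearEquiv_of_iso_freeMod_spec {R : CommRingCat.{u}} (N : (Spec R).Modules)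
    (n : ℕ) (e : N ≅ FlatMod.freeMod (Spec R) n) :
    Nonempty ((moduleSpecΓFunctor.obj N) ≃ₗ[R] (Fin n →₀ R)) := by
  let e1 : moduleSpecΓFunctor.obj N ≅ ModuleCat.of R (ULift.{u} (Fin n) →₀ R) :=
    moduleSpecΓFunctor.mapIso (e ≪≫ freeModIso _ n ≪≫ (tildeFinsupp _).symm) ≪≫
      (tilde.isoTop _).symm
  exact ⟨e1.toLinearEquiv ≪≫ₗ Finsupp.domLCongr Equiv.ulift⟩

theorem nonempty_linearEquiv_of_isFreeAlong_fromSpec (M : X.Modules) {V : X.Opens}
    (hV : IsAffineOpen V) (n : ℕ) (h : IsFreeAlong M hV.fromSpec n) :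
    Nonempty (Γ(M, V) ≃ₗ[Γ(X, V)] (Fin n →₀ Γ(X, V))) := by
  rw [isFreeAlong_iff_restrict] at h
  obtain ⟨e⟩ := h
  obtain ⟨e'⟩ := nonempty_linearEquiv_of_iso_freeMod_spec _ n e
  exact ⟨sectionsRestrictFromSpecEquiv M hV ≪≫ₗ e'⟩

theorem isFreeAlong_fromSpec_iff (M : X.Modules) [M.IsQuasicoherent] {V : X.Opens}
    (hV : IsAffineOpen V) (n : ℕ) :
    IsFreeAlong M hV.fromSpec n ↔ Nonempty (Γ(M, V) ≃ₗ[Γ(X, V)] (Fin n →₀ Γ(X, V))) := by
  refine ⟨nonempty_linearEquiv_of_isFreeAlong_fromSpec M hV n, ?_⟩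
  rw [isFreeAlong_iff_restrict]
  rintro ⟨e⟩
  exact nonempty_iso_freeMod_spec _ n ((sectionsRestrictFromSpecEquiv M hV).symm ≪≫ₗ e)

/-- A finite locally free module has free modules of sections over small affine opens. -/
theorem exists_affine_linearEquiv_of_isFinLocFree {M : X.Modules} (h : FlatMod.IsFinLocFree M)
    (x : X) : ∃ (V : X.Opens) (n : ℕ), IsAffineOpen V ∧ x ∈ V ∧
      Nonempty (Γ(M, V) ≃ₗ[Γ(X, V)] (Fin n →₀ Γ(X, V))) := by
  rw [isFinLocFree_iff_isFreeAlong] at h
  obtain ⟨U, n, hx, hfree⟩ := h x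
  obtain ⟨V, hV, hxV, hVU⟩ := exists_isAffineOpen_mem_and_subset (x := x) (U := U) hx
  refine ⟨V, n, hV, hxV, nonempty_linearEquiv_of_isFreeAlong_fromSpec M hV n
    (hfree.of_range_subset _ ?_)⟩
  rw [hV.range_fromSpec, Scheme.Opens.range_ι]
  exact hVU

theorem exists_affine_linearEquiv_of_isFinLocFreeOfRank {n : ℕ} {M : X.Modules}
    (h : FlatMod.IsFinLocFreeOfRank n M)
    (x : X) : ∃ (V : X.Opens), IsAffineOpen V ∧ x ∈ V ∧
      Nonempty (Γ(M, V) ≃ₗ[Γ(X, V)] (Fin n →₀ Γ(X, V))) := by
  rw [isFinLocFreeOfRank_iff_isFreeAlong] at h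
  obtain ⟨U, hx, hfree⟩ := h x
  obtain ⟨V, hV, hxV, hVU⟩ := exists_isAffineOpen_mem_and_subset (x := x) (U := U) hx
  refine ⟨V, hV, hxV, nonempty_linearEquiv_of_isFreeAlong_fromSpec M hV n
    (hfree.of_range_subset _ ?_)⟩
  rw [hV.range_fromSpec, Scheme.Opens.range_ι]
  exact hVU

/-- Finite locally free modules are quasi-coherent. -/
theorem isQuasicoherent_of_isFinLocFree {M : X.Modules} (h : FlatMod.IsFinLocFree M) :
    M.IsQuasicoherent := by
  rw [isFinLocFree_iff_isFreeAlong] at h
  have h' : ∀ x : X, ∃ (V : X.affineOpens), x ∈ V.1 ∧ ∃ n : ℕ, IsFreeAlong M V.2.fromSpec n := by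
    intro x
    obtain ⟨U, n, hx, hfree⟩ := h x
    obtain ⟨V, hV, hxV, hVU⟩ := exists_isAffineOpen_mem_and_subset (x := x) (U := U) hx
    refine ⟨⟨V, hV⟩, hxV, n, hfree.of_range_subset _ ?_⟩
    rw [hV.range_fromSpec, Scheme.Opens.range_ι]
    exact hVU
  let ι := {V : X.affineOpens // ∃ n : ℕ, IsFreeAlong M V.2.fromSpec n}
  refine isQuasicoherent_of_restrict_spec M (ι := ι) (fun V => Γ(X, V.1.1))
    (fun V => V.1.2.fromSpec) (fun x => ?_) (fun V => ?_)
  · obtain ⟨V, hxV, hn⟩ := h' x
    refine ⟨⟨V, hn⟩, ?_⟩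
    rw [V.2.range_fromSpec]
    exact hxV
  · obtain ⟨n, hn⟩ := V.2
    rw [isFreeAlong_iff_restrict] at hn
    obtain ⟨e⟩ := hn
    have : (freeM (Spec Γ(X, V.1.1)) (ULift.{u} (Fin n))).IsQuasicoherent :=
      isQuasicoherent_of_iso (tildeFinsupp (R := Γ(X, V.1.1)) (ULift.{u} (Fin n)))
    exact isQuasicoherent_of_iso (e ≪≫ freeModIso _ n).symm

/-- Normal form: a quasi-coherent module is finite locally free iff around every point there is
an affine open over which its module of sections is free of finite rank. -/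
theorem isFinLocFree_iff_exists_affine (M : X.Modules) [M.IsQuasicoherent] :
    FlatMod.IsFinLocFree M ↔ ∀ x : X, ∃ (V : X.Opens) (n : ℕ), IsAffineOpen V ∧ x ∈ V ∧
      Nonempty (Γ(M, V) ≃ₗ[Γ(X, V)] (Fin n →₀ Γ(X, V))) := by
  refine ⟨exists_affine_linearEquiv_of_isFinLocFree, fun h => ?_⟩
  refine isFinLocFree_of_isFreeAlong M fun x => ?_
  obtain ⟨V, n, hV, hxV, he⟩ := h x
  refine ⟨_, hV.fromSpec, inferInstance, n, ?_, (isFreeAlong_fromSpec_iff M hV n).mpr he⟩
  rw [hV.range_fromSpec]
  exact hxV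

theorem isFinLocFreeOfRank_iff_exists_affine (n : ℕ) (M : X.Modules) [M.IsQuasicoherent] :
    FlatMod.IsFinLocFreeOfRank n M ↔ ∀ x : X, ∃ (V : X.Opens), IsAffineOpen V ∧ x ∈ V ∧
      Nonempty (Γ(M, V) ≃ₗ[Γ(X, V)] (Fin n →₀ Γ(X, V))) := by
  refine ⟨exists_affine_linearEquiv_of_isFinLocFreeOfRank, fun h => ?_⟩
  refine isFinLocFreeOfRank_of_isFreeAlong n M fun x => ?_
  obtain ⟨V, hV, hxV, he⟩ := h x
  refine ⟨_, hV.fromSpec, inferInstance, ?_, (isFreeAlong_fromSpec_iff M hV n).mpr he⟩
  rw [hV.range_fromSpec]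
  exact hxV



/-- Freeness of the standard localization transfers to any other model of the localization. -/
theorem free_of_free_localizedModule {R : Type*} [CommRing R] (S : Submonoid R)
    {A : Type*} [CommRing A] [Algebra R A] [IsLocalization S A]
    {N N' : Type*} [AddCommGroup N] [Module R N] [AddCommGroup N'] [Module R N'] [Module A N']
    [IsScalarTower R A N'] (g : N →ₗ[R] N') [IsLocalizedModule S g]
    [h : Module.Free (Localization S) (LocalizedModule S N)] : Module.Free A N' := by
  let e : Localization S ≃ₐ[R] A := IsLocalization.algEquiv S (Localization S) A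
  let _ : Algebra (Localization S) A := e.toAlgHom.toRingHom.toAlgebra
  have : IsScalarTower R (Localization S) A := IsScalarTower.of_algebraMap_eq' (by
    ext r
    change algebraMap R A r = e (algebraMap R (Localization S) r)
    rw [AlgEquiv.commutes])
  let b := Module.Free.chooseBasis (Localization S) (LocalizedModule S N)
  let b1 := b.map (LocalizedModule.isBaseChange S N).equiv.symm
  let b2 := Algebra.TensorProduct.basis A b1
  let b3 := b2.map (TensorProduct.AlgebraTensorModule.cancelBaseChange R (Localization S) A A N)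
  exact Module.Free.of_basis (b3.map (IsLocalizedModule.isBaseChange S A g).equiv)

theorem exists_linearEquiv_finsupp_of_free_of_finite (R N : Type*) [CommRing R] [Nontrivial R]
    [AddCommGroup N] [Module R N] [Module.Free R N] [Module.Finite R N] :
    ∃ n : ℕ, Nonempty (N ≃ₗ[R] (Fin n →₀ R)) :=
  ⟨_, ⟨(Module.finBasis R N).repr⟩⟩

theorem nontrivial_sections_of_mem {U : X.Opens} {x : X} (hx : x ∈ U) : Nontrivial Γ(X, U) :=
  (X.presheaf.germ U x hx).hom.domain_nontrivial

/-- The stalks of a quasi-coherent module with free sections over an affine open are free. -/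
theorem free_stalk_of_free_sections (M : X.Modules) [M.IsQuasicoherent] {V : X.Opens}
    (hV : IsAffineOpen V) (x : X) (hx : x ∈ V) [Module.Free Γ(X, V) Γ(M, V)] :
    Module.Free (X.presheaf.stalk x) (M.presheaf.stalk x) := by
  let _ := stalkModule M V x hx
  let _ : Algebra Γ(X, V) (X.presheaf.stalk x) :=
    TopCat.Presheaf.algebra_section_stalk X.presheaf ⟨x, hx⟩
  have hloc := hV.isLocalization_stalk ⟨x, hx⟩
  have : IsScalarTower Γ(X, V) (X.presheaf.stalk x) (M.presheaf.stalk x) :=
    IsScalarTower.of_algebraMap_smul fun a m => rfl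
  have := isLocalizedModule_germ M hV x hx
  exact Module.free_of_isLocalizedModule (hV.primeIdealOf ⟨x, hx⟩).asIdeal.primeCompl
    (germₗ M V x hx)

/-- If the stalk at `x` of a finitely presented module is free, the module has free sections
over a basic open neighbourhood of `x` inside any given affine open neighbourhood. -/
theorem exists_basicOpen_free_sections (M : X.Modules) [M.IsFinitePresentation]
    [M.IsQuasicoherent] {V : X.Opens}
    (hV : IsAffineOpen V) (x : X) (hx : x ∈ V)
    [hfree : Module.Free (X.presheaf.stalk x) (M.presheaf.stalk x)] :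
    ∃ r : Γ(X, V), x ∈ X.basicOpen r ∧ Module.Free Γ(X, X.basicOpen r) Γ(M, X.basicOpen r) ∧
      Module.Finite Γ(X, X.basicOpen r) Γ(M, X.basicOpen r) := by
  let _ := stalkModule M V x hx
  let _ : Algebra Γ(X, V) (X.presheaf.stalk x) :=
    TopCat.Presheaf.algebra_section_stalk X.presheaf ⟨x, hx⟩
  have hloc := hV.isLocalization_stalk ⟨x, hx⟩
  have : IsScalarTower Γ(X, V) (X.presheaf.stalk x) (M.presheaf.stalk x) :=
    IsScalarTower.of_algebraMap_smul fun a m => rfl
  have := isLocalizedModule_germ M hV x hx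
  have hfp : Module.FinitePresentation Γ(X, V) Γ(M, V) :=
    module_finitePresentation_of_isFinitePresentation M hV
  obtain ⟨r, hr, hfr, -⟩ := Module.FinitePresentation.exists_free_localizedModule_powers
    (hV.primeIdealOf ⟨x, hx⟩).asIdeal.primeCompl (germₗ M V x hx) (X.presheaf.stalk x)
  refine ⟨r, (mem_basicOpen_iff_notMem_primeIdealOf hV x hx r).mpr hr, ?_, ?_⟩
  · let _ : Algebra Γ(X, V) Γ(X, X.basicOpen r) :=
      (X.presheaf.map (homOfLE (X.basicOpen_le r)).op).hom.toAlgebra
    let _ : Module Γ(X, V) Γ(M, X.basicOpen r) := sectionsModule M (X.basicOpen_le r)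
    have : IsLocalization.Away r Γ(X, X.basicOpen r) := hV.isLocalization_basicOpen r
    have : IsScalarTower Γ(X, V) Γ(X, X.basicOpen r) Γ(M, X.basicOpen r) :=
      IsScalarTower.of_algebraMap_smul fun a m => rfl
    have := isLocalizedModule_res_basicOpen M hV r
    exact free_of_free_localizedModule (Submonoid.powers r) (resₗ M (X.basicOpen_le r))
  · have : Module.FinitePresentation Γ(X, X.basicOpen r) Γ(M, X.basicOpen r) :=
      module_finitePresentation_of_isFinitePresentation M (hV.basicOpen r)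
    infer_instance


/-- Finite locally free modules are finitely presented. -/
theorem isFinitePresentation_of_isFinLocFree {M : X.Modules} (h : FlatMod.IsFinLocFree M) :
    M.IsFinitePresentation := by
  have := isQuasicoherent_of_isFinLocFree h
  choose V n hV hxV he using exists_affine_linearEquiv_of_isFinLocFree h
  refine isFinitePresentation_of_module_finitePresentation M V ?_ hV (fun x => ?_)
  · rw [IsOpenCover, eq_top_iff]
    intro x _
    exact Opens.mem_iSup.mpr ⟨x, hxV x⟩
  · obtain ⟨e⟩ := he x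
    have : Module.FinitePresentation Γ(X, V x) (Fin (n x) →₀ Γ(X, V x)) :=
      Module.finitePresentation_of_projective _ _
    exact Module.FinitePresentation.of_equiv e.symm

/-- The stalks of a finite locally free module are free. -/
theorem free_stalk_of_isFinLocFree {M : X.Modules} (h : FlatMod.IsFinLocFree M) (x : X) :
    Module.Free (X.presheaf.stalk x) (M.presheaf.stalk x) := by
  have := isQuasicoherent_of_isFinLocFree h
  obtain ⟨V, n, hV, hxV, ⟨e⟩⟩ := exists_affine_linearEquiv_of_isFinLocFree h x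
  have : Module.Free Γ(X, V) Γ(M, V) := Module.Free.of_equiv e.symm
  exact free_stalk_of_free_sections M hV x hxV

/-- Local freeness at a point: a finitely presented module with free stalk at `x` is free over
an affine open neighbourhood of `x`. -/
theorem exists_affine_linearEquiv_of_free_stalk (M : X.Modules) [M.IsFinitePresentation] (x : X)
    [Module.Free (X.presheaf.stalk x) (M.presheaf.stalk x)] :
    ∃ (V : X.Opens) (n : ℕ), IsAffineOpen V ∧ x ∈ V ∧
      Nonempty (Γ(M, V) ≃ₗ[Γ(X, V)] (Fin n →₀ Γ(X, V))) := by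
  obtain ⟨V, hV, hxV, -⟩ := exists_isAffineOpen_mem_and_subset (x := x) (U := ⊤) trivial
  obtain ⟨r, hxr, hfree, hfin⟩ := exists_basicOpen_free_sections M hV x hxV
  have := nontrivial_sections_of_mem hxr
  obtain ⟨n, hn⟩ := exists_linearEquiv_finsupp_of_free_of_finite Γ(X, X.basicOpen r)
    Γ(M, X.basicOpen r)
  exact ⟨X.basicOpen r, n, hV.basicOpen r, hxr, hn⟩

/-- A quasi-coherent module is finite locally free iff it is finitely presented with free
stalks. -/
theorem isFinLocFree_iff_free_stalks (M : X.Modules) :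
    FlatMod.IsFinLocFree M ↔
      M.IsFinitePresentation ∧ ∀ x : X, Module.Free (X.presheaf.stalk x) (M.presheaf.stalk x) := by
  constructor
  · exact fun h => ⟨isFinitePresentation_of_isFinLocFree h, free_stalk_of_isFinLocFree h⟩
  · rintro ⟨hfp, hfree⟩
    rw [isFinLocFree_iff_exists_affine]
    intro x
    have := hfree x
    exact exists_affine_linearEquiv_of_free_stalk M x

/-- A stalk of a finitely presented module is a finitely presented module. -/
theorem finitePresentation_stalk (M : X.Modules) [M.IsFinitePresentation] (x : X) :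
    Module.FinitePresentation (X.presheaf.stalk x) (M.presheaf.stalk x) := by
  obtain ⟨V, hV, hx, -⟩ := exists_isAffineOpen_mem_and_subset (x := x) (U := ⊤) trivial
  let _ := stalkModule M V x hx
  let _ : Algebra Γ(X, V) (X.presheaf.stalk x) :=
    TopCat.Presheaf.algebra_section_stalk X.presheaf ⟨x, hx⟩
  have hloc := hV.isLocalization_stalk ⟨x, hx⟩
  have : IsScalarTower Γ(X, V) (X.presheaf.stalk x) (M.presheaf.stalk x) :=
    IsScalarTower.of_algebraMap_smul fun a m => rfl
  have := isLocalizedModule_germ M hV x hx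
  have hfp : Module.FinitePresentation Γ(X, V) Γ(M, V) :=
    module_finitePresentation_of_isFinitePresentation M hV
  exact _root_.FinitePresentation.of_isBaseChange (germₗ M V x hx)
    (IsLocalizedModule.isBaseChange (hV.primeIdealOf ⟨x, hx⟩).asIdeal.primeCompl _ _)

/-- A quasi-coherent module is finite locally free iff it is finitely presented and flat. -/
theorem isFinLocFree_iff_flat (M : X.Modules) :
    FlatMod.IsFinLocFree M ↔ M.IsFinitePresentation ∧ FlatMod.IsFlat M := by
  rw [isFinLocFree_iff_free_stalks]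
  refine and_congr_right fun hfp => forall_congr' fun x => ?_
  constructor
  · intro h
    exact (inferInstance : Module.Flat (X.presheaf.stalk x) (M.presheaf.stalk x))
  · intro h
    have : Module.Flat (X.presheaf.stalk x) (M.presheaf.stalk x) := h
    have := finitePresentation_stalk M x
    exact Module.free_of_flat_of_isLocalRing


/-- Over an affine open `U` on which `M` is finite locally free, the sections of `M` form a
finite projective module. -/
theorem finite_projective_sections_of_isFinLocFree {M : X.Modules} (h : FlatMod.IsFinLocFree M)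
    {U : X.Opens} (hU : IsAffineOpen U) :
    Module.Finite Γ(X, U) Γ(M, U) ∧ Module.Projective Γ(X, U) Γ(M, U) := by
  have hfp := isFinitePresentation_of_isFinLocFree h
  have hN : Module.FinitePresentation Γ(X, U) Γ(M, U) :=
    module_finitePresentation_of_isFinitePresentation M hU
  refine ⟨inferInstance, ?_⟩
  -- the point attached to a maximal ideal
  have hpt : ∀ (P : Ideal Γ(X, U)) [P.IsMaximal], ∃ (x : X) (hx : x ∈ U),
      hU.primeIdealOf ⟨x, hx⟩ = ⟨P, inferInstance⟩ := fun P _ =>
    exists_point_of_prime' hU ⟨P, inferInstance⟩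
  choose x hx hP using hpt
  let _ : ∀ (P : Ideal Γ(X, U)) [P.IsMaximal], Algebra Γ(X, U) (X.presheaf.stalk (x P)) :=
    fun P _ => TopCat.Presheaf.algebra_section_stalk X.presheaf ⟨x P, hx P⟩
  let _ : ∀ (P : Ideal Γ(X, U)) [P.IsMaximal], Module Γ(X, U) (M.presheaf.stalk (x P)) :=
    fun P _ => stalkModule M U (x P) (hx P)
  have hloc : ∀ (P : Ideal Γ(X, U)) [P.IsMaximal],
      IsLocalization.AtPrime (X.presheaf.stalk (x P)) P := fun P _ => by
    have := hU.isLocalization_stalk ⟨x P, hx P⟩
    rw [hP P] at this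
    exact this
  have htower : ∀ (P : Ideal Γ(X, U)) [P.IsMaximal],
      IsScalarTower Γ(X, U) (X.presheaf.stalk (x P)) (M.presheaf.stalk (x P)) := fun P _ =>
    IsScalarTower.of_algebraMap_smul fun a m => rfl
  have hlm : ∀ (P : Ideal Γ(X, U)) [P.IsMaximal],
      IsLocalizedModule P.primeCompl (germₗ M U (x P) (hx P)) := fun P _ => by
    have := isLocalizedModule_germ M hU (x P) (hx P)
    rw [hP P] at this
    exact this
  refine Module.projective_of_localization_maximal'
    (fun P _ => X.presheaf.stalk (x P)) (fun P _ => M.presheaf.stalk (x P))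
    (fun P _ => germₗ M U (x P) (hx P)) (fun P hP' => ?_)
  have := free_stalk_of_isFinLocFree h (x P)
  infer_instance


/-- The stalk of a quasi-coherent module whose sections over an affine open form a finite
projective module is free. -/
theorem free_stalk_of_projective_sections (M : X.Modules) [M.IsQuasicoherent] {V : X.Opens}
    (hV : IsAffineOpen V) (x : X) (hx : x ∈ V) [Module.Finite Γ(X, V) Γ(M, V)]
    [Module.Projective Γ(X, V) Γ(M, V)] :
    Module.Free (X.presheaf.stalk x) (M.presheaf.stalk x) := by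
  let _ := stalkModule M V x hx
  let _ : Algebra Γ(X, V) (X.presheaf.stalk x) :=
    TopCat.Presheaf.algebra_section_stalk X.presheaf ⟨x, hx⟩
  have hloc := hV.isLocalization_stalk ⟨x, hx⟩
  have : IsScalarTower Γ(X, V) (X.presheaf.stalk x) (M.presheaf.stalk x) :=
    IsScalarTower.of_algebraMap_smul fun a m => rfl
  have := isLocalizedModule_germ M hV x hx
  have : Module.Projective (X.presheaf.stalk x) (M.presheaf.stalk x) :=
    Module.projective_of_isLocalizedModule (hV.primeIdealOf ⟨x, hx⟩).asIdeal.primeCompl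
      (germₗ M V x hx)
  have : Module.Finite (X.presheaf.stalk x) (M.presheaf.stalk x) :=
    Module.Finite.of_isLocalizedModule (hV.primeIdealOf ⟨x, hx⟩).asIdeal.primeCompl
      (germₗ M V x hx)
  exact Module.free_of_flat_of_isLocalRing

/-- A quasi-coherent module whose sections over the members of an affine open cover form finite
projective modules is finite locally free. -/
theorem isFinLocFree_of_finite_projective_sections (M : X.Modules) [M.IsQuasicoherent]
    {ι : Type u} (U : ι → X.Opens) (hcov : IsOpenCover U) (haff : ∀ i, IsAffineOpen (U i))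
    (hfin : ∀ i, Module.Finite Γ(X, U i) Γ(M, U i))
    (hproj : ∀ i, Module.Projective Γ(X, U i) Γ(M, U i)) : FlatMod.IsFinLocFree M := by
  rw [isFinLocFree_iff_free_stalks]
  refine ⟨isFinitePresentation_of_module_finitePresentation M U hcov haff fun i => ?_, fun x => ?_⟩
  · have := hfin i
    have := hproj i
    exact Module.finitePresentation_of_projective _ _
  · obtain ⟨i, hi⟩ := hcov.exists_mem x
    have := hfin i
    have := hproj i
    exact free_stalk_of_projective_sections M (haff i) x hi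


/-- A retract of a quasi-coherent module is quasi-coherent. -/
theorem isQuasicoherent_of_retract {M P : X.Modules} (i : M ⟶ P) (r : P ⟶ M) (h : i ≫ r = 𝟙 M)
    [P.IsQuasicoherent] : M.IsQuasicoherent := by
  have hk : i ≫ (𝟙 P - r ≫ i) = 0 := by
    rw [Preadditive.comp_sub, Category.comp_id, ← Category.assoc, h, Category.id_comp, sub_self]
  let k : M ⟶ kernel (𝟙 P - r ≫ i) := kernel.lift _ i hk
  have e : kernel (𝟙 P - r ≫ i) ≅ M :=
    { hom := kernel.ι _ ≫ r
      inv := k
      hom_inv_id := by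
        rw [← cancel_mono (kernel.ι (𝟙 P - r ≫ i))]
        simp only [Category.assoc, k, kernel.lift_ι, Category.id_comp]
        have := kernel.condition (𝟙 P - r ≫ i)
        rw [Preadditive.comp_sub, Category.comp_id, sub_eq_zero] at this
        exact this.symm
      inv_hom_id := by
        simp only [k, ← Category.assoc, kernel.lift_ι]
        exact h }
  exact isQuasicoherent_of_iso e

theorem app_comp {M N P : X.Modules} (φ : M ⟶ N) (ψ : N ⟶ P) (U : X.Opens) (m : Γ(M, U)) :
    (φ ≫ ψ).app U m = ψ.app U (φ.app U m) := rfl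

/-- A retract of a finite locally free module is finite locally free. -/
theorem isFinLocFree_of_retract {M P : X.Modules} (i : M ⟶ P) (r : P ⟶ M) (h : i ≫ r = 𝟙 M)
    (hP : FlatMod.IsFinLocFree P) : FlatMod.IsFinLocFree M := by
  have := isQuasicoherent_of_isFinLocFree hP
  have := isQuasicoherent_of_retract i r h
  have hri : ∀ (U : X.Opens) (m : Γ(M, U)), appₗ r U (appₗ i U m) = m := fun U m => by
    rw [appₗ_apply, appₗ_apply, ← app_comp, h]
    rfl
  refine isFinLocFree_of_finite_projective_sections M (fun U : X.affineOpens => U.1)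
    (isOpenCover_affineOpens X) (fun U => U.2) (fun U => ?_) (fun U => ?_)
  · have := (finite_projective_sections_of_isFinLocFree hP U.2).1
    exact Module.Finite.of_surjective (appₗ r U.1) (fun m => ⟨appₗ i U.1 m, hri U.1 m⟩)
  · have := (finite_projective_sections_of_isFinLocFree hP U.2).2
    exact Module.Projective.of_split (appₗ i U.1) (appₗ r U.1) (LinearMap.ext (hri U.1))


theorem IsFreeAlong.free_stalk {Z : Scheme.{u}} {M : X.Modules} [M.IsQuasicoherent] {j : Z ⟶ X}
    [IsOpenImmersion j] {n : ℕ} (h : IsFreeAlong M j n) (x : X) (hx : x ∈ Set.range j.base) :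
    Module.Free (X.presheaf.stalk x) (M.presheaf.stalk x) := by
  obtain ⟨V, hV, hxV, hVU⟩ := exists_isAffineOpen_mem_and_subset (x := x) (U := j.opensRange) hx
  have h' : IsFreeAlong M hV.fromSpec n := h.of_range_subset _ (by
    rw [hV.range_fromSpec]
    exact hVU)
  obtain ⟨e⟩ := nonempty_linearEquiv_of_isFreeAlong_fromSpec M hV n h'
  have : Module.Free Γ(X, V) Γ(M, V) := Module.Free.of_equiv e.symm
  exact free_stalk_of_free_sections M hV x hxV

/-- Freeness along an open immersion from a free module of sections over an affine open. -/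
theorem isFreeAlong_ι_of_linearEquiv (M : X.Modules) [M.IsQuasicoherent] {V : X.Opens}
    (hV : IsAffineOpen V) {n : ℕ} (e : Γ(M, V) ≃ₗ[Γ(X, V)] (Fin n →₀ Γ(X, V))) :
    IsFreeAlong M V.ι n :=
  ((isFreeAlong_fromSpec_iff M hV n).mpr ⟨e⟩).of_range_subset _ (by
    rw [hV.range_fromSpec, Scheme.Opens.range_ι])

theorem isFinLocFree_of_iso_freeMod {M : X.Modules} {n : ℕ} (e : M ≅ FlatMod.freeMod X n) :
    FlatMod.IsFinLocFree M :=
  isFinLocFree_of_iso e.symm (isFinLocFree_freeMod X n)

section Tilde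
variable {R : CommRingCat.{u}} (M : ModuleCat.{u} R)

/-- The ring isomorphism `Γ(Spec R, ⊤) ≃+* R`. -/
noncomputable def ΓSpecRingEquiv (R : CommRingCat.{u}) : Γ(Spec R, ⊤) ≃+* R :=
  (Scheme.ΓSpecIso R).commRingCatIsoToRingEquiv

theorem smul_top_eq (N : (Spec R).Modules) (a : Γ(Spec R, ⊤)) (n : Γ(N, ⊤)) :
    a • n = (ΓSpecRingEquiv R a) • n := by
  rw [Scheme.Modules.smul_Spec_def]
  congr 1
  change a = ((Spec R).presheaf.map (𝟙 _)) ((Scheme.ΓSpecIso R).inv ((Scheme.ΓSpecIso R).hom a))
  rw [CategoryTheory.Functor.map_id]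
  simp

attribute [local instance] RingHomInvPair.of_ringEquiv RingHomInvPair.of_ringEquiv_symm in
/-- Global sections of `M~` are `M`, semilinearly over `Γ(Spec R, ⊤) ≃+* R`. -/
noncomputable def tildeTopEquiv :
    Γ(tilde M, ⊤) ≃ₛₗ[(ΓSpecRingEquiv R : Γ(Spec R, ⊤) →+* R)] M :=
  { (tilde.isoTop M).toLinearEquiv.symm.toAddEquiv with
    map_smul' := fun a n => by
      change (tilde.isoTop M).toLinearEquiv.symm (a • n) = _
      rw [smul_top_eq]
      exact ((tilde.isoTop M).toLinearEquiv.symm).map_smul _ _ }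

end Tilde

section Tilde2
variable {R : CommRingCat.{u}} (M : ModuleCat.{u} R)

attribute [local instance] RingHomInvPair.of_ringEquiv RingHomInvPair.of_ringEquiv_symm in
theorem isFinLocFree_tilde_iff :
    FlatMod.IsFinLocFree (tilde M) ↔ Module.Finite R M ∧ Module.Projective R M := by
  constructor
  · intro h
    obtain ⟨h1, h2⟩ := finite_projective_sections_of_isFinLocFree h (isAffineOpen_top (Spec R))
    refine ⟨?_, ?_⟩
    · exact Module.Finite.of_surjective (tildeTopEquiv M).toLinearMap (tildeTopEquiv M).surjective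
    · exact Module.Projective.of_equiv (tildeTopEquiv M)
  · rintro ⟨h1, h2⟩
    have h1' : Module.Finite Γ(Spec R, ⊤) Γ(tilde M, ⊤) :=
      Module.Finite.of_surjective (tildeTopEquiv M).symm.toLinearMap (tildeTopEquiv M).symm.surjective
    have h2' : Module.Projective Γ(Spec R, ⊤) Γ(tilde M, ⊤) :=
      Module.Projective.of_equiv (tildeTopEquiv M).symm
    refine isFinLocFree_of_finite_projective_sections (tilde M) (fun _ : PUnit.{u + 1} => ⊤)
      ?_ (fun _ => isAffineOpen_top (Spec R)) (fun _ => h1') (fun _ => h2')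
    rw [IsOpenCover, eq_top_iff]
    exact le_iSup (fun _ : PUnit.{u + 1} => (⊤ : (Spec R).Opens)) PUnit.unit

end Tilde2
end Groth.Agent.Lib.Helper29.QCoh
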