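import Groth.Agent.Lib.Helper29.Ample
universe u
open CategoryTheory CategoryTheory.Limits AlgebraicGeometry TopologicalSpace Opposite
open scoped TensorProduct

/-! # Pullback of sections along a morphism of schemes and pullbacks of trivialisations -/

namespace Groth.Agent.Lib.Helper29.QCoh

section PullSect
variable {X Y Z : Scheme.{u}} (f : X ⟶ Y) (g : Y ⟶ Z)

/-- Pullback of sections: the unit of the `f^* ⊣ f_*` adjunction on sections. -/
noncomputable def pullSect (M : Y.Modules) (V : Y.Opens) :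
    Γ(M, V) →+ Γ((Scheme.Modules.pullback f).obj M, f ⁻¹ᵁ V) :=
  (appₗ ((Scheme.Modules.pullbackPushforwardAdjunction f).unit.app M) V).toAddMonoidHom

theorem pullSect_def (M : Y.Modules) (V : Y.Opens) (m : Γ(M, V)) :
    pullSect f M V m = ((Scheme.Modules.pullbackPushforwardAdjunction f).unit.app M).app V m := rfl

theorem pullSect_smul (M : Y.Modules) (V : Y.Opens) (a : Γ(Y, V)) (m : Γ(M, V)) :
    pullSect f M V (a • m) = (f.app V a) • pullSect f M V m := by
  exact Scheme.Modules.Hom.app_smul ((Scheme.Modules.pullbackPushforwardAdjunction f).unit.app M) a m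

theorem pullSect_res (M : Y.Modules) {V V' : Y.Opens} (h : V' ≤ V) (m : Γ(M, V)) :
    pullSect f M V' (QCoh.res M h m) =
      QCoh.res _ (f.preimage_mono h) (pullSect f M V m) := by
  exact app_res ((Scheme.Modules.pullbackPushforwardAdjunction f).unit.app M) h m

theorem pullSect_naturality {M N : Y.Modules} (φ : M ⟶ N) (V : Y.Opens) (m : Γ(M, V)) :
    ((Scheme.Modules.pullback f).map φ).app (f ⁻¹ᵁ V) (pullSect f M V m) =
      pullSect f N V (φ.app V m) := by
  have h := (Scheme.Modules.pullbackPushforwardAdjunction f).unit.naturality φ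
  have h2 := congrArg (fun ψ => Scheme.Modules.Hom.app ψ V m) h
  simp only [Functor.id_obj, Functor.id_map, Functor.comp_obj, Functor.comp_map] at h2
  rw [app_comp, app_comp] at h2
  exact h2.symm

theorem pullbackUnitIso_hom_pullSect (V : Y.Opens) (a : Γ(Y, V)) :
    (pullbackUnitIso f).hom.app (f ⁻¹ᵁ V) (pullSect f (unitM Y) V (toUnit a)) =
      toUnit (f.app V a) := by
  have h : (Scheme.Modules.pullbackPushforwardAdjunction f).homEquiv _ _ (pullbackUnitIso f).hom =
      SheafOfModules.unitToPushforwardObjUnit (Scheme.Hom.toRingCatSheafHom f) :=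
    SheafOfModules.pullbackPushforwardAdjunction_homEquiv_pullbackObjUnitToUnit _
  rw [Adjunction.homEquiv_unit] at h
  have h2 := congrArg (fun ψ => Scheme.Modules.Hom.app ψ V (toUnit a)) h
  simp only [app_comp] at h2
  exact h2

theorem pullbackComp_inv_pullSect (M : Z.Modules) (V : Z.Opens) (m : Γ(M, V)) :
    ((Scheme.Modules.pullbackComp f g).inv.app M).app ((f ≫ g) ⁻¹ᵁ V)
        (pullSect (f ≫ g) M V m) =
      pullSect f ((Scheme.Modules.pullback g).obj M) (g ⁻¹ᵁ V) (pullSect g M V m) := by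
  have h := unit_conjugateEquiv
    ((Scheme.Modules.pullbackPushforwardAdjunction g).comp
      (Scheme.Modules.pullbackPushforwardAdjunction f))
    (Scheme.Modules.pullbackPushforwardAdjunction (f ≫ g))
    (Scheme.Modules.pullbackComp f g).inv M
  rw [Scheme.Modules.conjugateEquiv_pullbackComp_inv] at h
  have h2 := congrArg (fun ψ => Scheme.Modules.Hom.app ψ V m) h
  simp only [app_comp, Adjunction.comp_unit_app] at h2
  exact h2.symm

theorem exists_iso_pullback_of_eq {h₁ h₂ : X ⟶ Y} (e : h₁ = h₂) (M : Y.Modules) :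
    ∃ θ : (Scheme.Modules.pullback h₁).obj M ≅ (Scheme.Modules.pullback h₂).obj M,
      ∀ (V : Y.Opens) (m : Γ(M, V)),
        θ.hom.app (h₂ ⁻¹ᵁ V) (QCoh.res _ (e ▸ le_rfl : h₂ ⁻¹ᵁ V ≤ h₁ ⁻¹ᵁ V) (pullSect h₁ M V m)) =
          pullSect h₂ M V m := by
  subst e
  refine ⟨Iso.refl _, fun V m => ?_⟩
  rw [res_self]
  rfl

theorem restrictFunctorIsoPullback_hom_app (j : X ⟶ Y) [IsOpenImmersion j] (M : Y.Modules)
    (V : Y.Opens) (m : Γ(M, V)) :
    ((Scheme.Modules.restrictFunctorIsoPullback j).hom.app M).app (j ⁻¹ᵁ V)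
        (QCoh.res M (j.image_preimage_le V) m) = pullSect j M V m := by
  have h := Adjunction.unit_leftAdjointUniq_hom_app (Scheme.Modules.restrictAdjunction j)
    (Scheme.Modules.pullbackPushforwardAdjunction j) M
  have h2 := congrArg (fun ψ => Scheme.Modules.Hom.app ψ V m) h
  simp only [app_comp] at h2
  exact h2

end PullSect

section Triv
variable {X Y Z : Scheme.{u}}

/-- Trivialising sections are transported by isomorphisms. -/
theorem IsTriv.of_iso {N N' : X.Modules} (Θ : N ≅ N') {U : X.Opens} {n : Γ(N, U)}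
    (hT : IsTriv N U n) : IsTriv N' U (Θ.hom.app U n) := by
  intro W hW
  have hb : Function.Bijective (Θ.hom.app W) := app_bijective_of_isIso Θ.hom W
  have : (fun r : Γ(X, W) => r • QCoh.res N' hW (Θ.hom.app U n)) =
      Θ.hom.app W ∘ (fun r : Γ(X, W) => r • QCoh.res N hW n) := by
    funext r
    simp only [Function.comp_apply]
    rw [Scheme.Modules.Hom.app_smul, app_res]
  rw [this]
  exact hb.comp (hT W hW)

theorem IsTriv.of_eq_of_res {N : X.Modules} {U U' : X.Opens} (h : U' ≤ U) (hU : U ≤ U')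
    {n : Γ(N, U)} (hT : IsTriv N U' (QCoh.res N h n)) : IsTriv N U n := by
  intro W hW
  have := hT W (hW.trans hU)
  simpa only [res_res] using this

/-- A trivialising section of a restriction to an open subscheme trivialises the module over
the image open. -/
theorem IsTriv.of_restrict {X' : Scheme.{u}} (j : X' ⟶ X) [IsOpenImmersion j] {N : X.Modules}
    {U' : X'.Opens} {n : Γ(N, j ''ᵁ U')} (hT : IsTriv (N.restrict j) U' n) :
    IsTriv N (j ''ᵁ U') n := by
  have key : ∀ W' : X'.Opens, ∀ hW' : W' ≤ U',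
      Function.Bijective (fun r : Γ(X, j ''ᵁ W') =>
        r • QCoh.res N (j.image_mono hW') n) := by
    intro W' hW'
    have hb := hT W' hW'
    have : (fun r : Γ(X, j ''ᵁ W') => r • QCoh.res N (j.image_mono hW') n) =
        (fun r' : Γ(X', W') => r' • QCoh.res (N.restrict j) hW' n) ∘ (j.appIso W').hom := by
      funext r
      simp only [Function.comp_apply]
      rw [restrict_smul]
      congr 1
      exact (congrArg (fun k => k.hom r) (j.appIso W').hom_inv_id).symm
    rw [this]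
    exact hb.comp (ConcreteCategory.bijective_of_isIso (j.appIso W').hom)
  intro W hW
  have e : j ''ᵁ (j ⁻¹ᵁ W) = W := by
    rw [Scheme.Hom.image_preimage_eq_opensRange_inf]
    exact inf_eq_right.mpr (hW.trans (j.image_le_opensRange U'))
  have hle : j ⁻¹ᵁ W ≤ U' := by
    intro x hx
    have : j x ∈ j ''ᵁ U' := hW hx
    obtain ⟨y, hy, hxy⟩ := this
    rwa [← j.isOpenEmbedding.injective hxy]
  exact (smul_res_bijective_congr n _ e).mp (key (j ⁻¹ᵁ W) hle)

theorem IsTriv.exists_iso_restrict {A : Y.Modules} {V : Y.Opens} {e : Γ(A, V)}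
    (hT : IsTriv A V e) :
    ∃ σ : unitM (V : Scheme.{u}) ≅ A.restrict V.ι, ∀ T : (V : Scheme.{u}).Opens,
      sval σ.hom T = QCoh.res A (V.ι_image_le T) e := by
  let e' : Γ(A.restrict V.ι, ⊤) := QCoh.res A V.ι_image_top.le e
  let σ₀ : unitM (V : Scheme.{u}) ⟶ A.restrict V.ι := homOfSection (A.restrict V.ι) e'
  have hsv : ∀ T : (V : Scheme.{u}).Opens, sval σ₀ T = QCoh.res A (V.ι_image_le T) e := by
    intro T
    rw [sval_homOfSection]
    change QCoh.res A (V.ι.image_mono le_top) (QCoh.res A V.ι_image_top.le e) = _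
    rw [res_res]
  have hiso : IsIso σ₀ := by
    rw [isIso_iff_app_bijective]
    intro T
    have hb := hT (V.ι ''ᵁ T) (V.ι_image_le T)
    have hfun : (fun s => σ₀.app T s) =
        (fun r : Γ(Y, V.ι ''ᵁ T) => r • QCoh.res A (V.ι_image_le T) e) ∘ (V.ι.appIso T).inv ∘
          fromUnit := by
      funext s
      obtain ⟨r', rfl⟩ := toUnit_surjective s
      simp only [Function.comp_apply, fromUnit_toUnit]
      rw [app_eq_smul_sval, hsv, restrict_smul]
    change Function.Bijective (fun s => σ₀.app T s)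
    rw [hfun]
    refine hb.comp (Function.Bijective.comp
      (ConcreteCategory.bijective_of_isIso (V.ι.appIso T).inv) ?_)
    exact ⟨fun a b h => h, fun a => ⟨toUnit a, rfl⟩⟩
  exact ⟨asIso σ₀, hsv⟩

end Triv

section Star
variable {X Y Z : Scheme.{u}} (f : X ⟶ Y)

theorem pullbackUnitIso_inv_toUnit_one (V : Y.Opens) :
    (pullbackUnitIso f).inv.app (f ⁻¹ᵁ V) (toUnit 1) = pullSect f (unitM Y) V (toUnit 1) := by
  have h := pullbackUnitIso_hom_pullSect f V 1
  rw [map_one] at h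
  rw [← h, ← app_comp, Iso.hom_inv_id]
  rfl

/-- Global case: the pullback of a global trivialisation is a trivialisation. -/
theorem isTriv_pullSect_of_iso {A : Y.Modules} (σ : unitM Y ≅ A) (V : Y.Opens) :
    IsTriv ((Scheme.Modules.pullback f).obj A) (f ⁻¹ᵁ V) (pullSect f A V (sval σ.hom V)) := by
  let τ : unitM X ≅ (Scheme.Modules.pullback f).obj A :=
    (pullbackUnitIso f).symm ≪≫ (Scheme.Modules.pullback f).mapIso σ
  have h0 := (isTriv_unit (X := X) (f ⁻¹ᵁ V)).of_iso τ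
  have h1 : τ.hom.app (f ⁻¹ᵁ V) (toUnit 1) = pullSect f A V (sval σ.hom V) := by
    change ((pullbackUnitIso f).inv ≫ (Scheme.Modules.pullback f).map σ.hom).app (f ⁻¹ᵁ V)
      (toUnit 1) = _
    rw [app_comp, pullbackUnitIso_inv_toUnit_one, pullSect_naturality]
    rfl
  rw [h1] at h0
  exact h0

theorem iso_hom_inv_app {M N : X.Modules} (Θ : M ≅ N) (U : X.Opens) (n : Γ(N, U)) :
    Θ.hom.app U (Θ.inv.app U n) = n := by
  rw [← app_comp, Iso.inv_hom_id]; rfl

theorem iso_inv_hom_app {M N : X.Modules} (Θ : M ≅ N) (U : X.Opens) (m : Γ(M, U)) :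
    Θ.inv.app U (Θ.hom.app U m) = m := by
  rw [← app_comp, Iso.hom_inv_id]; rfl

/-- **Pullbacks of trivialising sections are trivialising sections.** -/
theorem IsTriv.pullSect {A : Y.Modules} {V : Y.Opens} {e : Γ(A, V)} (hT : IsTriv A V e) :
    IsTriv ((Scheme.Modules.pullback f).obj A) (f ⁻¹ᵁ V) (QCoh.pullSect f A V e) := by
  obtain ⟨σ, hσ⟩ := hT.exists_iso_restrict
  -- Step 0
  have h0 := isTriv_pullSect_of_iso (f ∣_ V) σ (V.ι ⁻¹ᵁ V)
  rw [hσ] at h0
  -- Step 1
  have h1 := h0.of_iso ((Scheme.Modules.pullback (f ∣_ V)).mapIso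
    ((Scheme.Modules.restrictFunctorIsoPullback V.ι).app A))
  have e1 : ((Scheme.Modules.pullback (f ∣_ V)).mapIso
      ((Scheme.Modules.restrictFunctorIsoPullback V.ι).app A)).hom.app _
      (QCoh.pullSect (f ∣_ V) (A.restrict V.ι) (V.ι ⁻¹ᵁ V)
        (QCoh.res A (V.ι_image_le (V.ι ⁻¹ᵁ V)) e)) =
      QCoh.pullSect (f ∣_ V) _ (V.ι ⁻¹ᵁ V) (QCoh.pullSect V.ι A V e) := by
    change ((Scheme.Modules.pullback (f ∣_ V)).map
      ((Scheme.Modules.restrictFunctorIsoPullback V.ι).hom.app A)).app _ _ = _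
    rw [pullSect_naturality]
    congr 1
    exact restrictFunctorIsoPullback_hom_app V.ι A V e
  rw [e1] at h1
  -- Step 2
  have h2 := h1.of_iso ((Scheme.Modules.pullbackComp (f ∣_ V) V.ι).app A)
  rw [← pullbackComp_inv_pullSect (f ∣_ V) V.ι A V e] at h2
  have e2 := iso_hom_inv_app ((Scheme.Modules.pullbackComp (f ∣_ V) V.ι).app A)
    (((f ∣_ V) ≫ V.ι) ⁻¹ᵁ V) (QCoh.pullSect ((f ∣_ V) ≫ V.ι) A V e)
  rw [Iso.app_hom, Iso.app_inv] at e2
  rw [Iso.app_hom] at h2
  have h2' : IsTriv ((Scheme.Modules.pullback ((f ∣_ V) ≫ V.ι)).obj A) (((f ∣_ V) ≫ V.ι) ⁻¹ᵁ V)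
      (QCoh.pullSect ((f ∣_ V) ≫ V.ι) A V e) := by
    rw [← e2]; exact h2
  -- Step 3
  obtain ⟨θ, hθ⟩ := exists_iso_pullback_of_eq (morphismRestrict_ι f V) A
  have h3 := (h2'.restrict (morphismRestrict_ι f V ▸ le_rfl :
    ((f ⁻¹ᵁ V).ι ≫ f) ⁻¹ᵁ V ≤ ((f ∣_ V) ≫ V.ι) ⁻¹ᵁ V)).of_iso θ
  rw [hθ V e] at h3
  -- Step 4
  have h4 := h3.of_iso ((Scheme.Modules.pullbackComp (f ⁻¹ᵁ V).ι f).app A).symm
  rw [Iso.symm_hom, Iso.app_inv, pullbackComp_inv_pullSect] at h4
  -- Step 5
  have h5 := h4.of_iso ((Scheme.Modules.restrictFunctorIsoPullback (f ⁻¹ᵁ V).ι).app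
    ((Scheme.Modules.pullback f).obj A)).symm
  have e5 := iso_inv_hom_app ((Scheme.Modules.restrictFunctorIsoPullback (f ⁻¹ᵁ V).ι).app
    ((Scheme.Modules.pullback f).obj A)) ((f ⁻¹ᵁ V).ι ⁻¹ᵁ (f ⁻¹ᵁ V))
    (QCoh.res ((Scheme.Modules.pullback f).obj A)
      ((f ⁻¹ᵁ V).ι.image_preimage_le (f ⁻¹ᵁ V)) (QCoh.pullSect f A V e))
  rw [Iso.app_hom, restrictFunctorIsoPullback_hom_app] at e5
  have h5' : IsTriv (((Scheme.Modules.pullback f).obj A).restrict (f ⁻¹ᵁ V).ι)
      ((f ⁻¹ᵁ V).ι ⁻¹ᵁ (f ⁻¹ᵁ V))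
      (QCoh.res ((Scheme.Modules.pullback f).obj A)
        ((f ⁻¹ᵁ V).ι.image_preimage_le (f ⁻¹ᵁ V)) (QCoh.pullSect f A V e)) := by
    rw [← e5]; exact h5
  -- Step 6
  have h6 := h5'.of_restrict (f ⁻¹ᵁ V).ι
  refine IsTriv.of_eq_of_res ((f ⁻¹ᵁ V).ι.image_preimage_le (f ⁻¹ᵁ V)) ?_ h6
  rw [Scheme.Hom.image_preimage_eq_opensRange_inf, Scheme.Opens.opensRange_ι, inf_idem]

end Star

section PullHom
variable {X Y Z : Scheme.{u}} (f : X ⟶ Y)

/-- The pullback of a global section `s : O_Y ⟶ M`, as a global section of `f^* M`. -/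
noncomputable def pullHom {M : Y.Modules} (s : unitM Y ⟶ M) :
    unitM X ⟶ (Scheme.Modules.pullback f).obj M :=
  (pullbackUnitIso f).inv ≫ (Scheme.Modules.pullback f).map s

theorem sval_pullHom {M : Y.Modules} (s : unitM Y ⟶ M) (V : Y.Opens) :
    sval (pullHom f s) (f ⁻¹ᵁ V) = pullSect f M V (sval s V) := by
  change ((pullbackUnitIso f).inv ≫ (Scheme.Modules.pullback f).map s).app (f ⁻¹ᵁ V) (toUnit 1) = _
  rw [app_comp, pullbackUnitIso_inv_toUnit_one, pullSect_naturality]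
  rfl

theorem genLocus_iso_comp {M : X.Modules} (α : unitM X ≅ unitM X) (t : unitM X ⟶ M) :
    CohB1.genLocus M (α.hom ≫ t) = CohB1.genLocus M t := by
  ext x
  simp only [SetLike.mem_coe, mem_genLocus_iff]
  refine exists_congr fun U => and_congr_right fun _ => forall_congr' fun W => forall_congr' fun _ => ?_
  have hb : Function.Bijective (α.hom.app W) := app_bijective_of_isIso α.hom W
  have : ((α.hom ≫ t).app W : _ → _) = t.app W ∘ α.hom.app W := by
    funext m; exact app_comp α.hom t W m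
  rw [this]
  exact ⟨fun h => (Function.Bijective.of_comp_iff _ hb).mp h, fun h => h.comp hb⟩

/-- **The locus of a pulled back section is the preimage of the locus.** -/
theorem genLocus_pullHom {M : Y.Modules} (hM : PicF.IsInvertible M) (s : unitM Y ⟶ M) :
    CohB1.genLocus _ (pullHom f s) = f ⁻¹ᵁ CohB1.genLocus M s := by
  ext z
  obtain ⟨V, ε, hzV, hε⟩ := exists_isTriv hM (f z)
  obtain ⟨a, ha⟩ := hε.exists_eq_smul (sval s V)
  have ha' : sval (pullHom f s) (f ⁻¹ᵁ V) = (f.app V a) • pullSect f M V ε := by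
    rw [sval_pullHom, ha, pullSect_smul]
  have hzV' : z ∈ f ⁻¹ᵁ V := hzV
  simp only [SetLike.mem_coe]
  rw [mem_genLocus_iff_of_isTriv _ (hε.pullSect f) _ ha' z hzV', ← Scheme.preimage_basicOpen]
  change _ ↔ f z ∈ CohB1.genLocus M s
  rw [mem_genLocus_iff_of_isTriv s hε a ha (f z) hzV]
  rfl

theorem genLocus_pullback_of_iso {M : Y.Modules} (hM : PicF.IsInvertible M) (s : unitM Y ⟶ M)
    (e : unitM X ≅ (Scheme.Modules.pullback f).obj (unitM Y)) :
    CohB1.genLocus _ (e.hom ≫ (Scheme.Modules.pullback f).map s) = f ⁻¹ᵁ CohB1.genLocus M s := by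
  rw [← genLocus_pullHom f hM s]
  have : e.hom ≫ (Scheme.Modules.pullback f).map s =
      (e ≪≫ pullbackUnitIso f).hom ≫ pullHom f s := by
    simp [pullHom]
  rw [this, genLocus_iso_comp]

end PullHom

end Groth.Agent.Lib.Helper29.QCoh
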