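import Groth.Agent.Lib.Helper29.QCohFP2
universe u v w
open CategoryTheory CategoryTheory.Limits AlgebraicGeometry Opposite TopologicalSpace
open scoped TensorProduct

/-! # Inverse images of quasi-coherent modules

The affine dictionary `(Spec φ)^* (M~) ≅ (S ⊗_R M)~`, its globalisation to affine opens
`U ≤ f⁻¹ V`, and consequences: inverse images of quasi-coherent modules (of finite type, of
finite presentation) are quasi-coherent (of finite type, of finite presentation). -/

namespace Groth.Agent.Lib.Helper29.QCoh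

section Affine

variable {R S : CommRingCat.{u}} (φ : R ⟶ S)

/-- Global sections of a direct image along `Spec S ⟶ Spec R`. -/
noncomputable def pushforwardCompΓIso :
    Scheme.Modules.pushforward (Spec.map φ) ⋙ moduleSpecΓFunctor (R := R) ≅
      moduleSpecΓFunctor (R := S) ⋙ ModuleCat.restrictScalars φ.hom :=
  Functor.isoWhiskerRight (pushforwardCompModulesSpecToSheafIso φ)
    (TopCat.Sheaf.forget _ _ ⋙ (evaluation _ _).obj (.op ⊤)) ≪≫
    NatIso.ofComponents (fun M => Iso.refl _) (fun f => by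
      simp only [Iso.refl_hom]
      rfl)

/-- The inverse image of `M~` along `Spec S ⟶ Spec R` is `(S ⊗_R M)~`. -/
noncomputable def tildePullbackIso :
    tilde.functor R ⋙ Scheme.Modules.pullback (Spec.map φ) ≅
      ModuleCat.extendScalars φ.hom ⋙ tilde.functor S :=
  Adjunction.leftAdjointUniq
    ((tilde.adjunction (R := R)).comp (Scheme.Modules.pullbackPushforwardAdjunction (Spec.map φ)))
    (((ModuleCat.extendRestrictScalarsAdj φ.hom).comp (tilde.adjunction (R := S))).ofNatIsoRight
      (pushforwardCompΓIso φ).symm)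

end Affine

section General

open Scheme.Modules

variable {X Y : Scheme.{u}} (f : X ⟶ Y) (F : Y.Modules) [F.IsQuasicoherent]
  {U : X.Opens} (hU : IsAffineOpen U) {V : Y.Opens} (hV : IsAffineOpen V) (e : U ≤ f ⁻¹ᵁ V)

/-- The restriction of `f^*F` to an affine open `U ≤ f⁻¹V` (`V` affine) is the tilde of
`Γ(X,U) ⊗ Γ(F|_V)`. -/
noncomputable def pullbackRestrictFromSpecIso :
    ((Scheme.Modules.pullback f).obj F).restrict hU.fromSpec ≅
      tilde ((ModuleCat.extendScalars (f.appLE V U e).hom).obj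
        (moduleSpecΓFunctor.obj (F.restrict hV.fromSpec))) :=
  (restrictFunctorIsoPullback hU.fromSpec).app _ ≪≫
    (pullbackComp hU.fromSpec f).app F ≪≫
    (pullbackCongr (IsAffineOpen.SpecMap_appLE_fromSpec f hV hU e).symm).app F ≪≫
    (pullbackComp (Spec.map (f.appLE V U e)) hV.fromSpec).symm.app F ≪≫
    (Scheme.Modules.pullback (Spec.map (f.appLE V U e))).mapIso
      ((restrictFunctorIsoPullback hV.fromSpec).symm.app F ≪≫
        (asIso (fromTildeΓ (F.restrict hV.fromSpec))).symm) ≪≫
    (tildePullbackIso (f.appLE V U e)).app _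

theorem isQuasicoherent_of_iso {X : Scheme.{u}} {M N : X.Modules} (e : M ≅ N)
    [hM : M.IsQuasicoherent] : N.IsQuasicoherent :=
  (SheafOfModules.isQuasicoherent X.ringCatSheaf).prop_of_iso e hM

/-- Around every point of `X` there is an affine open mapping into an affine open of `Y`. -/
theorem exists_affine_pair (x : X) : ∃ (U : X.Opens) (V : Y.Opens), IsAffineOpen U ∧
    IsAffineOpen V ∧ x ∈ U ∧ U ≤ f ⁻¹ᵁ V := by
  obtain ⟨V, hV, hxV, -⟩ := exists_isAffineOpen_mem_and_subset (x := f x) (U := ⊤) trivial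
  obtain ⟨U, hU, hxU, hUV⟩ := exists_isAffineOpen_mem_and_subset (x := x) (U := f ⁻¹ᵁ V) hxV
  exact ⟨U, V, hU, hV, hxU, hUV⟩

/-- The inverse image of a quasi-coherent module is quasi-coherent. -/
instance isQuasicoherent_pullback : ((Scheme.Modules.pullback f).obj F).IsQuasicoherent := by
  let ι := {p : X.affineOpens × Y.affineOpens // (p.1 : X.Opens) ≤ f ⁻¹ᵁ (p.2 : Y.Opens)}
  refine isQuasicoherent_of_restrict_spec _ (ι := ι) (fun p => Γ(X, (p.1.1 : X.Opens)))
    (fun p => p.1.1.2.fromSpec) (fun x => ?_) (fun p => ?_)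
  · obtain ⟨U, V, hU, hV, hxU, hUV⟩ := exists_affine_pair f x
    refine ⟨⟨(⟨U, hU⟩, ⟨V, hV⟩), hUV⟩, ?_⟩
    rw [hU.range_fromSpec]
    exact hxU
  · exact isQuasicoherent_of_iso (pullbackRestrictFromSpecIso f F p.1.1.2 p.1.2.2 p.2).symm

/-- The underlying module of an extension of scalars. -/
noncomputable def extendScalarsEquiv {R S : Type u} [CommRing R] [CommRing S] (φ : R →+* S)
    (M : ModuleCat.{u} R) :
    letI := φ.toAlgebra
    ((ModuleCat.extendScalars φ).obj M) ≃ₗ[S] S ⊗[R] M :=
  letI := φ.toAlgebra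
  LinearEquiv.refl S _

/-- Sections of `f^*F` over an affine open `U ≤ f⁻¹V`, `V` affine: `Γ(X,U) ⊗_{Γ(Y,V)} Γ(F,V)`. -/
noncomputable def pullbackSectionsEquiv :
    letI := (f.appLE V U e).hom.toAlgebra
    Γ((Scheme.Modules.pullback f).obj F, U) ≃ₗ[Γ(X, U)] Γ(X, U) ⊗[Γ(Y, V)] Γ(F, V) :=
  letI := (f.appLE V U e).hom.toAlgebra
  (sectionsRestrictFromSpecEquiv ((Scheme.Modules.pullback f).obj F) hU) ≪≫ₗ
    (moduleSpecΓFunctor.mapIso (pullbackRestrictFromSpecIso f F hU hV e)).toLinearEquiv ≪≫ₗ
    (tilde.isoTop _).symm.toLinearEquiv ≪≫ₗ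
    extendScalarsEquiv (f.appLE V U e).hom _ ≪≫ₗ
    TensorProduct.AlgebraTensorModule.congr (LinearEquiv.refl Γ(X, U) Γ(X, U))
      (sectionsRestrictFromSpecEquiv F hV).symm

/-- The index type of pairs of affine opens `U ≤ f⁻¹V`. -/
abbrev AffinePairs : Type u :=
  {p : X.affineOpens × Y.affineOpens // (p.1 : X.Opens) ≤ f ⁻¹ᵁ (p.2 : Y.Opens)}

theorem isOpenCover_affinePairs :
    IsOpenCover (fun p : AffinePairs f => (p.1.1 : X.Opens)) := by
  rw [IsOpenCover, eq_top_iff]
  intro x _
  obtain ⟨U, V, hU, hV, hxU, hUV⟩ := exists_affine_pair f x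
  exact Opens.mem_iSup.mpr ⟨⟨(⟨U, hU⟩, ⟨V, hV⟩), hUV⟩, hxU⟩

/-- The inverse image of a quasi-coherent module of finite type is of finite type. -/
instance isFiniteType_pullback [F.IsFiniteType] :
    ((Scheme.Modules.pullback f).obj F).IsFiniteType := by
  refine isFiniteType_of_module_finite _ (fun p : AffinePairs f => (p.1.1 : X.Opens))
    (isOpenCover_affinePairs f) (fun p => p.1.1.2) (fun p => ?_)
  let _ := (f.appLE p.1.2.1 p.1.1.1 p.2).hom.toAlgebra
  have : Module.Finite Γ(Y, p.1.2.1) Γ(F, p.1.2.1) := module_finite_of_isFiniteType F p.1.2.2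
  exact Module.Finite.equiv (pullbackSectionsEquiv f F p.1.1.2 p.1.2.2 p.2).symm

/-- The inverse image of a finitely presented module is finitely presented. -/
instance isFinitePresentation_pullback (F : Y.Modules) [F.IsFinitePresentation] :
    ((Scheme.Modules.pullback f).obj F).IsFinitePresentation := by
  refine isFinitePresentation_of_module_finitePresentation _
    (fun p : AffinePairs f => (p.1.1 : X.Opens))
    (isOpenCover_affinePairs f) (fun p => p.1.1.2) (fun p => ?_)
  let _ := (f.appLE p.1.2.1 p.1.1.1 p.2).hom.toAlgebra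
  have : Module.FinitePresentation Γ(Y, p.1.2.1) Γ(F, p.1.2.1) :=
    module_finitePresentation_of_isFinitePresentation F p.1.2.2
  exact Module.FinitePresentation.of_equiv (pullbackSectionsEquiv f F p.1.1.2 p.1.2.2 p.2).symm

end General

end Groth.Agent.Lib.Helper29.QCoh
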