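import Groth.Agent.Lib.Helper29.QCohLocFree
import Groth.Agent.Lib.Helper29.QCohPush
import Groth.Prelude.Def_ClSub2
universe u
open CategoryTheory CategoryTheory.Limits AlgebraicGeometry Opposite TopologicalSpace
open scoped TensorProduct

namespace Groth.Agent.Lib.Helper29.QCoh
open Scheme.Modules
variable {X : Scheme.{u}} (I : X.IdealSheafData)

/-- A section of the structure sheaf (as a module) as a function. -/
def fromUnit {V : X.Opens} (s : Γ(unitM X, V)) : Γ(X, V) := s

@[simp] theorem fromUnit_toUnit {V : X.Opens} (a : Γ(X, V)) : fromUnit (toUnit a) = a := rfl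
@[simp] theorem toUnit_fromUnit {V : X.Opens} (s : Γ(unitM X, V)) : toUnit (fromUnit s) = s := rfl

theorem fromUnit_smul {V : X.Opens} (a : Γ(X, V)) (s : Γ(unitM X, V)) :
    fromUnit (a • s) = a * fromUnit s := rfl

theorem fromUnit_add {V : X.Opens} (s t : Γ(unitM X, V)) :
    fromUnit (s + t) = fromUnit s + fromUnit t := rfl

theorem unitToPush_app {Y : Scheme.{u}} (f : X ⟶ Y) (U : Y.Opens) (s : Γ(unitM Y, U)) :
    (ClSub.unitToPush f).app U s = toUnit ((f.app U).hom (fromUnit s)) := rfl

instance isQuasicoherent_unitM (X : Scheme.{u}) : (unitM X).IsQuasicoherent := by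
  have h := isFinLocFree_freeMod X 1
  exact isQuasicoherent_of_iso (freeModOneIso X) (hM := isQuasicoherent_of_isFinLocFree h)

instance isQuasicoherent_quotMod : (ClSub.quotMod I).IsQuasicoherent :=
  isQuasicoherent_pushforward_of_isAffineHom I.subschemeι _

instance isQuasicoherent_idealMod : (ClSub.idealMod I).IsQuasicoherent := by
  unfold ClSub.idealMod
  infer_instance

theorem idealModι_app_mem (U : X.affineOpens) (s : Γ(ClSub.idealMod I, U.1)) :
    fromUnit ((ClSub.idealModι I).app U.1 s) ∈ I.ideal U := by
  rw [← I.ker_subschemeι_app U, RingHom.mem_ker]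
  have h : (ClSub.idealModι I ≫ ClSub.toSubscheme I) = 0 := kernel.condition _
  have h2 := congrArg (fun φ => φ.app U.1 s) h
  exact h2

instance : Mono (ClSub.idealModι I) := inferInstanceAs (Mono (kernel.ι (ClSub.toSubscheme I)))

theorem exists_idealModι_app_eq (U : X.affineOpens) (a : Γ(X, U.1)) (ha : a ∈ I.ideal U) :
    ∃ s : Γ(ClSub.idealMod I, U.1), fromUnit ((ClSub.idealModι I).app U.1 s) = a := by
  have : Mono (ShortComplex.mk (ClSub.idealModι I) (ClSub.toSubscheme I)
    (kernel.condition _)).f := inferInstanceAs (Mono (ClSub.idealModι I))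
  have hex := app_exact_of_exact_of_mono
    (ShortComplex.mk (ClSub.idealModι I) (ClSub.toSubscheme I) (kernel.condition _))
    (ShortComplex.exact_kernel _) U.1
  rw [← I.ker_subschemeι_app U, RingHom.mem_ker] at ha
  obtain ⟨s, hs⟩ := (hex (toUnit a)).mp ha
  exact ⟨s, hs⟩

theorem idealModι_app_injective (U : X.Opens) :
    Function.Injective ((ClSub.idealModι I).app U) :=
  (mono_iff_app_injective _).mp inferInstance U

/-- Sections of the ideal sheaf module over an affine open: the ideal. -/
noncomputable def idealModSectionsEquiv (U : X.affineOpens) :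
    Γ(ClSub.idealMod I, U.1) ≃ₗ[Γ(X, U.1)] I.ideal U :=
  LinearEquiv.ofBijective
    { toFun := fun s => ⟨fromUnit ((ClSub.idealModι I).app U.1 s), idealModι_app_mem I U s⟩
      map_add' := fun s t => Subtype.ext (by
        change fromUnit ((ClSub.idealModι I).app U.1 (s + t)) = _
        rw [map_add]; rfl)
      map_smul' := fun r s => Subtype.ext (by
        change fromUnit ((ClSub.idealModι I).app U.1 (r • s)) = _
        rw [Scheme.Modules.Hom.app_smul]; rfl) }
    ⟨fun s t h => idealModι_app_injective I U.1 (congrArg Subtype.val h),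
      fun a => by
        obtain ⟨s, hs⟩ := exists_idealModι_app_eq I U a.1 a.2
        exact ⟨s, Subtype.ext hs⟩⟩

theorem idealModSectionsEquiv_apply (U : X.affineOpens) (s : Γ(ClSub.idealMod I, U.1)) :
    ((idealModSectionsEquiv I U s : I.ideal U) : Γ(X, U.1)) =
      fromUnit ((ClSub.idealModι I).app U.1 s) := rfl

end Groth.Agent.Lib.Helper29.QCoh
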