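import Groth.Prelude.Def_FlatMod2
/-!
# Affine-local dictionary for quasi-coherent `O_X`-modules (part 1)

For a scheme `X`, `M : X.Modules` quasi-coherent and an affine open `U`:

* `QCoh.exists_pow_smul_eq_res`, `QCoh.exists_pow_smul_eq_zero`: the restriction
  `Γ(M, U) → Γ(M, D(f))` is the localization away from `f` (elementwise form).
* `QCoh.exists_smul_germ_eq`, `QCoh.exists_smul_eq_zero_of_germ_eq_zero`: the germ map
  `Γ(M, U) → M_x` is the localization at the prime of `x` (elementwise form).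
* `QCoh.germ_smul`: compatibility of germs with the `O_{X,x}`-module structure
  `FlatMod.moduleStalk`.
-/
universe u
open CategoryTheory CategoryTheory.Limits AlgebraicGeometry TopologicalSpace Opposite

namespace Groth.Agent.Lib.Helper29.QCoh

variable {X : Scheme.{u}}

/-! ### Restriction maps -/

/-- Restriction of sections of an `O_X`-module, as an additive map. -/
noncomputable abbrev res (M : X.Modules) {U V : X.Opens} (h : V ≤ U) : Γ(M, U) →+ Γ(M, V) :=
  (M.presheaf.map (homOfLE h).op).hom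

theorem res_res (M : X.Modules) {U V W : X.Opens} (h : V ≤ U) (h' : W ≤ V) (m : Γ(M, U)) :
    res M h' (res M h m) = res M (h'.trans h) m := by
  change (M.presheaf.map (homOfLE h).op ≫ M.presheaf.map (homOfLE h').op) m = _
  rw [← Functor.map_comp]; rfl

theorem res_self (M : X.Modules) {U : X.Opens} (m : Γ(M, U)) : res M le_rfl m = m := by
  change (M.presheaf.map (𝟙 _)) m = _
  rw [M.presheaf.map_id]; rfl

theorem res_smul (M : X.Modules) {U V : X.Opens} (h : V ≤ U) (r : Γ(X, U)) (m : Γ(M, U)) :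
    res M h (r • m) = (X.presheaf.map (homOfLE h).op r) • res M h m :=
  M.map_smul (homOfLE h) r m

theorem map_map_apply (X : Scheme.{u}) {U V W : X.Opens} (h : V ≤ U) (h' : W ≤ V) (r : Γ(X, U)) :
    X.presheaf.map (homOfLE h').op (X.presheaf.map (homOfLE h).op r) =
      X.presheaf.map (homOfLE (h'.trans h)).op r := by
  rw [← ConcreteCategory.comp_apply, ← Functor.map_comp]; rfl

theorem res_injective_of_eq (M : X.Modules) {U V : X.Opens} (e : V = U) :
    Function.Injective (res M e.le) := fun a b hab => by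
  have := congrArg (res M e.ge) hab
  rwa [res_res, res_res, res_self, res_self] at this

theorem map_eq_res (M : X.Modules) {U V : X.Opens} (i : op U ⟶ op V) (m : Γ(M, U)) :
    M.presheaf.map i m = res M (leOfHom i.unop) m := rfl

/-! ### Transport from `Spec Γ(X, U)` -/

theorem fromSpec_image_le {U : X.Opens} (hU : IsAffineOpen U) (V : (Spec Γ(X, U)).Opens) :
    hU.fromSpec ''ᵁ V ≤ U := by
  conv_rhs => rw [← hU.opensRange_fromSpec]
  exact Scheme.Hom.image_le_opensRange _ _

theorem fromSpec_image_top {U : X.Opens} (hU : IsAffineOpen U) : hU.fromSpec ''ᵁ ⊤ = U := by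
  rw [Scheme.Hom.image_top_eq_opensRange, hU.opensRange_fromSpec]

theorem appIso_hom_res {U : X.Opens} (hU : IsAffineOpen U) (V : (Spec Γ(X, U)).Opens)
    (r : Γ(X, U)) :
    (hU.fromSpec.appIso V).hom (X.presheaf.map (homOfLE (fromSpec_image_le hU V)).op r) =
      (Spec Γ(X, U)).presheaf.map V.leTop.op ((Scheme.ΓSpecIso Γ(X, U)).inv r) := by
  rw [Scheme.Hom.appIso_hom']
  rw [← ConcreteCategory.comp_apply, ← ConcreteCategory.comp_apply]
  congr 2
  rw [Scheme.Hom.map_appLE]
  have := hU.fromSpec_app_self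
  rw [Scheme.Hom.app_eq_appLE] at this
  have hV : V ≤ hU.fromSpec ⁻¹ᵁ U := by rw [hU.fromSpec_preimage_self]; exact le_top
  rw [← Scheme.Hom.appLE_map (f := hU.fromSpec) (e := le_rfl) (i := (homOfLE hV).op), this,
    Category.assoc, ← Functor.map_comp]
  rfl

theorem smul_restrict_fromSpec' (M : X.Modules) {U : X.Opens} (hU : IsAffineOpen U)
    (V : (Spec Γ(X, U)).Opens) (r : Γ(X, U)) (m : Γ(M.restrict hU.fromSpec, V)) :
    r • m = (show Γ(M.restrict hU.fromSpec, V) from
      (X.presheaf.map (homOfLE (fromSpec_image_le hU V)).op r) •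
        (show Γ(M, hU.fromSpec ''ᵁ V) from m)) := by
  rw [Scheme.Modules.smul_Spec_def]
  rw [← appIso_hom_res hU V r]
  have := Scheme.Modules.smul_restrictAppIso_hom_apply hU.fromSpec M V
    ((hU.fromSpec.appIso V).hom (X.presheaf.map (homOfLE (fromSpec_image_le hU V)).op r)) m
  simp only [Iso.hom_inv_id_apply] at this
  exact this

/-- The `Γ(X,U)`-action on sections of `M.restrict hU.fromSpec` over `V` is the action through
restriction to `hU.fromSpec ''ᵁ V`. -/
theorem smul_restrict_fromSpec (M : X.Modules) {U : X.Opens} (hU : IsAffineOpen U)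
    (V : (Spec Γ(X, U)).Opens) (r : Γ(X, U)) (m : Γ(M, hU.fromSpec ''ᵁ V)) :
    HSMul.hSMul (α := Γ(X, U)) (β := Γ(M.restrict hU.fromSpec, V)) r m =
      (X.presheaf.map (homOfLE (fromSpec_image_le hU V)).op r) • m :=
  smul_restrict_fromSpec' M hU V r m

theorem isLocalizing_restrict_fromSpec (M : X.Modules) [M.IsQuasicoherent] {U : X.Opens}
    (hU : IsAffineOpen U) :
    IsLocalizing (modulesSpecToSheaf.obj (M.restrict hU.fromSpec)) :=
  (isIso_fromTildeΓ_iff_isLocalizing _).mp inferInstance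

/-! ### Localization on basic opens (elementwise form) -/

set_option backward.isDefEq.respectTransparency.types false in
/-- For `M` quasi-coherent, `U` affine and `f ∈ Γ(X, U)`: every section of `M` over `D(f)`
becomes the restriction of a section over `U` after multiplying by a power of `f`. -/
theorem exists_pow_smul_eq_res (M : X.Modules) [M.IsQuasicoherent] {U : X.Opens}
    (hU : IsAffineOpen U) (f : Γ(X, U)) (s : Γ(M, X.basicOpen f)) :
    ∃ (n : ℕ) (m : Γ(M, U)),
      (X.presheaf.map (homOfLE (X.basicOpen_le f)).op f) ^ n • s =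
        res M (X.basicOpen_le f) m := by
  have e1 : hU.fromSpec ''ᵁ (PrimeSpectrum.basicOpen f) = X.basicOpen f :=
    hU.fromSpec_image_basicOpen f
  have e2 : hU.fromSpec ''ᵁ ⊤ = U := fromSpec_image_top hU
  have hloc := isLocalizing_restrict_fromSpec M hU f
  let s' : Γ(M.restrict hU.fromSpec, PrimeSpectrum.basicOpen f) := res M e1.le s
  obtain ⟨⟨m', ⟨_, n, rfl⟩⟩, h⟩ := hloc.surj s'
  refine ⟨n, res M e2.ge m', ?_⟩
  apply res_injective_of_eq M e1
  rw [res_smul, res_res, res_res, map_pow, map_map_apply]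
  have h2 : (f ^ n) • s' = res M (hU.fromSpec.image_mono le_top) m' := h
  rw [smul_restrict_fromSpec M hU _ _ s', map_pow] at h2
  exact h2

set_option backward.isDefEq.respectTransparency.types false in
/-- For `M` quasi-coherent, `U` affine and `f ∈ Γ(X, U)`: a section over `U` vanishing on `D(f)`
is killed by a power of `f`. -/
theorem exists_pow_smul_eq_zero (M : X.Modules) [M.IsQuasicoherent] {U : X.Opens}
    (hU : IsAffineOpen U) (f : Γ(X, U)) (m : Γ(M, U)) (hm : res M (X.basicOpen_le f) m = 0) :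
    ∃ (n : ℕ), f ^ n • m = 0 := by
  have e1 : hU.fromSpec ''ᵁ (PrimeSpectrum.basicOpen f) = X.basicOpen f :=
    hU.fromSpec_image_basicOpen f
  have e2 : hU.fromSpec ''ᵁ ⊤ = U := fromSpec_image_top hU
  have hloc := isLocalizing_restrict_fromSpec M hU f
  let m' : Γ(M.restrict hU.fromSpec, ⊤) := res M e2.le m
  have h0 : (modulesSpecToSheaf.obj (M.restrict hU.fromSpec)).obj.map
      (PrimeSpectrum.basicOpen f).leTop.op m' = 0 := by
    change res M (hU.fromSpec.image_mono le_top) (res M e2.le m) = 0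
    rw [res_res, ← res_res M (X.basicOpen_le f) e1.le, hm, map_zero]
  obtain ⟨⟨_, n, rfl⟩, hc⟩ := (IsLocalizedModule.eq_zero_iff (.powers f) _).mp h0
  refine ⟨n, ?_⟩
  have h2 : (f ^ n) • m' = 0 := hc
  rw [smul_restrict_fromSpec M hU _ _ m'] at h2
  apply res_injective_of_eq M e2
  rw [res_smul, map_zero]
  exact h2

/-! ### Stalks -/

theorem germ_smul (M : X.Modules) (x : X) (U : X.Opens) (hx : x ∈ U) (r : Γ(X, U)) (m : Γ(M, U)) :
    M.presheaf.germ U x hx (r • m) = X.presheaf.germ U x hx r • M.presheaf.germ U x hx m :=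
  PresheafOfModules.germ_smul (R := X.presheaf) M.val x U hx r m

theorem germ_res (M : X.Modules) {U V : X.Opens} (h : V ≤ U) (x : X) (hx : x ∈ V) (m : Γ(M, U)) :
    M.presheaf.germ V x hx (res M h m) = M.presheaf.germ U x (h hx) m :=
  M.presheaf.germ_res_apply (homOfLE h) x hx m

theorem mem_basicOpen_pow {U : X.Opens} (f : Γ(X, U)) (n : ℕ) (x : X) (hx : x ∈ U)
    (hxf : x ∈ X.basicOpen f) : x ∈ X.basicOpen (f ^ n) := by
  rcases Nat.eq_zero_or_pos n with rfl | hn
  · rw [pow_zero, Scheme.basicOpen_of_isUnit _ isUnit_one]; exact hx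
  · rw [X.basicOpen_pow f hn]; exact hxf

/-- For `M` quasi-coherent and `x` in an affine open `U`, every element of the stalk `M_x`
is a germ of a section over `U` up to a function on `U` invertible at `x`. -/
theorem exists_smul_germ_eq (M : X.Modules) [M.IsQuasicoherent] {U : X.Opens}
    (hU : IsAffineOpen U) (x : X) (hx : x ∈ U) (t : M.presheaf.stalk x) :
    ∃ (r : Γ(X, U)) (m : Γ(M, U)), x ∈ X.basicOpen r ∧
      X.presheaf.germ U x hx r • t = M.presheaf.germ U x hx m := by
  obtain ⟨V, hVU, hxV, s, rfl⟩ := M.presheaf.exists_le_germ_eq t hx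
  obtain ⟨f, hfV, hxf⟩ := hU.exists_basicOpen_le ⟨x, hxV⟩ hx
  obtain ⟨n, m, h⟩ := exists_pow_smul_eq_res M hU f (res M hfV s)
  refine ⟨f ^ n, m, mem_basicOpen_pow f n x hx hxf, ?_⟩
  have := congrArg (M.presheaf.germ (X.basicOpen f) x hxf) h
  rw [germ_smul, germ_res, germ_res, map_pow] at this
  rw [map_pow, ← this]
  congr 2
  exact (X.presheaf.germ_res_apply (homOfLE (X.basicOpen_le f)) x hxf f).symm

/-- For `M` quasi-coherent and `x` in an affine open `U`, a section over `U` with zero germ at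
`x` is killed by a function on `U` invertible at `x`. -/
theorem exists_smul_eq_zero_of_germ_eq_zero (M : X.Modules) [M.IsQuasicoherent] {U : X.Opens}
    (hU : IsAffineOpen U) (x : X) (hx : x ∈ U) (m : Γ(M, U))
    (h : M.presheaf.germ U x hx m = 0) :
    ∃ (r : Γ(X, U)), x ∈ X.basicOpen r ∧ r • m = 0 := by
  have h' : M.presheaf.germ U x hx m = M.presheaf.germ U x hx 0 := by rw [h, map_zero]
  obtain ⟨W, hxW, iU, iV, e⟩ := M.presheaf.germ_eq x hx hx _ _ h'
  obtain ⟨f, hfW, hxf⟩ := hU.exists_basicOpen_le ⟨x, hxW⟩ hx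
  have h0 : res M (X.basicOpen_le f) m = 0 := by
    have : res M (leOfHom iU) m = 0 := by
      have e' : res M (leOfHom iU) m = res M (leOfHom iV) 0 := e
      rw [e', map_zero]
    rw [← res_res M (leOfHom iU) hfW, this, map_zero]
  obtain ⟨n, hn⟩ := exists_pow_smul_eq_zero M hU f m h0
  exact ⟨f ^ n, mem_basicOpen_pow f n x hx hxf, hn⟩

/-- `M_x` as a `Γ(X,U)`-module through the germ map `Γ(X,U) → O_{X,x}`. -/
noncomputable abbrev stalkModule (M : X.Modules) (U : X.Opens) (x : X) (hx : x ∈ U) :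
    Module Γ(X, U) (M.presheaf.stalk x) :=
  Module.compHom _ (X.presheaf.germ U x hx).hom

/-- The germ map as a `Γ(X,U)`-linear map. -/
noncomputable def germₗ (M : X.Modules) (U : X.Opens) (x : X) (hx : x ∈ U) :
    letI := stalkModule M U x hx
    Γ(M, U) →ₗ[Γ(X, U)] M.presheaf.stalk x :=
  letI := stalkModule M U x hx
  { toFun := fun m => M.presheaf.germ U x hx m
    map_add' := fun a b => map_add _ a b
    map_smul' := fun r m => germ_smul M x U hx r m }

theorem mem_basicOpen_iff_notMem_primeIdealOf {U : X.Opens} (hU : IsAffineOpen U)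
    (x : X) (hxU : x ∈ U) (f : Γ(X, U)) :
    x ∈ X.basicOpen f ↔ f ∉ (hU.primeIdealOf ⟨x, hxU⟩).asIdeal := by
  let : Algebra Γ(X, U) (X.presheaf.stalk x) :=
    TopCat.Presheaf.algebra_section_stalk X.presheaf ⟨x, hxU⟩
  have := hU.isLocalization_stalk ⟨x, hxU⟩
  rw [Scheme.mem_basicOpen _ _ _ hxU]
  exact IsLocalization.AtPrime.isUnit_to_map_iff (X.presheaf.stalk x)
    (hU.primeIdealOf ⟨x, hxU⟩).asIdeal f

/-! ### Packaged forms -/


/-- For `M` quasi-coherent and `x` in an affine open `U`, the germ map `Γ(M,U) → M_x` exhibits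
`M_x` as the localization of `Γ(M,U)` at the prime ideal of `x`. -/
theorem isLocalizedModule_germ (M : X.Modules) [M.IsQuasicoherent] {U : X.Opens}
    (hU : IsAffineOpen U) (x : X) (hx : x ∈ U) :
    letI := stalkModule M U x hx
    IsLocalizedModule (hU.primeIdealOf ⟨x, hx⟩).asIdeal.primeCompl (germₗ M U x hx) := by
  let _ := stalkModule M U x hx
  refine ⟨fun s => ?_, fun t => ?_, fun {m₁ m₂} h => ?_⟩
  · have hs : IsUnit (X.presheaf.germ U x hx s.1) := by
      rw [← Scheme.mem_basicOpen _ _ _ hx, mem_basicOpen_iff_notMem_primeIdealOf hU x hx]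
      exact s.2
    rw [Module.End.isUnit_iff]
    obtain ⟨u, hu⟩ := hs
    refine ⟨fun a b hab => ?_, fun b => ⟨(↑u⁻¹ : X.presheaf.stalk x) • b, ?_⟩⟩
    · have hab' : (X.presheaf.germ U x hx s.1) • a = (X.presheaf.germ U x hx s.1) • b := hab
      rw [← hu] at hab'
      have := congrArg (fun z => (↑u⁻¹ : X.presheaf.stalk x) • z) hab'
      simpa only [smul_smul, Units.inv_mul, one_smul] using this
    · change (X.presheaf.germ U x hx s.1) • ((↑u⁻¹ : X.presheaf.stalk x) • b) = b
      rw [← hu, smul_smul, Units.mul_inv, one_smul]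
  · obtain ⟨r, m, hr, h⟩ := exists_smul_germ_eq M hU x hx t
    exact ⟨⟨m, ⟨r, (mem_basicOpen_iff_notMem_primeIdealOf hU x hx r).mp hr⟩⟩, h⟩
  · have h0 : M.presheaf.germ U x hx (m₁ - m₂) = 0 := by
      rw [map_sub, sub_eq_zero]; exact h
    obtain ⟨r, hr, h⟩ := exists_smul_eq_zero_of_germ_eq_zero M hU x hx _ h0
    refine ⟨⟨r, (mem_basicOpen_iff_notMem_primeIdealOf hU x hx r).mp hr⟩, ?_⟩
    rw [smul_sub, sub_eq_zero] at h
    exact h



/-- `Γ(M, V)` as a `Γ(X, U)`-module for `V ≤ U`. -/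
noncomputable abbrev sectionsModule (M : X.Modules) {U V : X.Opens} (h : V ≤ U) :
    Module Γ(X, U) Γ(M, V) :=
  Module.compHom _ (X.presheaf.map (homOfLE h).op).hom

/-- The restriction map as a `Γ(X,U)`-linear map. -/
noncomputable def resₗ (M : X.Modules) {U V : X.Opens} (h : V ≤ U) :
    letI := sectionsModule M h
    Γ(M, U) →ₗ[Γ(X, U)] Γ(M, V) :=
  letI := sectionsModule M h
  { toFun := fun m => res M h m
    map_add' := fun a b => map_add _ a b
    map_smul' := fun r m => res_smul M h r m }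

/-- For `M` quasi-coherent, `U` affine, `f ∈ Γ(X,U)`: `Γ(M,U) → Γ(M,D(f))` is the localization
away from `f`. -/
theorem isLocalizedModule_res_basicOpen (M : X.Modules) [M.IsQuasicoherent] {U : X.Opens}
    (hU : IsAffineOpen U) (f : Γ(X, U)) :
    letI := sectionsModule M (X.basicOpen_le f)
    IsLocalizedModule (.powers f) (resₗ M (X.basicOpen_le f)) := by
  let _ := sectionsModule M (X.basicOpen_le f)
  refine ⟨fun s => ?_, fun t => ?_, fun {m₁ m₂} h => ?_⟩
  · obtain ⟨_, n, rfl⟩ := s
    have hs : IsUnit (X.presheaf.map (homOfLE (X.basicOpen_le f)).op (f ^ n)) := by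
      rw [map_pow]
      exact (RingedSpace.isUnit_res_basicOpen _ f).pow n
    rw [Module.End.isUnit_iff]
    obtain ⟨u, hu⟩ := hs
    refine ⟨fun a b hab => ?_, fun b => ⟨(↑u⁻¹ : Γ(X, X.basicOpen f)) • b, ?_⟩⟩
    · have hab' : (X.presheaf.map (homOfLE (X.basicOpen_le f)).op (f ^ n)) • a =
        (X.presheaf.map (homOfLE (X.basicOpen_le f)).op (f ^ n)) • b := hab
      rw [← hu] at hab'
      have := congrArg (fun z => (↑u⁻¹ : Γ(X, X.basicOpen f)) • z) hab'
      simpa only [smul_smul, Units.inv_mul, one_smul] using this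
    · change (X.presheaf.map (homOfLE (X.basicOpen_le f)).op (f ^ n)) •
        ((↑u⁻¹ : Γ(X, X.basicOpen f)) • b) = b
      rw [← hu, smul_smul, Units.mul_inv, one_smul]
  · obtain ⟨n, m, h⟩ := exists_pow_smul_eq_res M hU f t
    refine ⟨⟨m, ⟨f ^ n, n, rfl⟩⟩, ?_⟩
    rw [← map_pow] at h
    exact h
  · have h0 : res M (X.basicOpen_le f) (m₁ - m₂) = 0 := by
      rw [map_sub, sub_eq_zero]; exact h
    obtain ⟨n, h⟩ := exists_pow_smul_eq_zero M hU f _ h0
    refine ⟨⟨f ^ n, n, rfl⟩, ?_⟩
    rw [smul_sub, sub_eq_zero] at h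
    exact h

/-! ### Vanishing of germs and stalks -/

theorem eq_zero_of_isUnit_smul {R N : Type*} [Ring R] [AddCommGroup N] [Module R N] {r : R}
    (hr : IsUnit r) {t : N} (h : r • t = 0) : t = 0 := by
  obtain ⟨u, rfl⟩ := hr
  have h2 := congrArg (fun z => (↑u⁻¹ : R) • z) h
  simpa only [smul_smul, Units.inv_mul, one_smul, smul_zero] using h2

theorem isUnit_germ_of_mem_basicOpen {U : X.Opens} (r : Γ(X, U)) (x : X) (hx : x ∈ U)
    (hr : x ∈ X.basicOpen r) : IsUnit (X.presheaf.germ U x hx r) :=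
  (Scheme.mem_basicOpen _ _ _ hx).mp hr

/-- For `M` quasi-coherent, `U` affine: the germ at `x` of a section `m` over `U` vanishes iff
`m` is killed by a function invertible at `x`. -/
theorem germ_eq_zero_iff (M : X.Modules) [M.IsQuasicoherent] {U : X.Opens}
    (hU : IsAffineOpen U) (x : X) (hx : x ∈ U) (m : Γ(M, U)) :
    M.presheaf.germ U x hx m = 0 ↔ ∃ (r : Γ(X, U)), x ∈ X.basicOpen r ∧ r • m = 0 := by
  refine ⟨exists_smul_eq_zero_of_germ_eq_zero M hU x hx m, ?_⟩
  rintro ⟨r, hr, hrm⟩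
  have := congrArg (M.presheaf.germ U x hx) hrm
  rw [germ_smul, map_zero] at this
  exact eq_zero_of_isUnit_smul (isUnit_germ_of_mem_basicOpen r x hx hr) this

/-- For `M` quasi-coherent, `U` affine: the stalk at `x ∈ U` vanishes iff all germs of sections
over `U` vanish. -/
theorem stalk_subsingleton_iff_germ (M : X.Modules) [M.IsQuasicoherent] {U : X.Opens}
    (hU : IsAffineOpen U) (x : X) (hx : x ∈ U) :
    Subsingleton (M.presheaf.stalk x) ↔ ∀ m : Γ(M, U), M.presheaf.germ U x hx m = 0 := by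
  refine ⟨fun h m => Subsingleton.elim _ _, fun h => ⟨fun a b => ?_⟩⟩
  suffices h' : ∀ t : M.presheaf.stalk x, t = 0 by rw [h' a, h' b]
  intro t
  obtain ⟨r, m, hr, hrt⟩ := exists_smul_germ_eq M hU x hx t
  rw [h m] at hrt
  exact eq_zero_of_isUnit_smul (isUnit_germ_of_mem_basicOpen r x hx hr) hrt

theorem stalk_subsingleton_iff (M : X.Modules) [M.IsQuasicoherent] {U : X.Opens}
    (hU : IsAffineOpen U) (x : X) (hx : x ∈ U) :
    Subsingleton (M.presheaf.stalk x) ↔
      ∀ m : Γ(M, U), ∃ (r : Γ(X, U)), x ∈ X.basicOpen r ∧ r • m = 0 := by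
  rw [stalk_subsingleton_iff_germ M hU x hx]
  exact forall_congr' fun m => germ_eq_zero_iff M hU x hx m

end Groth.Agent.Lib.Helper29.QCoh
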