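import Mathlib
universe u
open scoped TensorProduct
open TensorProduct

namespace Groth.Agent.Lib.Helper29.QCoh

/-- Transport of cotangent spaces along a ring isomorphism. -/
theorem exists_cotangent_equiv {B T : Type*} [CommRing B] [CommRing T] (θ : B ≃+* T)
    (I₀ : Ideal B) (K : Ideal T) (h : I₀ = K.comap (θ : B →+* T)) :
    ∃ E : I₀.Cotangent ≃+ K.Cotangent, ∀ (b : B) (x : I₀.Cotangent), E (b • x) = θ b • E x := by
  let θa : B →ₐ[ℤ] T := (θ : B →+* T).toIntAlgHom
  let θb : T →ₐ[ℤ] B := (θ.symm : T →+* B).toIntAlgHom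
  have h1 : I₀ ≤ K.comap θa := h.le
  have h2 : K ≤ I₀.comap θb := by
    intro t ht
    rw [h]
    change θ (θ.symm t) ∈ K
    rw [θ.apply_symm_apply]
    exact ht
  let f := Ideal.mapCotangent I₀ K θa h1
  let g := Ideal.mapCotangent K I₀ θb h2
  have hf : ∀ x : I₀, f (I₀.toCotangent x) = K.toCotangent ⟨θ x, h1 x.2⟩ := fun x =>
    Ideal.mapCotangent_toCotangent I₀ K θa h1 x
  have hg : ∀ x : K, g (K.toCotangent x) = I₀.toCotangent ⟨θ.symm x, h2 x.2⟩ := fun x =>
    Ideal.mapCotangent_toCotangent K I₀ θb h2 x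
  refine ⟨{ toFun := f, invFun := g, left_inv := ?_, right_inv := ?_, map_add' := f.map_add }, ?_⟩
  · intro x
    obtain ⟨x, rfl⟩ := I₀.toCotangent_surjective x
    rw [hf, hg]
    congr 1
    exact Subtype.ext (θ.symm_apply_apply _)
  · intro x
    obtain ⟨x, rfl⟩ := K.toCotangent_surjective x
    rw [hg, hf]
    congr 1
    exact Subtype.ext (θ.apply_symm_apply _)
  · intro b x
    obtain ⟨x, rfl⟩ := I₀.toCotangent_surjective x
    change f (b • I₀.toCotangent x) = θ b • f (I₀.toCotangent x)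
    rw [← map_smul, hf, hf, ← map_smul]
    congr 1
    exact Subtype.ext (map_mul θ b x)

/-- For a surjective ring map `ψ : B → C` with kernel `I₀`, `C ⊗_B N ≃ I₀/I₀²` when `N ≃ I₀`. -/
theorem exists_tensor_ker_equiv_cotangent {B C : Type*} [CommRing B] [CommRing C] [Algebra B C]
    (hψ : Function.Surjective (algebraMap B C))
    {N : Type*} [AddCommGroup N] [Module B N] (eN : N ≃ₗ[B] RingHom.ker (algebraMap B C)) :
    Nonempty ((C ⊗[B] N) ≃ₗ[B] (RingHom.ker (algebraMap B C)).Cotangent) := by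
  let I₀ : Ideal B := RingHom.ker (algebraMap B C)
  have hsurj : Function.Surjective (Algebra.ofId B C) := hψ
  let e1 : (B ⧸ RingHom.ker (Algebra.ofId B C)) ≃ₐ[B] C :=
    Ideal.quotientKerAlgEquivOfSurjective hsurj
  have hker : RingHom.ker (Algebra.ofId B C) = I₀ := rfl
  let e2 : (B ⧸ I₀) ≃ₗ[B] C := e1.toLinearEquiv
  exact ⟨TensorProduct.congr e2.symm eN ≪≫ₗ TensorProduct.quotTensorEquivQuotSMul I₀ I₀⟩

theorem kaehler_smul_eq (R A : Type*) [CommRing R] [CommRing A] [Algebra R A] (t : A ⊗[R] A)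
    (ω : Ω[A⁄R]) : t • ω = (Algebra.TensorProduct.lmul' R t) • ω := by
  have h1 : t - (Algebra.TensorProduct.lmul' R t) ⊗ₜ[R] (1 : A) ∈ KaehlerDifferential.ideal R A := by
    rw [KaehlerDifferential.ideal, RingHom.mem_ker, map_sub]
    simp
  have h2 : (t - (Algebra.TensorProduct.lmul' R t) ⊗ₜ[R] (1 : A)) • ω = 0 :=
    Ideal.Cotangent.smul_eq_zero_of_mem h1 ω
  rw [sub_smul, sub_eq_zero] at h2
  rw [h2]
  have : (Algebra.TensorProduct.lmul' R t) ⊗ₜ[R] (1 : A) = (Algebra.TensorProduct.lmul' R t) • (1 : A ⊗[R] A) := by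
    rw [Algebra.TensorProduct.one_def, TensorProduct.smul_tmul', smul_eq_mul, mul_one]
  rw [this, smul_assoc, one_smul]

/-- The algebra behind `Ω_{Spec A/Spec R} = Ω_{A/R}~`. -/
theorem exists_equiv_kaehler (R A : Type*) [CommRing R] [CommRing A] [Algebra R A]
    {B C : Type*} [CommRing B] [CommRing C] [Algebra B C]
    (θ : B ≃+* A ⊗[R] A) (γ : C ≃+* A)
    (hcomm : ∀ b, γ (algebraMap B C b) = Algebra.TensorProduct.lmul' R (θ b))
    {N : Type*} [AddCommGroup N] [Module B N] (eN : N ≃ₗ[B] RingHom.ker (algebraMap B C)) :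
    ∃ E : (C ⊗[B] N) ≃+ Ω[A⁄R], ∀ (c : C) (x : C ⊗[B] N), E (c • x) = γ c • E x := by
  have hψ : Function.Surjective (algebraMap B C) := by
    intro c
    refine ⟨θ.symm ((γ c) ⊗ₜ[R] (1 : A)), γ.injective ?_⟩
    rw [hcomm, θ.apply_symm_apply]
    simp
  obtain ⟨F⟩ := exists_tensor_ker_equiv_cotangent hψ eN
  have hI : RingHom.ker (algebraMap B C) =
      (KaehlerDifferential.ideal R A).comap (θ : B →+* A ⊗[R] A) := by
    ext b
    rw [RingHom.mem_ker, Ideal.mem_comap, KaehlerDifferential.ideal, RingHom.mem_ker]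
    change _ ↔ Algebra.TensorProduct.lmul' R (θ b) = 0
    rw [← hcomm, map_eq_zero_iff γ γ.injective]
  obtain ⟨E', hE'⟩ := exists_cotangent_equiv θ _ (KaehlerDifferential.ideal R A) hI
  refine ⟨F.toAddEquiv.trans E', fun c x => ?_⟩
  obtain ⟨b, rfl⟩ := hψ c
  change E' (F (algebraMap B C b • x)) = _
  rw [algebraMap_smul, map_smul, hE', hcomm]
  exact kaehler_smul_eq R A (θ b) _

end Groth.Agent.Lib.Helper29.QCoh
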