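import Groth.Agent.Lib.Helper29.QCohIdealMod
import Groth.Prelude.Def_Omega2
import Groth.Agent.Lib.Helper29.KaehlerAlg
universe u
open CategoryTheory CategoryTheory.Limits AlgebraicGeometry Opposite TopologicalSpace
open scoped TensorProduct
open TensorProduct

namespace Groth.Agent.Lib.Helper29.QCoh
open Scheme.Modules

section
variable (R A : Type u) [CommRing R] [CommRing A] [Algebra R A]

/-- The structure morphism `Spec A ⟶ Spec R`. -/
noncomputable abbrev specMapAlg : Spec (CommRingCat.of A) ⟶ Spec (CommRingCat.of R) :=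
  Spec.map (CommRingCat.ofHom (algebraMap R A))

/-- Global functions on `Spec A ×_{Spec R} Spec A` are `A ⊗[R] A`. -/
noncomputable def ΓPullbackIso :
    Γ(pullback (specMapAlg R A) (specMapAlg R A), ⊤) ≅ CommRingCat.of (A ⊗[R] A) :=
  (Scheme.Γ.mapIso (pullbackSpecIso R A A).op).symm ≪≫
    Scheme.ΓSpecIso (CommRingCat.of (A ⊗[R] A))

theorem ΓPullbackIso_hom :
    (ΓPullbackIso R A).hom = (pullbackSpecIso R A A).inv.appTop ≫
      (Scheme.ΓSpecIso (CommRingCat.of (A ⊗[R] A))).hom := rfl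

theorem ΓPullbackIso_comm :
    (pullback.diagonal (specMapAlg R A)).appTop ≫ (Scheme.ΓSpecIso (CommRingCat.of A)).hom =
      (ΓPullbackIso R A).hom ≫ CommRingCat.ofHom
        (Algebra.TensorProduct.lmul' R : A ⊗[R] A →ₐ[R] A).toRingHom := by
  have h := diagonal_SpecMap R A
  have h2 : (pullback.diagonal (specMapAlg R A)).appTop =
      (pullbackSpecIso R A A).inv.appTop ≫
        (Spec.map (CommRingCat.ofHom
          (Algebra.TensorProduct.lmul' R : A ⊗[R] A →ₐ[R] A).toRingHom)).appTop := by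
    rw [← Scheme.Hom.comp_appTop]
    exact congrArg Scheme.Hom.appTop h
  rw [h2, ΓPullbackIso_hom, Category.assoc, Category.assoc, Scheme.ΓSpecIso_naturality]

/-- Global functions on `Spec A ×_{Spec R} Spec A` are `A ⊗[R] A`. -/
noncomputable def ΓPullbackRingEquiv :
    Γ(pullback (specMapAlg R A) (specMapAlg R A), ⊤) ≃+* A ⊗[R] A :=
  (ΓPullbackIso R A).commRingCatIsoToRingEquiv

theorem ΓPullbackRingEquiv_comm
    (b : Γ(pullback (specMapAlg R A) (specMapAlg R A), ⊤)) :
    ΓSpecRingEquiv (CommRingCat.of A) ((pullback.diagonal (specMapAlg R A)).appTop.hom b) =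
      Algebra.TensorProduct.lmul' R (ΓPullbackRingEquiv R A b) :=
  congrArg (fun k => k.hom b) (ΓPullbackIso_comm R A)

end

end Groth.Agent.Lib.Helper29.QCoh

namespace Groth.Agent.Lib.Helper29.QCoh
open Scheme.Modules

section
variable (R A : Type u) [CommRing R] [CommRing A] [Algebra R A]

theorem appLE_top_top {X Y : Scheme.{u}} (f : X ⟶ Y) (e : (⊤ : X.Opens) ≤ f ⁻¹ᵁ ⊤) :
    f.appLE ⊤ ⊤ e = f.appTop :=
  Scheme.Hom.appLE_eq_app f

/-- A quasi-coherent module on `Spec S` whose global sections are semilinearly isomorphic to an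
`S`-module `W` is isomorphic to `W~`. -/
theorem nonempty_iso_tilde_of_addEquiv {S : CommRingCat.{u}} (N : (Spec S).Modules)
    [N.IsQuasicoherent] (W : ModuleCat.{u} S) (E : Γ(N, ⊤) ≃+ W)
    (hE : ∀ (c : Γ(Spec S, ⊤)) (s : Γ(N, ⊤)), E (c • s) = ΓSpecRingEquiv S c • E s) :
    Nonempty (N ≅ tilde W) := by
  let L : Γ(N, ⊤) ≃ₗ[S] W :=
    { E with
      map_smul' := fun r s => by
        have h1 : r • s = ((ΓSpecRingEquiv S).symm r) • s := by
          have := smul_top_eq N ((ΓSpecRingEquiv S).symm r) s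
          rw [RingEquiv.apply_symm_apply] at this
          exact this.symm
        change E (r • s) = r • E s
        rw [h1, hE, RingEquiv.apply_symm_apply] }
  let L' : moduleSpecΓFunctor.obj N ≅ W := L.toModuleIso
  exact ⟨(asIso (fromTildeΓ N)).symm ≪≫ (tilde.functor S).mapIso L'⟩

/-- The diagonal of `Spec A ⟶ Spec R`. -/
noncomputable abbrev diagSpec :
    Spec (CommRingCat.of A) ⟶ pullback (specMapAlg R A) (specMapAlg R A) :=
  pullback.diagonal (specMapAlg R A)

theorem exists_addEquiv_sections_omega :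
    ∃ E : Γ((Scheme.Modules.pullback (diagSpec R A)).obj (ClSub.idealMod (diagSpec R A).ker), ⊤) ≃+
        Ω[A⁄R],
      ∀ (c : Γ(Spec (CommRingCat.of A), ⊤))
        (s : Γ((Scheme.Modules.pullback (diagSpec R A)).obj
          (ClSub.idealMod (diagSpec R A).ker), ⊤)),
        E (c • s) = ΓSpecRingEquiv (CommRingCat.of A) c • E s := by
  have hU : IsAffineOpen (⊤ : (Spec (CommRingCat.of A)).Opens) := isAffineOpen_top _
  have hV : IsAffineOpen (⊤ : (pullback (specMapAlg R A) (specMapAlg R A)).Opens) :=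
    isAffineOpen_top _
  have e : (⊤ : (Spec (CommRingCat.of A)).Opens) ≤ (diagSpec R A) ⁻¹ᵁ ⊤ := le_rfl
  let _ : Algebra Γ(pullback (specMapAlg R A) (specMapAlg R A), ⊤)
      Γ(Spec (CommRingCat.of A), ⊤) := ((diagSpec R A).appLE ⊤ ⊤ e).hom.toAlgebra
  have halg : ∀ b : Γ(pullback (specMapAlg R A) (specMapAlg R A), ⊤),
      algebraMap Γ(pullback (specMapAlg R A) (specMapAlg R A), ⊤)
        Γ(Spec (CommRingCat.of A), ⊤) b = (diagSpec R A).appTop.hom b := fun b => by
    change ((diagSpec R A).appLE ⊤ ⊤ e).hom b = _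
    rw [appLE_top_top]
  have hker : (diagSpec R A).ker.ideal ⟨⊤, hV⟩ =
      RingHom.ker (algebraMap Γ(pullback (specMapAlg R A) (specMapAlg R A), ⊤)
        Γ(Spec (CommRingCat.of A), ⊤)) := by
    rw [Scheme.Hom.ker_apply]
    ext b
    rw [RingHom.mem_ker, RingHom.mem_ker, halg]
    rfl
  obtain ⟨E, hE⟩ := exists_equiv_kaehler R A (ΓPullbackRingEquiv R A)
    (ΓSpecRingEquiv (CommRingCat.of A)) (fun b => by
      rw [halg]
      exact ΓPullbackRingEquiv_comm R A b)
    (idealModSectionsEquiv (diagSpec R A).ker ⟨⊤, hV⟩ ≪≫ₗ LinearEquiv.ofEq _ _ hker)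
  refine ⟨(pullbackSectionsEquiv (diagSpec R A) (ClSub.idealMod (diagSpec R A).ker)
    hU hV e).toAddEquiv.trans E, fun c s => ?_⟩
  have h := (pullbackSectionsEquiv (diagSpec R A) (ClSub.idealMod (diagSpec R A).ker)
    hU hV e).map_smul c s
  change E (pullbackSectionsEquiv (diagSpec R A) (ClSub.idealMod (diagSpec R A).ker)
    hU hV e (c • s)) = _
  rw [h]
  exact hE c _

theorem nonempty_omega_spec_iso :
    Nonempty (Omega.sheaf (specMapAlg R A) ≅
      tilde (R := CommRingCat.of A) (ModuleCat.of A (Ω[A⁄R]))) := by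
  obtain ⟨E, hE⟩ := exists_addEquiv_sections_omega R A
  exact nonempty_iso_tilde_of_addEquiv
    ((Scheme.Modules.pullback (diagSpec R A)).obj (ClSub.idealMod (diagSpec R A).ker))
    (ModuleCat.of (CommRingCat.of A) (Ω[A⁄R])) E hE

end

end Groth.Agent.Lib.Helper29.QCoh
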