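import Groth.Agent.Lib.Helper29.QCohAss
universe u
open CategoryTheory CategoryTheory.Limits AlgebraicGeometry Opposite TopologicalSpace

namespace Groth.Agent.Lib.Helper29.QCoh

variable {X : Scheme.{u}}



/-- The structure sheaf as an object of `X.Modules`. -/
noncomputable abbrev unitM (X : Scheme.{u}) : X.Modules := SheafOfModules.unit X.ringCatSheaf

/-- A function on `V` as a section of the structure sheaf viewed as a module. -/
def toUnit {V : X.Opens} (a : Γ(X, V)) : Γ(unitM X, V) := a

theorem toUnit_eq_smul_one {V : X.Opens} (a : Γ(X, V)) :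
    toUnit a = a • toUnit (1 : Γ(X, V)) := by
  change a = a * 1
  rw [mul_one]

theorem toUnit_surjective {V : X.Opens} (s : Γ(unitM X, V)) : ∃ a : Γ(X, V), toUnit a = s :=
  ⟨s, rfl⟩

theorem res_toUnit_one {U V : X.Opens} (h : V ≤ U) :
    res (unitM X) h (toUnit (1 : Γ(X, U))) = toUnit (1 : Γ(X, V)) :=
  map_one (X.presheaf.map (homOfLE h).op).hom

theorem app_res {M N : X.Modules} (φ : M ⟶ N) {U V : X.Opens} (h : V ≤ U) (m : Γ(M, U)) :
    φ.app V (res M h m) = res N h (φ.app U m) := by
  have := φ.mapPresheaf.naturality (homOfLE h).op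
  exact congrArg (fun k => k.hom m) this

/-- The image of an element of the stalk of the structure sheaf under `φ : O_X ⟶ N` is a
multiple of the germ of the global section `φ(1)`. -/
theorem stalkMap_unit_eq_smul {N : X.Modules} (φ : unitM X ⟶ N) (x : X)
    (u : (unitM X).presheaf.stalk x) :
    ∃ a : X.presheaf.stalk x,
      stalkMap φ x u = a • N.presheaf.germ ⊤ x trivial (φ.app ⊤ (toUnit 1)) := by
  obtain ⟨V, hxV, s, rfl⟩ := (unitM X).presheaf.exists_germ_eq u
  obtain ⟨a, rfl⟩ := toUnit_surjective s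
  refine ⟨X.presheaf.germ V x hxV a, ?_⟩
  rw [stalkMap_germ, toUnit_eq_smul_one, Scheme.Modules.Hom.app_smul, germ_smul,
    ← res_toUnit_one (le_top : V ≤ ⊤), app_res, germ_res]



/-- The free `O_X`-module on `I`, as an object of `X.Modules`. -/
noncomputable abbrev freeM (X : Scheme.{u}) (I : Type u) : X.Modules :=
  SheafOfModules.free (R := X.ringCatSheaf) I


noncomputable abbrev ιFreeM (X : Scheme.{u}) {I : Type u} (i : I) : unitM X ⟶ freeM X I :=
  SheafOfModules.ιFree (R := X.ringCatSheaf) i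

open Classical in
/-- The projections of a free module. -/
noncomputable def πFreeM (X : Scheme.{u}) {I : Type u} (i : I) : freeM X I ⟶ unitM X :=
  Cofan.IsColimit.desc (SheafOfModules.isColimitFreeCofan (R := X.ringCatSheaf) I)
    (fun j => if j = i then 𝟙 (unitM X) else 0)

open Classical in
theorem ιFreeM_πFreeM (X : Scheme.{u}) {I : Type u} (i j : I) :
    ιFreeM X j ≫ πFreeM X i = if j = i then 𝟙 (unitM X) else 0 :=
  Cofan.IsColimit.fac (SheafOfModules.isColimitFreeCofan (R := X.ringCatSheaf) I) _ j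

theorem sum_πFreeM_ιFreeM (X : Scheme.{u}) {I : Type u} [Fintype I] :
    ∑ i : I, πFreeM X i ≫ ιFreeM X i = 𝟙 (freeM X I) := by
  classical
  apply Cofan.IsColimit.hom_ext (SheafOfModules.isColimitFreeCofan (R := X.ringCatSheaf) I)
  intro j
  change ιFreeM X j ≫ _ = ιFreeM X j ≫ _
  rw [Preadditive.comp_sum, Category.comp_id]
  rw [Finset.sum_eq_single j]
  · rw [← Category.assoc, ιFreeM_πFreeM, if_pos rfl, Category.id_comp]
  · intro i _ hij
    rw [← Category.assoc, ιFreeM_πFreeM, if_neg (Ne.symm hij), zero_comp]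
  · intro h; exact absurd (Finset.mem_univ j) h


instance (x : X) : (stalkFunctor X x).Additive := by
  have : (TopCat.Sheaf.forget AddCommGrpCat.{u} X ⋙
      TopCat.Presheaf.stalkFunctor AddCommGrpCat.{u} x).Additive := inferInstance
  exact inferInstanceAs ((toSheafAb X) ⋙ (TopCat.Sheaf.forget AddCommGrpCat.{u} X ⋙
      TopCat.Presheaf.stalkFunctor AddCommGrpCat.{u} x)).Additive

theorem stalkMap_comp {M N P : X.Modules} (φ : M ⟶ N) (ψ : N ⟶ P) (x : X) :
    stalkMap (φ ≫ ψ) x = stalkMap φ x ≫ stalkMap ψ x := (stalkFunctor X x).map_comp φ ψ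

theorem stalkMap_comp_apply {M N P : X.Modules} (φ : M ⟶ N) (ψ : N ⟶ P) (x : X)
    (t : M.presheaf.stalk x) :
    stalkMap (φ ≫ ψ) x t = stalkMap ψ x (stalkMap φ x t) := by
  rw [stalkMap_comp]; rfl

theorem stalkMap_id (M : X.Modules) (x : X) : stalkMap (𝟙 M) x = 𝟙 _ :=
  (stalkFunctor X x).map_id M

theorem stalkMap_sum {M N : X.Modules} {ι : Type*} (s : Finset ι) (φ : ι → (M ⟶ N)) (x : X) :
    stalkMap (∑ i ∈ s, φ i) x = ∑ i ∈ s, stalkMap (φ i) x :=
  (stalkFunctor X x).map_sum φ s

/-- For `π : O_X^I ⟶ N` with `I` finite, the image of `π` on stalks is contained in the span of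
the germs of the global sections `π(e_i)`. -/
theorem stalkMap_free_mem_span {N : X.Modules} {I : Type u} [Fintype I] (π : freeM X I ⟶ N)
    (x : X) (t : (freeM X I).presheaf.stalk x) :
    stalkMap π x t ∈ Submodule.span (X.presheaf.stalk x)
      (Set.range fun i : I => N.presheaf.germ ⊤ x trivial ((ιFreeM X i ≫ π).app ⊤ (toUnit 1))) := by
  have h1 : π = ∑ i : I, πFreeM X i ≫ (ιFreeM X i ≫ π) := by
    conv_lhs => rw [← Category.id_comp π, ← sum_πFreeM_ιFreeM X, Preadditive.sum_comp]
    simp only [Category.assoc]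
  have happ : ∀ (s : Finset I) (φ : I → ((freeM X I).presheaf.stalk x ⟶ N.presheaf.stalk x)),
      (∑ i ∈ s, φ i) t = ∑ i ∈ s, (φ i) t := by
    intro s φ
    have := map_sum (AddCommGrpCat.homAddEquiv (M := (freeM X I).presheaf.stalk x)
      (N := N.presheaf.stalk x)) φ s
    have h3 : (∑ i ∈ s, φ i).hom = ∑ i ∈ s, (φ i).hom := this
    change (∑ i ∈ s, φ i).hom t = _
    rw [h3, AddMonoidHom.finsetSum_apply]
  have h2 : stalkMap π x t = ∑ i : I, stalkMap (πFreeM X i ≫ (ιFreeM X i ≫ π)) x t := by
    conv_lhs => rw [h1, stalkMap_sum]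
    exact happ _ _
  rw [h2]
  refine Submodule.sum_mem _ fun i _ => ?_
  rw [stalkMap_comp_apply]
  obtain ⟨a, ha⟩ := stalkMap_unit_eq_smul (ιFreeM X i ≫ π) x (stalkMap (πFreeM X i) x t)
  rw [ha]
  exact Submodule.smul_mem _ _ (Submodule.subset_span ⟨i, rfl⟩)



set_option backward.isDefEq.respectTransparency false in
/-- A finite type module has, locally on an affine open cover, finitely many generating
sections. -/
theorem exists_isOpenCover_generatingSections (M : X.Modules) [M.IsFiniteType] :
    ∃ (ι : Type u) (U : ι → X.Opens) (σ : ∀ i, (M.restrict (U i).ι).GeneratingSections),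
      IsOpenCover U ∧ (∀ i, IsAffineOpen (U i)) ∧ ∀ i, Finite (σ i).I := by
  obtain ⟨q, hq⟩ := SheafOfModules.IsFiniteType.exists_localGeneratorsData M
  choose κ hsub heq using fun i ↦ Opens.isBasis_iff_cover.mp X.isBasis_affineOpens (q.X i)
  refine ⟨Σ (i : q.I), κ i, fun j ↦ j.2, fun i ↦ ?_, ?_, ?_, ?_⟩
  · let u := X.homOfLE (U := i.2) (V := q.X i.1) (by simp [heq, le_sSup])
    have : PreservesColimitsOfSize.{u, u} (Scheme.Modules.restrictFunctor u) := inferInstance
    let F := (Scheme.Modules.overEquiv (q.X i.1)).functor ⋙ Scheme.Modules.restrictFunctor u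
    let iso : SheafOfModules.overFunctor X.ringCatSheaf _ ⋙ F ≅ Scheme.Modules.restrictFunctor
      (Scheme.Opens.ι i.2.1) := (Functor.associator _ _ _).symm ≪≫
        Functor.isoWhiskerRight (Scheme.Modules.overFunctorEquiv _) _ ≪≫
        (Scheme.Modules.restrictFunctorComp _ _).symm ≪≫
        (Scheme.Modules.restrictFunctorCongr (by simp [u]))
    exact ((q.generators i.1).map F (Scheme.Modules.restrictUnitIso _).symm).ofEpi (iso.app M).hom
  · have cov := q.coversTop
    rw [Opens.coversTop_iff, IsOpenCover] at cov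
    rw [IsOpenCover, iSup_sigma, ← cov]
    refine iSup_congr fun i ↦ ?_
    rw [heq i, sSup_eq_iSup']
  · intro j
    exact hsub _ j.2.2
  · intro j
    have := hq.isFiniteType j.1
    exact inferInstanceAs (Finite (q.generators j.1).I)


/-- The global section attached to a generator of a family of generating sections. -/
noncomputable def genSection {N : X.Modules} (σ : N.GeneratingSections) (i : σ.I) : Γ(N, ⊤) :=
  (ιFreeM X i ≫ (show freeM X σ.I ⟶ N from σ.π)).app ⊤ (toUnit 1)

/-- Generating sections generate all stalks. -/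
theorem span_germ_genSection_eq_top {N : X.Modules} (σ : N.GeneratingSections) [Finite σ.I]
    (x : X) :
    Submodule.span (X.presheaf.stalk x)
      (Set.range fun i : σ.I => N.presheaf.germ ⊤ x trivial (genSection σ i)) = ⊤ := by
  have := Fintype.ofFinite σ.I
  rw [eq_top_iff]
  rintro t -
  have hepi : Epi (show freeM X σ.I ⟶ N from σ.π) := σ.epi
  obtain ⟨t', rfl⟩ := (epi_iff_stalkMap_surjective _).mp hepi x t
  exact stalkMap_free_mem_span _ x t'

/-- The generating sections of `M|_Y`, as sections of `M` over `f ''ᵁ ⊤`. -/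
noncomputable def genSection' {Y : Scheme.{u}} (f : Y ⟶ X) [IsOpenImmersion f] (M : X.Modules)
    (σ : (M.restrict f).GeneratingSections) (i : σ.I) : Γ(M, f ''ᵁ ⊤) :=
  genSection σ i

theorem span_germ_eq_top_aux {Y : Scheme.{u}} (f : Y ⟶ X) [IsOpenImmersion f] (M : X.Modules)
    (σ : (M.restrict f).GeneratingSections) [Finite σ.I] (y : Y) :
    Submodule.span (X.presheaf.stalk (f y))
      (Set.range fun i : σ.I => M.presheaf.germ (f ''ᵁ ⊤) (f y) ⟨y, trivial, rfl⟩
        (genSection' f M σ i)) = ⊤ := by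
  rw [eq_top_iff]
  rintro t -
  let E := restrictStalkIso f M y
  have ht : t = E.hom (E.inv t) := by
    rw [← ConcreteCategory.comp_apply, Iso.inv_hom_id]; rfl
  rw [ht]
  have hmem : E.inv t ∈ Submodule.span (Y.presheaf.stalk y)
      (Set.range fun i : σ.I => (M.restrict f).presheaf.germ ⊤ y
        trivial (genSection σ i)) := by
    rw [span_germ_genSection_eq_top σ]; trivial
  generalize E.inv t = v at hmem
  induction hmem using Submodule.span_induction with
  | mem v hv =>
    obtain ⟨i, rfl⟩ := hv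
    apply Submodule.subset_span
    exact ⟨i, (restrictStalkIso_germ f M y ⊤ trivial (genSection' f M σ i)).symm⟩
  | zero => rw [map_zero]; exact Submodule.zero_mem _
  | add a b _ _ ha hb => rw [map_add]; exact Submodule.add_mem _ ha hb
  | smul r v _ hv =>
    rw [restrictStalkIso_smul']
    exact Submodule.smul_mem _ _ hv

/-- Generating sections of `M|_U` give sections of `M` over `U` generating all stalks at points
of `U`. -/
theorem exists_sections_span_eq_top_of_generatingSections (M : X.Modules) (U : X.Opens)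
    (σ : (M.restrict U.ι).GeneratingSections) [Finite σ.I] :
    ∃ (s : σ.I → Γ(M, U)), ∀ (x : X) (hx : x ∈ U),
      Submodule.span (X.presheaf.stalk x)
        (Set.range fun i => M.presheaf.germ U x hx (s i)) = ⊤ := by
  have e : U.ι ''ᵁ ⊤ = U := Scheme.Opens.ι_image_top U
  refine ⟨fun i => res M e.ge (genSection' U.ι M σ i), fun x hx => ?_⟩
  have := span_germ_eq_top_aux U.ι M σ ⟨x, hx⟩
  have h2 : (fun i : σ.I => M.presheaf.germ U x hx (res M e.ge (genSection' U.ι M σ i))) =
      fun i : σ.I => M.presheaf.germ (U.ι ''ᵁ ⊤) x ⟨⟨x, hx⟩, trivial, rfl⟩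
        (genSection' U.ι M σ i) := by
    funext i
    exact germ_res M e.ge x hx _
  change Submodule.span (X.presheaf.stalk x) (Set.range
    (fun i : σ.I => M.presheaf.germ U x hx (res M e.ge (genSection' U.ι M σ i)))) = ⊤
  rw [h2]
  exact this

/-- Local form of finite type: around every point there is an affine open with finitely many
sections generating all stalks. -/
theorem exists_affine_sections_span_eq_top (M : X.Modules) [M.IsFiniteType] (x : X) :
    ∃ (U : X.Opens) (_ : IsAffineOpen U) (_ : x ∈ U) (n : ℕ) (s : Fin n → Γ(M, U)),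
      ∀ (y : X) (hy : y ∈ U), Submodule.span (X.presheaf.stalk y)
        (Set.range fun i => M.presheaf.germ U y hy (s i)) = ⊤ := by
  obtain ⟨ι, U, σ, hcov, haff, hfin⟩ := exists_isOpenCover_generatingSections M
  obtain ⟨i, hi⟩ := hcov.exists_mem x
  have := hfin i
  obtain ⟨s, hs⟩ := exists_sections_span_eq_top_of_generatingSections M (U i) (σ i)
  obtain ⟨n, ⟨e⟩⟩ := Finite.exists_equiv_fin (σ i).I
  refine ⟨U i, haff i, hi, n, fun j => s (e.symm j), fun y hy => ?_⟩
  rw [← hs y hy]
  congr 1
  exact EquivLike.range_comp (fun k => M.presheaf.germ (U i) y hy (s k)) e.symm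

/-- Every element of the stalk `O_{X,x}` at a point of an affine open `U` is a fraction of
sections over `U`. -/
theorem exists_mul_germ_eq {U : X.Opens} (hU : IsAffineOpen U) (x : X) (hx : x ∈ U)
    (r : X.presheaf.stalk x) :
    ∃ (h a : Γ(X, U)), x ∈ X.basicOpen h ∧
      X.presheaf.germ U x hx h * r = X.presheaf.germ U x hx a := by
  let : Algebra Γ(X, U) (X.presheaf.stalk x) :=
    TopCat.Presheaf.algebra_section_stalk X.presheaf ⟨x, hx⟩
  have := hU.isLocalization_stalk ⟨x, hx⟩
  obtain ⟨⟨a, s⟩, h⟩ := IsLocalization.surj (hU.primeIdealOf ⟨x, hx⟩).asIdeal.primeCompl r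
  refine ⟨s.1, a, (mem_basicOpen_iff_notMem_primeIdealOf hU x hx s.1).mpr s.2, ?_⟩
  rw [mul_comm]
  exact h

/-- Local-to-global generation on an affine open: sections of a quasi-coherent module over an
affine open `U` whose germs generate all stalks at points of `U` generate `Γ(M, U)`. -/
theorem span_eq_top_of_forall_span_germ_eq_top (M : X.Modules) [M.IsQuasicoherent]
    {U : X.Opens} (hU : IsAffineOpen U) {ι : Type*} (t : ι → Γ(M, U))
    (h : ∀ (y : X) (hy : y ∈ U), Submodule.span (X.presheaf.stalk y)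
      (Set.range fun i => M.presheaf.germ U y hy (t i)) = ⊤) :
    Submodule.span Γ(X, U) (Set.range t) = ⊤ := by
  rw [eq_top_iff]
  rintro m -
  set N := Submodule.span Γ(X, U) (Set.range t) with hN
  have hI : N.colon {m} = ⊤ := by
    apply ideal_eq_top_of_forall_mem_basicOpen hU
    intro y hy
    have key : ∀ v ∈ Submodule.span (X.presheaf.stalk y)
        (Set.range fun i => M.presheaf.germ U y hy (t i)),
        ∃ (g : Γ(X, U)) (n : Γ(M, U)), y ∈ X.basicOpen g ∧ n ∈ N ∧
          X.presheaf.germ U y hy g • v = M.presheaf.germ U y hy n := by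
      intro v hv
      induction hv using Submodule.span_induction with
      | mem v hv =>
        obtain ⟨i, rfl⟩ := hv
        refine ⟨1, t i, ?_, Submodule.subset_span ⟨i, rfl⟩, ?_⟩
        · rw [Scheme.basicOpen_of_isUnit _ isUnit_one]; exact hy
        · rw [map_one, one_smul]
      | zero =>
        refine ⟨1, 0, ?_, Submodule.zero_mem _, ?_⟩
        · rw [Scheme.basicOpen_of_isUnit _ isUnit_one]; exact hy
        · rw [map_zero, smul_zero]
      | add a b _ _ ha hb =>
        obtain ⟨g1, n1, hg1, hn1, e1⟩ := ha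
        obtain ⟨g2, n2, hg2, hn2, e2⟩ := hb
        refine ⟨g2 * g1, g2 • n1 + g1 • n2, basicOpen_mul_mem g1 g2 y hg1 hg2,
          Submodule.add_mem _ (Submodule.smul_mem _ _ hn1) (Submodule.smul_mem _ _ hn2), ?_⟩
        rw [map_add, germ_smul, germ_smul, ← e1, ← e2, smul_add, map_mul, smul_smul, smul_smul,
          mul_comm (X.presheaf.germ U y hy g1)]
      | smul r v _ hv =>
        obtain ⟨g, n, hg, hn, e⟩ := hv
        obtain ⟨h', a, hh', ea⟩ := exists_mul_germ_eq hU y hy r
        refine ⟨h' * g, a • n, basicOpen_mul_mem g h' y hg hh', Submodule.smul_mem _ _ hn, ?_⟩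
        rw [germ_smul, ← e, ← ea, map_mul, smul_smul, smul_smul]
        congr 1
        ring
    obtain ⟨g, n, hg, hn, e⟩ := key (M.presheaf.germ U y hy m) (by rw [h y hy]; trivial)
    have h0 : M.presheaf.germ U y hy (g • m - n) = 0 := by
      rw [map_sub, germ_smul, e, sub_self]
    obtain ⟨g', hg', e'⟩ := exists_smul_eq_zero_of_germ_eq_zero M hU y hy _ h0
    refine ⟨g' * g, ?_, basicOpen_mul_mem g g' y hg hg'⟩
    rw [Submodule.mem_colon_singleton]
    rw [smul_sub, sub_eq_zero] at e'
    rw [mul_smul, e']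
    exact Submodule.smul_mem _ _ hn
  have h1 : (1 : Γ(X, U)) ∈ N.colon {m} := by rw [hI]; trivial
  rw [Submodule.mem_colon_singleton, one_smul] at h1
  exact h1

/-- For `M` quasi-coherent of finite type and `U` affine: near each point of `U` there is a basic
open `D(f)` and finitely many sections over `U` generating all stalks at points of `D(f)`. -/
theorem exists_basicOpen_sections_span_eq_top (M : X.Modules) [M.IsQuasicoherent]
    [M.IsFiniteType] {U : X.Opens} (hU : IsAffineOpen U) (x : X) (hx : x ∈ U) :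
    ∃ (f : Γ(X, U)) (_ : x ∈ X.basicOpen f) (n : ℕ) (t : Fin n → Γ(M, U)),
      ∀ (y : X) (hy : y ∈ X.basicOpen f), Submodule.span (X.presheaf.stalk y)
        (Set.range fun i => M.presheaf.germ U y (X.basicOpen_le f hy) (t i)) = ⊤ := by
  obtain ⟨V, hV, hxV, n, s, hs⟩ := exists_affine_sections_span_eq_top M x
  obtain ⟨f, hfV, hxf⟩ := hU.exists_basicOpen_le ⟨x, hxV⟩ hx
  choose N t ht using fun j => exists_pow_smul_eq_res M hU f (res M hfV (s j))
  refine ⟨f, hxf, n, t, fun y hy => ?_⟩
  rw [eq_top_iff, ← hs y (hfV hy), Submodule.span_le]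
  rintro _ ⟨j, rfl⟩
  have h1 := congrArg (M.presheaf.germ (X.basicOpen f) y hy) (ht j)
  rw [germ_smul, germ_res, germ_res, map_pow] at h1
  have hu : IsUnit ((X.presheaf.germ (X.basicOpen f) y hy)
      ((X.presheaf.map (homOfLE (X.basicOpen_le f)).op) f) ^ N j) := by
    apply IsUnit.pow
    exact (RingedSpace.isUnit_res_basicOpen _ f).map _
  obtain ⟨u, hu⟩ := hu
  rw [← hu] at h1
  have h2 : M.presheaf.germ V y (hfV hy) (s j) =
      (↑u⁻¹ : X.presheaf.stalk y) • M.presheaf.germ U y (X.basicOpen_le f hy) (t j) := by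
    rw [← h1, smul_smul, Units.inv_mul, one_smul]
  change M.presheaf.germ V y (hfV hy) (s j) ∈ _
  rw [h2]
  exact Submodule.smul_mem _ _ (Submodule.subset_span ⟨j, rfl⟩)

/-- Sections of a quasi-coherent module of finite type over an affine open form a finitely
generated module. -/
theorem module_finite_of_isFiniteType (M : X.Modules) [M.IsQuasicoherent] [M.IsFiniteType]
    {U : X.Opens} (hU : IsAffineOpen U) : Module.Finite Γ(X, U) Γ(M, U) := by
  choose f hxf n t ht using fun x : U => exists_basicOpen_sections_span_eq_top M hU x.1 x.2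
  obtain ⟨S, hS⟩ := hU.isCompact.elim_finite_subcover (fun x : U => (X.basicOpen (f x) : Set X))
    (fun x => (X.basicOpen (f x)).isOpen) (fun x hx => Set.mem_iUnion.mpr ⟨⟨x, hx⟩, hxf ⟨x, hx⟩⟩)
  let T : (Σ x : S, Fin (n x.1)) → Γ(M, U) := fun p => t p.1.1 p.2
  have hT : Submodule.span Γ(X, U) (Set.range T) = ⊤ := by
    apply span_eq_top_of_forall_span_germ_eq_top M hU
    intro y hy
    obtain ⟨x, hxS, hyx⟩ : ∃ x ∈ S, y ∈ X.basicOpen (f x) := by
      have := hS hy
      simp only [Set.mem_iUnion, exists_prop] at this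
      exact this
    rw [eq_top_iff, ← ht x y hyx, Submodule.span_le]
    rintro _ ⟨j, rfl⟩
    exact Submodule.subset_span ⟨⟨⟨x, hxS⟩, j⟩, rfl⟩
  classical
  refine ⟨⟨Finset.univ.image T, ?_⟩⟩
  rw [Finset.coe_image, Finset.coe_univ, Set.image_univ]
  exact hT

/-- A section with zero germ at `x` vanishes on a neighbourhood of `x`. -/
theorem exists_res_eq_zero_of_germ_eq_zero (M : X.Modules) {U : X.Opens} (x : X) (hx : x ∈ U)
    (m : Γ(M, U)) (h : M.presheaf.germ U x hx m = 0) :
    ∃ (W : X.Opens) (hWU : W ≤ U), x ∈ W ∧ res M hWU m = 0 := by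
  have h' : M.presheaf.germ U x hx m = M.presheaf.germ U x hx 0 := by rw [h, map_zero]
  obtain ⟨W, hxW, iU, iV, e⟩ := M.presheaf.germ_eq x hx hx _ _ h'
  refine ⟨W, leOfHom iU, hxW, ?_⟩
  have e' : res M (leOfHom iU) m = res M (leOfHom iV) 0 := e
  rw [e', map_zero]

/-- If the germs of finitely many sections generate all stalks on `U`, the locus in `U` where the
stalk vanishes is open. -/
theorem isOpen_subsingleton_stalk_of_span (M : X.Modules) {U : X.Opens} {n : ℕ}
    (s : Fin n → Γ(M, U))
    (hs : ∀ (y : X) (hy : y ∈ U), Submodule.span (X.presheaf.stalk y)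
        (Set.range fun i => M.presheaf.germ U y hy (s i)) = ⊤) (x : X) (hx : x ∈ U)
    (h : Subsingleton (M.presheaf.stalk x)) :
    ∃ W : X.Opens, x ∈ W ∧ ∀ z ∈ W, Subsingleton (M.presheaf.stalk z) := by
  choose W hWU hxW hW using fun i =>
    exists_res_eq_zero_of_germ_eq_zero M x hx (s i) (Subsingleton.elim _ _)
  refine ⟨U ⊓ ⨅ i, W i, ⟨hx, ?_⟩, ?_⟩
  · rw [SetLike.mem_coe, ← SetLike.mem_coe, Opens.coe_iInf]
    simp only [Set.mem_iInter, SetLike.mem_coe]
    intro i; exact hxW i
  · rintro z ⟨hzU, hzW⟩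
    rw [SetLike.mem_coe, ← SetLike.mem_coe, Opens.coe_iInf] at hzW
    simp only [Set.mem_iInter, SetLike.mem_coe] at hzW
    have h0 : ∀ i, M.presheaf.germ U z hzU (s i) = 0 := by
      intro i
      rw [← germ_res M (hWU i) z (hzW i), hW i, map_zero]
    have htop := hs z hzU
    have : (Set.range fun i => M.presheaf.germ U z hzU (s i)) ⊆ {0} := by
      rintro _ ⟨i, rfl⟩; exact h0 i
    have hbot : Submodule.span (X.presheaf.stalk z)
        (Set.range fun i => M.presheaf.germ U z hzU (s i)) = ⊥ := by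
      rw [eq_bot_iff]
      exact (Submodule.span_mono this).trans (by rw [Submodule.span_zero_singleton])
    rw [hbot] at htop
    refine ⟨fun a b => ?_⟩
    have ha : a ∈ (⊤ : Submodule (X.presheaf.stalk z) (M.presheaf.stalk z)) := trivial
    have hb : b ∈ (⊤ : Submodule (X.presheaf.stalk z) (M.presheaf.stalk z)) := trivial
    rw [← htop, Submodule.mem_bot] at ha hb
    rw [ha, hb]

/-- The locus where the stalk of a finite type module vanishes is open. -/
theorem isOpen_setOf_subsingleton_stalk (M : X.Modules) [M.IsFiniteType] :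
    IsOpen {x : X | Subsingleton (M.presheaf.stalk x)} := by
  rw [isOpen_iff_forall_mem_open]
  intro x hx
  obtain ⟨U, _, hxU, n, s, hs⟩ := exists_affine_sections_span_eq_top M x
  obtain ⟨W, hxW, hW⟩ := isOpen_subsingleton_stalk_of_span M s hs x hxU hx
  exact ⟨W, fun z hz => hW z hz, W.isOpen, hxW⟩

end Groth.Agent.Lib.Helper29.QCoh
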