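import Groth.Agent.Lib.Helper29.QCohGen
universe u v w
open CategoryTheory CategoryTheory.Limits AlgebraicGeometry Opposite TopologicalSpace

/-! # Criteria for quasi-coherence -/

namespace Groth.Agent.Lib.Helper29.QCoh

variable {X : Scheme.{u}}

set_option backward.isDefEq.respectTransparency false in
/-- Transport a presentation of `M|_U` (as a module on the scheme `U`) to a presentation
of `M.over U`. -/
noncomputable def presentationOver (M : X.Modules) (U : X.Opens)
    (P : (M.restrict U.ι).Presentation) : (M.over U).Presentation := by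
  let E := Scheme.Modules.overEquiv U
  have : PreservesColimitsOfSize.{u, u} E.inverse := inferInstance
  let η : SheafOfModules.unit (X.ringCatSheaf.over U) ≅
      E.inverse.obj (SheafOfModules.unit (U : Scheme.{u}).ringCatSheaf) :=
    E.unitIso.app _ ≪≫ E.inverse.mapIso (Iso.refl _)
  let iso : E.inverse.obj (M.restrict U.ι) ≅ M.over U :=
    E.inverse.mapIso ((Scheme.Modules.overFunctorEquiv U).app M).symm ≪≫
      (E.unitIso.app (M.over U)).symm
  exact SheafOfModules.Presentation.ofIsIso.{u, u, u} iso.hom (P.map E.inverse η)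

set_option backward.isDefEq.respectTransparency.types false in
/-- A presentation of `M.restrict f` gives a presentation of `M` restricted to the range
of `f`. -/
noncomputable def presentationOpensRange {Y : Scheme.{u}} (f : Y ⟶ X) [IsOpenImmersion f]
    (M : X.Modules) (P : (M.restrict f).Presentation) :
    (M.restrict f.opensRange.ι).Presentation := by
  let iso : Scheme.Modules.restrictFunctor f ⋙ Scheme.Modules.restrictFunctor f.isoOpensRange.inv ≅
      Scheme.Modules.restrictFunctor f.opensRange.ι :=
    (Scheme.Modules.restrictFunctorComp _ _).symm ≪≫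
      Scheme.Modules.restrictFunctorCongr f.isoOpensRange_inv_comp
  exact SheafOfModules.Presentation.ofIsIso.{u, u, u} (iso.app M).hom
    (Scheme.Modules.presentationRestrict f.isoOpensRange.inv P)

/-- Variant with a specified open equal to the range. -/
noncomputable def presentationOfRangeEq {Y : Scheme.{u}} (f : Y ⟶ X) [IsOpenImmersion f]
    (M : X.Modules) (P : (M.restrict f).Presentation) (W : X.Opens) (hW : f.opensRange = W) :
    (M.restrict W.ι).Presentation := by
  subst hW
  exact presentationOpensRange f M P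

/-- A module with presentations on the members of an open cover by open immersions is
quasi-coherent. -/
theorem isQuasicoherent_of_presentation (M : X.Modules) {ι : Type u} (Y : ι → Scheme.{u})
    (f : ∀ i, Y i ⟶ X) [∀ i, IsOpenImmersion (f i)] (hcov : ∀ x : X, ∃ i, x ∈ Set.range (f i))
    (P : ∀ i, (M.restrict (f i)).Presentation) : M.IsQuasicoherent := by
  let q : SheafOfModules.QuasicoherentData.{u, u, u, u} M :=
    { I := ι
      X := fun i => (f i).opensRange
      coversTop := by
        rw [Opens.coversTop_iff, IsOpenCover, eq_top_iff]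
        rintro x -
        obtain ⟨i, hi⟩ := hcov x
        exact Opens.mem_iSup.mpr ⟨i, hi⟩
      presentation := fun i => presentationOver M _ (presentationOpensRange (f i) M (P i)) }
  exact q.isQuasicoherent

set_option backward.isDefEq.respectTransparency.types false in
/-- Affine criterion for quasi-coherence: if the sections of `M` over an affine open `U` localize
correctly on basic opens, then `M` restricted to `Spec Γ(X, U)` is quasi-coherent. -/
theorem isQuasicoherent_restrict_fromSpec_of_localizing (M : X.Modules) {U : X.Opens}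
    (hU : IsAffineOpen U)
    (h1 : ∀ (f : Γ(X, U)) (s : Γ(M, X.basicOpen f)), ∃ (n : ℕ) (m : Γ(M, U)),
      (X.presheaf.map (homOfLE (X.basicOpen_le f)).op f) ^ n • s =
        res M (X.basicOpen_le f) m)
    (h2 : ∀ (f : Γ(X, U)) (m : Γ(M, U)), res M (X.basicOpen_le f) m = 0 →
      ∃ n : ℕ, f ^ n • m = 0) :
    (M.restrict hU.fromSpec).IsQuasicoherent := by
  rw [isQuasicoherent_iff_isIso_fromTildeΓ, isIso_fromTildeΓ_iff_isLocalizing]
  intro f
  have e1 : hU.fromSpec ''ᵁ (PrimeSpectrum.basicOpen f) = X.basicOpen f :=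
    hU.fromSpec_image_basicOpen f
  have e2 : hU.fromSpec ''ᵁ ⊤ = U := fromSpec_image_top hU
  have hle : hU.fromSpec ''ᵁ (PrimeSpectrum.basicOpen f) ≤ hU.fromSpec ''ᵁ ⊤ :=
    hU.fromSpec.image_mono le_top
  refine ⟨?_, ?_, ?_⟩
  · rintro ⟨_, n, rfl⟩
    rw [map_pow]
    exact (Scheme.Modules.isUnit_algebraMap_end_of_le_basicOpen f le_rfl).pow n
  · intro s'
    let s : Γ(M, X.basicOpen f) := res M e1.ge (show Γ(M, hU.fromSpec ''ᵁ _) from s')
    obtain ⟨n, m, hm⟩ := h1 f s
    refine ⟨⟨(res M e2.le m : Γ(M, hU.fromSpec ''ᵁ ⊤)), ⟨f ^ n, n, rfl⟩⟩, ?_⟩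
    have hR : res M e1.ge (res M hle
        (res M e2.le m)) = res M (X.basicOpen_le f) m := by
      rw [res_res, res_res]
    change (f ^ n) • s' = res M hle
      (res M e2.le m)
    refine (smul_restrict_fromSpec' M hU _ _ s').trans ?_
    apply res_injective_of_eq M e1.symm
    refine Eq.trans ?_ hR.symm
    refine (res_smul M e1.ge _ _).trans ?_
    rw [map_map_apply, map_pow]
    exact hm
  · intro m1 m2 h
    let d : Γ(M, U) := res M e2.ge (show Γ(M, hU.fromSpec ''ᵁ ⊤) from m1 - m2)
    have hd : res M (X.basicOpen_le f) d = 0 := by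
      have h' : res M hle
          (show Γ(M, hU.fromSpec ''ᵁ ⊤) from m1 - m2) = 0 := by
        have h'' : res M hle
            (show Γ(M, hU.fromSpec ''ᵁ ⊤) from m1) =
          res M hle
            (show Γ(M, hU.fromSpec ''ᵁ ⊤) from m2) := h
        refine (map_sub _ _ _).trans ?_
        rw [h'', sub_self]
      have h3 : res M (X.basicOpen_le f) d = res M e1.ge
          (res M hle
          (show Γ(M, hU.fromSpec ''ᵁ ⊤) from m1 - m2)) := by
        rw [res_res]
        exact (res_res M hle e1.ge _).symm
      rw [h3, h', map_zero]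
    obtain ⟨n, hn⟩ := h2 f d hd
    refine ⟨⟨f ^ n, n, rfl⟩, ?_⟩
    change (f ^ n) • m1 = (f ^ n) • m2
    rw [← sub_eq_zero, ← smul_sub]
    refine (smul_restrict_fromSpec' M hU _ _ (m1 - m2)).trans ?_
    apply res_injective_of_eq M e2.symm
    change res M e2.ge (_ • (show Γ(M, hU.fromSpec ''ᵁ ⊤) from m1 - m2)) = res M e2.ge 0
    rw [res_smul, map_zero, map_map_apply]
    have : X.presheaf.map (homOfLE (le_refl U)).op (f ^ n) = f ^ n := by
      change X.presheaf.map (𝟙 _) (f ^ n) = _
      rw [X.presheaf.map_id]; rfl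
    rw [this]
    exact hn

set_option backward.isDefEq.respectTransparency false in
/-- A quasi-coherent module on an affine scheme `Spec R` has a global presentation. -/
noncomputable def presentationOfIsQuasicoherentSpec {R : CommRingCat.{u}} (N : (Spec R).Modules)
    [N.IsQuasicoherent] : N.Presentation := by
  have h : IsIso N.fromTildeΓ := inferInstance
  let P := (presentationTilde.{u} ((modulesSpecToSheaf.obj N).presheaf.obj (.op ⊤)) .univ
    (by simp) _ (Submodule.span_eq _))
  exact SheafOfModules.Presentation.ofIsIso.{u, u, u} N.fromTildeΓ P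

/-- If `M` is quasi-coherent on each member of a cover by open immersions, it is
quasi-coherent. -/
theorem isQuasicoherent_of_restrict_spec (M : X.Modules) {ι : Type u} (R : ι → CommRingCat.{u})
    (f : ∀ i, Spec (R i) ⟶ X) [∀ i, IsOpenImmersion (f i)]
    (hcov : ∀ x : X, ∃ i, x ∈ Set.range (f i))
    (h : ∀ i, (M.restrict (f i)).IsQuasicoherent) : M.IsQuasicoherent :=
  isQuasicoherent_of_presentation M (fun i => Spec (R i)) f hcov
    (fun i => presentationOfIsQuasicoherentSpec (M.restrict (f i)))

/-- Criterion for quasi-coherence: `M` is quasi-coherent if on the members of an affine open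
cover its sections localize correctly on basic opens. -/
theorem isQuasicoherent_of_localizing (M : X.Modules) {ι : Type u} (U : ι → X.Opens)
    (hcov : IsOpenCover U) (haff : ∀ i, IsAffineOpen (U i))
    (h1 : ∀ (i : ι) (f : Γ(X, U i)) (s : Γ(M, X.basicOpen f)), ∃ (n : ℕ) (m : Γ(M, U i)),
      (X.presheaf.map (homOfLE (X.basicOpen_le f)).op f) ^ n • s =
        res M (X.basicOpen_le f) m)
    (h2 : ∀ (i : ι) (f : Γ(X, U i)) (m : Γ(M, U i)), res M (X.basicOpen_le f) m = 0 →
      ∃ n : ℕ, f ^ n • m = 0) :
    M.IsQuasicoherent := by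
  refine isQuasicoherent_of_restrict_spec M (fun i => Γ(X, U i)) (fun i => (haff i).fromSpec)
    (fun x => ?_)
    (fun i => isQuasicoherent_restrict_fromSpec_of_localizing M (haff i) (h1 i) (h2 i))
  obtain ⟨i, hi⟩ := hcov.exists_mem x
  refine ⟨i, ?_⟩
  rw [(haff i).range_fromSpec]
  exact hi

theorem app_zero_of_comp_eq_zero {A B C : X.Modules} (φ : A ⟶ B) (ψ : B ⟶ C) (h : φ ≫ ψ = 0)
    (U : X.Opens) (a : Γ(A, U)) : ψ.app U (φ.app U a) = 0 := by
  have : φ.app U ≫ ψ.app U = 0 := by
    rw [← Scheme.Modules.Hom.comp_app, h]; rfl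
  exact congrArg (fun k => k a) (congrArg (fun k => (k.hom : _ → _)) this)

/-- The kernel term of a left exact sequence `0 → K → M → N` with `M`, `N` quasi-coherent is
quasi-coherent. -/
theorem isQuasicoherent_of_exact_of_mono (S : ShortComplex X.Modules) (hS : S.Exact) [Mono S.f]
    [S.X₂.IsQuasicoherent] [S.X₃.IsQuasicoherent] : S.X₁.IsQuasicoherent := by
  have hinj := (mono_iff_app_injective S.f).mp inferInstance
  refine isQuasicoherent_of_localizing S.X₁ (fun U : X.affineOpens => (U : X.Opens))
    (isOpenCover_affineOpens X) (fun U => U.2) ?_ ?_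
  · rintro ⟨U, hU⟩ f s
    change ∃ (n : ℕ) (m : Γ(S.X₁, U)), _
    obtain ⟨n, m, hm⟩ := exists_pow_smul_eq_res S.X₂ hU f (S.f.app _ s)
    have h0 : res S.X₃ (X.basicOpen_le f) (S.g.app U m) = 0 := by
      rw [← app_res, ← hm, Scheme.Modules.Hom.app_smul, app_zero_of_comp_eq_zero _ _ S.zero,
        smul_zero]
    obtain ⟨k, hk⟩ := exists_pow_smul_eq_zero S.X₃ hU f _ h0
    rw [← Scheme.Modules.Hom.app_smul] at hk
    obtain ⟨k', hk'⟩ := (app_exact_of_exact_of_mono S hS U _).mp hk
    refine ⟨k + n, k', ?_⟩
    apply hinj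
    rw [Scheme.Modules.Hom.app_smul, app_res, hk', res_smul, ← hm, pow_add, mul_smul, map_pow]
  · rintro ⟨U, hU⟩ f k hk
    have h0 : res S.X₂ (X.basicOpen_le f) (S.f.app U k) = 0 := by
      rw [← app_res, hk, map_zero]
    obtain ⟨n, hn⟩ := exists_pow_smul_eq_zero S.X₂ hU f _ h0
    refine ⟨n, ?_⟩
    apply hinj
    rw [Scheme.Modules.Hom.app_smul, hn, map_zero]

/-- The kernel of a morphism of quasi-coherent modules is quasi-coherent. -/
instance isQuasicoherent_kernel {M N : X.Modules} (φ : M ⟶ N) [M.IsQuasicoherent]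
    [N.IsQuasicoherent] : (kernel φ).IsQuasicoherent :=
  isQuasicoherent_of_exact_of_mono (ShortComplex.mk (kernel.ι φ) φ (kernel.condition φ))
    (ShortComplex.exact_kernel φ)

set_option backward.isDefEq.respectTransparency false in
/-- On an affine scheme, a colimit of quasi-coherent modules is quasi-coherent. -/
theorem isQuasicoherent_colimit_spec {R : CommRingCat.{u}} {J : Type w} [Category.{v} J]
    (F : J ⥤ (Spec R).Modules) [HasColimit F]
    [HasColimit (F ⋙ moduleSpecΓFunctor (R := R))]
    (h : ∀ j, (F.obj j).IsQuasicoherent) :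
    (colimit F).IsQuasicoherent := by
  let G : J ⥤ ModuleCat.{u} R := F ⋙ moduleSpecΓFunctor (R := R)
  have hiso : ∀ j, IsIso ((Scheme.Modules.fromTildeΓNatTrans (R := R)).app (F.obj j)) := by
    intro j
    have := h j
    exact Scheme.Modules.isIso_fromTildeΓ_of_isQuasicoherent (F.obj j)
  have hnat : IsIso (Functor.whiskerLeft F (Scheme.Modules.fromTildeΓNatTrans (R := R))) := by
    rw [NatTrans.isIso_iff_isIso_app]
    intro j
    exact hiso j
  let e : G ⋙ tilde.functor R ≅ F :=
    (asIso (Functor.whiskerLeft F (Scheme.Modules.fromTildeΓNatTrans (R := R)))) ≪≫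
      F.rightUnitor
  have : HasColimit (G ⋙ tilde.functor R) := hasColimit_of_iso e
  have : HasColimit G := inferInstanceAs (HasColimit (F ⋙ moduleSpecΓFunctor (R := R)))
  have hpres : PreservesColimit G (tilde.functor R) := inferInstance
  let e2 : colimit F ≅ (tilde.functor R).obj (colimit G) :=
    (HasColimit.isoOfNatIso e).symm ≪≫ (preservesColimitIso (tilde.functor R) G).symm
  have hq : ((tilde.functor R).obj (colimit G)).IsQuasicoherent := inferInstance
  exact (SheafOfModules.isQuasicoherent (Spec R).ringCatSheaf).prop_of_iso e2.symm hq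

theorem exists_mem_range_fromSpec (X : Scheme.{u}) (x : X) :
    ∃ U : X.affineOpens, x ∈ Set.range U.2.fromSpec := by
  obtain ⟨U, hU⟩ := (isOpenCover_affineOpens X).exists_mem x
  refine ⟨U, ?_⟩
  rw [U.2.range_fromSpec]
  exact hU

set_option backward.isDefEq.respectTransparency false in
/-- A colimit of quasi-coherent modules is quasi-coherent (general shape, with the needed
colimits assumed to exist). -/
theorem isQuasicoherent_colimit_aux {J : Type w} [Category.{v} J]
    (F : J ⥤ X.Modules) [HasColimit F]
    [∀ (U : X.affineOpens), HasColimit (F ⋙ Scheme.Modules.restrictFunctor U.2.fromSpec)]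
    [∀ (U : X.affineOpens), HasColimit ((F ⋙ Scheme.Modules.restrictFunctor U.2.fromSpec) ⋙
      moduleSpecΓFunctor (R := Γ(X, U.1)))]
    (h : ∀ j, (F.obj j).IsQuasicoherent) :
    (colimit F).IsQuasicoherent := by
  refine isQuasicoherent_of_restrict_spec (colimit F) (fun U : X.affineOpens => Γ(X, U.1))
    (fun U => U.2.fromSpec) (exists_mem_range_fromSpec X) (fun U => ?_)
  have hpres : PreservesColimit F (Scheme.Modules.restrictFunctor U.2.fromSpec) := inferInstance
  have hq : (colimit (F ⋙ Scheme.Modules.restrictFunctor U.2.fromSpec)).IsQuasicoherent := by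
    apply isQuasicoherent_colimit_spec
    intro j
    have := h j
    exact Scheme.Modules.isQuasicoherent_restrictFunctor U.2.fromSpec (F.obj j)
  exact (SheafOfModules.isQuasicoherent (Spec Γ(X, U.1)).ringCatSheaf).prop_of_iso
    (preservesColimitIso (Scheme.Modules.restrictFunctor U.2.fromSpec) F).symm hq

/-- A small colimit of quasi-coherent modules is quasi-coherent. -/
theorem isQuasicoherent_colimit {J : Type u} [SmallCategory J] (F : J ⥤ X.Modules)
    (h : ∀ j, (F.obj j).IsQuasicoherent) : (colimit F).IsQuasicoherent :=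
  isQuasicoherent_colimit_aux F h

/-- The cokernel of a morphism of quasi-coherent modules is quasi-coherent. -/
instance isQuasicoherent_cokernel {M N : X.Modules} (φ : M ⟶ N) [M.IsQuasicoherent]
    [N.IsQuasicoherent] : (cokernel φ).IsQuasicoherent := by
  apply isQuasicoherent_colimit_aux (parallelPair φ 0)
  rintro (_ | _)
  · exact inferInstanceAs M.IsQuasicoherent
  · exact inferInstanceAs N.IsQuasicoherent

/-- A quasi-coherent quotient of a quasi-coherent module of finite type is of finite type. -/
theorem isFiniteType_of_epi {M N : X.Modules} (π : M ⟶ N) [Epi π] [M.IsQuasicoherent]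
    [M.IsFiniteType] [N.IsQuasicoherent] : N.IsFiniteType := by
  rw [isFiniteType_iff_forall_module_finite]
  intro U hU
  have hfin : Module.Finite Γ(X, U) Γ(M, U) := module_finite_of_isFiniteType M hU
  exact Module.Finite.of_surjective (appₗ π U) (app_surjective_of_epi π hU)

/-- On a locally Noetherian scheme, the kernel of a morphism of coherent modules is of finite
type. -/
theorem isFiniteType_kernel [IsLocallyNoetherian X] {M N : X.Modules} (φ : M ⟶ N)
    [M.IsQuasicoherent] [M.IsFiniteType] [N.IsQuasicoherent] : (kernel φ).IsFiniteType :=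
  isFiniteType_of_mono (kernel.ι φ)

/-- The cokernel of a morphism from a quasi-coherent module to a quasi-coherent module of finite
type is of finite type. -/
theorem isFiniteType_cokernel {M N : X.Modules} (φ : M ⟶ N)
    [M.IsQuasicoherent] [N.IsQuasicoherent] [N.IsFiniteType] : (cokernel φ).IsFiniteType :=
  isFiniteType_of_epi (cokernel.π φ)

end Groth.Agent.Lib.Helper29.QCoh
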