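import Groth.Agent.Lib.Helper29.QCohCrit
universe u v w
open CategoryTheory CategoryTheory.Limits AlgebraicGeometry Opposite TopologicalSpace

/-! # Finite presentation of quasi-coherent modules -/

namespace Groth.Agent.Lib.Helper29.QCoh

variable {X : Scheme.{u}}

theorem presentation_map_isFinite {C : Type*} [Category C] {J : GrothendieckTopology C}
    {R : Sheaf J RingCat.{u}} [HasSheafify J AddCommGrpCat] [J.WEqualsLocallyBijective AddCommGrpCat]
    {C' : Type*} [Category C'] {J' : GrothendieckTopology C'} {S : Sheaf J' RingCat.{u}}
    [HasSheafify J' AddCommGrpCat] [J'.WEqualsLocallyBijective AddCommGrpCat]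
    {M : SheafOfModules.{u} R} (P : M.Presentation)
    (F : SheafOfModules.{u} R ⥤ SheafOfModules.{u} S) [PreservesColimitsOfSize.{u, u} F]
    (η : SheafOfModules.unit S ≅ F.obj (SheafOfModules.unit R)) [P.IsFinite] :
    (P.map F η).IsFinite :=
  ⟨⟨inferInstanceAs (Finite P.generators.I)⟩, ⟨inferInstanceAs (Finite P.relations.I)⟩⟩

set_option backward.isDefEq.respectTransparency false in
theorem presentationOver_isFinite (M : X.Modules) (U : X.Opens)
    (P : (M.restrict U.ι).Presentation) [P.IsFinite] : (presentationOver M U P).IsFinite := by
  unfold presentationOver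
  have := presentation_map_isFinite P (Scheme.Modules.overEquiv U).inverse
    ((Scheme.Modules.overEquiv U).unitIso.app _ ≪≫
      (Scheme.Modules.overEquiv U).inverse.mapIso (Iso.refl _))
  infer_instance

set_option backward.isDefEq.respectTransparency false in
theorem presentationOpensRange_isFinite {Y : Scheme.{u}} (f : Y ⟶ X) [IsOpenImmersion f]
    (M : X.Modules) (P : (M.restrict f).Presentation) [P.IsFinite] :
    (presentationOpensRange f M P).IsFinite := by
  unfold presentationOpensRange
  have : (Scheme.Modules.presentationRestrict f.isoOpensRange.inv P).IsFinite := by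
    unfold Scheme.Modules.presentationRestrict
    have : PreservesColimitsOfSize.{u, u} (Scheme.Modules.restrictFunctor f.isoOpensRange.inv) :=
      inferInstance
    exact presentation_map_isFinite P _ _
  infer_instance

set_option backward.isDefEq.respectTransparency false in
/-- A quasi-coherent module on `Spec R` with finitely presented global sections has a finite
global presentation. -/
theorem exists_presentation_isFinite_spec {R : CommRingCat.{u}} (N : (Spec R).Modules)
    [N.IsQuasicoherent]
    (h : Module.FinitePresentation R ((modulesSpecToSheaf.obj N).presheaf.obj (.op ⊤))) :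
    ∃ P : N.Presentation, P.IsFinite := by
  have hiso : IsIso N.fromTildeΓ := inferInstance
  obtain ⟨s, hs, t, ht⟩ := h.out
  let P := presentationTilde.{u} ((modulesSpecToSheaf.obj N).presheaf.obj (.op ⊤))
    (s : Set _) hs (t : Set _) ht
  have hP : P.IsFinite :=
    ⟨⟨inferInstanceAs (Finite (s : Set ((modulesSpecToSheaf.obj N).presheaf.obj (.op ⊤))))⟩,
      ⟨inferInstanceAs (Finite (t : Set ((s : Set ((modulesSpecToSheaf.obj N).presheaf.obj
        (.op ⊤))) →₀ R)))⟩⟩
  exact ⟨SheafOfModules.Presentation.ofIsIso.{u, u, u} N.fromTildeΓ P, inferInstance⟩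

/-- A module with finite presentations on the members of an open cover by open immersions is
finitely presented. -/
theorem isFinitePresentation_of_presentation (M : X.Modules) {ι : Type u} (Y : ι → Scheme.{u})
    (f : ∀ i, Y i ⟶ X) [∀ i, IsOpenImmersion (f i)] (hcov : ∀ x : X, ∃ i, x ∈ Set.range (f i))
    (P : ∀ i, (M.restrict (f i)).Presentation) [∀ i, (P i).IsFinite] :
    M.IsFinitePresentation := by
  let q : SheafOfModules.QuasicoherentData.{u, u, u, u} M :=
    { I := ι
      X := fun i => (f i).opensRange
      coversTop := by
        rw [Opens.coversTop_iff, IsOpenCover, eq_top_iff]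
        rintro x -
        obtain ⟨i, hi⟩ := hcov x
        exact Opens.mem_iSup.mpr ⟨i, hi⟩
      presentation := fun i => presentationOver M _ (presentationOpensRange (f i) M (P i)) }
  have hq : q.IsFinitePresentation :=
    { isFinite_presentation := fun i => by
        have := presentationOpensRange_isFinite (f i) M (P i)
        exact presentationOver_isFinite M _ _ }
  exact { exists_quasicoherentData := ⟨q, hq⟩ }

set_option backward.isDefEq.respectTransparency.types false in
/-- Sections over an affine open `U`, as global sections of the restriction to `Spec Γ(X, U)`. -/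
noncomputable def sectionsRestrictFromSpecEquiv (M : X.Modules) {U : X.Opens}
    (hU : IsAffineOpen U) :
    Γ(M, U) ≃ₗ[Γ(X, U)]
      ((modulesSpecToSheaf.obj (M.restrict hU.fromSpec)).presheaf.obj (.op ⊤)) where
  toFun m := (res M (fromSpec_image_top hU).le m : Γ(M, hU.fromSpec ''ᵁ ⊤))
  invFun m' := res M (fromSpec_image_top hU).ge (show Γ(M, hU.fromSpec ''ᵁ ⊤) from m')
  map_add' a b := map_add _ a b
  map_smul' r m := by
    refine Eq.trans ?_ (smul_restrict_fromSpec' M hU ⊤ r
      (res M (fromSpec_image_top hU).le m : Γ(M, hU.fromSpec ''ᵁ ⊤))).symm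
    exact res_smul M (fromSpec_image_top hU).le r m
  left_inv m := by
    change res M (fromSpec_image_top hU).ge (res M (fromSpec_image_top hU).le m) = m
    rw [res_res, res_self]
  right_inv m' := by
    change res M (fromSpec_image_top hU).le (res M (fromSpec_image_top hU).ge
      (show Γ(M, hU.fromSpec ''ᵁ ⊤) from m')) = _
    rw [res_res]
    exact res_self M _

/-- A quasi-coherent module whose modules of sections over the members of an affine open cover
are finitely presented is finitely presented. -/
theorem isFinitePresentation_of_module_finitePresentation (M : X.Modules) [M.IsQuasicoherent]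
    {ι : Type u} (U : ι → X.Opens) (hcov : IsOpenCover U) (haff : ∀ i, IsAffineOpen (U i))
    (h : ∀ i, Module.FinitePresentation Γ(X, U i) Γ(M, U i)) : M.IsFinitePresentation := by
  have hP : ∀ i, ∃ P : (M.restrict (haff i).fromSpec).Presentation, P.IsFinite := by
    intro i
    apply exists_presentation_isFinite_spec
    have := h i
    exact Module.FinitePresentation.of_equiv (sectionsRestrictFromSpecEquiv M (haff i))
  choose P hPf using hP
  refine isFinitePresentation_of_presentation M (fun i => Spec Γ(X, U i))
    (fun i => (haff i).fromSpec) (fun x => ?_) P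
  obtain ⟨i, hi⟩ := hcov.exists_mem x
  refine ⟨i, ?_⟩
  rw [(haff i).range_fromSpec]
  exact hi

end Groth.Agent.Lib.Helper29.QCoh
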