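import Groth.Agent.Lib.Helper29.QCohExact
universe u
open CategoryTheory CategoryTheory.Limits AlgebraicGeometry Opposite

namespace Groth.Agent.Lib.Helper29.QCoh

variable {X : Scheme.{u}}

/-- The point of an affine open `U` attached to a prime of `Γ(X, U)`. -/
theorem exists_point_of_prime {U : X.Opens} (hU : IsAffineOpen U) (y : Spec Γ(X, U)) :
    ∃ x : X, x ∈ U ∧ ∀ r : Γ(X, U), x ∈ X.basicOpen r ↔ r ∉ y.asIdeal := by
  refine ⟨hU.fromSpec y, ?_, fun r => ?_⟩
  · have : hU.fromSpec y ∈ hU.fromSpec.opensRange := ⟨y, rfl⟩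
    rwa [hU.opensRange_fromSpec] at this
  · have := hU.fromSpec_preimage_basicOpen r
    have h2 : hU.fromSpec y ∈ X.basicOpen r ↔ y ∈ hU.fromSpec ⁻¹ᵁ X.basicOpen r := Iff.rfl
    rw [h2, this]
    rfl

/-- Local-global principle on an affine open: an ideal of `Γ(X, U)` containing, for each point
of `U`, a function invertible at that point is the unit ideal. -/
theorem ideal_eq_top_of_forall_mem_basicOpen {U : X.Opens} (hU : IsAffineOpen U)
    (I : Ideal Γ(X, U)) (h : ∀ x ∈ U, ∃ r ∈ I, x ∈ X.basicOpen r) : I = ⊤ := by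
  by_contra hI
  obtain ⟨P, hP, hIP⟩ := Ideal.exists_le_maximal I hI
  obtain ⟨x, hxU, hx⟩ := exists_point_of_prime hU ⟨P, hP.isPrime⟩
  obtain ⟨r, hrI, hxr⟩ := h x hxU
  exact (hx r).mp hxr (hIP hrI)

theorem basicOpen_mul_mem {U : X.Opens} (r r' : Γ(X, U)) (x : X) (h : x ∈ X.basicOpen r)
    (h' : x ∈ X.basicOpen r') : x ∈ X.basicOpen (r' * r) := by
  rw [X.basicOpen_mul]; exact ⟨h', h⟩

/-- Local-global principle for images: for `φ : M ⟶ N` between quasi-coherent modules and `U`
affine, a section of `N` over `U` whose germs all lie in the image of `φ` on stalks comes from a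
section of `M` over `U`. -/
theorem mem_range_app_of_germ_mem_range {M N : X.Modules} [M.IsQuasicoherent]
    [N.IsQuasicoherent] (φ : M ⟶ N) {U : X.Opens} (hU : IsAffineOpen U) (n : Γ(N, U))
    (h : ∀ (x : X) (hx : x ∈ U), ∃ t : M.presheaf.stalk x,
      stalkMap φ x t = N.presheaf.germ U x hx n) :
    ∃ m : Γ(M, U), φ.app U m = n := by
  let I : Ideal Γ(X, U) :=
    { carrier := {r | ∃ m : Γ(M, U), φ.app U m = r • n}
      add_mem' := by
        rintro a b ⟨ma, ha⟩ ⟨mb, hb⟩
        exact ⟨ma + mb, by rw [map_add, ha, hb, add_smul]⟩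
      zero_mem' := ⟨0, by rw [map_zero, zero_smul]⟩
      smul_mem' := by
        rintro c a ⟨ma, ha⟩
        exact ⟨c • ma, by rw [Scheme.Modules.Hom.app_smul, ha, smul_eq_mul, mul_smul]⟩ }
  have hI : I = ⊤ := by
    apply ideal_eq_top_of_forall_mem_basicOpen hU
    intro x hx
    obtain ⟨t, ht⟩ := h x hx
    obtain ⟨r, a, hr, hra⟩ := exists_smul_germ_eq M hU x hx t
    have h1 : N.presheaf.germ U x hx (φ.app U a - r • n) = 0 := by
      rw [map_sub, ← stalkMap_germ, ← hra, stalkMap_smul, ht, germ_smul, sub_self]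
    obtain ⟨r', hr', h2⟩ := exists_smul_eq_zero_of_germ_eq_zero N hU x hx _ h1
    refine ⟨r' * r, ⟨r' • a, ?_⟩, basicOpen_mul_mem r r' x hr hr'⟩
    rw [smul_sub, sub_eq_zero] at h2
    rw [Scheme.Modules.Hom.app_smul, h2, mul_smul]
  have h1 : (1 : Γ(X, U)) ∈ I := by rw [hI]; trivial
  obtain ⟨m, hm⟩ := h1
  exact ⟨m, by rw [hm, one_smul]⟩

/-- Sections of quasi-coherent modules over an affine open are right exact: an epimorphism
of quasi-coherent modules is surjective on sections over affine opens. -/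
theorem app_surjective_of_epi {M N : X.Modules} [M.IsQuasicoherent]
    [N.IsQuasicoherent] (φ : M ⟶ N) [Epi φ] {U : X.Opens} (hU : IsAffineOpen U) :
    Function.Surjective (φ.app U) := fun n =>
  mem_range_app_of_germ_mem_range φ hU n fun x _ =>
    (epi_iff_stalkMap_surjective φ).mp inferInstance x _

/-- Sections of quasi-coherent modules over an affine open are exact in the middle. -/
theorem app_exact_of_exact (S : ShortComplex X.Modules) (hS : S.Exact) [S.X₁.IsQuasicoherent]
    [S.X₂.IsQuasicoherent] {U : X.Opens} (hU : IsAffineOpen U) :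
    Function.Exact (S.f.app U) (S.g.app U) := by
  intro n
  constructor
  · intro hn
    apply mem_range_app_of_germ_mem_range S.f hU n
    intro x hx
    have hex := (exact_iff_stalk_function_exact S).mp hS x
    apply (hex _).mp
    rw [stalkMap_germ, hn, map_zero]
  · rintro ⟨m, rfl⟩
    have : S.f.app U ≫ S.g.app U = 0 := by
      rw [← Scheme.Modules.Hom.comp_app, S.zero]; rfl
    exact congrArg (fun k => k m) (congrArg (fun k => (k.hom : _ → _)) this)

end Groth.Agent.Lib.Helper29.QCoh
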