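import Groth.Agent.Lib.Helper29.GenLocus
universe u
open CategoryTheory CategoryTheory.Limits AlgebraicGeometry Opposite TopologicalSpace

namespace Groth.Agent.Lib.Helper29.QCoh
variable {X : Scheme.{u}}

theorem app_smul' {M N : X.Modules} (φ : M ⟶ N) {U : X.Opens} (r : Γ(X, U)) (m : Γ(M, U)) :
    φ.app U (r • m) = r • φ.app U m :=
  (φ.val.app (op U)).hom.map_smul r m

/-- A morphism of quasi-coherent modules which is bijective on sections over the members of an
affine open cover is an isomorphism. -/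
theorem isIso_of_app_bijective_of_affine_cover {M N : X.Modules} [M.IsQuasicoherent]
    [N.IsQuasicoherent] (φ : M ⟶ N) {ι : Type*} (U : ι → X.Opens)
    (hU : ∀ i, IsAffineOpen (U i)) (hcov : ∀ x : X, ∃ i, x ∈ U i)
    (h : ∀ i, Function.Bijective (φ.app (U i))) : IsIso φ := by
  rw [isIso_iff_stalkMap_bijective]
  intro x
  obtain ⟨i, hx⟩ := hcov x
  constructor
  · rw [injective_iff_map_eq_zero]
    intro t ht
    obtain ⟨r, m, hxr, e⟩ := exists_smul_germ_eq M (hU i) x hx t
    have hr := isUnit_germ_of_mem_basicOpen r x hx hxr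
    have h1 : N.presheaf.germ (U i) x hx (φ.app (U i) m) = 0 := by
      rw [← stalkMap_germ, ← e, stalkMap_smul, ht, smul_zero]
    obtain ⟨r', hxr', e'⟩ := exists_smul_eq_zero_of_germ_eq_zero N (hU i) x hx _ h1
    have hr' := isUnit_germ_of_mem_basicOpen r' x hx hxr'
    rw [← app_smul'] at e'
    have h2 : r' • m = 0 := (h i).1 (e'.trans (map_zero _).symm)
    have h3 := congrArg (M.presheaf.germ (U i) x hx) h2
    rw [germ_smul, map_zero] at h3
    have h4 := eq_zero_of_isUnit_smul hr' h3
    rw [h4] at e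
    exact eq_zero_of_isUnit_smul hr e
  · intro t
    obtain ⟨r, n, hxr, e⟩ := exists_smul_germ_eq N (hU i) x hx t
    have hr := isUnit_germ_of_mem_basicOpen r x hx hxr
    obtain ⟨m, rfl⟩ := (h i).2 n
    obtain ⟨u, hu⟩ := hr
    refine ⟨(↑u⁻¹ : X.presheaf.stalk x) • M.presheaf.germ (U i) x hx m, ?_⟩
    rw [stalkMap_smul, stalkMap_germ, ← e, ← hu, smul_smul, Units.inv_mul, one_smul]

end Groth.Agent.Lib.Helper29.QCoh
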