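import Groth.Agent.Lib.Helper29.QCohFinite
universe u
open CategoryTheory CategoryTheory.Limits AlgebraicGeometry Opposite TopologicalSpace

/-! # Constructing finite type modules from generating sections -/

namespace Groth.Agent.Lib.Helper29.QCoh

variable {X : Scheme.{u}}

/-- A global section of `N`, as an element of `N.sections`. -/
noncomputable def sectionOfTop (N : X.Modules) (s : Γ(N, ⊤)) : N.sections :=
  PresheafOfModules.sectionsMk (fun U => res N (le_top : U.unop ≤ ⊤) s) (by
    intro U V f
    exact res_res N (le_top : U.unop ≤ ⊤) (leOfHom f.unop) s)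

theorem sectionOfTop_val (N : X.Modules) (s : Γ(N, ⊤)) (U : X.Opens) :
    (sectionOfTop N s).val (op U) = res N le_top s := rfl

/-- The morphism `O_X ⟶ N` attached to a global section. -/
noncomputable def homOfSection (N : X.Modules) (s : Γ(N, ⊤)) : unitM X ⟶ N :=
  N.unitHomEquiv.symm (sectionOfTop N s)

theorem homOfSection_app_one (N : X.Modules) (s : Γ(N, ⊤)) :
    (homOfSection N s).app ⊤ (toUnit 1) = s := by
  have h := N.unitHomEquiv.apply_symm_apply (sectionOfTop N s)
  have h2 := congrArg (fun t => t.val (op ⊤)) h
  have h3 : (homOfSection N s).app ⊤ (toUnit 1) = (sectionOfTop N s).val (op ⊤) := h2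
  rw [h3, sectionOfTop_val]
  exact res_self N s

/-- The morphism `O_X^I ⟶ N` attached to a family of global sections. -/
noncomputable def homOfSections (N : X.Modules) {I : Type u} (s : I → Γ(N, ⊤)) :
    freeM X I ⟶ N :=
  N.freeHomEquiv.symm (fun i => sectionOfTop N (s i))

theorem ι_homOfSections (N : X.Modules) {I : Type u} (s : I → Γ(N, ⊤)) (i : I) :
    ιFreeM X i ≫ homOfSections N s = homOfSection N (s i) := by
  have := SheafOfModules.unitHomEquiv_symm_freeHomEquiv_apply (homOfSections N s) i
  refine this.symm.trans ?_
  unfold homOfSections homOfSection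
  rw [Equiv.apply_symm_apply]

theorem ι_homOfSections_app_one (N : X.Modules) {I : Type u} (s : I → Γ(N, ⊤)) (i : I) :
    (ιFreeM X i ≫ homOfSections N s).app ⊤ (toUnit 1) = s i := by
  rw [ι_homOfSections, homOfSection_app_one]

/-- The range of a stalk map, as a submodule. -/
noncomputable def stalkMapRange {M N : X.Modules} (φ : M ⟶ N) (x : X) :
    Submodule (X.presheaf.stalk x) (N.presheaf.stalk x) where
  carrier := Set.range (stalkMap φ x)
  add_mem' := by
    rintro _ _ ⟨a, rfl⟩ ⟨b, rfl⟩
    exact ⟨a + b, map_add _ _ _⟩
  zero_mem' := ⟨0, map_zero _⟩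
  smul_mem' := by
    rintro c _ ⟨a, rfl⟩
    exact ⟨c • a, stalkMap_smul φ x c a⟩

theorem mem_stalkMapRange {M N : X.Modules} (φ : M ⟶ N) (x : X) (t : N.presheaf.stalk x) :
    t ∈ stalkMapRange φ x ↔ ∃ a, stalkMap φ x a = t := Iff.rfl

/-- If the germs of the sections `s i` generate all stalks, the morphism `O_X^I ⟶ N` is an
epimorphism. -/
theorem epi_homOfSections_of_span (N : X.Modules) {I : Type u} (s : I → Γ(N, ⊤))
    (h : ∀ x : X, Submodule.span (X.presheaf.stalk x)
      (Set.range fun i => N.presheaf.germ ⊤ x trivial (s i)) = ⊤) :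
    Epi (homOfSections N s) := by
  rw [epi_iff_stalkMap_surjective]
  intro x t
  have ht : t ∈ Submodule.span (X.presheaf.stalk x)
      (Set.range fun i => N.presheaf.germ ⊤ x trivial (s i)) := by rw [h x]; trivial
  have hle : Submodule.span (X.presheaf.stalk x)
      (Set.range fun i => N.presheaf.germ ⊤ x trivial (s i)) ≤
        stalkMapRange (homOfSections N s) x := by
    rw [Submodule.span_le]
    rintro _ ⟨i, rfl⟩
    refine ⟨(freeM X I).presheaf.germ ⊤ x trivial ((ιFreeM X i).app ⊤ (toUnit 1)), ?_⟩
    refine (stalkMap_germ (homOfSections N s) x ⊤ trivial _).trans ?_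
    have := ι_homOfSections_app_one N s i
    change N.presheaf.germ ⊤ x trivial ((ιFreeM X i ≫ homOfSections N s).app ⊤ (toUnit 1)) = _
    rw [this]
  exact hle ht

/-- Generating sections from a family of global sections whose germs generate all stalks. -/
noncomputable def generatingSectionsOfSpan (N : X.Modules) {I : Type u} (s : I → Γ(N, ⊤))
    (h : ∀ x : X, Submodule.span (X.presheaf.stalk x)
      (Set.range fun i => N.presheaf.germ ⊤ x trivial (s i)) = ⊤) :
    N.GeneratingSections where
  I := I
  s := fun i => sectionOfTop N (s i)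
  epi := epi_homOfSections_of_span N s h

/-- A module with finitely many global generating sections is of finite type. -/
theorem isFiniteType_of_generatingSections (N : X.Modules) (σ : N.GeneratingSections)
    [Finite σ.I] : N.IsFiniteType := by
  have : σ.IsFiniteType := ⟨inferInstance⟩
  have h2 : σ.localGeneratorsData.IsFiniteType := { isFiniteType := fun i => ⟨inferInstanceAs (Finite σ.I)⟩ }
  exact { exists_localGeneratorsData := ⟨σ.localGeneratorsData, h2⟩ }

set_option backward.isDefEq.respectTransparency false in
/-- Transport generating sections of `M|_U` (as a module on the scheme `U`) to generating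
sections of `M.over U`. -/
noncomputable def generatingSectionsOver (M : X.Modules) (U : X.Opens)
    (σ : (M.restrict U.ι).GeneratingSections) : (M.over U).GeneratingSections := by
  let E := Scheme.Modules.overEquiv U
  have : PreservesColimitsOfSize.{u, u} E.inverse := inferInstance
  let η : SheafOfModules.unit (X.ringCatSheaf.over U) ≅
      E.inverse.obj (SheafOfModules.unit (U : Scheme.{u}).ringCatSheaf) :=
    E.unitIso.app _ ≪≫ E.inverse.mapIso (Iso.refl _)
  let iso : E.inverse.obj (M.restrict U.ι) ≅ M.over U :=
    E.inverse.mapIso ((Scheme.Modules.overFunctorEquiv U).app M).symm ≪≫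
      (E.unitIso.app (M.over U)).symm
  exact (σ.map E.inverse η).ofEpi iso.hom

theorem generatingSectionsOver_I (M : X.Modules) (U : X.Opens)
    (σ : (M.restrict U.ι).GeneratingSections) : (generatingSectionsOver M U σ).I = σ.I := rfl

/-- A module which has, on an open cover, finitely many generating sections is of finite type. -/
theorem isFiniteType_of_isOpenCover (M : X.Modules) {ι : Type u} (U : ι → X.Opens)
    (hU : IsOpenCover U) (σ : ∀ i, (M.restrict (U i).ι).GeneratingSections)
    [∀ i, Finite (σ i).I] : M.IsFiniteType := by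
  let q : SheafOfModules.LocalGeneratorsData.{u} M :=
    { I := ι
      X := U
      coversTop := by
        rw [Opens.coversTop_iff]; exact hU
      generators := fun i => generatingSectionsOver M (U i) (σ i) }
  have hq : q.IsFiniteType :=
    { isFiniteType := fun i => ⟨inferInstanceAs (Finite (σ i).I)⟩ }
  exact { exists_localGeneratorsData := ⟨q, hq⟩ }

theorem restrictStalkIso_inv_smul {Y : Scheme.{u}} (f : Y ⟶ X) [IsOpenImmersion f]
    (M : X.Modules) (y : Y) (r : X.presheaf.stalk (f y)) (t : M.presheaf.stalk (f y)) :
    (restrictStalkIso f M y).inv (r • t) =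
      (f.stalkMap y r) • (restrictStalkIso f M y).inv t := by
  apply (ConcreteCategory.bijective_of_isIso (restrictStalkIso f M y).hom).injective
  rw [restrictStalkIso_smul, ← ConcreteCategory.comp_apply, ← ConcreteCategory.comp_apply,
    Iso.inv_hom_id]
  rfl

theorem restrictStalkIso_inv_germ {Y : Scheme.{u}} (f : Y ⟶ X) [IsOpenImmersion f]
    (M : X.Modules) (y : Y) (V : Y.Opens) (hy : y ∈ V) (s : Γ(M.restrict f, V)) :
    (restrictStalkIso f M y).inv (M.presheaf.germ (f ''ᵁ V) (f y) ⟨y, hy, rfl⟩ s) =
      (M.restrict f).presheaf.germ V y hy s := by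
  rw [← restrictStalkIso_germ f M y V hy s, ← ConcreteCategory.comp_apply, Iso.hom_inv_id]
  rfl

/-- Germs of sections generate the stalk of `M|_Y` iff they generate the stalk of `M`. -/
theorem span_germ_restrict_eq_top_iff {Y : Scheme.{u}} (f : Y ⟶ X) [IsOpenImmersion f]
    (M : X.Modules) (y : Y) (V : Y.Opens) (hy : y ∈ V) {I : Type*} (m : I → Γ(M, f ''ᵁ V)) :
    Submodule.span (Y.presheaf.stalk y)
        (Set.range fun i => (M.restrict f).presheaf.germ V y hy (m i)) = ⊤ ↔
      Submodule.span (X.presheaf.stalk (f y))
        (Set.range fun i => M.presheaf.germ (f ''ᵁ V) (f y) ⟨y, hy, rfl⟩ (m i)) = ⊤ := by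
  let E := restrictStalkIso f M y
  constructor
  · intro h
    rw [eq_top_iff]
    rintro t -
    have ht : t = E.hom (E.inv t) := by
      rw [← ConcreteCategory.comp_apply, Iso.inv_hom_id]; rfl
    rw [ht]
    have hmem : E.inv t ∈ Submodule.span (Y.presheaf.stalk y)
        (Set.range fun i => (M.restrict f).presheaf.germ V y hy (m i)) := by
      rw [h]; trivial
    generalize E.inv t = v at hmem
    induction hmem using Submodule.span_induction with
    | mem v hv =>
      obtain ⟨i, rfl⟩ := hv
      apply Submodule.subset_span
      exact ⟨i, (restrictStalkIso_germ f M y V hy (m i)).symm⟩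
    | zero => rw [map_zero]; exact Submodule.zero_mem _
    | add a b _ _ ha hb => rw [map_add]; exact Submodule.add_mem _ ha hb
    | smul r v _ hv =>
      rw [restrictStalkIso_smul']
      exact Submodule.smul_mem _ _ hv
  · intro h
    rw [eq_top_iff]
    rintro t -
    have ht : t = E.inv (E.hom t) := by
      rw [← ConcreteCategory.comp_apply, Iso.hom_inv_id]; rfl
    rw [ht]
    have hmem : E.hom t ∈ Submodule.span (X.presheaf.stalk (f y))
        (Set.range fun i => M.presheaf.germ (f ''ᵁ V) (f y) ⟨y, hy, rfl⟩ (m i)) := by
      rw [h]; trivial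
    generalize E.hom t = v at hmem
    induction hmem using Submodule.span_induction with
    | mem v hv =>
      obtain ⟨i, rfl⟩ := hv
      apply Submodule.subset_span
      exact ⟨i, (restrictStalkIso_inv_germ f M y V hy (m i)).symm⟩
    | zero => rw [map_zero]; exact Submodule.zero_mem _
    | add a b _ _ ha hb => rw [map_add]; exact Submodule.add_mem _ ha hb
    | smul r v _ hv =>
      rw [restrictStalkIso_inv_smul]
      exact Submodule.smul_mem _ _ hv

/-- Sections of `M` over `U` whose germs generate the stalks at all points of `U` give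
generating sections of `M|_U`. -/
noncomputable def generatingSectionsRestrictOfSpan (M : X.Modules) (U : X.Opens) {I : Type u}
    (t : I → Γ(M, U))
    (h : ∀ (x : X) (hx : x ∈ U), Submodule.span (X.presheaf.stalk x)
      (Set.range fun i => M.presheaf.germ U x hx (t i)) = ⊤) :
    (M.restrict U.ι).GeneratingSections :=
  generatingSectionsOfSpan (M.restrict U.ι)
    (fun i => (res M (Scheme.Opens.ι_image_top U).le (t i) : Γ(M, U.ι ''ᵁ ⊤))) (by
      intro y
      rw [span_germ_restrict_eq_top_iff U.ι M y ⊤ trivial]
      have := h (U.ι y) y.2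
      have h2 : (fun i : I => M.presheaf.germ (U.ι ''ᵁ ⊤) (U.ι y) ⟨y, trivial, rfl⟩
          (res M (Scheme.Opens.ι_image_top U).le (t i))) =
          fun i : I => M.presheaf.germ U (U.ι y) y.2 (t i) := by
        funext i
        exact germ_res M (Scheme.Opens.ι_image_top U).le (U.ι y) _ _
      rw [h2]
      exact this)

theorem generatingSectionsRestrictOfSpan_I (M : X.Modules) (U : X.Opens) {I : Type u}
    (t : I → Γ(M, U)) (h) : (generatingSectionsRestrictOfSpan M U t h).I = I := rfl

/-- On an affine open, generators of the module of sections of a quasi-coherent module generate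
all stalks. -/
theorem span_germ_eq_top_of_span_eq_top (M : X.Modules) [M.IsQuasicoherent] {U : X.Opens}
    (hU : IsAffineOpen U) {I : Type*} (t : I → Γ(M, U))
    (h : Submodule.span Γ(X, U) (Set.range t) = ⊤) (x : X) (hx : x ∈ U) :
    Submodule.span (X.presheaf.stalk x)
      (Set.range fun i => M.presheaf.germ U x hx (t i)) = ⊤ := by
  rw [eq_top_iff]
  rintro v -
  have key : ∀ m ∈ Submodule.span Γ(X, U) (Set.range t),
      M.presheaf.germ U x hx m ∈ Submodule.span (X.presheaf.stalk x)
        (Set.range fun i => M.presheaf.germ U x hx (t i)) := by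
    intro m hm
    induction hm using Submodule.span_induction with
    | mem m hm =>
      obtain ⟨i, rfl⟩ := hm
      exact Submodule.subset_span ⟨i, rfl⟩
    | zero => rw [map_zero]; exact Submodule.zero_mem _
    | add a b _ _ ha hb => rw [map_add]; exact Submodule.add_mem _ ha hb
    | smul a m _ hm => rw [germ_smul]; exact Submodule.smul_mem _ _ hm
  obtain ⟨r, m, hr, hrm⟩ := exists_smul_germ_eq M hU x hx v
  have hgm := key m (by rw [h]; trivial)
  obtain ⟨u, hu⟩ := isUnit_germ_of_mem_basicOpen r x hx hr
  have hv : v = (↑u⁻¹ : X.presheaf.stalk x) • M.presheaf.germ U x hx m := by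
    rw [← hrm, ← hu, smul_smul, Units.inv_mul, one_smul]
  rw [hv]
  exact Submodule.smul_mem _ _ hgm

/-- A quasi-coherent module whose modules of sections over the members of an affine open cover
are finitely generated is of finite type. -/
theorem isFiniteType_of_module_finite (M : X.Modules) [M.IsQuasicoherent] {ι : Type u}
    (U : ι → X.Opens) (hcov : IsOpenCover U) (haff : ∀ i, IsAffineOpen (U i))
    (hfin : ∀ i, Module.Finite Γ(X, U i) Γ(M, U i)) : M.IsFiniteType := by
  choose S hS using fun i => (hfin i).fg_top
  have hspan : ∀ i, Submodule.span Γ(X, U i) (Set.range (fun s : S i => (s : Γ(M, U i)))) = ⊤ := by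
    intro i
    rw [Subtype.range_coe_subtype]
    exact hS i
  let σ : ∀ i, (M.restrict (U i).ι).GeneratingSections := fun i =>
    generatingSectionsRestrictOfSpan M (U i) (fun s : S i => (s : Γ(M, U i)))
      (fun x hx => span_germ_eq_top_of_span_eq_top M (haff i) _ (hspan i) x hx)
  have : ∀ i, Finite (σ i).I := fun i => inferInstanceAs (Finite (S i))
  exact isFiniteType_of_isOpenCover M U hcov σ

/-- The action of a morphism on sections as a linear map. -/
noncomputable def appₗ {M N : X.Modules} (φ : M ⟶ N) (U : X.Opens) :
    Γ(M, U) →ₗ[Γ(X, U)] Γ(N, U) :=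
  (φ.val.app (op U)).hom

theorem appₗ_apply {M N : X.Modules} (φ : M ⟶ N) (U : X.Opens) (m : Γ(M, U)) :
    appₗ φ U m = φ.app U m := rfl

/-- The affine opens of a scheme form an open cover. -/
theorem isOpenCover_affineOpens (X : Scheme.{u}) :
    IsOpenCover (fun U : X.affineOpens => (U : X.Opens)) := by
  rw [IsOpenCover, eq_top_iff]
  rintro x -
  obtain ⟨U, hU, hxU, -⟩ := Opens.isBasis_iff_nbhd.mp X.isBasis_affineOpens (Opens.mem_top x)
  exact Opens.mem_iSup.mpr ⟨⟨U, hU⟩, hxU⟩

/-- A quasi-coherent module is of finite type iff its modules of sections over all affine opens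
are finitely generated. -/
theorem isFiniteType_iff_forall_module_finite (M : X.Modules) [M.IsQuasicoherent] :
    M.IsFiniteType ↔ ∀ (U : X.Opens), IsAffineOpen U → Module.Finite Γ(X, U) Γ(M, U) := by
  constructor
  · intro h U hU
    exact module_finite_of_isFiniteType M hU
  · intro h
    exact isFiniteType_of_module_finite M (fun U : X.affineOpens => (U : X.Opens))
      (isOpenCover_affineOpens X) (fun U => U.2) (fun U => h U.1 U.2)

/-- On a locally Noetherian scheme, a quasi-coherent submodule of a quasi-coherent module of
finite type is of finite type. -/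
theorem isFiniteType_of_mono [IsLocallyNoetherian X] {M N : X.Modules} (i : N ⟶ M) [Mono i]
    [M.IsQuasicoherent] [M.IsFiniteType] [N.IsQuasicoherent] : N.IsFiniteType := by
  rw [isFiniteType_iff_forall_module_finite]
  intro U hU
  have := IsLocallyNoetherian.component_noetherian (X := X) ⟨U, hU⟩
  have hfin : Module.Finite Γ(X, U) Γ(M, U) := module_finite_of_isFiniteType M hU
  have hnoeth : IsNoetherian Γ(X, U) Γ(M, U) := isNoetherian_of_isNoetherianRing_of_finite _ _
  have hinj : Function.Injective (appₗ i U) := (mono_iff_app_injective i).mp inferInstance U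
  have := isNoetherian_of_injective (appₗ i U) hinj
  infer_instance

end Groth.Agent.Lib.Helper29.QCoh
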