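import Groth.Agent.Lib.Helper29.QCohAffine
universe u
open CategoryTheory CategoryTheory.Limits AlgebraicGeometry Opposite

namespace Groth.Agent.Lib.Helper29.QCoh

variable {X Y : Scheme.{u}} (f : Y ⟶ X) [IsOpenImmersion f] (M : X.Modules) (y : Y)

/-- The stalk of a restricted module is the stalk of the module. -/
noncomputable def restrictStalkIso :
    (M.restrict f).presheaf.stalk y ≅ M.presheaf.stalk (f y) :=
  (Scheme.Modules.restrictStalkNatIso f y).app M

theorem restrictStalkIso_germ (V : Y.Opens) (hy : y ∈ V) (s : Γ(M.restrict f, V)) :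
    (restrictStalkIso f M y).hom ((M.restrict f).presheaf.germ V y hy s) =
      M.presheaf.germ (f ''ᵁ V) (f y) ⟨y, hy, rfl⟩ s :=
  congrArg (fun k => k.hom s) (Scheme.Modules.germ_restrictStalkNatIso_hom_app f y M hy)

theorem restrict_smul (V : Y.Opens) (b : Γ(Y, V)) (s' : Γ(M, f ''ᵁ V)) :
    HSMul.hSMul (α := Γ(Y, V)) (β := Γ(M.restrict f, V)) b s' = ((f.appIso V).inv b) • s' :=
  Scheme.Modules.smul_restrictAppIso_hom_apply f M V b s'

theorem germ_restrict_smul (V : Y.Opens) (b : Γ(Y, V)) (s' : Γ(M, f ''ᵁ V))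
    (hfy : f y ∈ f ''ᵁ V) :
    M.presheaf.germ (f ''ᵁ V) (f y) hfy
        (HSMul.hSMul (α := Γ(Y, V)) (β := Γ(M.restrict f, V)) b s') =
      X.presheaf.germ (f ''ᵁ V) (f y) hfy ((f.appIso V).inv b) •
        M.presheaf.germ (f ''ᵁ V) (f y) hfy s' := by
  rw [restrict_smul]
  exact germ_smul M (f y) (f ''ᵁ V) hfy _ s'

theorem stalkMap_germ_appIso_inv (V : Y.Opens) (hy : y ∈ V) (b : Γ(Y, V))
    (hfy : f y ∈ f ''ᵁ V) :
    f.stalkMap y (X.presheaf.germ (f ''ᵁ V) (f y) hfy ((f.appIso V).inv b)) =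
      Y.presheaf.germ V y hy b := by
  rw [Scheme.Hom.germ_stalkMap_apply]
  have h2 : f.app (f ''ᵁ V) ((f.appIso V).inv b) =
      Y.presheaf.map (eqToHom (f.preimage_image_eq V)).op b :=
    congrArg (fun k => k.hom b) (Scheme.Hom.appIso_inv_app f V)
  rw [h2]
  exact Y.presheaf.germ_res_apply (eqToHom (f.preimage_image_eq V)) y _ b

theorem restrictStalkIso_smul' (r' : Y.presheaf.stalk y) (t : (M.restrict f).presheaf.stalk y) :
    (restrictStalkIso f M y).hom (r' • t) =
      (inv (f.stalkMap y)) r' • (restrictStalkIso f M y).hom t := by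
  obtain ⟨V, hyV, s, rfl⟩ := (M.restrict f).presheaf.exists_germ_eq t
  obtain ⟨V', hV'V, hyV', b, rfl⟩ := Y.presheaf.exists_le_germ_eq r' hyV
  have e1 : (M.restrict f).presheaf.germ V y hyV s = (M.restrict f).presheaf.germ V' y hyV'
      (res (M.restrict f) hV'V s) := (germ_res (M.restrict f) hV'V y hyV' s).symm
  rw [e1, ← germ_smul, restrictStalkIso_germ, restrictStalkIso_germ]
  have hfy : f y ∈ f ''ᵁ V' := ⟨y, hyV', rfl⟩
  refine (germ_restrict_smul f M y V' b _ hfy).trans ?_
  congr 1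
  apply (ConcreteCategory.bijective_of_isIso (f.stalkMap y)).injective
  rw [← ConcreteCategory.comp_apply (inv (f.stalkMap y)), IsIso.inv_hom_id]
  exact stalkMap_germ_appIso_inv f y V' hyV' b hfy

theorem restrictStalkIso_smul (r : X.presheaf.stalk (f y)) (t : (M.restrict f).presheaf.stalk y) :
    (restrictStalkIso f M y).hom ((f.stalkMap y r) • t) =
      r • (restrictStalkIso f M y).hom t := by
  rw [restrictStalkIso_smul', ← ConcreteCategory.comp_apply, IsIso.hom_inv_id]
  rfl

end Groth.Agent.Lib.Helper29.QCoh
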