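import Groth.Agent.Lib.Helper29.Res2
import Groth.Agent.Lib.Helper3.SubSh
universe u
open CategoryTheory CategoryTheory.Limits AlgebraicGeometry TopologicalSpace Opposite
open scoped TensorProduct

/-! # Jointly epimorphic families, tensor products and pullbacks -/

namespace Groth.Agent.Lib.Helper29.QCoh.Res
open Groth.Agent.Lib.Helper29.QCoh Groth.Agent.Lib.Helper3 Groth.Agent.Lib.Helper29.QCoh.Dual

variable {X Y : Scheme.{u}}

/-- Morphisms out of a tensor product are determined by their values on pure tensors. -/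
theorem tensor_hom_ext {M N Q : X.Modules} (h1 h2 : CohB1.tensorMod M N ⟶ Q)
    (h : ∀ (U : X.Opens) (m : Γ(M, U)) (n : Γ(N, U)),
      h1.app U (tmulSec M N m n) = h2.app U (tmulSec M N m n)) : h1 = h2 := by
  let adj := PresheafOfModules.sheafificationAdjunction (𝟙 X.ringCatSheaf.obj)
  let e := adj.homEquiv (tpre M N) Q
  have key : ∀ (k : CohB1.tensorMod M N ⟶ Q) (U : X.Opens) (w : (tpre M N).obj (op U)),
      ((e k).app (op U)).hom w = k.app U (unitApp (tpre M N) U w) := by
    intro k U w
    have h3 := shfDesc_unitApp (e k) U w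
    have h4 : shfDesc (e k) = k := Equiv.symm_apply_apply e k
    rw [h4] at h3
    exact h3.symm
  apply e.injective
  apply PresheafOfModules.hom_ext
  intro W
  ext w
  obtain ⟨U⟩ := W
  rw [key, key]
  let g1 : (tpre M N).obj (op U) →+ Γ(Q, U) :=
    AddMonoidHom.comp (h1.app U).hom (unitApp (tpre M N) U)
  let g2 : (tpre M N).obj (op U) →+ Γ(Q, U) :=
    AddMonoidHom.comp (h2.app U).hom (unitApp (tpre M N) U)
  change g1 w = g2 w
  refine tpre_induction M N (C := fun w => g1 w = g2 w) w ?_ (fun m n => h U m n)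
    (fun a b ha hb => ?_)
  · rw [map_zero, map_zero]
  · rw [map_add, map_add, ha, hb]

/-- Functoriality of the tensor product in the second variable. -/
noncomputable def tensorMapLeft (N : X.Modules) {A B : X.Modules} (φ : A ⟶ B) :
    CohB1.tensorMod N A ⟶ CohB1.tensorMod N B :=
  tensorDesc
    { b := fun U n a => tmulSec N B n (φ.app U a)
      add_left := fun U n n' a => tmulSec_add_left N B n n' _
      add_right := fun U n a a' => by rw [map_add, tmulSec_add_right]
      smul_left := fun U r n a => tmulSec_smul_left N B r n _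
      smul_right := fun U r n a => by
        rw [Scheme.Modules.Hom.app_smul, tmulSec_smul_right]
      res := fun {U V} h n a => by rw [res_tmulSec, app_res] }

theorem tensorMapLeft_tmulSec (N : X.Modules) {A B : X.Modules} (φ : A ⟶ B) (U : X.Opens)
    (n : Γ(N, U)) (a : Γ(A, U)) :
    (tensorMapLeft N φ).app U (tmulSec N A n a) = tmulSec N B n (φ.app U a) :=
  tensorDesc_tmulSec _ U n a

/-- A family of morphisms with common target is jointly epimorphic. -/
def JointlyEpi {C : Type*} [Category C] {J : Type*} {B : C} {A : J → C} (ρ : ∀ j, A j ⟶ B) : Prop :=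
  ∀ ⦃Z : C⦄ (h1 h2 : B ⟶ Z), (∀ j, ρ j ≫ h1 = ρ j ≫ h2) → h1 = h2

theorem jointlyEpi_of_epi_desc {C : Type*} [Category C] {J : Type*} {B : C} {A : J → C}
    [HasCoproduct A] (ρ : ∀ j, A j ⟶ B) (h : Epi (Sigma.desc ρ)) : JointlyEpi ρ := by
  intro Z h1 h2 hh
  rw [← cancel_epi (Sigma.desc ρ)]
  apply Sigma.hom_ext
  intro j
  rw [Sigma.ι_desc_assoc, Sigma.ι_desc_assoc]
  exact hh j

theorem epi_desc_of_jointlyEpi {C : Type*} [Category C] {J : Type*} {B : C} {A : J → C}
    [HasCoproduct A] (ρ : ∀ j, A j ⟶ B) (h : JointlyEpi ρ) : Epi (Sigma.desc ρ) := by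
  refine ⟨fun h1 h2 hh => h h1 h2 fun j => ?_⟩
  have := congrArg (fun k => Sigma.ι A j ≫ k) hh
  simpa using this

theorem JointlyEpi.map_of_adjunction {C D : Type*} [Category C] [Category D] {F : C ⥤ D}
    {G : D ⥤ C} (adj : F ⊣ G) {J : Type*} {B : C} {A : J → C} {ρ : ∀ j, A j ⟶ B}
    (h : JointlyEpi ρ) : JointlyEpi (fun j => F.map (ρ j)) := by
  intro Z h1 h2 hh
  apply (adj.homEquiv B Z).injective
  apply h
  intro j
  rw [← adj.homEquiv_naturality_left, ← adj.homEquiv_naturality_left, hh j]

theorem JointlyEpi.comp {C : Type*} [Category C] {K : Type*} {J : K → Type*} {M : C} {T : K → C}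
    {A : ∀ k, J k → C} {σ : ∀ k, T k ⟶ M} (hσ : JointlyEpi σ)
    {ρ : ∀ k (j : J k), A k j ⟶ T k} (hρ : ∀ k, JointlyEpi (ρ k)) :
    JointlyEpi (fun p : Σ k, J k => ρ p.1 p.2 ≫ σ p.1) := by
  intro Z h1 h2 hh
  apply hσ
  intro k
  apply hρ k
  intro j
  have := hh ⟨k, j⟩
  simpa only [Category.assoc] using this

/-- A morphism whose sections land in a subsheaf factors through it. -/
theorem SubSh_exists_lift {F G : X.Modules} (K : SubSh F) (φ : G ⟶ F)
    (h : ∀ (T : X.Opens) (t : Γ(G, T)), φ.app T t ∈ K.carrier T) :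
    ∃ ψ : G ⟶ K.toModules, ψ ≫ K.ι = φ := by
  have h0 : φ ≫ cokernel.π K.ι = 0 := by
    apply Scheme.Modules.hom_ext
    intro T
    ext t
    obtain ⟨t', ht'⟩ := K.exists_of_mem T (φ.app T t) (h T t)
    change (cokernel.π K.ι).app T (φ.app T t) = 0
    rw [← ht']
    change (K.ι ≫ cokernel.π K.ι).app T t' = 0
    rw [cokernel.condition]
    rfl
  exact ⟨Abelian.monoLift K.ι φ h0, Abelian.monoLift_comp K.ι φ h0⟩

/-- Tensoring on the left preserves jointly epimorphic families. -/
theorem JointlyEpi.tensorMapLeft (W : X.Modules) {J : Type*} {B : X.Modules} {A : J → X.Modules}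
    {ρ : ∀ j, A j ⟶ B} (hρ : JointlyEpi ρ) :
    JointlyEpi (fun j => tensorMapLeft W (ρ j)) := by
  intro Z h1 h2 hh
  rw [← sub_eq_zero]
  set c : CohB1.tensorMod W B ⟶ Z := h1 - h2 with hc
  have hc0 : ∀ j, Res.tensorMapLeft W (ρ j) ≫ c = 0 := by
    intro j
    rw [hc, Preadditive.comp_sub, hh j, sub_self]
  -- the subsheaf of sections of `B` killed by `c` after tensoring
  let K : SubSh B :=
    { carrier := fun T =>
        { carrier := {b | ∀ (T' : X.Opens) (hT : T' ≤ T) (w : Γ(W, T')),
            c.app T' (tmulSec W B w (res B hT b)) = 0}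
          zero_mem' := by
            intro T' hT w
            rw [map_zero, tmulSec_zero_right, map_zero]
          add_mem' := by
            intro a b ha hb T' hT w
            rw [map_add, tmulSec_add_right, map_add, ha T' hT w, hb T' hT w, add_zero]
          smul_mem' := by
            intro r b hb T' hT w
            rw [res_smul, tmulSec_smul_right, Scheme.Modules.Hom.app_smul, hb T' hT w, smul_zero] }
      res_mem := by
        intro T T' hTT s hs T'' hT w
        rw [res_res]
        exact hs T'' (hT.trans hTT) w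
      local_mem := by
        intro T s hs T' hT w
        apply eq_zero_of_germ_eq_zero
        intro x hx
        obtain ⟨T₁, hT₁, hxT₁, hmem⟩ := hs x (hT hx)
        have h2 := hmem (T' ⊓ T₁) inf_le_right (res W (inf_le_left : T' ⊓ T₁ ≤ T') w)
        rw [res_res] at h2
        have h3 : res B (inf_le_right.trans hT₁ : T' ⊓ T₁ ≤ T) s =
            res B (inf_le_left : T' ⊓ T₁ ≤ T') (res B hT s) := by rw [res_res]
        rw [h3, ← res_tmulSec, app_res] at h2
        rw [← germ_res Z (inf_le_left : T' ⊓ T₁ ≤ T') x ⟨hx, hxT₁⟩, h2, map_zero] }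
  have hfac : ∀ j, ∃ ψ : A j ⟶ K.toModules, ψ ≫ K.ι = ρ j := by
    intro j
    apply SubSh_exists_lift
    intro T t T' hT w
    rw [← app_res, ← tensorMapLeft_tmulSec]
    change (Res.tensorMapLeft W (ρ j) ≫ c).app T' _ = 0
    rw [hc0 j]
    rfl
  have hepi : Epi K.ι := by
    refine ⟨fun g1 g2 hg => hρ g1 g2 fun j => ?_⟩
    obtain ⟨ψ, hψ⟩ := hfac j
    rw [← hψ, Category.assoc, Category.assoc, hg]
  have hiso : IsIso K.ι := isIso_of_mono_of_epi K.ι
  apply tensor_hom_ext
  intro U w b
  have hsurj : ∃ t, K.ι.app U t = b := by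
    refine ⟨(inv K.ι).app U b, ?_⟩
    change ((inv K.ι) ≫ K.ι).app U b = b
    rw [IsIso.inv_hom_id]
    rfl
  obtain ⟨t, rfl⟩ := hsurj
  have := K.ι_app_mem U t U le_rfl w
  rw [res_self] at this
  rw [this]
  rfl

/-- The tensor product of two finite locally free modules is finite locally free. -/
theorem isFinLocFree_tensor {A B : X.Modules} (hA : FlatMod.IsFinLocFree A)
    (hB : FlatMod.IsFinLocFree B) : FlatMod.IsFinLocFree (CohB1.tensorMod A B) := by
  have := isQuasicoherent_of_isFinLocFree hA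
  have := isQuasicoherent_of_isFinLocFree hB
  refine isFinLocFree_of_finite_projective_sections (CohB1.tensorMod A B)
    (fun U : X.affineOpens => U.1) (iSup_affineOpens_eq_top X) (fun U => U.2) (fun U => ?_)
    (fun U => ?_)
  · obtain ⟨h1, -⟩ := finite_projective_sections_of_isFinLocFree hA U.2
    obtain ⟨h2, -⟩ := finite_projective_sections_of_isFinLocFree hB U.2
    exact Module.Finite.equiv (tensorSectionsEquiv A B U.2)
  · obtain ⟨h1, h1'⟩ := finite_projective_sections_of_isFinLocFree hA U.2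
    obtain ⟨h2, h2'⟩ := finite_projective_sections_of_isFinLocFree hB U.2
    exact Module.Projective.of_equiv (tensorSectionsEquiv A B U.2)

/-- Transfer of the (infinite) resolution property along a morphism with an `f`-generating
family of finite locally free modules. -/
theorem exists_epi_sigma_of_generating (f : X ⟶ Y)
    (hY : ∀ N : Y.Modules, Coh.IsQCoh N →
      ∃ (κ : Type u) (V : κ → Y.Modules) (π : (∐ V) ⟶ N), (∀ k, FlatMod.IsFinLocFree (V k)) ∧ Epi π)
    {ι : Type u} (W : ι → X.Modules) (hW : ∀ i, FlatMod.IsFinLocFree (W i))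
    (M : X.Modules)
    (hf : ∃ (κ : Type u) (j : κ → ι) (N : κ → Y.Modules)
        (π : (∐ fun k => CohB1.tensorMod (W (j k)) ((Scheme.Modules.pullback f).obj (N k))) ⟶ M),
        (∀ k, Coh.IsQCoh (N k)) ∧ Epi π) :
      ∃ (κ : Type u) (E : κ → X.Modules) (π : (∐ E) ⟶ M), (∀ k, FlatMod.IsFinLocFree (E k)) ∧ Epi π := by
  obtain ⟨κ, j, N, π, hN, hπ⟩ := hf
  choose κ' V π' hV hπ' using fun k => hY (N k) (hN k)
  have h1 : JointlyEpi (fun k => Sigma.ι
      (fun k => CohB1.tensorMod (W (j k)) ((Scheme.Modules.pullback f).obj (N k))) k ≫ π) := by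
    apply jointlyEpi_of_epi_desc
    have : Sigma.desc (fun k => Sigma.ι
      (fun k => CohB1.tensorMod (W (j k)) ((Scheme.Modules.pullback f).obj (N k))) k ≫ π) = π := by
      apply Sigma.hom_ext
      intro k
      rw [Sigma.ι_desc]
    rw [this]
    exact hπ
  have h2 : ∀ k, JointlyEpi (fun l : κ' k => tensorMapLeft (W (j k))
      ((Scheme.Modules.pullback f).map (Sigma.ι (V k) l ≫ π' k))) := by
    intro k
    apply JointlyEpi.tensorMapLeft
    apply JointlyEpi.map_of_adjunction (Scheme.Modules.pullbackPushforwardAdjunction f)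
    apply jointlyEpi_of_epi_desc
    have : Sigma.desc (fun l => Sigma.ι (V k) l ≫ π' k) = π' k := by
      apply Sigma.hom_ext
      intro l
      rw [Sigma.ι_desc]
    rw [this]
    exact hπ' k
  have h3 := JointlyEpi.comp h1 h2
  refine ⟨Σ k, κ' k, fun p => CohB1.tensorMod (W (j p.1))
    ((Scheme.Modules.pullback f).obj (V p.1 p.2)), Sigma.desc _, fun p => ?_,
    epi_desc_of_jointlyEpi _ h3⟩
  exact isFinLocFree_tensor (hW _) (isFinLocFree_pullback f (hV p.1 p.2))

end Groth.Agent.Lib.Helper29.QCoh.Res
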