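import Groth.Agent.Lib.Helper29.QCohTensor
universe u
open CategoryTheory CategoryTheory.Limits AlgebraicGeometry TopologicalSpace Opposite
open scoped TensorProduct

namespace Groth.Agent.Lib.Helper29.QCoh

variable {X : Scheme.{u}}

/-- Morphisms out of a sheafification. -/
noncomputable def shfDesc {P : X.PresheafOfModules} {Q : X.Modules}
    (g : P ⟶ (SheafOfModules.forget X.ringCatSheaf ⋙
      PresheafOfModules.restrictScalars (𝟙 X.ringCatSheaf.obj)).obj Q) : shf P ⟶ Q :=
  ((PresheafOfModules.sheafificationAdjunction (𝟙 X.ringCatSheaf.obj)).homEquiv P Q).symm g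

theorem shfDesc_unitApp {P : X.PresheafOfModules} {Q : X.Modules}
    (g : P ⟶ (SheafOfModules.forget X.ringCatSheaf ⋙
      PresheafOfModules.restrictScalars (𝟙 X.ringCatSheaf.obj)).obj Q) (U : X.Opens)
    (m : P.obj (op U)) :
    (shfDesc g).app U (unitApp P U m) = (g.app (op U)).hom m := by
  have h := (PresheafOfModules.sheafificationAdjunction (𝟙 X.ringCatSheaf.obj)).homEquiv_unit
    (f := shfDesc g)
  have h2 : ((PresheafOfModules.sheafificationAdjunction (𝟙 X.ringCatSheaf.obj)).homEquiv P Q)
      (shfDesc g) = g := Equiv.apply_symm_apply _ g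
  rw [h2] at h
  have h3 := congrArg (fun k => (k.app (op U)).hom m) h
  exact h3.symm

/-- A compatible family of bilinear pairings on sections. -/
structure Pairing (M N Q : X.Modules) where
  b : ∀ U : X.Opens, Γ(M, U) → Γ(N, U) → Γ(Q, U)
  add_left : ∀ U (m m' : Γ(M, U)) (n : Γ(N, U)), b U (m + m') n = b U m n + b U m' n
  add_right : ∀ U (m : Γ(M, U)) (n n' : Γ(N, U)), b U m (n + n') = b U m n + b U m n'
  smul_left : ∀ U (r : Γ(X, U)) (m : Γ(M, U)) (n : Γ(N, U)), b U (r • m) n = r • b U m n
  smul_right : ∀ U (r : Γ(X, U)) (m : Γ(M, U)) (n : Γ(N, U)), b U m (r • n) = r • b U m n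
  res : ∀ {U V : X.Opens} (h : V ≤ U) (m : Γ(M, U)) (n : Γ(N, U)),
    QCoh.res Q h (b U m n) = b V (QCoh.res M h m) (QCoh.res N h n)

/-- The linear map on the sectionwise tensor product induced by a pairing. -/
noncomputable def Pairing.lift {M N Q : X.Modules} (β : Pairing M N Q) (U : X.Opens) :
    Γ(M, U) ⊗[Γ(X, U)] Γ(N, U) →ₗ[Γ(X, U)] Γ(Q, U) :=
  TensorProduct.lift (LinearMap.mk₂ Γ(X, U) (β.b U) (β.add_left U) (β.smul_left U)
    (β.add_right U) (β.smul_right U))

theorem Pairing.lift_tmul {M N Q : X.Modules} (β : Pairing M N Q) (U : X.Opens)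
    (m : Γ(M, U)) (n : Γ(N, U)) : β.lift U (m ⊗ₜ n) = β.b U m n := rfl

theorem Pairing.lift_pres {M N Q : X.Modules} (β : Pairing M N Q) {U V : X.Opens} (h : V ≤ U)
    (w : (tpre M N).obj (op U)) :
    β.lift V (pres (tpre M N) h w) = QCoh.res Q h (β.lift U w) := by
  refine tpre_induction M N
    (C := fun w => β.lift V (pres (tpre M N) h w) = QCoh.res Q h (β.lift U w)) w ?_
    (fun m n => ?_) (fun a b ha hb => ?_)
  · have h1 : β.lift V 0 = 0 := (β.lift V).map_zero
    have h2 : β.lift U 0 = 0 := (β.lift U).map_zero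
    exact h1.trans ((congrArg (QCoh.res Q h) h2).trans (map_zero _)).symm
  · exact (β.res h m n).symm
  · refine (congrArg (β.lift V) (map_add (pres (tpre M N) h) a b)).trans ?_
    exact ((β.lift V).map_add _ _).trans ((congrArg₂ (· + ·) ha hb).trans
      ((map_add (QCoh.res Q h) _ _).symm.trans
        (congrArg (QCoh.res Q h) ((β.lift U).map_add a b).symm)))

/-- The morphism of presheaves of modules induced by a pairing. -/
noncomputable def Pairing.preHom {M N Q : X.Modules} (β : Pairing M N Q) :
    tpre M N ⟶ (SheafOfModules.forget X.ringCatSheaf ⋙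
      PresheafOfModules.restrictScalars (𝟙 X.ringCatSheaf.obj)).obj Q :=
  PresheafOfModules.homMk
    { app := fun W => AddCommGrpCat.ofHom (β.lift W.unop).toAddMonoidHom
      naturality := by
        intro W W' i
        ext w
        exact β.lift_pres (leOfHom i.unop) w }
    (fun W r w => (β.lift W.unop).map_smul r w)

/-- **Universal property of the tensor product**: a pairing induces a morphism. -/
noncomputable def tensorDesc {M N Q : X.Modules} (β : Pairing M N Q) :
    CohB1.tensorMod M N ⟶ Q :=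
  shfDesc β.preHom

theorem tensorDesc_tmulSec {M N Q : X.Modules} (β : Pairing M N Q) (U : X.Opens)
    (m : Γ(M, U)) (n : Γ(N, U)) :
    (tensorDesc β).app U (tmulSec M N m n) = β.b U m n :=
  shfDesc_unitApp β.preHom U (ptmul M N m n)

end Groth.Agent.Lib.Helper29.QCoh
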