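import Mathlib.RingTheory.Localization.BaseChange
import Mathlib.Algebra.Module.LocalizedModule.Basic
universe u
open TensorProduct

namespace Groth.Agent.Lib.Helper29.QCoh

section
variable {A B M N M' N' : Type*} [CommRing A] [CommRing B] [Algebra A B]
  [AddCommGroup M] [AddCommGroup N] [AddCommGroup M'] [AddCommGroup N']
  [Module A M] [Module A N] [Module A M'] [Module A N'] [Module B M'] [Module B N']
  [IsScalarTower A B M'] [IsScalarTower A B N']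

/-- The map `M ⊗[A] N → M' ⊗[B] N'` induced by two `A`-linear maps. -/
noncomputable def tensorMapOver (g₁ : M →ₗ[A] M') (g₂ : N →ₗ[A] N') : M ⊗[A] N →ₗ[A] M' ⊗[B] N' :=
  (TensorProduct.mapOfCompatibleSMul B A A M' N').comp (TensorProduct.map g₁ g₂)

@[simp]
theorem tensorMapOver_tmul (g₁ : M →ₗ[A] M') (g₂ : N →ₗ[A] N') (m : M) (n : N) :
    tensorMapOver (B := B) g₁ g₂ (m ⊗ₜ n) = g₁ m ⊗ₜ g₂ n := rfl

theorem isLocalizedModule_tensorMapOver (S : Submonoid A) [IsLocalization S B]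
    (g₁ : M →ₗ[A] M') (g₂ : N →ₗ[A] N') [IsLocalizedModule S g₁] [IsLocalizedModule S g₂] :
    IsLocalizedModule S (tensorMapOver (B := B) g₁ g₂) := by
  have : TensorProduct.CompatibleSMul A B M' N' :=
    IsLocalization.tensorProduct_compatibleSMul S B M' N'
  have h : IsLocalizedModule S (TensorProduct.map g₁ g₂) := inferInstance
  exact IsLocalizedModule.of_linearEquiv S (TensorProduct.map g₁ g₂)
    (TensorProduct.equivOfCompatibleSMul B A A M' N')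

end

section
variable {A B M N M₁ N₁ : Type*} [CommRing A] [CommRing B]
  [AddCommGroup M] [AddCommGroup N] [AddCommGroup M₁] [AddCommGroup N₁]
  [Module A M] [Module A N] [Module B M₁] [Module B N₁]

/-- Forward map of a semilinear tensor congruence. -/
noncomputable def semiTensorHom (γ : B →+* A) (e₁ : M₁ →+ M) (e₂ : N₁ →+ N)
    (h₁ : ∀ b x, e₁ (b • x) = γ b • e₁ x) (h₂ : ∀ b y, e₂ (b • y) = γ b • e₂ y) :
    M₁ ⊗[B] N₁ →+ M ⊗[A] N :=
  TensorProduct.liftAddHom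
    { toFun := fun x => (TensorProduct.mk A M N (e₁ x)).toAddMonoidHom.comp e₂
      map_zero' := by ext y; simp
      map_add' := fun x x' => by ext y; simp }
    (fun b x y => by
      change e₁ (b • x) ⊗ₜ[A] e₂ y = e₁ x ⊗ₜ[A] e₂ (b • y)
      rw [h₁, h₂, smul_tmul])

@[simp]
theorem semiTensorHom_tmul (γ : B →+* A) (e₁ : M₁ →+ M) (e₂ : N₁ →+ N)
    (h₁ : ∀ b x, e₁ (b • x) = γ b • e₁ x) (h₂ : ∀ b y, e₂ (b • y) = γ b • e₂ y) (x : M₁) (y : N₁) :
    semiTensorHom γ e₁ e₂ h₁ h₂ (x ⊗ₜ y) = e₁ x ⊗ₜ e₂ y := rfl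

theorem semiTensorHom_smul (γ : B →+* A) (e₁ : M₁ →+ M) (e₂ : N₁ →+ N)
    (h₁ : ∀ b x, e₁ (b • x) = γ b • e₁ x) (h₂ : ∀ b y, e₂ (b • y) = γ b • e₂ y) (b : B)
    (t : M₁ ⊗[B] N₁) :
    semiTensorHom γ e₁ e₂ h₁ h₂ (b • t) = γ b • semiTensorHom γ e₁ e₂ h₁ h₂ t := by
  induction t with
  | zero => simp
  | tmul x y => rw [smul_tmul', semiTensorHom_tmul, semiTensorHom_tmul, h₁, smul_tmul']
  | add a c ha hc => rw [smul_add, map_add, map_add, ha, hc, smul_add]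

/-- Semilinear tensor congruence: additive equivalences `e₁, e₂` semilinear along a ring
isomorphism `γ : B ≃+* A` induce `M₁ ⊗[B] N₁ ≃+ M ⊗[A] N`. -/
noncomputable def semiTensorEquiv (γ : B ≃+* A) (e₁ : M₁ ≃+ M) (e₂ : N₁ ≃+ N)
    (h₁ : ∀ b x, e₁ (b • x) = γ b • e₁ x) (h₂ : ∀ b y, e₂ (b • y) = γ b • e₂ y) :
    M₁ ⊗[B] N₁ ≃+ M ⊗[A] N :=
  have h₁' : ∀ a x, e₁.symm (a • x) = γ.symm a • e₁.symm x := fun a x => by
    apply e₁.injective
    rw [h₁, AddEquiv.apply_symm_apply, AddEquiv.apply_symm_apply, RingEquiv.apply_symm_apply]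
  have h₂' : ∀ a y, e₂.symm (a • y) = γ.symm a • e₂.symm y := fun a y => by
    apply e₂.injective
    rw [h₂, AddEquiv.apply_symm_apply, AddEquiv.apply_symm_apply, RingEquiv.apply_symm_apply]
  { semiTensorHom (γ : B →+* A) (e₁ : M₁ →+ M) (e₂ : N₁ →+ N) h₁ h₂ with
    invFun := semiTensorHom (γ.symm : A →+* B) (e₁.symm : M →+ M₁) (e₂.symm : N →+ N₁) h₁' h₂'
    left_inv := fun t => by
      induction t with
      | zero => simp
      | tmul x y => simp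
      | add a c ha hc =>
        simp only [ZeroHom.toFun_eq_coe, AddMonoidHom.toZeroHom_coe, map_add] at ha hc ⊢
        rw [ha, hc]
    right_inv := fun t => by
      induction t with
      | zero => simp
      | tmul x y => simp
      | add a c ha hc =>
        simp only [ZeroHom.toFun_eq_coe, AddMonoidHom.toZeroHom_coe, map_add] at ha hc ⊢
        rw [ha, hc] }

@[simp]
theorem semiTensorEquiv_tmul (γ : B ≃+* A) (e₁ : M₁ ≃+ M) (e₂ : N₁ ≃+ N)
    (h₁ : ∀ b x, e₁ (b • x) = γ b • e₁ x) (h₂ : ∀ b y, e₂ (b • y) = γ b • e₂ y) (x : M₁) (y : N₁) :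
    semiTensorEquiv γ e₁ e₂ h₁ h₂ (x ⊗ₜ y) = e₁ x ⊗ₜ e₂ y := rfl

theorem semiTensorEquiv_smul (γ : B ≃+* A) (e₁ : M₁ ≃+ M) (e₂ : N₁ ≃+ N)
    (h₁ : ∀ b x, e₁ (b • x) = γ b • e₁ x) (h₂ : ∀ b y, e₂ (b • y) = γ b • e₂ y) (b : B)
    (t : M₁ ⊗[B] N₁) :
    semiTensorEquiv γ e₁ e₂ h₁ h₂ (b • t) = γ b • semiTensorEquiv γ e₁ e₂ h₁ h₂ t :=
  semiTensorHom_smul (γ : B →+* A) (e₁ : M₁ →+ M) (e₂ : N₁ →+ N) h₁ h₂ b t

end


end Groth.Agent.Lib.Helper29.QCoh
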