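import Groth.Agent.Lib.Helper29.QCohSheafify
import Groth.Agent.Lib.Helper29.TensorLocAlg
universe u
open CategoryTheory CategoryTheory.Limits AlgebraicGeometry TopologicalSpace Opposite
open scoped TensorProduct

namespace Groth.Agent.Lib.Helper29.QCoh

variable {X : Scheme.{u}}

/-- The sectionwise tensor product presheaf, typed as a presheaf of modules on `X`. -/
noncomputable abbrev tpre (M N : X.Modules) : X.PresheafOfModules := CohB1.tensorPre M N

/-- A pure tensor of sections, as a section of the tensor presheaf. -/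
noncomputable def ptmul (M N : X.Modules) {U : X.Opens} (m : Γ(M, U)) (n : Γ(N, U)) :
    (tpre M N).obj (op U) :=
  (m ⊗ₜ[Γ(X, U)] n : Γ(M, U) ⊗[Γ(X, U)] Γ(N, U))

theorem pres_ptmul (M N : X.Modules) {U V : X.Opens} (h : V ≤ U) (m : Γ(M, U)) (n : Γ(N, U)) :
    pres (tpre M N) h (ptmul M N m n) = ptmul M N (res M h m) (res N h n) := rfl

/-- Sections of the tensor presheaf over `U` are the tensor product of sections. -/
noncomputable def tpreEquiv (M N : X.Modules) (U : X.Opens) :
    (tpre M N).obj (op U) ≃ₗ[Γ(X, U)] Γ(M, U) ⊗[Γ(X, U)] Γ(N, U) :=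
  LinearEquiv.refl _ _

theorem tensor_induction_aux (M N : X.Modules) {U : X.Opens}
    {C : Γ(M, U) ⊗[Γ(X, U)] Γ(N, U) → Prop} (w : Γ(M, U) ⊗[Γ(X, U)] Γ(N, U)) (h0 : C 0)
    (h1 : ∀ m n, C (m ⊗ₜ n)) (h2 : ∀ a b, C a → C b → C (a + b)) : C w :=
  TensorProduct.induction_on w h0 h1 h2

theorem tpre_induction (M N : X.Modules) {U : X.Opens} {C : (tpre M N).obj (op U) → Prop}
    (w : (tpre M N).obj (op U)) (h0 : C 0) (h1 : ∀ m n, C (ptmul M N m n))
    (h2 : ∀ a b, C a → C b → C (a + b)) : C w :=
  tensor_induction_aux M N (C := C) w h0 h1 h2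

theorem sectionsModule_isScalarTower (M : X.Modules) {U : X.Opens} (f : Γ(X, U)) :
    letI := sectionsModule M (X.basicOpen_le f)
    IsScalarTower Γ(X, U) Γ(X, X.basicOpen f) Γ(M, X.basicOpen f) :=
  let _ := sectionsModule M (X.basicOpen_le f)
  IsScalarTower.of_algebraMap_smul (fun _ _ => rfl)

theorem pres_tpre_eq (M N : X.Modules) {U : X.Opens} (f : Γ(X, U))
    (w : (tpre M N).obj (op U)) :
    letI := sectionsModule M (X.basicOpen_le f)
    letI := sectionsModule N (X.basicOpen_le f)
    letI := sectionsModule_isScalarTower M f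
    letI := sectionsModule_isScalarTower N f
    pres (tpre M N) (X.basicOpen_le f) w =
      tensorMapOver (B := Γ(X, X.basicOpen f)) (resₗ M (X.basicOpen_le f))
        (resₗ N (X.basicOpen_le f)) (tpreEquiv M N U w) := by
  let _ := sectionsModule M (X.basicOpen_le f)
  let _ := sectionsModule N (X.basicOpen_le f)
  let _ := sectionsModule_isScalarTower M f
  let _ := sectionsModule_isScalarTower N f
  refine tpre_induction M N (C := fun w => pres (tpre M N) (X.basicOpen_le f) w =
      tensorMapOver (B := Γ(X, X.basicOpen f)) (resₗ M (X.basicOpen_le f))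
        (resₗ N (X.basicOpen_le f)) (tpreEquiv M N U w)) w ?_ (fun m n => rfl)
    (fun a b ha hb => ?_)
  · rw [map_zero, map_zero, map_zero]
    rfl
  · rw [map_add, map_add, map_add, ha, hb]
    rfl

theorem isLocalizedModule_tpre (M N : X.Modules) [M.IsQuasicoherent] [N.IsQuasicoherent]
    {U : X.Opens} (hU : IsAffineOpen U) (f : Γ(X, U)) :
    letI := sectionsModule M (X.basicOpen_le f)
    letI := sectionsModule N (X.basicOpen_le f)
    letI := sectionsModule_isScalarTower M f
    letI := sectionsModule_isScalarTower N f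
    IsLocalizedModule (.powers f)
      (tensorMapOver (B := Γ(X, X.basicOpen f)) (resₗ M (X.basicOpen_le f))
        (resₗ N (X.basicOpen_le f))) := by
  let _ := sectionsModule M (X.basicOpen_le f)
  let _ := sectionsModule N (X.basicOpen_le f)
  let _ := sectionsModule_isScalarTower M f
  let _ := sectionsModule_isScalarTower N f
  have : IsLocalization (.powers f) Γ(X, X.basicOpen f) := hU.isLocalization_basicOpen f
  have h1 := isLocalizedModule_res_basicOpen M hU f
  have h2 := isLocalizedModule_res_basicOpen N hU f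
  exact isLocalizedModule_tensorMapOver (B := Γ(X, X.basicOpen f)) (.powers f) _ _

theorem isLocalizingOnAffines_tpre (M N : X.Modules) [M.IsQuasicoherent] [N.IsQuasicoherent] :
    IsLocalizingOnAffines (tpre M N) := by
  constructor
  · intro U hU f s
    let _ := sectionsModule M (X.basicOpen_le f)
    let _ := sectionsModule N (X.basicOpen_le f)
    let _ := sectionsModule_isScalarTower M f
    let _ := sectionsModule_isScalarTower N f
    have key := isLocalizedModule_tpre M N hU f
    obtain ⟨⟨w, ⟨_, n, rfl⟩⟩, hw⟩ := key.surj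
      (show Γ(M, X.basicOpen f) ⊗[Γ(X, X.basicOpen f)] Γ(N, X.basicOpen f) from s)
    refine ⟨n, (tpreEquiv M N U).symm w, ?_⟩
    rw [pres_tpre_eq, LinearEquiv.apply_symm_apply]
    refine Eq.trans ?_ hw
    change _ = (f ^ n) • (show Γ(M, X.basicOpen f) ⊗[Γ(X, X.basicOpen f)]
      Γ(N, X.basicOpen f) from s)
    rw [← algebraMap_smul Γ(X, X.basicOpen f) (f ^ n), map_pow]
    rfl
  · intro U hU f m hm
    let _ := sectionsModule M (X.basicOpen_le f)
    let _ := sectionsModule N (X.basicOpen_le f)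
    let _ := sectionsModule_isScalarTower M f
    let _ := sectionsModule_isScalarTower N f
    have key := isLocalizedModule_tpre M N hU f
    rw [pres_tpre_eq] at hm
    have hm' : tensorMapOver (B := Γ(X, X.basicOpen f)) (resₗ M (X.basicOpen_le f))
        (resₗ N (X.basicOpen_le f)) (tpreEquiv M N U m) =
        tensorMapOver (B := Γ(X, X.basicOpen f)) (resₗ M (X.basicOpen_le f))
        (resₗ N (X.basicOpen_le f)) 0 := by
      rw [hm, map_zero]
      rfl
    obtain ⟨⟨_, n, rfl⟩, hc⟩ := key.exists_of_eq hm'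
    refine ⟨n, ?_⟩
    rw [smul_zero] at hc
    exact hc

/-- The canonical map from the sectionwise tensor product to sections of the tensor product. -/
noncomputable def tensorSectionsMap (M N : X.Modules) (U : X.Opens) :
    Γ(M, U) ⊗[Γ(X, U)] Γ(N, U) →ₗ[Γ(X, U)] Γ(CohB1.tensorMod M N, U) where
  toFun w := unitApp (tpre M N) U ((tpreEquiv M N U).symm w)
  map_add' a b := by
    rw [map_add, map_add]
    rfl
  map_smul' r a := by
    rw [map_smul, unitApp_smul]
    rfl

/-- The section `m ⊗ n` of `M ⊗ N` over any open `U`. -/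
noncomputable def tmulSec (M N : X.Modules) {U : X.Opens} (m : Γ(M, U)) (n : Γ(N, U)) :
    Γ(CohB1.tensorMod M N, U) :=
  tensorSectionsMap M N U (m ⊗ₜ n)

theorem tensorSectionsMap_tmul (M N : X.Modules) {U : X.Opens} (m : Γ(M, U)) (n : Γ(N, U)) :
    tensorSectionsMap M N U (m ⊗ₜ n) = tmulSec M N m n := rfl

theorem res_tmulSec (M N : X.Modules) {U V : X.Opens} (h : V ≤ U) (m : Γ(M, U)) (n : Γ(N, U)) :
    res (CohB1.tensorMod M N) h (tmulSec M N m n) = tmulSec M N (res M h m) (res N h n) :=
  (unitApp_res (tpre M N) h (ptmul M N m n)).symm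

theorem tensorSectionsMap_bijective (M N : X.Modules) [M.IsQuasicoherent] [N.IsQuasicoherent]
    {U : X.Opens} (hU : IsAffineOpen U) : Function.Bijective (tensorSectionsMap M N U) :=
  (unitApp_bijective (isLocalizingOnAffines_tpre M N) hU).comp
    (tpreEquiv M N U).symm.bijective

/-- **Sections of a tensor product of quasi-coherent modules over an affine open.** -/
noncomputable def tensorSectionsEquiv (M N : X.Modules) [M.IsQuasicoherent] [N.IsQuasicoherent]
    {U : X.Opens} (hU : IsAffineOpen U) :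
    Γ(M, U) ⊗[Γ(X, U)] Γ(N, U) ≃ₗ[Γ(X, U)] Γ(CohB1.tensorMod M N, U) :=
  LinearEquiv.ofBijective (tensorSectionsMap M N U) (tensorSectionsMap_bijective M N hU)

@[simp]
theorem tensorSectionsEquiv_tmul (M N : X.Modules) [M.IsQuasicoherent] [N.IsQuasicoherent]
    {U : X.Opens} (hU : IsAffineOpen U) (m : Γ(M, U)) (n : Γ(N, U)) :
    tensorSectionsEquiv M N hU (m ⊗ₜ n) = tmulSec M N m n := rfl

/-- The sheafification of a presheaf of modules localizing on affines is quasi-coherent. -/
theorem isQuasicoherent_shf {P : X.PresheafOfModules} (hP : IsLocalizingOnAffines P) :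
    (shf P).IsQuasicoherent := by
  refine isQuasicoherent_of_localizing (shf P) (fun U : X.affineOpens => U.1)
    (isOpenCover_affineOpens X) (fun U => U.2) (fun U f s => ?_) (fun U f m hm => ?_)
  · obtain ⟨s₀, rfl⟩ := unitApp_surjective hP (U.2.basicOpen f) s
    obtain ⟨n, m₀, h⟩ := hP.surj U.1 U.2 f s₀
    refine ⟨n, unitApp P U.1 m₀, ?_⟩
    rw [← unitApp_smul, h, unitApp_res]
  · obtain ⟨m₀, rfl⟩ := unitApp_surjective hP U.2 m
    rw [← unitApp_res] at hm
    have h0 := eq_zero_of_unitApp_eq_zero hP (U.2.basicOpen f) _ hm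
    obtain ⟨n, hn⟩ := hP.inj U.1 U.2 f m₀ h0
    exact ⟨n, by rw [← unitApp_smul, hn, map_zero]⟩

instance isQuasicoherent_tensorMod (M N : X.Modules) [M.IsQuasicoherent] [N.IsQuasicoherent] :
    (CohB1.tensorMod M N).IsQuasicoherent :=
  isQuasicoherent_shf (isLocalizingOnAffines_tpre M N)

instance isFiniteType_tensorMod (M N : X.Modules) [M.IsQuasicoherent] [N.IsQuasicoherent]
    [M.IsFiniteType] [N.IsFiniteType] : (CohB1.tensorMod M N).IsFiniteType := by
  rw [isFiniteType_iff_forall_module_finite]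
  intro U hU
  have h1 : Module.Finite Γ(X, U) Γ(M, U) := module_finite_of_isFiniteType M hU
  have h2 : Module.Finite Γ(X, U) Γ(N, U) := module_finite_of_isFiniteType N hU
  exact Module.Finite.equiv (tensorSectionsEquiv M N hU)

section TildeTensor
open Scheme.Modules

/-- A quasi-coherent module on `Spec S` whose global sections are semilinearly isomorphic to an
`S`-module `W` is isomorphic to `W~`. -/
theorem nonempty_iso_tilde_of_semilinear {S : CommRingCat.{u}} (N : (Spec S).Modules)
    [N.IsQuasicoherent] (W : ModuleCat.{u} S) (E : Γ(N, ⊤) ≃+ W)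
    (hE : ∀ (c : Γ(Spec S, ⊤)) (s : Γ(N, ⊤)), E (c • s) = ΓSpecRingEquiv S c • E s) :
    Nonempty (N ≅ tilde W) := by
  let L : Γ(N, ⊤) ≃ₗ[S] W :=
    { E with
      map_smul' := fun r s => by
        have h1 : r • s = ((ΓSpecRingEquiv S).symm r) • s := by
          have := smul_top_eq N ((ΓSpecRingEquiv S).symm r) s
          rw [RingEquiv.apply_symm_apply] at this
          exact this.symm
        change E (r • s) = r • E s
        rw [h1, hE, RingEquiv.apply_symm_apply] }
  let L' : moduleSpecΓFunctor.obj N ≅ W := L.toModuleIso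
  exact ⟨(asIso (fromTildeΓ N)).symm ≪≫ (tilde.functor S).mapIso L'⟩

attribute [local instance] RingHomInvPair.of_ringEquiv RingHomInvPair.of_ringEquiv_symm in
theorem nonempty_tilde_tensor_iso {S : CommRingCat.{u}} (M N : ModuleCat.{u} S) :
    Nonempty (tilde (ModuleCat.of S (M ⊗[S] N)) ≅ CohB1.tensorMod (tilde M) (tilde N)) := by
  have hU : IsAffineOpen (⊤ : (Spec S).Opens) := isAffineOpen_top _
  have h₁ : ∀ (b : Γ(Spec S, ⊤)) (x : Γ(tilde M, ⊤)),
      (tildeTopEquiv M).toAddEquiv (b • x) = ΓSpecRingEquiv S b • (tildeTopEquiv M).toAddEquiv x :=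
    fun b x => (tildeTopEquiv M).map_smulₛₗ b x
  have h₂ : ∀ (b : Γ(Spec S, ⊤)) (y : Γ(tilde N, ⊤)),
      (tildeTopEquiv N).toAddEquiv (b • y) = ΓSpecRingEquiv S b • (tildeTopEquiv N).toAddEquiv y :=
    fun b y => (tildeTopEquiv N).map_smulₛₗ b y
  let T₂ : Γ(tilde M, ⊤) ⊗[Γ(Spec S, ⊤)] Γ(tilde N, ⊤) ≃+ (M ⊗[S] N) :=
    semiTensorEquiv (ΓSpecRingEquiv S) (tildeTopEquiv M).toAddEquiv (tildeTopEquiv N).toAddEquiv
      h₁ h₂
  let E : Γ(CohB1.tensorMod (tilde M) (tilde N), ⊤) ≃+ (M ⊗[S] N) :=
    (tensorSectionsEquiv (tilde M) (tilde N) hU).symm.toAddEquiv.trans T₂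
  obtain ⟨e⟩ := nonempty_iso_tilde_of_semilinear (CohB1.tensorMod (tilde M) (tilde N))
    (ModuleCat.of S (M ⊗[S] N)) E (fun c s => by
      change T₂ ((tensorSectionsEquiv (tilde M) (tilde N) hU).symm (c • s)) = _
      rw [LinearEquiv.map_smul]
      exact semiTensorEquiv_smul _ _ _ h₁ h₂ c _)
  exact ⟨e.symm⟩


end TildeTensor

end Groth.Agent.Lib.Helper29.QCoh
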