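import Groth.Agent.Lib.Helper29.HomSec3
import Groth.Agent.Lib.Helper29.QCohPush
import Groth.Agent.Lib.Helper29.Res3
universe u
open CategoryTheory CategoryTheory.Limits AlgebraicGeometry TopologicalSpace Opposite

/-! # Direct images along finite locally free morphisms -/

namespace Groth.Agent.Lib.Helper29.QCoh.ProjF
open Groth.Agent.Lib.Helper29.QCoh

variable {X Y : Scheme.{u}}

/-- A morphism of modules surjective on sections over all affine opens is an epimorphism. -/
theorem epi_of_app_surjective_affine {M N : X.Modules} (φ : M ⟶ N)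
    (h : ∀ U : X.Opens, IsAffineOpen U → Function.Surjective (φ.app U)) : Epi φ := by
  rw [epi_iff_stalkMap_surjective]
  intro x t
  obtain ⟨W, hxW, τ, rfl⟩ := N.presheaf.exists_germ_eq t
  obtain ⟨U, hU, hxU, hUW⟩ :=
    AlgebraicGeometry.exists_isAffineOpen_mem_and_subset (x := x) (U := W) hxW
  obtain ⟨σ, hσ⟩ := h U hU (res N hUW τ)
  refine ⟨M.presheaf.germ U x hxU σ, ?_⟩
  rw [stalkMap_germ, hσ, germ_res]

/-- A morphism of modules bijective on sections over all affine opens is an isomorphism. -/
theorem isIso_of_app_bijective_affine {M N : X.Modules} (φ : M ⟶ N)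
    (h : ∀ U : X.Opens, IsAffineOpen U → Function.Bijective (φ.app U)) : IsIso φ := by
  rw [isIso_iff_stalkMap_bijective]
  intro x
  constructor
  · rw [injective_iff_map_eq_zero]
    intro t ht
    obtain ⟨W, hxW, σ, rfl⟩ := M.presheaf.exists_germ_eq t
    rw [stalkMap_germ] at ht
    have ht' : N.presheaf.germ W x hxW (φ.app W σ) = N.presheaf.germ W x hxW 0 := by
      rw [ht, map_zero]
    obtain ⟨W', hxW', i₁, i₂, e⟩ := N.presheaf.germ_eq x hxW hxW _ _ ht'
    obtain ⟨U, hU, hxU, hUW'⟩ :=
      AlgebraicGeometry.exists_isAffineOpen_mem_and_subset (x := x) (U := W') hxW'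
    have e' : res N i₁.le (φ.app W σ) = res N i₂.le 0 := e
    have h0 : φ.app U (res M (hUW'.trans i₁.le) σ) = 0 := by
      rw [app_res, ← res_res N i₁.le hUW', e', map_zero, map_zero]
    have h1 : res M (hUW'.trans i₁.le) σ = 0 := (h U hU).1 (by rw [h0, map_zero])
    rw [← germ_res M (hUW'.trans i₁.le) x hxU, h1, map_zero]
  · exact (epi_iff_stalkMap_surjective φ).mp
      (epi_of_app_surjective_affine φ fun U hU => (h U hU).2) x

/-- Finite projective modules along a finite projective ring extension. -/
theorem finite_projective_of_tower {A B N : Type*} [CommRing A] [CommRing B] [Algebra A B]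
    [AddCommGroup N] [Module A N] [Module B N] [IsScalarTower A B N]
    [Module.Finite A B] [Module.Projective A B] [Module.Finite B N] [Module.Projective B N] :
    Module.Finite A N ∧ Module.Projective A N := by
  classical
  refine ⟨Module.Finite.trans B N, ?_⟩
  obtain ⟨s, hs⟩ := (Module.projective_def' (R := B) (P := N)).mp inferInstance
  have hp : Module.Projective A (N →₀ B) :=
    Module.Projective.of_equiv (finsuppLequivDFinsupp (M := B) (ι := N) A).symm
  refine Module.Projective.of_split (s.restrictScalars A)
    ((Finsupp.linearCombination B (id : N → N)).restrictScalars A) ?_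
  apply LinearMap.ext
  intro n
  exact congrArg (fun k => k n) hs

/-- Sections of a direct image along a finite locally free morphism, over an affine open, are
finite projective when the sections upstairs are. -/
theorem finite_projective_pushforward_sections (f : X ⟶ Y) [IsFinite f] [Flat f]
    [LocallyOfFinitePresentation f] {E : X.Modules} (hE : FlatMod.IsFinLocFree E)
    {V : Y.Opens} (hV : IsAffineOpen V) :
    Module.Finite Γ(Y, V) Γ((Scheme.Modules.pushforward f).obj E, V) ∧
      Module.Projective Γ(Y, V) Γ((Scheme.Modules.pushforward f).obj E, V) := by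
  have hU : IsAffineOpen (f ⁻¹ᵁ V) := hV.preimage f
  let _ : Algebra Γ(Y, V) Γ(X, f ⁻¹ᵁ V) := (f.app V).hom.toAlgebra
  have hfin : Module.Finite Γ(Y, V) Γ(X, f ⁻¹ᵁ V) := f.finite_app V hV
  have hflat : Module.Flat Γ(Y, V) Γ(X, f ⁻¹ᵁ V) := by
    have := f.flat_appLE hV hU le_rfl
    rw [← Scheme.Hom.app_eq_appLE] at this
    exact this
  have hfp : Algebra.FinitePresentation Γ(Y, V) Γ(X, f ⁻¹ᵁ V) := by
    have := f.finitePresentation_appLE hV hU le_rfl
    rw [← Scheme.Hom.app_eq_appLE] at this
    exact this
  have hmfp : Module.FinitePresentation Γ(Y, V) Γ(X, f ⁻¹ᵁ V) :=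
    Module.FinitePresentation.of_finite_of_finitePresentation _ _
  have hproj : Module.Projective Γ(Y, V) Γ(X, f ⁻¹ᵁ V) := Module.Flat.projective_of_finitePresentation
  let _ : Module Γ(X, f ⁻¹ᵁ V) Γ((Scheme.Modules.pushforward f).obj E, V) :=
    inferInstanceAs (Module Γ(X, f ⁻¹ᵁ V) Γ(E, f ⁻¹ᵁ V))
  have htower : IsScalarTower Γ(Y, V) Γ(X, f ⁻¹ᵁ V) Γ((Scheme.Modules.pushforward f).obj E, V) :=
    IsScalarTower.of_algebraMap_smul fun a n => rfl
  obtain ⟨h1, h2⟩ := finite_projective_sections_of_isFinLocFree hE hU
  have h1' : Module.Finite Γ(X, f ⁻¹ᵁ V) Γ((Scheme.Modules.pushforward f).obj E, V) := h1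
  have h2' : Module.Projective Γ(X, f ⁻¹ᵁ V) Γ((Scheme.Modules.pushforward f).obj E, V) := h2
  exact finite_projective_of_tower (B := Γ(X, f ⁻¹ᵁ V))

/-- The direct image of a finite locally free module along a finite locally free morphism is
finite locally free. -/
theorem isFinLocFree_pushforward (f : X ⟶ Y) [IsFinite f] [Flat f]
    [LocallyOfFinitePresentation f] {E : X.Modules} (hE : FlatMod.IsFinLocFree E) :
    FlatMod.IsFinLocFree ((Scheme.Modules.pushforward f).obj E) := by
  have := isQuasicoherent_of_isFinLocFree hE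
  have := isQuasicoherent_pushforward_of_isAffineHom f E
  exact isFinLocFree_of_finite_projective_sections _
    (fun V : Y.affineOpens => V.1) (iSup_affineOpens_eq_top Y) (fun V => V.2)
    (fun V => (finite_projective_pushforward_sections f hE V.2).1)
    (fun V => (finite_projective_pushforward_sections f hE V.2).2)

/-- Direct images along affine morphisms preserve epimorphisms of quasi-coherent modules. -/
theorem epi_pushforward_of_isAffineHom (f : X ⟶ Y) [IsAffineHom f] {M N : X.Modules}
    [M.IsQuasicoherent] [N.IsQuasicoherent] (φ : M ⟶ N) [Epi φ] :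
    Epi ((Scheme.Modules.pushforward f).map φ) := by
  apply epi_of_app_surjective_affine
  intro V hV
  exact app_surjective_of_epi φ (hV.preimage f)

end Groth.Agent.Lib.Helper29.QCoh.ProjF
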