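import Groth.Agent.Lib.Helper29.QCohPush
import Mathlib.RingTheory.Ideal.AssociatedPrime.Finiteness
universe u v w
open CategoryTheory CategoryTheory.Limits AlgebraicGeometry Opposite TopologicalSpace

/-! # Weakly associated points: affine dictionary and direct images -/

namespace Groth.Agent.Lib.Helper29.QCoh

variable {X Y : Scheme.{u}}

/-- On an affine open, the annihilator of the germ of a section of a quasi-coherent module is the
extension of the annihilator of the section. -/
theorem annStalk_germ_eq_map (M : X.Modules) [M.IsQuasicoherent] {U : X.Opens}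
    (hU : IsAffineOpen U) (m : Γ(M, U)) (x : X) (hx : x ∈ U) :
    annStalk M (M.presheaf.germ U x hx m) =
      (annSection M m).map (X.presheaf.germ U x hx).hom := by
  refine le_antisymm ?_ (map_annSection_le M m x hx)
  intro r' hr'
  rw [mem_annStalk] at hr'
  obtain ⟨s, a, hs, hsa⟩ := exists_mul_germ_eq hU x hx r'
  have h1 : M.presheaf.germ U x hx (a • m) = 0 := by
    rw [germ_smul, ← hsa, mul_smul, hr', smul_zero]
  obtain ⟨u, hu, hua⟩ := exists_smul_eq_zero_of_germ_eq_zero M hU x hx _ h1
  have h2 : u * a ∈ annSection M m := by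
    rw [mem_annSection, mul_smul]; exact hua
  have h3 : X.presheaf.germ U x hx (u * a) ∈
      (annSection M m).map (X.presheaf.germ U x hx).hom := Ideal.mem_map_of_mem _ h2
  obtain ⟨v, hv⟩ := (isUnit_germ_of_mem_basicOpen u x hx hu).mul
    (isUnit_germ_of_mem_basicOpen s x hx hs)
  have h4 : r' = (↑v⁻¹ : X.presheaf.stalk x) * X.presheaf.germ U x hx (u * a) := by
    have h5 : r' = (↑v⁻¹ : X.presheaf.stalk x) * (↑v * r') := by
      rw [← mul_assoc, Units.inv_mul, one_mul]
    rw [h5, hv, map_mul, ← hsa]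
    ring
  rw [h4]
  exact Ideal.mul_mem_left _ _ h3

/-- Converse of `isWeakAssPoint_of_mem_minimalPrimes`: a weakly associated point in an affine
open `U` is witnessed by a section over `U`. -/
theorem exists_mem_minimalPrimes_of_isWeakAssPoint (M : X.Modules) [M.IsQuasicoherent]
    {U : X.Opens} (hU : IsAffineOpen U) (x : X) (hx : x ∈ U) (h : Curv2.IsWeakAssPoint M x) :
    ∃ m : Γ(M, U), (hU.primeIdealOf ⟨x, hx⟩).asIdeal ∈ (annSection M m).minimalPrimes := by
  obtain ⟨t, ht⟩ := h
  obtain ⟨r, m, hr, hrm⟩ := exists_smul_germ_eq M hU x hx t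
  refine ⟨m, ?_⟩
  have hann : annStalk M (M.presheaf.germ U x hx m) = annStalk M t := by
    obtain ⟨v, hv⟩ := isUnit_germ_of_mem_basicOpen r x hx hr
    ext c
    rw [mem_annStalk, mem_annStalk, ← hrm, ← hv, smul_smul, mul_comm, ← smul_smul]
    constructor
    · intro h0
      exact eq_zero_of_isUnit_smul v.isUnit h0
    · intro h0
      rw [h0, smul_zero]
  have hrad : ((annSection M m).map (X.presheaf.germ U x hx).hom).radical =
      IsLocalRing.maximalIdeal (X.presheaf.stalk x) := by
    rw [← annStalk_germ_eq_map M hU m x hx, hann]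
    exact ht
  let _ : Algebra Γ(X, U) (X.presheaf.stalk x) :=
    TopCat.Presheaf.algebra_section_stalk X.presheaf ⟨x, hx⟩
  have hloc := hU.isLocalization_stalk ⟨x, hx⟩
  set p := (hU.primeIdealOf ⟨x, hx⟩).asIdeal with hp
  have hmapp : Ideal.map (algebraMap Γ(X, U) (X.presheaf.stalk x)) p =
      IsLocalRing.maximalIdeal (X.presheaf.stalk x) :=
    IsLocalization.AtPrime.map_eq_maximalIdeal _ _
  have hmap_eq : (annSection M m).map (X.presheaf.germ U x hx).hom =
      (annSection M m).map (algebraMap Γ(X, U) (X.presheaf.stalk x)) := rfl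
  refine ⟨⟨inferInstance, ?_⟩, ?_⟩
  · intro a ha
    by_contra hap
    have hunit : IsUnit (algebraMap Γ(X, U) (X.presheaf.stalk x) a) :=
      IsLocalization.map_units (X.presheaf.stalk x) (⟨a, hap⟩ : p.primeCompl)
    have htop : (annSection M m).map (algebraMap Γ(X, U) (X.presheaf.stalk x)) = ⊤ :=
      Ideal.eq_top_of_isUnit_mem _ (Ideal.mem_map_of_mem _ ha) hunit
    rw [hmap_eq, htop, Ideal.radical_top] at hrad
    exact (IsLocalRing.maximalIdeal.isMaximal _).ne_top hrad.symm
  · rintro q ⟨hq, hIq⟩ hqp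
    have hdisj : Disjoint (p.primeCompl : Set Γ(X, U)) q := by
      rw [Set.disjoint_left]
      intro a ha haq
      exact ha (hqp haq)
    have hqprime := IsLocalization.isPrime_of_isPrime_disjoint p.primeCompl
      (X.presheaf.stalk x) q hq hdisj
    have h1 : (annSection M m).map (algebraMap Γ(X, U) (X.presheaf.stalk x)) ≤
        q.map (algebraMap Γ(X, U) (X.presheaf.stalk x)) := Ideal.map_mono hIq
    have h2 : IsLocalRing.maximalIdeal (X.presheaf.stalk x) ≤
        q.map (algebraMap Γ(X, U) (X.presheaf.stalk x)) := by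
      rw [← hrad, hmap_eq]
      exact (Ideal.IsPrime.radical_le_iff hqprime).mpr h1
    rw [← hmapp] at h2
    have h3 := Ideal.comap_mono (f := algebraMap Γ(X, U) (X.presheaf.stalk x)) h2
    have e1 : Ideal.comap (algebraMap Γ(X, U) (X.presheaf.stalk x))
        (Ideal.map (algebraMap Γ(X, U) (X.presheaf.stalk x)) p) = p :=
      IsLocalization.under_map_of_isPrime_disjoint p.primeCompl (X.presheaf.stalk x)
        inferInstance (by rw [Set.disjoint_left]; intro a ha hap; exact ha hap)
    have e2 : Ideal.comap (algebraMap Γ(X, U) (X.presheaf.stalk x))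
        (Ideal.map (algebraMap Γ(X, U) (X.presheaf.stalk x)) q) = q :=
      IsLocalization.under_map_of_isPrime_disjoint p.primeCompl (X.presheaf.stalk x) hq hdisj
    rw [e1, e2] at h3
    exact h3

/-- Points of an affine open with the same prime ideal are equal. -/
theorem eq_of_primeIdealOf_eq {U : X.Opens} (hU : IsAffineOpen U) (x y : X) (hx : x ∈ U)
    (hy : y ∈ U) (h : hU.primeIdealOf ⟨x, hx⟩ = hU.primeIdealOf ⟨y, hy⟩) : x = y := by
  have h1 := hU.fromSpec_primeIdealOf ⟨x, hx⟩
  have h2 := hU.fromSpec_primeIdealOf ⟨y, hy⟩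
  rw [h] at h1
  exact h1.symm.trans h2

/-- The prime ideal of the image of a point under a morphism. -/
theorem primeIdealOf_map (f : X ⟶ Y) {V : Y.Opens} (hV : IsAffineOpen V)
    (hW : IsAffineOpen (f ⁻¹ᵁ V)) (x : X) (hx : x ∈ f ⁻¹ᵁ V) :
    (hV.primeIdealOf ⟨f x, hx⟩).asIdeal =
      Ideal.comap (f.app V).hom (hW.primeIdealOf ⟨x, hx⟩).asIdeal := by
  ext r
  rw [Ideal.mem_comap, ← not_iff_not, ← mem_basicOpen_iff_notMem_primeIdealOf hV (f x) hx r]
  have e : f ⁻¹ᵁ Y.basicOpen r = X.basicOpen (f.app V r) := Scheme.preimage_basicOpen f r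
  have h1 : f x ∈ Y.basicOpen r ↔ x ∈ f ⁻¹ᵁ Y.basicOpen r := Iff.rfl
  rw [h1, e, mem_basicOpen_iff_notMem_primeIdealOf hW x hx]

/-- The annihilator of a section of a direct image. -/
theorem annSection_pushforward (f : X ⟶ Y) (M : X.Modules) (V : Y.Opens)
    (m : Γ((Scheme.Modules.pushforward f).obj M, V)) :
    annSection ((Scheme.Modules.pushforward f).obj M) m =
      Ideal.comap (f.app V).hom (annSection M (show Γ(M, f ⁻¹ᵁ V) from m)) := by
  ext r
  rw [Ideal.mem_comap, mem_annSection, mem_annSection]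
  rfl

/-- Weakly associated points of a direct image along an affine morphism come from weakly
associated points upstairs. -/
theorem exists_isWeakAssPoint_of_pushforward (f : X ⟶ Y) [IsAffineHom f] (M : X.Modules)
    [M.IsQuasicoherent] (s : Y)
    (hs : Curv2.IsWeakAssPoint ((Scheme.Modules.pushforward f).obj M) s) :
    ∃ x : X, f x = s ∧ Curv2.IsWeakAssPoint M x := by
  have := isQuasicoherent_pushforward_of_isAffineHom f M
  obtain ⟨V, hV, hsV, -⟩ := exists_isAffineOpen_mem_and_subset (x := s) (U := ⊤) trivial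
  have hW : IsAffineOpen (f ⁻¹ᵁ V) := hV.preimage f
  obtain ⟨m, hm⟩ := exists_mem_minimalPrimes_of_isWeakAssPoint _ hV s hsV hs
  rw [annSection_pushforward] at hm
  obtain ⟨q, hq, hqp⟩ := Ideal.exists_minimalPrimes_comap_eq (f.app V).hom _ hm
  have hqq : q.IsPrime := hq.1.1
  obtain ⟨x, hx, hxq⟩ := exists_point_of_prime' hW ⟨q, hqq⟩
  refine ⟨x, ?_, ?_⟩
  · apply eq_of_primeIdealOf_eq hV (f x) s hx hsV
    apply PrimeSpectrum.ext
    rw [primeIdealOf_map f hV hW x hx, hxq]
    exact hqp
  · apply isWeakAssPoint_of_mem_minimalPrimes M hW (show Γ(M, f ⁻¹ᵁ V) from m) x hx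
    rw [hxq]
    exact hq

/-- On a locally Noetherian scheme, weakly associated points map to weakly associated points of
the direct image along an affine morphism. -/
theorem isWeakAssPoint_pushforward_of_isLocallyNoetherian (f : X ⟶ Y) [IsAffineHom f]
    [IsLocallyNoetherian X] (M : X.Modules) [M.IsQuasicoherent] (x : X)
    (hx : Curv2.IsWeakAssPoint M x) :
    Curv2.IsWeakAssPoint ((Scheme.Modules.pushforward f).obj M) (f x) := by
  have := isQuasicoherent_pushforward_of_isAffineHom f M
  obtain ⟨V, hV, hsV, -⟩ := exists_isAffineOpen_mem_and_subset (x := f x) (U := ⊤) trivial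
  have hW : IsAffineOpen (f ⁻¹ᵁ V) := hV.preimage f
  have hxW : x ∈ f ⁻¹ᵁ V := hsV
  have hN : IsNoetherianRing Γ(X, f ⁻¹ᵁ V) :=
    IsLocallyNoetherian.component_noetherian (X := X) ⟨f ⁻¹ᵁ V, hW⟩
  obtain ⟨m, hm⟩ := exists_mem_minimalPrimes_of_isWeakAssPoint M hW x hxW hx
  have hm' : (hW.primeIdealOf ⟨x, hxW⟩).asIdeal ∈
      ((⊥ : Submodule Γ(X, f ⁻¹ᵁ V) Γ(M, f ⁻¹ᵁ V)).colon {m}).minimalPrimes := by
    have e : (⊥ : Submodule Γ(X, f ⁻¹ᵁ V) Γ(M, f ⁻¹ᵁ V)).colon {m} = annSection M m := by
      ext r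
      rw [Submodule.mem_colon_singleton, Submodule.mem_bot, mem_annSection]
    rw [e]; exact hm
  obtain ⟨m', hm'eq⟩ := Submodule.exists_eq_colon_of_mem_minimalPrimes hm'
  have e' : (⊥ : Submodule Γ(X, f ⁻¹ᵁ V) Γ(M, f ⁻¹ᵁ V)).colon {m'} = annSection M m' := by
    ext r
    rw [Submodule.mem_colon_singleton, Submodule.mem_bot, mem_annSection]
  rw [e'] at hm'eq
  apply isWeakAssPoint_of_mem_minimalPrimes _ hV
    (show Γ((Scheme.Modules.pushforward f).obj M, V) from m') (f x) hsV
  rw [annSection_pushforward, primeIdealOf_map f hV hW x hxW, hm'eq]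
  have hprime : (Ideal.comap (f.app V).hom (annSection M m')).IsPrime := by
    rw [← hm'eq]
    exact Ideal.IsPrime.comap _
  rw [Ideal.minimalPrimes_eq_subsingleton_self]
  rfl

/-- On an affine open with Noetherian ring of sections, the prime of a weakly associated point is
an associated prime of the module of sections. -/
theorem primeIdealOf_mem_associatedPrimes (M : X.Modules) [M.IsQuasicoherent] {U : X.Opens}
    (hU : IsAffineOpen U) [IsNoetherianRing Γ(X, U)] (x : X) (hx : x ∈ U)
    (h : Curv2.IsWeakAssPoint M x) :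
    (hU.primeIdealOf ⟨x, hx⟩).asIdeal ∈ associatedPrimes Γ(X, U) Γ(M, U) := by
  obtain ⟨m, hm⟩ := exists_mem_minimalPrimes_of_isWeakAssPoint M hU x hx h
  have hm' : (hU.primeIdealOf ⟨x, hx⟩).asIdeal ∈
      ((⊥ : Submodule Γ(X, U) Γ(M, U)).colon {m}).minimalPrimes := by
    have e : (⊥ : Submodule Γ(X, U) Γ(M, U)).colon {m} = annSection M m := by
      ext r
      rw [Submodule.mem_colon_singleton, Submodule.mem_bot, mem_annSection]
    rw [e]; exact hm
  obtain ⟨m', hm'eq⟩ := Submodule.exists_eq_colon_of_mem_minimalPrimes hm'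
  rw [AssociatedPrimes.mem_iff, isAssociatedPrime_iff]
  exact ⟨inferInstance, m', hm'eq⟩

/-- On a locally Noetherian scheme, a coherent module has finitely many weakly associated points
in any affine open. -/
theorem finite_isWeakAssPoint_of_isAffineOpen [IsLocallyNoetherian X] (M : X.Modules)
    [M.IsQuasicoherent] [M.IsFiniteType] {U : X.Opens} (hU : IsAffineOpen U) :
    {x : X | x ∈ U ∧ Curv2.IsWeakAssPoint M x}.Finite := by
  have hN : IsNoetherianRing Γ(X, U) :=
    IsLocallyNoetherian.component_noetherian (X := X) ⟨U, hU⟩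
  have hfin : Module.Finite Γ(X, U) Γ(M, U) := module_finite_of_isFiniteType M hU
  have hA : (associatedPrimes Γ(X, U) Γ(M, U)).Finite := associatedPrimes.finite _ _
  let g : {x : X | x ∈ U ∧ Curv2.IsWeakAssPoint M x} → associatedPrimes Γ(X, U) Γ(M, U) :=
    fun x => ⟨(hU.primeIdealOf ⟨x.1, x.2.1⟩).asIdeal,
      primeIdealOf_mem_associatedPrimes M hU x.1 x.2.1 x.2.2⟩
  have hg : Function.Injective g := by
    intro x y hxy
    apply Subtype.ext
    apply eq_of_primeIdealOf_eq hU x.1 y.1 x.2.1 y.2.1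
    apply PrimeSpectrum.ext
    exact congrArg Subtype.val hxy
  have : Finite (associatedPrimes Γ(X, U) Γ(M, U)) := hA.to_subtype
  exact Set.finite_coe_iff.mp (Finite.of_injective g hg)

/-- On a locally Noetherian scheme, a coherent module has finitely many weakly associated points
in any quasi-compact open. -/
theorem finite_isWeakAssPoint_of_isCompact [IsLocallyNoetherian X] (M : X.Modules)
    [M.IsQuasicoherent] [M.IsFiniteType] (U : X.Opens) (hU : IsCompact (U : Set X)) :
    {x : X | x ∈ U ∧ Curv2.IsWeakAssPoint M x}.Finite := by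
  obtain ⟨S, hS⟩ := hU.elim_finite_subcover (fun V : X.affineOpens => ((V : X.Opens) : Set X))
    (fun V => (V : X.Opens).isOpen) (fun x _ => by
      obtain ⟨V, hV⟩ := (isOpenCover_affineOpens X).exists_mem x
      exact Set.mem_iUnion.mpr ⟨V, hV⟩)
  refine Set.Finite.subset (Set.Finite.biUnion S.finite_toSet
    (fun V _ => finite_isWeakAssPoint_of_isAffineOpen M V.2)) ?_
  rintro x ⟨hxU, hx⟩
  have := hS hxU
  simp only [Set.mem_iUnion, exists_prop] at this
  obtain ⟨V, hVS, hxV⟩ := this
  exact Set.mem_biUnion hVS ⟨hxV, hx⟩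

/-- The stalk map as a linear map over the local ring. -/
noncomputable def stalkMapₗ {M N : X.Modules} (φ : M ⟶ N) (x : X) :
    M.presheaf.stalk x →ₗ[X.presheaf.stalk x] N.presheaf.stalk x where
  toFun := stalkMap φ x
  map_add' := fun a b => map_add _ a b
  map_smul' := fun r a => stalkMap_smul φ x r a

theorem stalkMapₗ_apply {M N : X.Modules} (φ : M ⟶ N) (x : X) (t : M.presheaf.stalk x) :
    stalkMapₗ φ x t = stalkMap φ x t := rfl

theorem isAssPoint_iff_mem_associatedPrimes (M : X.Modules) (x : X) :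
    Curv2.IsAssPoint M x ↔ IsLocalRing.maximalIdeal (X.presheaf.stalk x) ∈
      associatedPrimes (X.presheaf.stalk x) (M.presheaf.stalk x) := Iff.rfl

/-- Associated points of a submodule are associated points. -/
theorem isAssPoint_of_mono {M N : X.Modules} (φ : M ⟶ N) [Mono φ] (x : X)
    (h : Curv2.IsAssPoint M x) : Curv2.IsAssPoint N x := by
  have hinj : Function.Injective (stalkMapₗ φ x) :=
    (mono_iff_stalkMap_injective φ).mp inferInstance x
  exact IsAssociatedPrime.map_of_injective (stalkMapₗ φ x) h hinj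

/-- Associated points of the middle term of a short exact sequence. -/
theorem isAssPoint_of_shortExact (S : ShortComplex X.Modules) (hS : S.ShortExact) (x : X)
    (h : Curv2.IsAssPoint S.X₂ x) : Curv2.IsAssPoint S.X₁ x ∨ Curv2.IsAssPoint S.X₃ x := by
  have := hS.mono_f
  have hinj : Function.Injective (stalkMapₗ S.f x) :=
    (mono_iff_stalkMap_injective S.f).mp inferInstance x
  have hex : Function.Exact (stalkMapₗ S.f x) (stalkMapₗ S.g x) :=
    (exact_iff_stalk_function_exact S).mp hS.exact x
  have := associatedPrimes.subset_union_of_exact hinj hex h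
  exact this

end Groth.Agent.Lib.Helper29.QCoh
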