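import Groth.Agent.Lib.Helper29.QCohQcqs
import Groth.Agent.Lib.Helper29.QCohAss2
universe u v w
open CategoryTheory CategoryTheory.Limits AlgebraicGeometry Opposite TopologicalSpace

/-! # Weakly associated points of direct images along qcqs morphisms -/

namespace Groth.Agent.Lib.Helper29.QCoh

variable {X Y : Scheme.{u}}

/-- The prime ideal of the image of a point, relative to an affine open contained in the
preimage. -/
theorem primeIdealOf_map_of_le (f : X ⟶ Y) {V : Y.Opens} (hV : IsAffineOpen V)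
    {W : X.Opens} (hW : IsAffineOpen W) (hWV : W ≤ f ⁻¹ᵁ V) (x : X) (hx : x ∈ W) :
    (hV.primeIdealOf ⟨f x, hWV hx⟩).asIdeal =
      Ideal.comap ((X.presheaf.map (homOfLE hWV).op).hom.comp (f.app V).hom)
        (hW.primeIdealOf ⟨x, hx⟩).asIdeal := by
  ext r
  rw [Ideal.mem_comap, ← not_iff_not, ← mem_basicOpen_iff_notMem_primeIdealOf hV (f x) (hWV hx) r]
  have e : f ⁻¹ᵁ Y.basicOpen r = X.basicOpen (f.app V r) := Scheme.preimage_basicOpen f r
  have h1 : f x ∈ Y.basicOpen r ↔ x ∈ f ⁻¹ᵁ Y.basicOpen r := Iff.rfl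
  rw [h1, e, RingHom.comp_apply, ← mem_basicOpen_iff_notMem_primeIdealOf hW x hx,
    basicOpen_res_eq hWV]
  exact ⟨fun h => ⟨hx, h⟩, fun h => h.2⟩

theorem annSection_eq_iInf_comap (M : X.Modules) {ι : Type*} (V : ι → X.Opens) {U : X.Opens}
    (hVU : ∀ i, V i ≤ U) (hcover : U ≤ iSup V) (m : Γ(M, U)) :
    annSection M m = ⨅ i, Ideal.comap (X.presheaf.map (homOfLE (hVU i)).op).hom
      (annSection M (res M (hVU i) m)) := by
  ext r
  rw [Ideal.mem_iInf, mem_annSection]
  constructor
  · intro h i
    rw [Ideal.mem_comap, mem_annSection, ← res_smul, h, map_zero]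
  · intro h
    refine eq_zero_of_res_cover_eq_zero M V hVU hcover _ fun i => ?_
    have := h i
    rw [Ideal.mem_comap, mem_annSection] at this
    rw [res_smul]
    exact this

/-- Weakly associated points of a direct image along a quasi-compact quasi-separated morphism
come from weakly associated points upstairs. -/
theorem exists_isWeakAssPoint_of_pushforward_of_qcqs (f : X ⟶ Y) [QuasiCompact f]
    [QuasiSeparated f] (M : X.Modules) [M.IsQuasicoherent] (s : Y)
    (hs : Curv2.IsWeakAssPoint ((Scheme.Modules.pushforward f).obj M) s) :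
    ∃ x : X, f x = s ∧ Curv2.IsWeakAssPoint M x := by
  have := isQuasicoherent_pushforward_of_qcqs f M
  obtain ⟨V, hV, hsV, -⟩ := exists_isAffineOpen_mem_and_subset (x := s) (U := ⊤) trivial
  have hW : IsCompact ((f ⁻¹ᵁ V : X.Opens) : Set X) :=
    QuasiCompact.isCompact_preimage (f := f) _ V.2 hV.isCompact
  obtain ⟨k, W, hWa, hWV, hcov⟩ := exists_finite_affine_cover hW
  obtain ⟨m, hm⟩ := exists_mem_minimalPrimes_of_isWeakAssPoint _ hV s hsV hs
  rw [annSection_pushforward] at hm
  obtain ⟨q, hq, hqp⟩ := Ideal.exists_minimalPrimes_comap_eq (f.app V).hom _ hm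
  have hqq : q.IsPrime := hq.1.1
  set m' : Γ(M, f ⁻¹ᵁ V) := m with hm'
  have hI := annSection_eq_iInf_comap M W hWV hcov m'
  -- `q` contains one of the finitely many ideals
  have h1 : ∃ i, Ideal.comap (X.presheaf.map (homOfLE (hWV i)).op).hom
      (annSection M (res M (hWV i) m')) ≤ q := by
    have h2 : (Finset.univ : Finset (Fin k)).inf (fun i =>
        Ideal.comap (X.presheaf.map (homOfLE (hWV i)).op).hom
          (annSection M (res M (hWV i) m'))) ≤ q := by
      rw [Finset.inf_univ_eq_iInf, ← hI]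
      exact hq.1.2
    obtain ⟨i, -, hi⟩ := (Ideal.IsPrime.inf_le' hqq).mp h2
    exact ⟨i, hi⟩
  obtain ⟨i, hi⟩ := h1
  have hqi : q ∈ (Ideal.comap (X.presheaf.map (homOfLE (hWV i)).op).hom
      (annSection M (res M (hWV i) m'))).minimalPrimes := by
    refine ⟨⟨hqq, hi⟩, fun q' hq' hq'q => hq.2 ⟨hq'.1, ?_⟩ hq'q⟩
    rw [hI]
    exact (iInf_le _ i).trans hq'.2
  obtain ⟨qi, hqi', hqiq⟩ := Ideal.exists_minimalPrimes_comap_eq _ _ hqi
  have hqiP : qi.IsPrime := hqi'.1.1
  obtain ⟨x, hx, hxq⟩ := exists_point_of_prime' (hWa i) ⟨qi, hqiP⟩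
  refine ⟨x, ?_, ?_⟩
  · apply eq_of_primeIdealOf_eq hV (f x) s (hWV i hx) hsV
    apply PrimeSpectrum.ext
    rw [primeIdealOf_map_of_le f hV (hWa i) (hWV i) x hx, hxq, ← Ideal.comap_comap, hqiq]
    exact hqp
  · apply isWeakAssPoint_of_mem_minimalPrimes M (hWa i) (res M (hWV i) m') x hx
    rw [hxq]
    exact hqi'

/-- Isomorphic modules have the same weakly associated points. -/
theorem isWeakAssPoint_of_iso {M N : X.Modules} (e : M ≅ N) (x : X)
    (h : Curv2.IsWeakAssPoint M x) : Curv2.IsWeakAssPoint N x :=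
  (isAssPoint_iff_isWeakAssPoint N x).mp
    (isAssPoint_of_mono e.hom x ((isAssPoint_iff_isWeakAssPoint M x).mpr h))

theorem annStalk_restrictStalkIso (f : Y ⟶ X) [IsOpenImmersion f] (M : X.Modules) (y : Y)
    (t : (M.restrict f).presheaf.stalk y) :
    annStalk M ((restrictStalkIso f M y).hom t) =
      Ideal.comap (f.stalkMap y).hom (annStalk (M.restrict f) t) := by
  ext r
  rw [Ideal.mem_comap, LinearMap.mem_ker, LinearMap.toSpanSingleton_apply,
    LinearMap.mem_ker, LinearMap.toSpanSingleton_apply, ← restrictStalkIso_smul]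
  constructor
  · intro h
    apply (ConcreteCategory.bijective_of_isIso (restrictStalkIso f M y).hom).injective
    rw [map_zero]
    exact h
  · intro h
    have := congrArg (restrictStalkIso f M y).hom h
    rw [map_zero] at this
    exact this

/-- Weakly associated points of a restriction to an open subscheme. -/
theorem isWeakAssPoint_restrict_iff (f : Y ⟶ X) [IsOpenImmersion f] (M : X.Modules) (y : Y) :
    Curv2.IsWeakAssPoint (M.restrict f) y ↔ Curv2.IsWeakAssPoint M (f y) := by
  have hmax : Ideal.comap (f.stalkMap y).hom (IsLocalRing.maximalIdeal (Y.presheaf.stalk y)) =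
      IsLocalRing.maximalIdeal (X.presheaf.stalk (f y)) :=
    IsLocalRing.maximalIdeal_comap (f.stalkMap y).hom
  constructor
  · rintro ⟨t, ht⟩
    refine ⟨(restrictStalkIso f M y).hom t, ?_⟩
    change Ideal.radical (annStalk M ((restrictStalkIso f M y).hom t)) = _
    rw [annStalk_restrictStalkIso, ← Ideal.comap_radical, ← hmax]
    exact congrArg _ ht
  · rintro ⟨t', ht'⟩
    obtain ⟨t, rfl⟩ := (ConcreteCategory.bijective_of_isIso (restrictStalkIso f M y).hom).surjective t'
    refine ⟨t, ?_⟩
    change Ideal.radical (annStalk M ((restrictStalkIso f M y).hom t)) = _ at ht'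
    rw [annStalk_restrictStalkIso, ← Ideal.comap_radical, ← hmax] at ht'
    exact Ideal.comap_injective_of_surjective (f.stalkMap y).hom
      (ConcreteCategory.bijective_of_isIso (f.stalkMap y)).surjective ht'

/-- Weakly associated points of the direct image along an open immersion. -/
theorem isWeakAssPoint_pushforward_of_isOpenImmersion (f : Y ⟶ X) [IsOpenImmersion f]
    (M : Y.Modules) (y : Y) (h : Curv2.IsWeakAssPoint M y) :
    Curv2.IsWeakAssPoint ((Scheme.Modules.pushforward f).obj M) (f y) := by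
  rw [← isWeakAssPoint_restrict_iff]
  exact isWeakAssPoint_of_iso ((Scheme.Modules.restrictFunctorAdjCounitIso f).app M).symm y h

end Groth.Agent.Lib.Helper29.QCoh
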