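import Groth.Agent.Lib.Helper29.QCohPullback
import Groth.Agent.Lib.Helper29.QCohQcqsAss
import Mathlib.RingTheory.LocalRing.Module
import Mathlib.RingTheory.Flat.FaithfullyFlat.Basic
universe u v w
open CategoryTheory CategoryTheory.Limits AlgebraicGeometry Opposite TopologicalSpace
open scoped TensorProduct
open TensorProduct

/-! # Supports of inverse images of quasi-coherent modules of finite type -/

namespace Groth.Agent.Lib.Helper29.QCoh

/-- The support of a base change of a finite module is the preimage of the support. -/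
theorem mem_support_baseChange_iff {A B : Type u} [CommRing A] [CommRing B] [Algebra A B]
    (M : Type u) [AddCommGroup M] [Module A M] [Module.Finite A M] (q : PrimeSpectrum B) :
    q ∈ Module.support B (B ⊗[A] M) ↔ q.comap (algebraMap A B) ∈ Module.support A M := by
  set p := q.comap (algebraMap A B) with hp
  rw [Module.mem_support_iff_nontrivial_residueField_tensorProduct,
    Module.mem_support_iff_nontrivial_residueField_tensorProduct]
  let K := q.asIdeal.ResidueField
  let k := p.asIdeal.ResidueField
  let φ : k →+* K := Ideal.ResidueField.map p.asIdeal q.asIdeal (algebraMap A B) rfl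
  let _ : Algebra k K := φ.toAlgebra
  have : IsScalarTower A k K := by
    refine IsScalarTower.of_algebraMap_eq' ?_
    ext r
    rw [RingHom.comp_apply]
    change _ = φ (algebraMap A k r)
    rw [Ideal.ResidueField.map_algebraMap, ← IsScalarTower.algebraMap_apply]
  let e1 : K ⊗[B] (B ⊗[A] M) ≃ₗ[K] K ⊗[A] M :=
    AlgebraTensorModule.cancelBaseChange A B K K M
  let e2 : K ⊗[k] (k ⊗[A] M) ≃ₗ[K] K ⊗[A] M :=
    AlgebraTensorModule.cancelBaseChange A k K K M
  rw [e1.nontrivial_congr, ← e2.nontrivial_congr]
  exact Module.FaithfullyFlat.nontrivial_tensorProduct_iff_right k K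

variable {X Y : Scheme.{u}}

/-- The stalk of a quasi-coherent module at a point of an affine open vanishes iff the point is
not in the support of the module of sections. -/
theorem subsingleton_stalk_iff (M : X.Modules) [M.IsQuasicoherent] {U : X.Opens}
    (hU : IsAffineOpen U) (x : X) (hx : x ∈ U) :
    Subsingleton (M.presheaf.stalk x) ↔
      hU.primeIdealOf ⟨x, hx⟩ ∉ Module.support Γ(X, U) Γ(M, U) := by
  rw [Module.notMem_support_iff']
  constructor
  · intro h m
    have h0 : M.presheaf.germ U x hx m = 0 := Subsingleton.elim _ _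
    obtain ⟨r, hr, hrm⟩ := (germ_eq_zero_iff M hU x hx m).mp h0
    exact ⟨r, (mem_basicOpen_iff_notMem_primeIdealOf hU x hx r).mp hr, hrm⟩
  · intro h
    refine ⟨fun a b => ?_⟩
    have key : ∀ t : M.presheaf.stalk x, t = 0 := fun t => by
      obtain ⟨r, m, hr, hrt⟩ := exists_smul_germ_eq M hU x hx t
      obtain ⟨r', hr', hrm⟩ := h m
      have h0 : M.presheaf.germ U x hx m = 0 :=
        (germ_eq_zero_iff M hU x hx m).mpr
          ⟨r', (mem_basicOpen_iff_notMem_primeIdealOf hU x hx r').mpr hr', hrm⟩
      rw [h0] at hrt
      exact eq_zero_of_isUnit_smul (isUnit_germ_of_mem_basicOpen r x hx hr) hrt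
    rw [key a, key b]

/-- The stalk of `f^*F` at `x` vanishes iff the stalk of `F` at `f x` does (`F` quasi-coherent of
finite type). -/
theorem subsingleton_stalk_pullback_iff (f : X ⟶ Y) (F : Y.Modules) [F.IsQuasicoherent]
    [F.IsFiniteType] (x : X) :
    Subsingleton (((Scheme.Modules.pullback f).obj F).presheaf.stalk x) ↔
      Subsingleton (F.presheaf.stalk (f x)) := by
  obtain ⟨U, V, hU, hV, hxU, hUV⟩ := exists_affine_pair f x
  rw [subsingleton_stalk_iff _ hU x hxU, subsingleton_stalk_iff F hV (f x) (hUV hxU), not_iff_not]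
  let _ := (f.appLE V U hUV).hom.toAlgebra
  have : Module.Finite Γ(Y, V) Γ(F, V) := module_finite_of_isFiniteType F hV
  rw [(pullbackSectionsEquiv f F hU hV hUV).support_eq, mem_support_baseChange_iff]
  have e : (hU.primeIdealOf ⟨x, hxU⟩).comap (algebraMap Γ(Y, V) Γ(X, U)) =
      hV.primeIdealOf ⟨f x, hUV hxU⟩ := by
    apply PrimeSpectrum.ext
    rw [primeIdealOf_map_of_le f hV hU hUV x hxU]
    rfl
  rw [e]

/-- The support of `f^*F` is the preimage of the support of `F`. -/
theorem support_pullback (f : X ⟶ Y) (F : Y.Modules) [F.IsQuasicoherent] [F.IsFiniteType] :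
    CohB1.support ((Scheme.Modules.pullback f).obj F) = f.base ⁻¹' CohB1.support F := by
  ext x
  exact not_congr (subsingleton_stalk_pullback_iff f F x)

/-- A morphism is an epimorphism iff all stalks of its cokernel vanish. -/
theorem epi_iff_cokernel_stalk_subsingleton {F G : Y.Modules} (u : F ⟶ G) :
    Epi u ↔ ∀ y : Y, Subsingleton ((cokernel u).presheaf.stalk y) := by
  rw [← isZero_iff_stalk_subsingleton]
  constructor
  · intro h
    exact isZero_cokernel_of_epi u
  · intro h
    exact Preadditive.epi_of_isZero_cokernel u h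

/-- `f^*u` is an epimorphism iff `f` maps into the complement of the support of the cokernel
of `u` (`u : F ⟶ G` with `F`, `G` quasi-coherent, `G` of finite type). -/
theorem epi_pullback_map_iff (f : X ⟶ Y) {F G : Y.Modules} [F.IsQuasicoherent]
    [G.IsQuasicoherent] [G.IsFiniteType] (u : F ⟶ G) :
    Epi ((Scheme.Modules.pullback f).map u) ↔
      ∀ x : X, Subsingleton ((cokernel u).presheaf.stalk (f x)) := by
  have : (cokernel u).IsFiniteType := isFiniteType_cokernel u
  rw [epi_iff_cokernel_stalk_subsingleton]
  have e : cokernel ((Scheme.Modules.pullback f).map u) ≅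
      (Scheme.Modules.pullback f).obj (cokernel u) :=
    (PreservesCokernel.iso (Scheme.Modules.pullback f) u).symm
  refine forall_congr' fun x => ?_
  rw [← subsingleton_stalk_pullback_iff f (cokernel u) x]
  have e' := (stalkFunctor X x).mapIso e
  exact ⟨fun h => (AddCommGrpCat.isZero_iff_subsingleton.mp
      ((AddCommGrpCat.isZero_iff_subsingleton.mpr h).of_iso e'.symm)),
    fun h => (AddCommGrpCat.isZero_iff_subsingleton.mp
      ((AddCommGrpCat.isZero_iff_subsingleton.mpr h).of_iso e'))⟩

/-- Epimorphisms onto quasi-coherent modules of finite type can be detected after pulling back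
along a surjective morphism. -/
theorem epi_of_epi_pullback_of_surjective (f : X ⟶ Y) [Surjective f] {F G : Y.Modules}
    [F.IsQuasicoherent] [G.IsQuasicoherent] [G.IsFiniteType] (u : F ⟶ G)
    (h : Epi ((Scheme.Modules.pullback f).map u)) : Epi u := by
  rw [epi_iff_cokernel_stalk_subsingleton]
  intro y
  obtain ⟨x, rfl⟩ := f.surjective y
  exact (epi_pullback_map_iff f u).mp h x

end Groth.Agent.Lib.Helper29.QCoh
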