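import Groth.Agent.Lib.Helper29.QCohFP
import Mathlib.RingTheory.LocalProperties.FinitePresentation
universe u v w
open CategoryTheory CategoryTheory.Limits AlgebraicGeometry Opposite TopologicalSpace

/-! # Finitely presented modules have finitely presented modules of sections over affines -/

namespace Groth.Agent.Lib.Helper29.QCoh

variable {X : Scheme.{u}}

set_option backward.isDefEq.respectTransparency false in
/-- A module on `Spec R` with a global presentation is the tilde of the cokernel of a map of free
modules. -/
theorem exists_iso_tilde_cokernel {R : CommRingCat.{u}} (N : (Spec R).Modules)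
    (P : N.Presentation) :
    ∃ g : ModuleCat.of R (P.relations.I →₀ R) ⟶ ModuleCat.of R (P.generators.I →₀ R),
      Nonempty ((tilde.functor R).obj (cokernel g) ≅ N) := by
  let g := (tilde.functor _).preimage <| (tildeFinsupp _).hom ≫ P.relations.π ≫ kernel.ι _ ≫
    (tildeFinsupp _).inv
  let iso : cokernel ((tilde.functor R).map g) ≅ cokernel (P.relations.π ≫ kernel.ι _) := by
    refine cokernel.mapIso _ _ (tildeFinsupp _) (tildeFinsupp _) ?_
    simp only [g, (tilde.functor R).map_preimage]
    simp
  exact ⟨g, ⟨PreservesCokernel.iso (tilde.functor R) g ≪≫ iso ≪≫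
    IsColimit.coconePointUniqueUpToIso (colimit.isColimit _) P.isColimit⟩⟩

theorem finitePresentation_cokernel {R : Type u} [CommRing R] {I J : Type u} [Finite I] [Finite J]
    (g : ModuleCat.of R (J →₀ R) ⟶ ModuleCat.of R (I →₀ R)) :
    Module.FinitePresentation R (cokernel g : ModuleCat.{u} R) := by
  have e := (ModuleCat.cokernelIsoRangeQuotient g).toLinearEquiv
  have h1 : Module.FinitePresentation R ((I →₀ R) ⧸ LinearMap.range g.hom) := by
    refine Module.finitePresentation_of_surjective (LinearMap.range g.hom).mkQ
      (Submodule.mkQ_surjective _) ?_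
    rw [Submodule.ker_mkQ, LinearMap.range_eq_map]
    exact (Module.Finite.fg_top).map _
  exact Module.FinitePresentation.of_equiv e.symm

/-- Global sections of a module on `Spec R` with a finite global presentation form a finitely
presented module. -/
theorem finitePresentation_sections_of_presentation {R : CommRingCat.{u}} (N : (Spec R).Modules)
    (P : N.Presentation) [P.IsFinite] :
    Module.FinitePresentation R ((modulesSpecToSheaf.obj N).presheaf.obj (.op ⊤)) := by
  obtain ⟨g, ⟨e⟩⟩ := exists_iso_tilde_cokernel N P
  have : Finite P.generators.I := inferInstance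
  have : Finite P.relations.I := inferInstance
  have h1 := finitePresentation_cokernel g
  have e1 : (cokernel g : ModuleCat.{u} R) ≃ₗ[R]
      ((modulesSpecToSheaf.obj N).presheaf.obj (.op ⊤)) :=
    (tilde.isoTop (cokernel g)).toLinearEquiv ≪≫ₗ (moduleSpecΓFunctor.mapIso e).toLinearEquiv
  exact Module.FinitePresentation.of_equiv e1

set_option backward.isDefEq.respectTransparency false in
/-- A finitely presented module has finite presentations on the members of an affine open
cover. -/
theorem exists_isOpenCover_presentation_isFinite (M : X.Modules) [M.IsFinitePresentation] :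
    ∃ (ι : Type u) (U : ι → X.Opens) (P : ∀ i, (M.restrict (U i).ι).Presentation),
      (∀ i, (P i).IsFinite) ∧ IsOpenCover U ∧ (∀ i, IsAffineOpen (U i)) := by
  obtain ⟨σ, hσ⟩ := SheafOfModules.IsFinitePresentation.exists_quasicoherentData M
  obtain ⟨I, W, cov, pres⟩ := σ
  have hfin : ∀ i, (pres i).IsFinite := fun i => hσ.isFinite_presentation i
  choose κ hsub heq using fun i ↦ Opens.isBasis_iff_cover.mp X.isBasis_affineOpens (W i)
  have hle : ∀ (i : Σ (i : I), κ i), i.2.1 ≤ W i.1 := fun i => by simp [heq, le_sSup]
  let F : ∀ (i : Σ (i : I), κ i), _ := fun i =>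
    (Scheme.Modules.overEquiv (W i.1)).functor ⋙
      Scheme.Modules.restrictFunctor (X.homOfLE (hle i))
  have hF : ∀ i, PreservesColimitsOfSize.{u, u} (F i) := fun i => by
    have : PreservesColimitsOfSize.{u, u}
        (Scheme.Modules.restrictFunctor (X.homOfLE (hle i))) := inferInstance
    infer_instance
  let iso : ∀ (i : Σ (i : I), κ i), SheafOfModules.overFunctor X.ringCatSheaf _ ⋙ F i ≅
      Scheme.Modules.restrictFunctor (Scheme.Opens.ι i.2.1) := fun i =>
    (Functor.associator _ _ _).symm ≪≫
      Functor.isoWhiskerRight (Scheme.Modules.overFunctorEquiv _) _ ≪≫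
      (Scheme.Modules.restrictFunctorComp _ _).symm ≪≫
      (Scheme.Modules.restrictFunctorCongr (by simp))
  refine ⟨Σ (i : I), κ i, fun j ↦ j.2, fun i ↦
    SheafOfModules.Presentation.ofIsIso.{u, u, u} ((iso i).app M).hom <|
      (pres i.1).map (F i) (Scheme.Modules.restrictUnitIso _).symm, fun i => ?_, ?_, ?_⟩
  · have := hfin i.1
    have := presentation_map_isFinite (pres i.1) (F i) (Scheme.Modules.restrictUnitIso _).symm
    infer_instance
  · rw [Opens.coversTop_iff, IsOpenCover] at cov
    rw [IsOpenCover, iSup_sigma, ← cov]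
    refine iSup_congr fun i ↦ ?_
    rw [heq i, sSup_eq_iSup']
  · intro j
    exact hsub _ j.2.2

set_option backward.isDefEq.respectTransparency false in
/-- A finite presentation on an open `W` induces a finite presentation of the restriction to
`Spec Γ(X, D)` for any affine open `D ≤ W`. -/
theorem exists_presentation_fromSpec_isFinite (M : X.Modules) {W : X.Opens}
    (P : (M.restrict W.ι).Presentation) [P.IsFinite] {D : X.Opens} (hD : IsAffineOpen D)
    (h : D ≤ W) : ∃ Q : (M.restrict hD.fromSpec).Presentation, Q.IsFinite := by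
  let j : Spec Γ(X, D) ⟶ (W : Scheme.{u}) := hD.isoSpec.inv ≫ X.homOfLE h
  have hj : j ≫ W.ι = hD.fromSpec := by
    change (hD.isoSpec.inv ≫ X.homOfLE h) ≫ W.ι = hD.fromSpec
    rw [Category.assoc, Scheme.homOfLE_ι]
    rfl
  let iso : (M.restrict W.ι).restrict j ≅ M.restrict hD.fromSpec :=
    ((Scheme.Modules.restrictFunctorComp j W.ι).app M).symm ≪≫
      (Scheme.Modules.restrictFunctorCongr hj).app M
  have h1 : (Scheme.Modules.presentationRestrict j P).IsFinite := by
    unfold Scheme.Modules.presentationRestrict
    have : PreservesColimitsOfSize.{u, u} (Scheme.Modules.restrictFunctor j) := inferInstance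
    exact presentation_map_isFinite P _ _
  exact ⟨SheafOfModules.Presentation.ofIsIso.{u, u, u} iso.hom
    (Scheme.Modules.presentationRestrict j P), inferInstance⟩

/-- Sections of a finitely presented module over an affine open contained in a member of the
presenting cover. -/
theorem module_finitePresentation_of_presentation (M : X.Modules) {W : X.Opens}
    (P : (M.restrict W.ι).Presentation) [P.IsFinite] {D : X.Opens} (hD : IsAffineOpen D)
    (h : D ≤ W) : Module.FinitePresentation Γ(X, D) Γ(M, D) := by
  obtain ⟨Q, hQ⟩ := exists_presentation_fromSpec_isFinite M P hD h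
  have := finitePresentation_sections_of_presentation (M.restrict hD.fromSpec) Q
  exact Module.FinitePresentation.of_equiv (sectionsRestrictFromSpecEquiv M hD).symm

/-- Sections of a finitely presented module over an affine open form a finitely presented
module. -/
theorem module_finitePresentation_of_isFinitePresentation (M : X.Modules)
    [M.IsFinitePresentation] {U : X.Opens} (hU : IsAffineOpen U) :
    Module.FinitePresentation Γ(X, U) Γ(M, U) := by
  obtain ⟨ι, W, P, hP, hcov, -⟩ := exists_isOpenCover_presentation_isFinite M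
  -- basic opens of `U` inside members of the cover
  have h1 : ∀ x : U, ∃ (g : Γ(X, U)) (i : ι), x.1 ∈ X.basicOpen g ∧ X.basicOpen g ≤ W i := by
    rintro ⟨x, hx⟩
    obtain ⟨i, hi⟩ := hcov.exists_mem x
    obtain ⟨g, hg, hxg⟩ := hU.exists_basicOpen_le ⟨x, hi⟩ hx
    exact ⟨g, i, hxg, hg⟩
  choose g i hxg hgW using h1
  let s : Set Γ(X, U) := Set.range g
  have hs : Ideal.span s = ⊤ := by
    apply ideal_eq_top_of_forall_mem_basicOpen hU
    intro x hx
    exact ⟨g ⟨x, hx⟩, Ideal.subset_span ⟨⟨x, hx⟩, rfl⟩, hxg ⟨x, hx⟩⟩
  let _ : ∀ r : s, Algebra Γ(X, U) Γ(X, X.basicOpen r.1) := fun r =>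
    (X.presheaf.map (homOfLE (X.basicOpen_le r.1)).op).hom.toAlgebra
  let _ : ∀ r : s, Module Γ(X, U) Γ(M, X.basicOpen r.1) := fun r =>
    sectionsModule M (X.basicOpen_le r.1)
  have hloc : ∀ r : s, IsLocalization.Away r.1 Γ(X, X.basicOpen r.1) := fun r =>
    hU.isLocalization_basicOpen r.1
  have htower : ∀ r : s, IsScalarTower Γ(X, U) Γ(X, X.basicOpen r.1) Γ(M, X.basicOpen r.1) :=
    fun r => IsScalarTower.of_algebraMap_smul fun a m => rfl
  have hlm : ∀ r : s, IsLocalizedModule (Submonoid.powers r.1) (resₗ M (X.basicOpen_le r.1)) :=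
    fun r => isLocalizedModule_res_basicOpen M hU r.1
  refine Module.FinitePresentation.of_localizationSpan' s hs
    (Mₚ := fun r => Γ(M, X.basicOpen r.1)) (Rₚ := fun r => Γ(X, X.basicOpen r.1))
    (fun r => resₗ M (X.basicOpen_le r.1)) (fun r => ?_)
  obtain ⟨r, x, rfl⟩ := r
  have := hP (i x)
  exact module_finitePresentation_of_presentation M (P (i x)) (hU.basicOpen (g x)) (hgW x)

end Groth.Agent.Lib.Helper29.QCoh
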