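import Groth.Agent.Lib.Helper29.QCohCrit
universe u v w
open CategoryTheory CategoryTheory.Limits AlgebraicGeometry Opposite TopologicalSpace

/-! # Exactness of sections over affine opens (vanishing of `H¹` of quasi-coherent modules on
affines, in elementary form) and extensions of quasi-coherent modules -/

namespace Groth.Agent.Lib.Helper29.QCoh

variable {X : Scheme.{u}}

/-- Gluing of sections of an `O_X`-module. -/
theorem exists_gluing (M : X.Modules) {ι : Type*} (V : ι → X.Opens) (U : X.Opens)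
    (hVU : ∀ i, V i ≤ U) (hcover : U ≤ iSup V) (sf : ∀ i, Γ(M, V i))
    (h : ∀ i j, res M (inf_le_left : V i ⊓ V j ≤ V i) (sf i) =
      res M (inf_le_right : V i ⊓ V j ≤ V j) (sf j)) :
    ∃ s : Γ(M, U), ∀ i, res M (hVU i) s = sf i := by
  obtain ⟨s, hs, -⟩ := ((toSheafAb X).obj M).existsUnique_gluing' V U (fun i => homOfLE (hVU i))
    hcover sf (fun i j => h i j)
  exact ⟨s, hs⟩

/-- Relative scalar multiplication: a function on `U` acting on sections over `W ≤ U`. -/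
noncomputable def rsmul (M : X.Modules) {U W : X.Opens} (h : W ≤ U) (f : Γ(X, U))
    (m : Γ(M, W)) : Γ(M, W) :=
  (X.presheaf.map (homOfLE h).op f) • m

theorem rsmul_res (M : X.Modules) {U W W' : X.Opens} (h : W ≤ U) (h' : W' ≤ W) (f : Γ(X, U))
    (m : Γ(M, W)) :
    res M h' (rsmul M h f m) = rsmul M (h'.trans h) f (res M h' m) := by
  unfold rsmul
  rw [res_smul, map_map_apply]

theorem app_rsmul {M N : X.Modules} (φ : M ⟶ N) {U W : X.Opens} (h : W ≤ U) (f : Γ(X, U))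
    (m : Γ(M, W)) : φ.app W (rsmul M h f m) = rsmul N h f (φ.app W m) :=
  Scheme.Modules.Hom.app_smul φ _ m

theorem rsmul_self (M : X.Modules) {U : X.Opens} (f : Γ(X, U)) (m : Γ(M, U)) :
    rsmul M le_rfl f m = f • m := by
  unfold rsmul
  have : X.presheaf.map (homOfLE (le_refl U)).op f = f := by
    change X.presheaf.map (𝟙 _) f = _
    rw [X.presheaf.map_id]; rfl
  rw [this]

theorem rsmul_add (M : X.Modules) {U W : X.Opens} (h : W ≤ U) (f : Γ(X, U))
    (m m' : Γ(M, W)) : rsmul M h f (m + m') = rsmul M h f m + rsmul M h f m' := smul_add _ _ _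

theorem rsmul_sub (M : X.Modules) {U W : X.Opens} (h : W ≤ U) (f : Γ(X, U))
    (m m' : Γ(M, W)) : rsmul M h f (m - m') = rsmul M h f m - rsmul M h f m' := smul_sub _ _ _

theorem rsmul_zero (M : X.Modules) {U W : X.Opens} (h : W ≤ U) (f : Γ(X, U)) :
    rsmul M h f (0 : Γ(M, W)) = 0 := smul_zero _

theorem rsmul_mul (M : X.Modules) {U W : X.Opens} (h : W ≤ U) (f g : Γ(X, U))
    (m : Γ(M, W)) : rsmul M h (f * g) m = rsmul M h f (rsmul M h g m) := by
  unfold rsmul
  rw [map_mul, mul_smul]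

theorem rsmul_pow_add (M : X.Modules) {U W : X.Opens} (h : W ≤ U) (f : Γ(X, U)) (a b : ℕ)
    (m : Γ(M, W)) : rsmul M h (f ^ (a + b)) m = rsmul M h (f ^ a) (rsmul M h (f ^ b) m) := by
  rw [pow_add, rsmul_mul]

theorem basicOpen_res_eq {U V : X.Opens} (hVU : V ≤ U) (f : Γ(X, U)) :
    X.basicOpen (X.presheaf.map (homOfLE hVU).op f) = V ⊓ X.basicOpen f :=
  Scheme.basicOpen_res X f (homOfLE hVU).op

/-- Relative form of `exists_pow_smul_eq_res`. -/
theorem exists_rsmul_pow_eq_res (M : X.Modules) [M.IsQuasicoherent] {U V : X.Opens}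
    (hV : IsAffineOpen V) (hVU : V ≤ U) (f : Γ(X, U)) (e : Γ(M, V ⊓ X.basicOpen f)) :
    ∃ (n : ℕ) (u : Γ(M, V)),
      rsmul M ((inf_le_left : V ⊓ X.basicOpen f ≤ V).trans hVU) (f ^ n) e =
        res M (inf_le_left : V ⊓ X.basicOpen f ≤ V) u := by
  have e0 := basicOpen_res_eq hVU f
  obtain ⟨n, u, hu⟩ := exists_pow_smul_eq_res M hV (X.presheaf.map (homOfLE hVU).op f)
    (res M e0.le e)
  refine ⟨n, u, ?_⟩
  apply res_injective_of_eq M e0
  rw [rsmul_res, res_res]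
  refine Eq.trans ?_ hu
  unfold rsmul
  rw [map_pow, map_map_apply]

/-- Relative form of `exists_pow_smul_eq_zero`. -/
theorem exists_rsmul_pow_eq_zero (M : X.Modules) [M.IsQuasicoherent] {U V : X.Opens}
    (hV : IsAffineOpen V) (hVU : V ≤ U) (f : Γ(X, U)) (v : Γ(M, V))
    (hv : res M (inf_le_left : V ⊓ X.basicOpen f ≤ V) v = 0) :
    ∃ n : ℕ, rsmul M hVU (f ^ n) v = 0 := by
  have e0 := basicOpen_res_eq hVU f
  have h0 : res M (X.basicOpen_le (X.presheaf.map (homOfLE hVU).op f)) v = 0 := by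
    rw [← res_res M (inf_le_left : V ⊓ X.basicOpen f ≤ V) e0.le, hv, map_zero]
  obtain ⟨n, hn⟩ := exists_pow_smul_eq_zero M hV _ v h0
  refine ⟨n, ?_⟩
  unfold rsmul
  rw [map_pow]
  exact hn

/-- Local lifting of sections along an epimorphism, on basic opens of an affine open. -/
theorem exists_local_lift {M N : X.Modules} (φ : M ⟶ N) [Epi φ] {U : X.Opens}
    (hU : IsAffineOpen U) (s : Γ(N, U)) (x : X) (hx : x ∈ U) :
    ∃ g : Γ(X, U), x ∈ X.basicOpen g ∧ ∃ t : Γ(M, X.basicOpen g),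
      φ.app _ t = res N (X.basicOpen_le g) s := by
  obtain ⟨τ, hτ⟩ := (epi_iff_stalkMap_surjective φ).mp inferInstance x (N.presheaf.germ U x hx s)
  obtain ⟨W, hWU, hxW, t0, rfl⟩ := M.presheaf.exists_le_germ_eq τ hx
  rw [stalkMap_germ, ← germ_res N hWU x hxW s] at hτ
  obtain ⟨W', hxW', i1, i2, e⟩ := N.presheaf.germ_eq x hxW hxW _ _ hτ
  have e' : res N (leOfHom i1) (φ.app W t0) = res N (leOfHom i2) (res N hWU s) := e
  obtain ⟨g, hgW', hxg⟩ := hU.exists_basicOpen_le ⟨x, hxW'⟩ hx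
  refine ⟨g, hxg, res M (hgW'.trans (leOfHom i1)) t0, ?_⟩
  rw [app_res, ← res_res N (leOfHom i1) hgW', e', res_res, res_res]

theorem rsmul_pow_of_le (M : X.Modules) {U W : X.Opens} (h : W ≤ U) (f : Γ(X, U)) {a n : ℕ}
    (han : a ≤ n) (m : Γ(M, W)) :
    rsmul M h (f ^ n) m = rsmul M h (f ^ (n - a)) (rsmul M h (f ^ a) m) := by
  rw [← rsmul_pow_add, Nat.sub_add_cancel han]

/-- The key step: if `s` lifts on each member of a finite cover of the affine open `U` by basic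
opens, then a power of each of the functions multiplies `s` into the image of sections over
`U`. -/
theorem exists_pow_smul_mem_range (S : ShortComplex X.Modules) (hS : S.ShortExact)
    [S.X₁.IsQuasicoherent] {U : X.Opens} (hU : IsAffineOpen U) (s : Γ(S.X₃, U))
    {ι : Type} [Fintype ι] (g : ι → Γ(X, U)) (hcov : U ≤ ⨆ i, X.basicOpen (g i))
    (t : ∀ i, Γ(S.X₂, X.basicOpen (g i)))
    (ht : ∀ i, S.g.app _ (t i) = res S.X₃ (X.basicOpen_le (g i)) s) (i0 : ι) :
    ∃ N : ℕ, ∃ T : Γ(S.X₂, U), S.g.app U T = (g i0) ^ N • s := by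
  have hmono := hS.mono_f
  have hinj := (mono_iff_app_injective S.f).mp inferInstance
  have hex := fun W => app_exact_of_exact_of_mono S hS.exact W
  have hzero : ∀ (W : X.Opens) (a : Γ(S.X₁, W)), S.g.app W (S.f.app W a) = 0 :=
    fun W a => app_zero_of_comp_eq_zero S.f S.g S.zero W a
  -- notation
  let V : ι → X.Opens := fun i => X.basicOpen (g i)
  have hV : ∀ i, IsAffineOpen (V i) := fun i => hU.basicOpen (g i)
  have hVU : ∀ i, V i ≤ U := fun i => X.basicOpen_le (g i)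
  set f := g i0 with hf
  let Df : X.Opens := X.basicOpen f
  let tf : Γ(S.X₂, Df) := t i0
  have htf : S.g.app _ tf = res S.X₃ (X.basicOpen_le f) s := ht i0
  -- Step 3: differences on `V i ⊓ D(f)`
  have hAl : ∀ i, V i ⊓ Df ≤ V i := fun i => inf_le_left
  have hAr : ∀ i, V i ⊓ Df ≤ Df := fun i => inf_le_right
  have hAU : ∀ i, V i ⊓ Df ≤ U := fun i => (hAl i).trans (hVU i)
  have hd : ∀ i, ∃ e : Γ(S.X₁, V i ⊓ Df),
      S.f.app _ e = res S.X₂ (hAr i) tf - res S.X₂ (hAl i) (t i) := by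
    intro i
    apply (hex _ _).mp
    rw [map_sub, app_res, app_res, htf, ht i, res_res, res_res, sub_self]
  choose e he using hd
  have hu : ∀ i, ∃ (n : ℕ) (u : Γ(S.X₁, V i)),
      rsmul S.X₁ (hAU i) (f ^ n) (e i) = res S.X₁ (hAl i) u := fun i =>
    exists_rsmul_pow_eq_res S.X₁ (hV i) (hVU i) f (e i)
  choose n0 u0 hu0 using hu
  let n : ℕ := ∑ i, n0 i
  have hn0 : ∀ i, n0 i ≤ n := fun i => Finset.single_le_sum (fun _ _ => Nat.zero_le _)
    (Finset.mem_univ i)
  let u : ∀ i, Γ(S.X₁, V i) := fun i => rsmul S.X₁ (hVU i) (f ^ (n - n0 i)) (u0 i)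
  have hu : ∀ i, rsmul S.X₁ (hAU i) (f ^ n) (e i) = res S.X₁ (hAl i) (u i) := by
    intro i
    rw [rsmul_pow_of_le S.X₁ (hAU i) f (hn0 i), hu0 i, rsmul_res]
  let t' : ∀ i, Γ(S.X₂, V i) := fun i =>
    rsmul S.X₂ (hVU i) (f ^ n) (t i) + S.f.app _ (u i)
  have hF1 : ∀ i, S.g.app _ (t' i) = rsmul S.X₃ (hVU i) (f ^ n) (res S.X₃ (hVU i) s) := by
    intro i
    change S.g.app _ (rsmul S.X₂ (hVU i) (f ^ n) (t i) + S.f.app _ (u i)) = _
    rw [map_add, hzero, add_zero, app_rsmul, ht i]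
  have hF2 : ∀ i, res S.X₂ (hAl i) (t' i) =
      rsmul S.X₂ (hAU i) (f ^ n) (res S.X₂ (hAr i) tf) := by
    intro i
    change res S.X₂ (hAl i) (rsmul S.X₂ (hVU i) (f ^ n) (t i) + S.f.app _ (u i)) = _
    rw [map_add, rsmul_res, ← app_res, ← hu i, app_rsmul, he i, ← rsmul_add]
    congr 1
    abel
  -- Step 4: differences on `V i ⊓ V j`
  have hB : ∀ i j, IsAffineOpen (V i ⊓ V j) := by
    intro i j
    change IsAffineOpen (X.basicOpen (g i) ⊓ X.basicOpen (g j))
    rw [← X.basicOpen_mul]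
    exact hU.basicOpen _
  have hBl : ∀ i j, V i ⊓ V j ≤ V i := fun i j => inf_le_left
  have hBr : ∀ i j, V i ⊓ V j ≤ V j := fun i j => inf_le_right
  have hBU : ∀ i j, V i ⊓ V j ≤ U := fun i j => (hBl i j).trans (hVU i)
  have hw : ∀ i j, ∃ v : Γ(S.X₁, V i ⊓ V j),
      S.f.app _ v = res S.X₂ (hBl i j) (t' i) - res S.X₂ (hBr i j) (t' j) := by
    intro i j
    apply (hex _ _).mp
    rw [map_sub, app_res, app_res, hF1 i, hF1 j, rsmul_res, rsmul_res, res_res, res_res,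
      sub_self]
  choose v hv using hw
  have hvres : ∀ i j, res S.X₁ (inf_le_left : (V i ⊓ V j) ⊓ X.basicOpen f ≤ V i ⊓ V j)
      (v i j) = 0 := by
    intro i j
    apply hinj
    rw [map_zero, app_res, hv i j, map_sub, res_res, res_res]
    have hi : (V i ⊓ V j) ⊓ X.basicOpen f ≤ V i ⊓ Df :=
      inf_le_inf_right _ (hBl i j)
    have hj : (V i ⊓ V j) ⊓ X.basicOpen f ≤ V j ⊓ Df :=
      inf_le_inf_right _ (hBr i j)
    rw [← res_res S.X₂ (hAl i) hi, ← res_res S.X₂ (hAl j) hj, hF2 i, hF2 j, rsmul_res,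
      rsmul_res, res_res, res_res, sub_self]
  have hm : ∀ i j, ∃ m : ℕ, rsmul S.X₁ (hBU i j) (f ^ m) (v i j) = 0 := fun i j =>
    exists_rsmul_pow_eq_zero S.X₁ (hB i j) (hBU i j) f (v i j) (hvres i j)
  choose m0 hm0 using hm
  let m : ℕ := ∑ i, ∑ j, m0 i j
  have hm0le : ∀ i j, m0 i j ≤ m := fun i j =>
    (Finset.single_le_sum (fun _ _ => Nat.zero_le _) (Finset.mem_univ j)).trans
      (Finset.single_le_sum (f := fun i => ∑ j, m0 i j) (fun _ _ => Nat.zero_le _)
        (Finset.mem_univ i))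
  have hmv : ∀ i j, rsmul S.X₁ (hBU i j) (f ^ m) (v i j) = 0 := by
    intro i j
    rw [rsmul_pow_of_le S.X₁ (hBU i j) f (hm0le i j), hm0 i j, rsmul_zero]
  let t'' : ∀ i, Γ(S.X₂, V i) := fun i => rsmul S.X₂ (hVU i) (f ^ m) (t' i)
  have hcompat : ∀ i j, res S.X₂ (hBl i j) (t'' i) = res S.X₂ (hBr i j) (t'' j) := by
    intro i j
    change res S.X₂ (hBl i j) (rsmul S.X₂ (hVU i) (f ^ m) (t' i)) =
      res S.X₂ (hBr i j) (rsmul S.X₂ (hVU j) (f ^ m) (t' j))
    rw [rsmul_res, rsmul_res, ← sub_eq_zero, ← rsmul_sub, ← hv i j, ← app_rsmul, hmv i j,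
      map_zero]
  -- Step 5: glue
  obtain ⟨T, hT⟩ := exists_gluing S.X₂ V U hVU hcov t'' hcompat
  refine ⟨m + n, T, ?_⟩
  apply section_ext
  intro x hx
  obtain ⟨i, hi⟩ := Opens.mem_iSup.mp (hcov hx)
  have hxi : x ∈ V i := hi
  rw [← germ_res S.X₃ (hVU i) x hxi, ← germ_res S.X₃ (hVU i) x hxi]
  congr 1
  rw [← app_res, hT i]
  change S.g.app _ (rsmul S.X₂ (hVU i) (f ^ m) (t' i)) = _
  rw [app_rsmul, hF1 i, ← rsmul_pow_add, ← rsmul_self, rsmul_res]

/-- Sections over an affine open are exact on short exact sequences whose kernel term is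
quasi-coherent (vanishing of `H¹` of a quasi-coherent module on an affine, in elementary
form). -/
theorem app_surjective_of_shortExact (S : ShortComplex X.Modules) (hS : S.ShortExact)
    [S.X₁.IsQuasicoherent] {U : X.Opens} (hU : IsAffineOpen U) :
    Function.Surjective (S.g.app U) := by
  intro s
  have hepi := hS.epi_g
  choose g hxg t ht using fun x : U => exists_local_lift S.g hU s x.1 x.2
  obtain ⟨T, hT⟩ := hU.isCompact.elim_finite_subcover (fun x : U => (X.basicOpen (g x) : Set X))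
    (fun x => (X.basicOpen (g x)).isOpen) (fun x hx => Set.mem_iUnion.mpr ⟨⟨x, hx⟩, hxg ⟨x, hx⟩⟩)
  -- index by the finite type `Fin k`
  obtain ⟨k, ⟨eqv⟩⟩ := Finite.exists_equiv_fin {y : U // y ∈ T}
  let g' : Fin k → Γ(X, U) := fun i => g (eqv.symm i).1
  have hcov : U ≤ ⨆ i, X.basicOpen (g' i) := by
    intro x hx
    have := hT hx
    simp only [Set.mem_iUnion, exists_prop] at this
    obtain ⟨y, hyT, hxy⟩ := this
    refine Opens.mem_iSup.mpr ⟨eqv ⟨y, hyT⟩, ?_⟩
    change x ∈ X.basicOpen (g (eqv.symm (eqv ⟨y, hyT⟩)).1)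
    rw [Equiv.symm_apply_apply]
    exact hxy
  let I : Ideal Γ(X, U) :=
    { carrier := {r | ∃ m : Γ(S.X₂, U), S.g.app U m = r • s}
      add_mem' := by
        rintro a b ⟨ma, ha⟩ ⟨mb, hb⟩
        exact ⟨ma + mb, by rw [map_add, ha, hb, add_smul]⟩
      zero_mem' := ⟨0, by rw [map_zero, zero_smul]⟩
      smul_mem' := by
        rintro c a ⟨ma, ha⟩
        exact ⟨c • ma, by rw [Scheme.Modules.Hom.app_smul, ha, smul_eq_mul, mul_smul]⟩ }
  have hI : I = ⊤ := by
    apply ideal_eq_top_of_forall_mem_basicOpen hU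
    intro x hx
    obtain ⟨i, hi⟩ := Opens.mem_iSup.mp (hcov hx)
    obtain ⟨N, T', hT'⟩ := exists_pow_smul_mem_range S hS hU s g' hcov
      (fun i => t (eqv.symm i).1) (fun i => ht (eqv.symm i).1) i
    exact ⟨(g' i) ^ N, ⟨T', hT'⟩, mem_basicOpen_pow (g' i) N x hx hi⟩
  have h1 : (1 : Γ(X, U)) ∈ I := by rw [hI]; trivial
  obtain ⟨m, hm⟩ := h1
  exact ⟨m, by rw [hm, one_smul]⟩

/-- An extension of quasi-coherent modules is quasi-coherent. -/
theorem isQuasicoherent_of_shortExact (S : ShortComplex X.Modules) (hS : S.ShortExact)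
    [S.X₁.IsQuasicoherent] [S.X₃.IsQuasicoherent] : S.X₂.IsQuasicoherent := by
  have hmono := hS.mono_f
  have hinj := (mono_iff_app_injective S.f).mp inferInstance
  have hex := fun W => app_exact_of_exact_of_mono S hS.exact W
  have hzero : ∀ (W : X.Opens) (a : Γ(S.X₁, W)), S.g.app W (S.f.app W a) = 0 :=
    fun W a => app_zero_of_comp_eq_zero S.f S.g S.zero W a
  refine isQuasicoherent_of_localizing S.X₂ (fun U : X.affineOpens => (U : X.Opens))
    (isOpenCover_affineOpens X) (fun U => U.2) ?_ ?_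
  · rintro ⟨U, hU⟩ f s
    change ∃ (n : ℕ) (m : Γ(S.X₂, U)), _
    obtain ⟨n, c', hc'⟩ := exists_pow_smul_eq_res S.X₃ hU f (S.g.app _ s)
    obtain ⟨b, hb⟩ := app_surjective_of_shortExact S hS hU c'
    set fD := X.presheaf.map (homOfLE (X.basicOpen_le f)).op f with hfD
    have hd : ∃ a : Γ(S.X₁, X.basicOpen f),
        S.f.app _ a = fD ^ n • s - res S.X₂ (X.basicOpen_le f) b := by
      apply (hex _ _).mp
      rw [map_sub, Scheme.Modules.Hom.app_smul, app_res, hb, hc', sub_self]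
    obtain ⟨a, ha⟩ := hd
    obtain ⟨k, a', ha'⟩ := exists_pow_smul_eq_res S.X₁ hU f a
    refine ⟨k + n, f ^ k • b + S.f.app U a', ?_⟩
    rw [map_add, res_smul, ← app_res, ← ha', Scheme.Modules.Hom.app_smul, ha, smul_sub,
      pow_add, mul_smul, map_pow]
    abel
  · rintro ⟨U, hU⟩ f m hm
    have h0 : res S.X₃ (X.basicOpen_le f) (S.g.app U m) = 0 := by
      rw [← app_res, hm, map_zero]
    obtain ⟨n, hn⟩ := exists_pow_smul_eq_zero S.X₃ hU f _ h0
    rw [← Scheme.Modules.Hom.app_smul] at hn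
    obtain ⟨a, ha⟩ := (hex U _).mp hn
    have h1 : res S.X₁ (X.basicOpen_le f) a = 0 := by
      apply hinj
      rw [app_res, ha, res_smul, hm, smul_zero, map_zero]
    obtain ⟨k, hk⟩ := exists_pow_smul_eq_zero S.X₁ hU f a h1
    refine ⟨k + n, ?_⟩
    rw [pow_add, mul_smul, ← ha, ← Scheme.Modules.Hom.app_smul, hk, map_zero]

end Groth.Agent.Lib.Helper29.QCoh
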