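import Groth.Agent.Lib.Helper29.QCohTensor
import Groth.Agent.Lib.Helper29.QCohQcqs
import Groth.Agent.Lib.Helper29.QCohIdealMod
import Groth.Prelude.Def_SecTwist
universe u
open CategoryTheory CategoryTheory.Limits AlgebraicGeometry TopologicalSpace Opposite
open scoped TensorProduct

namespace Groth.Agent.Lib.Helper29.QCoh
variable {X : Scheme.{u}}

theorem app_bijective_of_isIso {M N : X.Modules} (φ : M ⟶ N) [IsIso φ] (U : X.Opens) :
    Function.Bijective (φ.app U) := by
  refine Function.bijective_iff_has_inverse.mpr ⟨(inv φ).app U, fun m => ?_, fun n => ?_⟩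
  · rw [← app_comp, IsIso.hom_inv_id]; rfl
  · rw [← app_comp, IsIso.inv_hom_id]; rfl

theorem isIso_iff_app_bijective {M N : X.Modules} (φ : M ⟶ N) :
    IsIso φ ↔ ∀ U : X.Opens, Function.Bijective (φ.app U) := by
  refine ⟨fun h U => app_bijective_of_isIso φ U, fun h => ?_⟩
  rw [isIso_iff_stalkMap_bijective]
  intro x
  constructor
  · have := (mono_iff_app_injective φ).mpr fun U => (h U).1
    exact (mono_iff_stalkMap_injective φ).mp this x
  · intro t
    obtain ⟨U, hxU, n, rfl⟩ := N.presheaf.exists_germ_eq t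
    obtain ⟨m, rfl⟩ := (h U).2 n
    exact ⟨M.presheaf.germ U x hxU m, stalkMap_germ φ x U hxU m⟩

theorem app_bijective_congr {M N : X.Modules} (φ : M ⟶ N) {W W' : X.Opens} (e : W = W') :
    Function.Bijective (φ.app W) ↔ Function.Bijective (φ.app W') := by
  subst e; rfl

/-- A morphism restricts to an isomorphism over `U` iff it is bijective on sections over all
opens contained in `U`. -/
theorem isIso_restrict_iff {M N : X.Modules} (φ : M ⟶ N) (U : X.Opens) :
    IsIso ((Scheme.Modules.restrictFunctor U.ι).map φ) ↔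
      ∀ W : X.Opens, W ≤ U → Function.Bijective (φ.app W) := by
  rw [isIso_iff_app_bijective]
  constructor
  · intro h W hW
    have e : U.ι ''ᵁ (U.ι ⁻¹ᵁ W) = W := by
      rw [Scheme.Hom.image_preimage_eq_opensRange_inf, Scheme.Opens.opensRange_ι]
      exact inf_eq_right.mpr hW
    exact (app_bijective_congr φ e).mp (h (U.ι ⁻¹ᵁ W))
  · intro h W'
    exact h (U.ι ''ᵁ W') (U.ι_image_le W')

theorem isIso_restrict_mono {M N : X.Modules} (φ : M ⟶ N) {U V : X.Opens} (hVU : V ≤ U)
    (h : IsIso ((Scheme.Modules.restrictFunctor U.ι).map φ)) :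
    IsIso ((Scheme.Modules.restrictFunctor V.ι).map φ) := by
  rw [isIso_restrict_iff] at h ⊢
  exact fun W hW => h W (hW.trans hVU)



/-- restriction of functions -/
noncomputable abbrev rres (X : Scheme.{u}) {U V : X.Opens} (h : V ≤ U) : Γ(X, U) →+* Γ(X, V) :=
  (X.presheaf.map (homOfLE h).op).hom

theorem isUnit_rres_iff {U W : X.Opens} (h : W ≤ U) (a : Γ(X, U)) :
    IsUnit (rres X h a) ↔ W ≤ X.basicOpen a := by
  constructor
  · intro hu
    have h1 := X.basicOpen_of_isUnit hu
    have h2 : X.basicOpen (rres X h a) = W ⊓ X.basicOpen a := X.basicOpen_res a (homOfLE h).op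
    rw [h2] at h1
    exact inf_eq_left.mp h1
  · intro hW
    have h1 : IsUnit (rres X (X.basicOpen_le a) a) := RingedSpace.isUnit_res_basicOpen _ a
    have h2 : rres X h a = rres X hW (rres X (X.basicOpen_le a) a) := (map_map_apply X _ hW a).symm
    rw [h2]
    exact h1.map _

variable {L : X.Modules} (s : unitM X ⟶ L)

theorem mem_genLocus_iff (x : X) :
    x ∈ CohB1.genLocus L s ↔ ∃ U : X.Opens, x ∈ U ∧
      ∀ W : X.Opens, W ≤ U → Function.Bijective (s.app W) := by
  unfold CohB1.genLocus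
  rw [Opens.mem_sSup]
  constructor
  · rintro ⟨U, hU, hx⟩
    exact ⟨U, hx, (isIso_restrict_iff s U).mp hU⟩
  · rintro ⟨U, hx, hU⟩
    exact ⟨U, (isIso_restrict_iff s U).mpr hU, hx⟩

/-- The section of `L` over `U` named by `s`. -/
noncomputable abbrev sval (U : X.Opens) : Γ(L, U) := SecTwist.val s U

theorem app_eq_smul_sval (U : X.Opens) (r : Γ(X, U)) : s.app U (toUnit r) = r • sval s U := by
  rw [toUnit_eq_smul_one, Scheme.Modules.Hom.app_smul]
  rfl

theorem res_sval {U V : X.Opens} (h : V ≤ U) : res L h (sval s U) = sval s V :=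
  SecTwist.map_val s (homOfLE h)

/-- `e` trivialises `L` over `U`: over every open `W ≤ U`, `L(W)` is free on `e|_W`. -/
def IsTriv (L : X.Modules) (U : X.Opens) (e : Γ(L, U)) : Prop :=
  ∀ (W : X.Opens) (h : W ≤ U), Function.Bijective (fun r : Γ(X, W) => r • res L h e)

theorem IsTriv.restrict {U V : X.Opens} {e : Γ(L, U)} (hT : IsTriv L U e) (h : V ≤ U) :
    IsTriv L V (res L h e) := fun W hW => by
  have := hT W (hW.trans h)
  simpa only [res_res] using this

theorem IsTriv.bijective {U : X.Opens} {e : Γ(L, U)} (hT : IsTriv L U e) :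
    Function.Bijective (fun r : Γ(X, U) => r • e) := by
  have := hT U le_rfl
  simpa only [res_self] using this

theorem IsTriv.exists_eq_smul {U : X.Opens} {e : Γ(L, U)} (hT : IsTriv L U e) (m : Γ(L, U)) :
    ∃ a : Γ(X, U), m = a • e := by
  obtain ⟨a, ha⟩ := hT.bijective.2 m
  exact ⟨a, ha.symm⟩

theorem IsTriv.smul_left_cancel {U : X.Opens} {e : Γ(L, U)} (hT : IsTriv L U e) {a b : Γ(X, U)}
    (h : a • e = b • e) : a = b := hT.bijective.1 h

/-- If `e` trivialises `L` over `U` and `s = a • e` there, then `s` is bijective on sections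
over `W ≤ U` iff `a` is invertible on `W`. -/
theorem IsTriv.app_bijective_iff {U : X.Opens} {e : Γ(L, U)} (hT : IsTriv L U e) (a : Γ(X, U))
    (ha : sval s U = a • e) {W : X.Opens} (h : W ≤ U) :
    Function.Bijective (s.app W) ↔ W ≤ X.basicOpen a := by
  rw [← isUnit_rres_iff h a]
  have key : ∀ r : Γ(X, W), s.app W (toUnit r) = (r * rres X h a) • res L h e := by
    intro r
    rw [app_eq_smul_sval, ← res_sval s h, ha, res_smul, smul_smul]
  have hb := hT W h
  constructor
  · intro hs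
    obtain ⟨r, hr⟩ := hs.2 (res L h e)
    obtain ⟨r', rfl⟩ := toUnit_surjective r
    rw [key] at hr
    have h1 : r' * rres X h a = 1 := hb.1 (by simpa using hr)
    exact IsUnit.of_mul_eq_one_right _ h1
  · intro hu
    constructor
    · intro r₁ r₂ h12
      obtain ⟨r₁, rfl⟩ := toUnit_surjective r₁
      obtain ⟨r₂, rfl⟩ := toUnit_surjective r₂
      rw [key, key] at h12
      have := hb.1 h12
      exact congrArg toUnit (hu.mul_left_injective this)
    · intro m
      obtain ⟨b, rfl⟩ := hb.2 m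
      obtain ⟨c, hc⟩ := hu.exists_left_inv
      refine ⟨toUnit (b * c), ?_⟩
      rw [key, mul_assoc, hc, mul_one]

theorem IsTriv.genLocus_inf {U : X.Opens} {e : Γ(L, U)} (hT : IsTriv L U e) (a : Γ(X, U))
    (ha : sval s U = a • e) : CohB1.genLocus L s ⊓ U = X.basicOpen a := by
  ext x
  simp only [Opens.coe_inf, Set.mem_inter_iff, SetLike.mem_coe]
  constructor
  · rintro ⟨hx, hxU⟩
    obtain ⟨U', hxU', hU'⟩ := (mem_genLocus_iff s x).mp hx
    have := (hT.app_bijective_iff s a ha (inf_le_right : U' ⊓ U ≤ U)).mp (hU' _ inf_le_left)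
    exact this ⟨hxU', hxU⟩
  · intro hx
    refine ⟨(mem_genLocus_iff s x).mpr ⟨X.basicOpen a, hx, fun W hW => ?_⟩, X.basicOpen_le a hx⟩
    exact (hT.app_bijective_iff s a ha (hW.trans (X.basicOpen_le a))).mpr hW

theorem exists_isTriv_congr {U U' : X.Opens} (h : U = U') :
    (∃ e : Γ(L, U), IsTriv L U e) → ∃ e : Γ(L, U'), IsTriv L U' e := by
  subst h; exact id

theorem smul_res_bijective_congr {U W W' : X.Opens} (e : Γ(L, U)) (h : W ≤ U) (hW : W = W') :
    Function.Bijective (fun r : Γ(X, W) => r • res L h e) ↔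
      Function.Bijective (fun r : Γ(X, W') => r • res L (hW ▸ h) e) := by
  subst hW; rfl

/-- A trivialisation of `L` over `U` as a module gives a trivialising section. -/
theorem exists_isTriv_of_iso (U : X.Opens) (ε : L.restrict U.ι ≅ unitM (U : Scheme.{u})) :
    ∃ e : Γ(L, U), IsTriv L U e := by
  refine exists_isTriv_congr U.ι_image_top ?_
  let e' : Γ(L, U.ι ''ᵁ ⊤) := ε.inv.app ⊤ (toUnit 1)
  refine ⟨e', ?_⟩
  have key : ∀ W' : (U : Scheme.{u}).Opens,
      Function.Bijective (fun r : Γ(X, U.ι ''ᵁ W') =>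
        r • res L (Scheme.Hom.image_mono _ le_top : U.ι ''ᵁ W' ≤ U.ι ''ᵁ ⊤) e') := by
    intro W'
    have hb : Function.Bijective (ε.inv.app W') := app_bijective_of_isIso ε.inv W'
    have h1 : ∀ r' : Γ((U : Scheme.{u}), W'), ε.inv.app W' (toUnit r') =
        ((U.ι.appIso W').inv r') • res L (Scheme.Hom.image_mono _ le_top : U.ι ''ᵁ W' ≤ U.ι ''ᵁ ⊤) e' := by
      intro r'
      rw [toUnit_eq_smul_one, Scheme.Modules.Hom.app_smul, restrict_smul,
        ← res_toUnit_one (le_top : W' ≤ ⊤), app_res]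
      rfl
    have hiso : Function.Bijective (U.ι.appIso W').inv :=
      ConcreteCategory.bijective_of_isIso (U.ι.appIso W').inv
    have : (fun r : Γ(X, U.ι ''ᵁ W') => r • res L
        (Scheme.Hom.image_mono _ le_top : U.ι ''ᵁ W' ≤ U.ι ''ᵁ ⊤) e') =
        (fun r' => ε.inv.app W' (toUnit r')) ∘ (U.ι.appIso W').hom := by
      funext r
      simp only [Function.comp_apply, h1]
      congr 1
      exact (congrArg (fun k => k.hom r) (U.ι.appIso W').hom_inv_id).symm
    rw [this]
    exact hb.comp (ConcreteCategory.bijective_of_isIso (U.ι.appIso W').hom)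
  intro W hW
  have e : U.ι ''ᵁ (U.ι ⁻¹ᵁ W) = W := by
    rw [Scheme.Hom.image_preimage_eq_opensRange_inf, Scheme.Opens.opensRange_ι]
    exact inf_eq_right.mpr (hW.trans (U.ι_image_le ⊤))
  exact (smul_res_bijective_congr e' _ e).mp (key (U.ι ⁻¹ᵁ W))



theorem exists_affine_cover_le (W : X.Opens) :
    ∃ (ι : Type u) (V : ι → X.Opens), (∀ i, IsAffineOpen (V i)) ∧ (∀ i, V i ≤ W) ∧ W ≤ iSup V := by
  refine ⟨{V : X.affineOpens // V.1 ≤ W}, fun V => V.1.1, fun V => V.1.2, fun V => V.2, ?_⟩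
  intro x hx
  obtain ⟨V, hV, hxV, hVW⟩ := exists_isAffineOpen_mem_and_subset (x := x) (U := W) hx
  exact Opens.mem_iSup.mpr ⟨⟨⟨V, hV⟩, hVW⟩, hxV⟩

/-- A compatible family of additive maps on sections over opens inside `U` which is bijective
over a basis of opens is bijective over all opens inside `U`. -/
theorem bijective_of_forall_basis {M N : X.Modules} {U : X.Opens} (B : X.Opens → Prop)
    (hB : ∀ (W : X.Opens), W ≤ U → ∀ x ∈ W, ∃ W' : X.Opens, W' ≤ W ∧ x ∈ W' ∧ B W')
    (φ : ∀ (W : X.Opens), W ≤ U → (Γ(M, W) →+ Γ(N, W)))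
    (hnat : ∀ (W W' : X.Opens) (h : W ≤ U) (h' : W' ≤ W) (m : Γ(M, W)),
      φ W' (h'.trans h) (res M h' m) = res N h' (φ W h m))
    (haff : ∀ (W : X.Opens) (h : W ≤ U), B W → Function.Bijective (φ W h))
    (W : X.Opens) (h : W ≤ U) : Function.Bijective (φ W h) := by
  have hcov : ∀ (W : X.Opens), W ≤ U → ∃ (ι : Type u) (V : ι → X.Opens), (∀ i, B (V i)) ∧
      (∀ i, V i ≤ W) ∧ W ≤ iSup V := by
    intro W hW
    refine ⟨{V : X.Opens // V ≤ W ∧ B V}, fun V => V.1, fun V => V.2.2, fun V => V.2.1, ?_⟩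
    intro x hx
    obtain ⟨W', hW', hxW', hBW'⟩ := hB W hW x hx
    exact Opens.mem_iSup.mpr ⟨⟨W', hW', hBW'⟩, hxW'⟩
  have hinj : ∀ (W : X.Opens) (h : W ≤ U), Function.Injective (φ W h) := by
    intro W h
    rw [injective_iff_map_eq_zero]
    intro m hm
    obtain ⟨ι, V, hV, hVW, hcov⟩ := hcov W h
    refine eq_zero_of_res_cover_eq_zero M V hVW hcov m fun i => ?_
    apply (haff (V i) ((hVW i).trans h) (hV i)).1
    rw [hnat W (V i) h (hVW i), hm, map_zero, map_zero]
  refine ⟨hinj W h, fun n => ?_⟩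
  obtain ⟨ι, V, hV, hVW, hcov⟩ := hcov W h
  have hex : ∀ i, ∃ m : Γ(M, V i), φ (V i) ((hVW i).trans h) m = res N (hVW i) n :=
    fun i => (haff (V i) ((hVW i).trans h) (hV i)).2 _
  choose mf hmf using hex
  have hcompat : ∀ i j, res M (inf_le_left : V i ⊓ V j ≤ V i) (mf i) =
      res M (inf_le_right : V i ⊓ V j ≤ V j) (mf j) := by
    intro i j
    apply hinj (V i ⊓ V j) (inf_le_left.trans ((hVW i).trans h))
    rw [hnat (V i) (V i ⊓ V j) ((hVW i).trans h) inf_le_left,
      hnat (V j) (V i ⊓ V j) ((hVW j).trans h) inf_le_right, hmf, hmf, res_res, res_res]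
  obtain ⟨m, hm⟩ := exists_gluing M V W hVW hcov mf hcompat
  refine ⟨m, ?_⟩
  rw [← sub_eq_zero]
  refine eq_zero_of_res_cover_eq_zero N V hVW hcov _ fun i => ?_
  rw [map_sub, ← hnat W (V i) h (hVW i), hm, hmf, sub_self]

theorem bijective_of_forall_affine {M N : X.Modules} {U : X.Opens}
    (φ : ∀ (W : X.Opens), W ≤ U → (Γ(M, W) →+ Γ(N, W)))
    (hnat : ∀ (W W' : X.Opens) (h : W ≤ U) (h' : W' ≤ W) (m : Γ(M, W)),
      φ W' (h'.trans h) (res M h' m) = res N h' (φ W h m))
    (haff : ∀ (W : X.Opens) (h : W ≤ U), IsAffineOpen W → Function.Bijective (φ W h))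
    (W : X.Opens) (h : W ≤ U) : Function.Bijective (φ W h) := by
  refine bijective_of_forall_basis IsAffineOpen (fun W _ x hx => ?_) φ hnat haff W h
  obtain ⟨V, hV, hxV, hVW⟩ := exists_isAffineOpen_mem_and_subset (x := x) (U := W) hx
  exact ⟨V, hVW, hxV, hV⟩

/-- Pure algebra: tensor product of two free modules of rank one. -/
theorem tmul_bijective_of_bijective {A M M' : Type*} [CommRing A] [AddCommGroup M] [Module A M]
    [AddCommGroup M'] [Module A M'] (e : M) (e' : M')
    (he : Function.Bijective (fun r : A => r • e)) (he' : Function.Bijective (fun r : A => r • e')) :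
    Function.Bijective (fun r : A => r • (e ⊗ₜ[A] e')) := by
  let f : A ≃ₗ[A] M := LinearEquiv.ofBijective (LinearMap.toSpanSingleton A M e) he
  let f' : A ≃ₗ[A] M' := LinearEquiv.ofBijective (LinearMap.toSpanSingleton A M' e') he'
  let g : A ≃ₗ[A] M ⊗[A] M' := (TensorProduct.lid A A).symm ≪≫ₗ TensorProduct.congr f f'
  have : (fun r : A => r • (e ⊗ₜ[A] e')) = g := by
    funext r
    simp [g, f, f', TensorProduct.smul_tmul']
  rw [this]
  exact g.bijective

section
variable (M N : X.Modules) {U : X.Opens}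

theorem tmulSec_smul_left (r : Γ(X, U)) (m : Γ(M, U)) (n : Γ(N, U)) :
    tmulSec M N (r • m) n = r • tmulSec M N m n := by
  unfold tmulSec
  rw [← LinearMap.map_smul, TensorProduct.smul_tmul']

theorem tmulSec_smul_right (r : Γ(X, U)) (m : Γ(M, U)) (n : Γ(N, U)) :
    tmulSec M N m (r • n) = r • tmulSec M N m n := by
  unfold tmulSec
  rw [← LinearMap.map_smul, TensorProduct.smul_tmul', TensorProduct.smul_tmul]

theorem tmulSec_add_left (m m' : Γ(M, U)) (n : Γ(N, U)) :
    tmulSec M N (m + m') n = tmulSec M N m n + tmulSec M N m' n := by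
  unfold tmulSec
  rw [TensorProduct.add_tmul, map_add]

theorem tmulSec_add_right (m : Γ(M, U)) (n n' : Γ(N, U)) :
    tmulSec M N m (n + n') = tmulSec M N m n + tmulSec M N m n' := by
  unfold tmulSec
  rw [TensorProduct.tmul_add, map_add]

theorem tmulSec_zero_left (n : Γ(N, U)) : tmulSec M N (0 : Γ(M, U)) n = 0 := by
  unfold tmulSec
  rw [TensorProduct.zero_tmul, map_zero]

theorem tmulSec_zero_right (m : Γ(M, U)) : tmulSec M N m (0 : Γ(N, U)) = 0 := by
  unfold tmulSec
  rw [TensorProduct.tmul_zero, map_zero]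

theorem tmulSec_sub_left (m m' : Γ(M, U)) (n : Γ(N, U)) :
    tmulSec M N (m - m') n = tmulSec M N m n - tmulSec M N m' n := by
  unfold tmulSec
  rw [TensorProduct.sub_tmul, map_sub]

end

/-- Multiplication of functions on a fixed section, as an additive map from the structure
sheaf. -/
noncomputable def smulHom (N : X.Modules) {W : X.Opens} (n : Γ(N, W)) :
    Γ(unitM X, W) →+ Γ(N, W) where
  toFun r := fromUnit r • n
  map_zero' := by
    change (0 : Γ(X, W)) • n = 0
    rw [zero_smul]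
  map_add' a b := by
    change (fromUnit a + fromUnit b) • n = _
    rw [add_smul]

theorem smulHom_apply (N : X.Modules) {W : X.Opens} (n : Γ(N, W)) (r : Γ(X, W)) :
    smulHom N n (toUnit r) = r • n := rfl

theorem smulHom_bijective_iff (N : X.Modules) {W : X.Opens} (n : Γ(N, W)) :
    Function.Bijective (smulHom N n) ↔ Function.Bijective (fun r : Γ(X, W) => r • n) := Iff.rfl

variable {L L' : X.Modules}

theorem IsTriv.tensor [L.IsQuasicoherent] [L'.IsQuasicoherent] {U : X.Opens} {e : Γ(L, U)}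
    {e' : Γ(L', U)} (hT : IsTriv L U e) (hT' : IsTriv L' U e') :
    IsTriv (CohB1.tensorMod L L') U (tmulSec L L' e e') := by
  intro W hW
  rw [← smulHom_bijective_iff]
  refine bijective_of_forall_affine (M := unitM X) (N := CohB1.tensorMod L L') (U := U)
    (fun W h => smulHom _ (QCoh.res _ h (tmulSec L L' e e'))) ?_ ?_ W hW
  · intro W W' h h' r
    obtain ⟨r, rfl⟩ := toUnit_surjective r
    change smulHom _ _ (toUnit (rres X h' r)) = _
    rw [smulHom_apply, smulHom_apply, res_smul, res_res]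
  · intro W h hW
    rw [smulHom_bijective_iff, res_tmulSec]
    have h1 := tmul_bijective_of_bijective (A := Γ(X, W)) _ _ (hT W h) (hT' W h)
    have h2 := (tensorSectionsEquiv L L' hW).bijective.comp h1
    convert h2 using 1
    funext r
    simp only [Function.comp_apply, LinearEquiv.map_smul, tensorSectionsEquiv_tmul]

theorem isTriv_unit (U : X.Opens) : IsTriv (unitM X) U (toUnit 1) := by
  intro W hW
  have : (fun r : Γ(X, W) => r • QCoh.res (unitM X) hW (toUnit (1 : Γ(X, U)))) = toUnit := by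
    funext r
    rw [res_toUnit_one, ← toUnit_eq_smul_one]
  rw [this]
  exact ⟨fun a b h => h, fun a => ⟨a, rfl⟩⟩

theorem isQuasicoherent_of_isInvertible (hL : PicF.IsInvertible L) : L.IsQuasicoherent :=
  isQuasicoherent_of_isFinLocFree (isFinLocFree_of_isFinLocFreeOfRank
    ((isInvertible_iff_isFinLocFreeOfRank_one L).mp hL))

theorem exists_isTriv (hL : PicF.IsInvertible L) (x : X) :
    ∃ (U : X.Opens) (e : Γ(L, U)), x ∈ U ∧ IsTriv L U e := by
  obtain ⟨U, hx, ⟨ε⟩⟩ := hL x
  obtain ⟨e, he⟩ := exists_isTriv_of_iso U ε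
  exact ⟨U, e, hx, he⟩

theorem exists_affine_isTriv (hL : PicF.IsInvertible L) {W : X.Opens} (x : X) (hx : x ∈ W) :
    ∃ (U : X.Opens) (e : Γ(L, U)), IsAffineOpen U ∧ x ∈ U ∧ U ≤ W ∧ IsTriv L U e := by
  obtain ⟨U, e, hxU, he⟩ := exists_isTriv hL x
  obtain ⟨V, hV, hxV, hVW⟩ := exists_isAffineOpen_mem_and_subset (x := x) (U := U ⊓ W) ⟨hxU, hx⟩
  exact ⟨V, QCoh.res L (hVW.trans inf_le_left) e, hV, hxV, hVW.trans inf_le_right,
    he.restrict _⟩

theorem exists_affine_isTriv₂ (hL : PicF.IsInvertible L) (hL' : PicF.IsInvertible L')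
    {W : X.Opens} (x : X) (hx : x ∈ W) :
    ∃ (U : X.Opens) (e : Γ(L, U)) (e' : Γ(L', U)), IsAffineOpen U ∧ x ∈ U ∧ U ≤ W ∧
      IsTriv L U e ∧ IsTriv L' U e' := by
  obtain ⟨U, e, hU, hxU, hUW, he⟩ := exists_affine_isTriv hL x hx
  obtain ⟨U', e', hU', hxU', hU'U, he'⟩ := exists_affine_isTriv hL' x hxU
  exact ⟨U', QCoh.res L hU'U e, e', hU', hxU', hU'U.trans hUW, he.restrict _, he'⟩

/-- A quasi-coherent module with local trivialising sections is invertible. -/
theorem isInvertible_of_isTriv [L.IsQuasicoherent]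
    (h : ∀ x : X, ∃ (U : X.Opens) (e : Γ(L, U)), x ∈ U ∧ IsTriv L U e) : PicF.IsInvertible L := by
  rw [isInvertible_iff_isFinLocFreeOfRank_one, isFinLocFreeOfRank_iff_exists_affine]
  intro x
  obtain ⟨U, e, hxU, he⟩ := h x
  obtain ⟨V, hV, hxV, hVU⟩ := exists_isAffineOpen_mem_and_subset (x := x) (U := U) hxU
  refine ⟨V, hV, hxV, ⟨?_⟩⟩
  have hb := he V hVU
  let f : Γ(X, V) ≃ₗ[Γ(X, V)] Γ(L, V) :=
    LinearEquiv.ofBijective (LinearMap.toSpanSingleton Γ(X, V) Γ(L, V) (QCoh.res L hVU e)) hb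
  exact f.symm ≪≫ₗ (Finsupp.uniqueLinearEquiv Γ(X, V) (M := Γ(X, V)) (0 : Fin 1)).symm

theorem isInvertible_unit (X : Scheme.{u}) : PicF.IsInvertible (unitM X) :=
  isInvertible_of_isTriv fun _ => ⟨⊤, toUnit 1, trivial, isTriv_unit ⊤⟩

theorem isInvertible_tensorMod (hL : PicF.IsInvertible L) (hL' : PicF.IsInvertible L') :
    PicF.IsInvertible (CohB1.tensorMod L L') := by
  have := isQuasicoherent_of_isInvertible hL
  have := isQuasicoherent_of_isInvertible hL'
  refine isInvertible_of_isTriv fun x => ?_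
  obtain ⟨U, e, e', -, hxU, -, he, he'⟩ := exists_affine_isTriv₂ hL hL' (W := ⊤) x trivial
  exact ⟨U, _, hxU, he.tensor he'⟩

theorem isInvertible_tensorPow (hL : PicF.IsInvertible L) (n : ℕ) :
    PicF.IsInvertible (CohB1.tensorPow L n) := by
  induction n with
  | zero => exact isInvertible_unit X
  | succ n ih => exact isInvertible_tensorMod ih hL

instance isQuasicoherent_tensorPow [L.IsQuasicoherent] (n : ℕ) :
    (CohB1.tensorPow L n).IsQuasicoherent := by
  induction n with
  | zero => exact isQuasicoherent_unitM X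
  | succ n ih => exact isQuasicoherent_tensorMod _ _

theorem tmulSec_eq (M N : X.Modules) {U : X.Opens} (m : Γ(M, U)) (n : Γ(N, U)) :
    tmulSec M N m n = SecTwist.tmul M N U m n := rfl

/-- Powers of a local section. -/
noncomputable def epow (L : X.Modules) {U : X.Opens} (e : Γ(L, U)) :
    (n : ℕ) → Γ(CohB1.tensorPow L n, U)
  | 0 => toUnit 1
  | n + 1 => tmulSec (CohB1.tensorPow L n) L (epow L e n) e

theorem epow_zero (L : X.Modules) {U : X.Opens} (e : Γ(L, U)) : epow L e 0 = toUnit 1 := rfl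

theorem epow_succ (L : X.Modules) {U : X.Opens} (e : Γ(L, U)) (n : ℕ) :
    epow L e (n + 1) = tmulSec (CohB1.tensorPow L n) L (epow L e n) e := rfl

theorem pow_eq_epow (s : unitM X ⟶ L) (n : ℕ) (U : X.Opens) :
    SecTwist.pow s n U = epow L (sval s U) n := by
  induction n with
  | zero => rfl
  | succ n ih =>
    change SecTwist.tmul _ _ U (SecTwist.pow s n U) (SecTwist.val s U) = _
    rw [ih]
    rfl

theorem res_epow (L : X.Modules) {U V : X.Opens} (h : V ≤ U) (e : Γ(L, U)) (n : ℕ) :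
    QCoh.res (CohB1.tensorPow L n) h (epow L e n) = epow L (QCoh.res L h e) n := by
  induction n with
  | zero => exact res_toUnit_one h
  | succ n ih =>
    change QCoh.res (CohB1.tensorMod (CohB1.tensorPow L n) L) h
      (tmulSec (CohB1.tensorPow L n) L (epow L e n) e) = _
    rw [res_tmulSec, ih]
    rfl

theorem epow_smul (L : X.Modules) {U : X.Opens} (a : Γ(X, U)) (e : Γ(L, U)) (n : ℕ) :
    epow L (a • e) n = a ^ n • epow L e n := by
  induction n with
  | zero => rw [pow_zero, one_smul]; rfl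
  | succ n ih =>
    rw [epow_succ, ih, tmulSec_smul_left, tmulSec_smul_right, smul_smul, epow_succ, pow_succ]
    rfl

theorem IsTriv.epow [L.IsQuasicoherent] {U : X.Opens} {e : Γ(L, U)} (hT : IsTriv L U e) (n : ℕ) :
    IsTriv (CohB1.tensorPow L n) U (QCoh.epow L e n) := by
  induction n with
  | zero => exact isTriv_unit U
  | succ n ih => exact ih.tensor hT

/-- The locus `X_s` does not change under an isomorphism of the module. -/
theorem genLocus_comp_iso (s : unitM X ⟶ L) (ε : L ≅ L') :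
    CohB1.genLocus L' (s ≫ ε.hom) = CohB1.genLocus L s := by
  ext x
  simp only [SetLike.mem_coe, mem_genLocus_iff]
  refine exists_congr fun U => and_congr_right fun _ => forall_congr' fun W => forall_congr' fun _ => ?_
  have hb : Function.Bijective (ε.hom.app W) := app_bijective_of_isIso ε.hom W
  have : ((s ≫ ε.hom).app W : _ → _) = ε.hom.app W ∘ s.app W := by
    funext m; exact app_comp s ε.hom W m
  rw [this]
  exact ⟨fun h => (Function.Bijective.of_comp_iff' hb _).mp h, fun h => hb.comp h⟩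

theorem genLocus_id (X : Scheme.{u}) : CohB1.genLocus (unitM X) (𝟙 _) = ⊤ := by
  ext x
  simp only [SetLike.mem_coe, mem_genLocus_iff, Opens.coe_top, Set.mem_univ, iff_true]
  exact ⟨⊤, trivial, fun W _ => Function.bijective_id⟩

theorem mem_genLocus_iff_of_isTriv (s : unitM X ⟶ L) {U : X.Opens} {e : Γ(L, U)}
    (hT : IsTriv L U e) (a : Γ(X, U)) (ha : sval s U = a • e) (x : X) (hx : x ∈ U) :
    x ∈ CohB1.genLocus L s ↔ x ∈ X.basicOpen a := by
  rw [← hT.genLocus_inf s a ha]
  exact ⟨fun h => ⟨h, hx⟩, fun h => h.1⟩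

/-- **`X_{f ⊗ g} = X_f ∩ X_g`** for sections of invertible modules. -/
theorem genLocus_tmulHom (hL : PicF.IsInvertible L) (hL' : PicF.IsInvertible L')
    (f : unitM X ⟶ L) (g : unitM X ⟶ L') :
    CohB1.genLocus (CohB1.tensorMod L L') (SecTwist.tmulHom f g) =
      CohB1.genLocus L f ⊓ CohB1.genLocus L' g := by
  have := isQuasicoherent_of_isInvertible hL
  have := isQuasicoherent_of_isInvertible hL'
  ext x
  obtain ⟨U, e, e', -, hxU, -, he, he'⟩ := exists_affine_isTriv₂ hL hL' (W := ⊤) x trivial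
  obtain ⟨a, ha⟩ := he.exists_eq_smul (sval f U)
  obtain ⟨b, hb⟩ := he'.exists_eq_smul (sval g U)
  have hab : sval (SecTwist.tmulHom f g) U = (a * b) • tmulSec L L' e e' := by
    change SecTwist.val (SecTwist.tmulHom f g) U = _
    rw [SecTwist.val_tmulHom, ← tmulSec_eq]
    change tmulSec L L' (sval f U) (sval g U) = _
    rw [ha, hb, tmulSec_smul_left, tmulSec_smul_right, smul_smul]
  simp only [SetLike.mem_coe, Opens.coe_inf, Set.mem_inter_iff]
  rw [mem_genLocus_iff_of_isTriv _ (he.tensor he') (a * b) hab x hxU,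
    mem_genLocus_iff_of_isTriv f he a ha x hxU, mem_genLocus_iff_of_isTriv g he' b hb x hxU,
    Scheme.basicOpen_mul]
  rfl

theorem genLocus_powHom (hL : PicF.IsInvertible L) (s : unitM X ⟶ L) (n : ℕ) :
    CohB1.genLocus (CohB1.tensorPow L (n + 1)) (SecTwist.powHom s (n + 1)) =
      CohB1.genLocus L s := by
  induction n with
  | zero =>
    change CohB1.genLocus (CohB1.tensorMod (unitM X) L) (SecTwist.tmulHom (𝟙 _) s) = _
    rw [genLocus_tmulHom (isInvertible_unit X) hL, genLocus_id, top_inf_eq]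
  | succ n ih =>
    change CohB1.genLocus (CohB1.tensorMod (CohB1.tensorPow L (n + 1)) L)
      (SecTwist.tmulHom (SecTwist.powHom s (n + 1)) s) = _
    rw [genLocus_tmulHom (isInvertible_tensorPow hL _) hL, ih, inf_idem]

theorem exists_finite_isTriv_cover (hL : PicF.IsInvertible L) {U : X.Opens}
    (hU : IsCompact (U : Set X)) :
    ∃ (k : ℕ) (V : Fin k → X.Opens) (e : ∀ i, Γ(L, V i)), (∀ i, IsAffineOpen (V i)) ∧
      (∀ i, V i ≤ U) ∧ (∀ i, IsTriv L (V i) (e i)) ∧ U ≤ iSup V := by
  have h : ∀ x : U, ∃ (V : X.Opens) (e : Γ(L, V)), IsAffineOpen V ∧ x.1 ∈ V ∧ V ≤ U ∧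
      IsTriv L V e := fun x => exists_affine_isTriv hL x.1 x.2
  choose V e hV hxV hVU he using h
  obtain ⟨t, ht⟩ := hU.elim_finite_subcover (fun x : U => (V x : Set X)) (fun x => (V x).2)
    (fun x hx => Set.mem_iUnion.mpr ⟨⟨x, hx⟩, hxV ⟨x, hx⟩⟩)
  let f := t.equivFin
  refine ⟨t.card, fun i => V (f.symm i).1, fun i => e (f.symm i).1, fun i => hV _, fun i => hVU _,
    fun i => he _, fun x hx => ?_⟩
  obtain ⟨y, hy, hxy⟩ := Set.mem_iUnion₂.mp (ht hx)
  refine Opens.mem_iSup.mpr ⟨f ⟨y, hy⟩, ?_⟩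
  simpa using hxy

/-- **EGA I 9.3.1 (i) for invertible modules**: a section of a quasi-coherent module over a
quasi-compact open `U` which vanishes on `U ∩ X_s` is killed by a power of `s`. -/
theorem exists_tmulSec_pow_eq_zero (hL : PicF.IsInvertible L) (s : unitM X ⟶ L)
    (F : X.Modules) [F.IsQuasicoherent] {U : X.Opens} (hU : IsCompact (U : Set X))
    (t : Γ(F, U)) (ht : QCoh.res F (inf_le_right : CohB1.genLocus L s ⊓ U ≤ U) t = 0) :
    ∃ N : ℕ, ∀ n, N ≤ n → tmulSec F (CohB1.tensorPow L n) t (epow L (sval s U) n) = 0 := by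
  have hq := isQuasicoherent_of_isInvertible hL
  obtain ⟨k, V, e, hV, hVU, he, hcov⟩ := exists_finite_isTriv_cover hL hU
  have ha : ∀ i, ∃ a : Γ(X, V i), sval s (V i) = a • e i := fun i => (he i).exists_eq_smul _
  choose a ha using ha
  have hn : ∀ i, ∃ n : ℕ, a i ^ n • QCoh.res F (hVU i) t = 0 := by
    intro i
    refine exists_pow_smul_eq_zero F (hV i) (a i) _ ?_
    have hle : X.basicOpen (a i) ≤ CohB1.genLocus L s ⊓ U := by
      rw [← (he i).genLocus_inf s (a i) (ha i)]
      exact inf_le_inf_left _ (hVU i)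
    rw [res_res, ← res_res F inf_le_right hle, ht, map_zero]
  choose n hn using hn
  refine ⟨Finset.univ.sup n, fun m hm => ?_⟩
  refine eq_zero_of_res_cover_eq_zero _ V hVU hcov _ fun i => ?_
  rw [res_tmulSec, res_epow, res_sval, ha i, epow_smul, tmulSec_smul_right, ← tmulSec_smul_left]
  have h1 : n i ≤ m := (Finset.le_sup (Finset.mem_univ i)).trans hm
  obtain ⟨d, rfl⟩ := Nat.exists_eq_add_of_le h1
  rw [pow_add, mul_comm, mul_smul, hn i, smul_zero, tmulSec_zero_left]

theorem rres_rres (X : Scheme.{u}) {U V W : X.Opens} (h : V ≤ U) (h' : W ≤ V) (r : Γ(X, U)) :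
    rres X h' (rres X h r) = rres X (h'.trans h) r := map_map_apply X h h' r

theorem res_smul' (M : X.Modules) {U V : X.Opens} (h : V ≤ U) (r : Γ(X, U)) (m : Γ(M, U)) :
    QCoh.res M h (r • m) = rres X h r • QCoh.res M h m := res_smul M h r m

/-- Transition function between two trivialisations. -/
theorem IsTriv.exists_transition (s : unitM X ⟶ L) {V V' : X.Opens} {e : Γ(L, V)} {e' : Γ(L, V')}
    (_he : IsTriv L V e) (he' : IsTriv L V' e') (a : Γ(X, V)) (a' : Γ(X, V'))
    (ha : sval s V = a • e) (ha' : sval s V' = a' • e') :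
    ∃ g : Γ(X, V ⊓ V'), QCoh.res L inf_le_left e = g • QCoh.res L inf_le_right e' ∧
      rres X inf_le_right a' = rres X inf_le_left a * g := by
  obtain ⟨g, hg⟩ := (he' (V ⊓ V') inf_le_right).2 (QCoh.res L inf_le_left e)
  replace hg : g • QCoh.res L inf_le_right e' = QCoh.res L inf_le_left e := hg
  refine ⟨g, hg.symm, ?_⟩
  apply (he' (V ⊓ V') inf_le_right).1
  change rres X inf_le_right a' • QCoh.res L inf_le_right e' =
    (rres X inf_le_left a * g) • QCoh.res L inf_le_right e'
  rw [← res_smul', ← ha', res_sval, mul_smul]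
  rw [hg, ← res_smul', ← ha, res_sval]

theorem smul_pow_sub_aux {R M : Type*} [CommRing R] [AddCommGroup M] [Module R M]
    (a g : R) (n m : ℕ) (x y : M) (h : a ^ m • (y - g ^ n • x) = 0) :
    (a * g) ^ m • y = g ^ (n + m) • (a ^ m • x) := by
  have h2 : g ^ m • (a ^ m • (y - g ^ n • x)) = 0 := by rw [h, smul_zero]
  rw [smul_sub, smul_sub, sub_eq_zero] at h2
  calc (a * g) ^ m • y = g ^ m • a ^ m • y := by rw [mul_pow, mul_comm, mul_smul]
    _ = g ^ m • a ^ m • g ^ n • x := h2
    _ = g ^ (n + m) • (a ^ m • x) := by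
      simp only [smul_smul]; congr 1; ring

/-- **EGA I 9.3.1 (ii) for invertible modules**: on a quasi-compact quasi-separated scheme, a
section of a quasi-coherent module over `X_s`, multiplied by a power of `s`, extends to `X`. -/
theorem exists_extension_tmulSec_pow [CompactSpace X] [QuasiSeparatedSpace X]
    (hL : PicF.IsInvertible L) (s : unitM X ⟶ L) (F : X.Modules) [F.IsQuasicoherent]
    (t : Γ(F, CohB1.genLocus L s)) :
    ∃ N : ℕ, 0 < N ∧ ∃ t' : Γ(CohB1.tensorMod F (CohB1.tensorPow L N), ⊤),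
      QCoh.res (CohB1.tensorMod F (CohB1.tensorPow L N)) (le_top : CohB1.genLocus L s ≤ ⊤) t' =
        tmulSec F (CohB1.tensorPow L N) t (epow L (sval s (CohB1.genLocus L s)) N) := by
  have hq := isQuasicoherent_of_isInvertible hL
  obtain ⟨k, V, e, hV, -, he, hcov⟩ := exists_finite_isTriv_cover hL (U := ⊤) isCompact_univ
  have ha : ∀ i, ∃ a : Γ(X, V i), sval s (V i) = a • e i := fun i => (he i).exists_eq_smul _
  choose a ha using ha
  have hD : ∀ i, CohB1.genLocus L s ⊓ V i = X.basicOpen (a i) :=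
    fun i => (he i).genLocus_inf s (a i) (ha i)
  have hDle : ∀ i, X.basicOpen (a i) ≤ CohB1.genLocus L s := fun i => by
    rw [← hD i]; exact inf_le_left
  -- Step 1: local extensions with a uniform exponent
  have h0 : ∀ i, ∃ (n : ℕ) (u : Γ(F, V i)),
      (rres X (X.basicOpen_le (a i)) (a i)) ^ n • QCoh.res F (hDle i) t =
        QCoh.res F (X.basicOpen_le (a i)) u :=
    fun i => exists_pow_smul_eq_res F (hV i) (a i) (QCoh.res F (hDle i) t)
  choose n₀ u₀ h₀ using h0
  let n := Finset.univ.sup n₀ + 1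
  have hn₀ : ∀ i, n₀ i ≤ n := fun i => (Finset.le_sup (Finset.mem_univ i)).trans (Nat.le_succ _)
  obtain ⟨ti, h1⟩ : ∃ ti : ∀ i, Γ(F, V i), ∀ i,
      (rres X (X.basicOpen_le (a i)) (a i)) ^ n • QCoh.res F (hDle i) t =
        QCoh.res F (X.basicOpen_le (a i)) (ti i) := by
    refine ⟨fun i => (a i) ^ (n - n₀ i) • u₀ i, fun i => ?_⟩
    rw [res_smul', ← h₀ i, smul_smul, map_pow, ← pow_add, Nat.sub_add_cancel (hn₀ i)]
  -- Step 2: transition functions
  have hg : ∀ i j, ∃ g : Γ(X, V i ⊓ V j),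
      QCoh.res L inf_le_left (e i) = g • QCoh.res L inf_le_right (e j) ∧
        rres X inf_le_right (a j) = rres X inf_le_left (a i) * g :=
    fun i j => (he i).exists_transition s (he j) (a i) (a j) (ha i) (ha j)
  choose g hge hga using hg
  -- Step 3: the defect is killed by a power of `a i`
  have hWc : ∀ i j, IsCompact ((V i ⊓ V j : X.Opens) : Set X) := fun i j =>
    QuasiSeparatedSpace.inter_isCompact (V i : Set X) (V j : Set X) (V i).2 (hV i).isCompact
      (V j).2 (hV j).isCompact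
  have hdef : ∀ i j, ∃ m : ℕ, (rres X (inf_le_left : V i ⊓ V j ≤ V i) (a i)) ^ m •
      (QCoh.res F (inf_le_right : V i ⊓ V j ≤ V j) (ti j) -
        (g i j) ^ n • QCoh.res F (inf_le_left : V i ⊓ V j ≤ V i) (ti i)) = 0 := by
    intro i j
    refine exists_pow_smul_eq_zero_of_isCompact F (hWc i j) _ _ ?_
    have hB : X.basicOpen (rres X (inf_le_left : V i ⊓ V j ≤ V i) (a i)) =
        (V i ⊓ V j) ⊓ X.basicOpen (a i) := X.basicOpen_res (a i) (homOfLE inf_le_left).op
    have hBi : X.basicOpen (rres X (inf_le_left : V i ⊓ V j ≤ V i) (a i)) ≤ X.basicOpen (a i) := by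
      rw [hB]; exact inf_le_right
    have hBj : X.basicOpen (rres X (inf_le_left : V i ⊓ V j ≤ V i) (a i)) ≤ X.basicOpen (a j) := by
      rw [← hD j, hB, ← hD i]
      exact le_inf (inf_le_right.trans inf_le_left) (inf_le_left.trans inf_le_right)
    have hBs : X.basicOpen (rres X (inf_le_left : V i ⊓ V j ≤ V i) (a i)) ≤ CohB1.genLocus L s :=
      hBi.trans (hDle i)
    have e1 : QCoh.res F (X.basicOpen_le _) (QCoh.res F (inf_le_right : V i ⊓ V j ≤ V j) (ti j)) =
        (rres X (hBj.trans (X.basicOpen_le _)) (a j)) ^ n • QCoh.res F hBs t := by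
      rw [res_res, ← res_res F (X.basicOpen_le (a j)) hBj, ← h1 j, res_smul', res_res, map_pow,
        rres_rres]
    have e2 : QCoh.res F (X.basicOpen_le _) (QCoh.res F (inf_le_left : V i ⊓ V j ≤ V i) (ti i)) =
        (rres X (hBi.trans (X.basicOpen_le _)) (a i)) ^ n • QCoh.res F hBs t := by
      rw [res_res, ← res_res F (X.basicOpen_le (a i)) hBi, ← h1 i, res_smul', res_res, map_pow,
        rres_rres]
    have e3 : rres X (hBj.trans (X.basicOpen_le _)) (a j) =
        rres X (hBi.trans (X.basicOpen_le _)) (a i) * rres X (X.basicOpen_le _) (g i j) := by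
      have := congrArg (rres X (X.basicOpen_le (rres X (inf_le_left : V i ⊓ V j ≤ V i) (a i))))
        (hga i j)
      rw [map_mul, rres_rres, rres_rres] at this
      exact this
    rw [map_sub, res_smul', e1, e2, e3, map_pow, smul_smul, ← mul_pow, mul_comm, sub_self]
  choose m₀ hm₀ using hdef
  let m := Finset.univ.sup (fun p : Fin k × Fin k => m₀ p.1 p.2)
  have hm : ∀ i j, (rres X (inf_le_left : V i ⊓ V j ≤ V i) (a i)) ^ m •
      (QCoh.res F (inf_le_right : V i ⊓ V j ≤ V j) (ti j) -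
        (g i j) ^ n • QCoh.res F (inf_le_left : V i ⊓ V j ≤ V i) (ti i)) = 0 := by
    intro i j
    have hle : m₀ i j ≤ m := Finset.le_sup (f := fun p : Fin k × Fin k => m₀ p.1 p.2)
      (Finset.mem_univ (i, j))
    obtain ⟨d, hd⟩ := Nat.exists_eq_add_of_le hle
    rw [hd, pow_add, mul_comm, mul_smul, hm₀ i j, smul_zero]
  -- Step 4: the local twisted sections
  let N := n + m
  obtain ⟨wi, hwi⟩ : ∃ wi : ∀ i, Γ(CohB1.tensorMod F (CohB1.tensorPow L N), V i), ∀ i, wi i =
      tmulSec F (CohB1.tensorPow L N) ((a i) ^ m • ti i) (epow L (e i) N) := ⟨_, fun _ => rfl⟩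
  have hcompat : ∀ i j, QCoh.res _ (inf_le_left : V i ⊓ V j ≤ V i) (wi i) =
      QCoh.res _ (inf_le_right : V i ⊓ V j ≤ V j) (wi j) := by
    intro i j
    rw [hwi i, hwi j, res_tmulSec, res_tmulSec, res_epow, res_epow, hge i j, epow_smul,
      tmulSec_smul_right, ← tmulSec_smul_left]
    congr 1
    rw [res_smul', res_smul', map_pow, map_pow, hga i j]
    exact (smul_pow_sub_aux _ _ n m _ _ (hm i j)).symm
  -- Step 5: glue
  obtain ⟨t', ht'⟩ := exists_gluing (CohB1.tensorMod F (CohB1.tensorPow L N)) V ⊤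
    (fun _ => le_top) hcov wi hcompat
  refine ⟨N, Nat.lt_of_lt_of_le (Nat.succ_pos _) (Nat.le_add_right n m), t', ?_⟩
  -- Step 6: compare on the cover of `X_s` by the `D(a i)`
  rw [← sub_eq_zero]
  have hcov' : CohB1.genLocus L s ≤ iSup fun i => X.basicOpen (a i) := by
    intro x hx
    obtain ⟨i, hi⟩ := Opens.mem_iSup.mp (hcov (show x ∈ (⊤ : X.Opens) from trivial))
    refine Opens.mem_iSup.mpr ⟨i, ?_⟩
    rw [← hD i]
    exact ⟨hx, hi⟩
  refine eq_zero_of_res_cover_eq_zero _ (fun i => X.basicOpen (a i)) hDle hcov' _ fun i => ?_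
  rw [map_sub, sub_eq_zero, res_res, ← res_res _ (le_top : V i ≤ ⊤) (X.basicOpen_le (a i)), ht' i,
    res_tmulSec, res_epow, res_sval, ← res_sval s (X.basicOpen_le (a i)), ha i, res_smul',
    epow_smul, tmulSec_smul_right, ← tmulSec_smul_left]
  rw [hwi i, res_tmulSec, res_epow, res_smul', ← h1 i, smul_smul, map_pow, ← pow_add, add_comm m n]

end Groth.Agent.Lib.Helper29.QCoh
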