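import Groth.Agent.Lib.Helper29.HomSec2
import Groth.Agent.Lib.Helper29.QCohCrit
universe u
open CategoryTheory CategoryTheory.Limits AlgebraicGeometry TopologicalSpace Opposite

/-! # Sections of the sheaf Hom over affine opens; quasi-coherence of the sheaf Hom -/

namespace Groth.Agent.Lib.Helper29.QCoh.HomSec
open Groth.Agent.Lib.Helper29.QCoh Groth.Agent.Lib.Helper29.QCoh.Dual

variable {X : Scheme.{u}} {F G : X.Modules}

theorem homSh_ext {U : X.Opens} (θ θ' : Γ(RefHull.homSh F G, U))
    (h : ∀ (y : X) (hy : y ∈ U), θ.1 ⟨y, hy⟩ = θ'.1 ⟨y, hy⟩) : θ = θ' :=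
  Subtype.ext (funext fun y => h y.1 y.2)

/-- Evaluation of a section of the sheaf Hom, as a linear map on sections. -/
noncomputable def evLin {U : X.Opens} (θ : Γ(RefHull.homSh F G, U)) :
    Γ(F, U) →ₗ[Γ(X, U)] Γ(G, U) where
  toFun := ev θ
  map_add' := ev_add_right θ
  map_smul' := fun r m => ev_smul_right r θ m

/-- Evaluation, linear in the section of the sheaf Hom. -/
noncomputable def evLinₗ (F G : X.Modules) (U : X.Opens) :
    Γ(RefHull.homSh F G, U) →ₗ[Γ(X, U)] (Γ(F, U) →ₗ[Γ(X, U)] Γ(G, U)) where
  toFun := evLin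
  map_add' := fun θ θ' => LinearMap.ext fun m => ev_add_left θ θ' m
  map_smul' := fun r θ => LinearMap.ext fun m => ev_smul_left r θ m

theorem evLinₗ_apply {U : X.Opens} (θ : Γ(RefHull.homSh F G, U)) (m : Γ(F, U)) :
    evLinₗ F G U θ m = ev θ m := rfl

theorem evLinₗ_injective [F.IsQuasicoherent] {U : X.Opens} (hU : IsAffineOpen U) :
    Function.Injective (evLinₗ F G U) := by
  intro θ θ' h
  apply homSh_ext
  intro y hy
  apply stalkHom_ext_of_germ hU y hy
  intro m
  rw [← germ_ev, ← germ_ev]
  have := congrArg (fun k => k m) h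
  exact congrArg _ this

theorem evLinₗ_surjective [F.IsQuasicoherent] {U : X.Opens} (hU : IsAffineOpen U) :
    Function.Surjective (evLinₗ F G U) := by
  intro l
  obtain ⟨θ, hθ⟩ := exists_homSh_of_semilinear (G := G) hU le_rfl l.toAddMonoidHom (fun a m => by
    change l (a • m) = _
    rw [map_smul]
    congr 1
    change a = (X.presheaf.map (𝟙 _)) a
    rw [X.presheaf.map_id]
    rfl)
  refine ⟨θ, LinearMap.ext fun m => ?_⟩
  exact ev_eq_of_germ θ m (l m) fun y hy => hθ y hy m

/-- **Sections of `𝓗om(F,G)` over an affine open**, for `F` quasi-coherent. -/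
noncomputable def homSecEquiv (F G : X.Modules) [F.IsQuasicoherent] {U : X.Opens}
    (hU : IsAffineOpen U) :
    Γ(RefHull.homSh F G, U) ≃ₗ[Γ(X, U)] (Γ(F, U) →ₗ[Γ(X, U)] Γ(G, U)) :=
  LinearEquiv.ofBijective (evLinₗ F G U) ⟨evLinₗ_injective hU, evLinₗ_surjective hU⟩

/-- The sheaf Hom from a finitely presented module to a quasi-coherent module is
quasi-coherent. -/
theorem isQuasicoherent_homSh (F G : X.Modules) [F.IsFinitePresentation] [G.IsQuasicoherent] :
    (RefHull.homSh F G).IsQuasicoherent := by
  refine isQuasicoherent_of_localizing _ (fun V : X.affineOpens => (V : X.Opens))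
    (iSup_affineOpens_eq_top X) (fun V => V.2) ?_ ?_
  · rintro ⟨U, hU⟩ f s
    change ∃ (n : ℕ) (m : Γ(RefHull.homSh F G, U)), _
    let D : X.Opens := X.basicOpen f
    have hD : IsAffineOpen D := hU.basicOpen f
    have hDU : D ≤ U := X.basicOpen_le f
    let _ := sectionsModule G hDU
    have hloc := isLocalizedModule_res_basicOpen G hU f
    have hfp : Module.FinitePresentation Γ(X, U) Γ(F, U) :=
      module_finitePresentation_of_isFinitePresentation F hU
    -- the composite `F(U) → F(D) → G(D)`
    let μ : Γ(F, U) →ₗ[Γ(X, U)] Γ(G, D) :=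
      { toFun := fun a => ev s (res F hDU a)
        map_add' := fun a b => by rw [map_add, ev_add_right]
        map_smul' := fun r a => by
          rw [res_smul, ev_smul_right]
          rfl }
    obtain ⟨h, ⟨_, n, rfl⟩, hh⟩ :=
      Module.FinitePresentation.exists_lift_of_isLocalizedModule (.powers f) (resₗ G hDU) μ
    obtain ⟨m, hm⟩ := exists_homSh_of_semilinear (G := G) hU le_rfl h.toAddMonoidHom (fun a b => by
      change h (a • b) = _
      rw [map_smul]
      congr 1
      change a = (X.presheaf.map (𝟙 _)) a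
      rw [X.presheaf.map_id]
      rfl)
    refine ⟨n, m, ?_⟩
    apply homSh_ext
    intro y hy
    apply stalkHom_ext_of_germ hU y (hDU hy)
    intro a
    have h1 : G.presheaf.germ D y hy (res G hDU (h a)) =
        G.presheaf.germ D y hy ((X.presheaf.map (homOfLE hDU).op (f ^ n)) • μ a) := by
      have := congrArg (fun k => k a) hh
      exact congrArg _ this
    have h2 : (res (RefHull.homSh F G) hDU m).1 ⟨y, hy⟩ (F.presheaf.germ U y (hDU hy) a) =
        G.presheaf.germ U y (hDU hy) (h a) := hm y (hDU hy) a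
    have hL : ((X.presheaf.map (homOfLE (X.basicOpen_le f)).op f) ^ n • s).1 ⟨y, hy⟩
        (F.presheaf.germ U y (hDU hy) a) =
        X.presheaf.germ D y hy ((X.presheaf.map (homOfLE (X.basicOpen_le f)).op f) ^ n) •
          s.1 ⟨y, hy⟩ (F.presheaf.germ U y (hDU hy) a) := rfl
    have hR : G.presheaf.germ D y hy (μ a) = s.1 ⟨y, hy⟩ (F.presheaf.germ U y (hDU hy) a) := by
      change G.presheaf.germ D y hy (ev s (res F hDU a)) = _
      rw [germ_ev, germ_res]
    rw [h2, ← germ_res G hDU y hy, h1, germ_smul, hR, map_pow]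
    exact hL.symm
  · rintro ⟨U, hU⟩ f m hm
    let D : X.Opens := X.basicOpen f
    have hDU : D ≤ U := X.basicOpen_le f
    let _ := sectionsModule G hDU
    have hloc := isLocalizedModule_res_basicOpen G hU f
    have hfp : Module.FinitePresentation Γ(X, U) Γ(F, U) :=
      module_finitePresentation_of_isFinitePresentation F hU
    have hcomp : (resₗ G hDU).comp (evLin m) = (resₗ G hDU).comp (0 : Γ(F, U) →ₗ[Γ(X, U)] Γ(G, U)) := by
      apply LinearMap.ext
      intro a
      change res G hDU (ev m a) = res G hDU 0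
      rw [res_ev, map_zero]
      have hm' : res (RefHull.homSh F G) hDU m = 0 := hm
      rw [hm']
      exact ev_eq_of_germ _ _ _ fun y hy => by
        rw [map_zero]
        rfl
    obtain ⟨⟨_, n, rfl⟩, hs⟩ :=
      Module.Finite.exists_smul_of_comp_eq_of_isLocalizedModule (.powers f) (resₗ G hDU) _ _ hcomp
    refine ⟨n, ?_⟩
    apply (evLinₗ_injective hU)
    rw [map_smul, map_zero]
    have : f ^ n • evLin m = f ^ n • (0 : Γ(F, U) →ₗ[Γ(X, U)] Γ(G, U)) := hs
    rw [smul_zero] at this
    exact this

/-- `Hom(P, N)` is finite projective when `P` and `N` are. -/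
theorem finite_projective_linearMap (A P N : Type*) [CommRing A] [AddCommGroup P] [Module A P]
    [AddCommGroup N] [Module A N] [Module.Finite A P] [Module.Projective A P]
    [Module.Finite A N] [Module.Projective A N] :
    Module.Finite A (P →ₗ[A] N) ∧ Module.Projective A (P →ₗ[A] N) := by
  obtain ⟨n, π, hπ⟩ := Module.Finite.exists_fin' A P
  obtain ⟨σ, hσ⟩ := Module.projective_lifting_property π LinearMap.id hπ
  let i : (P →ₗ[A] N) →ₗ[A] ((Fin n → A) →ₗ[A] N) := LinearMap.lcomp A N π
  let r : ((Fin n → A) →ₗ[A] N) →ₗ[A] (P →ₗ[A] N) := LinearMap.lcomp A N σ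
  have hri : r ∘ₗ i = LinearMap.id := by
    apply LinearMap.ext
    intro g
    apply LinearMap.ext
    intro p
    change g (π (σ p)) = g p
    have := congrArg (fun k => k p) hσ
    exact congrArg g this
  have hr : Function.Surjective r := fun g => ⟨i g, congrArg (fun k => k g) hri⟩
  have hp1 : Module.Projective A (Fin n → N) :=
    Module.Projective.of_equiv
      (DFinsupp.linearEquivFunOnFintype (R := A) (ι := Fin n) (M := fun _ => N))
  have hp2 : Module.Projective A ((Fin n → A) →ₗ[A] N) :=
    Module.Projective.of_equiv ((Pi.basisFun A (Fin n)).constr A)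
  exact ⟨Module.Finite.of_surjective r hr, Module.Projective.of_split i r hri⟩

/-- The sheaf Hom between finite locally free modules is finite locally free. -/
theorem isFinLocFree_homSh {F G : X.Modules} (hF : FlatMod.IsFinLocFree F)
    (hG : FlatMod.IsFinLocFree G) : FlatMod.IsFinLocFree (RefHull.homSh F G) := by
  have := isFinitePresentation_of_isFinLocFree hF
  have := isQuasicoherent_of_isFinLocFree hG
  have := isQuasicoherent_homSh F G
  refine isFinLocFree_of_finite_projective_sections (RefHull.homSh F G)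
    (fun U : X.affineOpens => U.1) (iSup_affineOpens_eq_top X) (fun U => U.2) (fun U => ?_)
    (fun U => ?_)
  · obtain ⟨h1, h1'⟩ := finite_projective_sections_of_isFinLocFree hF U.2
    obtain ⟨h2, h2'⟩ := finite_projective_sections_of_isFinLocFree hG U.2
    have := (finite_projective_linearMap Γ(X, U.1) Γ(F, U.1) Γ(G, U.1)).1
    exact Module.Finite.equiv (homSecEquiv F G U.2).symm
  · obtain ⟨h1, h1'⟩ := finite_projective_sections_of_isFinLocFree hF U.2
    obtain ⟨h2, h2'⟩ := finite_projective_sections_of_isFinLocFree hG U.2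
    have := (finite_projective_linearMap Γ(X, U.1) Γ(F, U.1) Γ(G, U.1)).2
    exact Module.Projective.of_equiv (homSecEquiv F G U.2).symm

end Groth.Agent.Lib.Helper29.QCoh.HomSec
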