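import Groth.Agent.Lib.Helper29.QCohLocFree
import Groth.Agent.Lib.Helper29.QCohFinite
import Groth.Agent.Lib.Helper14.SchemeDim
import Mathlib.RingTheory.RegularLocalRing.Defs
import Mathlib.RingTheory.DiscreteValuationRing.TFAE
universe u
open CategoryTheory CategoryTheory.Limits AlgebraicGeometry Opposite TopologicalSpace

namespace Groth.Agent.Lib.Helper29.QCoh

/-- A regular local domain of Krull dimension at most one is a principal ideal ring. -/
theorem isPrincipalIdealRing_of_isRegularLocalRing_of_dim_le_one (R : Type*) [CommRing R]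
    [IsDomain R] [IsRegularLocalRing R] (h : ringKrullDim R ≤ 1) : IsPrincipalIdealRing R := by
  have h1 := (IsRegularLocalRing.iff_finrank_cotangentSpace R).mp inferInstance
  have h2 : Module.finrank (IsLocalRing.ResidueField R) (IsLocalRing.CotangentSpace R) ≤ 1 := by
    have : ((Module.finrank (IsLocalRing.ResidueField R) (IsLocalRing.CotangentSpace R) : ℕ) :
        WithBot ℕ∞) ≤ 1 := h1 ▸ h
    exact_mod_cast this
  exact ((tfae_of_isNoetherianRing_of_isLocalRing_of_isDomain (R := R)).out 0 5).mpr h2

theorem noZeroSMulDivisors_of_free (R M : Type*) [CommRing R] [IsDomain R] [AddCommGroup M]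
    [Module R M] [Module.Free R M] : NoZeroSMulDivisors R M := by
  refine ⟨fun {c x} h => ?_⟩
  by_cases hc : c = 0
  · exact Or.inl hc
  · right
    have hreg : IsRegular c := IsRegular.of_ne_zero hc
    have := Module.IsTorsionFree.isSMulRegular (R := R) (M := M) hreg
    exact this (by simpa using h)

variable {X : Scheme.{u}}

theorem ringKrullDim_stalk_le_topologicalKrullDim (U : Scheme.{u}) (u : ↥U) :
    ringKrullDim (U.presheaf.stalk u) ≤ topologicalKrullDim ↥U := by
  rw [Groth.Agent.Lib.Helper14.AS.topologicalKrullDim_eq_iSup_stalk]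
  exact le_iSup (fun x : ↥U => ringKrullDim (U.presheaf.stalk x)) u

theorem isFinitePresentation_of_isCoh [IsLocallyNoetherian X] (F : X.Modules) (hF : Coh.IsCoh F) :
    F.IsFinitePresentation := by
  haveI := hF.1
  haveI := hF.2
  refine isFinitePresentation_of_module_finitePresentation F
    (fun U : X.affineOpens => (U : X.Opens)) (isOpenCover_affineOpens X) (fun U => U.2) fun U => ?_
  haveI : IsNoetherianRing Γ(X, (U : X.Opens)) := IsLocallyNoetherian.component_noetherian U
  haveI := module_finite_of_isFiniteType F U.2
  exact Module.finitePresentation_of_finite _ _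

theorem torsionFree_iff_isFinLocFree [IsIntegral X] [IsLocallyNoetherian X]
    (hreg : ∀ x : ↥X, IsRegularLocalRing (X.presheaf.stalk x))
    (hdim : topologicalKrullDim ↥X ≤ 1) (F : X.Modules) (hF : Coh.IsCoh F) :
    (∀ x : ↥X, NoZeroSMulDivisors (X.presheaf.stalk x) (F.presheaf.stalk x)) ↔
      FlatMod.IsFinLocFree F := by
  haveI := isFinitePresentation_of_isCoh F hF
  rw [isFinLocFree_iff_free_stalks]
  constructor
  · intro h
    refine ⟨inferInstance, fun x => ?_⟩
    haveI := hreg x
    haveI := h x
    haveI : IsPrincipalIdealRing (X.presheaf.stalk x) :=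
      isPrincipalIdealRing_of_isRegularLocalRing_of_dim_le_one _
        ((ringKrullDim_stalk_le_topologicalKrullDim X x).trans hdim)
    haveI := finitePresentation_stalk F x
    haveI : Module.Finite (X.presheaf.stalk x) (F.presheaf.stalk x) := inferInstance
    infer_instance
  · rintro ⟨-, h⟩ x
    haveI := h x
    exact noZeroSMulDivisors_of_free _ _

end Groth.Agent.Lib.Helper29.QCoh
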