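import Groth.Agent.Lib.Helper29.Sky
import Groth.Agent.Lib.Helper22.CohTop.FlasqueAcyclic
import Groth.Agent.Lib.Helper22.DimZero
import Mathlib.AlgebraicGeometry.Noetherian
universe u
open CategoryTheory CategoryTheory.Limits AlgebraicGeometry Opposite TopologicalSpace

/-! # Modules with zero-dimensional support: flasque, acyclic, globally generated -/

namespace Groth.Agent.Lib.Helper29.QCoh

section ZeroDim
variable {X : Scheme.{u}}

theorem exists_gluing_pair (M : X.Modules) {V W U : X.Opens} (hV : V ≤ U) (hW : W ≤ U)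
    (hc : U ≤ V ⊔ W) (s : Γ(M, V)) (t : Γ(M, W))
    (h : res M (inf_le_left : V ⊓ W ≤ V) s = res M (inf_le_right : V ⊓ W ≤ W) t) :
    ∃ u : Γ(M, U), res M hV u = s ∧ res M hW u = t := by
  let C : Bool → X.Opens := fun b => Bool.rec W V b
  have hCU : ∀ b, C b ≤ U := fun b => by cases b <;> assumption
  let sf : ∀ b, Γ(M, C b) := fun b => Bool.rec (motive := fun b => Γ(M, C b)) t s b
  have hcov : U ≤ iSup C := by
    intro x hx
    rcases hc hx with h1 | h1
    · exact Opens.mem_iSup.mpr ⟨true, h1⟩
    · exact Opens.mem_iSup.mpr ⟨false, h1⟩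
  obtain ⟨u, hu⟩ := exists_gluing M C U hCU hcov sf (by
    intro i j
    cases i <;> cases j
    · rfl
    · change res M (inf_le_left : W ⊓ V ≤ W) t = res M (inf_le_right : W ⊓ V ≤ V) s
      have hle : W ⊓ V ≤ V ⊓ W := by rw [inf_comm]
      have := congrArg (res M hle) h
      rw [res_res, res_res] at this
      exact this.symm
    · exact h
    · rfl)
  exact ⟨u, hu true, hu false⟩

/-- A section over `V` whose germs vanish outside a subset `T ⊆ V` that is closed in `X`
extends (by zero) to any larger open. -/
theorem exists_extension_of_germ_eq_zero (M : X.Modules) {V U : X.Opens} (hVU : V ≤ U)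
    (s : Γ(M, V)) (T : Set X) (hT : IsClosed T) (hTV : T ⊆ V)
    (hs : ∀ x (hx : x ∈ V), x ∉ T → M.presheaf.germ V x hx s = 0) :
    ∃ t : Γ(M, U), res M hVU t = s := by
  let W : X.Opens := U ⊓ ⟨Tᶜ, hT.isOpen_compl⟩
  have hW : W ≤ U := inf_le_left
  have hc : U ≤ V ⊔ W := by
    intro x hx
    by_cases hxT : x ∈ T
    · exact Or.inl (hTV hxT)
    · exact Or.inr ⟨hx, hxT⟩
  obtain ⟨u, hu, -⟩ := exists_gluing_pair M hVU hW hc s 0 (by
    rw [map_zero]
    apply eq_zero_of_germ_eq_zero
    intro x hx
    rw [germ_res]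
    exact hs x hx.1 hx.2.2)
  exact ⟨u, hu⟩

/-- If every subset of the support of `M` is closed, every section extends: `M` is flasque in a
strong sense. -/
theorem exists_extension_of_support_hereditarily_closed (M : X.Modules)
    (hM : ∀ T : Set X, T ⊆ CohB1.support M → IsClosed T) {V U : X.Opens} (hVU : V ≤ U)
    (s : Γ(M, V)) : ∃ t : Γ(M, U), res M hVU t = s := by
  refine exists_extension_of_germ_eq_zero M hVU s (CohB1.support M ∩ V)
    (hM _ Set.inter_subset_left) Set.inter_subset_right ?_
  intro x hx hxT
  have : x ∉ CohB1.support M := fun h => hxT ⟨h, hx⟩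
  simp only [CohB1.support, Set.mem_ofPred_eq, not_not] at this
  exact Subsingleton.elim _ _

theorem isFlasque_of_support_hereditarily_closed (M : X.Modules)
    (hM : ∀ T : Set X, T ⊆ CohB1.support M → IsClosed T) :
    TopCat.Sheaf.IsFlasque (Coh.toAb M) := by
  constructor
  intro U V i
  rw [AddCommGrpCat.epi_iff_surjective]
  intro s
  obtain ⟨t, ht⟩ := exists_extension_of_support_hereditarily_closed M hM
    (leOfHom i.unop) s
  exact ⟨t, ht⟩

theorem subsingleton_HH_succ_of_support_hereditarily_closed (M : X.Modules)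
    (hM : ∀ T : Set X, T ⊆ CohB1.support M → IsClosed T) (n : ℕ) :
    Subsingleton (Coh.HH X M (n + 1)) := by
  have := isFlasque_of_support_hereditarily_closed M hM
  exact Groth.Agent.Lib.Helper22.CohTop.subsingleton_H_succ_of_flasque (Coh.toAb M) n

theorem isGloballyGenerated_of_support_hereditarily_closed (M : X.Modules)
    (hM : ∀ T : Set X, T ⊆ CohB1.support M → IsClosed T) :
    Curv2.IsGloballyGenerated M := by
  rw [isGloballyGenerated_iff_genAt]
  intro y
  rw [GenAt, eq_top_iff]
  rintro t -
  obtain ⟨V, hyV, m, rfl⟩ := M.presheaf.exists_germ_eq t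
  obtain ⟨σ, hσ⟩ := exists_extension_of_support_hereditarily_closed M hM (le_top : V ≤ ⊤) m
  apply Submodule.subset_span
  refine ⟨σ, ?_⟩
  change M.presheaf.germ ⊤ y trivial σ = _
  rw [← hσ, germ_res]

end ZeroDim

section ZeroDim2
variable {X : Scheme.{u}}

/-- A Noetherian, quasi-sober `T1` space is finite. -/
theorem finite_of_noetherianSpace_of_t1' (Z : Type*) [TopologicalSpace Z] [NoetherianSpace Z]
    [QuasiSober Z] [T1Space Z] : Finite Z := by
  have hfin := NoetherianSpace.finite_irreducibleComponents (α := Z)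
  have hsub : ∀ C ∈ irreducibleComponents Z, C.Subsingleton := by
    intro C hC
    have hirr : IsIrreducible C := hC.1
    have hcl : IsClosed C := isClosed_of_mem_irreducibleComponents C hC
    obtain ⟨g, hg⟩ := QuasiSober.sober hirr hcl
    have : C = {g} := by
      rw [← hg, closure_singleton]
    rw [this]
    exact Set.subsingleton_singleton
  have huniv : (Set.univ : Set Z) = ⋃₀ irreducibleComponents Z := (sUnion_irreducibleComponents).symm
  have : (Set.univ : Set Z).Finite := by
    rw [huniv]
    exact hfin.sUnion fun C hC => (hsub C hC).finite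
  exact Set.finite_univ_iff.mp this

/-- In a locally Noetherian scheme, any subset of a closed set all of whose points are closed is
closed. -/
theorem isClosed_of_subset_of_forall_isClosed_singleton [IsLocallyNoetherian X] {Z : Set X}
    (hZ : IsClosed Z) (hpt : ∀ z ∈ Z, IsClosed ({z} : Set X)) {T : Set X} (hT : T ⊆ Z) :
    IsClosed T := by
  rw [(TopologicalSpace.IsOpenCover.mk (iSup_affineOpens_eq_top X)).isClosed_iff_coe_preimage]
  intro W
  have : IsNoetherianRing Γ(X, W.1) := IsLocallyNoetherian.component_noetherian W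
  have hN : NoetherianSpace ↥W.1 := noetherianSpace_of_isAffineOpen W.1 W.2
  have hQS : QuasiSober ↥W.1 := W.1.isOpenEmbedding'.quasiSober
  let Z' : Set ↥W.1 := (↑) ⁻¹' Z
  have hZ' : IsClosed Z' := hZ.preimage continuous_subtype_val
  have : NoetherianSpace Z' := inferInstance
  have : QuasiSober Z' := hZ'.isClosedEmbedding_subtypeVal.quasiSober
  have hptW : ∀ z : ↥W.1, z.1 ∈ Z → IsClosed ({z} : Set ↥W.1) := by
    intro z hz
    have := (hpt z.1 hz).preimage (continuous_subtype_val (p := fun x => x ∈ W.1))
    convert this using 1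
    ext y
    simp only [Set.mem_singleton_iff, Set.mem_preimage]
    exact Subtype.ext_iff
  have : T1Space Z' := by
    refine ⟨fun z => ?_⟩
    have := (hptW z.1 z.2).preimage (continuous_subtype_val (p := fun x => x ∈ Z'))
    convert this using 1
    ext y
    simp only [Set.mem_singleton_iff, Set.mem_preimage]
    exact Subtype.ext_iff
  have hfin : Finite Z' := finite_of_noetherianSpace_of_t1' Z'
  have hT' : ((↑) ⁻¹' T : Set ↥W.1) ⊆ Z' := fun z hz => hT hz
  have hTfin : ((↑) ⁻¹' T : Set ↥W.1).Finite := (Set.toFinite Z').subset hT'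
  have hcl := hTfin.isClosed_biUnion fun z hz => hptW z (hT hz)
  have e : ((↑) ⁻¹' T : Set ↥W.1) = ⋃ z ∈ ((↑) ⁻¹' T : Set ↥W.1), {z} := by
    ext; simp
  rw [e]
  exact hcl

end ZeroDim2

section ZeroDim3
variable {X : Scheme.{u}}

theorem isClosed_support_of_isFiniteType (M : X.Modules) [M.IsFiniteType] :
    IsClosed (CohB1.support M) := by
  have h := isOpen_setOf_subsingleton_stalk M
  rw [← isOpen_compl_iff]
  have e : (CohB1.support M)ᶜ = {x : X | Subsingleton (M.presheaf.stalk x)} := by
    ext x
    simp only [CohB1.support, Set.mem_compl_iff, Set.mem_ofPred_eq, not_not]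
  rw [e]
  exact h

theorem forall_isClosed_singleton_of_dim_le_zero {Z : Set X} (hZ : IsClosed Z)
    (hdim : topologicalKrullDim Z ≤ 0) : ∀ z ∈ Z, IsClosed ({z} : Set X) := by
  intro z hz
  have : T1Space Z := Groth.Agent.Lib.Helper22.t1Space_of_dim_le_zero hdim
  have h := hZ.isClosedEmbedding_subtypeVal.isClosedMap _ (isClosed_singleton (x := (⟨z, hz⟩ : Z)))
  rwa [Set.image_singleton] at h

/-- Finite type module on a locally Noetherian scheme whose support consists of closed points:
every subset of the support is closed. -/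
theorem support_hereditarily_closed [IsLocallyNoetherian X] (M : X.Modules) [M.IsFiniteType]
    (h0 : ∀ x ∈ CohB1.support M, IsClosed ({x} : Set X)) :
    ∀ T : Set X, T ⊆ CohB1.support M → IsClosed T := fun _ hT =>
  isClosed_of_subset_of_forall_isClosed_singleton (isClosed_support_of_isFiniteType M) h0 hT

end ZeroDim3

end Groth.Agent.Lib.Helper29.QCoh
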