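import Groth.Agent.Lib.Helper29.SerreA
universe u
open CategoryTheory CategoryTheory.Limits AlgebraicGeometry TopologicalSpace Opposite
open scoped TensorProduct

/-! # Skyscraper modules and global generation at stalks -/

namespace Groth.Agent.Lib.Helper29.QCoh

section Sky
variable {X : Scheme.{u}} (y : X) (Q : Type u) [AddCommGroup Q] [Module (X.presheaf.stalk y) Q]

/-- The underlying presheaf of abelian groups of the skyscraper module. -/
noncomputable def skyAb : (Opens X)ᵒᵖ ⥤ Ab.{u} where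
  obj V := AddCommGrpCat.of (PLift (y ∈ V.unop) → Q)
  map {V W} f := AddCommGrpCat.ofHom
    { toFun := fun φ h => φ ⟨f.unop.le h.down⟩
      map_zero' := rfl
      map_add' := fun _ _ => rfl }
  map_id := by intros; rfl
  map_comp := by intros; rfl

/-- The germ map as a ring hom out of the `RingCat`-valued structure sheaf. -/
noncomputable def skyGerm (V : (Opens X)ᵒᵖ) (h : y ∈ V.unop) :
    (X.ringCatSheaf.obj.obj V) →+* X.presheaf.stalk y :=
  (X.presheaf.germ V.unop y h).hom

theorem skyGerm_apply (V : X.Opens) (h : y ∈ V) (r : Γ(X, V)) :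
    skyGerm y (op V) h r = X.presheaf.germ V y h r := rfl

theorem skyGerm_map {V W : (Opens X)ᵒᵖ} (f : V ⟶ W) (h : y ∈ W.unop)
    (r : X.ringCatSheaf.obj.obj V) :
    skyGerm y W h (X.ringCatSheaf.obj.map f r) = skyGerm y V (f.unop.le h) r :=
  X.presheaf.germ_res_apply f.unop y h r

noncomputable instance skyModule (V : (Opens X)ᵒᵖ) :
    Module (X.ringCatSheaf.obj.obj V) ((skyAb y Q).obj V) where
  smul r φ := fun h => skyGerm y V h.down r • φ h
  one_smul φ := by
    funext h
    change skyGerm y V h.down 1 • φ h = φ h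
    rw [map_one, one_smul]
  mul_smul r r' φ := by
    funext h
    change skyGerm y V h.down (r * r') • φ h = skyGerm y V h.down r • (skyGerm y V h.down r' • φ h)
    rw [map_mul, mul_smul]
  smul_zero r := by
    funext h
    exact smul_zero _
  smul_add r φ ψ := by
    funext h
    exact smul_add _ _ _
  add_smul r r' φ := by
    funext h
    change skyGerm y V h.down (r + r') • φ h = skyGerm y V h.down r • φ h + skyGerm y V h.down r' • φ h
    rw [map_add, add_smul]
  zero_smul φ := by
    funext h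
    change skyGerm y V h.down 0 • φ h = 0
    rw [map_zero, zero_smul]

theorem sky_smul_apply (V : (Opens X)ᵒᵖ) (r : X.ringCatSheaf.obj.obj V) (φ : (skyAb y Q).obj V)
    (h : PLift (y ∈ V.unop)) : (r • φ) h = skyGerm y V h.down r • φ h := rfl

/-- The skyscraper presheaf of modules. -/
noncomputable def skyPre : PresheafOfModules.{u} X.ringCatSheaf.obj :=
  PresheafOfModules.ofPresheaf (skyAb y Q) (by
    intro V W f r m
    funext h
    change skyGerm y V _ r • m _ = skyGerm y W h.down (X.ringCatSheaf.obj.map f r) • m _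
    rw [skyGerm_map])

omit [Module (X.presheaf.stalk y) Q] in
theorem skyAb_isSheaf : TopCat.Presheaf.IsSheaf (X := X.toTopCat) (skyAb y Q) := by
  rw [TopCat.Presheaf.isSheaf_iff_isSheafUniqueGluing]
  intro ι U sf hsf
  have hex : ∀ h : PLift (y ∈ iSup U), ∃ i, y ∈ U i := fun h => Opens.mem_iSup.mp h.down
  refine ⟨fun h => sf (hex h).choose ⟨(hex h).choose_spec⟩, ?_, ?_⟩
  · intro i
    funext h
    have := congrFun (hsf (hex ⟨(Opens.leSupr U i).le h.down⟩).choose i)
      ⟨⟨(hex ⟨(Opens.leSupr U i).le h.down⟩).choose_spec, h.down⟩⟩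
    exact this
  · intro s' hs'
    funext h
    have := congrFun (hs' (hex h).choose) ⟨(hex h).choose_spec⟩
    exact this

/-- The skyscraper `O_X`-module at `y` with value `Q`. -/
noncomputable def sky : X.Modules := ⟨skyPre y Q, skyAb_isSheaf y Q⟩

theorem sky_sections (V : X.Opens) : (Γ(sky y Q, V) : Type u) = (PLift (y ∈ V) → Q) := rfl

variable {Q}

/-- The morphism to the skyscraper module induced by a linear map out of the stalk. -/
noncomputable def toSky (F : X.Modules) (g : F.presheaf.stalk y →ₗ[X.presheaf.stalk y] Q) :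
    F ⟶ sky y Q :=
  homOfApp (N := sky y Q)
    (fun V => (show Γ(F, V) →+ (PLift (y ∈ V) → Q) from
      { toFun := fun m h => g (F.presheaf.germ V y h.down m)
        map_zero' := by funext h; simp
        map_add' := fun m m' => by funext h; simp }))
    (fun V r m => by
      funext h
      change g (F.presheaf.germ V y h.down (r • m)) = X.presheaf.germ V y h.down r • g (F.presheaf.germ V y h.down m)
      rw [germ_smul, map_smul])
    (fun {V V'} hV m => by
      funext h
      change g (F.presheaf.germ V' y h.down (res F hV m)) = g (F.presheaf.germ V y (hV h.down) m)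
      rw [germ_res])

theorem toSky_app (F : X.Modules) (g : F.presheaf.stalk y →ₗ[X.presheaf.stalk y] Q) (V : X.Opens)
    (m : Γ(F, V)) (h : y ∈ V) :
    (show PLift (y ∈ V) → Q from (toSky y F g).app V m) ⟨h⟩ = g (F.presheaf.germ V y h m) := rfl

/-- **Global generation at stalks**: if `O_X^{(ι)} ⟶ F` is an epimorphism then the germs of the
generating sections span every stalk. -/
theorem span_germ_eq_top_of_epi {F : X.Modules} {ι : Type u} (p : freeM X ι ⟶ F) [Epi p] (y : X) :
    Submodule.span (X.presheaf.stalk y)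
      (Set.range fun i => F.presheaf.germ ⊤ y trivial (sval (ιFreeM X i ≫ p) ⊤)) = ⊤ := by
  set N := Submodule.span (X.presheaf.stalk y)
      (Set.range fun i => F.presheaf.germ ⊤ y trivial (sval (ιFreeM X i ≫ p) ⊤)) with hN
  let ψ := toSky y F N.mkQ
  have hzero : ∀ i, (ιFreeM X i ≫ p) ≫ ψ = 0 := by
    intro i
    apply hom_ext_of_sval
    rw [sval_comp]
    have h0 : sval (0 : unitM X ⟶ sky y (F.presheaf.stalk y ⧸ N)) ⊤ = 0 := rfl
    rw [h0]
    change (show PLift (y ∈ (⊤ : X.Opens)) → _ from ψ.app ⊤ (sval (ιFreeM X i ≫ p) ⊤)) = 0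
    funext h
    change N.mkQ (F.presheaf.germ ⊤ y h.down (sval (ιFreeM X i ≫ p) ⊤)) = 0
    rw [Submodule.mkQ_apply, Submodule.Quotient.mk_eq_zero]
    exact Submodule.subset_span ⟨i, rfl⟩
  have hpψ : p ≫ ψ = 0 := by
    apply free_hom_ext
    intro i
    rw [← Category.assoc, hzero i, comp_zero]
  have hψ : ψ = 0 := by
    rw [← cancel_epi p, hpψ, comp_zero]
  rw [eq_top_iff]
  rintro t -
  obtain ⟨V, hyV, m, rfl⟩ := F.presheaf.exists_germ_eq t
  have h1 := toSky_app y F N.mkQ V m hyV
  change (show PLift (y ∈ V) → _ from ψ.app V m) ⟨hyV⟩ = _ at h1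
  rw [hψ] at h1
  have h2 : N.mkQ (F.presheaf.germ V y hyV m) = 0 := h1.symm
  rwa [Submodule.mkQ_apply, Submodule.Quotient.mk_eq_zero] at h2

/-- A globally generated module is generated by global sections at every stalk. -/
theorem genAt_of_isGloballyGenerated {F : X.Modules} (h : Curv2.IsGloballyGenerated F) (y : X) :
    GenAt F y := by
  obtain ⟨ι, p, hp⟩ := h
  have key := @span_germ_eq_top_of_epi X F ι p hp y
  rw [GenAt, eq_top_iff, ← key]
  apply Submodule.span_mono
  rintro _ ⟨i, rfl⟩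
  exact ⟨_, rfl⟩

theorem isGloballyGenerated_iff_genAt (F : X.Modules) :
    Curv2.IsGloballyGenerated F ↔ ∀ y, GenAt F y :=
  ⟨genAt_of_isGloballyGenerated, isGloballyGenerated_of_genAt F⟩

end Sky

section CounitEpi2
variable {X Y : Scheme.{u}}

/-- Triangle identity on sections: the counit sends the pullback of a section of `f_* F`
to that section. -/
theorem counit_app_pullSect (f : X ⟶ Y) (F : X.Modules) (U : Y.Opens)
    (σ : Γ((Scheme.Modules.pushforward f).obj F, U)) :
    ((Scheme.Modules.pullbackPushforwardAdjunction f).counit.app F).app (f ⁻¹ᵁ U)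
      (pullSect f ((Scheme.Modules.pushforward f).obj F) U σ) = σ := by
  have h := (Scheme.Modules.pullbackPushforwardAdjunction f).right_triangle_components F
  have h2 := congrArg (fun ψ => Scheme.Modules.Hom.app ψ U σ) h
  simp only [app_comp] at h2
  exact h2

theorem epi_counit_of_span (f : X ⟶ Y) (F : X.Modules)
    (h : ∀ x : X, ∃ (U : Y.Opens) (hx : f x ∈ U), Submodule.span (X.presheaf.stalk x)
      (Set.range fun σ : Γ(F, f ⁻¹ᵁ U) => F.presheaf.germ (f ⁻¹ᵁ U) x hx σ) = ⊤) :
    Epi ((Scheme.Modules.pullbackPushforwardAdjunction f).counit.app F) := by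
  rw [epi_iff_stalkMap_surjective]
  intro x t
  obtain ⟨U, hx, hspan⟩ := h x
  have ht : t ∈ Submodule.span (X.presheaf.stalk x)
      (Set.range fun σ : Γ(F, f ⁻¹ᵁ U) => F.presheaf.germ (f ⁻¹ᵁ U) x hx σ) := by
    rw [hspan]; trivial
  have hle : Submodule.span (X.presheaf.stalk x)
      (Set.range fun σ : Γ(F, f ⁻¹ᵁ U) => F.presheaf.germ (f ⁻¹ᵁ U) x hx σ) ≤
        stalkMapRange ((Scheme.Modules.pullbackPushforwardAdjunction f).counit.app F) x := by
    rw [Submodule.span_le]
    rintro _ ⟨σ, rfl⟩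
    refine ⟨((Scheme.Modules.pullback f).obj ((Scheme.Modules.pushforward f).obj F)).presheaf.germ
      (f ⁻¹ᵁ U) x hx (pullSect f ((Scheme.Modules.pushforward f).obj F) U σ), ?_⟩
    refine (stalkMap_germ _ x (f ⁻¹ᵁ U) hx _).trans ?_
    rw [counit_app_pullSect]
    rfl
  exact hle ht

theorem epi_counit_of_isGloballyGenerated_restrict (f : X ⟶ Y) (F : X.Modules)
    (h : ∀ x : X, ∃ U : Y.Opens, f x ∈ U ∧
      Curv2.IsGloballyGenerated (F.restrict (f ⁻¹ᵁ U).ι)) :
    Epi ((Scheme.Modules.pullbackPushforwardAdjunction f).counit.app F) := by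
  refine epi_counit_of_span f F fun x => ?_
  obtain ⟨U, hx, hgg⟩ := h x
  refine ⟨U, hx, ?_⟩
  have h1 := genAt_of_isGloballyGenerated hgg ⟨x, hx⟩
  rw [GenAt] at h1
  have h2 : Submodule.span (X.presheaf.stalk x)
      (Set.range fun σ : Γ(F, (f ⁻¹ᵁ U).ι ''ᵁ ⊤) =>
        F.presheaf.germ ((f ⁻¹ᵁ U).ι ''ᵁ ⊤) x ⟨⟨x, hx⟩, trivial, rfl⟩ σ) = ⊤ :=
    (span_germ_restrict_eq_top_iff (f ⁻¹ᵁ U).ι F ⟨x, hx⟩ ⊤ trivial
      (I := Γ(F, (f ⁻¹ᵁ U).ι ''ᵁ ⊤)) id).mp h1
  rw [eq_top_iff] at h2 ⊢
  refine h2.trans (Submodule.span_le.mpr ?_)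
  rintro _ ⟨σ, rfl⟩
  have hle : f ⁻¹ᵁ U ≤ (f ⁻¹ᵁ U).ι ''ᵁ ⊤ := by
    rw [Scheme.Opens.ι_image_top]
  refine Submodule.subset_span ⟨res F hle σ, ?_⟩
  exact germ_res F hle x hx σ

end CounitEpi2

end Groth.Agent.Lib.Helper29.QCoh
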