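import Groth.Agent.Lib.Helper29.QCohPullbackSupp
import Mathlib.RingTheory.Finiteness.Descent
import Mathlib.RingTheory.Flat.FaithfullyFlat.Algebra
import Mathlib.AlgebraicGeometry.Morphisms.Flat
universe u v w
open CategoryTheory CategoryTheory.Limits AlgebraicGeometry Opposite TopologicalSpace
open scoped TensorProduct
open TensorProduct

/-! # Faithfully flat descent of finiteness properties of quasi-coherent modules -/

namespace Groth.Agent.Lib.Helper29.QCoh

/-- Finite presentation descends along faithfully flat ring maps. -/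
theorem finitePresentation_of_faithfullyFlat {R : Type u} [CommRing R] (T : Type u) [CommRing T]
    [Algebra R T] [Module.FaithfullyFlat R T] (M : Type u) [AddCommGroup M] [Module R M]
    [Module.FinitePresentation T (T ⊗[R] M)] : Module.FinitePresentation R M := by
  have hfin : Module.Finite R M := Module.Finite.of_finite_tensorProduct_of_faithfullyFlat T
  obtain ⟨n, f, hf⟩ := Module.Finite.exists_fin' R M
  refine Module.finitePresentation_of_surjective f hf ?_
  rw [← Module.Finite.iff_fg]
  have hex : Function.Exact ((LinearMap.ker f).subtype.baseChange T) (f.baseChange T) :=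
    lTensor_exact T f.exact_subtype_ker_map hf
  have hinj : Function.Injective ((LinearMap.ker f).subtype.baseChange T) :=
    Module.Flat.lTensor_preserves_injective_linearMap _ (Submodule.injective_subtype _)
  have hker : (LinearMap.ker (f.baseChange T)).FG :=
    Module.FinitePresentation.fg_ker (f.baseChange T) (LinearMap.lTensor_surjective T hf)
  have hrange : LinearMap.range ((LinearMap.ker f).subtype.baseChange T) =
      LinearMap.ker (f.baseChange T) := (LinearMap.exact_iff.mp hex).symm
  have : Module.Finite T (T ⊗[R] LinearMap.ker f) := by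
    have e : (T ⊗[R] LinearMap.ker f) ≃ₗ[T]
        LinearMap.range ((LinearMap.ker f).subtype.baseChange T) :=
      LinearEquiv.ofInjective _ hinj
    have : Module.Finite T (LinearMap.range ((LinearMap.ker f).subtype.baseChange T)) := by
      rw [Module.Finite.iff_fg, hrange]; exact hker
    exact Module.Finite.equiv e.symm
  exact Module.Finite.of_finite_tensorProduct_of_faithfullyFlat T

variable {X X' Z : Scheme.{u}}

/-- A flat morphism from an affine scheme which maps onto the affine open `V` induces a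
faithfully flat ring map. -/
theorem faithfullyFlat_appLE_of_surjOn (g : Z ⟶ X) [IsAffine Z] [Flat g] {V : X.Opens}
    (hV : IsAffineOpen V) (e : (⊤ : Z.Opens) ≤ g ⁻¹ᵁ V) (hsurj : ∀ v ∈ V, ∃ z, g z = v) :
    letI := (g.appLE V ⊤ e).hom.toAlgebra
    Module.FaithfullyFlat Γ(X, V) Γ(Z, ⊤) := by
  let _ := (g.appLE V ⊤ e).hom.toAlgebra
  have hU : IsAffineOpen (⊤ : Z.Opens) := isAffineOpen_top Z
  have hflat : Module.Flat Γ(X, V) Γ(Z, ⊤) := g.flat_appLE hV hU e
  apply Module.FaithfullyFlat.of_comap_surjective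
  intro p
  obtain ⟨v, hv, hvp⟩ := exists_point_of_prime' hV p
  obtain ⟨z, rfl⟩ := hsurj v hv
  refine ⟨hU.primeIdealOf ⟨z, trivial⟩, ?_⟩
  rw [← hvp]
  apply PrimeSpectrum.ext
  rw [primeIdealOf_map_of_le g hV hU e z trivial]
  rfl

/-- Descent of finite type along a flat morphism from an affine scheme onto an affine open. -/
theorem module_finite_of_pullback_of_isAffine (g : Z ⟶ X) [IsAffine Z] [Flat g]
    (M : X.Modules) [M.IsQuasicoherent] {V : X.Opens} (hV : IsAffineOpen V)
    (e : (⊤ : Z.Opens) ≤ g ⁻¹ᵁ V) (hsurj : ∀ v ∈ V, ∃ z, g z = v)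
    [((Scheme.Modules.pullback g).obj M).IsFiniteType] :
    Module.Finite Γ(X, V) Γ(M, V) := by
  have hU : IsAffineOpen (⊤ : Z.Opens) := isAffineOpen_top Z
  let _ := (g.appLE V ⊤ e).hom.toAlgebra
  have hff := faithfullyFlat_appLE_of_surjOn g hV e hsurj
  have hfin : Module.Finite Γ(Z, ⊤) Γ((Scheme.Modules.pullback g).obj M, ⊤) :=
    module_finite_of_isFiniteType _ hU
  have : Module.Finite Γ(Z, ⊤) (Γ(Z, ⊤) ⊗[Γ(X, V)] Γ(M, V)) :=
    Module.Finite.equiv (pullbackSectionsEquiv g M hU hV e)
  exact Module.Finite.of_finite_tensorProduct_of_faithfullyFlat Γ(Z, ⊤)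

/-- Descent of finite presentation along a flat morphism from an affine scheme onto an affine
open. -/
theorem module_finitePresentation_of_pullback_of_isAffine (g : Z ⟶ X) [IsAffine Z] [Flat g]
    (M : X.Modules) [M.IsQuasicoherent] {V : X.Opens} (hV : IsAffineOpen V)
    (e : (⊤ : Z.Opens) ≤ g ⁻¹ᵁ V) (hsurj : ∀ v ∈ V, ∃ z, g z = v)
    [((Scheme.Modules.pullback g).obj M).IsFinitePresentation] :
    Module.FinitePresentation Γ(X, V) Γ(M, V) := by
  have hU : IsAffineOpen (⊤ : Z.Opens) := isAffineOpen_top Z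
  let _ := (g.appLE V ⊤ e).hom.toAlgebra
  have hff := faithfullyFlat_appLE_of_surjOn g hV e hsurj
  have hfin : Module.FinitePresentation Γ(Z, ⊤) Γ((Scheme.Modules.pullback g).obj M, ⊤) :=
    module_finitePresentation_of_isFinitePresentation _ hU
  have : Module.FinitePresentation Γ(Z, ⊤) (Γ(Z, ⊤) ⊗[Γ(X, V)] Γ(M, V)) :=
    Module.FinitePresentation.of_equiv (pullbackSectionsEquiv g M hU hV e)
  exact finitePresentation_of_faithfullyFlat Γ(Z, ⊤) Γ(M, V)

/-- For a quasi-compact surjective `f` and an affine open `V` of `X`, there is an affine scheme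
`Z` with a flat morphism `h : Z ⟶ X'` (a finite disjoint union of affine opens of `f⁻¹V`) such
that `h ≫ f` maps onto `V`. -/
theorem exists_affine_flat_cover (f : X' ⟶ X) [Surjective f] [QuasiCompact f]
    {V : X.Opens} (hV : IsAffineOpen V) :
    ∃ (Z : Scheme.{u}) (h : Z ⟶ X'), IsAffine Z ∧ Flat h ∧ (⊤ : Z.Opens) ≤ (h ≫ f) ⁻¹ᵁ V ∧
      ∀ v ∈ V, ∃ z, (h ≫ f) z = v := by
  have hW : IsCompact ((f ⁻¹ᵁ V : X'.Opens) : Set X') :=
    QuasiCompact.isCompact_preimage (f := f) _ V.2 hV.isCompact
  obtain ⟨n, U, hUaff, hUle, hcov⟩ := exists_finite_affine_cover hW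
  let Zi : ULift.{u} (Fin n) → Scheme.{u} := fun i => ((U i.down : X'.Opens) : Scheme.{u})
  have hZi : ∀ i, IsAffine (Zi i) := fun i => hUaff i.down
  let h : (∐ Zi) ⟶ X' := Sigma.desc (fun i => (U i.down).ι)
  have hpt : ∀ z : ↥(∐ Zi), ∃ (i : ULift.{u} (Fin n)) (y : Zi i), Sigma.ι Zi i y = z :=
    fun z => by
      obtain ⟨⟨i, y⟩, rfl⟩ := (sigmaMk Zi).surjective z
      exact ⟨i, y, (sigmaMk_mk Zi i y).symm⟩
  have hι : ∀ (i : ULift.{u} (Fin n)) (y : Zi i), h (Sigma.ι Zi i y) = (U i.down).ι y :=
    fun i y => by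
      rw [← Scheme.Hom.comp_apply, Sigma.ι_desc]
  refine ⟨∐ Zi, h, inferInstance, inferInstance, ?_, ?_⟩
  · intro z _
    obtain ⟨i, y, rfl⟩ := hpt z
    change (h ≫ f) (Sigma.ι Zi i y) ∈ V
    rw [Scheme.Hom.comp_apply, hι]
    exact hUle i.down y.2
  · intro v hv
    obtain ⟨x', rfl⟩ := f.surjective v
    obtain ⟨i, hi⟩ := Opens.mem_iSup.mp (hcov (show x' ∈ f ⁻¹ᵁ V from hv))
    refine ⟨Sigma.ι Zi ⟨i⟩ ⟨x', hi⟩, ?_⟩
    rw [Scheme.Hom.comp_apply, hι]
    rfl

theorem isFiniteType_of_iso {Y : Scheme.{u}} {M N : Y.Modules} (e : M ≅ N) [M.IsQuasicoherent]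
    [M.IsFiniteType] : N.IsFiniteType :=
  have : N.IsQuasicoherent := isQuasicoherent_of_iso e
  isFiniteType_of_epi e.hom

/-- Descent of finite type along a flat, surjective, quasi-compact morphism. -/
theorem isFiniteType_of_pullback (f : X' ⟶ X) [Flat f] [Surjective f] [QuasiCompact f]
    (M : X.Modules) [M.IsQuasicoherent] [((Scheme.Modules.pullback f).obj M).IsFiniteType] :
    M.IsFiniteType := by
  rw [isFiniteType_iff_forall_module_finite]
  intro V hV
  obtain ⟨Z, h, hZ, hflat, hle, hsurj⟩ := exists_affine_flat_cover f hV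
  have e : (Scheme.Modules.pullback h).obj ((Scheme.Modules.pullback f).obj M) ≅
      (Scheme.Modules.pullback (h ≫ f)).obj M := (Scheme.Modules.pullbackComp h f).app M
  have : ((Scheme.Modules.pullback (h ≫ f)).obj M).IsFiniteType := isFiniteType_of_iso e
  exact module_finite_of_pullback_of_isAffine (h ≫ f) M hV hle hsurj

/-- Descent of finite presentation along a flat, surjective, quasi-compact morphism. -/
theorem isFinitePresentation_of_pullback (f : X' ⟶ X) [Flat f] [Surjective f] [QuasiCompact f]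
    (M : X.Modules) [M.IsQuasicoherent]
    [((Scheme.Modules.pullback f).obj M).IsFinitePresentation] :
    M.IsFinitePresentation := by
  refine isFinitePresentation_of_module_finitePresentation M
    (fun V : X.affineOpens => (V : X.Opens)) (isOpenCover_affineOpens X) (fun V => V.2)
    (fun V => ?_)
  obtain ⟨Z, h, hZ, hflat, hle, hsurj⟩ := exists_affine_flat_cover f V.2
  have e : (Scheme.Modules.pullback h).obj ((Scheme.Modules.pullback f).obj M) ≅
      (Scheme.Modules.pullback (h ≫ f)).obj M := (Scheme.Modules.pullbackComp h f).app M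
  have h1 : ((Scheme.Modules.pullback h).obj
      ((Scheme.Modules.pullback f).obj M)).IsFinitePresentation := inferInstance
  have : ((Scheme.Modules.pullback (h ≫ f)).obj M).IsFinitePresentation :=
    (SheafOfModules.isFinitePresentation Z.ringCatSheaf).prop_of_iso e h1
  exact module_finitePresentation_of_pullback_of_isAffine (h ≫ f) M V.2 hle hsurj

end Groth.Agent.Lib.Helper29.QCoh
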