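import Groth.Agent.Lib.Helper29.Dual4
import Groth.Agent.Lib.Helper3.QCAlgFT
universe u
open CategoryTheory CategoryTheory.Limits AlgebraicGeometry TopologicalSpace Opposite

/-! # Transfer of the resolution property along morphisms -/

namespace Groth.Agent.Lib.Helper29.QCoh.Res
open Groth.Agent.Lib.Helper29.QCoh Groth.Agent.Lib.Helper3

variable {X Y : Scheme.{u}}

/-- A finite coproduct of finite locally free modules is finite locally free. -/
theorem isFinLocFree_sigma {J : Type u} [Fintype J] (E : J → X.Modules)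
    (hE : ∀ j, FlatMod.IsFinLocFree (E j)) : FlatMod.IsFinLocFree (∐ E) := by
  rw [isFinLocFree_iff_isFreeAlong]
  intro x
  have h1 : ∀ j, ∃ (U : X.Opens) (n : ℕ), x ∈ U ∧ IsFreeAlong (E j) U.ι n := fun j => by
    have := hE j
    rw [isFinLocFree_iff_isFreeAlong] at this
    exact this x
  choose U n hxU hfree using h1
  let V : X.Opens := ⟨⋂ j, (U j : Set X), isOpen_iInter_of_finite fun j => (U j).2⟩
  have hV : ∀ j, V ≤ U j := fun j y hy => Set.mem_iInter.mp hy j
  refine ⟨V, Fintype.card (Σ j, Fin (n j)), Set.mem_iInter.mpr hxU, ?_⟩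
  have h2 : ∀ j, IsFreeAlong (E j) V.ι (n j) := fun j =>
    (hfree j).of_range_subset V.ι (by
      rw [Scheme.Opens.range_ι, Scheme.Opens.range_ι]
      exact hV j)
  have e : ∀ j, (Scheme.Modules.pullback V.ι).obj (E j) ≅
      ∐ fun _ : Fin (n j) => unitM (V : Scheme.{u}) := fun j => (h2 j).some
  refine ⟨PreservesCoproduct.iso (Scheme.Modules.pullback V.ι) E ≪≫ Sigma.mapIso e ≪≫
    sigmaSigmaIso (fun j => Fin (n j)) (fun _ _ => unitM (V : Scheme.{u})) ≪≫
    Sigma.whiskerEquiv (f := fun _ : (Σ j, Fin (n j)) => unitM (V : Scheme.{u}))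
      (g := fun _ : Fin (Fintype.card (Σ j, Fin (n j))) => unitM (V : Scheme.{u}))
      (Fintype.equivFin (Σ j, Fin (n j))) (fun _ => Iso.refl _)⟩

/-- **Transfer of the resolution property**: if `Y` is quasi-compact quasi-separated with the
resolution property, `f_* M` is quasi-coherent and `M` is, locally over `Y`, generated by finitely
many sections over preimages of affine opens, then `M` is a quotient of `f^* E` with `E` finite
locally free on `Y`. -/
theorem exists_epi_pullback_of_hasResolutionProperty [CompactSpace Y] [QuasiSeparatedSpace Y]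
    [CompactSpace X] (f : X ⟶ Y) (hY : PerfAux.HasResolutionProperty Y) (M : X.Modules)
    [((Scheme.Modules.pushforward f).obj M).IsQuasicoherent]
    (hgen : ∀ x : X, ∃ (V : Y.Opens) (_ : IsAffineOpen V) (_ : x ∈ f ⁻¹ᵁ V) (r : ℕ)
      (σ : Fin r → Γ(M, f ⁻¹ᵁ V)), ∀ (x' : X) (hx' : x' ∈ f ⁻¹ᵁ V),
        Submodule.span (X.presheaf.stalk x')
          (Set.range fun a => M.presheaf.germ (f ⁻¹ᵁ V) x' hx' (σ a)) = ⊤) :
    ∃ (E : Y.Modules) (π : (Scheme.Modules.pullback f).obj E ⟶ M),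
      FlatMod.IsFinLocFree E ∧ Epi π := by
  classical
  choose V hV hxV r σ hσ using hgen
  obtain ⟨T, hT⟩ := isCompact_univ.elim_finite_subcover
    (fun x : X => ((f ⁻¹ᵁ V x : X.Opens) : Set X)) (fun x => (f ⁻¹ᵁ V x).2)
    (fun y _ => Set.mem_iUnion.mpr ⟨y, hxV y⟩)
  have hTcov : ∀ y : X, ∃ x ∈ T, y ∈ f ⁻¹ᵁ V x := by
    intro y
    have := hT (Set.mem_univ y)
    simp only [Set.mem_iUnion] at this
    obtain ⟨x, hxT, hy⟩ := this
    exact ⟨x, hxT, hy⟩
  let K := Σ x : T, Fin (r x.1)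
  let F := (Scheme.Modules.pushforward f).obj M
  have hK : ∀ c : K, ∃ Kc : SubSh F, Kc.toModules.IsQuasicoherent ∧ Kc.toModules.IsFiniteType ∧
      (show Γ(F, V c.1.1) from σ c.1.1 c.2) ∈ Kc.carrier (V c.1.1) :=
    fun c => hasFTThrough_of_qcqs F (V c.1.1) (hV c.1.1) _
  choose Kc hKq hKft hKmem using hK
  have hE : ∀ c : K, ∃ (E : Y.Modules) (p : E ⟶ (Kc c).toModules), FlatMod.IsFinLocFree E ∧ Epi p :=
    fun c => hY _ (hKq c) (hKft c)
  choose E p hEfree hp using hE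
  let ψ : ∀ c : K, E c ⟶ F := fun c => p c ≫ (Kc c).ι
  let Ψ : (∐ E) ⟶ F := Sigma.desc ψ
  refine ⟨∐ E, (Scheme.Modules.pullback f).map Ψ ≫
    (Scheme.Modules.pullbackPushforwardAdjunction f).counit.app M,
    isFinLocFree_sigma E hEfree, ?_⟩
  apply epi_of_forall_stalkMapRange_eq_top
  intro y
  obtain ⟨x, hxT, hy⟩ := hTcov y
  rw [eq_top_iff, ← hσ x y hy, Submodule.span_le]
  rintro _ ⟨a, rfl⟩
  let c : K := ⟨⟨x, hxT⟩, a⟩
  have := hp c
  obtain ⟨g, hyg, t, ht⟩ := exists_local_lift (p c) (hV x)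
    ((Kc c).mkSec (V x) (show Γ(F, V x) from σ x a) (hKmem c)) (f y) hy
  let W : Y.Opens := Y.basicOpen g
  have hWV : W ≤ V x := Y.basicOpen_le g
  refine ⟨((Scheme.Modules.pullback f).obj (∐ E)).presheaf.germ (f ⁻¹ᵁ W) y hyg
    (pullSect f (∐ E) W ((Sigma.ι E c).app W t)), ?_⟩
  refine (stalkMap_germ _ y (f ⁻¹ᵁ W) hyg _).trans ?_
  rw [app_comp, pullSect_naturality, counit_app_pullSect]
  have h1 : Ψ.app W ((Sigma.ι E c).app W t) = (ψ c).app W t := by
    rw [← app_comp]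
    have h2 : Sigma.ι E c ≫ Ψ = ψ c := Sigma.ι_desc ψ c
    rw [h2]
  rw [h1]
  change M.presheaf.germ (f ⁻¹ᵁ W) y hyg ((Kc c).ι.app W ((p c).app W t)) = _
  rw [ht, app_res, SubSh.ι_app_mkSec]
  exact germ_res M (f.preimage_mono hWV) y hyg (σ x a)

end Groth.Agent.Lib.Helper29.QCoh.Res
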