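import Groth.Agent.Lib.Helper29.QCohExact
import Groth.Prelude.Def_Coh
import Mathlib.CategoryTheory.Sites.SheafCohomology.Basic
import Mathlib.Algebra.Homology.DerivedCategory.Ext.ExactSequences
universe u
open CategoryTheory CategoryTheory.Limits AlgebraicGeometry Opposite TopologicalSpace

namespace Groth.Agent.Lib.Helper29.QCoh

variable {X : Scheme.{u}}

/-- The image of a short exact sequence of `O_X`-modules in abelian sheaves is short exact. -/
theorem shortExact_map_toSheafAb (S : ShortComplex X.Modules) (hS : S.ShortExact) :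
    (S.map (toSheafAb X)).ShortExact := by
  have := hS.mono_f
  have := hS.epi_g
  exact hS.map (toSheafAb X)

/-- **Lemma H**: for a short exact sequence `0 → A → B → C → 0` of `O_X`-modules with
`H¹(X, A) = 0`, the map `Γ(X, B) → Γ(X, C)` is surjective. -/
theorem app_top_surjective_of_subsingleton_HH_one (S : ShortComplex X.Modules) (hS : S.ShortExact)
    [Subsingleton (Coh.HH X S.X₁ 1)] :
    Function.Surjective (S.g.val.app (op (⊤ : X.Opens))).hom := by
  intro c
  have hS' := shortExact_map_toSheafAb S hS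
  have hT : IsTerminal (⊤ : X.Opens) := isTerminalTop
  let x₃ : Sheaf.H (Coh.toAb S.X₃) 0 := (Sheaf.H.equiv₀ (Coh.toAb S.X₃) hT).symm c
  obtain ⟨x₂, hx₂⟩ := Abelian.Ext.covariant_sequence_exact₃ _ hS' x₃ (n₁ := 1) rfl
    (Subsingleton.elim (α := Coh.HH X S.X₁ 1) _ _)
  refine ⟨Sheaf.H.equiv₀ (Coh.toAb S.X₂) hT x₂, ?_⟩
  have := Sheaf.H.equiv₀_naturality (F := Coh.toAb S.X₂) (G := Coh.toAb S.X₃) hT
    ((toSheafAb X).map S.g) x₂
  have h2 : Sheaf.H.map ((toSheafAb X).map S.g) 0 x₂ = x₃ := hx₂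
  have h3 : (ConcreteCategory.hom (((toSheafAb X).map S.g).hom.app (op ⊤)))
      ((Sheaf.H.equiv₀ (Coh.toAb S.X₂) hT) x₂) = (Sheaf.H.equiv₀ (Coh.toAb S.X₃) hT) x₃ := by
    rw [← h2]; exact this
  simp only [x₃, AddEquiv.apply_symm_apply] at h3
  exact h3

/-- Middle exactness of `H¹` for a short exact sequence of modules: if `H¹` of both ends vanish, so
does `H¹` of the middle. -/
theorem subsingleton_HH_of_shortExact (S : ShortComplex X.Modules) (hS : S.ShortExact) (n : ℕ)
    [Subsingleton (Coh.HH X S.X₁ n)] [Subsingleton (Coh.HH X S.X₃ n)] :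
    Subsingleton (Coh.HH X S.X₂ n) := by
  have hS' := shortExact_map_toSheafAb S hS
  refine subsingleton_of_forall_eq 0 fun x₂ => ?_
  obtain ⟨x₁, hx₁⟩ := Abelian.Ext.covariant_sequence_exact₂ _ hS' (x₂ : Sheaf.H (Coh.toAb S.X₂) n)
    (Subsingleton.elim (α := Coh.HH X S.X₃ n) _ _)
  have : x₁ = 0 := Subsingleton.elim (α := Coh.HH X S.X₁ n) _ _
  rw [← hx₁, this]
  simp
  rfl

end Groth.Agent.Lib.Helper29.QCoh
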