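import Groth.Agent.Lib.Helper29.QCohRestrict
import Groth.Prelude.Def_CurvBase
universe u
open CategoryTheory CategoryTheory.Limits AlgebraicGeometry Opposite

namespace Groth.Agent.Lib.Helper29.QCoh

variable {X : Scheme.{u}}

/-- The point of an affine open `U` attached to a prime of `Γ(X, U)`, with its prime. -/
theorem exists_point_of_prime' {U : X.Opens} (hU : IsAffineOpen U) (y : Spec Γ(X, U)) :
    ∃ (x : X) (hx : x ∈ U), hU.primeIdealOf ⟨x, hx⟩ = y := by
  obtain ⟨x, hx, h⟩ := exists_point_of_prime hU y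
  refine ⟨x, hx, PrimeSpectrum.ext (Ideal.ext fun r => ?_)⟩
  rw [← not_iff_not, ← mem_basicOpen_iff_notMem_primeIdealOf hU x hx r]
  exact h r

/-- The annihilator ideal of a section. -/
noncomputable abbrev annSection (M : X.Modules) {U : X.Opens} (m : Γ(M, U)) : Ideal Γ(X, U) :=
  LinearMap.ker (LinearMap.toSpanSingleton Γ(X, U) Γ(M, U) m)

theorem mem_annSection (M : X.Modules) {U : X.Opens} (m : Γ(M, U)) (r : Γ(X, U)) :
    r ∈ annSection M m ↔ r • m = 0 := by
  rw [LinearMap.mem_ker, LinearMap.toSpanSingleton_apply]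

/-- The annihilator ideal of an element of a stalk. -/
noncomputable abbrev annStalk (M : X.Modules) {x : X} (t : M.presheaf.stalk x) :
    Ideal (X.presheaf.stalk x) :=
  LinearMap.ker (LinearMap.toSpanSingleton (X.presheaf.stalk x) (M.presheaf.stalk x) t)

theorem mem_annStalk (M : X.Modules) {x : X} (t : M.presheaf.stalk x) (r : X.presheaf.stalk x) :
    r ∈ annStalk M t ↔ r • t = 0 := by
  rw [LinearMap.mem_ker, LinearMap.toSpanSingleton_apply]

theorem map_annSection_le (M : X.Modules) {U : X.Opens} (m : Γ(M, U)) (x : X) (hx : x ∈ U) :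
    (annSection M m).map (X.presheaf.germ U x hx).hom ≤ annStalk M (M.presheaf.germ U x hx m) := by
  rw [Ideal.map_le_iff_le_comap]
  intro r hr
  rw [Ideal.mem_comap, mem_annStalk]
  rw [mem_annSection] at hr
  change X.presheaf.germ U x hx r • _ = 0
  rw [← germ_smul, hr, map_zero]

/-- If the prime of `x ∈ U` (`U` affine) is minimal over the annihilator of a section `m` of
a quasi-coherent module, then `x` is a weakly associated point, witnessed by the germ of `m`. -/
theorem isWeakAssPoint_of_mem_minimalPrimes (M : X.Modules) [M.IsQuasicoherent] {U : X.Opens}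
    (hU : IsAffineOpen U) (m : Γ(M, U)) (x : X) (hx : x ∈ U)
    (hp : (hU.primeIdealOf ⟨x, hx⟩).asIdeal ∈ (annSection M m).minimalPrimes) :
    Curv2.IsWeakAssPoint M x := by
  refine ⟨M.presheaf.germ U x hx m, le_antisymm ?_ ?_⟩
  · -- the annihilator is a proper ideal
    have hne : annStalk M (M.presheaf.germ U x hx m) ≠ ⊤ := by
      intro htop
      have h1 : (1 : X.presheaf.stalk x) ∈ annStalk M (M.presheaf.germ U x hx m) := by
        rw [htop]; trivial
      rw [mem_annStalk, one_smul, germ_eq_zero_iff M hU x hx] at h1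
      obtain ⟨r, hr, hrm⟩ := h1
      exact (mem_basicOpen_iff_notMem_primeIdealOf hU x hx r).mp hr
        (hp.1.2 ((mem_annSection M m r).mpr hrm))
    have hle := IsLocalRing.le_maximalIdeal hne
    exact (Ideal.IsPrime.radical_le_iff inferInstance).mpr hle
  · let _ : Algebra Γ(X, U) (X.presheaf.stalk x) :=
      TopCat.Presheaf.algebra_section_stalk X.presheaf ⟨x, hx⟩
    have hloc := hU.isLocalization_stalk ⟨x, hx⟩
    have h1 := IsLocalization.AtPrime.radical_map_of_mem_minimalPrimes (A := X.presheaf.stalk x)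
      (hU.primeIdealOf ⟨x, hx⟩).asIdeal (annSection M m) hp
    have h2 : Ideal.map (algebraMap Γ(X, U) (X.presheaf.stalk x))
        (hU.primeIdealOf ⟨x, hx⟩).asIdeal = IsLocalRing.maximalIdeal (X.presheaf.stalk x) :=
      IsLocalization.AtPrime.map_eq_maximalIdeal _ _
    rw [← h2, ← h1]
    exact Ideal.radical_mono (map_annSection_le M m x hx)

theorem annStalk_eq_colon (M : X.Modules) {x : X} (t : M.presheaf.stalk x) :
    annStalk M t = (⊥ : Submodule (X.presheaf.stalk x) (M.presheaf.stalk x)).colon {t} := by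
  ext r
  rw [mem_annStalk, Submodule.mem_colon_singleton, Submodule.mem_bot]

/-- With Mathlib's (radical) definition of associated primes, associated points and weakly
associated points coincide. -/
theorem isAssPoint_iff_isWeakAssPoint (M : X.Modules) (x : X) :
    Curv2.IsAssPoint M x ↔ Curv2.IsWeakAssPoint M x := by
  constructor
  · rintro ⟨_, t, ht⟩
    exact ⟨t, by rw [← annStalk_eq_colon] at ht; exact ht.symm⟩
  · rintro ⟨t, ht⟩
    refine ⟨inferInstance, t, ?_⟩
    rw [← annStalk_eq_colon]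
    exact ht.symm

/-- A nonzero quasi-coherent module has a weakly associated point. -/
theorem exists_isWeakAssPoint_of_not_isZero (M : X.Modules) [M.IsQuasicoherent]
    (hM : ¬ IsZero M) : ∃ x : X, Curv2.IsWeakAssPoint M x := by
  rw [isZero_iff_stalk_subsingleton, not_forall] at hM
  obtain ⟨x₀, hx₀⟩ := hM
  obtain ⟨U, hU, hx₀U, -⟩ := exists_isAffineOpen_mem_and_subset (x := x₀) (U := ⊤) trivial
  rw [stalk_subsingleton_iff_germ M hU x₀ hx₀U, not_forall] at hx₀
  obtain ⟨m, hm⟩ := hx₀
  have hI : annSection M m ≠ ⊤ := by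
    intro htop
    have h1 : (1 : Γ(X, U)) ∈ annSection M m := by rw [htop]; trivial
    rw [mem_annSection, one_smul] at h1
    exact hm (by rw [h1, map_zero])
  obtain ⟨P, hP, hIP⟩ := Ideal.exists_le_maximal _ hI
  obtain ⟨p, hp, -⟩ := Ideal.exists_minimalPrimes_le (J := P) hIP
  have hpp : p.IsPrime := hp.1.1
  obtain ⟨x, hx, hxp⟩ := exists_point_of_prime' hU ⟨p, hpp⟩
  refine ⟨x, isWeakAssPoint_of_mem_minimalPrimes M hU m x hx ?_⟩
  rw [hxp]
  exact hp

theorem not_isWeakAssPoint_of_subsingleton (M : X.Modules) (x : X)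
    [Subsingleton (M.presheaf.stalk x)] : ¬ Curv2.IsWeakAssPoint M x := by
  rintro ⟨t, ht⟩
  have h1 : (1 : X.presheaf.stalk x) ∈ annStalk M t := by
    rw [mem_annStalk]; exact Subsingleton.elim _ _
  have h2 : annStalk M t = ⊤ := (Ideal.eq_top_iff_one _).mpr h1
  have h3 : (IsLocalRing.maximalIdeal (X.presheaf.stalk x)) = ⊤ := by
    rw [← ht]
    change (annStalk M t).radical = ⊤
    rw [h2, Ideal.radical_top]
  exact (IsLocalRing.maximalIdeal.isMaximal _).ne_top h3

/-- A quasi-coherent module is zero iff it has no weakly associated points. -/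
theorem isZero_iff_forall_not_isWeakAssPoint (M : X.Modules) [M.IsQuasicoherent] :
    IsZero M ↔ ∀ x : X, ¬ Curv2.IsWeakAssPoint M x := by
  constructor
  · intro h x
    have := (isZero_iff_stalk_subsingleton M).mp h x
    exact not_isWeakAssPoint_of_subsingleton M x
  · intro h
    by_contra hM
    obtain ⟨x, hx⟩ := exists_isWeakAssPoint_of_not_isZero M hM
    exact h x hx

theorem annSection_ne_top (M : X.Modules) {U : X.Opens} (m : Γ(M, U)) (hm : m ≠ 0) :
    annSection M m ≠ ⊤ := by
  intro htop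
  have h1 : (1 : Γ(X, U)) ∈ annSection M m := by rw [htop]; trivial
  rw [mem_annSection, one_smul] at h1
  exact hm h1

theorem annSection_le_primeIdealOf (M : X.Modules) [M.IsQuasicoherent] {U : X.Opens}
    (hU : IsAffineOpen U) (m : Γ(M, U)) (x : X) (hx : x ∈ U)
    (hm : M.presheaf.germ U x hx m ≠ 0) :
    annSection M m ≤ (hU.primeIdealOf ⟨x, hx⟩).asIdeal := by
  intro r hr
  by_contra hrp
  apply hm
  rw [germ_eq_zero_iff M hU x hx]
  exact ⟨r, (mem_basicOpen_iff_notMem_primeIdealOf hU x hx r).mpr hrp,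
    (mem_annSection M m r).mp hr⟩

theorem germ_ne_zero_of_annSection_le (M : X.Modules) [M.IsQuasicoherent] {U : X.Opens}
    (hU : IsAffineOpen U) (m : Γ(M, U)) (x : X) (hx : x ∈ U)
    (h : annSection M m ≤ (hU.primeIdealOf ⟨x, hx⟩).asIdeal) :
    M.presheaf.germ U x hx m ≠ 0 := by
  intro h0
  rw [germ_eq_zero_iff M hU x hx] at h0
  obtain ⟨r, hr, hrm⟩ := h0
  exact (mem_basicOpen_iff_notMem_primeIdealOf hU x hx r).mp hr
    (h ((mem_annSection M m r).mpr hrm))

/-- Specialization of points of an affine open in terms of their primes. -/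
theorem specializes_of_primeIdealOf_le {U : X.Opens} (hU : IsAffineOpen U) (x y : X)
    (hx : x ∈ U) (hy : y ∈ U)
    (h : (hU.primeIdealOf ⟨y, hy⟩).asIdeal ≤ (hU.primeIdealOf ⟨x, hx⟩).asIdeal) : y ⤳ x := by
  have h1 : hU.primeIdealOf ⟨y, hy⟩ ⤳ hU.primeIdealOf ⟨x, hx⟩ :=
    (PrimeSpectrum.le_iff_specializes _ _).mp h
  have h2 := h1.map hU.fromSpec.continuous
  rwa [hU.fromSpec_primeIdealOf, hU.fromSpec_primeIdealOf] at h2

/-- For a section `m` of a quasi-coherent module over an affine open with nonzero germ at `x`,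
there is a weakly associated point `y` generalizing `x` at which the germ of `m` is nonzero. -/
theorem exists_isWeakAssPoint_specializes (M : X.Modules) [M.IsQuasicoherent] {U : X.Opens}
    (hU : IsAffineOpen U) (m : Γ(M, U)) (x : X) (hx : x ∈ U)
    (hm : M.presheaf.germ U x hx m ≠ 0) :
    ∃ (y : X) (hy : y ∈ U), y ⤳ x ∧ Curv2.IsWeakAssPoint M y ∧
      M.presheaf.germ U y hy m ≠ 0 := by
  have hle := annSection_le_primeIdealOf M hU m x hx hm
  obtain ⟨q, hq, hqp⟩ := Ideal.exists_minimalPrimes_le hle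
  have hqq : q.IsPrime := hq.1.1
  obtain ⟨y, hy, hyq⟩ := exists_point_of_prime' hU ⟨q, hqq⟩
  have hq' : (hU.primeIdealOf ⟨y, hy⟩).asIdeal ∈ (annSection M m).minimalPrimes := by
    rw [hyq]; exact hq
  refine ⟨y, hy, specializes_of_primeIdealOf_le hU x y hx hy (by rw [hyq]; exact hqp),
    isWeakAssPoint_of_mem_minimalPrimes M hU m y hy hq', ?_⟩
  exact germ_ne_zero_of_annSection_le M hU m y hy hq'.1.2

/-- A section of a quasi-coherent module vanishing on an open containing all weakly associated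
points is zero. -/
theorem eq_zero_of_res_eq_zero_of_weakAss_subset (M : X.Modules) [M.IsQuasicoherent]
    {W U : X.Opens} (hUW : U ≤ W) (hU : ∀ x : X, x ∈ W → Curv2.IsWeakAssPoint M x → x ∈ U)
    (s : Γ(M, W)) (hs : res M hUW s = 0) : s = 0 := by
  apply eq_zero_of_germ_eq_zero
  intro x hxW
  by_contra hne
  obtain ⟨V, hV, hxV, hVW⟩ := exists_isAffineOpen_mem_and_subset (x := x) (U := W) hxW
  have hVW' : V ≤ W := hVW
  have h1 : M.presheaf.germ V x hxV (res M hVW' s) ≠ 0 := by rwa [germ_res]
  obtain ⟨y, hyV, -, hyass, hyne⟩ := exists_isWeakAssPoint_specializes M hV _ x hxV h1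
  have hyU : y ∈ U := hU y (hVW' hyV) hyass
  apply hyne
  rw [germ_res, ← germ_res M hUW y hyU, hs, map_zero]

end Groth.Agent.Lib.Helper29.QCoh
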