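import Groth.Agent.Lib.Helper29.TildeRestrict
import Groth.Agent.Lib.Helper29.IsoCover
import Groth.Agent.Lib.Helper29.QCohPullback
import Groth.Agent.Lib.Helper29.QCohDescent
universe u
open CategoryTheory CategoryTheory.Limits AlgebraicGeometry Opposite TopologicalSpace

/-! # Coherent modules on opens of an affine Noetherian scheme -/

namespace Groth.Agent.Lib.Helper29.QCoh

section TildeFin
variable {R : CommRingCat.{u}}

theorem isFiniteType_tilde (M : ModuleCat.{u} R) [Module.Finite R M] : (tilde M).IsFiniteType := by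
  refine isFiniteType_of_module_finite (tilde M) (fun _ : PUnit.{u+1} => (⊤ : (Spec R).Opens))
    (IsOpenCover.mk (by simp)) (fun _ => isAffineOpen_top _) (fun _ => ?_)
  haveI : Module.Finite R Γ(tilde M, ⊤) :=
    Module.Finite.equiv (tilde.isoTop M).toLinearEquiv
  exact Module.Finite.of_restrictScalars_finite R _ _

theorem isFiniteType_tilde_restrict (M : ModuleCat.{u} R) [Module.Finite R M] (V : (Spec R).Opens) :
    ((tilde M).restrict V.ι).IsFiniteType := by
  haveI := isFiniteType_tilde M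
  exact isFiniteType_of_iso ((Scheme.Modules.restrictFunctorIsoPullback V.ι).app (tilde M)).symm

/-- Pure algebra: a map between localizations induced by an injective map is injective, and
surjective as soon as the target is generated up to powers of `g` by the image. -/
theorem bijective_of_isLocalizedModule {A : Type*} [CommRing A] (g : A) {M M' N N' : Type*}
    [AddCommGroup M] [AddCommGroup M'] [AddCommGroup N] [AddCommGroup N'] [Module A M] [Module A M']
    [Module A N] [Module A N'] (ι : M →ₗ[A] M') (hι : Function.Injective ι)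
    (ℓ : M →ₗ[A] N) (ℓ' : M' →ₗ[A] N') [IsLocalizedModule (Submonoid.powers g) ℓ]
    [IsLocalizedModule (Submonoid.powers g) ℓ'] (ψ : N →ₗ[A] N') (hψ : ∀ m, ψ (ℓ m) = ℓ' (ι m))
    (hgen : ∀ y : N', ∃ (e : ℕ) (x : M), g ^ e • y = ℓ' (ι x)) : Function.Bijective ψ := by
  constructor
  · rw [injective_iff_map_eq_zero]
    intro z hz
    obtain ⟨⟨m, ⟨_, e, rfl⟩⟩, hm⟩ := IsLocalizedModule.surj (Submonoid.powers g) ℓ z
    simp only at hm
    have h1 : ℓ' (ι m) = 0 := by
      rw [← hψ, ← hm]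
      change ψ (g ^ e • z) = 0
      rw [map_smul, hz, smul_zero]
    obtain ⟨⟨_, k, rfl⟩, hk⟩ := (IsLocalizedModule.eq_zero_iff (Submonoid.powers g) ℓ').1 h1
    have h2 : g ^ k • m = 0 := by
      apply hι
      rw [map_smul, map_zero]
      exact hk
    have h3 : ℓ m = 0 :=
      (IsLocalizedModule.eq_zero_iff (Submonoid.powers g) ℓ).2 ⟨⟨g ^ k, k, rfl⟩, h2⟩
    rw [h3] at hm
    exact IsLocalizedModule.smul_injective ℓ (⟨g ^ e, e, rfl⟩ : Submonoid.powers g)
      (by show _ • z = _ • (0 : N); rw [smul_zero]; exact hm)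
  · intro y
    obtain ⟨e, x, hx⟩ := hgen y
    refine ⟨IsLocalizedModule.mk' ℓ x (⟨g ^ e, e, rfl⟩ : Submonoid.powers g), ?_⟩
    apply IsLocalizedModule.smul_injective ℓ' (⟨g ^ e, e, rfl⟩ : Submonoid.powers g)
    change g ^ e • ψ _ = g ^ e • y
    rw [← map_smul, hx, ← hψ]
    congr 1
    exact IsLocalizedModule.mk'_cancel' ℓ x (⟨g ^ e, e, rfl⟩ : Submonoid.powers g)

theorem exists_pow_smul_eq_toOpen (M' : ModuleCat.{u} R) (U' : (Spec R).Opens) (g : R)
    (e : U' = PrimeSpectrum.basicOpen g) (s : Γ(tilde M', U')) :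
    ∃ (n : ℕ) (x : M'), g ^ n • s = (tilde.toOpen M' U').hom x := by
  subst e
  obtain ⟨⟨x, ⟨_, n, rfl⟩⟩, hx⟩ := IsLocalizedModule.surj (Submonoid.powers g)
    (tilde.toOpen M' (PrimeSpectrum.basicOpen g)).hom s
  exact ⟨n, x, hx⟩

theorem exists_pow_smul_eq_algebraMap (U' : (Spec R).Opens) (g : R)
    (e : U' = PrimeSpectrum.basicOpen g) (r : Γ(Spec R, U')) :
    ∃ (n : ℕ) (a : R), g ^ n • r = a • (1 : Γ(Spec R, U')) := by
  subst e
  obtain ⟨⟨a, ⟨_, n, rfl⟩⟩, ha⟩ := IsLocalization.surj (Submonoid.powers g) r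
  refine ⟨n, a, ?_⟩
  simp only at ha
  rw [Algebra.smul_def, Algebra.smul_def, mul_one, mul_comm]
  exact ha

/-- The sections of `M'~` over `U' = D(g)` which, up to a power of `g`, come from `N`. -/
def fracSubmodule {M' N : ModuleCat.{u} R} (ι : N ⟶ M') (U' : (Spec R).Opens) (g : R)
    (e : U' = PrimeSpectrum.basicOpen g) :
    Submodule Γ(Spec R, U') Γ(tilde M', U') where
  carrier := {y | ∃ (n : ℕ) (x : N), g ^ n • y = (tilde.toOpen M' U').hom (ι.hom x)}
  zero_mem' := ⟨0, 0, by simp; rfl⟩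
  add_mem' := by
    rintro y y' ⟨n, x, hx⟩ ⟨n', x', hx'⟩
    refine ⟨n + n', g ^ n' • x + g ^ n • x', ?_⟩
    rw [smul_add, pow_add]
    conv_lhs => rw [mul_comm, mul_smul, hx, mul_comm, mul_smul, hx']
    simp only [map_add, map_smul]
    rfl
  smul_mem' := by
    rintro r y ⟨n, x, hx⟩
    obtain ⟨k, a, ha⟩ := exists_pow_smul_eq_algebraMap U' g e r
    refine ⟨k + n, a • x, ?_⟩
    have h1 : g ^ (k + n) • (r • y) = (g ^ k • r) • (g ^ n • y) := by
      rw [pow_add, mul_smul, smul_comm (g ^ n) r y, smul_assoc]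
    rw [h1, ha, hx, smul_assoc, one_smul]
    simp only [map_smul]
    rfl

theorem tilde_map_app_bijective {M' N : ModuleCat.{u} R} (ι : N ⟶ M')
    (hι : Function.Injective ι.hom)
    (U' : (Spec R).Opens) (g : R) (e : U' = PrimeSpectrum.basicOpen g)
    (htop : fracSubmodule ι U' g e = ⊤) :
    Function.Bijective ((tilde.map ι).app U') := by
  have hgen : ∀ y : Γ(tilde M', U'), ∃ (n : ℕ) (x : N),
      g ^ n • y = (tilde.toOpen M' U').hom (ι.hom x) := fun y => by
    have : y ∈ fracSubmodule ι U' g e := by rw [htop]; trivial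
    exact this
  subst e
  exact bijective_of_isLocalizedModule g ι.hom hι
    (tilde.toOpen N (PrimeSpectrum.basicOpen g)).hom
    (tilde.toOpen M' (PrimeSpectrum.basicOpen g)).hom
    ((modulesSpecToSheaf.map (tilde.map ι)).1.app
      (op (PrimeSpectrum.basicOpen g))).hom
    (fun m => congr(($(tilde.toOpen_map_app ι (PrimeSpectrum.basicOpen g))).hom m))
    hgen

theorem exists_finset_basicOpen_cover (V : (Spec R).Opens) (hV : IsCompact (V : Set (Spec R))) :
    ∃ t : Finset R, (∀ g ∈ t, PrimeSpectrum.basicOpen g ≤ V) ∧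
      ∀ x ∈ V, ∃ g ∈ t, x ∈ PrimeSpectrum.basicOpen g := by
  obtain ⟨t, ht⟩ := PrimeSpectrum.isCompact_isOpen_iff.1 ⟨hV, V.2⟩
  refine ⟨t, fun g hg x hx => ?_, fun x hx => ?_⟩
  · have : x ∈ (PrimeSpectrum.zeroLocus (t : Set R))ᶜ := by
      intro hx'
      exact hx (hx' hg)
    rw [ht] at this
    exact this
  · have hx' : x ∈ (PrimeSpectrum.zeroLocus (t : Set R))ᶜ := by rw [ht]; exact hx
    have hx'' : ¬ ((t : Set R) ⊆ (x : PrimeSpectrum R).asIdeal) := fun h => hx' h
    rw [Set.not_subset] at hx''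
    obtain ⟨g, hg, hgx⟩ := hx''
    exact ⟨g, hg, hgx⟩

theorem image_preimage_basicOpen (V : (Spec R).Opens) (g : R)
    (hg : PrimeSpectrum.basicOpen g ≤ V) :
    V.ι ''ᵁ (V.ι ⁻¹ᵁ (PrimeSpectrum.basicOpen g : (Spec R).Opens)) = PrimeSpectrum.basicOpen g := by
  rw [Scheme.Hom.image_preimage_eq_opensRange_inf, Scheme.Opens.opensRange_ι]
  exact inf_eq_right.2 hg

theorem eq_top_of_restrict_span_eq_top {X Y : Scheme.{u}} (j : Y ⟶ X) [IsOpenImmersion j]
    (M : X.Modules) (W : Y.Opens)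
    (P : Submodule Γ(X, j ''ᵁ W) Γ(M, j ''ᵁ W)) (S : Set Γ(M.restrict j, W))
    (hS : ∀ s ∈ S, (show Γ(M, j ''ᵁ W) from s) ∈ P)
    (hspan : Submodule.span Γ(Y, W) S = ⊤) : P = ⊤ := by
  rw [eq_top_iff]
  intro y _
  have hy : (show Γ(M.restrict j, W) from y) ∈ Submodule.span Γ(Y, W) S := by
    rw [hspan]; trivial
  have key : ∀ z : Γ(M.restrict j, W), z ∈ Submodule.span Γ(Y, W) S →
      (show Γ(M, j ''ᵁ W) from z) ∈ P := by
    intro z hz
    induction hz using Submodule.span_induction with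
    | mem s hs => exact hS s hs
    | zero => exact P.zero_mem
    | add a b _ _ ha hb => exact P.add_mem ha hb
    | smul b a _ ha =>
      have h1 := restrict_smul j M W b a
      show (HSMul.hSMul (α := Γ(Y, W)) (β := Γ(M.restrict j, W)) b a : Γ(M, j ''ᵁ W)) ∈ P
      rw [h1]
      exact P.smul_mem _ ha
  exact key y hy

/-- A quasi-coherent module of finite type on a quasi-compact open `V` of `Spec R` is the
restriction of `N~` for a finitely generated `R`-module `N`. -/
theorem exists_finite_iso_tilde_restrict (V : (Spec R).Opens)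
    (hV : IsCompact (V : Set (Spec R))) (F : (V : Scheme.{u}).Modules) [F.IsQuasicoherent]
    [F.IsFiniteType] :
    ∃ N : ModuleCat.{u} R, Module.Finite R N ∧ Nonempty (F ≅ (tilde N).restrict V.ι) := by
  classical
  obtain ⟨M', ⟨α⟩⟩ := exists_iso_tilde_restrict V hV F
  haveI hGq : ((tilde M').restrict V.ι).IsQuasicoherent := isQuasicoherent_of_iso α
  haveI hGf : ((tilde M').restrict V.ι).IsFiniteType := isFiniteType_of_iso α
  obtain ⟨t, ht1, ht2⟩ := exists_finset_basicOpen_cover V hV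
  -- the affine cover
  let W : t → (V : Scheme.{u}).Opens := fun g =>
    V.ι ⁻¹ᵁ (PrimeSpectrum.basicOpen g.1 : (Spec R).Opens)
  have he : ∀ g : t, V.ι ''ᵁ W g = PrimeSpectrum.basicOpen g.1 := fun g =>
    image_preimage_basicOpen V g.1 (ht1 g.1 g.2)
  have haff : ∀ g : t, IsAffineOpen (W g) := fun g => by
    rw [← V.ι.isAffineOpen_iff_of_isOpenImmersion, he g]
    exact IsAffineOpen.Spec_basicOpen g.1
  have hcov : ∀ x : (V : Scheme.{u}), ∃ g : t, x ∈ W g := fun x => by
    obtain ⟨g, hg, hx⟩ := ht2 (V.ι x) x.2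
    exact ⟨⟨g, hg⟩, hx⟩
  have hfin : ∀ g : t, Module.Finite Γ((V : Scheme.{u}), W g) Γ((tilde M').restrict V.ι, W g) :=
    fun g => module_finite_of_isFiniteType _ (haff g)
  choose S hS using fun g => (hfin g).fg_top
  choose n x hx using fun (g : t) (s : Γ((tilde M').restrict V.ι, W g)) =>
    exists_pow_smul_eq_toOpen M' (V.ι ''ᵁ W g) g.1 (he g) s
  -- the finitely generated submodule
  let T : Set M' := ⋃ g : t, (fun s => x g s) '' (S g : Set _)
  have hT : T.Finite := Set.finite_iUnion fun g => (S g).finite_toSet.image _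
  let N : Submodule R M' := Submodule.span R T
  haveI : Module.Finite R N := Module.Finite.span_of_finite R hT
  let ι : ModuleCat.of R N ⟶ M' := ModuleCat.ofHom N.subtype
  have hι : Function.Injective ι.hom := Subtype.val_injective
  have htop : ∀ g : t, fracSubmodule ι (V.ι ''ᵁ W g) g.1 (he g) = ⊤ := by
    intro g
    refine eq_top_of_restrict_span_eq_top V.ι (tilde M') (W g) _ (S g : Set _) ?_ (hS g)
    intro s hs
    refine ⟨n g s, ⟨x g s, Submodule.subset_span (Set.mem_iUnion.2 ⟨g, s, hs, rfl⟩)⟩, ?_⟩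
    exact hx g s
  have hbij : ∀ g : t, Function.Bijective
      (((Scheme.Modules.restrictFunctor V.ι).map (tilde.map ι)).app (W g)) := fun g =>
    tilde_map_app_bijective ι hι (V.ι ''ᵁ W g) g.1 (he g) (htop g)
  haveI hNq : ((tilde (ModuleCat.of R N)).restrict V.ι).IsQuasicoherent := inferInstance
  haveI := isIso_of_app_bijective_of_affine_cover
    ((Scheme.Modules.restrictFunctor V.ι).map (tilde.map ι)) W haff hcov hbij
  exact ⟨ModuleCat.of R N, ‹_›,
    ⟨α ≪≫ (asIso ((Scheme.Modules.restrictFunctor V.ι).map (tilde.map ι))).symm⟩⟩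

end TildeFin

end Groth.Agent.Lib.Helper29.QCoh
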