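import Groth.Agent.Lib.Helper29.VA5
universe u
open CategoryTheory CategoryTheory.Limits AlgebraicGeometry Opposite TopologicalSpace

/-! # Very ample implies relatively ample -/

namespace Groth.Agent.Lib.Helper29.QCoh

section
variable {X S : Scheme.{u}}

theorem isRelAmple_of_iso (f : X ⟶ S) {M M' : X.Modules} (e : M ≅ M')
    (h : RelAmple.IsRelAmple f M) : RelAmple.IsRelAmple f M' :=
  ⟨h.1, fun V => isAmple_of_iso ((Scheme.Modules.restrictFunctor (f ⁻¹ᵁ V.1).ι).mapIso e) (h.2 V)⟩

theorem isRelAmple_of_isAmple (f : X ⟶ S) [QuasiCompact f] {M : X.Modules}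
    (h : CohB1.IsAmple M) : RelAmple.IsRelAmple f M :=
  ⟨inferInstance, fun V => isAmple_restrict_of_isCompact h _
    (QuasiCompact.isCompact_preimage (f := f) _ V.1.2 V.2.isCompact)⟩

theorem isAmple_of_isRelAmple [IsAffine S] (f : X ⟶ S) {M : X.Modules}
    (h : RelAmple.IsRelAmple f M) : CohB1.IsAmple M :=
  (isAmple_restrict_iff_of_eq_top M (U := f ⁻¹ᵁ ⊤) (Scheme.Hom.preimage_top f)).mp
    (h.2 ⟨⊤, isAffineOpen_top S⟩)

theorem isRelAmple_twistOver (N : ℕ) (S : Scheme.{u}) :
    RelAmple.IsRelAmple (pullback.snd (CohB1.ProjSpace.toSpec N (ULift.{u} ℤ))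
      (specULiftZIsTerminal.from S)) (Twist.twistOver N S 1) := by
  have h1 : CohB1.IsAmple (Twist.twist (CohB1.polyGrading N (ULift.{u} ℤ)) 1) :=
    isAmple_twist_one_of_cover (projSpace_degree_one_cover N (ULift.{u} ℤ))
  have hqc : QuasiCompact (CohB1.ProjSpace.toSpec N (ULift.{u} ℤ)) := by
    have : CompactSpace (CohB1.ProjSpace N (ULift.{u} ℤ)) := compactSpace_projSpace N (ULift.{u} ℤ)
    infer_instance
  have h2 : RelAmple.IsRelAmple (CohB1.ProjSpace.toSpec N (ULift.{u} ℤ))
      (Twist.twist (CohB1.polyGrading N (ULift.{u} ℤ)) 1) := isRelAmple_of_isAmple _ h1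
  exact isRelAmple_baseChange (CohB1.ProjSpace.toSpec N (ULift.{u} ℤ))
    (specULiftZIsTerminal.from S) h2

/-- An invertible module that is very ample relative to a quasi-compact morphism (with respect to
some `P^N_S`) is relatively ample. -/
theorem isRelAmple_of_isRelVeryAmplePn (f : X ⟶ S) [QuasiCompact f] {M : X.Modules}
    (h : RelAmple.IsRelVeryAmplePn f M) : RelAmple.IsRelAmple f M := by
  obtain ⟨N, i, hi, hif, ⟨θ⟩⟩ := h
  have h1 := isRelAmple_twistOver N S
  haveI : QuasiCompact (i ≫ pullback.snd (CohB1.ProjSpace.toSpec N (ULift.{u} ℤ))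
      (specULiftZIsTerminal.from S)) := by rw [hif]; infer_instance
  have h2 := isRelAmple_pullback_of_isEmbedding _ i i.isEmbedding h1
  rw [hif] at h2
  exact isRelAmple_of_iso f θ.symm h2

end

end Groth.Agent.Lib.Helper29.QCoh
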