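import Groth.Agent.Lib.Helper29.RelAmple2
import Groth.Agent.Lib.Helper29.VA6
import Groth.Prelude.Def_RelProj
import Mathlib.AlgebraicGeometry.Morphisms.FiniteType
universe u
open CategoryTheory CategoryTheory.Limits AlgebraicGeometry Opposite TopologicalSpace

/-! # Quasi-projectivity of a coproduct -/

namespace Groth.Agent.Lib.Helper29.QCoh

section CP1
variable {X X' Y : Scheme.{u}}

theorem subsingleton_sections_bot (M : X.Modules) {U : X.Opens} (hU : U = ⊥) :
    Subsingleton Γ(M, U) := by
  subst hU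
  refine subsingleton_of_forall_eq 0 fun s => ?_
  exact eq_zero_of_res_cover_eq_zero M (fun e : PEmpty.{1} => e.elim) (fun e => e.elim)
    (by intro y hy; exact hy.elim) s (fun e => e.elim)

theorem isZero_of_forall_subsingleton (M : X.Modules) (h : ∀ U : X.Opens, Subsingleton Γ(M, U)) :
    IsZero M := by
  rw [IsZero.iff_id_eq_zero]
  ext U m
  exact (h U).elim _ _

/-- The restriction to the first summand of the direct image from the second summand vanishes. -/
theorem isZero_restrict_pushforward_of_disjoint {Z : Scheme.{u}} (j : X ⟶ Z) (j' : X' ⟶ Z)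
    [IsOpenImmersion j] [IsOpenImmersion j'] (hd : j.opensRange ⊓ j'.opensRange = ⊥)
    (M : X'.Modules) :
    IsZero ((Scheme.Modules.restrictFunctor j).obj ((Scheme.Modules.pushforward j').obj M)) := by
  apply isZero_of_forall_subsingleton
  intro U
  change Subsingleton Γ(M, j' ⁻¹ᵁ (j ''ᵁ U))
  apply subsingleton_sections_bot
  rw [eq_bot_iff]
  rintro x hx
  have h1 : j' x ∈ j.opensRange := Scheme.Hom.image_le_opensRange _ _ hx
  have h2 : j' x ∈ j'.opensRange := ⟨x, rfl⟩
  have : j' x ∈ (⊥ : Z.Opens) := hd ▸ ⟨h1, h2⟩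
  exact this.elim

/-- `A ⊞ B ≅ A` when `B` is zero. -/
noncomputable def biprodIsoOfIsZeroRight {C : Type*} [Category C] [Preadditive C]
    [HasBinaryBiproducts C] (A B : C) (hB : IsZero B) : A ⊞ B ≅ A where
  hom := biprod.fst
  inv := biprod.inl
  hom_inv_id := by
    have h := biprod.total (X := A) (Y := B)
    have h0 : (biprod.snd : A ⊞ B ⟶ B) = 0 := hB.eq_of_tgt _ _
    rw [h0, zero_comp, add_zero] at h
    exact h
  inv_hom_id := biprod.inl_fst

/-- `A ⊞ B ≅ B` when `A` is zero. -/
noncomputable def biprodIsoOfIsZeroLeft {C : Type*} [Category C] [Preadditive C]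
    [HasBinaryBiproducts C] (A B : C) (hA : IsZero A) : A ⊞ B ≅ B where
  hom := biprod.snd
  inv := biprod.inr
  hom_inv_id := by
    have h := biprod.total (X := A) (Y := B)
    have h0 : (biprod.fst : A ⊞ B ⟶ A) = 0 := hA.eq_of_tgt _ _
    rw [h0, zero_comp, zero_add] at h
    exact h
  inv_hom_id := biprod.inr_snd

/-- The module on `Z` glued from modules on two disjoint open subschemes. -/
noncomputable def glueDisjoint {Z : Scheme.{u}} (j : X ⟶ Z) (j' : X' ⟶ Z) (L : X.Modules)
    (L' : X'.Modules) : Z.Modules :=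
  (Scheme.Modules.pushforward j).obj L ⊞ (Scheme.Modules.pushforward j').obj L'

noncomputable def pullbackPushforwardIso {Z : Scheme.{u}} (j : X ⟶ Z) [IsOpenImmersion j]
    (L : X.Modules) :
    (Scheme.Modules.pullback j).obj ((Scheme.Modules.pushforward j).obj L) ≅ L :=
  (Scheme.Modules.restrictFunctorIsoPullback j).symm.app _ ≪≫
    asIso ((Scheme.Modules.restrictAdjunction j).counit.app L)

theorem isZero_pullback_pushforward_of_disjoint {Z : Scheme.{u}} (j : X ⟶ Z) (j' : X' ⟶ Z)
    [IsOpenImmersion j] [IsOpenImmersion j'] (hd : j.opensRange ⊓ j'.opensRange = ⊥)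
    (M : X'.Modules) :
    IsZero ((Scheme.Modules.pullback j).obj ((Scheme.Modules.pushforward j').obj M)) :=
  (isZero_restrict_pushforward_of_disjoint j j' hd M).of_iso
    ((Scheme.Modules.restrictFunctorIsoPullback j).symm.app _)

attribute [local instance] preservesBinaryBiproducts_of_preservesBinaryCoproducts

noncomputable def pullbackGlueDisjointLeftIso {Z : Scheme.{u}} (j : X ⟶ Z) (j' : X' ⟶ Z)
    [IsOpenImmersion j] [IsOpenImmersion j'] (hd : j.opensRange ⊓ j'.opensRange = ⊥)
    (L : X.Modules) (L' : X'.Modules) :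
    (Scheme.Modules.pullback j).obj (glueDisjoint j j' L L') ≅ L :=
  (Scheme.Modules.pullback j).mapBiprod _ _ ≪≫
    biprodIsoOfIsZeroRight _ _ (isZero_pullback_pushforward_of_disjoint j j' hd L') ≪≫
    pullbackPushforwardIso j L

noncomputable def pullbackGlueDisjointRightIso {Z : Scheme.{u}} (j : X ⟶ Z) (j' : X' ⟶ Z)
    [IsOpenImmersion j] [IsOpenImmersion j'] (hd : j.opensRange ⊓ j'.opensRange = ⊥)
    (L : X.Modules) (L' : X'.Modules) :
    (Scheme.Modules.pullback j').obj (glueDisjoint j j' L L') ≅ L' :=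
  (Scheme.Modules.pullback j').mapBiprod _ _ ≪≫
    biprodIsoOfIsZeroLeft _ _ (isZero_pullback_pushforward_of_disjoint j' j
      (by rw [inf_comm]; exact hd) L) ≪≫
    pullbackPushforwardIso j' L'

theorem locallyOfFiniteType_coprod_desc (f : X ⟶ Y) (f' : X' ⟶ Y) [LocallyOfFiniteType f]
    [LocallyOfFiniteType f'] : LocallyOfFiniteType (coprod.desc f f') := by
  rw [IsZariskiLocalAtSource.iff_of_openCover (P := @LocallyOfFiniteType)
    (coprodOpenCover.{_, 0} X X')]
  rintro (⟨⟩ | ⟨⟩)
  · change LocallyOfFiniteType (coprod.inl ≫ coprod.desc f f')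
    rw [coprod.inl_desc]; infer_instance
  · change LocallyOfFiniteType (coprod.inr ≫ coprod.desc f f')
    rw [coprod.inr_desc]; infer_instance

/-- The coproduct of two quasi-projective morphisms is quasi-projective. -/
theorem isQuasiProjective_coprod_desc (f : X ⟶ Y) (f' : X' ⟶ Y)
    (hf : RelProj.IsQuasiProjective f) (hf' : RelProj.IsQuasiProjective f') :
    RelProj.IsQuasiProjective (coprod.desc f f') := by
  obtain ⟨hft, hqc, L, hL⟩ := hf
  obtain ⟨hft', hqc', L', hL'⟩ := hf'
  have hd : (coprod.inl : X ⟶ X ⨿ X').opensRange ⊓ (coprod.inr : X' ⟶ X ⨿ X').opensRange = ⊥ :=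
    (isCompl_opensRange_inl_inr X X').inf_eq_bot
  refine ⟨locallyOfFiniteType_coprod_desc f f', quasiCompact_coprod_desc f f',
    glueDisjoint coprod.inl coprod.inr L L', ?_⟩
  have e1 := pullbackGlueDisjointLeftIso (coprod.inl : X ⟶ X ⨿ X') (coprod.inr : X' ⟶ X ⨿ X')
    hd L L'
  have e2 := pullbackGlueDisjointRightIso (coprod.inl : X ⟶ X ⨿ X') (coprod.inr : X' ⟶ X ⨿ X')
    hd L L'
  rw [isRelAmple_coprod_iff f f' _
    (isInvertible_of_iso e1.symm (isInvertible_of_isRelAmple f hL))
    (isInvertible_of_iso e2.symm (isInvertible_of_isRelAmple f' hL'))]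
  exact ⟨isRelAmple_of_iso f e1.symm hL, isRelAmple_of_iso f' e2.symm hL'⟩

end CP1
end Groth.Agent.Lib.Helper29.QCoh
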