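import Groth.Agent.Lib.Helper29.HomSec1
import Groth.Agent.Lib.Helper29.QCohFP2
universe u
open CategoryTheory CategoryTheory.Limits AlgebraicGeometry TopologicalSpace Opposite

/-! # The stalk of the sheaf Hom out of a finitely presented module -/

namespace Groth.Agent.Lib.Helper29.QCoh.HomSec
open Groth.Agent.Lib.Helper29.QCoh Groth.Agent.Lib.Helper29.QCoh.Dual

variable {X : Scheme.{u}} {F G : X.Modules}

theorem exists_open_nhd_le_of_finite {ι : Type*} [Finite ι] (x : X) (V : ι → X.Opens)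
    (hx : ∀ i, x ∈ V i) : ∃ W : X.Opens, x ∈ W ∧ ∀ i, W ≤ V i :=
  ⟨⟨⋂ i, (V i : Set X), isOpen_iInter_of_finite fun i => (V i).2⟩,
    Set.mem_iInter.mpr hx, fun i _ hy => Set.mem_iInter.mp hy i⟩

/-- Stalk maps out of a quasi-coherent module are determined on germs of sections over an
affine open. -/
theorem stalkHom_ext_of_germ [F.IsQuasicoherent] {U : X.Opens} (hU : IsAffineOpen U) (x : X)
    (hx : x ∈ U) (f g : RefHull.StalkHom F G x)
    (h : ∀ m : Γ(F, U), f (F.presheaf.germ U x hx m) = g (F.presheaf.germ U x hx m)) : f = g := by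
  apply LinearMap.ext
  intro t
  obtain ⟨r, m, hr, hrm⟩ := exists_smul_germ_eq F hU x hx t
  have hu : IsUnit (X.presheaf.germ U x hx r) := by
    rwa [← Scheme.mem_basicOpen _ _ _ hx]
  obtain ⟨u, hu'⟩ := hu
  have h1 : (↑u : X.presheaf.stalk x) • f t = (↑u : X.presheaf.stalk x) • g t := by
    rw [hu', ← map_smul, ← map_smul, hrm, h m]
  have := congrArg (fun z => (↑u⁻¹ : X.presheaf.stalk x) • z) h1
  simpa only [smul_smul, Units.inv_mul, one_smul] using this

/-- A stalk map out of a finitely presented module is induced, near the point, by a semilinear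
map on sections. -/
theorem exists_semilinear_of_stalkHom [F.IsFinitePresentation] {U : X.Opens} (hU : IsAffineOpen U)
    (x : X) (hx : x ∈ U) (α : RefHull.StalkHom F G x) :
    ∃ (V : X.Opens) (hVU : V ≤ U) (hxV : x ∈ V) (l : Γ(F, U) →+ Γ(G, V)),
      (∀ (a : Γ(X, U)) (m : Γ(F, U)), l (a • m) = X.presheaf.map (homOfLE hVU).op a • l m) ∧
      ∀ m : Γ(F, U), G.presheaf.germ V x hxV (l m) = α (F.presheaf.germ U x hx m) := by
  classical
  have hfp : Module.FinitePresentation Γ(X, U) Γ(F, U) :=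
    module_finitePresentation_of_isFinitePresentation F hU
  obtain ⟨n, π, hπ⟩ := Module.Finite.exists_fin' Γ(X, U) Γ(F, U)
  have hK : (LinearMap.ker π).FG := Module.FinitePresentation.fg_ker π hπ
  obtain ⟨T, hT⟩ := hK
  let s : Fin n → Γ(F, U) := fun i => π (fun j => if i = j then 1 else 0)
  have hπs : ∀ v : Fin n → Γ(X, U), π v = ∑ i, v i • s i := fun v =>
    LinearMap.pi_apply_eq_sum_univ π v
  -- representatives of the images of the generators
  have hg : ∀ i, ∃ (Vi : X.Opens) (hxi : x ∈ Vi) (g : Γ(G, Vi)),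
      G.presheaf.germ Vi x hxi g = α (F.presheaf.germ U x hx (s i)) := fun i => by
    obtain ⟨Vi, hxi, g, hg⟩ := G.presheaf.exists_germ_eq (α (F.presheaf.germ U x hx (s i)))
    exact ⟨Vi, hxi, g, hg⟩
  choose Vi hxi g hg using hg
  obtain ⟨V₁', hxV₁', hV₁'⟩ := exists_open_nhd_le_of_finite x Vi hxi
  let V₁ : X.Opens := V₁' ⊓ U
  have hxV₁ : x ∈ V₁ := ⟨hxV₁', hx⟩
  have hV₁i : ∀ i, V₁ ≤ Vi i := fun i => inf_le_left.trans (hV₁' i)
  have hV₁U : V₁ ≤ U := inf_le_right
  -- the candidate map on the free module, over any smaller open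
  let lt : ∀ (V : X.Opens) (hV : V ≤ V₁), (Fin n → Γ(X, U)) → Γ(G, V) := fun V hV v =>
    ∑ i, X.presheaf.map (homOfLE (hV.trans hV₁U)).op (v i) • res G (hV.trans (hV₁i i)) (g i)
  have hlt_def : ∀ (V : X.Opens) (hV : V ≤ V₁) (v : Fin n → Γ(X, U)), lt V hV v =
      ∑ i, X.presheaf.map (homOfLE (hV.trans hV₁U)).op (v i) • res G (hV.trans (hV₁i i)) (g i) :=
    fun _ _ _ => rfl
  have hlt_germ : ∀ (V : X.Opens) (hV : V ≤ V₁) (hxV : x ∈ V) (v : Fin n → Γ(X, U)),
      G.presheaf.germ V x hxV (lt V hV v) = α (F.presheaf.germ U x hx (π v)) := by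
    intro V hV hxV v
    rw [hπs, map_sum, map_sum, map_sum]
    refine Finset.sum_congr rfl fun i _ => ?_
    rw [germ_smul, germ_smul, map_smul, germ_res, hg i]
    congr 1
    exact X.presheaf.germ_res_apply (homOfLE (hV.trans hV₁U)) x hxV (v i)
  have hlt_res : ∀ (V : X.Opens) (hV : V ≤ V₁) (v : Fin n → Γ(X, U)),
      res G hV (lt V₁ le_rfl v) = lt V hV v := by
    intro V hV v
    rw [map_sum]
    refine Finset.sum_congr rfl fun i _ => ?_
    rw [res_smul, res_res, map_map_apply]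
  -- relations vanish near `x`
  have hrel : ∀ t : T, ∃ (Vt : X.Opens), x ∈ Vt ∧ ∃ hVt : Vt ≤ V₁, lt Vt hVt t.1 = 0 := by
    intro t
    have ht : t.1 ∈ LinearMap.ker π := by rw [← hT]; exact Submodule.subset_span t.2
    have h0 : G.presheaf.germ V₁ x hxV₁ (lt V₁ le_rfl t.1) = G.presheaf.germ V₁ x hxV₁ 0 := by
      rw [hlt_germ V₁ le_rfl hxV₁, LinearMap.mem_ker.mp ht, map_zero, map_zero, map_zero]
    obtain ⟨W, hxW, i₁, i₂, e⟩ := G.presheaf.germ_eq x hxV₁ hxV₁ _ _ h0
    refine ⟨W, hxW, i₁.le, ?_⟩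
    rw [← hlt_res W i₁.le]
    have e' : res G i₁.le (lt V₁ le_rfl t.1) = res G i₂.le 0 := e
    rw [e', map_zero]
  choose Vt hxVt hVt hzero using hrel
  obtain ⟨V', hxV', hV'le⟩ := exists_open_nhd_le_of_finite x Vt hxVt
  let V : X.Opens := V' ⊓ V₁
  have hxV : x ∈ V := ⟨hxV', hxV₁⟩
  have hV : V ≤ V₁ := inf_le_right
  have hVU : V ≤ U := hV.trans hV₁U
  let lA : (Fin n → Γ(X, U)) →+ Γ(G, V) :=
    { toFun := lt V hV
      map_zero' := by
        rw [hlt_def V hV]
        refine Finset.sum_eq_zero fun i _ => ?_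
        rw [Pi.zero_apply, map_zero, zero_smul]
      map_add' := fun v w => by
        rw [hlt_def V hV, hlt_def V hV, hlt_def V hV, ← Finset.sum_add_distrib]
        refine Finset.sum_congr rfl fun i _ => ?_
        rw [Pi.add_apply, map_add, add_smul] }
  have hlA_smul : ∀ (a : Γ(X, U)) (v : Fin n → Γ(X, U)),
      lA (a • v) = X.presheaf.map (homOfLE hVU).op a • lA v := by
    intro a v
    change lt V hV (a • v) = _ • lt V hV v
    rw [hlt_def V hV, hlt_def V hV, Finset.smul_sum]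
    refine Finset.sum_congr rfl fun i _ => ?_
    rw [Pi.smul_apply, smul_eq_mul, map_mul, mul_smul]
  have hker : ∀ v ∈ LinearMap.ker π, lA v = 0 := by
    intro v hv
    rw [← hT] at hv
    induction hv using Submodule.span_induction with
    | mem t ht =>
      have h1 : lt V hV t = res G (inf_le_left.trans (hV'le ⟨t, ht⟩)) (lt (Vt ⟨t, ht⟩) (hVt ⟨t, ht⟩) t) := by
        rw [← hlt_res (Vt ⟨t, ht⟩) (hVt ⟨t, ht⟩), res_res, hlt_res]
      change lt V hV t = 0
      rw [h1, hzero ⟨t, ht⟩, map_zero]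
    | zero => exact map_zero lA
    | add a b _ _ ha hb => rw [map_add, ha, hb, add_zero]
    | smul a v _ hv => rw [hlA_smul, hv, smul_zero]
  have hker' : π.toAddMonoidHom.ker ≤ lA.ker := fun v hv => hker v hv
  let l : Γ(F, U) →+ Γ(G, V) :=
    AddMonoidHom.liftOfRightInverse π.toAddMonoidHom (Function.surjInv hπ)
      (Function.rightInverse_surjInv hπ) ⟨lA, hker'⟩
  have hl : ∀ v, l (π v) = lA v := fun v =>
    AddMonoidHom.liftOfRightInverse_comp_apply π.toAddMonoidHom (Function.surjInv hπ)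
      (Function.rightInverse_surjInv hπ) ⟨lA, hker'⟩ v
  refine ⟨V, hVU, hxV, l, fun a m => ?_, fun m => ?_⟩
  · obtain ⟨v, rfl⟩ := hπ m
    rw [← map_smul, hl, hl, hlA_smul]
  · obtain ⟨v, rfl⟩ := hπ m
    rw [hl]
    exact hlt_germ V hV hxV v

/-- The stalk of the sheaf Hom out of a finitely presented module surjects onto the module of
homomorphisms of stalks. -/
theorem evalStalk_surjective [F.IsFinitePresentation] (x : X) :
    Function.Surjective (RefHull.evalStalk F G x) := by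
  intro α
  obtain ⟨U, hU, hxU, -⟩ :=
    AlgebraicGeometry.exists_isAffineOpen_mem_and_subset (x := x) (U := (⊤ : X.Opens)) trivial
  obtain ⟨V, hVU, hxV, l, hl, hlα⟩ := exists_semilinear_of_stalkHom hU x hxU α
  obtain ⟨θ, hθ⟩ := exists_homSh_of_semilinear hU hVU l hl
  refine ⟨(RefHull.homSh F G).presheaf.germ V x hxV θ, ?_⟩
  rw [RefHull.evalStalk_germ]
  apply stalkHom_ext_of_germ hU x hxU
  intro m
  rw [hθ x hxV m, hlα m]

end Groth.Agent.Lib.Helper29.QCoh.HomSec
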