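import Groth.Agent.Lib.Helper29.PullTensor
import Groth.Prelude.Def_LCI2
import Groth.Prelude.Def_Mor2
universe u
open CategoryTheory CategoryTheory.Limits AlgebraicGeometry TopologicalSpace Opposite
open scoped TensorProduct

namespace Groth.Agent.Lib.Helper29.QCoh

section Restrict
variable {X Y : Scheme.{u}}

/-- Restriction along an open immersion is pullback. -/
noncomputable def restrictIsoPullback (j : X ⟶ Y) [IsOpenImmersion j] (L : Y.Modules) :
    L.restrict j ≅ (Scheme.Modules.pullback j).obj L :=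
  (Scheme.Modules.restrictFunctorIsoPullback j).app L

theorem isAmple_restrict_iff (j : X ⟶ Y) [IsOpenImmersion j] (L : Y.Modules) :
    CohB1.IsAmple (L.restrict j) ↔ CohB1.IsAmple ((Scheme.Modules.pullback j).obj L) :=
  isAmple_iff_of_iso (restrictIsoPullback j L)

theorem isInvertible_restrict (j : X ⟶ Y) [IsOpenImmersion j] {L : Y.Modules}
    (hL : PicF.IsInvertible L) : PicF.IsInvertible (L.restrict j) :=
  isInvertible_of_iso (restrictIsoPullback j L).symm (isInvertible_pullback j hL)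

theorem isAmple_restrict_of_isCompact {L : Y.Modules} (hL : CohB1.IsAmple L) (U : Y.Opens)
    (hU : IsCompact (U : Set Y)) : CohB1.IsAmple (L.restrict U.ι) := by
  rw [isAmple_restrict_iff]
  have : CompactSpace U := isCompact_iff_compactSpace.mp hU
  exact isAmple_pullback_of_isEmbedding U.ι U.ι.isOpenEmbedding.isEmbedding hL

/-- Ampleness is invariant under isomorphisms of schemes. -/
theorem isAmple_pullback_iff_of_isIso (j : X ⟶ Y) [IsIso j] (L : Y.Modules) :
    CohB1.IsAmple ((Scheme.Modules.pullback j).obj L) ↔ CohB1.IsAmple L := by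
  constructor
  · intro h
    have hc : CompactSpace X := h.2.1
    have : CompactSpace Y := (Scheme.homeoOfIso (asIso j)).compactSpace
    have h2 := isAmple_pullback_of_isEmbedding (inv j) (inv j).isOpenEmbedding.isEmbedding h
    obtain ⟨θ, -⟩ := exists_iso_pullback_of_eq (IsIso.inv_hom_id j) L
    exact isAmple_of_iso (((Scheme.Modules.pullbackComp (inv j) j).app L) ≪≫ θ ≪≫
      (Scheme.Modules.pullbackId Y).app L) h2
  · intro h
    have hc : CompactSpace Y := h.2.1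
    have : CompactSpace X := (Scheme.homeoOfIso (asIso j)).symm.compactSpace
    exact isAmple_pullback_of_isEmbedding j j.isOpenEmbedding.isEmbedding h

theorem isAmple_restrict_iff_of_isIso (j : X ⟶ Y) [IsIso j] (L : Y.Modules) :
    CohB1.IsAmple (L.restrict j) ↔ CohB1.IsAmple L :=
  (isAmple_restrict_iff j L).trans (isAmple_pullback_iff_of_isIso j L)

theorem isAmple_restrict_top_iff (L : X.Modules) :
    CohB1.IsAmple (L.restrict (⊤ : X.Opens).ι) ↔ CohB1.IsAmple L := by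
  have : IsIso (⊤ : X.Opens).ι := inferInstanceAs (IsIso X.topIso.hom)
  exact isAmple_restrict_iff_of_isIso _ L

theorem isAmple_restrict_iff_of_eq_top (L : X.Modules) {U : X.Opens} (hU : U = ⊤) :
    CohB1.IsAmple (L.restrict U.ι) ↔ CohB1.IsAmple L := by
  subst hU
  exact isAmple_restrict_top_iff L

/-- The restriction of the structure sheaf is the structure sheaf. -/
noncomputable def restrictUnitIso' (j : X ⟶ Y) [IsOpenImmersion j] :
    (unitM Y).restrict j ≅ unitM X :=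
  Scheme.Modules.restrictUnitIso j

end Restrict

section QuasiAffine
variable {X : Scheme.{u}}

theorem isQuasiAffine_of_isAmple_unit (h : CohB1.IsAmple (unitM X)) : X.IsQuasiAffine := by
  have hc : CompactSpace X := h.2.1
  refine Scheme.IsQuasiAffine.of_forall_exists_mem_basicOpen X fun x => ?_
  obtain ⟨n, s, hx, haff⟩ := h.2.2 x
  obtain ⟨φ, hφ⟩ := exists_section_of_iso (tensorPowUnit X (n + 1)) s
  rw [← hφ, genLocus_unit] at hx haff
  exact ⟨_, haff, hx⟩

theorem isQuasiAffine_iff_isAmple_unit : X.IsQuasiAffine ↔ CohB1.IsAmple (unitM X) :=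
  ⟨fun _ => isAmple_of_isQuasiAffine (isInvertible_unit X), isQuasiAffine_of_isAmple_unit⟩

end QuasiAffine

section Transport
variable {X X' X'' : Scheme.{u}}

/-- pullback along a composite. -/
noncomputable def pullbackCompIso (a : X'' ⟶ X') (b : X' ⟶ X) (L : X.Modules) :
    (Scheme.Modules.pullback a).obj ((Scheme.Modules.pullback b).obj L) ≅
      (Scheme.Modules.pullback (a ≫ b)).obj L :=
  (Scheme.Modules.pullbackComp a b).app L

noncomputable def pullbackCongrIso {a b : X' ⟶ X} (h : a = b) (L : X.Modules) :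
    (Scheme.Modules.pullback a).obj L ≅ (Scheme.Modules.pullback b).obj L :=
  (Scheme.Modules.pullbackCongr h).app L

/-- Restriction along a composite of open immersions. -/
noncomputable def restrictRestrictIso (a : X'' ⟶ X') (b : X' ⟶ X) [IsOpenImmersion a]
    [IsOpenImmersion b] (L : X.Modules) :
    (L.restrict b).restrict a ≅ L.restrict (a ≫ b) :=
  restrictIsoPullback a _ ≪≫ (Scheme.Modules.pullback a).mapIso (restrictIsoPullback b L) ≪≫
    pullbackCompIso a b L ≪≫ (restrictIsoPullback (a ≫ b) L).symm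

theorem isAmple_restrict_restrict_iff (a : X'' ⟶ X') (b : X' ⟶ X) [IsOpenImmersion a]
    [IsOpenImmersion b] (L : X.Modules) :
    CohB1.IsAmple ((L.restrict b).restrict a) ↔ CohB1.IsAmple (L.restrict (a ≫ b)) :=
  isAmple_iff_of_iso (restrictRestrictIso a b L)

/-- Ampleness of a restriction only depends on the open image. -/
theorem isAmple_restrict_iff_of_range_eq (j : X' ⟶ X) (j' : X'' ⟶ X) [IsOpenImmersion j]
    [IsOpenImmersion j'] (h : Set.range j = Set.range j') (L : X.Modules) :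
    CohB1.IsAmple (L.restrict j) ↔ CohB1.IsAmple (L.restrict j') := by
  let φ := IsOpenImmersion.isoOfRangeEq j j' h
  have hφ : φ.hom ≫ j' = j := IsOpenImmersion.isoOfRangeEq_hom_fac j j' h
  rw [isAmple_restrict_iff, isAmple_restrict_iff j',
    ← isAmple_pullback_iff_of_isIso φ.hom ((Scheme.Modules.pullback j').obj L)]
  exact isAmple_iff_of_iso ((pullbackCongrIso hφ.symm L) ≪≫ (pullbackCompIso φ.hom j' L).symm)

theorem isAmple_restrict_iff_opensRange (j : X' ⟶ X) [IsOpenImmersion j] (L : X.Modules) :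
    CohB1.IsAmple (L.restrict j) ↔ CohB1.IsAmple (L.restrict j.opensRange.ι) := by
  refine isAmple_restrict_iff_of_range_eq j j.opensRange.ι ?_ L
  rw [Scheme.Opens.range_ι]
  rfl

theorem isAmple_restrict_iff_of_opensRange_eq (j : X' ⟶ X) [IsOpenImmersion j] (L : X.Modules)
    {U : X.Opens} (hU : j.opensRange = U) :
    CohB1.IsAmple (L.restrict j) ↔ CohB1.IsAmple (L.restrict U.ι) := by
  subst hU
  exact isAmple_restrict_iff_opensRange j L

end Transport

section RestrictTensor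
variable {X X' : Scheme.{u}}

theorem nonempty_restrictTensorIso (j : X' ⟶ X) [IsOpenImmersion j] {A B : X.Modules}
    (hA : PicF.IsInvertible A) (hB : PicF.IsInvertible B) :
    Nonempty ((CohB1.tensorMod A B).restrict j ≅
      CohB1.tensorMod (A.restrict j) (B.restrict j)) := by
  obtain ⟨φ, -⟩ := exists_pullbackTensorIso j hA hB
  exact ⟨restrictIsoPullback j _ ≪≫ φ ≪≫
    tensorCongr (restrictIsoPullback j A).symm (restrictIsoPullback j B).symm⟩

theorem nonempty_restrictTensorPowIso (j : X' ⟶ X) [IsOpenImmersion j] {L : X.Modules}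
    (hL : PicF.IsInvertible L) (n : ℕ) :
    Nonempty ((CohB1.tensorPow L n).restrict j ≅ CohB1.tensorPow (L.restrict j) n) := by
  obtain ⟨φ⟩ := nonempty_pullbackTensorPowIso j hL n
  exact ⟨restrictIsoPullback j _ ≪≫ φ ≪≫ tensorPowCongr (restrictIsoPullback j L).symm n⟩

/-- Invertibility is local. -/
theorem isInvertible_of_isTriv' {L : X.Modules}
    (h : ∀ x : X, ∃ (U : X.Opens) (e : Γ(L, U)), x ∈ U ∧ IsTriv L U e) : PicF.IsInvertible L := by
  intro x
  obtain ⟨U, e, hxU, he⟩ := h x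
  obtain ⟨σ, -⟩ := he.exists_iso_restrict
  exact ⟨U, hxU, ⟨σ.symm⟩⟩

theorem isInvertible_of_forall_restrict {L : X.Modules}
    (h : ∀ x : X, ∃ U : X.Opens, x ∈ U ∧ PicF.IsInvertible (L.restrict U.ι)) :
    PicF.IsInvertible L := by
  refine isInvertible_of_isTriv' fun x => ?_
  obtain ⟨U, hxU, hU⟩ := h x
  obtain ⟨U', e, hxU', he⟩ := exists_isTriv hU (⟨x, hxU⟩ : U)
  exact ⟨U.ι ''ᵁ U', e, ⟨⟨x, hxU⟩, hxU', rfl⟩, he.of_restrict U.ι⟩

theorem isInvertible_of_isRelAmple {Y : Scheme.{u}} (f : X ⟶ Y) {L : X.Modules}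
    (h : RelAmple.IsRelAmple f L) : PicF.IsInvertible L := by
  refine isInvertible_of_forall_restrict fun x => ?_
  obtain ⟨V, hV, hxV⟩ : ∃ V : Y.Opens, IsAffineOpen V ∧ f x ∈ V := by
    obtain ⟨V, hV, hxV, -⟩ := exists_isAffineOpen_mem_and_subset (x := f x) (U := ⊤) trivial
    exact ⟨V, hV, hxV⟩
  exact ⟨f ⁻¹ᵁ V, hxV, (h.2 ⟨V, hV⟩).1⟩

theorem isAmple_tensorMod {A B : X.Modules} (hA : CohB1.IsAmple A) (hB : CohB1.IsAmple B) :
    CohB1.IsAmple (CohB1.tensorMod A B) :=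
  isAmple_tensorMod_of_covering hA hB.1 fun x => by
    obtain ⟨n, s, hx, -⟩ := hB.2.2 x
    exact ⟨n, s, hx⟩

theorem isAmple_iff_tensorPow {L : X.Modules} (hL : PicF.IsInvertible L) (n : ℕ) (hn : 0 < n) :
    CohB1.IsAmple L ↔ CohB1.IsAmple (CohB1.tensorPow L n) := by
  constructor
  · rintro ⟨-, hc, h⟩
    refine ⟨isInvertible_tensorPow hL n, hc, fun x => ?_⟩
    obtain ⟨m, s, hx, haff⟩ := h x
    obtain ⟨s₁, h₁⟩ := exists_pow_section hL s n (n * (m + 1)) hn (Nat.mul_comm _ _)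
    obtain ⟨s₂, h₂⟩ := exists_section_of_iso (tensorPowMul L n (m + 1)).symm s₁
    exact ⟨m, s₂, by rw [h₂, h₁]; exact hx, by rw [h₂, h₁]; exact haff⟩
  · rintro ⟨-, hc, h⟩
    refine ⟨hL, hc, fun x => ?_⟩
    obtain ⟨m, s, hx, haff⟩ := h x
    obtain ⟨s₁, h₁⟩ := exists_section_of_iso (tensorPowMul L n (m + 1)) s
    have hpos : 0 < n * (m + 1) := Nat.mul_pos hn (Nat.succ_pos _)
    obtain ⟨s₂, h₂⟩ := exists_section_of_eq L
      (show n * (m + 1) = (n * (m + 1) - 1) + 1 by omega) s₁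
    exact ⟨_, s₂, by rw [h₂, h₁]; exact hx, by rw [h₂, h₁]; exact haff⟩

theorem isRelAmple_tensorMod {Y : Scheme.{u}} (f : X ⟶ Y) {L L' : X.Modules}
    (hL : RelAmple.IsRelAmple f L) (hL' : RelAmple.IsRelAmple f L') :
    RelAmple.IsRelAmple f (CohB1.tensorMod L L') := by
  refine ⟨hL.1, fun V => ?_⟩
  obtain ⟨θ⟩ := nonempty_restrictTensorIso (f ⁻¹ᵁ V.1).ι (isInvertible_of_isRelAmple f hL)
    (isInvertible_of_isRelAmple f hL')
  exact isAmple_of_iso θ.symm (isAmple_tensorMod (hL.2 V) (hL'.2 V))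

theorem isRelAmple_iff_tensorPow {Y : Scheme.{u}} (f : X ⟶ Y) {L : X.Modules}
    (hL : PicF.IsInvertible L) (n : ℕ) (hn : 0 < n) :
    RelAmple.IsRelAmple f L ↔ RelAmple.IsRelAmple f (CohB1.tensorPow L n) := by
  unfold RelAmple.IsRelAmple
  refine and_congr_right fun _ => forall_congr' fun V => ?_
  obtain ⟨θ⟩ := nonempty_restrictTensorPowIso (f ⁻¹ᵁ V.1).ι hL n
  rw [isAmple_iff_of_iso θ]
  exact isAmple_iff_tensorPow (isInvertible_restrict _ hL) n hn

end RestrictTensor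

section RelPullback
variable {X X' : Scheme.{u}}

/-- `(j^* L)|_{j⁻¹ U} ≅ (j|_U)^* (L|_U)`. -/
noncomputable def restrictPullbackIso (j : X' ⟶ X) (U : X.Opens) (L : X.Modules) :
    ((Scheme.Modules.pullback j).obj L).restrict (j ⁻¹ᵁ U).ι ≅
      (Scheme.Modules.pullback (j ∣_ U)).obj (L.restrict U.ι) :=
  restrictIsoPullback _ _ ≪≫ pullbackCompIso (j ⁻¹ᵁ U).ι j L ≪≫
    pullbackCongrIso (morphismRestrict_ι j U).symm L ≪≫ (pullbackCompIso (j ∣_ U) U.ι L).symm ≪≫
    (Scheme.Modules.pullback (j ∣_ U)).mapIso (restrictIsoPullback U.ι L).symm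

theorem isAmple_restrict_pullback_of_isEmbedding (j : X' ⟶ X) (hj : Topology.IsEmbedding j)
    (U : X.Opens) (hc : IsCompact ((j ⁻¹ᵁ U : X'.Opens) : Set X')) {L : X.Modules}
    (hL : CohB1.IsAmple (L.restrict U.ι)) :
    CohB1.IsAmple (((Scheme.Modules.pullback j).obj L).restrict (j ⁻¹ᵁ U).ι) := by
  rw [isAmple_iff_of_iso (restrictPullbackIso j U L)]
  have : CompactSpace (j ⁻¹ᵁ U) := isCompact_iff_compactSpace.mp hc
  refine isAmple_pullback_of_isEmbedding (j ∣_ U) ?_ hL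
  rw [morphismRestrict_base]
  exact hj.restrictPreimage _

theorem isRelAmple_pullback_of_isEmbedding {Y : Scheme.{u}} (f : X ⟶ Y) (j : X' ⟶ X)
    [QuasiCompact (j ≫ f)] (hj : Topology.IsEmbedding j) {L : X.Modules}
    (hL : RelAmple.IsRelAmple f L) :
    RelAmple.IsRelAmple (j ≫ f) ((Scheme.Modules.pullback j).obj L) := by
  refine ⟨inferInstance, fun V => ?_⟩
  have hc : IsCompact (((j ≫ f) ⁻¹ᵁ V.1 : X'.Opens) : Set X') :=
    QuasiCompact.isCompact_preimage (f := j ≫ f) _ V.1.2 V.2.isCompact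
  exact isAmple_restrict_pullback_of_isEmbedding j hj (f ⁻¹ᵁ V.1) hc (hL.2 V)

end RelPullback

section RestrictHom
variable {X X' : Scheme.{u}}

theorem genLocus_congr_of_sval {N : X.Modules} (s s' : unitM X ⟶ N)
    (h : sval s ⊤ = sval s' ⊤) : CohB1.genLocus N s = CohB1.genLocus N s' := by
  have hW : ∀ W : X.Opens, (s.app W : _ → _) = s'.app W := by
    intro W
    funext r
    obtain ⟨r', rfl⟩ := toUnit_surjective r
    rw [app_eq_smul_sval, app_eq_smul_sval, ← res_sval s (le_top : W ≤ ⊤),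
      ← res_sval s' (le_top : W ≤ ⊤), h]
  ext x
  simp only [SetLike.mem_coe, mem_genLocus_iff]
  refine exists_congr fun U => and_congr_right fun _ => forall_congr' fun W => forall_congr' fun _ => ?_
  rw [hW W]

/-- Restriction of a global section of a module to an open subscheme. -/
noncomputable def restrictHom (j : X' ⟶ X) [IsOpenImmersion j] {M : X.Modules}
    (σ : unitM X ⟶ M) : unitM X' ⟶ M.restrict j :=
  (restrictUnitIso' j).inv ≫ (Scheme.Modules.restrictFunctor j).map σ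

theorem genLocus_restrictHom (j : X' ⟶ X) [IsOpenImmersion j] {M : X.Modules}
    (hM : PicF.IsInvertible M) (σ : unitM X ⟶ M) :
    CohB1.genLocus _ (restrictHom j σ) = j ⁻¹ᵁ CohB1.genLocus M σ := by
  rw [← genLocus_comp_iso (restrictHom j σ) (restrictIsoPullback j M),
    ← genLocus_pullback_of_iso j hM σ ((restrictUnitIso' j).symm ≪≫ restrictIsoPullback j (unitM X))]
  congr 1
  have hn := (Scheme.Modules.restrictFunctorIsoPullback j).hom.naturality σ
  unfold restrictHom restrictIsoPullback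
  simp only [Category.assoc, Iso.trans_hom, Iso.symm_hom, Iso.app_hom]
  rw [hn]

theorem sval_restrictHom_top (j : X' ⟶ X) [IsOpenImmersion j] {M : X.Modules}
    (σ : unitM X ⟶ M) :
    sval (restrictHom j σ) ⊤ = sval σ (j ''ᵁ ⊤) := by
  change ((restrictUnitIso' j).inv ≫ (Scheme.Modules.restrictFunctor j).map σ).app ⊤ (toUnit 1) = _
  rw [app_comp]
  have h1 : (restrictUnitIso' j).inv.app ⊤ (toUnit 1) =
      (toUnit (1 : Γ(X, j ''ᵁ ⊤)) : Γ(unitM X, j ''ᵁ ⊤)) := by
    have h2 : (restrictUnitIso' j).hom.app ⊤ (toUnit (1 : Γ(X, j ''ᵁ ⊤)) : Γ(unitM X, j ''ᵁ ⊤)) =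
        toUnit 1 := by
      change toUnit ((j.appIso ⊤).hom (1 : Γ(X, j ''ᵁ ⊤))) = toUnit 1
      rw [map_one]
    rw [← h2]
    exact iso_inv_hom_app (restrictUnitIso' j) ⊤ _
  rw [h1]
  rfl

end RestrictHom

section KeyLemma
variable {X : Scheme.{u}}

theorem genLocus_homOfSection_sval {N : X.Modules} (s : unitM X ⟶ N) :
    CohB1.genLocus N (homOfSection N (sval s ⊤)) = CohB1.genLocus N s :=
  genLocus_congr_of_sval _ _ (by rw [sval_homOfSection, res_self])

/-- **Ampleness is local over a cover by basic opens of global functions.** -/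
theorem isAmple_of_basicOpen_cover [CompactSpace X] {L : X.Modules} (hL : PicF.IsInvertible L)
    {ι : Type*} (h : ι → Γ(X, ⊤)) (hcov : ∀ x : X, ∃ i, x ∈ X.basicOpen (h i))
    (hamp : ∀ i, CohB1.IsAmple (L.restrict (X.basicOpen (h i)).ι)) : CohB1.IsAmple L := by
  have hq := isQuasicoherent_of_isInvertible hL
  have hqs : QuasiSeparatedSpace X := by
    refine QuasiSeparatedSpace.of_isOpenCover (U := fun i => X.basicOpen (h i)) ?_
      (fun i => isRetrocompact_basicOpen _) (fun i => ?_)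
    · rw [IsOpenCover, eq_top_iff]
      intro x _
      obtain ⟨i, hi⟩ := hcov x
      exact Opens.mem_iSup.mpr ⟨i, hi⟩
    · have hs : (X.basicOpen (h i)).toScheme.IsSeparated := isSeparated_of_isAmple (hamp i)
      have hqq : QuasiSeparatedSpace (X.basicOpen (h i)).toScheme := inferInstance
      exact (isQuasiSeparated_iff_quasiSeparatedSpace _ (X.basicOpen (h i)).2).mpr hqq
  refine ⟨hL, inferInstance, fun x => ?_⟩
  obtain ⟨i, hxi⟩ := hcov x
  obtain ⟨n, s', hxs', haff⟩ := (hamp i).2.2 ⟨x, hxi⟩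
  obtain ⟨θ⟩ := nonempty_restrictTensorPowIso (X.basicOpen (h i)).ι hL (n + 1)
  have hM := isInvertible_tensorPow hL (n + 1)
  have hs'' : CohB1.genLocus _ (s' ≫ θ.inv) = CohB1.genLocus _ s' := genLocus_comp_iso s' θ.symm
  have hUtop : (X.basicOpen (h i)).ι ''ᵁ ⊤ = X.basicOpen (h i) := (X.basicOpen (h i)).ι_image_top
  obtain ⟨k, τ, hτ⟩ := exists_pow_smul_eq_res_of_qcqs (CohB1.tensorPow L (n + 1)) (U := ⊤)
    isCompact_univ isQuasiSeparated_univ (h i)
    (QCoh.res (CohB1.tensorPow L (n + 1)) hUtop.ge (sval (s' ≫ θ.inv) ⊤))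
  have hσ1 := genLocus_homOfSection_smul hM (h i) τ
  have hr : IsUnit (rres X (le_top : (X.basicOpen (h i)).ι ''ᵁ ⊤ ≤ ⊤) (h i)) :=
    (isUnit_rres_iff _ _).mpr hUtop.le
  obtain ⟨t, ht⟩ : ∃ t : Γ(CohB1.tensorPow L (n + 1), (X.basicOpen (h i)).ι ''ᵁ ⊤),
      t = sval (s' ≫ θ.inv) ⊤ := ⟨_, rfl⟩
  rw [← ht] at hτ
  have e0 : sval (homOfSection (CohB1.tensorPow L (n + 1)) (h i • τ)) ((X.basicOpen (h i)).ι ''ᵁ ⊤) =
      (rres X (le_top : (X.basicOpen (h i)).ι ''ᵁ ⊤ ≤ ⊤) (h i)) ^ (k + 1) • t := by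
    rw [sval_homOfSection, res_smul']
    have e2 : QCoh.res (CohB1.tensorPow L (n + 1)) (le_top : (X.basicOpen (h i)).ι ''ᵁ ⊤ ≤ ⊤) τ =
        (rres X (le_top : (X.basicOpen (h i)).ι ''ᵁ ⊤ ≤ ⊤) (h i)) ^ k • t := by
      have := congrArg (QCoh.res (CohB1.tensorPow L (n + 1)) hUtop.le) hτ
      rw [res_res, res_smul', res_res, res_self, map_pow, rres_rres] at this
      exact this.symm
    rw [e2, smul_smul, ← pow_succ']
  have hσ2 : (X.basicOpen (h i)).ι ⁻¹ᵁ CohB1.genLocus _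
      (homOfSection (CohB1.tensorPow L (n + 1)) (h i • τ)) = CohB1.genLocus _ (s' ≫ θ.inv) := by
    rw [← genLocus_restrictHom (X.basicOpen (h i)).ι hM]
    have hu : IsUnit (((X.basicOpen (h i)).ι.appIso ⊤).hom.hom
        ((rres X (le_top : (X.basicOpen (h i)).ι ''ᵁ ⊤ ≤ ⊤) (h i)) ^ (k + 1))) :=
      (hr.pow (k + 1)).map _
    have e1 : sval (restrictHom (X.basicOpen (h i)).ι
        (homOfSection (CohB1.tensorPow L (n + 1)) (h i • τ))) ⊤ =
        HSMul.hSMul (α := Γ((X.basicOpen (h i)).toScheme, ⊤))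
          (β := Γ((CohB1.tensorPow L (n + 1)).restrict (X.basicOpen (h i)).ι, ⊤))
          (((X.basicOpen (h i)).ι.appIso ⊤).hom.hom
            ((rres X (le_top : (X.basicOpen (h i)).ι ''ᵁ ⊤ ≤ ⊤) (h i)) ^ (k + 1)))
          (sval (s' ≫ θ.inv) ⊤) := by
      rw [sval_restrictHom_top, e0, restrict_smul, ht]
      congr 1
      exact (congrArg (fun f : Γ(X, (X.basicOpen (h i)).ι ''ᵁ ⊤) ⟶ Γ(X, (X.basicOpen (h i)).ι ''ᵁ ⊤) =>
        f.hom ((rres X (le_top : (X.basicOpen (h i)).ι ''ᵁ ⊤ ≤ ⊤) (h i)) ^ (k + 1)))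
        ((X.basicOpen (h i)).ι.appIso ⊤).hom_inv_id).symm
    rw [genLocus_congr_of_sval _ (homOfSection _ (HSMul.hSMul (α := Γ((X.basicOpen (h i)).toScheme, ⊤))
          (β := Γ((CohB1.tensorPow L (n + 1)).restrict (X.basicOpen (h i)).ι, ⊤))
          (((X.basicOpen (h i)).ι.appIso ⊤).hom.hom
            ((rres X (le_top : (X.basicOpen (h i)).ι ''ᵁ ⊤ ≤ ⊤) (h i)) ^ (k + 1)))
          (sval (s' ≫ θ.inv) ⊤)))
      (by rw [e1, sval_homOfSection, res_self]),
      genLocus_homOfSection_smul (isInvertible_restrict _ hM), Scheme.basicOpen_of_isUnit _ hu,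
      top_inf_eq, genLocus_homOfSection_sval]
  have hσ3 : CohB1.genLocus _ (homOfSection (CohB1.tensorPow L (n + 1)) (h i • τ)) =
      (X.basicOpen (h i)).ι ''ᵁ CohB1.genLocus _ (s' ≫ θ.inv) := by
    rw [← hσ2, Scheme.Hom.image_preimage_eq_opensRange_inf, Scheme.Opens.opensRange_ι, hσ1,
      ← inf_assoc, inf_idem]
  refine ⟨n, homOfSection (CohB1.tensorPow L (n + 1)) (h i • τ), ?_, ?_⟩
  · rw [hσ3, hs'']
    exact ⟨⟨x, hxi⟩, hxs', rfl⟩
  · rw [hσ3, hs'']
    exact haff.image_of_isOpenImmersion _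

end KeyLemma

section LocalBase
variable {X Y : Scheme.{u}}

theorem isAmple_restrict_restrict_ι_iff (U : X.Opens) (W : U.toScheme.Opens) (L : X.Modules) :
    CohB1.IsAmple ((L.restrict U.ι).restrict W.ι) ↔ CohB1.IsAmple (L.restrict (U.ι ''ᵁ W).ι) := by
  rw [isAmple_restrict_restrict_iff]
  refine isAmple_restrict_iff_of_opensRange_eq _ L ?_
  rw [Scheme.Hom.opensRange_comp, Scheme.Opens.opensRange_ι]

/-- **Relative ampleness can be checked on a cover of an affine open by basic opens.** -/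
theorem isAmple_restrict_preimage_of_basicOpen_cover (f : X ⟶ Y) {L : X.Modules}
    (hL : PicF.IsInvertible L) (V : Y.Opens) (hc : IsCompact ((f ⁻¹ᵁ V : X.Opens) : Set X))
    {ι : Type*} (h : ι → Γ(Y, V)) (hcov : ∀ y ∈ V, ∃ i, y ∈ Y.basicOpen (h i))
    (hamp : ∀ i, CohB1.IsAmple (L.restrict (f ⁻¹ᵁ (Y.basicOpen (h i))).ι)) :
    CohB1.IsAmple (L.restrict (f ⁻¹ᵁ V).ι) := by
  have : CompactSpace (f ⁻¹ᵁ V) := isCompact_iff_compactSpace.mp hc
  have himg : ∀ i, (f ⁻¹ᵁ V).ι ''ᵁ ((f ⁻¹ᵁ V).toScheme.basicOpen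
      ((f ⁻¹ᵁ V).topIso.inv ((f.app V).hom (h i)))) = f ⁻¹ᵁ (Y.basicOpen (h i)) := by
    intro i
    rw [Scheme.Opens.ι_image_basicOpen_topIso_inv, Scheme.preimage_basicOpen]
  refine isAmple_of_basicOpen_cover (isInvertible_restrict _ hL)
    (fun i => (f ⁻¹ᵁ V).topIso.inv ((f.app V).hom (h i))) ?_ ?_
  · rintro ⟨x, hx⟩
    obtain ⟨i, hi⟩ := hcov (f x) hx
    refine ⟨i, ?_⟩
    have : x ∈ (f ⁻¹ᵁ V).ι ''ᵁ ((f ⁻¹ᵁ V).toScheme.basicOpen
        ((f ⁻¹ᵁ V).topIso.inv ((f.app V).hom (h i)))) := by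
      rw [himg i]; exact hi
    obtain ⟨y, hy, hyx⟩ := this
    have : y = ⟨x, hx⟩ := Subtype.ext hyx
    rw [← this]; exact hy
  · intro i
    rw [isAmple_restrict_restrict_ι_iff, himg i]
    exact hamp i

end LocalBase

section LocalBase2
variable {X Y : Scheme.{u}}

theorem isAmple_restrict_mono {L : X.Modules} {U U' : X.Opens} (hle : U' ≤ U)
    (hc : IsCompact (U' : Set X)) (h : CohB1.IsAmple (L.restrict U.ι)) :
    CohB1.IsAmple (L.restrict U'.ι) := by
  have e : U.ι ''ᵁ (U.ι ⁻¹ᵁ U') = U' := by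
    rw [Scheme.Hom.image_preimage_eq_opensRange_inf, Scheme.Opens.opensRange_ι]
    exact inf_eq_right.mpr hle
  have hc' : IsCompact ((U.ι ⁻¹ᵁ U' : U.toScheme.Opens) : Set U) := by
    rw [U.ι.isOpenEmbedding.isEmbedding.isCompact_iff]
    have : U.ι '' ((U.ι ⁻¹ᵁ U' : U.toScheme.Opens) : Set U) = (U' : Set X) :=
      congrArg (fun W : X.Opens => (W : Set X)) e
    rw [this]; exact hc
  have h2 := isAmple_restrict_of_isCompact h (U.ι ⁻¹ᵁ U') hc'
  rw [isAmple_restrict_restrict_ι_iff, e] at h2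
  exact h2

theorem isRelAmple_of_comp {Z : Scheme.{u}} (f : X ⟶ Y) (g : Y ⟶ Z) [QuasiCompact f]
    {L : X.Modules} (hL : RelAmple.IsRelAmple (f ≫ g) L) : RelAmple.IsRelAmple f L := by
  have hinv := isInvertible_of_isRelAmple (f ≫ g) hL
  refine ⟨inferInstance, fun V => ?_⟩
  have hc : ∀ W : Y.Opens, IsAffineOpen W → IsCompact ((f ⁻¹ᵁ W : X.Opens) : Set X) :=
    fun W hW => QuasiCompact.isCompact_preimage (f := f) _ W.2 hW.isCompact
  have key : ∀ y : V.1, ∃ r : Γ(Y, V.1), (y : Y) ∈ Y.basicOpen r ∧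
      CohB1.IsAmple (L.restrict (f ⁻¹ᵁ (Y.basicOpen r)).ι) := by
    rintro ⟨y, hy⟩
    obtain ⟨W, hW, hyW, -⟩ := exists_isAffineOpen_mem_and_subset (x := g y) (U := ⊤) trivial
    obtain ⟨r, hr, hyr⟩ := V.2.exists_basicOpen_le (V := g ⁻¹ᵁ W) ⟨y, hyW⟩ hy
    refine ⟨r, hyr, ?_⟩
    refine isAmple_restrict_mono (U := (f ≫ g) ⁻¹ᵁ W) ?_ (hc _ (V.2.basicOpen r)) (hL.2 ⟨W, hW⟩)
    exact f.preimage_mono hr
  choose r hr1 hr2 using key
  exact isAmple_restrict_preimage_of_basicOpen_cover f hinv V.1 (hc V.1 V.2) r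
    (fun y hy => ⟨⟨y, hy⟩, hr1 ⟨y, hy⟩⟩) hr2

theorem isRelAmple_iff_of_openCover (f : X ⟶ Y) [QuasiCompact f] (L : X.Modules)
    {ι : Type*} (U : ι → Y.Opens) (hU : ⨆ i, U i = ⊤) :
    RelAmple.IsRelAmple f L ↔
      ∀ i, RelAmple.IsRelAmple (f ∣_ (U i)) (L.restrict (f ⁻¹ᵁ (U i)).ι) := by
  constructor
  · intro h i
    refine ⟨inferInstance, fun W => ?_⟩
    rw [isAmple_restrict_restrict_ι_iff, image_morphismRestrict_preimage]
    exact h.2 ⟨(U i).ι ''ᵁ W.1, W.2.image_of_isOpenImmersion _⟩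
  · intro h
    have hinv : PicF.IsInvertible L := by
      refine isInvertible_of_forall_restrict fun x => ?_
      have : f x ∈ (⨆ i, U i : Y.Opens) := by rw [hU]; trivial
      obtain ⟨i, hi⟩ := Opens.mem_iSup.mp this
      exact ⟨f ⁻¹ᵁ (U i), hi, isInvertible_of_isRelAmple _ (h i)⟩
    refine ⟨inferInstance, fun V => ?_⟩
    have hc : ∀ W : Y.Opens, IsAffineOpen W → IsCompact ((f ⁻¹ᵁ W : X.Opens) : Set X) :=
      fun W hW => QuasiCompact.isCompact_preimage (f := f) _ W.2 hW.isCompact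
    have key : ∀ y : V.1, ∃ r : Γ(Y, V.1), (y : Y) ∈ Y.basicOpen r ∧
        CohB1.IsAmple (L.restrict (f ⁻¹ᵁ (Y.basicOpen r)).ι) := by
      rintro ⟨y, hy⟩
      have : y ∈ (⨆ i, U i : Y.Opens) := by rw [hU]; trivial
      obtain ⟨i, hi⟩ := Opens.mem_iSup.mp this
      obtain ⟨r, hr, hyr⟩ := V.2.exists_basicOpen_le (V := U i) ⟨y, hi⟩ hy
      refine ⟨r, hyr, ?_⟩
      have e : (U i).ι ''ᵁ ((U i).ι ⁻¹ᵁ (Y.basicOpen r)) = Y.basicOpen r := by
        rw [Scheme.Hom.image_preimage_eq_opensRange_inf, Scheme.Opens.opensRange_ι]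
        exact inf_eq_right.mpr hr
      have haff : IsAffineOpen ((U i).ι ⁻¹ᵁ (Y.basicOpen r)) := by
        rw [← Scheme.Hom.isAffineOpen_iff_of_isOpenImmersion (U i).ι, e]
        exact V.2.basicOpen r
      have h2 := (h i).2 ⟨_, haff⟩
      rw [isAmple_restrict_restrict_ι_iff, image_morphismRestrict_preimage, e] at h2
      exact h2
    choose r hr1 hr2 using key
    exact isAmple_restrict_preimage_of_basicOpen_cover f hinv V.1 (hc V.1 V.2) r
      (fun y hy => ⟨⟨y, hy⟩, hr1 ⟨y, hy⟩⟩) hr2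

end LocalBase2

end Groth.Agent.Lib.Helper29.QCoh
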