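import Groth.Agent.Lib.Helper29.RelAmple2
import Groth.Prelude.Def_Curv2
universe u
open CategoryTheory CategoryTheory.Limits AlgebraicGeometry TopologicalSpace Opposite
open scoped TensorProduct

/-! # Serre's theorem A for ample invertible modules (EGA II 4.5.5) -/

namespace Groth.Agent.Lib.Helper29.QCoh

section Ext
variable {X : Scheme.{u}} {L : X.Modules}

theorem exists_extension_tmulSec_pow_of_le [CompactSpace X] [QuasiSeparatedSpace X]
    (hL : PicF.IsInvertible L) (s : unitM X ⟶ L) (F : X.Modules) [F.IsQuasicoherent]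
    (t : Γ(F, CohB1.genLocus L s)) :
    ∃ N₀ : ℕ, ∀ N, N₀ ≤ N → ∃ t' : Γ(CohB1.tensorMod F (CohB1.tensorPow L N), ⊤),
      QCoh.res (CohB1.tensorMod F (CohB1.tensorPow L N)) (le_top : CohB1.genLocus L s ≤ ⊤) t' =
        tmulSec F (CohB1.tensorPow L N) t (epow L (sval s (CohB1.genLocus L s)) N) := by
  have hq := isQuasicoherent_of_isInvertible hL
  obtain ⟨k, V, e, hV, -, he, hcov⟩ := exists_finite_isTriv_cover hL (U := ⊤) isCompact_univ
  have ha : ∀ i, ∃ a : Γ(X, V i), sval s (V i) = a • e i := fun i => (he i).exists_eq_smul _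
  choose a ha using ha
  have hD : ∀ i, CohB1.genLocus L s ⊓ V i = X.basicOpen (a i) :=
    fun i => (he i).genLocus_inf s (a i) (ha i)
  have hDle : ∀ i, X.basicOpen (a i) ≤ CohB1.genLocus L s := fun i => by
    rw [← hD i]; exact inf_le_left
  -- Step 1: local extensions with a uniform exponent
  have h0 : ∀ i, ∃ (n : ℕ) (u : Γ(F, V i)),
      (rres X (X.basicOpen_le (a i)) (a i)) ^ n • QCoh.res F (hDle i) t =
        QCoh.res F (X.basicOpen_le (a i)) u :=
    fun i => exists_pow_smul_eq_res F (hV i) (a i) (QCoh.res F (hDle i) t)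
  choose n₀ u₀ h₀ using h0
  let n := Finset.univ.sup n₀ + 1
  have hn₀ : ∀ i, n₀ i ≤ n := fun i => (Finset.le_sup (Finset.mem_univ i)).trans (Nat.le_succ _)
  obtain ⟨ti, h1⟩ : ∃ ti : ∀ i, Γ(F, V i), ∀ i,
      (rres X (X.basicOpen_le (a i)) (a i)) ^ n • QCoh.res F (hDle i) t =
        QCoh.res F (X.basicOpen_le (a i)) (ti i) := by
    refine ⟨fun i => (a i) ^ (n - n₀ i) • u₀ i, fun i => ?_⟩
    rw [res_smul', ← h₀ i, smul_smul, map_pow, ← pow_add, Nat.sub_add_cancel (hn₀ i)]
  -- Step 2: transition functions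
  have hg : ∀ i j, ∃ g : Γ(X, V i ⊓ V j),
      QCoh.res L inf_le_left (e i) = g • QCoh.res L inf_le_right (e j) ∧
        rres X inf_le_right (a j) = rres X inf_le_left (a i) * g :=
    fun i j => (he i).exists_transition s (he j) (a i) (a j) (ha i) (ha j)
  choose g hge hga using hg
  -- Step 3: the defect is killed by a power of `a i`
  have hWc : ∀ i j, IsCompact ((V i ⊓ V j : X.Opens) : Set X) := fun i j =>
    QuasiSeparatedSpace.inter_isCompact (V i : Set X) (V j : Set X) (V i).2 (hV i).isCompact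
      (V j).2 (hV j).isCompact
  have hdef : ∀ i j, ∃ m : ℕ, (rres X (inf_le_left : V i ⊓ V j ≤ V i) (a i)) ^ m •
      (QCoh.res F (inf_le_right : V i ⊓ V j ≤ V j) (ti j) -
        (g i j) ^ n • QCoh.res F (inf_le_left : V i ⊓ V j ≤ V i) (ti i)) = 0 := by
    intro i j
    refine exists_pow_smul_eq_zero_of_isCompact F (hWc i j) _ _ ?_
    have hB : X.basicOpen (rres X (inf_le_left : V i ⊓ V j ≤ V i) (a i)) =
        (V i ⊓ V j) ⊓ X.basicOpen (a i) := X.basicOpen_res (a i) (homOfLE inf_le_left).op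
    have hBi : X.basicOpen (rres X (inf_le_left : V i ⊓ V j ≤ V i) (a i)) ≤ X.basicOpen (a i) := by
      rw [hB]; exact inf_le_right
    have hBj : X.basicOpen (rres X (inf_le_left : V i ⊓ V j ≤ V i) (a i)) ≤ X.basicOpen (a j) := by
      rw [← hD j, hB, ← hD i]
      exact le_inf (inf_le_right.trans inf_le_left) (inf_le_left.trans inf_le_right)
    have hBs : X.basicOpen (rres X (inf_le_left : V i ⊓ V j ≤ V i) (a i)) ≤ CohB1.genLocus L s :=
      hBi.trans (hDle i)
    have e1 : QCoh.res F (X.basicOpen_le _) (QCoh.res F (inf_le_right : V i ⊓ V j ≤ V j) (ti j)) =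
        (rres X (hBj.trans (X.basicOpen_le _)) (a j)) ^ n • QCoh.res F hBs t := by
      rw [res_res, ← res_res F (X.basicOpen_le (a j)) hBj, ← h1 j, res_smul', res_res, map_pow,
        rres_rres]
    have e2 : QCoh.res F (X.basicOpen_le _) (QCoh.res F (inf_le_left : V i ⊓ V j ≤ V i) (ti i)) =
        (rres X (hBi.trans (X.basicOpen_le _)) (a i)) ^ n • QCoh.res F hBs t := by
      rw [res_res, ← res_res F (X.basicOpen_le (a i)) hBi, ← h1 i, res_smul', res_res, map_pow,
        rres_rres]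
    have e3 : rres X (hBj.trans (X.basicOpen_le _)) (a j) =
        rres X (hBi.trans (X.basicOpen_le _)) (a i) * rres X (X.basicOpen_le _) (g i j) := by
      have := congrArg (rres X (X.basicOpen_le (rres X (inf_le_left : V i ⊓ V j ≤ V i) (a i))))
        (hga i j)
      rw [map_mul, rres_rres, rres_rres] at this
      exact this
    rw [map_sub, res_smul', e1, e2, e3, map_pow, smul_smul, ← mul_pow, mul_comm, sub_self]
  choose m₀ hm₀ using hdef
  let m₁ := Finset.univ.sup (fun p : Fin k × Fin k => m₀ p.1 p.2)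
  refine ⟨n + m₁, fun N' hN' => ?_⟩
  obtain ⟨d', hd'⟩ := Nat.exists_eq_add_of_le hN'
  let m := m₁ + d'
  have hN'eq : N' = n + m := by rw [hd', Nat.add_assoc]
  subst hN'eq
  have hm : ∀ i j, (rres X (inf_le_left : V i ⊓ V j ≤ V i) (a i)) ^ m •
      (QCoh.res F (inf_le_right : V i ⊓ V j ≤ V j) (ti j) -
        (g i j) ^ n • QCoh.res F (inf_le_left : V i ⊓ V j ≤ V i) (ti i)) = 0 := by
    intro i j
    have hle : m₀ i j ≤ m := (Finset.le_sup (f := fun p : Fin k × Fin k => m₀ p.1 p.2)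
      (Finset.mem_univ (i, j))).trans (Nat.le_add_right _ _)
    obtain ⟨d, hd⟩ := Nat.exists_eq_add_of_le hle
    rw [hd, pow_add, mul_comm, mul_smul, hm₀ i j, smul_zero]
  -- Step 4: the local twisted sections
  let N := n + m
  obtain ⟨wi, hwi⟩ : ∃ wi : ∀ i, Γ(CohB1.tensorMod F (CohB1.tensorPow L N), V i), ∀ i, wi i =
      tmulSec F (CohB1.tensorPow L N) ((a i) ^ m • ti i) (epow L (e i) N) := ⟨_, fun _ => rfl⟩
  have hcompat : ∀ i j, QCoh.res _ (inf_le_left : V i ⊓ V j ≤ V i) (wi i) =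
      QCoh.res _ (inf_le_right : V i ⊓ V j ≤ V j) (wi j) := by
    intro i j
    rw [hwi i, hwi j, res_tmulSec, res_tmulSec, res_epow, res_epow, hge i j, epow_smul,
      tmulSec_smul_right, ← tmulSec_smul_left]
    congr 1
    rw [res_smul', res_smul', map_pow, map_pow, hga i j]
    exact (smul_pow_sub_aux _ _ n m _ _ (hm i j)).symm
  -- Step 5: glue
  obtain ⟨t', ht'⟩ := exists_gluing (CohB1.tensorMod F (CohB1.tensorPow L N)) V ⊤
    (fun _ => le_top) hcov wi hcompat
  refine ⟨t', ?_⟩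
  -- Step 6: compare on the cover of `X_s` by the `D(a i)`
  rw [← sub_eq_zero]
  have hcov' : CohB1.genLocus L s ≤ iSup fun i => X.basicOpen (a i) := by
    intro x hx
    obtain ⟨i, hi⟩ := Opens.mem_iSup.mp (hcov (show x ∈ (⊤ : X.Opens) from trivial))
    refine Opens.mem_iSup.mpr ⟨i, ?_⟩
    rw [← hD i]
    exact ⟨hx, hi⟩
  refine eq_zero_of_res_cover_eq_zero _ (fun i => X.basicOpen (a i)) hDle hcov' _ fun i => ?_
  rw [map_sub, sub_eq_zero, res_res, ← res_res _ (le_top : V i ≤ ⊤) (X.basicOpen_le (a i)), ht' i,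
    res_tmulSec, res_epow, res_sval, ← res_sval s (X.basicOpen_le (a i)), ha i, res_smul',
    epow_smul, tmulSec_smul_right, ← tmulSec_smul_left]
  rw [hwi i, res_tmulSec, res_epow, res_smul', ← h1 i, smul_smul, map_pow, ← pow_add, add_comm m n]


end Ext

variable {X : Scheme.{u}}

section TmulRight

/-- Multiplication by a global section of `M'`, as a morphism `G ⟶ G ⊗ M'`. -/
noncomputable def tmulRightHom (G : X.Modules) {M' : X.Modules} (σ : unitM X ⟶ M') :
    G ⟶ CohB1.tensorMod G M' :=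
  homOfApp
    (fun W =>
      { toFun := fun g => tmulSec G M' g (sval σ W)
        map_zero' := tmulSec_zero_left G M' _
        map_add' := fun a b => tmulSec_add_left G M' a b _ })
    (fun W r g => tmulSec_smul_left G M' r g _)
    (fun {W W'} h g => by
      change tmulSec G M' (QCoh.res G h g) (sval σ W') = QCoh.res _ h (tmulSec G M' g (sval σ W))
      rw [res_tmulSec, res_sval])

theorem tmulRightHom_app (G : X.Modules) {M' : X.Modules} (σ : unitM X ⟶ M') (W : X.Opens)
    (g : Γ(G, W)) : (tmulRightHom G σ).app W g = tmulSec G M' g (sval σ W) := rfl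

theorem tmulRightHom_app_bijective (G : X.Modules) {M' : X.Modules} [G.IsQuasicoherent]
    [M'.IsQuasicoherent] (σ : unitM X ⟶ M') {W : X.Opens} (hW : IsAffineOpen W)
    (hle : W ≤ CohB1.genLocus M' σ) : Function.Bijective ((tmulRightHom G σ).app W) := by
  have hT := isTriv_sval_of_le_genLocus σ hle
  have hb := hT.bijective
  let f : Γ(X, W) ≃ₗ[Γ(X, W)] Γ(M', W) :=
    LinearEquiv.ofBijective (LinearMap.toSpanSingleton Γ(X, W) Γ(M', W) (sval σ W)) hb
  let g : Γ(G, W) ≃ₗ[Γ(X, W)] Γ(CohB1.tensorMod G M', W) :=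
    (TensorProduct.rid Γ(X, W) Γ(G, W)).symm ≪≫ₗ
      TensorProduct.congr (LinearEquiv.refl _ _) f ≪≫ₗ tensorSectionsEquiv G M' hW
  have : ((tmulRightHom G σ).app W : Γ(G, W) → Γ(CohB1.tensorMod G M', W)) = g := by
    funext a
    simp [g, f, tmulRightHom_app]
  rw [this]
  exact g.bijective

theorem stalkMap_tmulRightHom_surjective (G : X.Modules) {M' : X.Modules} [G.IsQuasicoherent]
    [M'.IsQuasicoherent] (σ : unitM X ⟶ M') {x : X} (hx : x ∈ CohB1.genLocus M' σ) :
    Function.Surjective (stalkMap (tmulRightHom G σ) x) := by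
  intro τ
  obtain ⟨V, hVle, hxV, τ₀, rfl⟩ := (CohB1.tensorMod G M').presheaf.exists_le_germ_eq τ hx
  obtain ⟨W, hW, hxW, hWV⟩ := exists_isAffineOpen_mem_and_subset (x := x) (U := V) hxV
  obtain ⟨g, hg⟩ := (tmulRightHom_app_bijective G σ hW (hWV.trans hVle)).2
    (QCoh.res _ hWV τ₀)
  refine ⟨G.presheaf.germ W x hxW g, ?_⟩
  rw [stalkMap_germ, hg, germ_res]

end TmulRight

section GenAt

/-- Germs of global sections generate the stalk at `x`. -/
def GenAt (G : X.Modules) (x : X) : Prop :=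
  Submodule.span (X.presheaf.stalk x)
    (Set.range fun σ : Γ(G, ⊤) => G.presheaf.germ ⊤ x trivial σ) = ⊤

theorem isGloballyGenerated_of_genAt (G : X.Modules) (h : ∀ x, GenAt G x) :
    Curv2.IsGloballyGenerated G :=
  ⟨Γ(G, ⊤), homOfSections G id, epi_homOfSections_of_span G id h⟩

theorem isGloballyGenerated_of_iso {G G' : X.Modules} (e : G ≅ G')
    (h : Curv2.IsGloballyGenerated G) : Curv2.IsGloballyGenerated G' := by
  obtain ⟨ι, p, hp⟩ := h
  exact ⟨ι, p ≫ e.hom, epi_comp p e.hom⟩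

/-- A quasi-coherent module of finite type on an affine open is generated, at all stalks, by
finitely many sections. -/
theorem exists_fin_sections_span_germ_eq_top (M : X.Modules) [M.IsQuasicoherent] [M.IsFiniteType]
    {U : X.Opens} (hU : IsAffineOpen U) :
    ∃ (n : ℕ) (t : Fin n → Γ(M, U)), ∀ (y : X) (hy : y ∈ U),
      Submodule.span (X.presheaf.stalk y) (Set.range fun i => M.presheaf.germ U y hy (t i)) = ⊤ := by
  have hfin := module_finite_of_isFiniteType M hU
  obtain ⟨n, t, ht⟩ := Module.Finite.exists_fin (R := Γ(X, U)) (M := Γ(M, U))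
  refine ⟨n, t, fun y hy => ?_⟩
  have key : ∀ m ∈ Submodule.span Γ(X, U) (Set.range t),
      M.presheaf.germ U y hy m ∈ Submodule.span (X.presheaf.stalk y)
        (Set.range fun i => M.presheaf.germ U y hy (t i)) := by
    intro m hm
    induction hm using Submodule.span_induction with
    | mem a ha =>
      obtain ⟨i, rfl⟩ := ha
      exact Submodule.subset_span ⟨i, rfl⟩
    | zero => rw [map_zero]; exact Submodule.zero_mem _
    | add a b _ _ ha hb => rw [map_add]; exact Submodule.add_mem _ ha hb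
    | smul c a _ ha => rw [germ_smul]; exact Submodule.smul_mem _ _ ha
  rw [eq_top_iff]
  rintro τ -
  obtain ⟨r, m, hyr, hrm⟩ := exists_smul_germ_eq M hU y hy τ
  have hgm := key m (by rw [ht]; trivial)
  have hu : IsUnit (X.presheaf.germ U y hy r) := (X.mem_basicOpen r y hy).mp hyr
  obtain ⟨u, hu⟩ := hu
  have : τ = (↑u⁻¹ : X.presheaf.stalk y) • M.presheaf.germ U y hy m := by
    rw [← hrm, ← hu, smul_smul, Units.inv_mul, one_smul]
  rw [this]
  exact Submodule.smul_mem _ _ hgm

theorem span_stalkMap_eq_top {G G' : X.Modules} (φ : G ⟶ G') (x : X)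
    (hφ : Function.Surjective (stalkMap φ x)) {S : Set (G.presheaf.stalk x)}
    (hS : Submodule.span (X.presheaf.stalk x) S = ⊤) {S' : Set (G'.presheaf.stalk x)}
    (hSS' : ∀ a ∈ S, stalkMap φ x a ∈ S') :
    Submodule.span (X.presheaf.stalk x) S' = ⊤ := by
  rw [eq_top_iff]
  rintro τ' -
  obtain ⟨τ, rfl⟩ := hφ τ'
  have hτ : τ ∈ Submodule.span (X.presheaf.stalk x) S := by rw [hS]; trivial
  induction hτ using Submodule.span_induction with
  | mem a ha => exact Submodule.subset_span (hSS' a ha)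
  | zero => rw [map_zero]; exact Submodule.zero_mem _
  | add a b _ _ ha hb => rw [map_add]; exact Submodule.add_mem _ ha hb
  | smul c a _ ha => rw [stalkMap_smul]; exact Submodule.smul_mem _ _ ha

end GenAt

section Local

theorem sval_powHom {M : X.Modules} (s : unitM X ⟶ M) (N : ℕ) (U : X.Opens) :
    sval (SecTwist.powHom s N) U = epow M (sval s U) N := by
  change SecTwist.val (SecTwist.powHom s N) U = _
  rw [SecTwist.val_powHom, pow_eq_epow]

/-- **Local form of Serre's theorem A.** -/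
theorem exists_genAt_twist [CompactSpace X] [QuasiSeparatedSpace X] {M : X.Modules}
    (hM : PicF.IsInvertible M) (s : unitM X ⟶ M) (haff : IsAffineOpen (CohB1.genLocus M s))
    (F : X.Modules) [F.IsQuasicoherent] [F.IsFiniteType] :
    ∃ N₀ : ℕ, ∀ N, N₀ ≤ N → ∀ x ∈ CohB1.genLocus M s,
      GenAt (CohB1.tensorMod F (CohB1.tensorPow M N)) x := by
  have hq := isQuasicoherent_of_isInvertible hM
  obtain ⟨n, t, ht⟩ := exists_fin_sections_span_germ_eq_top F haff
  choose N₁ hN₁ using fun j => exists_extension_tmulSec_pow_of_le hM s F (t j)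
  refine ⟨Finset.univ.sup N₁ + 1, fun N hN x hx => ?_⟩
  obtain ⟨N', rfl⟩ : ∃ N', N = N' + 1 := ⟨N - 1, by omega⟩
  have hNj : ∀ j, N₁ j ≤ N' + 1 := fun j =>
    ((Finset.le_sup (Finset.mem_univ j)).trans (Nat.le_succ _)).trans hN
  choose t' ht' using fun j => hN₁ j (N' + 1) (hNj j)
  have hloc : CohB1.genLocus _ (SecTwist.powHom s (N' + 1)) = CohB1.genLocus M s :=
    genLocus_powHom hM s N'
  have hx' : x ∈ CohB1.genLocus _ (SecTwist.powHom s (N' + 1)) := by rw [hloc]; exact hx
  have hsurj := stalkMap_tmulRightHom_surjective F (SecTwist.powHom s (N' + 1)) hx'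
  refine span_stalkMap_eq_top (tmulRightHom F (SecTwist.powHom s (N' + 1))) x hsurj
    (ht x hx) ?_
  rintro _ ⟨j, rfl⟩
  refine ⟨t' j, ?_⟩
  rw [stalkMap_germ, tmulRightHom_app, sval_powHom, ← ht' j, germ_res]

end Local

section Global

theorem isFiniteType_of_isInvertible {L : X.Modules} (hL : PicF.IsInvertible L) :
    L.IsFiniteType := by
  have := isFinitePresentation_of_isFinLocFree (isFinLocFree_of_isFinLocFreeOfRank
    ((isInvertible_iff_isFinLocFreeOfRank_one L).mp hL))
  infer_instance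

/-- **Serre's theorem A** (EGA II 4.5.5): on a scheme with an ample invertible module `L`, for
every quasi-coherent module `F` of finite type, `F ⊗ L^n` is globally generated for `n ≫ 0`. -/
theorem exists_isGloballyGenerated_twist {L : X.Modules} (hL : CohB1.IsAmple L)
    (F : X.Modules) [F.IsQuasicoherent] [F.IsFiniteType] :
    ∃ n₀ : ℕ, ∀ n, n₀ ≤ n →
      Curv2.IsGloballyGenerated (CohB1.tensorMod F (CohB1.tensorPow L n)) := by
  have hc : CompactSpace X := hL.2.1
  have hsep : X.IsSeparated := isSeparated_of_isAmple hL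
  have hinv := hL.1
  have hqL := isQuasicoherent_of_isInvertible hinv
  choose k s hxs haff using hL.2.2
  obtain ⟨T, hT⟩ := isCompact_univ.elim_finite_subcover
    (fun x : X => ((CohB1.genLocus _ (s x) : X.Opens) : Set X))
    (fun x => (CohB1.genLocus _ (s x)).isOpen)
    (fun x _ => Set.mem_iUnion.mpr ⟨x, hxs x⟩)
  classical
  -- common exponent
  obtain ⟨m, hm⟩ : ∃ m : ℕ, m = ∏ y ∈ T, (k y + 1) := ⟨_, rfl⟩
  have hmpos : 0 < m := by rw [hm]; exact Finset.prod_pos fun y _ => Nat.succ_pos _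
  have hs' : ∀ x ∈ T, ∃ σ : unitM X ⟶ CohB1.tensorPow L m,
      CohB1.genLocus _ σ = CohB1.genLocus _ (s x) := by
    intro x hx
    refine exists_pow_section hinv (s x) (∏ y ∈ T.erase x, (k y + 1)) m
      (Finset.prod_pos fun y _ => Nat.succ_pos _) ?_
    rw [hm]
    exact Finset.mul_prod_erase T (fun y => k y + 1) hx
  choose! σ hσ using hs'
  have hM := isInvertible_tensorPow hinv m
  -- the bounds
  have hbound : ∀ r : ℕ, ∀ x ∈ T, ∃ N₀ : ℕ, ∀ N, N₀ ≤ N → ∀ x' ∈ CohB1.genLocus _ (s x),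
      GenAt (CohB1.tensorMod (CohB1.tensorMod F (CohB1.tensorPow L r))
        (CohB1.tensorPow (CohB1.tensorPow L m) N)) x' := by
    intro r x hx
    have hftr := isFiniteType_of_isInvertible (isInvertible_tensorPow hinv r)
    have haff' : IsAffineOpen (CohB1.genLocus _ (σ x)) := by rw [hσ x hx]; exact haff x
    obtain ⟨N₀, hN₀⟩ := exists_genAt_twist hM (σ x) haff'
      (CohB1.tensorMod F (CohB1.tensorPow L r))
    exact ⟨N₀, fun N hN x' hx' => hN₀ N hN x' (by rw [hσ x hx]; exact hx')⟩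
  choose! N₀ hN₀ using hbound
  obtain ⟨Nstar, hNstar⟩ : ∃ Nstar : ℕ, ∀ r < m, ∀ x ∈ T, N₀ r x ≤ Nstar :=
    ⟨(Finset.range m).sup fun r => T.sup fun x => N₀ r x, fun r hr x hx =>
      (Finset.le_sup (f := fun x => N₀ r x) hx).trans
        (Finset.le_sup (f := fun r => T.sup fun x => N₀ r x) (Finset.mem_range.mpr hr))⟩
  refine ⟨m * Nstar, fun n hn => ?_⟩
  have hq : Nstar ≤ n / m := (Nat.le_div_iff_mul_le hmpos).mpr (by rw [Nat.mul_comm]; exact hn)
  have hr : n % m < m := Nat.mod_lt _ hmpos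
  have hgg : Curv2.IsGloballyGenerated (CohB1.tensorMod (CohB1.tensorMod F (CohB1.tensorPow L (n % m)))
      (CohB1.tensorPow (CohB1.tensorPow L m) (n / m))) := by
    refine isGloballyGenerated_of_genAt _ fun x' => ?_
    have := hT (Set.mem_univ x')
    simp only [Set.mem_iUnion, exists_prop] at this
    obtain ⟨x, hxT, hx'⟩ := this
    exact hN₀ (n % m) x hxT (n / m) ((hNstar _ hr x hxT).trans hq) x' hx'
  have hn' : n % m + m * (n / m) = n := Nat.mod_add_div n m
  have hiso := isGloballyGenerated_of_iso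
    (tensorAssoc F (CohB1.tensorPow L (n % m)) (CohB1.tensorPow (CohB1.tensorPow L m) (n / m)) ≪≫
      tensorCongr (Iso.refl F)
        (tensorCongr (Iso.refl _) (tensorPowMul L m (n / m)) ≪≫ tensorPowAdd L (n % m) (m * (n / m))))
    hgg
  rw [hn'] at hiso
  exact hiso

end Global

section GG
variable {X : Scheme.{u}}

theorem hom_ext_of_sval {N : X.Modules} (s s' : unitM X ⟶ N)
    (h : sval s ⊤ = sval s' ⊤) : s = s' := by
  apply Scheme.Modules.hom_ext
  intro W
  ext r
  obtain ⟨r', rfl⟩ := toUnit_surjective r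
  rw [app_eq_smul_sval, app_eq_smul_sval, ← res_sval s (le_top : W ≤ ⊤),
    ← res_sval s' (le_top : W ≤ ⊤), h]

theorem free_hom_ext {N : X.Modules} {ι : Type u} (p q : freeM X ι ⟶ N)
    (h : ∀ i, ιFreeM X i ≫ p = ιFreeM X i ≫ q) : p = q :=
  Cofan.IsColimit.hom_ext (SheafOfModules.isColimitFreeCofan (R := X.ringCatSheaf) ι) _ _ h

theorem sval_comp {N N' : X.Modules} (s : unitM X ⟶ N) (φ : N ⟶ N') (U : X.Opens) :
    sval (s ≫ φ) U = φ.app U (sval s U) := rfl

/-- A globally generated invertible module has, through every point, a generating section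
not vanishing there. -/
theorem exists_mem_genLocus_of_epi {B : X.Modules} (hB : PicF.IsInvertible B) {ι : Type u}
    (p : freeM X ι ⟶ B) [Epi p] (x : X) : ∃ i, x ∈ CohB1.genLocus B (ιFreeM X i ≫ p) := by
  by_contra hcon
  push Not at hcon
  obtain ⟨U, e, hxU, hT⟩ := exists_isTriv hB x
  let j := X.fromSpecResidueField x
  let η := (Scheme.Modules.pullbackPushforwardAdjunction j).unit.app B
  have hjU : j ⁻¹ᵁ U = ⊤ := by
    ext z
    simp only [Opens.coe_top, Set.mem_univ, iff_true]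
    change j z ∈ U
    rw [Scheme.fromSpecResidueField_apply]
    exact hxU
  have hT' := hT.pullSect j
  have hzero : ∀ i, (ιFreeM X i ≫ p) ≫ η = 0 := by
    intro i
    apply hom_ext_of_sval
    rw [sval_comp]
    obtain ⟨a, ha⟩ := hT.exists_eq_smul (sval (ιFreeM X i ≫ p) U)
    have hxa : x ∉ X.basicOpen a := fun hx =>
      hcon i ((mem_genLocus_iff_of_isTriv _ hT a ha x hxU).mpr hx)
    have hja : j.app U a = 0 := by
      rw [← AlgebraicGeometry.basicOpen_eq_bot_iff, ← Scheme.preimage_basicOpen]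
      ext z
      simp only [Opens.coe_bot, Set.mem_empty_iff_false, iff_false]
      change ¬ (j z ∈ X.basicOpen a)
      rw [Scheme.fromSpecResidueField_apply]
      exact hxa
    have h1 : QCoh.res _ (j.preimage_mono (le_top : U ≤ ⊤))
        (pullSect j B ⊤ (sval (ιFreeM X i ≫ p) ⊤)) = 0 := by
      rw [← pullSect_res _ _ (le_top : U ≤ ⊤), res_sval, ha, pullSect_smul, hja, zero_smul]
    have hcov : j ⁻¹ᵁ (⊤ : X.Opens) ≤ iSup (fun _ : Unit => j ⁻¹ᵁ U) := by
      rw [hjU]; exact le_iSup (fun _ : Unit => (⊤ : (Spec (X.residueField x)).Opens)) ()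
    exact eq_zero_of_res_cover_eq_zero _ (fun _ : Unit => j ⁻¹ᵁ U)
      (fun _ => j.preimage_mono (le_top : U ≤ ⊤)) hcov _ (fun _ => h1)
  have hpη : p ≫ η = 0 := by
    apply free_hom_ext
    intro i
    rw [← Category.assoc, hzero i, comp_zero]
  have hη : η = 0 := by
    rw [← cancel_epi p, hpη, comp_zero]
  have he0 : pullSect j B U e = 0 := by
    rw [pullSect_def]
    change η.app U e = 0
    rw [hη]
    rfl
  have hb := hT'.bijective
  rw [he0] at hb
  have h10 : (1 : Γ(Spec (X.residueField x), j ⁻¹ᵁ U)) = 0 := hb.1 (by simp)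
  have hne : Nonempty (j ⁻¹ᵁ U : (Spec (X.residueField x)).Opens) := by
    rw [hjU]
    exact ⟨⟨Classical.arbitrary _, trivial⟩⟩
  exact one_ne_zero h10


theorem exists_mem_genLocus_of_isGloballyGenerated {B : X.Modules} (hB : PicF.IsInvertible B)
    (hgg : Curv2.IsGloballyGenerated B) (x : X) :
    ∃ σ : unitM X ⟶ B, x ∈ CohB1.genLocus B σ := by
  obtain ⟨ι, p, hp⟩ := hgg
  have key : ∃ i, x ∈ CohB1.genLocus B (ιFreeM X i ≫ p) :=
    @exists_mem_genLocus_of_epi X B hB ι p hp x
  obtain ⟨i, hi⟩ := key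
  exact ⟨_, hi⟩

/-- ample ⊗ (invertible, globally generated) is ample (EGA II 4.5.6(i)). -/
theorem isAmple_tensorMod_of_isGloballyGenerated {A B : X.Modules} (hA : CohB1.IsAmple A)
    (hB : PicF.IsInvertible B) (hgg : Curv2.IsGloballyGenerated B) :
    CohB1.IsAmple (CohB1.tensorMod A B) :=
  isAmple_tensorMod_of_covering hA hB fun x => by
    obtain ⟨σ, hσ⟩ := exists_mem_genLocus_of_isGloballyGenerated hB hgg x
    refine ⟨0, σ ≫ (tensorPowOne B).inv, ?_⟩
    have := genLocus_comp_iso σ (tensorPowOne B).symm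
    rw [Iso.symm_hom] at this
    rw [this]
    exact hσ

/-- `L` ample, `L'` invertible: `L^n ⊗ L'` is ample and globally generated for `n ≫ 0`
(EGA II 4.5.8 / 4.5.5). -/
theorem exists_isAmple_isGloballyGenerated_twist {L L' : X.Modules} (hL : CohB1.IsAmple L)
    (hL' : PicF.IsInvertible L') :
    ∃ n₀ : ℕ, 0 < n₀ ∧ ∀ n, n₀ ≤ n →
      CohB1.IsAmple (CohB1.tensorMod (CohB1.tensorPow L n) L') ∧
        Curv2.IsGloballyGenerated (CohB1.tensorMod (CohB1.tensorPow L n) L') := by
  have hq := isQuasicoherent_of_isInvertible hL'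
  have hft := isFiniteType_of_isInvertible hL'
  obtain ⟨n₁, hn₁⟩ := exists_isGloballyGenerated_twist hL L'
  have hgg : ∀ n, n₁ ≤ n →
      Curv2.IsGloballyGenerated (CohB1.tensorMod (CohB1.tensorPow L n) L') := fun n hn =>
    isGloballyGenerated_of_iso (tensorBraid _ _) (hn₁ n hn)
  refine ⟨n₁ + 1, Nat.succ_pos _, fun n hn => ⟨?_, hgg n (by omega)⟩⟩
  obtain ⟨k, rfl⟩ : ∃ k, n = (k + 1) + n₁ := ⟨n - n₁ - 1, by omega⟩
  have hA : CohB1.IsAmple (CohB1.tensorPow L (k + 1)) :=
    (isAmple_iff_tensorPow hL.1 (k + 1) (Nat.succ_pos _)).mp hL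
  have hB : PicF.IsInvertible (CohB1.tensorMod (CohB1.tensorPow L n₁) L') :=
    isInvertible_tensorMod (isInvertible_tensorPow hL.1 _) hL'
  have h1 := isAmple_tensorMod_of_isGloballyGenerated hA hB (hgg n₁ le_rfl)
  refine isAmple_of_iso ?_ h1
  exact (tensorAssoc _ _ _).symm ≪≫ tensorCongr (tensorPowAdd L (k + 1) n₁) (Iso.refl L')

end GG

section QA
variable {X : Scheme.{u}}

/-- On a quasi-affine scheme every quasi-coherent module is generated by its global sections at
every point. -/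
theorem genAt_of_isQuasiAffine [X.IsQuasiAffine] (F : X.Modules) [F.IsQuasicoherent] (x : X) :
    GenAt F x := by
  rw [GenAt, eq_top_iff]
  rintro t -
  obtain ⟨V, hxV, m, rfl⟩ := F.presheaf.exists_germ_eq t
  obtain ⟨_, ⟨r, hr, rfl⟩, hxr, hrV⟩ :=
    Opens.isBasis_iff_nbhd.mp (Scheme.IsQuasiAffine.isBasis_basicOpen X) hxV
  obtain ⟨n, σ, hσ⟩ := exists_pow_smul_eq_res_of_qcqs F (U := ⊤) isCompact_univ
    isQuasiSeparated_univ r (res F hrV m)
  have h1 := congrArg (F.presheaf.germ (X.basicOpen r) x hxr) hσ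
  rw [germ_smul, germ_res, germ_res, map_pow] at h1
  have hu : IsUnit (X.presheaf.germ (X.basicOpen r) x hxr
      (X.presheaf.map (homOfLE (X.basicOpen_le r)).op r)) := by
    have := (X.mem_basicOpen r x trivial).mp hxr
    rwa [X.presheaf.germ_res_apply]
  obtain ⟨c, hc⟩ := (hu.pow n).exists_left_inv
  have h2 : F.presheaf.germ V x hxV m = c • F.presheaf.germ ⊤ x trivial σ := by
    rw [← h1, smul_smul, hc, one_smul]
  rw [h2]
  exact Submodule.smul_mem _ _ (Submodule.subset_span ⟨σ, rfl⟩)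

theorem isGloballyGenerated_of_isQuasiAffine [X.IsQuasiAffine] (F : X.Modules)
    [F.IsQuasicoherent] : Curv2.IsGloballyGenerated F :=
  isGloballyGenerated_of_genAt F (genAt_of_isQuasiAffine F)

end QA

section AmpleOfGG
variable {X : Scheme.{u}}

theorem isAffineOpen_inf_genLocus {N : X.Modules} (hN : PicF.IsInvertible N) (t : unitM X ⟶ N)
    {U : X.Opens} (hU : IsAffineOpen U) : IsAffineOpen (U ⊓ CohB1.genLocus N t) := by
  have := isAffineHom_genLocus_ι hN t
  have h := (hU.preimage (CohB1.genLocus N t).ι).image_of_isOpenImmersion (CohB1.genLocus N t).ι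
  rwa [Scheme.Hom.image_preimage_eq_opensRange_inf, Scheme.Opens.opensRange_ι, inf_comm] at h

/-- A quasi-compact scheme covered by affine opens `X_s`, `s` sections of globally generated
invertible modules, has an ample invertible module. -/
theorem exists_isAmple_of_isGloballyGenerated_cover [CompactSpace X]
    (h : ∀ x : X, ∃ (L : X.Modules) (s : unitM X ⟶ L), PicF.IsInvertible L ∧
      Curv2.IsGloballyGenerated L ∧ x ∈ CohB1.genLocus L s ∧ IsAffineOpen (CohB1.genLocus L s)) :
    ∃ M : X.Modules, CohB1.IsAmple M := by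
  choose L s hinv hgg hxs haff using h
  obtain ⟨T, hT⟩ := isCompact_univ.elim_finite_subcover
    (fun x : X => ((CohB1.genLocus _ (s x) : X.Opens) : Set X))
    (fun x => (CohB1.genLocus _ (s x)).isOpen)
    (fun x _ => Set.mem_iUnion.mpr ⟨x, hxs x⟩)
  have key : ∀ T : Finset X, ∃ M : X.Modules, PicF.IsInvertible M ∧
      (∀ x : X, ∃ τ : unitM X ⟶ M, x ∈ CohB1.genLocus M τ) ∧
      ∀ i ∈ T, ∀ x ∈ CohB1.genLocus _ (s i), ∃ σ : unitM X ⟶ M,
        x ∈ CohB1.genLocus M σ ∧ IsAffineOpen (CohB1.genLocus M σ) := by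
    classical
    intro T
    induction T using Finset.induction_on with
    | empty =>
      refine ⟨unitM X, isInvertible_unit X, fun x => ⟨𝟙 _, ?_⟩, ?_⟩
      · rw [genLocus_id]; trivial
      · intro i hi; simp at hi
    | insert a T ha ih =>
      obtain ⟨M, hM, hMgg, hMT⟩ := ih
      refine ⟨CohB1.tensorMod M (L a), isInvertible_tensorMod hM (hinv a), fun x => ?_, ?_⟩
      · obtain ⟨τ, hτ⟩ := hMgg x
        obtain ⟨t, ht⟩ := exists_mem_genLocus_of_isGloballyGenerated (hinv a) (hgg a) x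
        exact ⟨SecTwist.tmulHom τ t, by rw [genLocus_tmulHom hM (hinv a)]; exact ⟨hτ, ht⟩⟩
      · intro i hi x hx
        rw [Finset.mem_insert] at hi
        rcases hi with rfl | hi
        · obtain ⟨τ, hτ⟩ := hMgg x
          refine ⟨SecTwist.tmulHom τ (s i), ?_, ?_⟩
          · rw [genLocus_tmulHom hM (hinv i)]; exact ⟨hτ, hx⟩
          · rw [genLocus_tmulHom hM (hinv i), inf_comm]
            exact isAffineOpen_inf_genLocus hM τ (haff i)
        · obtain ⟨σ, hσ, hσaff⟩ := hMT i hi x hx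
          obtain ⟨t, ht⟩ := exists_mem_genLocus_of_isGloballyGenerated (hinv a) (hgg a) x
          refine ⟨SecTwist.tmulHom σ t, ?_, ?_⟩
          · rw [genLocus_tmulHom hM (hinv a)]; exact ⟨hσ, ht⟩
          · rw [genLocus_tmulHom hM (hinv a)]
            exact isAffineOpen_inf_genLocus (hinv a) t hσaff
  obtain ⟨M, hM, -, hMT⟩ := key T
  refine ⟨M, hM, inferInstance, fun x => ?_⟩
  have hx : x ∈ ⋃ i ∈ T, ((CohB1.genLocus _ (s i) : X.Opens) : Set X) := hT (Set.mem_univ x)
  obtain ⟨i, hi, hxi⟩ := Set.mem_iUnion₂.mp hx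
  obtain ⟨σ, hσ, hσaff⟩ := hMT i hi x hxi
  have hg := genLocus_comp_iso σ (tensorPowOne M).symm
  rw [Iso.symm_hom] at hg
  exact ⟨0, σ ≫ (tensorPowOne M).inv, by rw [hg]; exact hσ, by rw [hg]; exact hσaff⟩

end AmpleOfGG

section GGExt

theorem epi_of_shortExact_of_lifts {𝒜 : Type*} [Category 𝒜] [Abelian 𝒜] (S : ShortComplex 𝒜)
    (hS : S.ShortExact) {P P₁ P₃ : 𝒜} (π : P ⟶ S.X₂) (p₁ : P₁ ⟶ S.X₁) [Epi p₁]
    (p₃ : P₃ ⟶ S.X₃) [Epi p₃]
    (h₁ : ∀ (C : 𝒜) (c : S.X₂ ⟶ C), π ≫ c = 0 → (p₁ ≫ S.f) ≫ c = 0)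
    (h₃ : ∀ (C : 𝒜) (c' : S.X₃ ⟶ C), π ≫ S.g ≫ c' = 0 → p₃ ≫ c' = 0) : Epi π := by
  have hepi_g : Epi S.g := hS.epi_g
  rw [Preadditive.epi_iff_cancel_zero]
  intro C c hc
  have h1 := h₁ C c hc
  have h2 : S.f ≫ c = 0 := by
    rw [Category.assoc] at h1
    exact (cancel_epi p₁).mp (by rw [h1, comp_zero])
  obtain ⟨c', hc'⟩ : ∃ c' : S.X₃ ⟶ C, S.g ≫ c' = c :=
    ⟨hS.exact.desc c h2, hS.exact.g_desc c h2⟩
  have h3 : p₃ ≫ c' = 0 := h₃ C c' (by rw [hc', hc])
  have h4 : c' = 0 := (cancel_epi p₃).mp (by rw [h3, comp_zero])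
  rw [← hc', h4, comp_zero]

variable {X : Scheme.{u}}

theorem isGloballyGenerated_of_shortExact (S : ShortComplex X.Modules) (hS : S.ShortExact)
    (hsurj : Function.Surjective (S.g.app ⊤))
    (h1 : Curv2.IsGloballyGenerated S.X₁) (h3 : Curv2.IsGloballyGenerated S.X₃) :
    Curv2.IsGloballyGenerated S.X₂ := by
  obtain ⟨ι₁, p₁, hp₁⟩ := h1
  obtain ⟨ι₃, p₃, hp₃⟩ := h3
  have hlift : ∀ j : ι₃, ∃ m : Γ(S.X₂, ⊤), S.g.app ⊤ m = sval (ιFreeM X j ≫ p₃) ⊤ :=
    fun j => hsurj _
  choose m hm using hlift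
  let sec : ι₁ ⊕ ι₃ → Γ(S.X₂, ⊤) := fun k =>
    match k with
    | Sum.inl i => sval (ιFreeM X i ≫ p₁ ≫ S.f) ⊤
    | Sum.inr j => m j
  refine ⟨ι₁ ⊕ ι₃, homOfSections S.X₂ sec, ?_⟩
  have hl : ∀ i : ι₁, ιFreeM X (Sum.inl i) ≫ homOfSections S.X₂ sec = ιFreeM X i ≫ p₁ ≫ S.f := by
    intro i
    rw [ι_homOfSections]
    apply hom_ext_of_sval
    rw [sval_homOfSection, res_self]
  have hr : ∀ j : ι₃, (ιFreeM X (Sum.inr j) ≫ homOfSections S.X₂ sec) ≫ S.g = ιFreeM X j ≫ p₃ := by
    intro j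
    rw [ι_homOfSections]
    apply hom_ext_of_sval
    rw [sval_comp, sval_homOfSection, res_self]
    exact hm j
  refine @epi_of_shortExact_of_lifts X.Modules _ _ S hS _ _ _ (homOfSections S.X₂ sec) p₁ hp₁ p₃ hp₃
    ?_ ?_
  · intro C c hc
    apply free_hom_ext (X := X)
    intro i
    have : ιFreeM X i ≫ (p₁ ≫ S.f) ≫ c = (ιFreeM X (Sum.inl i) ≫ homOfSections S.X₂ sec) ≫ c := by
      rw [hl i]; simp only [Category.assoc]
    rw [this, Category.assoc, hc, comp_zero, comp_zero]
  · intro C c' hc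
    apply free_hom_ext (X := X)
    intro j
    have : ιFreeM X j ≫ p₃ ≫ c' =
        ιFreeM X (Sum.inr j) ≫ homOfSections S.X₂ sec ≫ S.g ≫ c' := by
      rw [← Category.assoc, ← hr j]; simp only [Category.assoc]
    rw [this, hc, comp_zero, comp_zero]

end GGExt

section CounitEpi
variable {X Y : Scheme.{u}}

/-- If the counit `f^* f_* F ⟶ F` is an epimorphism (`f` qcqs, `F` quasi-coherent), then `F`
is globally generated over the preimage of every affine open. -/
theorem isGloballyGenerated_restrict_of_epi_counit (f : X ⟶ Y) [QuasiCompact f] [QuasiSeparated f]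
    (F : X.Modules) [F.IsQuasicoherent]
    (hepi : Epi ((Scheme.Modules.pullbackPushforwardAdjunction f).counit.app F))
    {U : Y.Opens} (hU : IsAffineOpen U) :
    Curv2.IsGloballyGenerated (F.restrict (f ⁻¹ᵁ U).ι) := by
  have hG := isQuasicoherent_pushforward_of_qcqs f F
  have : IsAffine (U : Scheme.{u}) := hU
  have hGU : (((Scheme.Modules.pushforward f).obj F).restrict U.ι).IsQuasicoherent := inferInstance
  obtain ⟨ι, p, hp⟩ := isGloballyGenerated_of_isQuasiAffine
    (((Scheme.Modules.pushforward f).obj F).restrict U.ι)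
  have hp' : @Epi (U : Scheme.{u}).Modules _ _ _ p := hp
  let q := (pullbackFreeIso (f ∣_ U) ι).inv ≫ (Scheme.Modules.pullback (f ∣_ U)).map p ≫
    (restrictPullbackIso f U ((Scheme.Modules.pushforward f).obj F)).inv ≫
    (Scheme.Modules.restrictFunctor (f ⁻¹ᵁ U).ι).map
      ((Scheme.Modules.pullbackPushforwardAdjunction f).counit.app F)
  have h1 : Epi ((Scheme.Modules.pullback (f ∣_ U)).map p) :=
    (Scheme.Modules.pullback (f ∣_ U)).map_epi p
  have h2 : Epi ((Scheme.Modules.restrictFunctor (f ⁻¹ᵁ U).ι).map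
      ((Scheme.Modules.pullbackPushforwardAdjunction f).counit.app F)) :=
    (Scheme.Modules.restrictFunctor (f ⁻¹ᵁ U).ι).map_epi _
  have h3 : Epi ((restrictPullbackIso f U ((Scheme.Modules.pushforward f).obj F)).inv ≫
    (Scheme.Modules.restrictFunctor (f ⁻¹ᵁ U).ι).map
      ((Scheme.Modules.pullbackPushforwardAdjunction f).counit.app F)) := epi_comp _ _
  have h4 : Epi ((Scheme.Modules.pullback (f ∣_ U)).map p ≫
    (restrictPullbackIso f U ((Scheme.Modules.pushforward f).obj F)).inv ≫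
    (Scheme.Modules.restrictFunctor (f ⁻¹ᵁ U).ι).map
      ((Scheme.Modules.pullbackPushforwardAdjunction f).counit.app F)) := epi_comp _ _
  have h5 : Epi q := epi_comp _ _
  exact ⟨ι, q, h5⟩

end CounitEpi

section RelAmpleGG
variable {X Y : Scheme.{u}}

theorem isSeparated_of_isRelAmple (f : X ⟶ Y) {L : X.Modules} (h : RelAmple.IsRelAmple f L) :
    IsSeparated f := by
  rw [HasAffineProperty.eq_targetAffineLocally (P := @IsSeparated)]
  intro U
  exact isSeparated_of_isAmple (h.2 U)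

theorem isGloballyGenerated_restrict_iso {X' : Scheme.{u}} (j : X' ⟶ X) [IsOpenImmersion j]
    {A B : X.Modules} (e : A ≅ B) (h : Curv2.IsGloballyGenerated (A.restrict j)) :
    Curv2.IsGloballyGenerated (B.restrict j) :=
  isGloballyGenerated_of_iso ((Scheme.Modules.restrictFunctor j).mapIso e) h

/-- EGA II 4.6.13 (i bis): `L` relatively ample, `L'` invertible with `f^* f_* L'^n ⟶ L'^n` epi for
some `n > 0`; then `L ⊗ L'` is relatively ample. -/
theorem isRelAmple_tensorMod_of_epi_counit (f : X ⟶ Y) [QuasiCompact f] {L L' : X.Modules}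
    (hL : RelAmple.IsRelAmple f L) (hL' : PicF.IsInvertible L') (n : ℕ) (hn : 0 < n)
    (hepi : Epi ((Scheme.Modules.pullbackPushforwardAdjunction f).counit.app
      (CohB1.tensorPow L' n))) :
    RelAmple.IsRelAmple f (CohB1.tensorMod L L') := by
  have hsep := isSeparated_of_isRelAmple f hL
  have hLinv := isInvertible_of_isRelAmple f hL
  have hq := isQuasicoherent_of_isInvertible (isInvertible_tensorPow hL' n)
  rw [isRelAmple_iff_tensorPow f (isInvertible_tensorMod hLinv hL') n hn]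
  refine ⟨inferInstance, fun V => ?_⟩
  have hgg := isGloballyGenerated_restrict_of_epi_counit f _ hepi V.2
  have hA : CohB1.IsAmple ((CohB1.tensorPow L n).restrict (f ⁻¹ᵁ V.1).ι) :=
    ((isRelAmple_iff_tensorPow f hLinv n hn).mp hL).2 V
  have h1 := isAmple_tensorMod_of_isGloballyGenerated hA
    (isInvertible_restrict _ (isInvertible_tensorPow hL' n)) hgg
  obtain ⟨θ⟩ := nonempty_restrictTensorIso (f ⁻¹ᵁ V.1).ι (isInvertible_tensorPow hLinv n)
    (isInvertible_tensorPow hL' n)
  have h2 := isAmple_of_iso θ.symm h1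
  exact isAmple_of_iso ((Scheme.Modules.restrictFunctor (f ⁻¹ᵁ V.1).ι).mapIso
    (tensorPowTensor L L' n).symm) h2

end RelAmpleGG

end Groth.Agent.Lib.Helper29.QCoh
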