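import Groth.Agent.Lib.Helper29.Twist3
import Groth.Agent.Lib.Helper29.Sky
universe u
open CategoryTheory CategoryTheory.Limits AlgebraicGeometry Opposite TopologicalSpace

/-! # Finite global generation; Serre's theorem on `Proj`; ampleness of `O(n)` -/

namespace Groth.Agent.Lib.Helper29.QCoh

section FiniteGG
variable {X : Scheme.{u}}

/-- On an affine open, finitely many of a family of sections spanning all stalks already span all
stalks (finite type quasi-coherent module). -/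
theorem exists_finset_span_germ_eq_top (F : X.Modules) [F.IsQuasicoherent] [F.IsFiniteType]
    {ι : Type*} (σ : ι → Γ(F, ⊤))
    (hσ : ∀ y : X, Submodule.span (X.presheaf.stalk y)
      (Set.range fun i => F.presheaf.germ ⊤ y trivial (σ i)) = ⊤)
    {U : X.Opens} (hU : IsAffineOpen U) :
    ∃ S : Finset ι, ∀ y ∈ U, Submodule.span (X.presheaf.stalk y)
      (Set.range fun i : S => F.presheaf.germ ⊤ y trivial (σ i)) = ⊤ := by
  classical
  let t : ι → Γ(F, U) := fun i => QCoh.res F le_top (σ i)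
  have h1 : Submodule.span Γ(X, U) (Set.range t) = ⊤ := by
    apply span_eq_top_of_forall_span_germ_eq_top F hU t
    intro y hy
    have := hσ y
    convert this using 3
    funext i
    exact germ_res F le_top y hy (σ i)
  have hfin : Module.Finite Γ(X, U) Γ(F, U) := module_finite_of_isFiniteType F hU
  obtain ⟨t₀, ht₀⟩ := hfin.fg_top
  have hsub : (t₀ : Set Γ(F, U)) ⊆ Submodule.span Γ(X, U) (Set.range t) := by
    rw [h1]; exact fun _ _ => trivial
  obtain ⟨T, hTs, htT⟩ := Submodule.subset_span_finite_of_subset_span hsub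
  have hT : Submodule.span Γ(X, U) (T : Set Γ(F, U)) = ⊤ := by
    rw [eq_top_iff, ← ht₀]
    exact Submodule.span_le.mpr htT
  have hTs' : (T : Set Γ(F, U)) ⊆ t '' Set.univ := by rwa [Set.image_univ]
  obtain ⟨S, -, hS⟩ := Finset.subset_set_image_iff.mp hTs'
  refine ⟨S, fun y hy => ?_⟩
  have h2 : Submodule.span Γ(X, U) (Set.range fun i : S => t i) = ⊤ := by
    rw [eq_top_iff, ← hT]
    apply Submodule.span_mono
    intro m hm
    rw [← hS] at hm
    obtain ⟨i, hi, rfl⟩ := Finset.mem_image.mp hm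
    exact ⟨⟨i, hi⟩, rfl⟩
  have h3 := span_germ_eq_top_of_span_eq_top F hU (fun i : S => t i) h2 y hy
  convert h3 using 3
  funext i
  exact (germ_res F le_top y hy (σ i)).symm

/-- **Finite global generation**: on a quasi-compact scheme, a globally generated quasi-coherent
module of finite type is a quotient of a finite free module. -/
theorem exists_epi_freeMod_of_isGloballyGenerated [CompactSpace X] (F : X.Modules)
    [F.IsQuasicoherent] [F.IsFiniteType] (h : Curv2.IsGloballyGenerated F) :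
    ∃ (k : ℕ) (p : FlatMod.freeMod X k ⟶ F), Epi p := by
  classical
  obtain ⟨ι, p, hp⟩ := h
  let σ : ι → Γ(F, ⊤) := fun i => sval (ιFreeM X i ≫ p) ⊤
  have hσ : ∀ y : X, Submodule.span (X.presheaf.stalk y)
      (Set.range fun i => F.presheaf.germ ⊤ y trivial (σ i)) = ⊤ :=
    fun y => @span_germ_eq_top_of_epi X F ι p hp y
  obtain ⟨𝒰, h𝒰⟩ := isCompact_univ.elim_finite_subcover
    (fun U : X.affineOpens => ((U.1 : X.Opens) : Set X)) (fun U => U.1.isOpen)
    (fun x _ => by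
      obtain ⟨V, hV, hx, -⟩ := exists_isAffineOpen_mem_and_subset (x := x) (U := ⊤) trivial
      exact Set.mem_iUnion.mpr ⟨⟨V, hV⟩, hx⟩)
  choose S hS using fun U : X.affineOpens => exists_finset_span_germ_eq_top F σ hσ U.2
  let S₀ : Finset ι := 𝒰.biUnion S
  let k := S₀.card
  let idx : ULift.{u} (Fin k) → ι := fun i => (S₀.equivFin.symm i.down).1
  have hepi : Epi (homOfSections F (σ ∘ idx)) := by
    apply epi_homOfSections_of_span
    intro y
    have hy := h𝒰 (Set.mem_univ y)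
    simp only [Set.mem_iUnion, exists_prop] at hy
    obtain ⟨U, hU𝒰, hyU⟩ := hy
    rw [eq_top_iff, ← hS U y hyU]
    apply Submodule.span_mono
    rintro _ ⟨i, rfl⟩
    have hi : i.1 ∈ S₀ := Finset.mem_biUnion.mpr ⟨U, hU𝒰, i.2⟩
    refine ⟨⟨S₀.equivFin ⟨i.1, hi⟩⟩, ?_⟩
    simp only [Function.comp_apply, idx, Equiv.symm_apply_apply]
  exact ⟨k, (freeModIso X k).hom ≫ homOfSections F (σ ∘ idx), epi_comp _ _⟩

end FiniteGG

section Twist7
variable {R A : Type u} [CommRing R] [CommRing A] [Algebra R A] {𝒜 : ℕ → Submodule R A} [GradedAlgebra 𝒜]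

/-- Serre's theorem for `Proj`: `F(n)` is a quotient of a finite free module for `n ≫ 0`. -/
theorem exists_epi_freeMod_twistBy (s : Finset A) (hs1 : ∀ f ∈ s, f ∈ 𝒜 1)
    (hs : (HomogeneousIdeal.irrelevant 𝒜).toIdeal = Ideal.span (s : Set A))
    (F : (Proj 𝒜).Modules) [F.IsQuasicoherent] [F.IsFiniteType] :
    ∃ n₀ : ℕ, ∀ n : ℕ, n₀ ≤ n →
      ∃ (k : ℕ) (p : FlatMod.freeMod (Proj 𝒜) k ⟶ Twist.twistBy 𝒜 F (n : ℤ)), Epi p := by
  have hamp := isAmple_twist_one s hs1 hs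
  have hcov := iSup_basicOpen_eq_top_of_forall (exists_degree_one_cover s hs1 hs)
  obtain ⟨hinv, -, hpow⟩ := twist_invertible_and_tensor hcov
  have : CompactSpace (Proj 𝒜) := hamp.2.1
  obtain ⟨n₀, hn₀⟩ := exists_isGloballyGenerated_twist hamp F
  refine ⟨n₀, fun n hn => ?_⟩
  obtain ⟨φ⟩ := hpow n
  have hq : (Twist.twist 𝒜 (n : ℤ)).IsQuasicoherent := isQuasicoherent_of_isInvertible (hinv n)
  have hft : (Twist.twist 𝒜 (n : ℤ)).IsFiniteType := isFiniteType_of_isInvertible (hinv n)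
  have hgg : Curv2.IsGloballyGenerated (CohB1.tensorMod F (Twist.twist 𝒜 (n : ℤ))) :=
    isGloballyGenerated_of_iso (tensorCongr (Iso.refl F) φ.symm) (hn₀ n hn)
  exact exists_epi_freeMod_of_isGloballyGenerated (CohB1.tensorMod F (Twist.twist 𝒜 (n : ℤ))) hgg

end Twist7

section Twist8
variable {R A : Type u} [CommRing R] [CommRing A] [Algebra R A] {𝒜 : ℕ → Submodule R A} [GradedAlgebra 𝒜]

/-- `O(1)` is ample as soon as `Proj` is quasi-compact and covered by the `D_+(g)`, `deg g = 1`. -/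
theorem isAmple_twist_one_of_cover [CompactSpace (Proj 𝒜)]
    (hcov : ∀ x : Proj 𝒜, ∃ g : 𝒜 1, x ∈ Proj.basicOpen 𝒜 g.1) :
    CohB1.IsAmple (Twist.twist 𝒜 1) := by
  refine ⟨(twist_invertible_and_tensor (iSup_basicOpen_eq_top_of_forall hcov)).1 1,
    inferInstance, fun x => ?_⟩
  obtain ⟨f, hx⟩ := hcov x
  have h1 : (1 : ℤ) = ((1 : ℕ) : ℤ) * (1 : ℕ) := by simp
  have hgl := genLocus_homOfSection_gSec hcov 1 one_pos f 1 h1
  have hg := genLocus_comp_iso (homOfSection _ (gSec 1 f 1 h1))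
    (tensorPowOne (Twist.twist 𝒜 1)).symm
  refine ⟨0, homOfSection _ (gSec 1 f 1 h1) ≫ (tensorPowOne _).inv, ?_, ?_⟩
  · erw [hg, hgl]; exact hx
  · erw [hg, hgl]; exact Proj.isAffineOpen_basicOpen 𝒜 f.1 f.2 one_pos

theorem isAmple_twist_of_pos [CompactSpace (Proj 𝒜)]
    (hcov : ∀ x : Proj 𝒜, ∃ g : 𝒜 1, x ∈ Proj.basicOpen 𝒜 g.1) (n : ℕ) (hn : 0 < n) :
    CohB1.IsAmple (Twist.twist 𝒜 (n : ℤ)) := by
  obtain ⟨hinv, -, hpow⟩ := twist_invertible_and_tensor (iSup_basicOpen_eq_top_of_forall hcov)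
  obtain ⟨φ⟩ := hpow n
  exact isAmple_of_iso φ.symm
    ((isAmple_iff_tensorPow (hinv 1) n hn).mp (isAmple_twist_one_of_cover hcov))

theorem span_germ_globalOf_eq_top
    (hcov : ∀ x : Proj 𝒜, ∃ g : 𝒜 1, x ∈ Proj.basicOpen 𝒜 g.1) (n : ℕ) (x : Proj 𝒜) :
    Submodule.span ((Proj 𝒜).presheaf.stalk x)
      (Set.range fun b : 𝒜 n => ((Twist.twist 𝒜 (n : ℤ)).presheaf.germ ⊤ x trivial).hom
        (Twist.globalOf 𝒜 b : (Twist.twist 𝒜 (n : ℤ)).presheaf.obj (op ⊤))) = ⊤ := by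
  obtain ⟨g, hx⟩ := hcov x
  have h1 : (n : ℤ) = (n : ℤ) * (1 : ℕ) := by simp
  rw [eq_top_iff, ← span_germ_gSec_eq_top n g (n : ℤ) h1 x hx]
  apply Submodule.span_mono
  rintro _ rfl
  have hmem : g.1 ^ n ∈ 𝒜 n := by
    have := SetLike.pow_mem_graded n g.2
    rwa [smul_eq_mul, mul_one] at this
  refine ⟨⟨g.1 ^ n, hmem⟩, ?_⟩
  congr 1

end Twist8

end Groth.Agent.Lib.Helper29.QCoh
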