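import Groth.Agent.Lib.Helper29.QCohPush
import Groth.Agent.Lib.Helper29.QCohGen
import Groth.Prelude.Def_CohB1
universe u
open CategoryTheory CategoryTheory.Limits AlgebraicGeometry Opposite TopologicalSpace

/-! # Direct images which are locally either affine or zero -/

namespace Groth.Agent.Lib.Helper29.QCoh

section PQ1
variable {X Y : Scheme.{u}}

/-- The direct image `f_* M` of a quasi-coherent module is quasi-coherent as soon as `Y` is covered
by affine opens `V` such that either `f⁻¹ V` is affine, or `M` has no sections over the opens of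
`f⁻¹ V`. -/
theorem isQuasicoherent_pushforward_of_cover (f : X ⟶ Y) (M : X.Modules) [M.IsQuasicoherent]
    {ι : Type u} (V : ι → Y.Opens) (hcov : IsOpenCover V) (haff : ∀ i, IsAffineOpen (V i))
    (h : ∀ i, IsAffineOpen (f ⁻¹ᵁ V i) ∨ ∀ W : Y.Opens, W ≤ V i → Subsingleton Γ(M, f ⁻¹ᵁ W)) :
    ((Scheme.Modules.pushforward f).obj M).IsQuasicoherent := by
  refine isQuasicoherent_of_localizing _ V hcov haff ?_ ?_
  · intro i g s
    rcases h i with hW | h0
    · change ∃ (n : ℕ) (m : Γ(M, f ⁻¹ᵁ V i)), _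
      have e : f ⁻¹ᵁ Y.basicOpen g = X.basicOpen (f.app (V i) g) := Scheme.preimage_basicOpen f g
      obtain ⟨n, m, hm⟩ := exists_pow_smul_eq_res M hW (f.app (V i) g)
        (res M e.ge (show Γ(M, f ⁻¹ᵁ Y.basicOpen g) from s))
      refine ⟨n, m, ?_⟩
      rw [pushforward_res, pushforward_smul]
      change _ • (show Γ(M, f ⁻¹ᵁ Y.basicOpen g) from s) = res M _ m
      apply res_injective_of_eq M e.symm
      rw [res_smul, res_res, map_pow, app_map_apply, map_pow, map_map_apply]
      exact hm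
    · have := h0 (Y.basicOpen g) (Y.basicOpen_le g)
      exact ⟨0, 0, Subsingleton.elim (α := Γ(M, f ⁻¹ᵁ Y.basicOpen g)) _ _⟩
  · intro i g m hm
    rcases h i with hW | h0
    · have e : f ⁻¹ᵁ Y.basicOpen g = X.basicOpen (f.app (V i) g) := Scheme.preimage_basicOpen f g
      have h0 : res M (X.basicOpen_le (f.app (V i) g)) (show Γ(M, f ⁻¹ᵁ V i) from m) = 0 := by
        rw [pushforward_res] at hm
        have h1 : res M (f.preimage_mono (Y.basicOpen_le g)) (show Γ(M, f ⁻¹ᵁ V i) from m) = 0 := hm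
        rw [← res_res M (f.preimage_mono (Y.basicOpen_le g)) e.ge, h1, map_zero]
      obtain ⟨n, hn⟩ := exists_pow_smul_eq_zero M hW (f.app (V i) g) _ h0
      refine ⟨n, ?_⟩
      rw [pushforward_smul, map_pow]
      exact hn
    · have := h0 (V i) le_rfl
      exact ⟨0, Subsingleton.elim (α := Γ(M, f ⁻¹ᵁ V i)) _ _⟩

/-- Finiteness of sections of a direct image, given finiteness of the ring map. -/
theorem module_finite_pushforward_of_finite_app (f : X ⟶ Y) (M : X.Modules)
    [M.IsQuasicoherent] [M.IsFiniteType] {V : Y.Opens} (hW : IsAffineOpen (f ⁻¹ᵁ V))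
    (hf : (f.app V).hom.Finite) :
    Module.Finite Γ(Y, V) Γ((Scheme.Modules.pushforward f).obj M, V) := by
  have hfin : Module.Finite Γ(X, f ⁻¹ᵁ V) Γ(M, f ⁻¹ᵁ V) := module_finite_of_isFiniteType M hW
  let alg : Algebra Γ(Y, V) Γ(X, f ⁻¹ᵁ V) := (f.app V).hom.toAlgebra
  have hf' : Module.Finite Γ(Y, V) Γ(X, f ⁻¹ᵁ V) := hf
  let inst : Module Γ(Y, V) Γ(M, f ⁻¹ᵁ V) :=
    Module.compHom Γ(M, f ⁻¹ᵁ V) (algebraMap Γ(Y, V) Γ(X, f ⁻¹ᵁ V))
  have : IsScalarTower Γ(Y, V) Γ(X, f ⁻¹ᵁ V) Γ(M, f ⁻¹ᵁ V) :=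
    IsScalarTower.of_compHom Γ(Y, V) Γ(X, f ⁻¹ᵁ V) Γ(M, f ⁻¹ᵁ V)
  have h3 : Module.Finite Γ(Y, V) Γ(M, f ⁻¹ᵁ V) :=
    Module.Finite.trans Γ(X, f ⁻¹ᵁ V) Γ(M, f ⁻¹ᵁ V)
  let e : Γ(M, f ⁻¹ᵁ V) ≃ₗ[Γ(Y, V)] Γ((Scheme.Modules.pushforward f).obj M, V) :=
    { toFun := fun m => m
      invFun := fun m => m
      map_add' := fun _ _ => rfl
      map_smul' := fun _ _ => rfl
      left_inv := fun _ => rfl
      right_inv := fun _ => rfl }
  exact Module.Finite.equiv e

theorem isFiniteType_pushforward_of_cover (f : X ⟶ Y) (M : X.Modules) [M.IsQuasicoherent]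
    [M.IsFiniteType] [((Scheme.Modules.pushforward f).obj M).IsQuasicoherent]
    {ι : Type u} (V : ι → Y.Opens) (hcov : IsOpenCover V) (haff : ∀ i, IsAffineOpen (V i))
    (h : ∀ i, (IsAffineOpen (f ⁻¹ᵁ V i) ∧ (f.app (V i)).hom.Finite) ∨
      Subsingleton Γ(M, f ⁻¹ᵁ V i)) :
    ((Scheme.Modules.pushforward f).obj M).IsFiniteType := by
  refine isFiniteType_of_module_finite _ V hcov haff fun i => ?_
  rcases h i with ⟨hW, hf⟩ | h0
  · exact module_finite_pushforward_of_finite_app f M hW hf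
  · have : Subsingleton Γ((Scheme.Modules.pushforward f).obj M, V i) := h0
    exact Module.Finite.of_finite

/-- Sections of a module over an open set missing its support vanish. -/
theorem subsingleton_sections_of_disjoint_support (M : X.Modules) (W : X.Opens)
    (h : ∀ x ∈ W, x ∉ CohB1.support M) : Subsingleton Γ(M, W) := by
  refine subsingleton_of_forall_eq 0 fun s => ?_
  refine eq_zero_of_germ_eq_zero M s fun x hx => ?_
  have hx' := h x hx
  simp only [CohB1.support, Set.mem_ofPred_eq, not_not] at hx'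
  exact Subsingleton.elim _ _

/-- **Direct image of a coherent module with closed support** (EGA I 9.3.? / III 3.?): if `F` on an
open `U ⊆ X` is quasi-coherent of finite type with support inside a set `T ⊆ U` closed in `X`, then
its direct image on `X` is again quasi-coherent of finite type. -/
theorem isCoh_pushforward_of_support_closed (U : X.Opens) (T : Set X) (hT : IsClosed T)
    (hTU : T ⊆ (U : Set X)) (F : (↑U : Scheme.{u}).Modules) [F.IsQuasicoherent] [F.IsFiniteType]
    (hs : ∀ x : ↥U, x ∈ CohB1.support F → (x : X) ∈ T) :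
    ((Scheme.Modules.pushforward U.ι).obj F).IsQuasicoherent ∧
      ((Scheme.Modules.pushforward U.ι).obj F).IsFiniteType := by
  let Tc : X.Opens := ⟨Tᶜ, hT.isOpen_compl⟩
  let ι : Type u := {V : X.affineOpens // V.1 ≤ U ∨ V.1 ≤ Tc}
  let V : ι → X.Opens := fun V => V.1.1
  have hcov : IsOpenCover V := by
    rw [IsOpenCover, eq_top_iff]
    rintro x -
    by_cases hx : x ∈ U
    · obtain ⟨W, hW, hxW, hWU⟩ := exists_isAffineOpen_mem_and_subset (x := x) (U := U) hx
      exact Opens.mem_iSup.mpr ⟨⟨⟨W, hW⟩, Or.inl hWU⟩, hxW⟩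
    · have hx' : x ∈ Tc := fun h => hx (hTU h)
      obtain ⟨W, hW, hxW, hWU⟩ := exists_isAffineOpen_mem_and_subset (x := x) (U := Tc) hx'
      exact Opens.mem_iSup.mpr ⟨⟨⟨W, hW⟩, Or.inr hWU⟩, hxW⟩
  have haff : ∀ i, IsAffineOpen (V i) := fun i => i.1.2
  have hzero : ∀ W : X.Opens, W ≤ Tc → Subsingleton Γ(F, U.ι ⁻¹ᵁ W) := by
    intro W hW
    apply subsingleton_sections_of_disjoint_support
    intro x hx hxs
    exact hW hx (hs x hxs)
  have hq : ((Scheme.Modules.pushforward U.ι).obj F).IsQuasicoherent := by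
    refine isQuasicoherent_pushforward_of_cover U.ι F V hcov haff fun i => ?_
    rcases i.2 with hU | hTc
    · left
      exact (haff i).preimage_of_isOpenImmersion U.ι (by rw [Scheme.Opens.opensRange_ι]; exact hU)
    · right
      exact fun W hW => hzero W (hW.trans hTc)
  refine ⟨hq, ?_⟩
  refine isFiniteType_pushforward_of_cover U.ι F V hcov haff fun i => ?_
  rcases i.2 with hU | hTc
  · left
    refine ⟨(haff i).preimage_of_isOpenImmersion U.ι
      (by rw [Scheme.Opens.opensRange_ι]; exact hU), ?_⟩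
    have : IsIso (U.ι.app (V i)) :=
      Scheme.Hom.isIso_app U.ι (V i) (by rw [Scheme.Opens.opensRange_ι]; exact hU)
    exact RingHom.Finite.of_surjective _ (ConcreteCategory.bijective_of_isIso (U.ι.app (V i))).2
  · right
    exact hzero _ hTc

end PQ1
end Groth.Agent.Lib.Helper29.QCoh
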