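import Groth.Agent.Lib.Helper29.TwistPeriod2
universe u
open CategoryTheory CategoryTheory.Limits AlgebraicGeometry Opposite TopologicalSpace DirectSum

namespace Groth.Agent.Lib.Helper29.QCoh

section CocycleHom
variable {X : Scheme.{u}} {M N : X.Modules} {ι : Type*} {U : ι → X.Opens}
  {m : ∀ i, Γ(M, U i)} {n : ∀ i, Γ(N, U i)}

/-- **Morphisms out of a locally trivial rank-one module**: sections of `N` over the members of a
trivializing cover of `M` transforming by the transition functions of `M` define a morphism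
`M ⟶ N` carrying the local generators to the given sections. -/
theorem exists_hom_of_cocycle (hU : ∀ x : X, ∃ i, x ∈ U i)
    (hm : ∀ i, IsTriv M (U i) (m i))
    (hc : ∀ i j, ∃ g : Γ(X, U i ⊓ U j),
      QCoh.res M inf_le_left (m i) = g • QCoh.res M inf_le_right (m j) ∧
      QCoh.res N inf_le_left (n i) = g • QCoh.res N inf_le_right (n j)) :
    ∃ φ : M ⟶ N, ∀ i, φ.app (U i) (m i) = n i := by
  have hex : ∀ (W : X.Opens) (σ : Γ(M, W)), ∃ τ : Γ(N, W), SameCoeff U m n W σ τ :=
    fun W σ => SameCoeff.exists hU hm hc σ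
  choose F hF using hex
  have huniq : ∀ {W : X.Opens} {σ : Γ(M, W)} {τ : Γ(N, W)}, SameCoeff U m n W σ τ → F W σ = τ :=
    fun h => SameCoeff.unique hU hm (hF _ _) h
  let φ : ∀ W : X.Opens, Γ(M, W) →+ Γ(N, W) := fun W =>
    { toFun := F W
      map_zero' := huniq SameCoeff.zero
      map_add' := fun σ σ' => huniq ((hF W σ).add (hF W σ')) }
  let Φ : M ⟶ N := homOfApp φ
    (fun W r σ => huniq ((hF W σ).smul r))
    (fun {W W'} h σ => huniq ((hF W σ).res h))
  have hΦ : ∀ W σ, Φ.app W σ = F W σ := fun _ _ => rfl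
  refine ⟨Φ, fun i => ?_⟩
  rw [hΦ]
  exact huniq fun j => hc i j

end CocycleHom

end Groth.Agent.Lib.Helper29.QCoh
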