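import Groth.Agent.Lib.Helper29.Dual2
import Groth.Agent.Lib.Helper29.CocycleHom
universe u
open CategoryTheory CategoryTheory.Limits AlgebraicGeometry TopologicalSpace Opposite
open scoped TensorProduct

/-! # The dual of an invertible module is a tensor inverse -/

namespace Groth.Agent.Lib.Helper29.QCoh.Dual
open Groth.Agent.Lib.Helper29.QCoh

variable {X : Scheme.{u}} {L : X.Modules}

/-- A module with local trivialising sections is invertible. -/
theorem isInvertible_of_isTriv' (A : X.Modules)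
    (h : ∀ x : X, ∃ (U : X.Opens) (e : Γ(A, U)), x ∈ U ∧ IsTriv A U e) : PicF.IsInvertible A := by
  intro x
  obtain ⟨U, e, hxU, hT⟩ := h x
  obtain ⟨σ, -⟩ := hT.exists_iso_restrict
  exact ⟨U, hxU, ⟨σ.symm⟩⟩

theorem isInvertible_dual (hL : PicF.IsInvertible L) :
    PicF.IsInvertible (RefHull.homSh L (unitM X)) :=
  isInvertible_of_isTriv' _ fun x => by
    obtain ⟨U, l, hxU, hT⟩ := exists_isTriv hL x
    exact ⟨U, dualGen hT, hxU, isTriv_dualGen hT⟩

theorem ev_bijective_of_isTriv {U : X.Opens} {l : Γ(L, U)} (hT : IsTriv L U l) :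
    Function.Bijective (fun ψ : Γ(RefHull.homSh L (unitM X), U) => ev ψ l) := by
  have hf := (isTriv_dualGen hT).bijective
  have hgf : Function.Bijective ((fun ψ : Γ(RefHull.homSh L (unitM X), U) => ev ψ l) ∘
      (fun r : Γ(X, U) => r • dualGen hT)) := by
    have : ((fun ψ : Γ(RefHull.homSh L (unitM X), U) => ev ψ l) ∘
      (fun r : Γ(X, U) => r • dualGen hT)) = toUnit := by
      funext r
      simp only [Function.comp_apply]
      rw [ev_smul_left, ev_dualGen, ← toUnit_eq_smul_one]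
    rw [this]
    exact ⟨fun a b h => h, fun a => ⟨a, rfl⟩⟩
  exact (Function.Bijective.of_comp_iff _ hf).mp hgf

theorem isIso_evHom (hL : PicF.IsInvertible L) : IsIso (evHom L (unitM X)) := by
  have := isQuasicoherent_of_isInvertible hL
  have := isQuasicoherent_of_isInvertible (isInvertible_dual hL)
  refine isIso_of_tensor_basis (evHom L (unitM X))
    (ι := {p : Σ U : X.Opens, Γ(L, U) // IsAffineOpen p.1 ∧ IsTriv L p.1 p.2})
    (fun i => i.1.1) (fun i => i.2.1) (fun x => ?_) (fun i => i.1.2)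
    (fun i => i.2.2.bijective) (fun i => ?_)
  · obtain ⟨U, e, hU, hxU, -, he⟩ := exists_affine_isTriv hL (W := ⊤) x trivial
    exact ⟨⟨⟨U, e⟩, hU, he⟩, hxU⟩
  · have h := ev_bijective_of_isTriv i.2.2
    convert h using 2
    exact evHom_tmulSec _ _

/-- **Existence of tensor inverses**: the dual of an invertible module is an inverse. -/
noncomputable def dualTensorIso (hL : PicF.IsInvertible L) :
    CohB1.tensorMod (RefHull.homSh L (unitM X)) L ≅ unitM X :=
  haveI := isIso_evHom hL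
  asIso (evHom L (unitM X))

theorem exists_inverse (hL : PicF.IsInvertible L) :
    ∃ N : X.Modules, PicF.IsInvertible N ∧ Nonempty (CohB1.tensorMod N L ≅ unitM X) :=
  ⟨_, isInvertible_dual hL, ⟨dualTensorIso hL⟩⟩

/-! ### Tensoring with a trivialising section -/

theorem tmulSec_bijective_of_isTriv (F : X.Modules) [F.IsQuasicoherent] [L.IsQuasicoherent]
    {W : X.Opens} (hW : IsAffineOpen W) {l : Γ(L, W)} (hT : IsTriv L W l) :
    Function.Bijective (fun n : Γ(F, W) => tmulSec F L n l) := by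
  have h1 : Function.Bijective
      (fun m : Γ(F, W) => tensorSectionsEquiv F L hW (m ⊗ₜ[Γ(X, W)] l)) :=
    (tensorSectionsEquiv F L hW).bijective.comp (tmul_bijective_of_basis l hT.bijective)
  exact h1

theorem tmulSec_injective_of_isTriv (F : X.Modules) [F.IsQuasicoherent] [L.IsQuasicoherent]
    {V : X.Opens} {l : Γ(L, V)} (hT : IsTriv L V l) :
    Function.Injective (fun n : Γ(F, V) => tmulSec F L n l) := by
  intro n n' h
  obtain ⟨ι, W, hW, hWV, hcov⟩ := exists_affine_cover_le V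
  refine eq_of_res_cover_eq F W hWV hcov n n' fun i => ?_
  apply (tmulSec_bijective_of_isTriv F (hW i) (hT.restrict (hWV i))).1
  change tmulSec F L (QCoh.res F (hWV i) n) (QCoh.res L (hWV i) l) =
    tmulSec F L (QCoh.res F (hWV i) n') (QCoh.res L (hWV i) l)
  rw [← res_tmulSec, ← res_tmulSec]
  exact congrArg _ h

/-- **Morphisms out of the dual**: a global section of `F ⊗ B` defines a morphism `B^∨ ⟶ F`,
sending the generator dual to `l` to `n` wherever the section is `n ⊗ l`. -/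
theorem exists_hom_dual {B : X.Modules} (hB : PicF.IsInvertible B) (F : X.Modules)
    [F.IsQuasicoherent] (t : Γ(CohB1.tensorMod F B, ⊤)) :
    ∃ φ : RefHull.homSh B (unitM X) ⟶ F, ∀ (W : X.Opens) (l : Γ(B, W)) (hT : IsTriv B W l)
      (n : Γ(F, W)), QCoh.res (CohB1.tensorMod F B) le_top t = tmulSec F B n l →
        φ.app W (dualGen hT) = n := by
  have := isQuasicoherent_of_isInvertible hB
  let ι := {p : Σ U : X.Opens, Γ(B, U) // IsAffineOpen p.1 ∧ IsTriv B p.1 p.2}
  have hcov : ∀ x : X, ∃ i : ι, x ∈ i.1.1 := by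
    intro x
    obtain ⟨U, e, hU, hxU, -, he⟩ := exists_affine_isTriv hB (W := ⊤) x trivial
    exact ⟨⟨⟨U, e⟩, hU, he⟩, hxU⟩
  have hn : ∀ i : ι, ∃ n : Γ(F, i.1.1),
      tmulSec F B n i.1.2 = QCoh.res (CohB1.tensorMod F B) le_top t :=
    fun i => (tmulSec_bijective_of_isTriv F i.2.1 i.2.2).2 _
  choose n hn using hn
  have hc : ∀ i j : ι, ∃ g : Γ(X, i.1.1 ⊓ j.1.1),
      QCoh.res (RefHull.homSh B (unitM X)) inf_le_left (dualGen i.2.2) =
        g • QCoh.res (RefHull.homSh B (unitM X)) inf_le_right (dualGen j.2.2) ∧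
      QCoh.res F inf_le_left (n i) = g • QCoh.res F inf_le_right (n j) := by
    intro i j
    obtain ⟨g, hg⟩ := (j.2.2.restrict (inf_le_right : i.1.1 ⊓ j.1.1 ≤ j.1.1)).exists_eq_smul
      (QCoh.res B (inf_le_left : i.1.1 ⊓ j.1.1 ≤ i.1.1) i.1.2)
    obtain ⟨h, hh⟩ := (i.2.2.restrict (inf_le_left : i.1.1 ⊓ j.1.1 ≤ i.1.1)).exists_eq_smul
      (QCoh.res B (inf_le_right : i.1.1 ⊓ j.1.1 ≤ j.1.1) j.1.2)
    refine ⟨h, ?_, ?_⟩
    · have h2 := eq_smul_dualGen j.2.2 (inf_le_right : i.1.1 ⊓ j.1.1 ≤ j.1.1)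
        (QCoh.res (RefHull.homSh B (unitM X)) (inf_le_left : i.1.1 ⊓ j.1.1 ≤ i.1.1)
          (dualGen i.2.2))
      rw [hh, ev_dualGen_smul i.2.2 inf_le_left h, fromUnit_toUnit] at h2
      exact h2
    · apply tmulSec_injective_of_isTriv F (i.2.2.restrict (inf_le_left : i.1.1 ⊓ j.1.1 ≤ i.1.1))
      change tmulSec F B (QCoh.res F inf_le_left (n i)) (QCoh.res B inf_le_left i.1.2) =
        tmulSec F B (h • QCoh.res F inf_le_right (n j)) (QCoh.res B inf_le_left i.1.2)
      rw [tmulSec_smul_left, ← tmulSec_smul_right, ← hh, ← res_tmulSec, ← res_tmulSec, hn i, hn j,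
        res_res, res_res]
  obtain ⟨φ, hφ⟩ := exists_hom_of_cocycle (M := RefHull.homSh B (unitM X)) (N := F)
    (U := fun i : ι => i.1.1) (m := fun i => dualGen i.2.2) (n := n) hcov
    (fun i => isTriv_dualGen i.2.2) hc
  refine ⟨φ, fun W l hT n' hn' => ?_⟩
  -- reduce to the cover
  obtain ⟨κ, V, hV, hVW, hVcov⟩ := exists_affine_cover_le W
  refine eq_of_res_cover_eq F V hVW hVcov _ _ fun k => ?_
  rw [← app_res]
  let i : ι := ⟨⟨V k, QCoh.res B (hVW k) l⟩, hV k, hT.restrict (hVW k)⟩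
  have h1 : QCoh.res (RefHull.homSh B (unitM X)) (hVW k) (dualGen hT) = dualGen i.2.2 := by
    have h2 := eq_smul_dualGen i.2.2 le_rfl
      (QCoh.res (RefHull.homSh B (unitM X)) (hVW k) (dualGen hT))
    rw [res_self, res_self] at h2
    rw [h2]
    have h3 := ev_dualGen_smul hT (hVW k) 1
    rw [one_smul] at h3
    change fromUnit (ev _ (QCoh.res B (hVW k) l)) • _ = _
    rw [h3, fromUnit_toUnit, one_smul]
  rw [h1, hφ i]
  apply (tmulSec_bijective_of_isTriv F i.2.1 i.2.2).1
  change tmulSec F B (n i) (QCoh.res B (hVW k) l) =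
    tmulSec F B (QCoh.res F (hVW k) n') (QCoh.res B (hVW k) l)
  rw [← res_tmulSec, ← hn', res_res]
  exact hn i

end Groth.Agent.Lib.Helper29.QCoh.Dual
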