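import Groth.Agent.Lib.Helper29.PQ1
import Groth.Agent.Lib.Helper29.QCohQcqs
import Groth.Agent.Lib.Helper29.QCohPullback
universe u
open CategoryTheory CategoryTheory.Limits AlgebraicGeometry Opposite TopologicalSpace

/-! # Splitting a coherent module along a decomposition of its support -/

namespace Groth.Agent.Lib.Helper29.QCoh

section PQ2
variable {X : Scheme.{u}}

/-- The unit `M ⟶ j_* (M|_V)`. -/
noncomputable def resUnit (V : X.Opens) (M : X.Modules) :
    M ⟶ (Scheme.Modules.pushforward V.ι).obj ((Scheme.Modules.restrictFunctor V.ι).obj M) :=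
  (Scheme.Modules.restrictAdjunction V.ι).unit.app M

theorem resUnit_app (V : X.Opens) (M : X.Modules) (W : X.Opens) (m : Γ(M, W)) :
    (resUnit V M).app W m = res M (V.ι.image_preimage_le W) m := rfl

theorem support_subset_of_stalk (M : X.Modules) (Z : Set X)
    (h : ∀ x : X, x ∉ Z → ∀ t : M.presheaf.stalk x, t = 0) : CohB1.support M ⊆ Z := by
  intro x hx
  by_contra hxZ
  exact hx (subsingleton_of_forall_eq 0 (h x hxZ))

/-- Stalks of the sections of `M` supported off `V` vanish on `V`. -/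
theorem support_kernel_resUnit (V : X.Opens) (M : X.Modules) :
    CohB1.support (kernel (resUnit V M)) ⊆ (V : Set X)ᶜ := by
  apply support_subset_of_stalk
  intro x hx t
  have hxV : x ∈ V := not_not.mp hx
  obtain ⟨W, hxW, k, rfl⟩ := (kernel (resUnit V M)).presheaf.exists_germ_eq t
  -- shrink to `W ⊓ V`
  have hxW' : x ∈ W ⊓ V := ⟨hxW, hxV⟩
  rw [← germ_res _ (inf_le_left : W ⊓ V ≤ W) x hxW']
  have hk : res (kernel (resUnit V M)) (inf_le_left : W ⊓ V ≤ W) k = 0 := by
    apply (mono_iff_app_injective (kernel.ι (resUnit V M))).mp inferInstance (W ⊓ V)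
    rw [map_zero, app_res]
    have h0 : (resUnit V M).app W ((kernel.ι (resUnit V M)).app W k) = 0 :=
      app_zero_of_comp_eq_zero _ _ (kernel.condition _) W k
    have h0' : res M (V.ι.image_preimage_le W) ((kernel.ι (resUnit V M)).app W k) =
        (0 : Γ(M, V.ι ''ᵁ (V.ι ⁻¹ᵁ W))) := h0
    have hle : W ⊓ V ≤ V.ι ''ᵁ (V.ι ⁻¹ᵁ W) := by
      rw [Scheme.Hom.image_preimage_eq_opensRange_inf, Scheme.Opens.opensRange_ι, inf_comm]
    rw [← res_res M (V.ι.image_preimage_le W) hle, h0', map_zero]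
  rw [hk, map_zero]

/-- The image of `M → j_*(M|_V)` is supported in `Z` as soon as `Supp M ⊆ Z ∪ Vᶜ`. -/
theorem support_coimage_resUnit (V : X.Opens) (M : X.Modules) (Z : Set X) (hZ : IsClosed Z)
    (h : CohB1.support M ⊆ Z ∪ (V : Set X)ᶜ) :
    CohB1.support (cokernel (kernel.ι (resUnit V M))) ⊆ Z := by
  apply support_subset_of_stalk
  intro x hx t
  let Zc : X.Opens := ⟨Zᶜ, hZ.isOpen_compl⟩
  set π := cokernel.π (kernel.ι (resUnit V M)) with hπ
  obtain ⟨mx, rfl⟩ := (epi_iff_stalkMap_surjective π).mp inferInstance x t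
  obtain ⟨W, hxW, m, rfl⟩ := M.presheaf.exists_germ_eq mx
  have hxW' : x ∈ W ⊓ Zc := ⟨hxW, hx⟩
  rw [← germ_res M (inf_le_left : W ⊓ Zc ≤ W) x hxW', stalkMap_germ]
  set m' := res M (inf_le_left : W ⊓ Zc ≤ W) m with hm'
  have hsub : Subsingleton Γ(M, V.ι ''ᵁ (V.ι ⁻¹ᵁ (W ⊓ Zc))) := by
    apply subsingleton_sections_of_disjoint_support
    intro y hy hys
    have hy' : y ∈ V.ι.opensRange ⊓ (W ⊓ Zc) := by
      rw [← Scheme.Hom.image_preimage_eq_opensRange_inf]; exact hy
    rw [Scheme.Opens.opensRange_ι] at hy'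
    rcases h hys with h1 | h1
    · exact hy'.2.2 h1
    · exact h1 hy'.1
  have h0 : (resUnit V M).app (W ⊓ Zc) m' = 0 := by
    have h00 : res M (V.ι.image_preimage_le (W ⊓ Zc)) m' = 0 := Subsingleton.elim _ _
    exact h00
  have hex := app_exact_of_exact_of_mono
    (ShortComplex.mk (kernel.ι (resUnit V M)) (resUnit V M) (kernel.condition _))
    (ShortComplex.exact_kernel _) (W ⊓ Zc)
  obtain ⟨k, hk⟩ := (hex m').mp h0
  have hk' : (kernel.ι (resUnit V M)).app (W ⊓ Zc) k = m' := hk
  rw [← hk']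
  have : π.app (W ⊓ Zc) ((kernel.ι (resUnit V M)).app (W ⊓ Zc) k) = 0 :=
    app_zero_of_comp_eq_zero _ _ (cokernel.condition _) _ k
  rw [this, map_zero]

/-- **Splitting along the support** (EGA I 9.3.5-type): on a Noetherian scheme, a coherent module
whose support is `Z ∪ Z'` (both closed) is an extension of a coherent module supported in `Z` by one
supported in `Z'`. -/
theorem exists_shortExact_of_support_eq_union [IsNoetherian X] (M : X.Modules)
    [M.IsQuasicoherent] [M.IsFiniteType]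
    (Z Z' : Set X) (hZ : IsClosed Z) (hZ' : IsClosed Z') (h : CohB1.support M = Z ∪ Z') :
    ∃ S : ShortComplex X.Modules, S.ShortExact ∧ Nonempty (S.X₂ ≅ M) ∧
      (S.X₁.IsQuasicoherent ∧ S.X₁.IsFiniteType) ∧ (S.X₃.IsQuasicoherent ∧ S.X₃.IsFiniteType) ∧
      CohB1.support S.X₁ ⊆ Z' ∧ CohB1.support S.X₃ ⊆ Z := by
  let V : X.Opens := ⟨Z'ᶜ, hZ'.isOpen_compl⟩
  have hq : ((Scheme.Modules.pushforward V.ι).obj
      ((Scheme.Modules.restrictFunctor V.ι).obj M)).IsQuasicoherent := by
    have : ((Scheme.Modules.restrictFunctor V.ι).obj M).IsQuasicoherent :=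
      isQuasicoherent_of_iso ((Scheme.Modules.restrictFunctorIsoPullback V.ι).symm.app M)
    exact isQuasicoherent_pushforward_of_qcqs V.ι _
  have hK : (kernel (resUnit V M)).IsQuasicoherent := inferInstance
  have hKft : (kernel (resUnit V M)).IsFiniteType := isFiniteType_of_mono (kernel.ι (resUnit V M))
  refine ⟨ShortComplex.mk (kernel.ι (resUnit V M)) (cokernel.π (kernel.ι (resUnit V M)))
    (cokernel.condition _), ShortComplex.ShortExact.mk (ShortComplex.exact_cokernel _),
    ⟨Iso.refl _⟩, ⟨hK, hKft⟩, ⟨inferInstance, isFiniteType_cokernel _⟩, ?_, ?_⟩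
  · refine (support_kernel_resUnit V M).trans ?_
    intro x hx
    exact not_not.mp hx
  · refine support_coimage_resUnit V M Z hZ ?_
    rw [h]
    intro x hx
    rcases hx with hx | hx
    · exact Or.inl hx
    · exact Or.inr (fun hxV => hxV hx)

end PQ2
end Groth.Agent.Lib.Helper29.QCoh
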