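import Groth.Agent.Lib.Helper29.TwistPn
universe u
open CategoryTheory CategoryTheory.Limits AlgebraicGeometry Opposite TopologicalSpace DirectSum

/-! # `H^0(P^n, O(d))` -/

namespace Groth.Agent.Lib.Helper29.QCoh

section PnH0
variable (n : ℕ) (R : Type u) [CommRing R]

theorem ofun_toGlobal (r : R) (x : (⊤ : (Proj (CohB1.polyGrading n R)).Opens)) :
    ofun (CohB1.polyGrading n R) (show Γ(Proj (CohB1.polyGrading n R), ⊤) from
      Coh.toGlobal (CohB1.ProjSpace.toSpec n R) r) x =
      Localization.mk (MvPolynomial.C r) ⟨1, one_not_mem x.1⟩ := by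
  have h : (show Γ(Proj (CohB1.polyGrading n R), ⊤) from
      Coh.toGlobal (CohB1.ProjSpace.toSpec n R) r) =
      (Proj.toSpecZero (CohB1.polyGrading n R)).appTop.hom
        ((Scheme.ΓSpecIso (CommRingCat.of (CohB1.polyGrading n R 0))).inv.hom
          (algebraMap R (CohB1.polyGrading n R 0) r)) := by
    have h1 := Scheme.ΓSpecIso_inv_naturality
      (CommRingCat.ofHom (algebraMap R (CohB1.polyGrading n R 0)))
    have h2 := congrArg (fun φ => ((Proj.toSpecZero (CohB1.polyGrading n R)).appTop).hom (φ.hom r)) h1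
    simp only [CommRingCat.hom_comp, RingHom.coe_comp, Function.comp_apply,
      CommRingCat.hom_ofHom] at h2
    rw [h2]
    rfl
  rw [h, ofun_toSpecZero_appTop]
  rfl

/-- The global section `c / 1` of `O(d)` on projective space. -/
noncomputable def polySec (d : ℕ) (c : CohB1.polyGrading n R d) :
    Γ(Twist.twist (CohB1.polyGrading n R) (d : ℤ), ⊤) :=
  mkSec (CohB1.polyGrading n R) (d : ℤ) ⊤ c
    (⟨1, SetLike.GradedOne.one_mem⟩ : CohB1.polyGrading n R 0) (fun x => one_not_mem x.1) (by simp)

theorem tfun_polySec (d : ℕ) (c : CohB1.polyGrading n R d)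
    (x : (⊤ : (Proj (CohB1.polyGrading n R)).Opens)) :
    tfun (CohB1.polyGrading n R) (polySec n R d c) x =
      Localization.mk c.1 ⟨1, one_not_mem x.1⟩ := rfl

theorem polySec_add (d : ℕ) (c c' : CohB1.polyGrading n R d) :
    polySec n R d (c + c') = polySec n R d c + polySec n R d c' := by
  apply tfun_ext
  intro x
  rw [tfun_add, tfun_polySec, tfun_polySec, tfun_polySec, Localization.add_mk_self]
  rfl

theorem polySec_smul (d : ℕ) (r : R) (c : CohB1.polyGrading n R d) :
    polySec n R d (r • c) = (show Γ(Proj (CohB1.polyGrading n R), ⊤) from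
      Coh.toGlobal (CohB1.ProjSpace.toSpec n R) r) • polySec n R d c := by
  apply tfun_ext
  intro x
  rw [tfun_smul, ofun_toGlobal, tfun_polySec, tfun_polySec, Localization.mk_mul]
  apply mk_eq_mk_of_mul_eq
  simp only [Submonoid.coe_mul, SetLike.val_smul, MvPolynomial.smul_eq_C_mul]
  ring

theorem polySec_injective (d : ℕ) : Function.Injective (polySec n R d) := by
  intro c c' h
  apply eq_of_forall_mk_eq n R 0 0 c c'
  intro x _ _
  have := congrArg (fun σ => tfun (CohB1.polyGrading n R) σ
    (⟨x, trivial⟩ : (⊤ : (Proj (CohB1.polyGrading n R)).Opens))) h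
  exact this

theorem polySec_surjective (d : ℕ) : Function.Surjective (polySec n R d) := by
  intro σ
  obtain ⟨c, hc⟩ := exists_tfun_eq_mk_one n R d σ
  refine ⟨c, ?_⟩
  apply tfun_ext
  intro x
  rw [tfun_polySec]
  exact (hc x.1).symm

/-- **`H^0(P^n_R, O(d))` is the module of homogeneous polynomials of degree `d`.** -/
noncomputable def h0TwistEquiv (d : ℕ) :
    CohB1.polyGrading n R d ≃ₗ[R]
      Coh.HH (CohB1.ProjSpace n R) (Twist.twistProjSpace n R (d : ℤ)) 0 :=
  LinearEquiv.ofBijective
    { toFun := fun c => (hh0 (Twist.twistProjSpace n R (d : ℤ))).symm (polySec n R d c)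
      map_add' := by
        intro c c'
        rw [polySec_add]
        exact (hh0 (Twist.twistProjSpace n R (d : ℤ))).symm.map_add _ _
      map_smul' := by
        intro r c
        apply (hh0 (Twist.twistProjSpace n R (d : ℤ))).injective
        rw [AddEquiv.apply_symm_apply, RingHom.id_apply]
        change _ = hh0 (Twist.twistProjSpace n R (d : ℤ))
          (Coh.toGlobal (CohB1.ProjSpace.toSpec n R) r • _)
        rw [hh0_smul, AddEquiv.apply_symm_apply]
        exact polySec_smul n R d r c }
    ⟨fun c c' h => polySec_injective n R d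
        ((hh0 (Twist.twistProjSpace n R (d : ℤ))).symm.injective h),
      fun y => by
        obtain ⟨c, hc⟩ := polySec_surjective n R d (hh0 (Twist.twistProjSpace n R (d : ℤ)) y)
        refine ⟨c, ?_⟩
        change (hh0 (Twist.twistProjSpace n R (d : ℤ))).symm (polySec n R d c) = y
        rw [hc, AddEquiv.symm_apply_apply]⟩

end PnH0

end Groth.Agent.Lib.Helper29.QCoh
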