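import Groth.Agent.Lib.Helper29.GStarD
universe u
open CategoryTheory CategoryTheory.Limits AlgebraicGeometry Opposite TopologicalSpace DirectSum

namespace Groth.Agent.Lib.Helper29.QCoh

section NoethProj
variable {R A : Type u} [CommRing R] [CommRing A] [Algebra R A] (𝒜 : ℕ → Submodule R A) [GradedAlgebra 𝒜]

/-- If the irrelevant ideal is finitely generated, `Proj` is quasi-compact. -/
theorem compactSpace_proj_of_fg (hfg : (HomogeneousIdeal.irrelevant 𝒜).toIdeal.FG) :
    CompactSpace (Proj 𝒜) := by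
  classical
  obtain ⟨T, hT⟩ := hfg
  rw [← isCompact_univ_iff]
  have hcov : (Set.univ : Set (Proj 𝒜)) =
      ⋃ t ∈ T, ⋃ k ∈ (decompose 𝒜 t).support.filter (fun k => 0 < k),
        (Proj.basicOpen 𝒜 (decompose 𝒜 t k : A) : Set (Proj 𝒜)) := by
    ext x
    simp only [Set.mem_univ, Set.mem_iUnion, true_iff]
    by_contra hcon
    push Not at hcon
    apply x.not_irrelevant_le
    change (HomogeneousIdeal.irrelevant 𝒜).toIdeal ≤ x.asHomogeneousIdeal.toIdeal
    rw [← hT, Ideal.span_le]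
    intro t ht
    have ht' : t ∈ (HomogeneousIdeal.irrelevant 𝒜).toIdeal := by
      rw [← hT]; exact Ideal.subset_span ht
    rw [← sum_support_decompose 𝒜 t]
    refine Ideal.sum_mem _ fun k hk => ?_
    rcases Nat.eq_zero_or_pos k with h0 | h0
    · subst h0
      have : (decompose 𝒜 t 0 : A) = 0 := by
        have := (HomogeneousIdeal.mem_irrelevant_iff 𝒜 t).mp ht'
        simpa [GradedRing.proj_apply] using this
      rw [this]
      exact Ideal.zero_mem _
    · by_contra hmem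
      exact hcon t ht k (Finset.mem_filter.mpr ⟨hk, h0⟩)
        ((ProjectiveSpectrum.mem_basicOpen 𝒜 _ x).mpr hmem)
  rw [hcov]
  refine T.finite_toSet.isCompact_biUnion fun t _ => ?_
  refine (Finset.finite_toSet _).isCompact_biUnion fun k hk => ?_
  exact (Proj.isAffineOpen_basicOpen 𝒜 _ (Submodule.coe_mem _)
    (Finset.mem_filter.mp hk).2).isCompact

/-- On a quasi-compact `Proj` there is a finite cover by charts of one common positive degree. -/
theorem exists_finite_cover_common_degree [CompactSpace (Proj 𝒜)] :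
    ∃ (d : ℕ) (_ : 0 < d) (T : Finset (𝒜 d)), ∀ x : Proj 𝒜, ∃ g ∈ T, x ∈ Proj.basicOpen 𝒜 g.1 := by
  obtain ⟨d, hd, hcov⟩ := exists_period_of_isCompact 𝒜 ⊤ isCompact_univ
  obtain ⟨T, hT⟩ := isCompact_univ.elim_finite_subcover
    (fun g : 𝒜 d => (Proj.basicOpen 𝒜 g.1 : Set (Proj 𝒜)))
    (fun g => (Proj.basicOpen 𝒜 g.1).isOpen)
    (fun y _ => by
      obtain ⟨g, hg⟩ := hcov y trivial
      exact Set.mem_iUnion.mpr ⟨g, hg⟩)
  refine ⟨d, hd, T, fun x => ?_⟩
  have := hT (Set.mem_univ x)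
  simp only [Set.mem_iUnion] at this
  obtain ⟨g, hg, hx⟩ := this
  exact ⟨g, hg, hx⟩

/-- **Coherent modules on `Proj` of a graded ring with finitely generated irrelevant ideal are
quotients of finite sums of twisting sheaves.** -/
theorem exists_epi_coprod_twist_of_fg (hfg : (HomogeneousIdeal.irrelevant 𝒜).toIdeal.FG)
    (F : (Proj 𝒜).Modules) [F.IsQuasicoherent] [F.IsFiniteType] :
    ∃ (r : ℕ) (d : Fin r → ℤ) (φ : (∐ fun j : Fin r => Twist.twist 𝒜 (d j)) ⟶ F), Epi φ := by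
  have := compactSpace_proj_of_fg 𝒜 hfg
  obtain ⟨d, hd, T, hT⟩ := exists_finite_cover_common_degree 𝒜
  let I : Type u := {g : 𝒜 d // g ∈ T}
  let f : I → 𝒜 d := fun i => i.1
  have hcov : ∀ x : Proj 𝒜, ∃ i, x ∈ DpD 𝒜 f i := by
    intro x
    obtain ⟨g, hg, hx⟩ := hT x
    exact ⟨⟨g, hg⟩, hx⟩
  obtain ⟨n₀, hn₀⟩ := exists_epi_coprod_negTwistD 𝒜 f F hd hcov
  obtain ⟨k, p, hp⟩ := hn₀ n₀ le_rfl
  exact ⟨k, fun _ => -(n₀ : ℤ) * d, p, hp⟩

end NoethProj

end Groth.Agent.Lib.Helper29.QCoh
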