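import Groth.Agent.Lib.Helper29.PA1
universe u
open CategoryTheory CategoryTheory.Limits AlgebraicGeometry Opposite TopologicalSpace

/-! # Proper + relatively ample over an affine base: closed immersion into `Proj A[T]` -/

namespace Groth.Agent.Lib.Helper29.QCoh

section ClosedImm
variable {A : Type u} [CommRing A] {X : Scheme.{u}}

theorem exists_closedImmersion_proj_of_isProper (f : X ⟶ Spec (CommRingCat.of A)) [IsProper f]
    {L : X.Modules} (hamp : RelAmple.IsRelAmple f L) :
    ∃ (n : ℕ) (j : X ⟶ Proj (CohB1.polyGrading n A)), IsClosedImmersion j ∧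
      j ≫ CohB1.ProjSpace.toSpec n A = f := by
  have hA : CohB1.IsAmple L := isAmple_of_isRelAmple f hamp
  obtain ⟨k₀, hk₀⟩ := exists_isRelVeryAmplePn_of_isAmple f hA (isInvertible_unit X)
  obtain ⟨n, i, hi, hif, -⟩ := hk₀ k₀ le_rfl
  obtain ⟨α, β, hα, hαβ⟩ := exists_splitMono_projSpaceOver_spec n A
  have hif' : i ≫ CohB1.ProjSpaceOver.toBase n (Spec (CommRingCat.of A)) = f := hif
  have hj : (i ≫ α) ≫ CohB1.ProjSpace.toSpec n A = f := by
    rw [Category.assoc, hα, hif']
  have hjβ : (i ≫ α) ≫ β = i := by rw [Category.assoc, hαβ, Category.comp_id]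
  have : IsImmersion ((i ≫ α) ≫ β) := by rw [hjβ]; exact hi
  have himm : IsImmersion (i ≫ α) := IsImmersion.of_comp (i ≫ α) β
  have hsep : IsSeparated (CohB1.ProjSpace.toSpec n A) := inferInstance
  have : IsProper ((i ≫ α) ≫ CohB1.ProjSpace.toSpec n A) := by rw [hj]; infer_instance
  have hprop : IsProper (i ≫ α) := IsProper.of_comp (i ≫ α) (CohB1.ProjSpace.toSpec n A)
  have hcl : IsClosed (Set.range (i ≫ α).base) := (i ≫ α).isClosedMap.isClosed_range
  exact ⟨n, i ≫ α, IsClosedImmersion.of_isPreimmersion (i ≫ α) hcl, hj⟩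

end ClosedImm

end Groth.Agent.Lib.Helper29.QCoh
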