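import Groth.Agent.Lib.Helper29.Pic3
set_option autoImplicit false
universe u
open CategoryTheory CategoryTheory.Limits AlgebraicGeometry TopologicalSpace Opposite DirectSum

namespace Groth.Agent.Lib.Helper29.Pic
open Groth.Agent.Lib.Helper29.QCoh Groth.Agent.Lib.Helper29.ZeroSch

section Pn
variable (n : ℕ) (R : Type u) [CommRing R]

theorem nonempty_projSpace [Nontrivial R] : Nonempty (Proj (CohB1.polyGrading n R)) := by
  by_contra hempty
  have h3 : polySec n R 0 1 = polySec n R 0 0 := by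
    apply tfun_ext
    intro x
    exact (hempty ⟨x.1⟩).elim
  have h4 := polySec_injective n R 0 h3
  have h5 : (1 : MvPolynomial (Fin (n + 1)) R) = 0 := congrArg Subtype.val h4
  exact one_ne_zero h5

theorem nonempty_tensorPow_twist_iso (d : ℤ) (m : ℕ) :
    Nonempty (CohB1.tensorPow (Twist.twist (CohB1.polyGrading n R) d) m ≅
      Twist.twist (CohB1.polyGrading n R) (d * m)) := by
  have hcov := projSpace_degree_one_cover n R
  obtain ⟨-, htens, hpow⟩ :=
    twist_invertible_and_tensor (iSup_basicOpen_eq_top_of_forall hcov)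
  induction m with
  | zero =>
    obtain ⟨ψ0⟩ := hpow 0
    have ψ0' : Twist.twist (CohB1.polyGrading n R) ((0 : ℕ) : ℤ) ≅
        Coh.structureModule (Proj (CohB1.polyGrading n R)) := ψ0
    have h0 : Twist.twist (CohB1.polyGrading n R) (d * ((0 : ℕ) : ℤ)) =
        Twist.twist (CohB1.polyGrading n R) ((0 : ℕ) : ℤ) := by congr 1; simp
    change Nonempty (Coh.structureModule (Proj (CohB1.polyGrading n R)) ≅ _)
    exact ⟨ψ0'.symm ≪≫ eqToIso h0.symm⟩
  | succ m ih =>
    obtain ⟨φ⟩ := ih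
    obtain ⟨τ⟩ := htens (d * m) d
    have h0 : Twist.twist (CohB1.polyGrading n R) (d * m + d) =
        Twist.twist (CohB1.polyGrading n R) (d * ((m + 1 : ℕ) : ℤ)) := by
      congr 1; push_cast; ring
    exact ⟨tensorCongr φ (Iso.refl _) ≪≫ τ ≪≫ eqToIso h0⟩

/-- On projective space of dimension `≥ 1` over a nonzero ring, `O(d)` with `d ≤ 0` is not
ample. -/
theorem not_isAmple_twist_of_nonpos [Nontrivial R] (hn : 1 ≤ n) (d : ℤ) (hd : d ≤ 0) :
    ¬ CohB1.IsAmple (Twist.twist (CohB1.polyGrading n R) d) := by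
  intro hA
  have hcov := projSpace_degree_one_cover n R
  obtain ⟨hinv, htens, -⟩ :=
    twist_invertible_and_tensor (iSup_basicOpen_eq_top_of_forall hcov)
  have hF := hinv (-1)
  have := isQuasicoherent_of_isInvertible hF
  have := isFiniteType_of_isInvertible hF
  obtain ⟨m, hm⟩ := exists_isGloballyGenerated_twist hA (Twist.twist (CohB1.polyGrading n R) (-1))
  have hgg := hm m le_rfl
  have hB : PicF.IsInvertible (CohB1.tensorMod (Twist.twist (CohB1.polyGrading n R) (-1))
      (CohB1.tensorPow (Twist.twist (CohB1.polyGrading n R) d) m)) :=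
    isInvertible_tensorMod hF (isInvertible_tensorPow (hinv d) m)
  obtain ⟨φ⟩ := nonempty_tensorPow_twist_iso n R d m
  obtain ⟨τ⟩ := htens (-1) (d * m)
  obtain ⟨e, he⟩ : ∃ e : ℕ, (e : ℤ) = 1 - d * m :=
    ⟨(1 - d * m).toNat, by
      have : d * (m : ℤ) ≤ 0 := mul_nonpos_of_nonpos_of_nonneg hd (Int.natCast_nonneg m)
      omega⟩
  have hepos : 0 < e := by
    have : d * (m : ℤ) ≤ 0 := mul_nonpos_of_nonpos_of_nonneg hd (Int.natCast_nonneg m)
    omega
  have h0 : Twist.twist (CohB1.polyGrading n R) (-1 + d * m) =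
      Twist.twist (CohB1.polyGrading n R) (-(e : ℤ)) := by congr 1; omega
  obtain ⟨β⟩ : Nonempty (CohB1.tensorMod (Twist.twist (CohB1.polyGrading n R) (-1))
      (CohB1.tensorPow (Twist.twist (CohB1.polyGrading n R) d) m) ≅
      Twist.twist (CohB1.polyGrading n R) (-(e : ℤ))) :=
    ⟨tensorCongr (Iso.refl _) φ ≪≫ τ ≪≫ eqToIso h0⟩
  obtain ⟨x⟩ := nonempty_projSpace n R
  obtain ⟨σ, hσ⟩ := exists_mem_genLocus_of_isGloballyGenerated hB hgg x
  apply ne_zero_of_mem_genLocus hB σ x hσ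
  apply hom_ext_of_sval
  have h2 := Groth.Agent.Lib.Helper29.QCoh.MeroK.app_inv_app β.symm ⊤ (sval σ ⊤)
  change β.inv.app ⊤ (β.hom.app ⊤ (sval σ ⊤)) = _ at h2
  rw [eq_zero_of_neg_twist n R hn e hepos (β.hom.app ⊤ (sval σ ⊤)), map_zero] at h2
  rw [← h2, sval_zero']

theorem isAmple_twist_iff [Nontrivial R] (hn : 1 ≤ n) (d : ℤ) :
    CohB1.IsAmple (Twist.twist (CohB1.polyGrading n R) d) ↔ 0 < d := by
  constructor
  · intro hA
    by_contra hd
    exact not_isAmple_twist_of_nonpos n R hn d (not_lt.mp hd) hA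
  · intro hd
    obtain ⟨k, hk⟩ : ∃ k : ℕ, (k : ℤ) = d := ⟨d.toNat, by omega⟩
    rw [← hk]
    exact isAmple_twist_of_pos (projSpace_degree_one_cover n R) k (by omega)

end Pn

end Groth.Agent.Lib.Helper29.Pic
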