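import Groth.Agent.Lib.Helper29.ProjF4
import Groth.Agent.Helper19.PullUnit
universe u
open CategoryTheory CategoryTheory.Limits AlgebraicGeometry TopologicalSpace Opposite
open scoped TensorProduct

/-! # The projection formula `F ⊗ f_* O_X ≅ f_* f^* F` for affine `f` and all quasi-coherent `F` -/

namespace Groth.Agent.Lib.Helper29.QCoh.ProjF
open Groth.Agent.Lib.Helper29.QCoh Groth.Agent.Lib.Helper3

theorem bijective_lift_of_equiv {A B M P : Type*} [CommRing A] [CommRing B] [Algebra A B]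
    [AddCommGroup M] [Module A M]
    [AddCommGroup P] [Module A P] [Module B P] [IsScalarTower A B P]
    (e : P ≃ₗ[B] B ⊗[A] M) (ψ : M →ₗ[A] P)
    (hψ : ∀ m, e (ψ m) = (1 : B) ⊗ₜ[A] m) :
    ∃ q : B ⊗[A] M →ₗ[B] P, (∀ (b : B) (m : M), q (b ⊗ₜ m) = b • ψ m) ∧ Function.Bijective q := by
  let q : B ⊗[A] M →ₗ[B] P :=
    TensorProduct.AlgebraTensorModule.lift (LinearMap.toSpanSingleton B (M →ₗ[A] P) ψ)
  have hq : ∀ (b : B) (m : M), q (b ⊗ₜ m) = b • ψ m := fun b m => by
    simp [q]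
  have heq : ∀ w, e (q w) = w := by
    intro w
    induction w using TensorProduct.induction_on with
    | zero => rw [map_zero, map_zero]
    | tmul b m =>
      rw [hq, map_smul, hψ, TensorProduct.smul_tmul', smul_eq_mul, mul_one]
    | add a b ha hb => rw [map_add, map_add, ha, hb]
  refine ⟨q, hq, ⟨fun a b hab => ?_, fun p => ⟨e p, ?_⟩⟩⟩
  · rw [← heq a, ← heq b, hab]
  · apply e.injective
    rw [heq]

variable {X Y : Scheme.{u}} (f : X ⟶ Y) (F : Y.Modules)

set_option maxRecDepth 8000 in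
/-- The projection formula map is bijective on sections over affine opens, for `f` affine and
`F` quasi-coherent. -/
theorem projHom_app_bijective' [IsAffineHom f] [F.IsQuasicoherent]
    {V : Y.Opens} (hV : IsAffineOpen V) : Function.Bijective ((projHom f F).app V) := by
  have hU : IsAffineOpen (f ⁻¹ᵁ V) := hV.preimage f
  have hBq : (pushUnit f).IsQuasicoherent := isQuasicoherent_pushforward_of_isAffineHom f _
  let φ : Γ(Y, V) →+* Γ(X, f ⁻¹ᵁ V) := (f.appLE V (f ⁻¹ᵁ V) le_rfl).hom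
  have hφ : ∀ a, φ a = f.app V a := fun a => by
    change (f.appLE V (f ⁻¹ᵁ V) le_rfl) a = _
    rw [← Scheme.Hom.app_eq_appLE]
  let _ : Algebra Γ(Y, V) Γ(X, f ⁻¹ᵁ V) := φ.toAlgebra
  let P := Γ((Scheme.Modules.pullback f).obj F, f ⁻¹ᵁ V)
  let _ : Module Γ(Y, V) P := Module.compHom P φ
  have htower : IsScalarTower Γ(Y, V) Γ(X, f ⁻¹ᵁ V) P :=
    IsScalarTower.of_algebraMap_smul fun a n => rfl
  let e : P ≃ₗ[Γ(X, f ⁻¹ᵁ V)] Γ(X, f ⁻¹ᵁ V) ⊗[Γ(Y, V)] Γ(F, V) :=
    pullbackSectionsEquiv f F hU hV le_rfl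
  let ψ : Γ(F, V) →ₗ[Γ(Y, V)] P :=
    { toFun := fun s => pullSect f F V s
      map_add' := fun a b => map_add _ a b
      map_smul' := fun a s => by
        change pullSect f F V (a • s) = φ a • pullSect f F V s
        rw [pullSect_smul, hφ] }
  have hψ : ∀ s, e (ψ s) = (1 : Γ(X, f ⁻¹ᵁ V)) ⊗ₜ[Γ(Y, V)] s := by
    intro s
    have h := Groth.Agent.Helper19.PullUnit.pullbackSectionsEquiv_pullSect f F hU hV le_rfl s
    exact (congrArg e (res_self ((Scheme.Modules.pullback f).obj F)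
      (pullSect f F V s)).symm).trans h
  obtain ⟨q, hq, hqb⟩ := bijective_lift_of_equiv e ψ hψ
  -- identify `Γ(f_*O_X, V)` with `Γ(X, f⁻¹V)` as modules over `Γ(Y, V)`
  let ι : Γ(pushUnit f, V) ≃ₗ[Γ(Y, V)] Γ(X, f ⁻¹ᵁ V) :=
    { toFun := fun β => fromUnit (show Γ(unitM X, f ⁻¹ᵁ V) from β)
      invFun := fun b => (show Γ(pushUnit f, V) from toUnit b)
      left_inv := fun β => rfl
      right_inv := fun b => rfl
      map_add' := fun a b => rfl
      map_smul' := fun a β => by
        change f.app V a * fromUnit (show Γ(unitM X, f ⁻¹ᵁ V) from β) =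
          φ a * fromUnit (show Γ(unitM X, f ⁻¹ᵁ V) from β)
        rw [hφ] }
  let c : Γ(F, V) ⊗[Γ(Y, V)] Γ(pushUnit f, V) ≃ₗ[Γ(Y, V)] Γ(X, f ⁻¹ᵁ V) ⊗[Γ(Y, V)] Γ(F, V) :=
    (TensorProduct.comm Γ(Y, V) Γ(F, V) Γ(pushUnit f, V)).trans
      (TensorProduct.congr ι (LinearEquiv.refl Γ(Y, V) Γ(F, V)))
  let T := tensorSectionsEquiv F (pushUnit f) hV
  have hg : ∀ w : Γ(F, V) ⊗[Γ(Y, V)] Γ(pushUnit f, V),
      (projHom f F).app V (T w) = q (c w) := by
    intro w
    induction w using TensorProduct.induction_on with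
    | zero =>
      rw [map_zero, map_zero, map_zero, map_zero]
      rfl
    | tmul s β =>
      rw [tensorSectionsEquiv_tmul, projHom_tmulSec]
      change _ = q (ι β ⊗ₜ s)
      rw [hq]
      rfl
    | add a b ha hb =>
      rw [map_add, map_add, map_add, map_add, ha, hb]
      rfl
  have hbij : Function.Bijective (fun w => (projHom f F).app V (T w)) := by
    have : (fun w => (projHom f F).app V (T w)) = (q ∘ c) := funext hg
    rw [this]
    exact hqb.comp c.bijective
  have : ((projHom f F).app V : Γ(CohB1.tensorMod F (pushUnit f), V) → _) =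
      (fun w => (projHom f F).app V (T w)) ∘ T.symm := by
    funext w
    change _ = (projHom f F).app V (T (T.symm w))
    rw [LinearEquiv.apply_symm_apply]
  rw [this]
  exact hbij.comp T.symm.bijective

/-- **Projection formula**: `F ⊗ f_* O_X ≅ f_* f^* F` for `f` affine and `F` quasi-coherent. -/
theorem isIso_projHom' [IsAffineHom f] [F.IsQuasicoherent] :
    IsIso (projHom f F) :=
  isIso_of_app_bijective_affine _ fun _ hV => projHom_app_bijective' f F hV

end Groth.Agent.Lib.Helper29.QCoh.ProjF
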