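import Groth.Agent.Lib.Helper29.Cocycle
universe u
open CategoryTheory CategoryTheory.Limits AlgebraicGeometry TopologicalSpace Opposite
open scoped TensorProduct

namespace Groth.Agent.Lib.Helper29.QCoh

section PullTensor
variable {X Y : Scheme.{u}} (f : X ⟶ Y)

/-- **Pullback commutes with tensor products of invertible modules.** -/
theorem exists_pullbackTensorIso {A B : Y.Modules} (hA : PicF.IsInvertible A)
    (hB : PicF.IsInvertible B) :
    ∃ φ : (Scheme.Modules.pullback f).obj (CohB1.tensorMod A B) ≅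
        CohB1.tensorMod ((Scheme.Modules.pullback f).obj A) ((Scheme.Modules.pullback f).obj B),
      ∀ (V : Y.Opens) (a : Γ(A, V)) (b : Γ(B, V)), IsTriv A V a → IsTriv B V b →
        φ.hom.app (f ⁻¹ᵁ V) (pullSect f _ V (tmulSec A B a b)) =
          tmulSec _ _ (pullSect f A V a) (pullSect f B V b) := by
  have := isQuasicoherent_of_isInvertible hA
  have := isQuasicoherent_of_isInvertible hB
  let ι := { t : Σ V : Y.Opens, Γ(A, V) × Γ(B, V) // IsTriv A t.1 t.2.1 ∧ IsTriv B t.1 t.2.2 }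
  have key := exists_iso_of_cocycle
    (M := (Scheme.Modules.pullback f).obj (CohB1.tensorMod A B))
    (N := CohB1.tensorMod ((Scheme.Modules.pullback f).obj A) ((Scheme.Modules.pullback f).obj B))
    (ι := ι) (U := fun t => f ⁻¹ᵁ t.1.1)
    (m := fun t => pullSect f _ t.1.1 (tmulSec A B t.1.2.1 t.1.2.2))
    (n := fun t => tmulSec _ _ (pullSect f A t.1.1 t.1.2.1) (pullSect f B t.1.1 t.1.2.2))
    ?_ ?_ ?_ ?_
  · obtain ⟨φ, hφ⟩ := key
    exact ⟨φ, fun V a b ha hb => hφ ⟨⟨V, a, b⟩, ha, hb⟩⟩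
  · intro x
    obtain ⟨V, a, b, -, hxV, -, ha, hb⟩ := exists_affine_isTriv₂ hA hB (W := ⊤) (f x) trivial
    exact ⟨⟨⟨V, a, b⟩, ha, hb⟩, hxV⟩
  · rintro ⟨⟨V, a, b⟩, ha, hb⟩
    exact (ha.tensor hb).pullSect f
  · rintro ⟨⟨V, a, b⟩, ha, hb⟩
    exact (ha.pullSect f).tensor (hb.pullSect f)
  · rintro ⟨⟨V, a, b⟩, ha, hb⟩ ⟨⟨V', a', b'⟩, ha', hb'⟩
    obtain ⟨α, hα⟩ := (ha'.restrict (inf_le_right : V ⊓ V' ≤ V')).exists_eq_smul
      (QCoh.res A (inf_le_left : V ⊓ V' ≤ V) a)
    obtain ⟨β, hβ⟩ := (hb'.restrict (inf_le_right : V ⊓ V' ≤ V')).exists_eq_smul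
      (QCoh.res B (inf_le_left : V ⊓ V' ≤ V) b)
    refine ⟨(f.app (V ⊓ V')).hom (α * β), ?_, ?_⟩
    · change QCoh.res _ (f.preimage_mono (inf_le_left : V ⊓ V' ≤ V)) (pullSect f _ V (tmulSec A B a b)) =
        (f.app (V ⊓ V')).hom (α * β) • QCoh.res _ (f.preimage_mono (inf_le_right : V ⊓ V' ≤ V'))
          (pullSect f _ V' (tmulSec A B a' b'))
      rw [← pullSect_res, ← pullSect_res, res_tmulSec, res_tmulSec, hα, hβ, tmulSec_smul_left,
        tmulSec_smul_right, smul_smul, pullSect_smul]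
      all_goals first | exact inf_le_left | exact inf_le_right
    · change QCoh.res _ (f.preimage_mono (inf_le_left : V ⊓ V' ≤ V))
          (tmulSec _ _ (pullSect f A V a) (pullSect f B V b)) =
        (f.app (V ⊓ V')).hom (α * β) • QCoh.res _ (f.preimage_mono (inf_le_right : V ⊓ V' ≤ V'))
          (tmulSec _ _ (pullSect f A V' a') (pullSect f B V' b'))
      rw [res_tmulSec, res_tmulSec, ← pullSect_res, ← pullSect_res, ← pullSect_res, ← pullSect_res,
        hα, hβ, pullSect_smul, pullSect_smul, tmulSec_smul_left, tmulSec_smul_right, smul_smul,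
        map_mul]
      all_goals first | exact inf_le_left | exact inf_le_right

theorem nonempty_pullbackTensorPowIso {L : Y.Modules} (hL : PicF.IsInvertible L) (n : ℕ) :
    Nonempty ((Scheme.Modules.pullback f).obj (CohB1.tensorPow L n) ≅
      CohB1.tensorPow ((Scheme.Modules.pullback f).obj L) n) := by
  induction n with
  | zero => exact ⟨pullbackUnitIso f⟩
  | succ n ih =>
    obtain ⟨θ⟩ := ih
    obtain ⟨φ, -⟩ := exists_pullbackTensorIso f (isInvertible_tensorPow hL n) hL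
    exact ⟨φ ≪≫ tensorCongr θ (Iso.refl _)⟩

/-- Sections of tensor powers pull back, compatibly with the loci `X_s`. -/
theorem exists_pullback_section {L : Y.Modules} (hL : PicF.IsInvertible L) (n : ℕ)
    (s : unitM Y ⟶ CohB1.tensorPow L n) :
    ∃ s' : unitM X ⟶ CohB1.tensorPow ((Scheme.Modules.pullback f).obj L) n,
      CohB1.genLocus _ s' = f ⁻¹ᵁ CohB1.genLocus _ s := by
  obtain ⟨θ⟩ := nonempty_pullbackTensorPowIso f hL n
  exact ⟨pullHom f s ≫ θ.hom, by
    rw [genLocus_comp_iso, genLocus_pullHom f (isInvertible_tensorPow hL n)]⟩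

end PullTensor

section OfIso
variable {X : Scheme.{u}}

theorem isInvertible_of_iso {L L' : X.Modules} (e : L ≅ L') (hL : PicF.IsInvertible L) :
    PicF.IsInvertible L' := by
  intro x
  obtain ⟨U, hxU, ⟨ε⟩⟩ := hL x
  exact ⟨U, hxU, ⟨((Scheme.Modules.restrictFunctor U.ι).mapIso e).symm ≪≫ ε⟩⟩

theorem isAmple_of_iso {L L' : X.Modules} (e : L ≅ L') (hL : CohB1.IsAmple L) :
    CohB1.IsAmple L' := by
  obtain ⟨h1, h2, h3⟩ := hL
  refine ⟨isInvertible_of_iso e h1, h2, fun x => ?_⟩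
  obtain ⟨n, s, hx, haff⟩ := h3 x
  refine ⟨n, s ≫ (tensorPowCongr e (n + 1)).hom, ?_, ?_⟩
  · rw [genLocus_comp_iso]; exact hx
  · rw [genLocus_comp_iso]; exact haff

theorem isAmple_iff_of_iso {L L' : X.Modules} (e : L ≅ L') :
    CohB1.IsAmple L ↔ CohB1.IsAmple L' :=
  ⟨isAmple_of_iso e, isAmple_of_iso e.symm⟩

end OfIso

section AmplePullback
variable {X X' : Scheme.{u}}

/-- If every point of `X'` has an affine neighbourhood of the form `i⁻¹(W)`, `W` open in `X`,
then the pullback of an ample module is ample. -/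
theorem isAmple_pullback_of_affine_preimage_nhds (i : X' ⟶ X) [CompactSpace X'] {L : X.Modules}
    (hL : CohB1.IsAmple L)
    (h : ∀ (x' : X') (U' : X'.Opens), x' ∈ U' → ∃ W : X.Opens, i x' ∈ W ∧ i ⁻¹ᵁ W ≤ U') :
    CohB1.IsAmple ((Scheme.Modules.pullback i).obj L) := by
  have hM := isInvertible_pullback i hL.1
  have hq := isQuasicoherent_of_isInvertible hM
  refine ⟨hM, inferInstance, fun x' => ?_⟩
  obtain ⟨W', e, hW', hxW', -, he⟩ := exists_affine_isTriv hM (W := ⊤) x' trivial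
  obtain ⟨W, hxW, hWW'⟩ := h x' W' hxW'
  obtain ⟨k, s, hxs, hsW, haff⟩ := exists_affine_genLocus_nhd hL hxW
  obtain ⟨s', hs'⟩ := exists_pullback_section i hL.1 (k + 1) s
  have hle : CohB1.genLocus _ s' ≤ W' := by
    rw [hs']
    exact (i.preimage_mono hsW).trans hWW'
  refine ⟨k, s', ?_, ?_⟩
  · rw [hs']; exact hxs
  · obtain ⟨a, ha⟩ := (he.epow (k + 1)).exists_eq_smul (sval s' W')
    have h1 := (he.epow (k + 1)).genLocus_inf s' a ha
    rw [inf_eq_left.mpr hle] at h1
    rw [h1]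
    exact hW'.basicOpen a

theorem isAmple_pullback_of_isEmbedding (i : X' ⟶ X) [CompactSpace X']
    (hi : Topology.IsEmbedding i) {L : X.Modules} (hL : CohB1.IsAmple L) :
    CohB1.IsAmple ((Scheme.Modules.pullback i).obj L) := by
  refine isAmple_pullback_of_affine_preimage_nhds i hL fun x' U' hx' => ?_
  obtain ⟨W, hWo, hW⟩ := hi.isInducing.isOpen_iff.mp U'.2
  refine ⟨⟨W, hWo⟩, ?_, ?_⟩
  · have : x' ∈ i ⁻¹' W := by rw [hW]; exact hx'
    exact this
  · intro z hz
    have : z ∈ i ⁻¹' W := hz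
    rw [hW] at this
    exact this

theorem isAmple_pullback_of_isAffineHom (i : X' ⟶ X) [IsAffineHom i] [CompactSpace X']
    {L : X.Modules} (hL : CohB1.IsAmple L) :
    CohB1.IsAmple ((Scheme.Modules.pullback i).obj L) := by
  refine ⟨isInvertible_pullback i hL.1, inferInstance, fun x' => ?_⟩
  obtain ⟨n, s, hx, haff⟩ := hL.2.2 (i x')
  obtain ⟨s', hs'⟩ := exists_pullback_section i hL.1 (n + 1) s
  exact ⟨n, s', by rw [hs']; exact hx, by rw [hs']; exact haff.preimage i⟩

end AmplePullback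

end Groth.Agent.Lib.Helper29.QCoh
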