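import Groth.Agent.Lib.Helper29.Twist5
universe u
open CategoryTheory CategoryTheory.Limits AlgebraicGeometry Opposite TopologicalSpace DirectSum

/-! # The structure map of `Proj` on global functions; `H^0` as global sections -/

namespace Groth.Agent.Lib.Helper29.QCoh

section ToSpecZero
variable {R A : Type u} [CommRing R] [CommRing A] [Algebra R A] (𝒜 : ℕ → Submodule R A) [GradedAlgebra 𝒜]

theorem toSpecZero_appTop_res {m : ℕ} (f : A) (f_deg : f ∈ 𝒜 m) (hm : 0 < m) :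
    (Scheme.ΓSpecIso (CommRingCat.of (𝒜 0))).inv ≫ (Proj.toSpecZero 𝒜).appTop ≫
      (Proj 𝒜).presheaf.map (homOfLE (le_top : Proj.basicOpen 𝒜 f ≤ ⊤)).op =
    CommRingCat.ofHom (HomogeneousLocalization.fromZeroRingHom 𝒜 _) ≫ Proj.awayToSection 𝒜 f := by
  have h := Proj.awayι_toSpecZero 𝒜 f f_deg hm
  rw [Proj.awayι, Category.assoc, Iso.inv_comp_eq, Proj.basicOpenIsoSpec_hom, Proj.basicOpenToSpec] at h
  have h2 := congrArg Scheme.Hom.appTop h
  simp only [Scheme.Hom.comp_appTop, Scheme.Opens.toSpecΓ_appTop] at h2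
  have h3 : (Proj 𝒜).presheaf.map (homOfLE (le_top : Proj.basicOpen 𝒜 f ≤ ⊤)).op =
      (Proj.basicOpen 𝒜 f).ι.appTop ≫ (Proj.basicOpen 𝒜 f).topIso.hom := by
    rw [Scheme.Opens.ι_appTop, Scheme.Opens.topIso]
    simp only [Functor.mapIso_hom, Iso.op_hom, eqToIso.hom]
    rfl
  rw [h3, reassoc_of% h2]
  simp only [Iso.inv_hom_id, Category.comp_id]
  rw [← Scheme.ΓSpecIso_inv_naturality_assoc, ← Scheme.ΓSpecIso_inv_naturality_assoc,
    Iso.inv_hom_id, Category.comp_id]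

theorem exists_pos_mem_basicOpen (x : Proj 𝒜) :
    ∃ (m : ℕ) (_ : 0 < m) (f : 𝒜 m), x ∈ Proj.basicOpen 𝒜 f.1 := by
  let j := (Proj.affineOpenCover 𝒜).idx x
  have h : x ∈ (Proj.awayι 𝒜 j.2.1 j.2.2 j.1.2).opensRange := (Proj.affineOpenCover 𝒜).covers x
  rw [Proj.opensRange_awayι] at h
  exact ⟨j.1, j.1.2, j.2, h⟩

/-- The structure map `Proj 𝒜 ⟶ Spec 𝒜₀` sends `a` to the constant function `a / 1`. -/
theorem ofun_toSpecZero_appTop (a : 𝒜 0) (x : (⊤ : (Proj 𝒜).Opens)) :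
    ofun 𝒜 ((Proj.toSpecZero 𝒜).appTop.hom
      ((Scheme.ΓSpecIso (CommRingCat.of (𝒜 0))).inv.hom a)) x =
      Localization.mk a.1 ⟨1, one_not_mem x.1⟩ := by
  obtain ⟨m, hm, f, hx⟩ := exists_pos_mem_basicOpen 𝒜 x.1
  have h := toSpecZero_appTop_res 𝒜 f.1 f.2 hm
  have h2 := congrArg (fun φ => φ.hom a) h
  simp only [CommRingCat.hom_comp, RingHom.coe_comp, Function.comp_apply, CommRingCat.hom_ofHom] at h2
  have h3 : ofun 𝒜 ((Proj.toSpecZero 𝒜).appTop.hom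
      ((Scheme.ΓSpecIso (CommRingCat.of (𝒜 0))).inv.hom a)) x =
      ofun 𝒜 (rres (Proj 𝒜) (le_top : Proj.basicOpen 𝒜 f.1 ≤ ⊤) ((Proj.toSpecZero 𝒜).appTop.hom
      ((Scheme.ΓSpecIso (CommRingCat.of (𝒜 0))).inv.hom a))) ⟨x.1, hx⟩ := rfl
  rw [h3]
  change ofun 𝒜 (((Proj 𝒜).presheaf.map (homOfLE (le_top : Proj.basicOpen 𝒜 f.1 ≤ ⊤)).op).hom _) _ = _
  rw [h2]
  rfl

end ToSpecZero

section HH0
variable {X : Scheme.{u}} (M : X.Modules)

/-- `H^0(X, M)` is the group of global sections. -/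
noncomputable def hh0 : Coh.HH X M 0 ≃+ (Γ(M, ⊤) : Type u) :=
  Sheaf.H.equiv₀ (Coh.toAb M) isTerminalTop

theorem hh0_smul (r : Coh.Γtop X) (x : Coh.HH X M 0) :
    hh0 M (r • x) = (show Γ(X, ⊤) from r) • hh0 M x := by
  have h := Sheaf.H.equiv₀_naturality (hT := (isTerminalTop : IsTerminal (⊤ : Opens X)))
    (Coh.smulAb M r) x
  change _ = hh0 M (r • x) at h
  rw [← h, Coh.smulAb_app]
  change (show Γ(X, ⊤) from Coh.resTop X (op ⊤) r) • hh0 M x = _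
  congr 1
  change (X.ringCatSheaf.obj.map (𝟙 _)).hom r = r
  rw [CategoryTheory.Functor.map_id]
  rfl

end HH0

end Groth.Agent.Lib.Helper29.QCoh
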