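import Groth.Agent.Lib.Helper29.PA3
universe u
open CategoryTheory CategoryTheory.Limits AlgebraicGeometry Opposite TopologicalSpace

/-! # Immersions into `P^n_S` over a base with an ample sheaf -/

namespace Groth.Agent.Lib.Helper29.QCoh

section
variable {X S : Scheme.{u}}

/-- `P^n_S` carries an ample sheaf if `S` does. -/
theorem exists_isAmple_projSpaceOver (n : ℕ) {N : S.Modules} (hN : CohB1.IsAmple N) :
    ∃ M : (pullback (CohB1.ProjSpace.toSpec n (ULift.{u} ℤ))
      (specULiftZIsTerminal.from S)).Modules, CohB1.IsAmple M := by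
  obtain ⟨k, -, hk⟩ := exists_isAmple_tensor_pullback_pow
    (pullback.snd (CohB1.ProjSpace.toSpec n (ULift.{u} ℤ)) (specULiftZIsTerminal.from S))
    (isRelAmple_twistOver n S) hN
  exact ⟨_, hk k le_rfl⟩

/-- A scheme with a quasi-compact immersion into `P^n_S`, where `S` has an ample sheaf, has an
ample sheaf. -/
theorem exists_isAmple_of_immersion_projSpaceOver (hS : ∃ N : S.Modules, CohB1.IsAmple N) (n : ℕ)
    (i : X ⟶ pullback (CohB1.ProjSpace.toSpec n (ULift.{u} ℤ)) (specULiftZIsTerminal.from S))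
    [IsImmersion i] [QuasiCompact i] : ∃ L : X.Modules, CohB1.IsAmple L := by
  obtain ⟨N, hN⟩ := hS
  obtain ⟨M, hM⟩ := exists_isAmple_projSpaceOver n hN
  have hcP : CompactSpace ↥(pullback (CohB1.ProjSpace.toSpec n (ULift.{u} ℤ))
      (specULiftZIsTerminal.from S)) := hM.2.1
  have hcX : CompactSpace X := QuasiCompact.compactSpace_of_compactSpace i
  exact ⟨_, isAmple_pullback_of_isEmbedding i i.isEmbedding hM⟩

/-- EGA II 5.3.2-ish: a finite type morphism from a scheme with an ample sheaf factors through an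
immersion into `P^n_S`. -/
theorem exists_immersion_projSpaceOver_of_isAmple (f : X ⟶ S) [LocallyOfFiniteType f]
    {L : X.Modules} (hL : CohB1.IsAmple L) :
    ∃ (n : ℕ) (i : X ⟶ CohB1.ProjSpaceOver n S), IsImmersion i ∧
      i ≫ pullback.snd (CohB1.ProjSpace.toSpec n (ULift.{u} ℤ)) (specULiftZIsTerminal.from S) = f := by
  obtain ⟨k₀, hk₀⟩ := exists_isRelVeryAmplePn_of_isAmple f hL (isInvertible_unit X)
  obtain ⟨n, i, hi, hif, -⟩ := hk₀ k₀ le_rfl
  exact ⟨n, i, hi, hif⟩

end

end Groth.Agent.Lib.Helper29.QCoh
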