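import Groth.Agent.Lib.Helper29.RT1
import Groth.Agent.Lib.Helper29.Sky
import Groth.Agent.Lib.Helper29.QCohDescent
universe u
open CategoryTheory CategoryTheory.Limits AlgebraicGeometry Opposite TopologicalSpace

/-! # Relative ampleness implies that the counit is eventually an epimorphism on twists -/

namespace Groth.Agent.Lib.Helper29.QCoh

section CE
variable {X Y : Scheme.{u}}

instance isFiniteType_restrict (U : X.Opens) (F : X.Modules) [F.IsQuasicoherent] [F.IsFiniteType] :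
    (F.restrict U.ι).IsFiniteType :=
  isFiniteType_of_iso (restrictIsoPullback U.ι F).symm

/-- `(F ⊗ L^n)|_U ≅ F|_U ⊗ (L|_U)^n`. -/
theorem nonempty_restrictTwistIso (U : X.Opens) (F : X.Modules) [F.IsQuasicoherent]
    {L : X.Modules} (hL : PicF.IsInvertible L) (n : ℕ) :
    Nonempty ((CohB1.tensorMod F (CohB1.tensorPow L n)).restrict U.ι ≅
      CohB1.tensorMod (F.restrict U.ι) (CohB1.tensorPow (L.restrict U.ι) n)) := by
  have hq := isQuasicoherent_of_isInvertible hL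
  obtain ⟨θ⟩ := nonempty_restrictTensorPowIso U.ι hL n
  exact ⟨restrictTensorIso U F (CohB1.tensorPow L n) ≪≫ tensorCongr (Iso.refl _) θ⟩

theorem exists_epi_counit_twist_of_isRelAmple [CompactSpace X] (f : X ⟶ Y) {L : X.Modules}
    (hamp : RelAmple.IsRelAmple f L) (F : X.Modules) [F.IsQuasicoherent] [F.IsFiniteType] :
    ∃ N : ℕ, ∀ n, N ≤ n → Epi ((Scheme.Modules.pullbackPushforwardAdjunction f).counit.app
      (CohB1.tensorMod F (CohB1.tensorPow L n))) := by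
  classical
  have hL := isInvertible_of_isRelAmple f hamp
  -- Serre A on each `f⁻¹ V`
  have h1 : ∀ V : Y.affineOpens, ∃ n₀ : ℕ, ∀ n, n₀ ≤ n → Curv2.IsGloballyGenerated
      ((CohB1.tensorMod F (CohB1.tensorPow L n)).restrict (f ⁻¹ᵁ V.1).ι) := by
    intro V
    obtain ⟨n₀, hn₀⟩ := exists_isGloballyGenerated_twist (hamp.2 V) (F.restrict (f ⁻¹ᵁ V.1).ι)
    refine ⟨n₀, fun n hn => ?_⟩
    obtain ⟨θ⟩ := nonempty_restrictTwistIso (f ⁻¹ᵁ V.1) F hL n
    exact isGloballyGenerated_of_iso θ.symm (hn₀ n hn)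
  choose n₀ hn₀ using h1
  -- finite subcover
  have hcov : (Set.univ : Set X) ⊆ ⋃ V : Y.affineOpens, ((f ⁻¹ᵁ V.1 : X.Opens) : Set X) := by
    intro x _
    obtain ⟨W, hW, hxW, -⟩ := exists_isAffineOpen_mem_and_subset (x := f x) (U := ⊤) trivial
    exact Set.mem_iUnion.mpr ⟨⟨W, hW⟩, hxW⟩
  obtain ⟨t, ht⟩ := isCompact_univ.elim_finite_subcover
    (fun V : Y.affineOpens => ((f ⁻¹ᵁ V.1 : X.Opens) : Set X)) (fun V => (f ⁻¹ᵁ V.1).2) hcov
  refine ⟨t.sup n₀, fun n hn => ?_⟩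
  refine epi_counit_of_isGloballyGenerated_restrict f _ fun x => ?_
  obtain ⟨V, hVt, hxV⟩ : ∃ V ∈ t, x ∈ ((f ⁻¹ᵁ V.1 : X.Opens) : Set X) := by
    have := ht (Set.mem_univ x)
    simpa using this
  exact ⟨V.1, hxV, hn₀ V n ((Finset.le_sup hVt).trans hn)⟩

end CE

end Groth.Agent.Lib.Helper29.QCoh
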