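import Groth.Agent.Lib.Helper29.Res1
import Groth.Agent.Lib.Helper29.CE1
universe u
open CategoryTheory CategoryTheory.Limits AlgebraicGeometry TopologicalSpace Opposite

/-! # Tensoring morphisms with an invertible module; relatively ample transfer of the
resolution property -/

namespace Groth.Agent.Lib.Helper29.QCoh.Res
open Groth.Agent.Lib.Helper29.QCoh Groth.Agent.Lib.Helper3 Groth.Agent.Lib.Helper29.QCoh.Dual

variable {X Y : Scheme.{u}}

/-- Functoriality of the tensor product in the first variable. -/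
noncomputable def tensorMapRight {A B : X.Modules} (φ : A ⟶ B) (N : X.Modules) :
    CohB1.tensorMod A N ⟶ CohB1.tensorMod B N :=
  tensorDesc
    { b := fun U a n => tmulSec B N (φ.app U a) n
      add_left := fun U a a' n => by rw [map_add, tmulSec_add_left]
      add_right := fun U a n n' => tmulSec_add_right B N _ n n'
      smul_left := fun U r a n => by
        rw [Scheme.Modules.Hom.app_smul, tmulSec_smul_left]
      smul_right := fun U r a n => tmulSec_smul_right B N r _ n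
      res := fun {U V} h a n => by rw [res_tmulSec, app_res] }

theorem tensorMapRight_tmulSec {A B : X.Modules} (φ : A ⟶ B) (N : X.Modules) (U : X.Opens)
    (a : Γ(A, U)) (n : Γ(N, U)) :
    (tensorMapRight φ N).app U (tmulSec A N a n) = tmulSec B N (φ.app U a) n :=
  tensorDesc_tmulSec _ U a n

theorem epi_tensorMapRight {A B : X.Modules} [B.IsQuasicoherent] (φ : A ⟶ B) [Epi φ]
    {N : X.Modules} (hN : PicF.IsInvertible N) : Epi (tensorMapRight φ N) := by
  have := isQuasicoherent_of_isInvertible hN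
  rw [epi_iff_stalkMap_surjective]
  intro x t
  obtain ⟨W, hxW, τ, rfl⟩ := (CohB1.tensorMod B N).presheaf.exists_germ_eq t
  obtain ⟨U, e, hU, hxU, hUW, hT⟩ := exists_affine_isTriv hN x hxW
  obtain ⟨b, hb'⟩ := (tmulSec_bijective_of_isTriv B hU hT).2 (QCoh.res _ hUW τ)
  have hb : tmulSec B N b e = QCoh.res _ hUW τ := hb'
  obtain ⟨g, hxg, a, ha⟩ := exists_local_lift φ hU b x hxU
  refine ⟨(CohB1.tensorMod A N).presheaf.germ (X.basicOpen g) x hxg
    (tmulSec A N a (QCoh.res N (X.basicOpen_le g) e)), ?_⟩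
  rw [stalkMap_germ, tensorMapRight_tmulSec, ha, ← res_tmulSec]
  rw [hb, res_res, germ_res]

/-- The tensor product of a finite locally free module with an invertible module is finite
locally free. -/
theorem isFinLocFree_tensor_invertible {A N : X.Modules} (hA : FlatMod.IsFinLocFree A)
    (hN : PicF.IsInvertible N) : FlatMod.IsFinLocFree (CohB1.tensorMod A N) := by
  have := isQuasicoherent_of_isInvertible hN
  have := isQuasicoherent_of_isFinLocFree hA
  intro x
  have hA' := (isFinLocFree_iff_isFreeAlong A).mp hA x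
  have hN' := (isFinLocFreeOfRank_iff_isFreeAlong 1 N).mp
    ((isInvertible_iff_isFinLocFreeOfRank_one N).mp hN) x
  obtain ⟨U₁, n, hx₁, h₁⟩ := hA'
  obtain ⟨U₂, hx₂, h₂⟩ := hN'
  let U : X.Opens := U₁ ⊓ U₂
  obtain ⟨e₁⟩ := (isFreeAlong_iff_restrict A U.ι n).mp (h₁.of_range_subset U.ι (by
    rw [Scheme.Opens.range_ι, Scheme.Opens.range_ι]
    exact inf_le_left))
  obtain ⟨e₂⟩ := (isFreeAlong_iff_restrict N U.ι 1).mp (h₂.of_range_subset U.ι (by
    rw [Scheme.Opens.range_ι, Scheme.Opens.range_ι]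
    exact inf_le_right))
  exact ⟨U, n, ⟨hx₁, hx₂⟩, ⟨restrictTensorIso U A N ≪≫
    tensorCongr e₁ (e₂ ≪≫ freeModOneIso _) ≪≫ tensorUnitR _⟩⟩

/-- Finitely many global sections generate a globally generated quasi-coherent module of finite
type on a quasi-compact scheme. -/
theorem exists_fin_sections_of_isGloballyGenerated [CompactSpace X] (F : X.Modules)
    [F.IsQuasicoherent] [F.IsFiniteType] (h : Curv2.IsGloballyGenerated F) :
    ∃ (k : ℕ) (σ : Fin k → Γ(F, ⊤)), ∀ y : X, Submodule.span (X.presheaf.stalk y)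
      (Set.range fun a => F.presheaf.germ ⊤ y trivial (σ a)) = ⊤ := by
  classical
  obtain ⟨ι, p, hp⟩ := h
  let σ : ι → Γ(F, ⊤) := fun i => sval (ιFreeM X i ≫ p) ⊤
  have hσ : ∀ y : X, Submodule.span (X.presheaf.stalk y)
      (Set.range fun i => F.presheaf.germ ⊤ y trivial (σ i)) = ⊤ :=
    fun y => @span_germ_eq_top_of_epi X F ι p hp y
  obtain ⟨𝒰, h𝒰⟩ := isCompact_univ.elim_finite_subcover
    (fun U : X.affineOpens => ((U.1 : X.Opens) : Set X)) (fun U => U.1.isOpen)
    (fun x _ => by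
      obtain ⟨V, hV, hx, -⟩ := exists_isAffineOpen_mem_and_subset (x := x) (U := ⊤) trivial
      exact Set.mem_iUnion.mpr ⟨⟨V, hV⟩, hx⟩)
  choose S hS using fun U : X.affineOpens => exists_finset_span_germ_eq_top F σ hσ U.2
  let S₀ : Finset ι := 𝒰.biUnion S
  refine ⟨S₀.card, fun a => σ (S₀.equivFin.symm a).1, fun y => ?_⟩
  have hy := h𝒰 (Set.mem_univ y)
  simp only [Set.mem_iUnion, exists_prop] at hy
  obtain ⟨U, hU𝒰, hyU⟩ := hy
  rw [eq_top_iff, ← hS U y hyU]
  apply Submodule.span_mono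
  rintro _ ⟨i, rfl⟩
  have hi : i.1 ∈ S₀ := Finset.mem_biUnion.mpr ⟨U, hU𝒰, i.2⟩
  refine ⟨S₀.equivFin ⟨i.1, hi⟩, ?_⟩
  simp only [Equiv.symm_apply_apply]

/-- **The resolution property ascends along morphisms carrying a relatively ample invertible
module.** -/
theorem hasResolutionProperty_of_isRelAmple [CompactSpace Y] [QuasiSeparatedSpace Y]
    (f : X ⟶ Y) (hY : PerfAux.HasResolutionProperty Y) {L : X.Modules}
    (hL : RelAmple.IsRelAmple f L) : PerfAux.HasResolutionProperty X := by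
  classical
  intro M hM hM'
  have : M.IsQuasicoherent := hM
  have : M.IsFiniteType := hM'
  have hqc : QuasiCompact f := hL.1
  have hsep : IsSeparated f := isSeparated_of_isRelAmple f hL
  have : CompactSpace X := QuasiCompact.compactSpace_of_compactSpace f
  have hLinv := isInvertible_of_isRelAmple f hL
  have hLq := isQuasicoherent_of_isInvertible hLinv
  -- Serre A on each `f⁻¹ V`
  have h1 : ∀ V : Y.affineOpens, ∃ n₀ : ℕ, ∀ n, n₀ ≤ n → Curv2.IsGloballyGenerated
      ((CohB1.tensorMod M (CohB1.tensorPow L n)).restrict (f ⁻¹ᵁ V.1).ι) := by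
    intro V
    obtain ⟨n₀, hn₀⟩ := exists_isGloballyGenerated_twist (hL.2 V) (M.restrict (f ⁻¹ᵁ V.1).ι)
    refine ⟨n₀, fun n hn => ?_⟩
    obtain ⟨θ⟩ := nonempty_restrictTwistIso (f ⁻¹ᵁ V.1) M hLinv n
    exact isGloballyGenerated_of_iso θ.symm (hn₀ n hn)
  choose n₀ hn₀ using h1
  obtain ⟨t, ht⟩ := isCompact_univ.elim_finite_subcover
    (fun V : Y.affineOpens => ((V.1 : Y.Opens) : Set Y)) (fun V => V.1.2)
    (fun y _ => by
      obtain ⟨W, hW, hyW, -⟩ := exists_isAffineOpen_mem_and_subset (x := y) (U := ⊤) trivial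
      exact Set.mem_iUnion.mpr ⟨⟨W, hW⟩, hyW⟩)
  let n := t.sup n₀
  let M' := CohB1.tensorMod M (CohB1.tensorPow L n)
  have hLnft : (CohB1.tensorPow L n).IsFiniteType :=
    isFiniteType_of_isInvertible (isInvertible_tensorPow hLinv n)
  have hM'q : M'.IsQuasicoherent := isQuasicoherent_tensorMod _ _
  have hM'ft : M'.IsFiniteType := isFiniteType_tensorMod _ _
  have := isQuasicoherent_pushforward_of_qcqs f M'
  have hgen : ∀ x : X, ∃ (V : Y.Opens) (_ : IsAffineOpen V) (_ : x ∈ f ⁻¹ᵁ V) (r : ℕ)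
      (σ : Fin r → Γ(M', f ⁻¹ᵁ V)), ∀ (x' : X) (hx' : x' ∈ f ⁻¹ᵁ V),
        Submodule.span (X.presheaf.stalk x')
          (Set.range fun a => M'.presheaf.germ (f ⁻¹ᵁ V) x' hx' (σ a)) = ⊤ := by
    intro x
    obtain ⟨V, hVt, hxV⟩ : ∃ V ∈ t, f x ∈ ((V.1 : Y.Opens) : Set Y) := by
      have := ht (Set.mem_univ (f x))
      simpa using this
    have hgg := hn₀ V n (Finset.le_sup hVt)
    have hcs : CompactSpace ((f ⁻¹ᵁ V.1 : X.Opens) : Scheme.{u}) :=
      isCompact_iff_compactSpace.mp (QuasiCompact.isCompact_preimage (f := f) _ V.1.2 V.2.isCompact)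
    obtain ⟨k, σ, hσ⟩ := exists_fin_sections_of_isGloballyGenerated
      (M'.restrict (f ⁻¹ᵁ V.1).ι) hgg
    have hle : f ⁻¹ᵁ V.1 ≤ (f ⁻¹ᵁ V.1).ι ''ᵁ ⊤ := by
      rw [Scheme.Opens.ι_image_top]
    refine ⟨V.1, V.2, hxV, k, fun a => QCoh.res M' hle (σ a), fun x' hx' => ?_⟩
    have h2 : Submodule.span (X.presheaf.stalk x')
        (Set.range fun a : Fin k =>
          M'.presheaf.germ ((f ⁻¹ᵁ V.1).ι ''ᵁ ⊤) x' ⟨⟨x', hx'⟩, trivial, rfl⟩ (σ a)) = ⊤ :=
      (span_germ_restrict_eq_top_iff (f ⁻¹ᵁ V.1).ι M' ⟨x', hx'⟩ ⊤ trivial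
        (I := Fin k) σ).mp (hσ ⟨x', hx'⟩)
    rw [eq_top_iff] at h2 ⊢
    refine h2.trans (Submodule.span_le.mpr ?_)
    rintro _ ⟨a, rfl⟩
    refine Submodule.subset_span ⟨a, ?_⟩
    exact germ_res M' hle x' hx' (σ a)
  obtain ⟨E, π, hE, hπ⟩ := exists_epi_pullback_of_hasResolutionProperty f hY M' hgen
  let N := RefHull.homSh (CohB1.tensorPow L n) (unitM X)
  have hLn := isInvertible_tensorPow hLinv n
  have hN : PicF.IsInvertible N := isInvertible_dual hLn
  have := epi_tensorMapRight π hN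
  let ε : CohB1.tensorMod M' N ≅ M :=
    tensorAssoc M (CohB1.tensorPow L n) N ≪≫
      tensorCongr (Iso.refl M) (tensorBraid _ _ ≪≫ dualTensorIso hLn) ≪≫ tensorUnitR M
  exact ⟨_, tensorMapRight π N ≫ ε.hom,
    isFinLocFree_tensor_invertible (isFinLocFree_pullback f hE) hN, epi_comp _ _⟩

end Groth.Agent.Lib.Helper29.QCoh.Res
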