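import Groth.Agent.Lib.Helper29.PA4
import Groth.Agent.Lib.Helper29.TensorDesc
import Groth.Agent.Lib.Helper29.TensorLocAlg
import Groth.Agent.Lib.Helper29.IsoCover
universe u
open CategoryTheory CategoryTheory.Limits AlgebraicGeometry Opposite TopologicalSpace
open scoped TensorProduct

/-! # Restriction to an open subscheme commutes with tensor products (quasi-coherent case) -/

namespace Groth.Agent.Lib.Helper29.QCoh

section RT
variable {X : Scheme.{u}} (U : X.Opens) (A B : X.Modules)

/-- The pairing `A|_U × B|_U → (A ⊗ B)|_U`. -/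
noncomputable def restrictPairing :
    Pairing (A.restrict U.ι) (B.restrict U.ι) ((CohB1.tensorMod A B).restrict U.ι) where
  b V m n := tmulSec A B (U := U.ι ''ᵁ V) m n
  add_left V m m' n := tmulSec_add_left A B (U := U.ι ''ᵁ V) m m' n
  add_right V m n n' := tmulSec_add_right A B (U := U.ι ''ᵁ V) m n n'
  smul_left V r m n := by
    rw [restrict_smul, restrict_smul]
    exact tmulSec_smul_left A B (U := U.ι ''ᵁ V) _ m n
  smul_right V r m n := by
    rw [restrict_smul, restrict_smul]
    exact tmulSec_smul_right A B (U := U.ι ''ᵁ V) _ m n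
  res {V V'} h m n := (res_tmulSec A B (U.ι.image_mono h) m n)

/-- The comparison morphism `A|_U ⊗ B|_U ⟶ (A ⊗ B)|_U`. -/
noncomputable def restrictTensorHom :
    CohB1.tensorMod (A.restrict U.ι) (B.restrict U.ι) ⟶ (CohB1.tensorMod A B).restrict U.ι :=
  tensorDesc (restrictPairing U A B)

theorem restrictTensorHom_tmulSec (V : U.toScheme.Opens) (m : Γ(A, U.ι ''ᵁ V))
    (n : Γ(B, U.ι ''ᵁ V)) :
    (restrictTensorHom U A B).app V
      (tmulSec (A.restrict U.ι) (B.restrict U.ι) (U := V) m n) =
      tmulSec A B (U := U.ι ''ᵁ V) m n :=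
  tensorDesc_tmulSec (restrictPairing U A B) V m n


variable [A.IsQuasicoherent] [B.IsQuasicoherent]

theorem restrictTensorHom_app_bijective (V : U.toScheme.Opens) (hV : IsAffineOpen V) :
    Function.Bijective ((restrictTensorHom U A B).app V) := by
  have hV' : IsAffineOpen (U.ι ''ᵁ V) := hV.image_of_isOpenImmersion U.ι
  let γ : Γ(U.toScheme, V) ≃+* Γ(X, U.ι ''ᵁ V) :=
    (U.ι.appIso V).symm.commRingCatIsoToRingEquiv
  let e₁ : Γ(A.restrict U.ι, V) ≃+ Γ(A, U.ι ''ᵁ V) := AddEquiv.refl _
  let e₂ : Γ(B.restrict U.ι, V) ≃+ Γ(B, U.ι ''ᵁ V) := AddEquiv.refl _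
  have h₁ : ∀ (b : Γ(U.toScheme, V)) (x : Γ(A.restrict U.ι, V)), e₁ (b • x) = γ b • e₁ x :=
    fun b x => restrict_smul U.ι A V b x
  have h₂ : ∀ (b : Γ(U.toScheme, V)) (x : Γ(B.restrict U.ι, V)), e₂ (b • x) = γ b • e₂ x :=
    fun b x => restrict_smul U.ι B V b x
  let e := semiTensorEquiv γ e₁ e₂ h₁ h₂
  have key : ∀ t, (restrictTensorHom U A B).app V
      (tensorSectionsEquiv (A.restrict U.ι) (B.restrict U.ι) hV t) =
        tensorSectionsEquiv A B hV' (e t) := by
    intro t
    induction t with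
    | zero => simp; rfl
    | tmul x y =>
      rw [tensorSectionsEquiv_tmul, semiTensorEquiv_tmul, tensorSectionsEquiv_tmul]
      exact restrictTensorHom_tmulSec U A B V x y
    | add a c ha hc => rw [map_add, map_add, ha, hc, map_add, map_add]; rfl
  have hcomp : (⇑((restrictTensorHom U A B).app V) :
      Γ(CohB1.tensorMod (A.restrict U.ι) (B.restrict U.ι), V) →
        Γ(CohB1.tensorMod A B, U.ι ''ᵁ V)) =
      (fun t => tensorSectionsEquiv A B hV' (e t)) ∘
        (tensorSectionsEquiv (A.restrict U.ι) (B.restrict U.ι) hV).symm := by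
    funext w
    simp only [Function.comp_apply]
    rw [← key, LinearEquiv.apply_symm_apply]
  change Function.Bijective (⇑((restrictTensorHom U A B).app V) :
      Γ(CohB1.tensorMod (A.restrict U.ι) (B.restrict U.ι), V) →
        Γ(CohB1.tensorMod A B, U.ι ''ᵁ V))
  rw [hcomp]
  exact ((tensorSectionsEquiv A B hV').bijective.comp e.bijective).comp
    (tensorSectionsEquiv (A.restrict U.ι) (B.restrict U.ι) hV).symm.bijective

instance isIso_restrictTensorHom : IsIso (restrictTensorHom U A B) :=
  isIso_of_app_bijective_of_affine_cover (restrictTensorHom U A B)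
    (fun V : U.toScheme.affineOpens => (V : U.toScheme.Opens)) (fun V => V.2)
    (fun x => by
      obtain ⟨W, hW, hxW, -⟩ := exists_isAffineOpen_mem_and_subset (x := x) (U := ⊤) trivial
      exact ⟨⟨W, hW⟩, hxW⟩)
    (fun V => restrictTensorHom_app_bijective U A B V V.2)

/-- `(A ⊗ B)|_U ≅ A|_U ⊗ B|_U` for quasi-coherent `A`, `B`. -/
noncomputable def restrictTensorIso :
    (CohB1.tensorMod A B).restrict U.ι ≅ CohB1.tensorMod (A.restrict U.ι) (B.restrict U.ι) :=
  (asIso (restrictTensorHom U A B)).symm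

end RT

end Groth.Agent.Lib.Helper29.QCoh
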