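import Groth.Agent.Lib.Helper29.VA6
import Groth.Prelude.Def_RelProj
universe u
open CategoryTheory CategoryTheory.Limits AlgebraicGeometry Opposite TopologicalSpace

/-! # Properness of projective space, H-quasi-projective morphisms -/

namespace Groth.Agent.Lib.Helper29.QCoh

section Proper

theorem algebraMap_gradeZero_surjective (n : ℕ) (R : Type u) [CommRing R] :
    Function.Surjective (algebraMap R (CohB1.polyGrading n R 0)) := by
  rintro ⟨x, hx⟩
  have hx' : x.IsHomogeneous 0 := hx
  rw [← MvPolynomial.totalDegree_zero_iff_isHomogeneous, MvPolynomial.totalDegree_eq_zero_iff_eq_C] at hx'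
  refine ⟨MvPolynomial.coeff 0 x, ?_⟩
  apply Subtype.ext
  change algebraMap R (MvPolynomial (Fin (n + 1)) R) _ = x
  rw [MvPolynomial.algebraMap_eq]
  exact hx'.symm

instance (n : ℕ) (R : Type u) [CommRing R] :
    IsScalarTower R (CohB1.polyGrading n R 0) (MvPolynomial (Fin (n + 1)) R) :=
  IsScalarTower.of_algebraMap_eq (R := R) (S := CohB1.polyGrading n R 0)
    (A := MvPolynomial (Fin (n + 1)) R) (fun x => by rfl)

instance (n : ℕ) (R : Type u) [CommRing R] :
    Algebra.FiniteType (CohB1.polyGrading n R 0) (MvPolynomial (Fin (n + 1)) R) :=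
  Algebra.FiniteType.of_restrictScalars_finiteType R _ _

instance isProper_toSpec (n : ℕ) (R : Type u) [CommRing R] : IsProper (CohB1.ProjSpace.toSpec n R) := by
  unfold CohB1.ProjSpace.toSpec
  have h1 : IsProper (Proj.toSpecZero (CohB1.polyGrading n R)) := inferInstance
  have h2 : IsClosedImmersion (Spec.map (CommRingCat.ofHom (algebraMap R (CohB1.polyGrading n R 0)))) :=
    IsClosedImmersion.spec_of_surjective _ (algebraMap_gradeZero_surjective n R)
  have h2' : IsProper (Spec.map (CommRingCat.ofHom (algebraMap R (CohB1.polyGrading n R 0)))) :=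
    inferInstance
  exact MorphismProperty.comp_mem (W := @IsProper) _ _ h1 h2'

instance isProper_toBase (n : ℕ) (S : Scheme.{u}) : IsProper (CohB1.ProjSpaceOver.toBase n S) := by
  have := isProper_toSpec n (ULift.{u} ℤ)
  change IsProper (pullback.snd (CohB1.ProjSpace.toSpec n (ULift.{u, 0} ℤ))
    (specULiftZIsTerminal.from S))
  infer_instance

instance isProper_snd_projSpaceOver (n : ℕ) (S : Scheme.{u}) :
    IsProper (pullback.snd (CohB1.ProjSpace.toSpec n (ULift.{u, 0} ℤ))
      (specULiftZIsTerminal.from S)) := isProper_toBase n S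

end Proper

section HQP
variable {X S X' S' : Scheme.{u}}

theorem isHQuasiProjective_of_arrow_iso (g : X ⟶ S) (g' : X' ⟶ S')
    (e : Arrow.mk g ≅ Arrow.mk g') (h : RelProj.IsHQuasiProjective g) :
    RelProj.IsHQuasiProjective g' := by
  obtain ⟨n, i, hi, hqc, hig⟩ := h
  obtain ⟨a, ha⟩ : ∃ a : X ⟶ X', a = e.hom.left := ⟨_, rfl⟩
  obtain ⟨b, hb⟩ : ∃ b : S ⟶ S', b = e.hom.right := ⟨_, rfl⟩
  have hw : a ≫ g' = g ≫ b := by rw [ha, hb]; exact e.hom.w
  haveI : IsIso a := by rw [ha]; infer_instance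
  haveI : IsIso b := by rw [hb]; infer_instance
  let pb : CohB1.ProjSpaceOver n S ⟶ CohB1.ProjSpaceOver n S' :=
    pullback.map _ _ _ _ (𝟙 _) b (𝟙 _) (by simp) (specULiftZIsTerminal.hom_ext _ _)
  haveI : IsIso pb := pullback.map_isIso _ _ _ _ _ _ _ _ _
  have hpb : pb ≫ CohB1.ProjSpaceOver.toBase n S' = CohB1.ProjSpaceOver.toBase n S ≫ b :=
    pullback.lift_snd _ _ _
  refine ⟨n, inv a ≫ i ≫ pb, inferInstance, inferInstance, ?_⟩
  rw [Category.assoc, Category.assoc, hpb, ← Category.assoc i, hig, ← hw, IsIso.inv_hom_id_assoc]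

end HQP

end Groth.Agent.Lib.Helper29.QCoh
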