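import Groth.Agent.Lib.Helper29.GenLocus
import Groth.Agent.Lib.Helper17.Tensor
import Groth.Prelude.Def_PicGrp
universe u
open CategoryTheory CategoryTheory.Limits AlgebraicGeometry TopologicalSpace Opposite
open scoped TensorProduct

namespace Groth.Agent.Lib.Helper29.QCoh
variable {X : Scheme.{u}}

/-- Associativity of the tensor product of `O_X`-modules (some isomorphism). -/
noncomputable def tensorAssoc (A B C : X.Modules) :
    CohB1.tensorMod (CohB1.tensorMod A B) C ≅ CohB1.tensorMod A (CohB1.tensorMod B C) :=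
  Groth.Agent.Lib.Helper17.Tensor.assocIso (O := X.sheaf) A B C

noncomputable def tensorBraid (A B : X.Modules) :
    CohB1.tensorMod A B ≅ CohB1.tensorMod B A :=
  Groth.Agent.Lib.Helper17.Tensor.braidIso (O := X.sheaf) A B

noncomputable def tensorUnitR (A : X.Modules) : CohB1.tensorMod A (unitM X) ≅ A :=
  SecTwist.unitorR A

noncomputable def tensorUnitL (A : X.Modules) : CohB1.tensorMod (unitM X) A ≅ A :=
  tensorBraid _ _ ≪≫ tensorUnitR A

noncomputable def tensorCongr {A A' B B' : X.Modules} (e : A ≅ A') (f : B ≅ B') :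
    CohB1.tensorMod A B ≅ CohB1.tensorMod A' B' := PicGrp.tensorModIso e f

/-- `(A ⊗ B) ⊗ (C ⊗ D) ≅ (A ⊗ C) ⊗ (B ⊗ D)`. -/
noncomputable def tensorInterchange (A B C D : X.Modules) :
    CohB1.tensorMod (CohB1.tensorMod A B) (CohB1.tensorMod C D) ≅
      CohB1.tensorMod (CohB1.tensorMod A C) (CohB1.tensorMod B D) :=
  tensorAssoc A B (CohB1.tensorMod C D) ≪≫
    tensorCongr (Iso.refl A) ((tensorAssoc B C D).symm ≪≫
      tensorCongr (tensorBraid B C) (Iso.refl D) ≪≫ tensorAssoc C B D) ≪≫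
    (tensorAssoc A C (CohB1.tensorMod B D)).symm

noncomputable def tensorPowCongr {L L' : X.Modules} (e : L ≅ L') :
    (n : ℕ) → (CohB1.tensorPow L n ≅ CohB1.tensorPow L' n)
  | 0 => Iso.refl _
  | n + 1 => tensorCongr (tensorPowCongr e n) e

noncomputable def tensorPowAdd (L : X.Modules) (a : ℕ) :
    (b : ℕ) → (CohB1.tensorMod (CohB1.tensorPow L a) (CohB1.tensorPow L b) ≅
      CohB1.tensorPow L (a + b))
  | 0 => tensorUnitR _
  | b + 1 => (tensorAssoc _ _ _).symm ≪≫ tensorCongr (tensorPowAdd L a b) (Iso.refl L)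

noncomputable def tensorPowMul (L : X.Modules) (a : ℕ) :
    (b : ℕ) → (CohB1.tensorPow (CohB1.tensorPow L a) b ≅ CohB1.tensorPow L (a * b))
  | 0 => Iso.refl _
  | b + 1 => tensorCongr (tensorPowMul L a b) (Iso.refl _) ≪≫ tensorPowAdd L (a * b) a

noncomputable def tensorPowTensor (L L' : X.Modules) :
    (n : ℕ) → (CohB1.tensorPow (CohB1.tensorMod L L') n ≅
      CohB1.tensorMod (CohB1.tensorPow L n) (CohB1.tensorPow L' n))
  | 0 => (tensorUnitR _).symm
  | n + 1 => tensorCongr (tensorPowTensor L L' n) (Iso.refl _) ≪≫ tensorInterchange _ _ _ _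

noncomputable def tensorPowOne (L : X.Modules) : CohB1.tensorPow L 1 ≅ L := tensorUnitL L

end Groth.Agent.Lib.Helper29.QCoh
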