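import Groth.Prelude.Def_Twist2
import Groth.Agent.Lib.Helper29.Cocycle
universe u
open CategoryTheory CategoryTheory.Limits AlgebraicGeometry Opposite TopologicalSpace

namespace Groth.Agent.Lib.Helper29.QCoh

section TwistCore
variable {R A : Type u} [CommRing R] [CommRing A] [Algebra R A] (𝒜 : ℕ → Submodule R A) [GradedAlgebra 𝒜]

/-- view a section of the twist as a dependent function into the localizations -/
def tfun {n : ℤ} {U : (Proj 𝒜).Opens} (σ : Γ(Twist.twist 𝒜 n, U)) :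
    ∀ x : U, Twist.Loc 𝒜 x.1 := fun x => ((show Twist.sectN (𝒜 := 𝒜) n (op U) from σ).1 x).1

/-- view a section of the structure sheaf as a dependent function into the localizations -/
def ofun {U : (Proj 𝒜).Opens} (r : Γ(Proj 𝒜, U)) :
    ∀ x : U, Twist.Loc 𝒜 x.1 := fun x => ((show Twist.O (𝒜 := 𝒜) (op U) from r).1 x).val

theorem tfun_smul {n : ℤ} {U : (Proj 𝒜).Opens} (r : Γ(Proj 𝒜, U)) (σ : Γ(Twist.twist 𝒜 n, U)) (x : U) :
    tfun 𝒜 (r • σ) x = ofun 𝒜 r x * tfun 𝒜 σ x :=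
  Twist.coe_smul_val n x.1 _ _

theorem tfun_res {n : ℤ} {U V : (Proj 𝒜).Opens} (h : V ≤ U) (σ : Γ(Twist.twist 𝒜 n, U)) (x : V) :
    tfun 𝒜 (res (Twist.twist 𝒜 n) h σ) x = tfun 𝒜 σ ⟨x.1, h x.2⟩ := rfl

theorem ofun_res {U V : (Proj 𝒜).Opens} (h : V ≤ U) (r : Γ(Proj 𝒜, U)) (x : V) :
    ofun 𝒜 (rres (Proj 𝒜) h r) x = ofun 𝒜 r ⟨x.1, h x.2⟩ := rfl

theorem tfun_add {n : ℤ} {U : (Proj 𝒜).Opens} (σ τ : Γ(Twist.twist 𝒜 n, U)) (x : U) :
    tfun 𝒜 (σ + τ) x = tfun 𝒜 σ x + tfun 𝒜 τ x := rfl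

theorem ofun_mul {U : (Proj 𝒜).Opens} (r s : Γ(Proj 𝒜, U)) (x : U) :
    ofun 𝒜 (r * s) x = ofun 𝒜 r x * ofun 𝒜 s x :=
  HomogeneousLocalization.val_mul _ _

theorem ofun_one {U : (Proj 𝒜).Opens} (x : U) :
    ofun 𝒜 (1 : Γ(Proj 𝒜, U)) x = 1 :=
  HomogeneousLocalization.val_one

theorem tfun_ext {n : ℤ} {U : (Proj 𝒜).Opens} (σ τ : Γ(Twist.twist 𝒜 n, U))
    (h : ∀ x, tfun 𝒜 σ x = tfun 𝒜 τ x) : σ = τ := by
  apply Subtype.ext
  funext x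
  exact Subtype.ext (h x)

theorem ofun_ext {U : (Proj 𝒜).Opens} (r s : Γ(Proj 𝒜, U))
    (h : ∀ x, ofun 𝒜 r x = ofun 𝒜 s x) : r = s := by
  apply Subtype.ext
  funext x
  exact HomogeneousLocalization.val_injective _ (h x)

/-- The section `a / s` of `O(n)` over an open where `s` does not vanish. -/
def mkSec (n : ℤ) (U : (Proj 𝒜).Opens) {i j : ℕ} (a : 𝒜 i) (s : 𝒜 j)
    (hs : ∀ x : U, s.1 ∉ x.1.asHomogeneousIdeal) (hdeg : (i : ℤ) = j + n) :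
    Γ(Twist.twist 𝒜 n, U) :=
  (⟨fun x => ⟨Localization.mk a.1 ⟨s.1, hs x⟩,
      Submodule.subset_span ⟨i, j, a, s, hs x, hdeg, rfl⟩⟩,
    fun x => ⟨U, x.2, 𝟙 _, i, j, a, s, hs, Or.inl hdeg, fun _ => rfl⟩⟩ :
    Twist.sectN (𝒜 := 𝒜) n (op U))

theorem tfun_mkSec (n : ℤ) (U : (Proj 𝒜).Opens) {i j : ℕ} (a : 𝒜 i) (s : 𝒜 j)
    (hs : ∀ x : U, s.1 ∉ x.1.asHomogeneousIdeal) (hdeg : (i : ℤ) = j + n) (x : U) :
    tfun 𝒜 (mkSec 𝒜 n U a s hs hdeg) x = Localization.mk a.1 ⟨s.1, hs x⟩ := rfl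

/-- The section `a / s` of the structure sheaf over an open where `s` does not vanish. -/
def mkO (U : (Proj 𝒜).Opens) {i : ℕ} (a s : 𝒜 i)
    (hs : ∀ x : U, s.1 ∉ x.1.asHomogeneousIdeal) : Γ(Proj 𝒜, U) :=
  (⟨fun x => HomogeneousLocalization.mk ⟨i, a, s, hs x⟩,
    fun x => ⟨U, x.2, 𝟙 _, i, a, s, hs, fun _ => rfl⟩⟩ : Twist.O (𝒜 := 𝒜) (op U))

theorem ofun_mkO (U : (Proj 𝒜).Opens) {i : ℕ} (a s : 𝒜 i)
    (hs : ∀ x : U, s.1 ∉ x.1.asHomogeneousIdeal) (x : U) :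
    ofun 𝒜 (mkO 𝒜 U a s hs) x = Localization.mk a.1 ⟨s.1, hs x⟩ := rfl

section Pointwise
variable {𝒜}
open HomogeneousLocalization

/-- Elements `q` of the localization with `q * u` a degree-zero fraction. -/
def fracSub (x : ProjectiveSpectrum 𝒜) (u : Twist.Loc 𝒜 x) :
    Submodule (Twist.A0 𝒜 x) (Twist.Loc 𝒜 x) where
  carrier := {q | ∃ c : Twist.A0 𝒜 x, c.val = q * u}
  zero_mem' := ⟨0, by rw [val_zero, zero_mul]⟩
  add_mem' := by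
    rintro q q' ⟨c, hc⟩ ⟨c', hc'⟩
    exact ⟨c + c', by rw [val_add, hc, hc', add_mul]⟩
  smul_mem' := by
    rintro b q ⟨c, hc⟩
    exact ⟨b * c, by rw [val_mul, hc, Algebra.smul_def, HomogeneousLocalization.algebraMap_apply,
      mul_assoc]⟩

theorem twistAt_le_fracSub (n : ℤ) (x : ProjectiveSpectrum 𝒜) {i j : ℕ} (a : 𝒜 i) (s : 𝒜 j)
    (ha : a.1 ∉ x.asHomogeneousIdeal) (hdeg : (i : ℤ) = j + n) :
    Twist.twistAt 𝒜 n x ≤ fracSub x (Localization.mk s.1 ⟨a.1, ha⟩) := by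
  refine Submodule.span_le.mpr ?_
  rintro q ⟨i', j', a', s', hs', hd', rfl⟩
  have hdegs : i' + j = j' + i := by omega
  have hden : s'.1 * a.1 ∉ x.asHomogeneousIdeal := fun h =>
    (x.isPrime.mem_or_mem h).elim hs' ha
  refine ⟨HomogeneousLocalization.mk ⟨j' + i, ⟨a'.1 * s.1, ?_⟩,
    ⟨s'.1 * a.1, SetLike.mul_mem_graded s'.2 a.2⟩, hden⟩, ?_⟩
  · rw [← hdegs]; exact SetLike.mul_mem_graded a'.2 s.2
  · rw [val_mk, Localization.mk_mul]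
    rfl

end Pointwise

theorem isUnit_mk_of_not_mem {x : ProjectiveSpectrum 𝒜} {a s : A}
    (ha : a ∉ x.asHomogeneousIdeal) (hs : s ∉ x.asHomogeneousIdeal) :
    (Localization.mk a ⟨s, hs⟩ : Twist.Loc 𝒜 x) * Localization.mk s ⟨a, ha⟩ = 1 := by
  rw [Localization.mk_mul, mul_comm a s]
  exact Localization.mk_self (⟨s, hs⟩ * ⟨a, ha⟩ : x.asHomogeneousIdeal.toIdeal.primeCompl)

/-- A fraction `a / s` with `a` and `s` both nonvanishing on `U` trivialises `O(n)` over `U`. -/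
theorem isTriv_mkSec (n : ℤ) (U : (Proj 𝒜).Opens) {i j : ℕ} (a : 𝒜 i) (s : 𝒜 j)
    (ha : ∀ x : U, a.1 ∉ x.1.asHomogeneousIdeal)
    (hs : ∀ x : U, s.1 ∉ x.1.asHomogeneousIdeal) (hdeg : (i : ℤ) = j + n) :
    IsTriv (Twist.twist 𝒜 n) U (mkSec 𝒜 n U a s hs hdeg) := by
  intro W hW
  constructor
  · intro r r' h
    apply ofun_ext
    intro x
    have h1 := congrArg (fun σ => tfun 𝒜 σ x) h
    simp only [tfun_smul, tfun_res, tfun_mkSec] at h1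
    have hu := isUnit_mk_of_not_mem 𝒜 (ha ⟨x.1, hW x.2⟩) (hs ⟨x.1, hW x.2⟩)
    have h2 := congrArg (fun z => z * Localization.mk s.1 ⟨a.1, ha ⟨x.1, hW x.2⟩⟩) h1
    simp only [mul_assoc, hu, mul_one] at h2
    exact h2
  · intro t
    have hpt : ∀ x : W, ∃ c : Twist.A0 𝒜 x.1,
        c.val = tfun 𝒜 t x * Localization.mk s.1 ⟨a.1, ha ⟨x.1, hW x.2⟩⟩ := fun x =>
      twistAt_le_fracSub n x.1 a s (ha ⟨x.1, hW x.2⟩) hdeg
        ((show Twist.sectN (𝒜 := 𝒜) n (op W) from t).1 x).2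
    choose r₀ hr₀ using hpt
    have hloc : (ProjectiveSpectrum.StructureSheaf.isLocallyFraction 𝒜).pred r₀ := by
      intro x
      obtain ⟨V, hxV, iV, i', j', a', s', nin, hcase, hw⟩ :=
        (show Twist.sectN (𝒜 := 𝒜) n (op W) from t).2 x
      have hden : ∀ y : V, s'.1 * a.1 ∉ y.1.asHomogeneousIdeal := fun y h =>
        (y.1.isPrime.mem_or_mem h).elim (nin y) (ha ⟨y.1, hW (iV y).2⟩)
      have hval : ∀ y : V, (r₀ (iV y)).val =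
          Localization.mk (a'.1 * s.1) ⟨s'.1 * a.1, hden y⟩ := by
        intro y
        rw [hr₀]
        have := hw y
        change tfun 𝒜 t (iV y) = _ at this
        rw [this, Localization.mk_mul]
        rfl
      rcases hcase with hc | hc
      · have hdegs : i' + j = j' + i := by omega
        refine ⟨V, hxV, iV, j' + i, ⟨a'.1 * s.1, ?_⟩,
          ⟨s'.1 * a.1, SetLike.mul_mem_graded s'.2 a.2⟩, hden, fun y => ?_⟩
        · rw [← hdegs]; exact SetLike.mul_mem_graded a'.2 s.2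
        · apply HomogeneousLocalization.val_injective
          rw [hval y, HomogeneousLocalization.val_mk]
      · refine ⟨V, hxV, iV, j' + i, 0,
          ⟨s'.1 * a.1, SetLike.mul_mem_graded s'.2 a.2⟩, hden, fun y => ?_⟩
        apply HomogeneousLocalization.val_injective
        rw [hval y, HomogeneousLocalization.val_mk, hc, zero_mul]
        rfl
    let r : Γ(Proj 𝒜, W) := (⟨r₀, hloc⟩ : Twist.O (𝒜 := 𝒜) (op W))
    refine ⟨r, ?_⟩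
    apply tfun_ext
    intro x
    rw [tfun_smul, tfun_res, tfun_mkSec]
    change (r₀ x).val * _ = _
    rw [hr₀, mul_assoc, mul_comm (Localization.mk s.1 _), 
      isUnit_mk_of_not_mem 𝒜 (ha ⟨x.1, hW x.2⟩) (hs ⟨x.1, hW x.2⟩), mul_one]

section ESec
variable {𝒜}

theorem pow_not_mem_of_not_mem {x : ProjectiveSpectrum 𝒜} {f : A}
    (hf : f ∉ x.asHomogeneousIdeal) (k : ℕ) : f ^ k ∉ x.asHomogeneousIdeal := fun h =>
  hf (x.isPrime.mem_of_pow_mem k h)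

/-- `f^p / f^q` as a section of `O(n)`, `n = (p - q) d`, over any `U ≤ D_+(f)`. -/
def eSec (n : ℤ) {d : ℕ} (f : 𝒜 d) (p q : ℕ) (h : n = ((p : ℤ) - q) * d) (U : (Proj 𝒜).Opens)
    (hU : U ≤ Proj.basicOpen 𝒜 f.1) : Γ(Twist.twist 𝒜 n, U) :=
  mkSec 𝒜 n U (⟨f.1 ^ p, SetLike.pow_mem_graded p f.2⟩ : 𝒜 (p • d))
    (⟨f.1 ^ q, SetLike.pow_mem_graded q f.2⟩ : 𝒜 (q • d))
    (fun x => pow_not_mem_of_not_mem (hU x.2) q) (by rw [h]; push_cast [smul_eq_mul]; ring)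

theorem tfun_eSec (n : ℤ) {d : ℕ} (f : 𝒜 d) (p q : ℕ) (h : n = ((p : ℤ) - q) * d)
    (U : (Proj 𝒜).Opens) (hU : U ≤ Proj.basicOpen 𝒜 f.1) (x : U) :
    tfun 𝒜 (eSec n f p q h U hU) x =
      Localization.mk (f.1 ^ p) ⟨f.1 ^ q, pow_not_mem_of_not_mem (hU x.2) q⟩ := rfl

theorem isTriv_eSec (n : ℤ) {d : ℕ} (f : 𝒜 d) (p q : ℕ) (h : n = ((p : ℤ) - q) * d)
    (U : (Proj 𝒜).Opens) (hU : U ≤ Proj.basicOpen 𝒜 f.1) :
    IsTriv (Twist.twist 𝒜 n) U (eSec n f p q h U hU) :=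
  isTriv_mkSec 𝒜 n U _ _ (fun x => pow_not_mem_of_not_mem (hU x.2) p) _ _

theorem res_eSec (n : ℤ) {d : ℕ} (f : 𝒜 d) (p q : ℕ) (h : n = ((p : ℤ) - q) * d)
    {U V : (Proj 𝒜).Opens} (hU : U ≤ Proj.basicOpen 𝒜 f.1) (hVU : V ≤ U) :
    res (Twist.twist 𝒜 n) hVU (eSec n f p q h U hU) = eSec n f p q h V (hVU.trans hU) := rfl

/-- `O(k d)` is trivial on `D_+(f)` for `f` of degree `d`. -/
theorem exists_isTriv_twist_mul {d : ℕ} (f : 𝒜 d) (k : ℤ) :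
    ∃ e : Γ(Twist.twist 𝒜 (k * d), Proj.basicOpen 𝒜 f.1),
      IsTriv (Twist.twist 𝒜 (k * d)) (Proj.basicOpen 𝒜 f.1) e :=
  ⟨_, isTriv_eSec (k * d) f k.toNat (-k).toNat (by rw [Int.toNat_sub_toNat_neg]) _ le_rfl⟩

theorem nonempty_twist_restrict_basicOpen_iso {d : ℕ} (f : 𝒜 d) (k : ℤ) :
    Nonempty ((Twist.twist 𝒜 (k * d)).restrict (Proj.basicOpen 𝒜 f.1).ι ≅
      Coh.structureModule ↑(Proj.basicOpen 𝒜 f.1)) := by
  obtain ⟨e, he⟩ := exists_isTriv_twist_mul f k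
  obtain ⟨σ, -⟩ := he.exists_iso_restrict
  exact ⟨σ.symm⟩

end ESec

end TwistCore
end Groth.Agent.Lib.Helper29.QCoh
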