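import Mathlib.Algebra.MvPolynomial.Division
import Mathlib.RingTheory.MvPolynomial.Homogeneous
universe u
open MvPolynomial

/-! # Divisibility by powers of a variable in multivariate polynomial rings -/

namespace Groth.Agent.Lib.Helper29.QCoh

section PolyLemmas
variable {σ : Type*} {R : Type*} [CommRing R]

theorem X_pow_mul_cancel (i : σ) (M : ℕ) {p q : MvPolynomial σ R}
    (h : X i ^ M * p = X i ^ M * q) : p = q := by
  rw [X_pow_eq_monomial] at h
  have := congrArg (fun t => divMonomial t (Finsupp.single i M)) h
  simpa only [divMonomial_monomial_mul] using this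

theorem X_pow_mul_eq_zero (i : σ) (M : ℕ) {p : MvPolynomial σ R}
    (h : X i ^ M * p = 0) : p = 0 :=
  X_pow_mul_cancel i M (h.trans (mul_zero _).symm)

theorem single_le_iff' [DecidableEq σ] (i : σ) (N : ℕ) (μ : σ →₀ ℕ) :
    Finsupp.single i N ≤ μ ↔ N ≤ μ i := by
  constructor
  · intro h
    have := h i
    simpa using this
  · intro h k
    by_cases hk : k = i
    · subst hk; simpa using h
    · rw [Finsupp.single_eq_of_ne hk]; exact Nat.zero_le _

/-- If `B * X_j^N = B' * X_i^N` with `i ≠ j` then `X_i^N ∣ B`. -/
theorem exists_eq_X_pow_mul_of_mul_eq [DecidableEq σ] {i j : σ} (hij : i ≠ j) (N : ℕ)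
    {B B' : MvPolynomial σ R} (h : B * X j ^ N = B' * X i ^ N) :
    ∃ c, B = X i ^ N * c := by
  have hmod : modMonomial B (Finsupp.single i N) = 0 := by
    ext μ
    rw [coeff_zero]
    by_cases hle : Finsupp.single i N ≤ μ
    · exact coeff_modMonomial_of_le _ hle
    · rw [coeff_modMonomial_of_not_le _ hle]
      have h1 : coeff (Finsupp.single j N + μ) (monomial (Finsupp.single j N) 1 * B) = coeff μ B := by
        rw [coeff_monomial_mul, one_mul]
      rw [← h1, ← X_pow_eq_monomial, mul_comm, h, mul_comm, X_pow_eq_monomial, coeff_monomial_mul']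
      rw [if_neg]
      intro hle2
      apply hle
      rw [single_le_iff'] at hle2 ⊢
      simpa [Finsupp.single_eq_of_ne hij] using hle2
  refine ⟨divMonomial B (Finsupp.single i N), ?_⟩
  have := divMonomial_add_modMonomial B (Finsupp.single i N)
  rw [hmod, add_zero] at this
  rw [X_pow_eq_monomial, this]

/-- A homogeneous polynomial of degree `N + d` all of whose monomials have `i`-exponent `≥ N`
(e.g. in one variable) is divisible by `X_i^N`. -/
theorem exists_eq_X_pow_mul_of_unique [DecidableEq σ] [Unique σ] (i : σ) (N d : ℕ)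
    {B : MvPolynomial σ R} (hB : B.IsHomogeneous (N + d)) :
    ∃ c, B = X i ^ N * c := by
  have hmod : modMonomial B (Finsupp.single i N) = 0 := by
    ext μ
    rw [coeff_zero]
    by_cases hle : Finsupp.single i N ≤ μ
    · exact coeff_modMonomial_of_le _ hle
    · rw [coeff_modMonomial_of_not_le _ hle]
      by_contra hne
      have hdeg := hB hne
      apply hle
      rw [single_le_iff']
      have hμ : μ = Finsupp.single i (μ i) := by
        apply Finsupp.ext
        intro k
        rw [Subsingleton.elim k i]; simp
      rw [hμ] at hdeg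
      simp only [Finsupp.weight_single, Pi.one_apply, smul_eq_mul, mul_one] at hdeg
      omega
  refine ⟨divMonomial B (Finsupp.single i N), ?_⟩
  have := divMonomial_add_modMonomial B (Finsupp.single i N)
  rw [hmod, add_zero] at this
  rw [X_pow_eq_monomial, this]

theorem isHomogeneous_of_X_pow_mul (i : σ) (N d : ℕ) {c : MvPolynomial σ R}
    (h : (X i ^ N * c).IsHomogeneous (N + d)) : c.IsHomogeneous d := by
  intro μ hμ
  have h1 : coeff (Finsupp.single i N + μ) (X i ^ N * c) = coeff μ c := by
    rw [X_pow_eq_monomial, coeff_monomial_mul, one_mul]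
  have h2 := h (h1.symm ▸ hμ)
  rw [map_add, Finsupp.weight_single] at h2
  simp only [Pi.one_apply, smul_eq_mul, mul_one] at h2
  omega

end PolyLemmas

end Groth.Agent.Lib.Helper29.QCoh
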