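import Groth.Agent.Lib.Helper29.Twist6
import Groth.Agent.Lib.Helper29.PolyDiv
universe u
open CategoryTheory CategoryTheory.Limits AlgebraicGeometry Opposite TopologicalSpace DirectSum

/-! # Global sections of `O(d)` on projective space -/

namespace Groth.Agent.Lib.Helper29.QCoh

section Pn
variable (n : ℕ) (R : Type u) [CommRing R]

/-- The coordinate `X_i` as an element of degree one. -/
noncomputable abbrev Xi (i : Fin (n + 1)) : CohB1.polyGrading n R 1 :=
  ⟨MvPolynomial.X i, MvPolynomial.isHomogeneous_X R i⟩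

theorem iSup_basicOpen_X_eq_top :
    ⨆ i : Fin (n + 1), Proj.basicOpen (CohB1.polyGrading n R) (MvPolynomial.X i) = ⊤ := by
  apply Proj.iSup_basicOpen_eq_top' (CohB1.polyGrading n R) (fun i => MvPolynomial.X i)
  · intro i
    exact ⟨1, MvPolynomial.isHomogeneous_X R i⟩
  · rw [eq_top_iff]
    intro p hp0
    clear hp0
    induction p using MvPolynomial.induction_on with
    | C a =>
      have : (MvPolynomial.C a : MvPolynomial (Fin (n + 1)) R) =
          algebraMap (CohB1.polyGrading n R 0) _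
            ⟨MvPolynomial.C a, MvPolynomial.isHomogeneous_C _ a⟩ := rfl
      rw [this]
      exact Subalgebra.algebraMap_mem _ _
    | add p q hp hq => exact Subalgebra.add_mem _ hp hq
    | mul_X p i hp =>
      exact Subalgebra.mul_mem _ hp (Algebra.subset_adjoin ⟨i, rfl⟩)

theorem exists_mem_basicOpen_X (x : Proj (CohB1.polyGrading n R)) :
    ∃ i : Fin (n + 1), x ∈ Proj.basicOpen (CohB1.polyGrading n R) (MvPolynomial.X i) := by
  have : x ∈ ⨆ i : Fin (n + 1), Proj.basicOpen (CohB1.polyGrading n R) (MvPolynomial.X i) := by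
    rw [iSup_basicOpen_X_eq_top]; trivial
  exact Opens.mem_iSup.mp this

theorem projSpace_degree_one_cover (x : Proj (CohB1.polyGrading n R)) :
    ∃ g : CohB1.polyGrading n R 1, x ∈ Proj.basicOpen (CohB1.polyGrading n R) g.1 := by
  obtain ⟨i, hi⟩ := exists_mem_basicOpen_X n R x
  exact ⟨Xi n R i, hi⟩

instance compactSpace_projSpace : CompactSpace (Proj (CohB1.polyGrading n R)) := by
  rw [← isCompact_univ_iff]
  have : (Set.univ : Set (Proj (CohB1.polyGrading n R))) =
      ⋃ i : Fin (n + 1), (Proj.basicOpen (CohB1.polyGrading n R) (MvPolynomial.X i) : Set _) := by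
    ext x
    simp only [Set.mem_univ, Set.mem_iUnion, true_iff]
    exact exists_mem_basicOpen_X n R x
  rw [this]
  exact isCompact_iUnion fun i =>
    (Proj.isAffineOpen_basicOpen (CohB1.polyGrading n R) (MvPolynomial.X i)
      (MvPolynomial.isHomogeneous_X R i) one_pos).isCompact

/-- Two homogeneous polynomials of the same degree which agree in the local rings of all points
of `D_+(X_i X_j)` are equal. -/
theorem eq_of_forall_mk_eq (i j : Fin (n + 1)) {k : ℕ} (P Q : CohB1.polyGrading n R k)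
    (h : ∀ x : Proj (CohB1.polyGrading n R),
      x ∈ Proj.basicOpen (CohB1.polyGrading n R) (MvPolynomial.X i) →
      x ∈ Proj.basicOpen (CohB1.polyGrading n R) (MvPolynomial.X j) →
      (Localization.mk P.1 ⟨1, one_not_mem x⟩ : Twist.Loc (CohB1.polyGrading n R) x) =
        Localization.mk Q.1 ⟨1, one_not_mem x⟩) : P = Q := by
  have hf : MvPolynomial.X i * MvPolynomial.X j ∈ CohB1.polyGrading n R 2 :=
    (MvPolynomial.isHomogeneous_X R i).mul (MvPolynomial.isHomogeneous_X R j)
  obtain ⟨M, hM⟩ := exists_pow_mul_eq_zero_of_forall_mk_eq_zero (P - Q) two_pos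
    (⟨MvPolynomial.X i * MvPolynomial.X j, hf⟩ : CohB1.polyGrading n R 2) (by
      intro x hx
      rw [Proj.basicOpen_mul] at hx
      have := h x hx.1 hx.2
      rw [Submodule.coe_sub, sub_eq_add_neg, ← Localization.add_mk_self, ← Localization.neg_mk,
        ← sub_eq_add_neg, this, sub_self])
  rw [mul_pow, mul_assoc] at hM
  have := X_pow_mul_eq_zero j M (X_pow_mul_eq_zero i M hM)
  exact sub_eq_zero.mp (Subtype.ext this)

open MvPolynomial in
/-- **Global sections of `O(d)` on projective space** (surjectivity): every global section of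
`O(d)`, `d ≥ 0`, is `c / 1` for a homogeneous polynomial `c` of degree `d`. -/
theorem exists_tfun_eq_mk_one (d : ℕ)
    (σ : Γ(Twist.twist (CohB1.polyGrading n R) (d : ℤ), ⊤)) :
    ∃ c : CohB1.polyGrading n R d, ∀ (x : Proj (CohB1.polyGrading n R)),
      tfun (CohB1.polyGrading n R) σ ⟨x, trivial⟩ = Localization.mk c.1 ⟨1, one_not_mem x⟩ := by
  classical
  have h1 : ∀ i : Fin (n + 1), ∃ (N k : ℕ) (B : CohB1.polyGrading n R k), (k : ℤ) = N + (d : ℤ) ∧
      ∀ x : Proj.basicOpen (CohB1.polyGrading n R) (X i),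
        tfun (CohB1.polyGrading n R) (QCoh.res (Twist.twist (CohB1.polyGrading n R) (d : ℤ))
          le_top σ) x =
          Localization.mk B.1 ⟨X i ^ N, pow_not_mem_of_not_mem x.2 N⟩ :=
    fun i => exists_tfun_eq_mk (d : ℤ) (Xi n R i) _
  choose N k B hk hB using h1
  set N₀ := Finset.univ.sup N with hN₀
  have hN : ∀ i, N i ≤ N₀ := fun i => Finset.le_sup (Finset.mem_univ i)
  have hB'mem : ∀ i, (B i).1 * X i ^ (N₀ - N i) ∈ CohB1.polyGrading n R (N₀ + d) := by
    intro i
    have hki : k i = N i + d := by exact_mod_cast hk i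
    have hmem := ((B i).2 : (B i).1.IsHomogeneous (k i)).mul
      ((MvPolynomial.isHomogeneous_X R i).pow (N₀ - N i))
    have hdeg : k i + 1 * (N₀ - N i) = N₀ + d := by have := hN i; omega
    rw [hdeg] at hmem
    exact hmem
  have hB' : ∀ i (x : Proj (CohB1.polyGrading n R))
      (hx : x ∈ Proj.basicOpen (CohB1.polyGrading n R) (X i)),
      tfun (CohB1.polyGrading n R) σ ⟨x, trivial⟩ =
        Localization.mk ((B i).1 * X i ^ (N₀ - N i)) ⟨X i ^ N₀, pow_not_mem_of_not_mem hx N₀⟩ := by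
    intro i x hx
    have := hB i ⟨x, hx⟩
    rw [tfun_res] at this
    refine this.trans ?_
    apply mk_eq_mk_of_mul_eq
    have hadd : N i + (N₀ - N i) = N₀ := by have := hN i; omega
    calc X i ^ N₀ * (B i).1 = X i ^ (N i + (N₀ - N i)) * (B i).1 := by rw [hadd]
      _ = X i ^ N i * ((B i).1 * X i ^ (N₀ - N i)) := by rw [pow_add]; ring
  have hrel : ∀ i j, (B i).1 * X i ^ (N₀ - N i) * X j ^ N₀ =
      (B j).1 * X j ^ (N₀ - N j) * X i ^ N₀ := by
    intro i j
    have hP : (B i).1 * X i ^ (N₀ - N i) * X j ^ N₀ ∈ CohB1.polyGrading n R (N₀ + d + 1 * N₀) :=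
      (hB'mem i : MvPolynomial.IsHomogeneous _ _).mul ((MvPolynomial.isHomogeneous_X R j).pow N₀)
    have hQ : (B j).1 * X j ^ (N₀ - N j) * X i ^ N₀ ∈ CohB1.polyGrading n R (N₀ + d + 1 * N₀) :=
      (hB'mem j : MvPolynomial.IsHomogeneous _ _).mul ((MvPolynomial.isHomogeneous_X R i).pow N₀)
    have := eq_of_forall_mk_eq n R i j ⟨_, hP⟩ ⟨_, hQ⟩ (by
      intro x hxi hxj
      have e1 := hB' i x hxi
      have e2 := hB' j x hxj
      have hu : ∀ (a : MvPolynomial (Fin (n + 1)) R) (s : MvPolynomial (Fin (n + 1)) R)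
          (hs : s ∉ x.asHomogeneousIdeal) (t : MvPolynomial (Fin (n + 1)) R),
          (Localization.mk (a * t) ⟨1, one_not_mem x⟩ : Twist.Loc (CohB1.polyGrading n R) x) =
            Localization.mk a ⟨s, hs⟩ * Localization.mk (s * t) ⟨1, one_not_mem x⟩ := by
        intro a s hs t
        rw [Localization.mk_mul]
        apply mk_eq_mk_of_mul_eq
        simp only [Submonoid.coe_mul]
        ring
      change (Localization.mk ((B i).1 * X i ^ (N₀ - N i) * X j ^ N₀) ⟨1, one_not_mem x⟩ :
          Twist.Loc (CohB1.polyGrading n R) x) =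
        Localization.mk ((B j).1 * X j ^ (N₀ - N j) * X i ^ N₀) ⟨1, one_not_mem x⟩
      have l1 := hu ((B i).1 * X i ^ (N₀ - N i)) (X i ^ N₀) (pow_not_mem_of_not_mem hxi N₀)
        (X j ^ N₀)
      have l2 := hu ((B j).1 * X j ^ (N₀ - N j)) (X j ^ N₀) (pow_not_mem_of_not_mem hxj N₀)
        (X i ^ N₀)
      rw [l1, l2, ← e1, ← e2, mul_comm (X i ^ N₀) (X j ^ N₀)])
    exact congrArg Subtype.val this
  have h3 : ∀ i, ∃ c : MvPolynomial (Fin (n + 1)) R,
      (B i).1 * X i ^ (N₀ - N i) = X i ^ N₀ * c := by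
    intro i
    by_cases hex : ∃ j, j ≠ i
    · obtain ⟨j, hj⟩ := hex
      exact exists_eq_X_pow_mul_of_mul_eq (Ne.symm hj) N₀ (hrel i j)
    · push Not at hex
      have : Unique (Fin (n + 1)) := ⟨⟨i⟩, fun j => hex j⟩
      exact exists_eq_X_pow_mul_of_unique i N₀ d (hB'mem i)
  choose c hc using h3
  have hcmem : ∀ i, c i ∈ CohB1.polyGrading n R d := fun i =>
    isHomogeneous_of_X_pow_mul i N₀ d (hc i ▸ hB'mem i)
  have h5 : ∀ i (x : Proj (CohB1.polyGrading n R))
      (hx : x ∈ Proj.basicOpen (CohB1.polyGrading n R) (X i)),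
      tfun (CohB1.polyGrading n R) σ ⟨x, trivial⟩ =
        Localization.mk (c i) ⟨1, one_not_mem x⟩ := by
    intro i x hx
    rw [hB' i x hx, hc i]
    apply mk_eq_mk_of_mul_eq
    simp
  have h6 : ∀ i j, c i = c j := by
    intro i j
    have := eq_of_forall_mk_eq n R i j ⟨c i, hcmem i⟩ ⟨c j, hcmem j⟩ (by
      intro x hxi hxj
      exact (h5 i x hxi).symm.trans (h5 j x hxj))
    exact congrArg Subtype.val this
  refine ⟨⟨c 0, hcmem 0⟩, fun x => ?_⟩
  obtain ⟨i, hi⟩ := exists_mem_basicOpen_X n R x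
  rw [h5 i x hi, h6 i 0]

end Pn

end Groth.Agent.Lib.Helper29.QCoh
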