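import Groth.Agent.Lib.Helper29.ProjF1
import Groth.Agent.Lib.Helper29.PullSect
import Groth.Agent.Lib.Helper29.QCohPullback
universe u
open CategoryTheory CategoryTheory.Limits AlgebraicGeometry TopologicalSpace Opposite

/-! # Sections of an inverse image are spanned by pulled back sections -/

namespace Groth.Agent.Lib.Helper29.QCoh.ProjF
open Groth.Agent.Lib.Helper29.QCoh Groth.Agent.Lib.Helper3

variable {X Y : Scheme.{u}}

/-- If a subsheaf of `f^*F` contains all pulled back sections, it is everything. -/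
theorem mem_of_pullSect_mem (f : X ⟶ Y) (F : Y.Modules)
    (K : SubSh ((Scheme.Modules.pullback f).obj F))
    (hK : ∀ (W : Y.Opens) (s : Γ(F, W)), pullSect f F W s ∈ K.carrier (f ⁻¹ᵁ W))
    (T : X.Opens) (t : Γ((Scheme.Modules.pullback f).obj F, T)) : t ∈ K.carrier T := by
  let adj := Scheme.Modules.pullbackPushforwardAdjunction f
  let kSec : ∀ W : Y.Opens, Γ(F, W) →+ Γ(K.toModules, f ⁻¹ᵁ W) := fun W =>
    { toFun := fun s => K.mkSec (f ⁻¹ᵁ W) (pullSect f F W s) (hK W s)
      map_zero' := by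
        apply K.ι_app_injective
        rw [SubSh.ι_app_mkSec, map_zero, map_zero]
      map_add' := fun a b => by
        apply K.ι_app_injective
        rw [SubSh.ι_app_mkSec, map_add, map_add, SubSh.ι_app_mkSec, SubSh.ι_app_mkSec] }
  have hkSec : ∀ (W : Y.Opens) (s : Γ(F, W)),
      K.ι.app (f ⁻¹ᵁ W) (kSec W s) = pullSect f F W s := fun W s => rfl
  let η' : F ⟶ (Scheme.Modules.pushforward f).obj K.toModules :=
    homOfApp
      (fun W => (show Γ(F, W) →+ Γ((Scheme.Modules.pushforward f).obj K.toModules, W) from kSec W))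
      (fun W r s => by
        apply K.ι_app_injective (f ⁻¹ᵁ W)
        change K.ι.app (f ⁻¹ᵁ W) (kSec W (r • s)) =
          K.ι.app (f ⁻¹ᵁ W) ((f.app W r) • kSec W s)
        rw [hkSec, Scheme.Modules.Hom.app_smul, hkSec, pullSect_smul])
      (fun {W W'} h s => by
        apply K.ι_app_injective (f ⁻¹ᵁ W')
        change K.ι.app (f ⁻¹ᵁ W') (kSec W' (res F h s)) =
          K.ι.app (f ⁻¹ᵁ W') (res K.toModules (f.preimage_mono h) (kSec W s))
        rw [hkSec, app_res, hkSec, pullSect_res])
  let ε' : (Scheme.Modules.pullback f).obj F ⟶ K.toModules := (adj.homEquiv F K.toModules).symm η'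
  have hsplit : ε' ≫ K.ι = 𝟙 _ := by
    apply (adj.homEquiv F _).injective
    rw [adj.homEquiv_naturality_right, Equiv.apply_symm_apply, adj.homEquiv_id]
    apply Scheme.Modules.hom_ext
    intro W
    ext s
    rfl
  have : t = K.ι.app T (ε'.app T t) := by
    change t = (ε' ≫ K.ι).app T t
    rw [hsplit]
    rfl
  rw [this]
  exact K.ι_app_mem T _

/-- **Sections of `f^*F` over an affine open `U ≤ f⁻¹V`, `V` affine, are spanned by the
pullbacks of the sections of `F` over `V`.** -/
theorem span_pullSect_eq_top (f : X ⟶ Y) (F : Y.Modules) [F.IsQuasicoherent]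
    {V : Y.Opens} (hV : IsAffineOpen V) {U : X.Opens} (hU : IsAffineOpen U) (hUV : U ≤ f ⁻¹ᵁ V) :
    Submodule.span Γ(X, U) (Set.range fun s : Γ(F, V) =>
      res ((Scheme.Modules.pullback f).obj F) hUV (pullSect f F V s)) = ⊤ := by
  set S : Set Γ((Scheme.Modules.pullback f).obj F, U) := Set.range fun s : Γ(F, V) =>
      res ((Scheme.Modules.pullback f).obj F) hUV (pullSect f F V s) with hS
  let K : SubSh ((Scheme.Modules.pullback f).obj F) := SubSh.genSub U S
  have hK : ∀ (W : Y.Opens) (s : Γ(F, W)), pullSect f F W s ∈ K.carrier (f ⁻¹ᵁ W) := by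
    intro W s x hx
    have hyW : f x ∈ W := hx.1
    have hyV : f x ∈ V := hUV hx.2
    obtain ⟨r, s', hyr, hrs⟩ := exists_smul_germ_eq F hV (f x) hyV (F.presheaf.germ W (f x) hyW s)
    -- `r|_(W ⊓ V) • s` and `s'` have the same germ at `f x`
    have hg : F.presheaf.germ (W ⊓ V) (f x) ⟨hyW, hyV⟩
        (Y.presheaf.map (homOfLE (inf_le_right : W ⊓ V ≤ V)).op r • res F inf_le_left s) =
        F.presheaf.germ (W ⊓ V) (f x) ⟨hyW, hyV⟩ (res F inf_le_right s') := by
      rw [germ_smul, germ_res, germ_res, ← hrs]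
      congr 1
      exact Y.presheaf.germ_res_apply (homOfLE (inf_le_right : W ⊓ V ≤ V)) (f x) ⟨hyW, hyV⟩ r
    obtain ⟨W₀, hyW₀, i₁, i₂, e⟩ := F.presheaf.germ_eq (f x) _ _ _ _ hg
    let W' : Y.Opens := W₀ ⊓ Y.basicOpen r
    have hW'W : W' ≤ W := inf_le_left.trans (i₁.le.trans inf_le_left)
    have hW'V : W' ≤ V := inf_le_left.trans (i₁.le.trans inf_le_right)
    have hyW' : f x ∈ W' := ⟨hyW₀, hyr⟩
    have hu : IsUnit (Y.presheaf.map (homOfLE hW'V).op r) :=
      SubSh.isUnit_res_of_le_basicOpen r hW'V inf_le_right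
    obtain ⟨u, hu'⟩ := hu
    have e1 : (↑u : Γ(Y, W')) • res F hW'W s = res F hW'V s' := by
      have e0 : res F i₁.le (Y.presheaf.map (homOfLE (inf_le_right : W ⊓ V ≤ V)).op r •
          res F inf_le_left s) = res F i₂.le (res F inf_le_right s') := e
      have := congrArg (res F (inf_le_left : W' ≤ W₀)) e0
      simp only [res_res, res_smul, map_map_apply] at this
      rw [hu']
      exact this
    have e2 : res F hW'W s = (↑u⁻¹ : Γ(Y, W')) • res F hW'V s' := by
      rw [← e1, smul_smul, Units.inv_mul, one_smul]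
    let T' : X.Opens := U ⊓ f ⁻¹ᵁ W'
    have hT'W : T' ≤ f ⁻¹ᵁ W := inf_le_right.trans (f.preimage_mono hW'W)
    refine ⟨T', hT'W, inf_le_left, ⟨hx.2, hyW'⟩, ?_⟩
    have e3 : res ((Scheme.Modules.pullback f).obj F) hT'W (pullSect f F W s) =
        X.presheaf.map (homOfLE (inf_le_right : T' ≤ f ⁻¹ᵁ W')).op (f.app W' (↑u⁻¹ : Γ(Y, W'))) •
          res ((Scheme.Modules.pullback f).obj F) (inf_le_left : T' ≤ U)
            (res ((Scheme.Modules.pullback f).obj F) hUV (pullSect f F V s')) := by
      have a1 : res ((Scheme.Modules.pullback f).obj F) hT'W (pullSect f F W s) =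
          res ((Scheme.Modules.pullback f).obj F) (inf_le_right : T' ≤ f ⁻¹ᵁ W')
            (pullSect f F W' (res F hW'W s)) := by
        rw [pullSect_res f F hW'W, res_res]
      have a2 : pullSect f F W' (res F hW'W s) =
          f.app W' (↑u⁻¹ : Γ(Y, W')) • pullSect f F W' (res F hW'V s') := by
        rw [e2, pullSect_smul]
      have a3 : pullSect f F W' (res F hW'V s') =
          res ((Scheme.Modules.pullback f).obj F) (f.preimage_mono hW'V) (pullSect f F V s') :=
        pullSect_res f F hW'V s'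
      rw [a1, a2, a3, res_smul, res_res, res_res]
    rw [e3]
    exact Submodule.smul_mem _ _ (Submodule.subset_span ⟨_, ⟨s', rfl⟩, rfl⟩)
  have hall := mem_of_pullSect_mem f F K hK
  rw [eq_top_iff]
  intro t _
  have ht := hall U t
  rw [SubSh.genSub_carrier_eq U S hU le_rfl] at ht
  have hle : spanRes ((Scheme.Modules.pullback f).obj F) S U le_rfl ≤
      Submodule.span Γ(X, U) S := by
    apply Submodule.span_le.mpr
    rintro _ ⟨m, hm, rfl⟩
    rw [res_self]
    exact Submodule.subset_span hm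
  exact hle ht

end Groth.Agent.Lib.Helper29.QCoh.ProjF
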