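import Groth.Agent.Lib.Helper29.Segre4
universe u
open CategoryTheory CategoryTheory.Limits AlgebraicGeometry Opposite TopologicalSpace

/-! # Composition of H-projective morphisms -/

namespace Groth.Agent.Lib.Helper29.QCoh

section BC

/-- The base change map `P^n_Y ⟶ P^n_Z` along `g : Y ⟶ Z`. -/
noncomputable def projSpaceOverMap (n : ℕ) {Y Z : Scheme.{u}} (g : Y ⟶ Z) :
    CohB1.ProjSpaceOver n Y ⟶ CohB1.ProjSpaceOver n Z :=
  pullback.lift (pullback.fst (CohB1.ProjSpace.toSpec n (ULift.{u} ℤ)) (specULiftZIsTerminal.from Y))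
    (pullback.snd (CohB1.ProjSpace.toSpec n (ULift.{u} ℤ)) (specULiftZIsTerminal.from Y) ≫ g)
    (specULiftZIsTerminal.hom_ext _ _)

theorem projSpaceOverMap_fst (n : ℕ) {Y Z : Scheme.{u}} (g : Y ⟶ Z) :
    projSpaceOverMap n g ≫ pullback.fst (CohB1.ProjSpace.toSpec n (ULift.{u} ℤ))
      (specULiftZIsTerminal.from Z) =
    pullback.fst (CohB1.ProjSpace.toSpec n (ULift.{u} ℤ)) (specULiftZIsTerminal.from Y) :=
  pullback.lift_fst _ _ _

theorem projSpaceOverMap_toBase (n : ℕ) {Y Z : Scheme.{u}} (g : Y ⟶ Z) :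
    projSpaceOverMap n g ≫ CohB1.ProjSpaceOver.toBase n Z = CohB1.ProjSpaceOver.toBase n Y ≫ g :=
  pullback.lift_snd _ _ _

theorem isPullback_projSpaceOverMap (n : ℕ) {Y Z : Scheme.{u}} (g : Y ⟶ Z) :
    IsPullback (projSpaceOverMap n g) (CohB1.ProjSpaceOver.toBase n Y)
      (CohB1.ProjSpaceOver.toBase n Z) g := by
  have hright : IsPullback
      (pullback.fst (CohB1.ProjSpace.toSpec n (ULift.{u} ℤ)) (specULiftZIsTerminal.from Z))
      (CohB1.ProjSpaceOver.toBase n Z) (CohB1.ProjSpace.toSpec n (ULift.{u} ℤ))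
      (specULiftZIsTerminal.from Z) := IsPullback.of_hasPullback _ _
  have houter : IsPullback
      (projSpaceOverMap n g ≫ pullback.fst (CohB1.ProjSpace.toSpec n (ULift.{u} ℤ))
        (specULiftZIsTerminal.from Z))
      (CohB1.ProjSpaceOver.toBase n Y) (CohB1.ProjSpace.toSpec n (ULift.{u} ℤ))
      (g ≫ specULiftZIsTerminal.from Z) := by
    rw [projSpaceOverMap_fst]
    have : g ≫ specULiftZIsTerminal.from Z = specULiftZIsTerminal.from Y :=
      specULiftZIsTerminal.hom_ext _ _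
    rw [this]
    exact IsPullback.of_hasPullback _ _
  exact IsPullback.of_right houter (projSpaceOverMap_toBase n g) hright

end BC

section Comp
variable {X Y Z : Scheme.{u}}

theorem isHProjective_comp (f : X ⟶ Y) (g : Y ⟶ Z)
    (hf : RelProj.IsHProjective f) (hg : RelProj.IsHProjective g) :
    RelProj.IsHProjective (f ≫ g) := by
  obtain ⟨n, i, hi, rfl⟩ := hf
  obtain ⟨m, j, hj, rfl⟩ := hg
  obtain ⟨φ, hφ, hφb⟩ := exists_segre Z n m
  -- the map `P^n_Y ⟶ P^n_Z ×_Z P^m_Z`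
  let κ : CohB1.ProjSpaceOver n Y ⟶
      pullback (CohB1.ProjSpaceOver.toBase n Z) (CohB1.ProjSpaceOver.toBase m Z) :=
    pullback.lift (projSpaceOverMap n (j ≫ CohB1.ProjSpaceOver.toBase m Z))
      (CohB1.ProjSpaceOver.toBase n Y ≫ j)
      (by rw [projSpaceOverMap_toBase, Category.assoc])
  have hκ1 : κ ≫ pullback.fst _ _ = projSpaceOverMap n (j ≫ CohB1.ProjSpaceOver.toBase m Z) :=
    pullback.lift_fst _ _ _
  have hκ2 : κ ≫ pullback.snd _ _ = CohB1.ProjSpaceOver.toBase n Y ≫ j := pullback.lift_snd _ _ _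
  have hright : IsPullback
      (pullback.fst (CohB1.ProjSpaceOver.toBase n Z) (CohB1.ProjSpaceOver.toBase m Z))
      (pullback.snd (CohB1.ProjSpaceOver.toBase n Z) (CohB1.ProjSpaceOver.toBase m Z))
      (CohB1.ProjSpaceOver.toBase n Z) (CohB1.ProjSpaceOver.toBase m Z) :=
    IsPullback.of_hasPullback _ _
  have houter : IsPullback (κ ≫ pullback.fst _ _) (CohB1.ProjSpaceOver.toBase n Y)
      (CohB1.ProjSpaceOver.toBase n Z) (j ≫ CohB1.ProjSpaceOver.toBase m Z) := by
    rw [hκ1]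
    exact isPullback_projSpaceOverMap n _
  have hleft : IsPullback κ (CohB1.ProjSpaceOver.toBase n Y)
      (pullback.snd (CohB1.ProjSpaceOver.toBase n Z) (CohB1.ProjSpaceOver.toBase m Z)) j :=
    IsPullback.of_right houter hκ2 hright
  have hκ : IsClosedImmersion κ := MorphismProperty.of_isPullback hleft.flip hj
  refine ⟨n * m + n + m, i ≫ κ ≫ φ, inferInstance, ?_⟩
  rw [Category.assoc, Category.assoc, hφb, ← Category.assoc κ, hκ1, projSpaceOverMap_toBase,
    Category.assoc]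

end Comp

end Groth.Agent.Lib.Helper29.QCoh
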