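import Groth.Agent.Lib.Helper29.Twist7
universe u
open CategoryTheory CategoryTheory.Limits AlgebraicGeometry Opposite TopologicalSpace DirectSum

/-! # Morphisms to `Proj` from chartwise ring homomorphisms, and their gluing -/

namespace Groth.Agent.Lib.Helper29.QCoh

section AwayLift
variable {R A : Type u} [CommRing R] [CommRing A] [Algebra R A] (𝒜 : ℕ → Submodule R A) [GradedAlgebra 𝒜]
variable {B B' : Type u} [CommRing B] [CommRing B']
open HomogeneousLocalization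

/-- The ring homomorphism out of `A_(f)` induced by `φ : A →+* B` with `φ f` a unit. -/
noncomputable def awayLift (φ : A →+* B) (f : A) (hu : IsUnit (φ f)) : Away 𝒜 f →+* B :=
  (IsLocalization.Away.lift (S := Localization.Away f) f hu).comp
    (algebraMap (Away 𝒜 f) (Localization.Away f))

theorem awayLift_mk (φ : A →+* B) (f : A) (hu : IsUnit (φ f)) {d : ℕ} (hf : f ∈ 𝒜 d) (n : ℕ)
    (a : A) (ha : a ∈ 𝒜 (n • d)) :
    awayLift 𝒜 φ f hu (Away.mk 𝒜 hf n a ha) * φ f ^ n = φ a := by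
  have h1 : (algebraMap (Away 𝒜 f) (Localization.Away f)) (Away.mk 𝒜 hf n a ha) *
      algebraMap A (Localization.Away f) (f ^ n) = algebraMap A (Localization.Away f) a := by
    change (Away.mk 𝒜 hf n a ha).val * _ = _
    rw [Away.val_mk, ← Localization.mk_one_eq_algebraMap, ← Localization.mk_one_eq_algebraMap,
      Localization.mk_mul]
    apply mk_eq_mk_of_mul_eq
    simp only [Submonoid.coe_mul, Submonoid.coe_one]
    ring
  have h2 := congrArg (IsLocalization.Away.lift (S := Localization.Away f) f hu) h1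
  rw [map_mul, IsLocalization.Away.lift_eq, IsLocalization.Away.lift_eq, map_pow] at h2
  exact h2

theorem away_ringHom_ext {f : A} {d : ℕ} (hf : f ∈ 𝒜 d) (ψ ψ' : Away 𝒜 f →+* B)
    (h : ∀ (n : ℕ) (a : A) (ha : a ∈ 𝒜 (n • d)), ψ (Away.mk 𝒜 hf n a ha) = ψ' (Away.mk 𝒜 hf n a ha)) :
    ψ = ψ' := by
  ext x
  obtain ⟨n, a, ha, rfl⟩ := Away.mk_surjective 𝒜 hf x
  exact h n a ha

theorem comp_awayLift (ρ : B →+* B') (φ : A →+* B) (f : A) (hu : IsUnit (φ f)) :
    ρ.comp (awayLift 𝒜 φ f hu) = awayLift 𝒜 (ρ.comp φ) f (hu.map ρ) := by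
  unfold awayLift
  rw [← RingHom.comp_assoc]
  congr 1
  apply IsLocalization.ringHom_ext (Submonoid.powers f)
  ext a
  simp only [RingHom.coe_comp, Function.comp_apply, IsLocalization.Away.lift_eq]

/-- Compatibility of `awayLift` with the transition maps `A_(f) → A_(fg)`, allowing a rescaling
of the homomorphism by a unit `u` (of weight the degree). -/
theorem awayLift_comp_awayMap (φ φ' : A →+* B) {f g x : A} {d e : ℕ} (hf : f ∈ 𝒜 d) (hg : g ∈ 𝒜 e)
    (hx : x = f * g) (hu : IsUnit (φ f)) (hu' : IsUnit (φ' x)) (u : B)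
    (hscale : ∀ (n : ℕ) (a : A), a ∈ 𝒜 (n • d) → φ' a = u ^ n * φ a) :
    (awayLift 𝒜 φ' x hu').comp (awayMap 𝒜 hg hx) = awayLift 𝒜 φ f hu := by
  apply away_ringHom_ext 𝒜 hf
  intro n a ha
  rw [RingHom.comp_apply, awayMap_mk]
  have hxf : φ' x = φ' f * φ' g := by rw [hx, map_mul]
  have hfu : IsUnit (φ' f) := isUnit_of_mul_isUnit_left (hxf ▸ hu')
  have hgu : IsUnit (φ' g) := isUnit_of_mul_isUnit_right (hxf ▸ hu')
  have h1 := awayLift_mk 𝒜 φ' x hu' (hx ▸ SetLike.mul_mem_graded hf hg) n (a * g ^ n)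
    (by rw [smul_add]; exact SetLike.mul_mem_graded ha (SetLike.pow_mem_graded n hg))
  have h2 := awayLift_mk 𝒜 φ f hu hf n a ha
  have hf1 : φ' f = u * φ f := by
    have := hscale 1 f (by rwa [one_smul])
    rwa [pow_one] at this
  rw [hxf, mul_pow, map_mul, map_pow, ← mul_assoc] at h1
  have h3 := (hgu.pow n).mul_right_cancel h1
  rw [hscale n a ha, ← h2, hf1, mul_pow] at h3
  have hun : IsUnit (u ^ n * φ f ^ n) := by rw [← mul_pow, ← hf1]; exact hfu.pow n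
  apply hun.mul_right_cancel
  rw [h3]
  ring

end AwayLift

section ToProj
variable {R A : Type u} [CommRing R] [CommRing A] [Algebra R A] (𝒜 : ℕ → Submodule R A) [GradedAlgebra 𝒜]
variable {X : Scheme.{u}}
open HomogeneousLocalization

/-- The morphism from an open `V` of `X` to `Proj 𝒜`, through the chart `D_+(f)`, induced by a ring
homomorphism `φ : A → Γ(X, V)` with `φ f` invertible. -/
noncomputable def chartHom (V : X.Opens) (φ : A →+* Γ(X, V)) {f : A} {d : ℕ} (hf : f ∈ 𝒜 d)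
    (hd : 0 < d) (hu : IsUnit (φ f)) : (V : Scheme.{u}) ⟶ Proj 𝒜 :=
  V.toSpecΓ ≫ Spec.map (CommRingCat.ofHom (awayLift 𝒜 φ f hu)) ≫ Proj.awayι 𝒜 f hf hd

theorem homOfLE_chartHom {V V' : X.Opens} (h : V' ≤ V) (φ : A →+* Γ(X, V)) {f : A} {d : ℕ}
    (hf : f ∈ 𝒜 d) (hd : 0 < d) (hu : IsUnit (φ f)) :
    X.homOfLE h ≫ chartHom 𝒜 V φ hf hd hu =
      chartHom 𝒜 V' ((X.presheaf.map (homOfLE h).op).hom.comp φ) hf hd
        (hu.map (X.presheaf.map (homOfLE h).op).hom) := by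
  unfold chartHom
  rw [← Scheme.Opens.toSpecΓ_SpecMap_presheaf_map_assoc _ _ h, ← Spec.map_comp_assoc]
  congr 3
  ext a
  have := congrArg (fun ψ => ψ a) (comp_awayLift 𝒜 (X.presheaf.map (homOfLE h).op).hom φ f hu)
  exact this

theorem chartHom_mul (V : X.Opens) (φ φ' : A →+* Γ(X, V)) {f g x : A} {d e : ℕ} (hf : f ∈ 𝒜 d)
    (hd : 0 < d) (hg : g ∈ 𝒜 e) (hx : x = f * g) (hu : IsUnit (φ f)) (hu' : IsUnit (φ' x))
    (u : Γ(X, V)) (hscale : ∀ (n : ℕ) (a : A), a ∈ 𝒜 (n • d) → φ' a = u ^ n * φ a) :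
    chartHom 𝒜 V φ' (hx ▸ SetLike.mul_mem_graded hf hg : x ∈ 𝒜 (d + e))
        (Nat.add_pos_left hd e) hu' = chartHom 𝒜 V φ hf hd hu := by
  unfold chartHom
  rw [← awayLift_comp_awayMap 𝒜 φ φ' hf hg hx hu hu' u hscale, CommRingCat.ofHom_comp,
    Spec.map_comp, Category.assoc, Proj.SpecMap_awayMap_awayι]

/-- **Gluing morphisms to `Proj`** from chartwise ring homomorphisms which differ by the unit
rescalings dictated by the grading. -/
theorem exists_glued_toProj {I : Type*} (V : I → X.Opens) (hV : IsOpenCover V)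
    (f : I → A) (hf : ∀ i, f i ∈ 𝒜 1)
    (φ : ∀ i, A →+* Γ(X, V i)) (h1 : ∀ i, φ i (f i) = 1)
    (hc : ∀ (i j : I) (k : ℕ) (a : A), a ∈ 𝒜 k →
      (X.presheaf.map (homOfLE (inf_le_left : V i ⊓ V j ≤ V i)).op).hom (φ i a) =
        ((X.presheaf.map (homOfLE (inf_le_left : V i ⊓ V j ≤ V i)).op).hom (φ i (f j))) ^ k *
          (X.presheaf.map (homOfLE (inf_le_right : V i ⊓ V j ≤ V j)).op).hom (φ j a)) :
    ∃ r : X ⟶ Proj 𝒜, ∀ i, (V i).ι ≫ r =
      chartHom 𝒜 (V i) (φ i) (hf i) one_pos (by rw [h1]; exact isUnit_one) := by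
  have key : ∀ i j, X.homOfLE (inf_le_left : V i ⊓ V j ≤ V i) ≫
      chartHom 𝒜 (V i) (φ i) (hf i) one_pos (by rw [h1]; exact isUnit_one) =
      X.homOfLE (inf_le_right : V i ⊓ V j ≤ V j) ≫
      chartHom 𝒜 (V j) (φ j) (hf j) one_pos (by rw [h1]; exact isUnit_one) := by
    intro i j
    rw [homOfLE_chartHom, homOfLE_chartHom]
    set ρi := (X.presheaf.map (homOfLE (inf_le_left : V i ⊓ V j ≤ V i)).op).hom with hρi
    set ρj := (X.presheaf.map (homOfLE (inf_le_right : V i ⊓ V j ≤ V j)).op).hom with hρj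
    have hu : IsUnit (ρi (φ i (f j))) := by
      have := hc i j 1 (f i) (hf i)
      rw [h1, map_one, pow_one] at this
      exact IsUnit.of_mul_eq_one _ this.symm
    have hux : IsUnit ((ρi.comp (φ i)) (f i * f j)) := by
      rw [map_mul, RingHom.comp_apply, RingHom.comp_apply, h1, map_one, one_mul]
      exact hu
    have e1 := chartHom_mul 𝒜 (V i ⊓ V j) (ρi.comp (φ i)) (ρi.comp (φ i)) (hf i) one_pos (hf j) rfl
      (by rw [RingHom.comp_apply, h1, map_one]; exact isUnit_one) hux 1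
      (fun n a _ => by rw [one_pow, one_mul])
    have e2 := chartHom_mul 𝒜 (V i ⊓ V j) (ρj.comp (φ j)) (ρi.comp (φ i)) (hf j) one_pos (hf i)
      (mul_comm (f i) (f j))
      (by rw [RingHom.comp_apply, h1, map_one]; exact isUnit_one) hux (ρi (φ i (f j)))
      (fun n a ha => hc i j (n • 1) a ha ▸ by rw [smul_eq_mul, mul_one]; rfl)
    exact e1.symm.trans e2
  let 𝒰 := X.openCoverOfIsOpenCover V hV
  refine ⟨𝒰.glueMorphisms
    (fun i => chartHom 𝒜 (V i) (φ i) (hf i) one_pos (by rw [h1]; exact isUnit_one)) ?_,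
    fun i => 𝒰.ι_glueMorphisms _ _ i⟩
  intro i j
  let e := (isPullback_opens_inf (V i) (V j)).isoPullback
  have hfst : e.hom ≫ pullback.fst (V i).ι (V j).ι = X.homOfLE inf_le_left :=
    (isPullback_opens_inf (V i) (V j)).isoPullback_hom_fst
  have hsnd : e.hom ≫ pullback.snd (V i).ι (V j).ι = X.homOfLE inf_le_right :=
    (isPullback_opens_inf (V i) (V j)).isoPullback_hom_snd
  change pullback.fst (V i).ι (V j).ι ≫ _ = pullback.snd (V i).ι (V j).ι ≫ _
  rw [← cancel_epi e.hom, ← Category.assoc, ← Category.assoc, hfst, hsnd]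
  exact key i j

theorem comp_ι_preimage {Y W : Scheme.{u}} (U : Y.Opens) (h : W ⟶ (U : Scheme.{u})) :
    (h ≫ U.ι) ⁻¹ᵁ U = ⊤ := by
  rw [Scheme.Hom.comp_preimage, Scheme.Opens.ι_preimage_self, Scheme.Hom.preimage_top]

theorem comp_ι_appLE {Y W : Scheme.{u}} (U : Y.Opens) (h : W ⟶ (U : Scheme.{u})) :
    (h ≫ U.ι).appLE U ⊤ (by rw [comp_ι_preimage]) = U.topIso.inv ≫ h.appTop := by
  rw [Scheme.Hom.comp_appLE]
  have h1 : h.appTop = (U : Scheme.{u}).presheaf.map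
      (homOfLE (le_top : U.ι ⁻¹ᵁ U ≤ ⊤)).op ≫ h.appLE (U.ι ⁻¹ᵁ U) ⊤
        (by rw [← Scheme.Hom.comp_preimage, comp_ι_preimage]) := by
    rw [Scheme.Hom.map_appLE]
    exact h.app_eq_appLE
  rw [h1, ← Category.assoc]
  congr 1
  rw [Scheme.Opens.ι_app, Scheme.Opens.topIso]
  change _ = Y.presheaf.map _ ≫ Y.presheaf.map _
  rw [← Functor.map_comp]
  rfl

theorem chartHom_eq (V : X.Opens) (φ : A →+* Γ(X, V)) {f : A} {d : ℕ} (hf : f ∈ 𝒜 d)
    (hd : 0 < d) (hu : IsUnit (φ f)) :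
    chartHom 𝒜 V φ hf hd hu = (V.toSpecΓ ≫ Spec.map (CommRingCat.ofHom (awayLift 𝒜 φ f hu)) ≫
      (Proj.basicOpenIsoSpec 𝒜 f hf hd).inv) ≫ (Proj.basicOpen 𝒜 f).ι := by
  unfold chartHom Proj.awayι
  simp only [Category.assoc]

theorem chartHom_preimage (V : X.Opens) (φ : A →+* Γ(X, V)) {f : A} {d : ℕ} (hf : f ∈ 𝒜 d)
    (hd : 0 < d) (hu : IsUnit (φ f)) :
    chartHom 𝒜 V φ hf hd hu ⁻¹ᵁ Proj.basicOpen 𝒜 f = ⊤ := by
  rw [chartHom_eq, comp_ι_preimage]

/-- The action of `chartHom` on functions over `D_+(f)`: it is the given ring homomorphism. -/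
theorem awayToSection_chartHom_appLE (V : X.Opens) (φ : A →+* Γ(X, V)) {f : A} {d : ℕ}
    (hf : f ∈ 𝒜 d) (hd : 0 < d) (hu : IsUnit (φ f)) :
    Proj.awayToSection 𝒜 f ≫ (chartHom 𝒜 V φ hf hd hu).appLE (Proj.basicOpen 𝒜 f) ⊤
        (by rw [chartHom_preimage]) =
      CommRingCat.ofHom (awayLift 𝒜 φ f hu) ≫ V.topIso.inv := by
  have h0 : (chartHom 𝒜 V φ hf hd hu).appLE (Proj.basicOpen 𝒜 f) ⊤
        (by rw [chartHom_preimage]) =
      ((V.toSpecΓ ≫ Spec.map (CommRingCat.ofHom (awayLift 𝒜 φ f hu)) ≫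
        (Proj.basicOpenIsoSpec 𝒜 f hf hd).inv) ≫ (Proj.basicOpen 𝒜 f).ι).appLE
          (Proj.basicOpen 𝒜 f) ⊤ (by rw [comp_ι_preimage]) := by
    congr 1
  rw [h0, comp_ι_appLE]
  have h1 := Proj.basicOpenToSpec_app_top 𝒜 f
  have h2 : Proj.awayToSection 𝒜 f ≫ (Proj.basicOpen 𝒜 f).topIso.inv =
      (Scheme.ΓSpecIso _).inv ≫ (Proj.basicOpenIsoSpec 𝒜 f hf hd).hom.appTop := by
    rw [Proj.basicOpenIsoSpec_hom, Scheme.Hom.appTop, h1, Iso.inv_hom_id_assoc]
  rw [reassoc_of% h2]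
  simp only [Scheme.Hom.comp_appTop, Category.assoc]
  rw [← Scheme.Hom.comp_appTop_assoc, Iso.inv_hom_id, Scheme.Hom.id_appTop, Category.id_comp,
    Scheme.Opens.toSpecΓ_appTop, ← Scheme.ΓSpecIso_inv_naturality_assoc, Iso.inv_hom_id_assoc]

end ToProj

end Groth.Agent.Lib.Helper29.QCoh
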