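import Groth.Agent.Lib.Helper29.NormGlue
import Groth.Prelude.Def_Pi1
import Mathlib.RingTheory.Norm.Transitivity
import Mathlib.FieldTheory.Minpoly.IsIntegrallyClosed
import Mathlib.RingTheory.LocalProperties.IntegrallyClosed
import Mathlib.AlgebraicGeometry.FunctionField
universe u
open CategoryTheory CategoryTheory.Limits AlgebraicGeometry TopologicalSpace Opposite

namespace Groth.Agent.Lib.Helper29.QCoh

namespace NormalNorm

section Alg
open Polynomial IntermediateField

/-- Norm of an integral element from a finite extension of the fraction field of an integrally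
closed domain: it comes from the base, and the element divides it. -/
theorem exists_norm_eq {A B K L : Type*} [CommRing A] [IsDomain A] [IsIntegrallyClosed A]
    [CommRing B] [IsDomain B] [Field K] [Field L] [Algebra A B] [Algebra A K] [Algebra B L]
    [Algebra K L] [Algebra A L] [IsScalarTower A K L] [IsScalarTower A B L]
    [IsFractionRing A K] [FiniteDimensional K L] [Algebra.IsIntegral A B] (b : B) :
    ∃ a : A, algebraMap A K a = Algebra.norm K (algebraMap B L b) ∧ b ∣ algebraMap A B a := by
  have hb : IsIntegral A b := Algebra.IsIntegral.isIntegral b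
  have hmin : minpoly K (algebraMap B L b) = (minpoly A b).map (algebraMap A K) :=
    minpoly.isIntegrallyClosed_eq_field_fractions K L hb
  have hbK : IsIntegral K (algebraMap B L b) := Algebra.IsIntegral.isIntegral _
  set x : L := algebraMap B L b with hx
  set pb := adjoin.powerBasis hbK with hpb
  have h1 : Algebra.norm K x = Algebra.norm K (AdjoinSimple.gen K x) ^ Module.finrank K⟮x⟯ L :=
    Algebra.norm_eq_norm_adjoin K x
  have h2 : Algebra.norm K (AdjoinSimple.gen K x) = (-1) ^ pb.dim * (minpoly K x).coeff 0 := by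
    have := Algebra.PowerBasis.norm_gen_eq_coeff_zero_minpoly pb
    rw [adjoin.powerBasis_gen, minpoly_gen] at this
    exact this
  set e := Module.finrank K⟮x⟯ L with he
  have he0 : e ≠ 0 := by
    haveI : FiniteDimensional K⟮x⟯ L := FiniteDimensional.right K K⟮x⟯ L
    exact (Module.finrank_pos).ne'
  set c : A := (minpoly A b).coeff 0 with hc
  refine ⟨((-1) ^ pb.dim * c) ^ e, ?_, ?_⟩
  · rw [h1, h2, hmin, coeff_map, map_pow, map_mul, map_pow, map_neg, map_one]
  · have h3 : aeval b (minpoly A b) = 0 := minpoly.aeval A b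
    have h4 : (minpoly A b).divX * X + C c = minpoly A b := divX_mul_X_add _
    rw [← h4, map_add, map_mul, aeval_X, aeval_C] at h3
    have h5 : b ∣ algebraMap A B c := by
      refine ⟨-(aeval b (minpoly A b).divX), ?_⟩
      have : algebraMap A B c = -((aeval b) (minpoly A b).divX * b) := eq_neg_of_add_eq_zero_right h3
      rw [this]
      ring
    rw [map_pow, map_mul]
    exact (h5.mul_left _).pow he0

end Alg

section Sch
variable {X Y : Scheme.{u}} (π : X ⟶ Y) [IsIntegral X] [IsIntegral Y]

theorem map_genericPoint [Surjective π] : π.base (genericPoint X) = genericPoint Y := by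
  have h1 : IsGenericPoint (π.base (genericPoint X)) (closure (π.base '' Set.univ)) :=
    (genericPoint_spec X).image π.base.hom.continuous
  rw [Set.image_univ, π.surjective.range_eq, closure_univ] at h1
  exact ((genericPoint_spec Y).eq h1).symm

/-- sections over an affine open of a normal integral scheme form an integrally closed domain -/
theorem isIntegrallyClosed_of_isAffineOpen
    (hY : ∀ y : Y, IsIntegrallyClosed (Y.presheaf.stalk y)) {U : Y.Opens} (hU : IsAffineOpen U)
    [Nonempty U] : IsIntegrallyClosed Γ(Y, U) := by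
  let inst : ∀ x : PrimeSpectrum Γ(Y, U), Algebra Γ(Y, U) (Y.presheaf.stalk (hU.fromSpec x)) :=
    fun x => TopCat.Presheaf.algebra_section_stalk Y.presheaf _
  have (P : Ideal Γ(Y, U)) [hP : P.IsPrime] : IsLocalization.AtPrime
      (Y.presheaf.stalk (hU.fromSpec ⟨P, hP⟩)) P :=
    hU.isLocalization_stalk' ⟨P, hP⟩ (hU.isoSpec.inv _).2
  exact IsIntegrallyClosed.of_isLocalization_maximal
    (fun P hP => Y.presheaf.stalk (hU.fromSpec ⟨P, hP.isPrime⟩)) (fun P hP => hY _)

variable (hgen : π.base (genericPoint X) = genericPoint Y)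

include hgen in
theorem mem_preimage {V : Y.Opens} (hV : genericPoint Y ∈ V) : genericPoint X ∈ π ⁻¹ᵁ V := by
  change π.base (genericPoint X) ∈ V
  rw [hgen]
  exact hV

/-- functions on `V` as rational functions on `Y` -/
noncomputable def toK (V : Y.Opens) (hV : genericPoint Y ∈ V) : Γ(Y, V) →+* Y.functionField :=
  (Y.presheaf.germ V (genericPoint Y) hV).hom

/-- functions on `π⁻¹ V` as rational functions on `X` -/
noncomputable def toL (V : Y.Opens) (hV : genericPoint Y ∈ V) :
    Γ(X, π ⁻¹ᵁ V) →+* X.functionField :=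
  (X.presheaf.germ (π ⁻¹ᵁ V) (genericPoint X) (mem_preimage π hgen hV)).hom

/-- the extension of function fields -/
noncomputable def fieldMap : Y.functionField →+* X.functionField :=
  (π.stalkMap (genericPoint X)).hom.comp
    (Y.presheaf.stalkSpecializes (specializes_of_eq hgen)).hom

theorem fieldMap_toK (V : Y.Opens) (hV : genericPoint Y ∈ V) (a : Γ(Y, V)) :
    fieldMap π hgen (toK V hV a) = toL π hgen V hV ((π.app V).hom a) := by
  unfold fieldMap toK toL
  rw [RingHom.comp_apply]
  have h1 : (Y.presheaf.stalkSpecializes (specializes_of_eq hgen)).hom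
      ((Y.presheaf.germ V (genericPoint Y) hV).hom a) =
      (Y.presheaf.germ V (π.base (genericPoint X)) (mem_preimage π hgen hV)).hom a :=
    TopCat.Presheaf.germ_stalkSpecializes_apply Y.presheaf hV (specializes_of_eq hgen) a
  rw [h1]
  exact Scheme.Hom.germ_stalkMap_apply π V (genericPoint X) (mem_preimage π hgen hV) a

theorem toK_injective (V : Y.Opens) (hV : genericPoint Y ∈ V) : Function.Injective (toK V hV) :=
  germ_injective_of_isIntegral Y (genericPoint Y) hV

theorem toL_injective (V : Y.Opens) (hV : genericPoint Y ∈ V) :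
    Function.Injective (toL π hgen V hV) :=
  germ_injective_of_isIntegral X (genericPoint X) (mem_preimage π hgen hV)

theorem toK_res {V D : Y.Opens} (h : D ≤ V) (hD : genericPoint Y ∈ D) (a : Γ(Y, V)) :
    toK D hD (resO h a) = toK V (h hD) a :=
  TopCat.Presheaf.germ_res_apply Y.presheaf (homOfLE h) (genericPoint Y) hD a

theorem toL_res {V D : Y.Opens} (h : D ≤ V) (hD : genericPoint Y ∈ D) (b : Γ(X, π ⁻¹ᵁ V)) :
    toL π hgen D hD (NormGlue.resZ π h b) = toL π hgen V (h hD) b :=
  TopCat.Presheaf.germ_res_apply X.presheaf (homOfLE (π.preimage_mono h)) (genericPoint X)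
    (mem_preimage π hgen hD) b

end Sch


section Core
variable {X Y : Scheme.{u}} (π : X ⟶ Y) [IsFinite π] [IsIntegral X] [IsIntegral Y]
  (hgen : π.base (genericPoint X) = genericPoint Y)

/-- the norm on rational functions -/
noncomputable def normKL : X.functionField →* Y.functionField :=
  letI := (fieldMap π hgen).toAlgebra
  Algebra.norm Y.functionField

include hgen in
theorem app_injective {V : Y.Opens} (hη : genericPoint Y ∈ V) :
    Function.Injective (π.app V).hom := by
  intro a a' h
  apply toK_injective V hη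
  apply (fieldMap π hgen).injective
  rw [fieldMap_toK, fieldMap_toK, h]

theorem finiteDimensional :
    letI := (fieldMap π hgen).toAlgebra
    FiniteDimensional Y.functionField X.functionField := by
  obtain ⟨V, hV, hη, -⟩ := Opens.isBasis_iff_nbhd.mp Y.isBasis_affineOpens
    (show genericPoint Y ∈ (⊤ : Y.Opens) from trivial)
  have hV : IsAffineOpen V := hV
  haveI : Nonempty V := ⟨⟨_, hη⟩⟩
  haveI : Nonempty (π ⁻¹ᵁ V : X.Opens) := ⟨⟨_, mem_preimage π hgen hη⟩⟩
  letI : Algebra Y.functionField X.functionField := (fieldMap π hgen).toAlgebra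
  letI a1 : Algebra Γ(Y, V) Γ(X, π ⁻¹ᵁ V) := (π.app V).hom.toAlgebra
  letI a4 : Algebra Γ(Y, V) X.functionField :=
    ((fieldMap π hgen).comp (toK V hη)).toAlgebra
  haveI : IsScalarTower Γ(Y, V) Y.functionField X.functionField :=
    .of_algebraMap_eq fun _ => rfl
  haveI : IsScalarTower Γ(Y, V) Γ(X, π ⁻¹ᵁ V) X.functionField :=
    .of_algebraMap_eq fun a => fieldMap_toK π hgen V hη a
  haveI : IsFractionRing Γ(Y, V) Y.functionField :=
    functionField_isFractionRing_of_isAffineOpen Y V hV
  haveI : IsFractionRing Γ(X, π ⁻¹ᵁ V) X.functionField :=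
    functionField_isFractionRing_of_isAffineOpen X (π ⁻¹ᵁ V) (hV.preimage π)
  haveI : Module.Finite Γ(Y, V) Γ(X, π ⁻¹ᵁ V) := IsFinite.finite_app π V hV
  haveI : FaithfulSMul Γ(Y, V) Γ(X, π ⁻¹ᵁ V) :=
    (faithfulSMul_iff_algebraMap_injective _ _).mpr (app_injective π hgen hη)
  exact Module.Finite.of_isLocalization Γ(Y, V) Γ(X, π ⁻¹ᵁ V) (nonZeroDivisors Γ(Y, V))

variable (hY : ∀ y : Y, IsIntegrallyClosed (Y.presheaf.stalk y))

include hY in
theorem exists_local {V : Y.Opens} (hV : IsAffineOpen V) (hη : genericPoint Y ∈ V)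
    (b : Γ(X, π ⁻¹ᵁ V)) :
    ∃ a : Γ(Y, V), toK V hη a = normKL π hgen (toL π hgen V hη b) ∧ b ∣ (π.app V).hom a := by
  haveI : Nonempty V := ⟨⟨_, hη⟩⟩
  haveI : Nonempty (π ⁻¹ᵁ V : X.Opens) := ⟨⟨_, mem_preimage π hgen hη⟩⟩
  letI : Algebra Y.functionField X.functionField := (fieldMap π hgen).toAlgebra
  letI a1 : Algebra Γ(Y, V) Γ(X, π ⁻¹ᵁ V) := (π.app V).hom.toAlgebra
  letI a4 : Algebra Γ(Y, V) X.functionField :=
    ((fieldMap π hgen).comp (toK V hη)).toAlgebra
  haveI : IsScalarTower Γ(Y, V) Y.functionField X.functionField :=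
    .of_algebraMap_eq fun _ => rfl
  haveI : IsScalarTower Γ(Y, V) Γ(X, π ⁻¹ᵁ V) X.functionField :=
    .of_algebraMap_eq fun a => fieldMap_toK π hgen V hη a
  haveI : IsFractionRing Γ(Y, V) Y.functionField :=
    functionField_isFractionRing_of_isAffineOpen Y V hV
  haveI : IsIntegrallyClosed Γ(Y, V) := isIntegrallyClosed_of_isAffineOpen hY hV
  haveI : FiniteDimensional Y.functionField X.functionField := finiteDimensional π hgen
  haveI : Module.Finite Γ(Y, V) Γ(X, π ⁻¹ᵁ V) := IsFinite.finite_app π V hV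
  exact exists_norm_eq (A := Γ(Y, V)) (B := Γ(X, π ⁻¹ᵁ V)) (K := Y.functionField)
    (L := X.functionField) b

end Core


section Main
variable {X Y : Scheme.{u}} (π : X ⟶ Y) [IsFinite π] [IsIntegral X] [IsIntegral Y]
  (hgen : π.base (genericPoint X) = genericPoint Y)

/-- good opens: affine and nonempty -/
def Good (V : Y.Opens) : Prop := IsAffineOpen V ∧ genericPoint Y ∈ V

theorem good_cover (W : Y.Opens) (x : Y) (hx : x ∈ W) : ∃ V, Good V ∧ x ∈ V ∧ V ≤ W := by
  obtain ⟨V, hV, hxV, hVW⟩ := Opens.isBasis_iff_nbhd.mp Y.isBasis_affineOpens hx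
  refine ⟨V, ⟨hV, ?_⟩, hxV, hVW⟩
  exact ((genericPoint_spec Y).mem_open_set_iff V.isOpen).mpr ⟨x, trivial, hxV⟩

open scoped Classical in
/-- the local norm -/
noncomputable def nV (V : Y.Opens) (b : Γ(X, π ⁻¹ᵁ V)) : Γ(Y, V) :=
  if h : ∃ (hη : genericPoint Y ∈ V) (a : Γ(Y, V)),
      toK V hη a = normKL π hgen (toL π hgen V hη b) then h.choose_spec.choose else 0

variable (hY : ∀ y : Y, IsIntegrallyClosed (Y.presheaf.stalk y))

include hY in
theorem toK_nV {V : Y.Opens} (hV : Good (Y := Y) V) (b : Γ(X, π ⁻¹ᵁ V)) :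
    toK V hV.2 (nV π hgen V b) = normKL π hgen (toL π hgen V hV.2 b) := by
  obtain ⟨a, ha, -⟩ := exists_local π hgen hY hV.1 hV.2 b
  have h : ∃ (hη : genericPoint Y ∈ V) (a : Γ(Y, V)),
      toK V hη a = normKL π hgen (toL π hgen V hη b) := ⟨hV.2, a, ha⟩
  rw [nV, dif_pos h]
  exact h.choose_spec.choose_spec

include hY in
theorem dvd_nV {V : Y.Opens} (hV : Good (Y := Y) V) (b : Γ(X, π ⁻¹ᵁ V)) :
    b ∣ (π.app V).hom (nV π hgen V b) := by
  obtain ⟨a, ha, hd⟩ := exists_local π hgen hY hV.1 hV.2 b
  have : nV π hgen V b = a := toK_injective V hV.2 ((toK_nV π hgen hY hV b).trans ha.symm)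
  rw [this]
  exact hd

include hY in
theorem hasNorm : Nrm.HasNorm π
    (letI := (fieldMap π hgen).toAlgebra; Module.finrank Y.functionField X.functionField) := by
  letI : Algebra Y.functionField X.functionField := (fieldMap π hgen).toAlgebra
  haveI : FiniteDimensional Y.functionField X.functionField := finiteDimensional π hgen
  refine NormGlue.hasNorm_of_local π (Good (Y := Y)) good_cover (nV π hgen) ?_ _
    Module.finrank_pos ?_ ?_ ?_ ?_
  · intro V D hV hD h s
    apply toK_injective D hD.2
    rw [toK_nV π hgen hY hD, toL_res, toK_res, toK_nV π hgen hY hV]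
  · intro V hV
    apply toK_injective V hV.2
    rw [toK_nV π hgen hY hV, map_one, map_one, map_one]
  · intro V hV a b
    apply toK_injective V hV.2
    rw [map_mul, toK_nV π hgen hY hV, toK_nV π hgen hY hV, toK_nV π hgen hY hV, map_mul, map_mul]
  · intro V hV g
    apply toK_injective V hV.2
    rw [toK_nV π hgen hY hV, ← fieldMap_toK, map_pow]
    exact Algebra.norm_algebraMap (toK V hV.2 g)
  · intro V hV s x hx hs
    obtain ⟨w, hw⟩ := dvd_nV π hgen hY hV s
    rw [IsLocalRing.mem_maximalIdeal, mem_nonunits_iff]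
    intro hu
    have h1 := hu.map (π.stalkMap x).hom
    have h2 : (π.stalkMap x).hom (Y.presheaf.germ V (π.base x) hx (nV π hgen V s)) =
        X.presheaf.germ (π ⁻¹ᵁ V) x hx ((π.app V).hom (nV π hgen V s)) :=
      Scheme.Hom.germ_stalkMap_apply π V x hx _
    rw [h2, hw, map_mul] at h1
    have h3 : X.presheaf.germ (π ⁻¹ᵁ V) x hx s * X.presheaf.germ (π ⁻¹ᵁ V) x hx w ∈
        IsLocalRing.maximalIdeal (X.presheaf.stalk x) := Ideal.mul_mem_right _ _ hs
    rw [IsLocalRing.mem_maximalIdeal, mem_nonunits_iff] at h3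
    exact h3 h1

end Main

theorem exists_hasNorm {X Y : Scheme.{u}} (π : X ⟶ Y) [IsFinite π] [Surjective π]
    [IsIntegral X] [IsIntegral Y] (hY : Pi1.IsNormalScheme Y) : ∃ d : ℕ, Nrm.HasNorm π d :=
  ⟨_, hasNorm π (map_genericPoint π) fun y => (hY y).2⟩

end NormalNorm

end Groth.Agent.Lib.Helper29.QCoh
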