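import Groth.Agent.Lib.Helper29.Desc2
universe u
open CategoryTheory CategoryTheory.Limits AlgebraicGeometry TopologicalSpace Opposite

namespace Groth.Agent.Lib.Helper29.Desc
open Groth.Agent.Lib.Helper29.QCoh Groth.Agent.Lib.Helper29.QCoh.Glue Groth.Agent.Lib.Helper29.Punct
open Groth.Agent.Lib.Helper29

variable {X Y : Scheme.{u}}

/-- Two trivialising sections differ by a unit. -/
theorem IsTriv.exists_isUnit_smul {L : X.Modules} {U : X.Opens} {e e' : Γ(L, U)}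
    (he : IsTriv L U e) (he' : IsTriv L U e') : ∃ u : Γ(X, U), IsUnit u ∧ e' = u • e := by
  obtain ⟨u, hu⟩ := he.exists_eq_smul e'
  obtain ⟨u', hu'⟩ := he'.exists_eq_smul e
  refine ⟨u, ?_, hu⟩
  have h1 : (u' * u) • e = (1 : Γ(X, U)) • e := by
    rw [mul_smul, ← hu, ← hu', one_smul]
  have h2 : u' * u = 1 := he.smul_left_cancel h1
  exact IsUnit.of_mul_eq_one u' (by rw [mul_comm]; exact h2)

/-- Step 2: the local data at a point outside `V'`. -/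
theorem exists_local_data (f : X ⟶ Y) [IsFinite f] [NoetherianSpace Y]
    (hdim : topologicalKrullDim Y ≤ 1) (V : Y.Opens) (hfV : IsClosedImmersion (f ∣_ V))
    (L : X.Modules) (hL : PicF.IsInvertible L) (V' : Y.Opens) (hV'V : V' ≤ V)
    (hgen : ∀ η ∈ genericPoints Y, η ∈ V') (eV : Γ(L, f ⁻¹ᵁ V')) (heV : IsTriv L (f ⁻¹ᵁ V') eV)
    (y : Y) (hy : y ∉ V') :
    ∃ (W : Y.Opens) (ũ : Γ(Y, W ⊓ V')) (e : Γ(L, f ⁻¹ᵁ W)), y ∈ W ∧ IsUnit ũ ∧
      IsTriv L (f ⁻¹ᵁ W) e ∧ (∀ z ∈ W, z ∉ V' → z = y) ∧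
      res L (f.preimage_mono (inf_le_left : W ⊓ V' ≤ W)) e =
        f.app (W ⊓ V') ũ • res L (f.preimage_mono (inf_le_right : W ⊓ V' ≤ V')) eV := by
  classical
  -- the complement of V' is a finite set of closed points
  obtain ⟨hTfin, hTcl⟩ := Dim1.finite_of_isClosed_of_disjoint_genericPoints hdim
    (T := ((V' : Set Y))ᶜ) V'.isOpen.isClosed_compl (fun z hz hzg => hz (hgen z hzg))
  have hOcl : IsClosed (((V' : Set Y))ᶜ \ {y}) := by
    have : ((V' : Set Y))ᶜ \ {y} = ⋃ z ∈ ((V' : Set Y))ᶜ \ {y}, {z} := by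
      ext z; simp
    rw [this]
    exact (hTfin.subset Set.sdiff_subset).isClosed_biUnion (fun z hz => hTcl z hz.1)
  let O : Y.Opens := ⟨(((V' : Set Y))ᶜ \ {y})ᶜ, hOcl.isOpen_compl⟩
  have hyO : y ∈ O := fun h => h.2 rfl
  have hO : ∀ z ∈ O, z ∉ V' → z = y := by
    intro z hz hzV'
    by_contra hne
    exact hz ⟨hzV', hne⟩
  have hfin := Dim1.finite_generizations hdim y
  have hNV' : NoetherianSpace ↥(V' : Scheme.{u}) :=
    inferInstanceAs (NoetherianSpace ((V' : Set Y)))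
  have hqc : QuasiCompact V'.ι := inferInstance
  obtain ⟨W₀, f₀, hW₀, hyW₀, hW₀O, hf₀⟩ := exists_local_equation Y V' y hy O hyO hO hfin
  -- trivialise L over the preimage of a neighbourhood
  obtain ⟨V₀, hyV₀, h0⟩ := exists_nhd_trivial_preimage_of_isFinite f hL y
  obtain ⟨s₀, hs₀⟩ := (nonempty_iso_unit_iff_exists_isTriv _).mp h0
  obtain ⟨h₀, hh₀V₀, hyh₀⟩ := hW₀.exists_basicOpen_le (V := V₀) ⟨y, hyV₀⟩ hyW₀
  set W₁ : Y.Opens := Y.basicOpen h₀ with hW₁def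
  have hW₁ : IsAffineOpen W₁ := hW₀.basicOpen h₀
  have hW₁W₀ : W₁ ≤ W₀ := Y.basicOpen_le h₀
  set f₁ : Γ(Y, W₁) := Y.presheaf.map (homOfLE hW₁W₀).op f₀ with hf₁def
  have hf₁ : Y.basicOpen f₁ = W₁ ⊓ V' := by
    rw [hf₁def, Scheme.basicOpen_res, hf₀, ← inf_assoc, inf_eq_left.mpr hW₁W₀]
  obtain ⟨e₁, he₁⟩ : ∃ e₁ : Γ(L, f ⁻¹ᵁ W₁), IsTriv L (f ⁻¹ᵁ W₁) e₁ :=
    ⟨res L (f.preimage_mono hh₀V₀) s₀, hs₀.restrict _⟩
  set D₁ : Y.Opens := Y.basicOpen f₁ with hD₁def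
  have hD₁ : IsAffineOpen D₁ := hW₁.basicOpen f₁
  have hD₁W₁ : D₁ ≤ W₁ := Y.basicOpen_le f₁
  have hD₁V' : D₁ ≤ V' := by rw [hf₁]; exact inf_le_right
  have hyD₁ : y ∉ D₁ := fun h => hy (hD₁V' h)
  -- compare the two generators over D₁
  obtain ⟨u, hu, hue⟩ := IsTriv.exists_isUnit_smul
    (heV.restrict (f.preimage_mono hD₁V')) (he₁.restrict (f.preimage_mono hD₁W₁))
  have hsurj := app_surjective_of_isClosedImmersion f V hfV hD₁ (hD₁V'.trans hV'V)
  -- the generizations of y in D₁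
  let Zs : Set Y := {z | z ∈ D₁ ∧ z ⤳ y}
  have hZfin : Zs.Finite := hfin.subset (fun z hz => hz.2)
  have hZgen : ∀ z ∈ Zs, z ∈ genericPoints Y := by
    intro z hz
    rcases Dim1.eq_or_mem_genericPoints hdim hz.2 with h | h
    · exact absurd (h ▸ hz.1) hyD₁
    · exact h
  obtain ⟨b, hbu, hbZ⟩ := exists_unit_lift f hD₁ hsurj u hu Zs hZfin (fun z hz => hz.1)
    (fun z _ z' hz' hzz' => Dim1.eq_of_specializes_of_mem_genericPoints (hZgen z' hz') hzz')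
  obtain ⟨h, hyh, hle⟩ := exists_basicOpen_inf_le hW₁ f₁ (Y.basicOpen b) y hyh₀
    (fun z hz hzy => hbZ z ⟨hz, hzy⟩)
  have hWW₁ : Y.basicOpen h ≤ W₁ := Y.basicOpen_le h
  have hWD₁ : Y.basicOpen h ⊓ V' ≤ D₁ := by
    rintro z ⟨hzh, hzV'⟩
    have : z ∈ W₁ ⊓ V' := ⟨hWW₁ hzh, hzV'⟩
    rw [← hf₁] at this
    exact this
  have hWb : Y.basicOpen h ⊓ V' ≤ Y.basicOpen b := by
    rintro z ⟨hzh, hzV'⟩
    exact hle ⟨hzh, hWD₁ ⟨hzh, hzV'⟩⟩
  refine ⟨Y.basicOpen h, rres Y hWD₁ b, res L (f.preimage_mono hWW₁) e₁, hyh,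
    (isUnit_rres_iff hWD₁ b).mpr hWb, he₁.restrict _, ?_, ?_⟩
  · intro z hz hzV'
    exact hO z (hW₀O (hW₁W₀ (hWW₁ hz))) hzV'
  · have h1 := congrArg (res L (f.preimage_mono hWD₁)) hue
    rw [res_res, res_smul', res_res] at h1
    rw [res_res, h1]
    congr 1
    have h2 := app_map_apply f hWD₁ b
    rw [hbu] at h2
    exact h2.symm


/-- **Stacks 0C0S-type**: a finite morphism to a Noetherian scheme of dimension `≤ 1` which is a
closed immersion over a dense open: every invertible module upstairs is a pullback. -/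
theorem exists_descent_of_isClosedImmersion (f : X ⟶ Y) [IsFinite f] [NoetherianSpace Y]
    (hdim : topologicalKrullDim Y ≤ 1) (V : Y.Opens) (hV : Dense (V : Set Y))
    (hfV : IsClosedImmersion (f ∣_ V)) (L : X.Modules) (hL : PicF.IsInvertible L) :
    ∃ N : Y.Modules, PicF.IsInvertible N ∧ Nonempty ((Scheme.Modules.pullback f).obj N ≅ L) := by
  obtain ⟨V', eV, hV'V, hgen, heV⟩ := exists_dense_trivial f V hV L hL
  have key : ∀ y : Y, ∃ (W : Y.Opens) (ũ : Γ(Y, W ⊓ V')) (e : Γ(L, f ⁻¹ᵁ W)), y ∈ W ∧ IsUnit ũ ∧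
      IsTriv L (f ⁻¹ᵁ W) e ∧ (y ∈ V' → W ≤ V') ∧ (y ∉ V' → ∀ z ∈ W, z ∉ V' → z = y) ∧
      res L (f.preimage_mono (inf_le_left : W ⊓ V' ≤ W)) e =
        f.app (W ⊓ V') ũ • res L (f.preimage_mono (inf_le_right : W ⊓ V' ≤ V')) eV := by
    intro y
    by_cases hy : y ∈ V'
    · refine ⟨V', 1, eV, hy, isUnit_one, heV, fun _ => le_rfl, fun h => absurd hy h, ?_⟩
      rw [map_one, one_smul]
    · obtain ⟨W, ũ, e, hyW, hũ, he, hiso, hrel⟩ :=
        exists_local_data f hdim V hfV L hL V' hV'V hgen eV heV y hy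
      exact ⟨W, ũ, e, hyW, hũ, he, fun h => absurd h hy, fun _ => hiso, hrel⟩
  choose W ũ e hyW hũ he hWV hWy hrel using key
  have H1 : ∀ i j, i ≠ j → W i ⊓ W j ≤ V' := by
    intro i j hij y hy
    by_contra hyU
    have hi : i ∉ V' := fun hi => hyU (hWV i hi hy.1)
    have hj : j ∉ V' := fun hj => hyU (hWV j hj hy.2)
    exact hij ((hWy i hi y hy.1 hyU).symm.trans (hWy j hj y hy.2 hyU))
  have H2 : ∀ i, IsTriv (unitM Y) (W i ⊓ V') (toUnit (ũ i)) := fun i =>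
    isTriv_toUnit_of_isUnit _ (hũ i)
  obtain ⟨N, e', hN, he', htr, -⟩ := exists_extension V' (unitM Y) W (fun i => toUnit (ũ i))
    (fun y => ⟨y, hyW y⟩) H1 H2
  refine ⟨N, hN, exists_pullback_iso f N L W (fun y => ⟨y, hyW y⟩) e' he' e he (fun i j => ?_)⟩
  by_cases hij : i = j
  · subst hij
    exact ⟨1, by rw [one_smul], by rw [map_one, one_smul]⟩
  · have hW := H1 i j hij
    obtain ⟨vj, hvj⟩ : ∃ v : Γ(Y, W j ⊓ V'), ũ j * v = 1 :=
      ⟨↑(hũ j).unit⁻¹, (hũ j).mul_val_inv⟩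
    set A : Γ(Y, W i ⊓ W j) :=
      rres Y (le_inf inf_le_left hW : W i ⊓ W j ≤ W i ⊓ V') (ũ i) with hA
    set B : Γ(Y, W i ⊓ W j) :=
      rres Y (le_inf inf_le_right hW : W i ⊓ W j ≤ W j ⊓ V') (ũ j) with hB
    set C : Γ(Y, W i ⊓ W j) :=
      rres Y (le_inf inf_le_right hW : W i ⊓ W j ≤ W j ⊓ V') vj with hC
    have hBC : B * C = 1 := by
      have := congrArg (rres Y (le_inf inf_le_right hW : W i ⊓ W j ≤ W j ⊓ V')) hvj
      rw [map_mul, map_one] at this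
      exact this
    refine ⟨A * C, htr j i (W i ⊓ W j) hW inf_le_right inf_le_left (A * C) ?_, ?_⟩
    · change A = (A * C) * B
      linear_combination (-A) * hBC
    · have hi := congrArg
        (res L (f.preimage_mono (le_inf inf_le_left hW : W i ⊓ W j ≤ W i ⊓ V'))) (hrel i)
      have hj := congrArg
        (res L (f.preimage_mono (le_inf inf_le_right hW : W i ⊓ W j ≤ W j ⊓ V'))) (hrel j)
      rw [res_res, res_smul', res_res] at hi hj
      have hAi : rres X (f.preimage_mono (le_inf inf_le_left hW : W i ⊓ W j ≤ W i ⊓ V'))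
          (f.app (W i ⊓ V') (ũ i)) = f.app (W i ⊓ W j) A := (app_map_apply f _ (ũ i)).symm
      have hBj : rres X (f.preimage_mono (le_inf inf_le_right hW : W i ⊓ W j ≤ W j ⊓ V'))
          (f.app (W j ⊓ V') (ũ j)) = f.app (W i ⊓ W j) B := (app_map_apply f _ (ũ j)).symm
      rw [hAi] at hi
      rw [hBj] at hj
      rw [hi, hj, smul_smul, ← map_mul]
      congr 2
      linear_combination (-A) * hBC

end Groth.Agent.Lib.Helper29.Desc
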