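import Groth.Agent.Lib.Helper29.EffC1
import Mathlib
universe u
open CategoryTheory CategoryTheory.Limits AlgebraicGeometry TopologicalSpace Opposite

/-! # Closed subschemes without embedded points, of codimension one, with factorial local rings -/

namespace Groth.Agent.Lib.Helper29.EffC
open Groth.Agent.Lib.Helper10.DivLocal

section Algebra

variable {S : Type u} [CommRing S] [IsDomain S] [IsNoetherianRing S] [UniqueFactorizationMonoid S]

theorem exists_span_singleton_of_ass_height_one_aux :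
    ∀ (n : ℕ) (J : Ideal S) (a : S), a ≠ 0 → a ∈ J →
      Multiset.card (UniqueFactorizationMonoid.factors a) = n →
      (∀ P ∈ associatedPrimes S (S ⧸ J), P.height = 1) →
      ∃ g : S, g ≠ 0 ∧ J = Ideal.span {g} := by
  intro n
  induction n with
  | zero =>
    intro J a ha haJ hcard _
    have hunit : IsUnit a := by
      rw [Multiset.card_eq_zero] at hcard
      exact (UniqueFactorizationMonoid.factors_eq_zero ha).mp hcard
    refine ⟨1, one_ne_zero, ?_⟩
    rw [Ideal.span_singleton_one]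
    exact Ideal.eq_top_of_isUnit_mem _ haJ hunit
  | succ n ih =>
    intro J a ha haJ hcard hass
    by_cases hJtop : J = ⊤
    · exact ⟨1, one_ne_zero, by rw [Ideal.span_singleton_one, hJtop]⟩
    have : Nontrivial (S ⧸ J) := Ideal.Quotient.nontrivial_iff.mpr hJtop
    obtain ⟨P, hP⟩ := associatedPrimes.nonempty S (S ⧸ J)
    have hPprime : P.IsPrime := hP.isPrime
    have hPh := hass P hP
    have hJP : J ≤ P := by
      have := hP.annihilator_le
      rwa [Submodule.annihilator_top, Ideal.annihilator_quotient] at this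
    obtain ⟨ρ, hρP, hρ⟩ :=
      Ideal.IsPrime.exists_mem_prime_of_ne_bot hPprime (Ideal.ne_bot_of_height_eq_one hPh)
    have hPρ : P = Ideal.span {ρ} := Ideal.eq_span_singleton_of_height_eq_one hPh hρP hρ
    obtain ⟨a₁, rfl⟩ : ρ ∣ a := by
      have : a ∈ Ideal.span {ρ} := hPρ ▸ hJP haJ
      exact Ideal.mem_span_singleton.mp this
    have ha₁ : a₁ ≠ 0 := right_ne_zero_of_mul ha
    let J₁ : Ideal S := Submodule.colon J {ρ}
    have hmemJ₁ : ∀ s, s ∈ J₁ ↔ s * ρ ∈ J := fun s => by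
      show s ∈ Submodule.colon J {ρ} ↔ _
      rw [Submodule.mem_colon_singleton]; rfl
    have ha₁J₁ : a₁ ∈ J₁ := (hmemJ₁ a₁).mpr (by rwa [mul_comm])
    have hcard₁ : Multiset.card (UniqueFactorizationMonoid.factors a₁) = n := by
      have h1 := Multiset.card_eq_card_of_rel
        (UniqueFactorizationMonoid.factors_mul hρ.ne_zero ha₁)
      obtain ⟨b, -, hb⟩ :=
        UniqueFactorizationMonoid.factors_eq_singleton_of_irreducible hρ.irreducible
      rw [Multiset.card_add, hb, Multiset.card_singleton, hcard] at h1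
      omega
    have hsub : associatedPrimes S (S ⧸ J₁) ⊆ associatedPrimes S (S ⧸ J) := by
      let f : (S ⧸ J₁) →ₗ[S] (S ⧸ J) := Submodule.mapQ J₁ J (LinearMap.mulRight S ρ)
        (fun s hs => by
          show (LinearMap.mulRight S ρ) s ∈ J
          simpa using (hmemJ₁ s).mp hs)
      apply associatedPrimes.subset_of_injective (f := f)
      rw [← LinearMap.ker_eq_bot, LinearMap.ker_eq_bot']
      intro t ht
      obtain ⟨s, rfl⟩ := Submodule.Quotient.mk_surjective _ t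
      have h2 : Submodule.Quotient.mk (s * ρ) = (0 : S ⧸ J) := ht
      rw [Submodule.Quotient.mk_eq_zero] at h2 ⊢
      exact (hmemJ₁ s).mpr h2
    obtain ⟨g₁, hg₁, hJ₁⟩ := ih J₁ a₁ ha₁ ha₁J₁ hcard₁ (fun Q hQ => hass Q (hsub hQ))
    refine ⟨ρ * g₁, mul_ne_zero hρ.ne_zero hg₁, ?_⟩
    apply le_antisymm
    · intro j hj
      have hjP : j ∈ Ideal.span {ρ} := hPρ ▸ hJP hj
      obtain ⟨s, rfl⟩ := Ideal.mem_span_singleton.mp hjP
      have hs : s ∈ J₁ := (hmemJ₁ s).mpr (by rwa [mul_comm])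
      rw [hJ₁] at hs
      obtain ⟨t, rfl⟩ := Ideal.mem_span_singleton.mp hs
      exact Ideal.mem_span_singleton.mpr ⟨t, by ring⟩
    · rw [Ideal.span_singleton_le_iff_mem]
      have h3 : g₁ ∈ J₁ := hJ₁ ▸ Ideal.mem_span_singleton_self g₁
      have h4 := (hmemJ₁ g₁).mp h3
      rwa [mul_comm] at h4

/-- In a Noetherian factorial domain, an ideal all of whose associated primes have height one
is principal, generated by a nonzero element. -/
theorem exists_span_singleton_of_ass_height_one (J : Ideal S)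
    (hass : ∀ P ∈ associatedPrimes S (S ⧸ J), P.height = 1) :
    ∃ g : S, g ≠ 0 ∧ J = Ideal.span {g} := by
  by_cases hJ0 : J = ⊥
  · exfalso
    subst hJ0
    have hprim : (⊥ : Ideal S).IsPrimary := Ideal.IsPrime.isPrimary Ideal.isPrime_bot
    have hset := associatedPrimes.eq_singleton_of_isPrimary hprim
    have hmem : (⊥ : Ideal S).radical ∈ associatedPrimes S (S ⧸ (⊥ : Ideal S)) := by
      rw [hset]; exact Set.mem_singleton _
    have h1 := hass _ hmem
    rw [Ideal.isPrime_bot.radical, Ideal.height_bot] at h1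
    exact zero_ne_one h1
  · obtain ⟨a, haJ, ha⟩ := Submodule.exists_mem_ne_zero_of_ne_bot hJ0
    exact exists_span_singleton_of_ass_height_one_aux _ J a ha haJ rfl hass

end Algebra

/-- Associated primes of the extension of an ideal to a localisation at a prime have height one if
those of the ideal do. -/
theorem height_eq_one_of_mem_associatedPrimes_map {A : Type u} [CommRing A] [IsNoetherianRing A]
    (S : Type u) [CommRing S] [Algebra A S] (p : Ideal A) [p.IsPrime] [IsLocalization.AtPrime S p]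
    (I : Ideal A) (h : ∀ q ∈ associatedPrimes A (A ⧸ I), q.height = 1) :
    ∀ P ∈ associatedPrimes S (S ⧸ I.map (algebraMap A S)), P.height = 1 := by
  intro P hP
  have hJ : Submodule.localized' S p.primeCompl (Algebra.linearMap A S) I =
      I.map (algebraMap A S) := Ideal.localized'_eq_map S p.primeCompl I
  have key :=
    Module.associatedPrimes.preimage_comap_associatedPrimes_eq_associatedPrimes_of_isLocalizedModule
      p.primeCompl S (Submodule.toLocalizedQuotient' S p.primeCompl (Algebra.linearMap A S) I)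
  rw [← hJ] at hP
  rw [← key] at hP
  have h1 := h _ hP
  rwa [IsLocalization.height_under p.primeCompl] at h1

section Scheme
variable {X : Scheme.{u}}

theorem exists_point_of_prime (U : X.affineOpens) (q : Ideal Γ(X, U.1)) [hq : q.IsPrime] :
    ∃ (w : X) (hw : w ∈ U.1), (U.2.primeIdealOf ⟨w, hw⟩).asIdeal = q := by
  let P : PrimeSpectrum Γ(X, U.1) := ⟨q, hq⟩
  let w : X := U.2.fromSpec P
  have hwU : w ∈ U.1 := by
    have : w ∈ Set.range U.2.fromSpec := ⟨_, rfl⟩
    rw [U.2.range_fromSpec] at this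
    exact this
  have : IsOpenImmersion U.2.fromSpec := U.2.isOpenImmersion_fromSpec
  have hinj : Function.Injective U.2.fromSpec :=
    (Scheme.Hom.isOpenEmbedding U.2.fromSpec).injective
  have hpw : U.2.primeIdealOf ⟨w, hwU⟩ = P := hinj (U.2.fromSpec_primeIdealOf ⟨w, hwU⟩)
  exact ⟨w, hwU, by rw [hpw]⟩

theorem mem_primeIdealOf_iff_germ {U : X.Opens} (hU : IsAffineOpen U) (x : X) (hx : x ∈ U)
    (a : Γ(X, U)) :
    a ∈ (hU.primeIdealOf ⟨x, hx⟩).asIdeal ↔
      X.presheaf.germ U x hx a ∈ IsLocalRing.maximalIdeal (X.presheaf.stalk x) := by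
  letI : Algebra Γ(X, U) (X.presheaf.stalk x) := (X.presheaf.germ U x hx).hom.toAlgebra
  haveI := hU.isLocalization_stalk ⟨x, hx⟩
  exact (IsLocalization.AtPrime.to_map_mem_maximal_iff (X.presheaf.stalk x)
    (hU.primeIdealOf ⟨x, hx⟩).asIdeal a).symm

theorem isAssociatedPrime_maximalIdeal_stalk_subscheme [IsLocallyNoetherian X]
    (𝓘 : X.IdealSheafData) (U : X.affineOpens) (z : 𝓘.subscheme)
    (hzU : 𝓘.subschemeι z ∈ U.1)
    (hass : (U.2.primeIdealOf ⟨𝓘.subschemeι z, hzU⟩).asIdeal ∈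
      associatedPrimes Γ(X, U.1) (Γ(X, U.1) ⧸ 𝓘.ideal U)) :
    IsAssociatedPrime (IsLocalRing.maximalIdeal (𝓘.subscheme.presheaf.stalk z))
      (𝓘.subscheme.presheaf.stalk z) := by
  have hA : IsNoetherianRing Γ(X, U.1) := IsLocallyNoetherian.component_noetherian U
  set q := (U.2.primeIdealOf ⟨𝓘.subschemeι z, hzU⟩).asIdeal with hq
  obtain ⟨hqprime, mbar, hm⟩ := (isAssociatedPrime_iff).mp hass
  obtain ⟨m, rfl⟩ := Ideal.Quotient.mk_surjective mbar
  have hqm : ∀ a, a ∈ q ↔ a * m ∈ 𝓘.ideal U := fun a => by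
    rw [hm, Submodule.mem_colon_singleton, Submodule.mem_bot]
    show Ideal.Quotient.mk (𝓘.ideal U) (a * m) = 0 ↔ _
    exact Ideal.Quotient.eq_zero_iff_mem
  have hV : IsAffineOpen (𝓘.subschemeι ⁻¹ᵁ U.1) := U.2.preimage 𝓘.subschemeι
  have hzV : z ∈ 𝓘.subschemeι ⁻¹ᵁ U.1 := hzU
  have hφsurj := 𝓘.subschemeι_app_surjective U
  have hφker := 𝓘.ker_subschemeι_app U
  letI : Algebra Γ(𝓘.subscheme, 𝓘.subschemeι ⁻¹ᵁ U.1) (𝓘.subscheme.presheaf.stalk z) :=
    (𝓘.subscheme.presheaf.germ (𝓘.subschemeι ⁻¹ᵁ U.1) z hzV).hom.toAlgebra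
  haveI hloc := hV.isLocalization_stalk ⟨z, hzV⟩
  -- F1
  have F1 : ∀ a : Γ(X, U.1),
      algebraMap Γ(𝓘.subscheme, 𝓘.subschemeι ⁻¹ᵁ U.1) (𝓘.subscheme.presheaf.stalk z)
        ((𝓘.subschemeι.app U.1).hom a) ∈
          IsLocalRing.maximalIdeal (𝓘.subscheme.presheaf.stalk z) ↔ a ∈ q := fun a => by
    have e1 : algebraMap Γ(𝓘.subscheme, 𝓘.subschemeι ⁻¹ᵁ U.1) (𝓘.subscheme.presheaf.stalk z)
        ((𝓘.subschemeι.app U.1).hom a) =
        (𝓘.subschemeι.stalkMap z).hom (X.presheaf.germ U.1 (𝓘.subschemeι z) hzU a) :=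
      (Scheme.Hom.germ_stalkMap_apply 𝓘.subschemeι U.1 z hzU a).symm
    rw [e1, mem_primeIdealOf_iff_germ U.2 _ hzU a, IsLocalRing.mem_maximalIdeal,
      IsLocalRing.mem_maximalIdeal, mem_nonunits_iff, mem_nonunits_iff,
      isUnit_map_iff (𝓘.subschemeι.stalkMap z).hom]
  set y := algebraMap Γ(𝓘.subscheme, 𝓘.subschemeι ⁻¹ᵁ U.1) (𝓘.subscheme.presheaf.stalk z)
        ((𝓘.subschemeι.app U.1).hom m) with hy
  have hy0 : y ≠ 0 := by
    intro h0
    obtain ⟨⟨s, hs⟩, hsm⟩ := (IsLocalization.map_eq_zero_iff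
      (hV.primeIdealOf ⟨z, hzV⟩).asIdeal.primeCompl (𝓘.subscheme.presheaf.stalk z) _).mp h0
    obtain ⟨s', rfl⟩ := hφsurj s
    have h1 : s' * m ∈ 𝓘.ideal U := by
      rw [← hφker, RingHom.mem_ker, map_mul]
      exact hsm
    have h2 : s' ∈ q := (hqm s').mpr h1
    have h3 := (F1 s').mpr h2
    have h4 : IsUnit (algebraMap Γ(𝓘.subscheme, 𝓘.subschemeι ⁻¹ᵁ U.1)
        (𝓘.subscheme.presheaf.stalk z) ((𝓘.subschemeι.app U.1).hom s')) :=
      IsLocalization.map_units (𝓘.subscheme.presheaf.stalk z)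
        (⟨_, hs⟩ : (hV.primeIdealOf ⟨z, hzV⟩).asIdeal.primeCompl)
    exact (IsLocalRing.mem_maximalIdeal _).mp h3 h4
  refine (Submodule.isAssociatedPrime_def).mpr ⟨inferInstance, y, ?_⟩
  apply le_antisymm
  · intro t ht
    apply Ideal.le_radical
    rw [Submodule.mem_colon_singleton, Submodule.mem_bot]
    obtain ⟨b, ⟨s, hs⟩, rfl⟩ := IsLocalization.exists_mk'_eq
      (hV.primeIdealOf ⟨z, hzV⟩).asIdeal.primeCompl t
    obtain ⟨a, rfl⟩ := hφsurj b
    have hunit : IsUnit (algebraMap Γ(𝓘.subscheme, 𝓘.subschemeι ⁻¹ᵁ U.1)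
        (𝓘.subscheme.presheaf.stalk z) s) :=
      IsLocalization.map_units (𝓘.subscheme.presheaf.stalk z)
        (⟨s, hs⟩ : (hV.primeIdealOf ⟨z, hzV⟩).asIdeal.primeCompl)
    have h1 : algebraMap Γ(𝓘.subscheme, 𝓘.subschemeι ⁻¹ᵁ U.1) (𝓘.subscheme.presheaf.stalk z)
        ((𝓘.subschemeι.app U.1).hom a) ∈
          IsLocalRing.maximalIdeal (𝓘.subscheme.presheaf.stalk z) := by
      have := IsLocalization.mk'_spec (𝓘.subscheme.presheaf.stalk z)
        ((𝓘.subschemeι.app U.1).hom a) (⟨s, hs⟩ : (hV.primeIdealOf ⟨z, hzV⟩).asIdeal.primeCompl)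
      rw [← this]
      exact Ideal.mul_mem_right _ _ ht
    have h2 : a * m ∈ 𝓘.ideal U := (hqm a).mp ((F1 a).mp h1)
    have h3 : algebraMap Γ(𝓘.subscheme, 𝓘.subschemeι ⁻¹ᵁ U.1) (𝓘.subscheme.presheaf.stalk z)
        ((𝓘.subschemeι.app U.1).hom a) * y = 0 := by
      rw [hy, ← map_mul, ← map_mul]
      rw [← hφker, RingHom.mem_ker] at h2
      rw [h2, map_zero]
    have h4 := IsLocalization.mk'_spec (𝓘.subscheme.presheaf.stalk z)
        ((𝓘.subschemeι.app U.1).hom a) (⟨s, hs⟩ : (hV.primeIdealOf ⟨z, hzV⟩).asIdeal.primeCompl)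
    rw [← h4] at h3
    show _ * y = 0
    have h5 : (IsLocalization.mk' (𝓘.subscheme.presheaf.stalk z)
        ((𝓘.subschemeι.app U.1).hom a) (⟨s, hs⟩ : (hV.primeIdealOf ⟨z, hzV⟩).asIdeal.primeCompl)
          * y) * algebraMap Γ(𝓘.subscheme, 𝓘.subschemeι ⁻¹ᵁ U.1)
            (𝓘.subscheme.presheaf.stalk z) s = 0 := by
      rw [← h3]; ring
    exact (hunit.mul_left_eq_zero).mp h5
  · have hne : Submodule.colon (⊥ : Submodule (𝓘.subscheme.presheaf.stalk z)
        (𝓘.subscheme.presheaf.stalk z)) {y} ≠ ⊤ := by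
      intro htop
      have : (1 : 𝓘.subscheme.presheaf.stalk z) ∈ Submodule.colon
        (⊥ : Submodule (𝓘.subscheme.presheaf.stalk z) (𝓘.subscheme.presheaf.stalk z)) {y} := by
        rw [htop]; trivial
      rw [Submodule.mem_colon_singleton, Submodule.mem_bot, one_smul] at this
      exact hy0 this
    exact (Ideal.IsPrime.radical_le_iff inferInstance).mpr (IsLocalRing.le_maximalIdeal hne)

theorem height_eq_one_of_mem_associatedPrimes [IsLocallyNoetherian X] (𝓘 : X.IdealSheafData)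
    (h1 : ∀ z : ↥𝓘.subscheme,
      IsAssociatedPrime (IsLocalRing.maximalIdeal ↑(𝓘.subscheme.presheaf.stalk z))
        ↑(𝓘.subscheme.presheaf.stalk z) → ∀ z' : ↥𝓘.subscheme, z' ⤳ z → z' = z)
    (h2 : ∀ z : ↥𝓘.subscheme, (∀ z' : ↥𝓘.subscheme, z' ⤳ z → z' = z) →
      ringKrullDim (X.presheaf.stalk (𝓘.subschemeι z)) = 1)
    (U : X.affineOpens) (q : Ideal Γ(X, U.1))
    (hq : q ∈ associatedPrimes Γ(X, U.1) (Γ(X, U.1) ⧸ 𝓘.ideal U)) :
    q.height = 1 := by
  have hqprime : q.IsPrime := hq.isPrime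
  obtain ⟨w, hwU, hw⟩ := exists_point_of_prime U q
  have hIq : 𝓘.ideal U ≤ q := by
    have := hq.annihilator_le
    rwa [Submodule.annihilator_top, Ideal.annihilator_quotient] at this
  have hwsupp : w ∈ 𝓘.support := by
    rw [mem_support_iff_le_primeIdealOf 𝓘 U w hwU, hw]; exact hIq
  obtain ⟨z, rfl⟩ : w ∈ Set.range 𝓘.subschemeι := by
    rw [𝓘.range_subschemeι]; exact hwsupp
  have hass := isAssociatedPrime_maximalIdeal_stalk_subscheme 𝓘 U z hwU (hw ▸ hq)
  have hdim := h2 z (h1 z hass)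
  rw [ringKrullDim_stalk_eq_height U _ hwU, hw] at hdim
  exact_mod_cast hdim

/-- A closed subscheme without embedded points, all of whose maximal points have codimension
one, and with factorial local rings of the ambient scheme along it, is an effective Cartier
divisor. -/
theorem isEffCartierIdeal_of_no_embedded_codim_one_ufd [IsLocallyNoetherian X]
    (𝓘 : X.IdealSheafData)
    (h1 : ∀ z : ↥𝓘.subscheme,
      IsAssociatedPrime (IsLocalRing.maximalIdeal ↑(𝓘.subscheme.presheaf.stalk z))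
        ↑(𝓘.subscheme.presheaf.stalk z) → ∀ z' : ↥𝓘.subscheme, z' ⤳ z → z' = z)
    (h2 : ∀ z : ↥𝓘.subscheme, (∀ z' : ↥𝓘.subscheme, z' ⤳ z → z' = z) →
      ringKrullDim (X.presheaf.stalk (𝓘.subschemeι z)) = 1)
    (h3 : ∀ x : ↥X, x ∈ 𝓘.support →
      IsDomain (X.presheaf.stalk x) ∧ UniqueFactorizationMonoid (X.presheaf.stalk x)) :
    BlowUp.IsEffCartierIdeal 𝓘 := by
  classical
  intro x
  by_cases hx : x ∈ 𝓘.support
  swap
  · exact exists_principal_of_notMem_support 𝓘 x hx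
  obtain ⟨_, ⟨U₀, hU₀, rfl⟩, hxU, -⟩ :=
    X.isBasis_affineOpens.exists_subset_of_mem_open (Set.mem_univ x) isOpen_univ
  obtain ⟨U, hU⟩ : ∃ U : X.affineOpens, U = ⟨U₀, hU₀⟩ := ⟨_, rfl⟩
  have hxU' : x ∈ U.1 := by rw [hU]; exact hxU
  have hA : IsNoetherianRing Γ(X, U.1) := IsLocallyNoetherian.component_noetherian U
  set p := (U.2.primeIdealOf ⟨x, hxU'⟩).asIdeal with hp
  let _ : Algebra Γ(X, U.1) (X.presheaf.stalk x) := (X.presheaf.germ U.1 x hxU').hom.toAlgebra
  have hloc : IsLocalization.AtPrime (X.presheaf.stalk x) p := U.2.isLocalization_stalk ⟨x, hxU'⟩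
  obtain ⟨hdomS, hufdS⟩ := h3 x hx
  have hSnoeth : IsNoetherianRing (X.presheaf.stalk x) :=
    IsLocalization.isNoetherianRing p.primeCompl _ hA
  have hassA := height_eq_one_of_mem_associatedPrimes 𝓘 h1 h2 U
  have hassS := height_eq_one_of_mem_associatedPrimes_map (X.presheaf.stalk x) p (𝓘.ideal U) hassA
  obtain ⟨π, hπ0, hJ⟩ := exists_span_singleton_of_ass_height_one _ hassS
  have hπnzd : π ∈ nonZeroDivisors (X.presheaf.stalk x) := mem_nonZeroDivisors_of_ne_zero hπ0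
  obtain ⟨h, hhp, a, H⟩ := exists_away_principal_nzd p (𝓘.ideal U) (X.presheaf.stalk x) π hπnzd hJ
  let _ : Algebra Γ(X, U.1) Γ(X, X.basicOpen h) :=
    (X.presheaf.map (homOfLE (X.basicOpen_le h)).op).hom.toAlgebra
  have hlocB : IsLocalization.Away h Γ(X, X.basicOpen h) := U.2.isLocalization_basicOpen h
  obtain ⟨hnzd, hmap⟩ := H Γ(X, X.basicOpen h)
  refine ⟨X.affineBasicOpen h, ?_, algebraMap Γ(X, U.1) Γ(X, X.basicOpen h) a, hnzd, ?_⟩
  · have h1 := (Groth.Agent.Lib.Helper29.Punct.mem_basicOpen_fromSpec U.2 h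
      (U.2.primeIdealOf ⟨x, hxU'⟩)).mpr hhp
    rw [U.2.fromSpec_primeIdealOf ⟨x, hxU'⟩] at h1
    exact h1
  · rw [← 𝓘.map_ideal_basicOpen U h]
    exact hmap

end Scheme

end Groth.Agent.Lib.Helper29.EffC
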