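import Groth.Agent.Lib.Helper29.MeroDiv3
import Groth.Agent.Lib.Helper29.QCohExact
set_option autoImplicit false
universe u
open CategoryTheory CategoryTheory.Limits AlgebraicGeometry TopologicalSpace Opposite

namespace Groth.Agent.Lib.Helper29.QCoh.MeroK

variable {X : Scheme.{u}}

theorem kmod_smul_eq_toK_mul {U : X.Opens} (r : Γ(X, U)) (k : Γ(Mero.kmod X, U)) :
    r • k = Mero.toK X U r * k := by
  apply kmod_ext
  intro y
  rw [Mero.kmod_mul_apply, Mero.toK_apply]
  exact smul_eq_mk_mul _ _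

theorem resK_eq_res {U V : X.Opens} (h : V ≤ U) (k : Γ(Mero.kmod X, U)) :
    resK h k = res (Mero.kmod X) h k := rfl

/-- A section which is a nonzerodivisor on all smaller opens is regular. -/
theorem mem_regSub_of_forall_injective {U : X.Opens} (a : Γ(X, U))
    (h : ∀ (W : X.Opens) (hW : W ≤ U) (r : Γ(X, W)),
      X.presheaf.map (homOfLE hW).op a * r = 0 → r = 0) : a ∈ Mero.regSub X U := by
  rintro ⟨y, hy⟩
  change X.presheaf.germ U y hy a ∈ nonZeroDivisors (X.presheaf.stalk y)
  rw [mem_nonZeroDivisors_iff_right]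
  intro c hc
  obtain ⟨W₀, hyW₀, r₀, rfl⟩ := X.presheaf.exists_germ_eq c
  have hy₁ : y ∈ W₀ ⊓ U := ⟨hyW₀, hy⟩
  have hprod : X.presheaf.germ (W₀ ⊓ U) y hy₁ (X.presheaf.map (homOfLE inf_le_right).op a *
      X.presheaf.map (homOfLE inf_le_left).op r₀) = X.presheaf.germ (W₀ ⊓ U) y hy₁ 0 := by
    rw [map_mul, map_zero, X.presheaf.germ_res_apply, X.presheaf.germ_res_apply, mul_comm]
    exact hc
  obtain ⟨W, hyW, i₁, i₂, hW⟩ := X.presheaf.germ_eq y hy₁ hy₁ _ _ hprod
  rw [map_zero, map_mul] at hW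
  have hWU : W ≤ U := i₁.le.trans inf_le_right
  have hWW₀ : W ≤ W₀ := i₁.le.trans inf_le_left
  have e1 : X.presheaf.map i₁.op (X.presheaf.map (homOfLE inf_le_right).op a) =
      X.presheaf.map (homOfLE hWU).op a := by
    simp only [← CommRingCat.comp_apply, ← Functor.map_comp]; rfl
  have e2 : X.presheaf.map i₁.op (X.presheaf.map (homOfLE inf_le_left).op r₀) =
      X.presheaf.map (homOfLE hWW₀).op r₀ := by
    simp only [← CommRingCat.comp_apply, ← Functor.map_comp]; rfl
  rw [e1, e2] at hW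
  have h0 := h W hWU _ hW
  have := congrArg (X.presheaf.germ W y hyW) h0
  rw [X.presheaf.germ_res_apply, map_zero] at this
  exact this

/-- The inverse of `a / b` when both are regular. -/
theorem isUnit_of_rep {W : X.Opens} (f : Γ(Mero.kmod X, W)) (a : Mero.regSub X W)
    (b : Mero.regSub X W) (h : ∀ y : W, f.1 y =
      LocalizedModule.mk (X.presheaf.germ W y.1 y.2 a.1) (Mero.regGerm y b)) : IsUnit f := by
  have h1 := mul_toK_eq_of_rep f a.1 b h
  have hu : IsUnit (f * Mero.toK X W b.1) := by rw [h1]; exact isUnit_toK a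
  exact isUnit_of_mul_isUnit_left hu

end Groth.Agent.Lib.Helper29.QCoh.MeroK

namespace Groth.Agent.Lib.Helper29.QCoh.MeroK

variable {X : Scheme.{u}}

theorem ι_smul_res {J : X.Modules} (ι : J ⟶ Mero.kmod X) {U W : X.Opens} (hW : W ≤ U)
    (e : Γ(J, U)) (r : Γ(X, W)) :
    ι.app W (r • res J hW e) = Mero.toK X W r * resK hW (ι.app U e) := by
  rw [Scheme.Modules.Hom.app_smul, app_res, kmod_smul_eq_toK_mul, resK_eq_res]

theorem invertible_iff_locally_principal (J : X.Modules) (ι : J ⟶ Mero.kmod X) [Mono ι] :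
    PicF.IsInvertible J ↔ ∀ x : ↥X, ∃ (U : X.Opens) (_ : x ∈ U) (f : (Γ(Mero.kmod X, U))ˣ),
      ∀ (V : X.Opens) (hV : V ≤ U),
        Set.range ⇑(ι.val.app (Opposite.op V)) =
          {t : Γ(Mero.kmod X, V) | ∃ r : Γ(X, V),
            t = Mero.toK X V r * (Mero.kmod X).presheaf.map (homOfLE hV).op (f : Γ(Mero.kmod X, U))} := by
  have hinj : ∀ U : X.Opens, Function.Injective (ι.app U) :=
    (mono_iff_app_injective ι).mp inferInstance
  constructor
  · intro hJ x
    obtain ⟨U₀, e₀, hxU₀, hT₀⟩ := exists_isTriv hJ x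
    obtain ⟨W, hW, hxW, hWU₀, a, b, hab⟩ := exists_local_rep (ι.app U₀ e₀) x hxU₀
    set e : Γ(J, W) := res J hWU₀ e₀ with he
    have hT : IsTriv J W e := hT₀.restrict hWU₀
    set f : Γ(Mero.kmod X, W) := ι.app W e with hf
    have hfres : f = resK hWU₀ (ι.app U₀ e₀) := by rw [hf, he, app_res]; rfl
    have hrel : f * Mero.toK X W b.1 = Mero.toK X W a := by
      rw [hfres]; exact mul_toK_eq_of_rep _ a b hab
    have ha : a ∈ Mero.regSub X W := by
      apply mem_regSub_of_forall_injective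
      intro W' hW' r hr
      have h1 : ι.app W' (r • res J hW' e) = 0 := by
        rw [ι_smul_res, ← hf]
        have hbu := isUnit_toK (⟨X.presheaf.map (homOfLE hW').op b.1,
          Mero.regSub_res (homOfLE hW') b.2⟩ : Mero.regSub X W')
        have h2 : Mero.toK X W' r * resK hW' f *
            Mero.toK X W' (X.presheaf.map (homOfLE hW').op b.1) = 0 := by
          rw [mul_assoc, ← resK_toK, ← map_mul, hrel, resK_toK, ← map_mul, mul_comm, hr, map_zero]
        exact hbu.mul_left_eq_zero.mp h2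
      have h3 : r • res J hW' e = 0 := hinj W' (h1.trans (map_zero _).symm)
      have h4 := (hT W' hW').1 (a₁ := r) (a₂ := 0) (by
        change r • res J hW' e = (0 : Γ(X, W')) • res J hW' e
        rw [h3, zero_smul])
      exact h4
    have hfu : IsUnit f := by
      rw [hfres]
      exact isUnit_of_rep _ ⟨a, ha⟩ b hab
    obtain ⟨fu, hfu'⟩ := hfu
    refine ⟨W, hxW, fu, fun V hV => ?_⟩
    rw [hfu']
    ext t
    constructor
    · rintro ⟨m, rfl⟩
      obtain ⟨r, hr⟩ := (hT V hV).2 m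
      refine ⟨r, ?_⟩
      change ι.app V m = _
      rw [← hr]
      exact ι_smul_res ι hV e r
    · rintro ⟨r, rfl⟩
      exact ⟨r • res J hV e, ι_smul_res ι hV e r⟩
  · intro h
    refine isInvertible_of_isTriv' fun x => ?_
    obtain ⟨U, hxU, f, hrange⟩ := h x
    have hfU : ∀ (V : X.Opens) (hV : V ≤ U),
        (Mero.kmod X).presheaf.map (homOfLE hV).op (f : Γ(Mero.kmod X, U)) =
          ((resUnit hV f : (Γ(Mero.kmod X, V))ˣ) : Γ(Mero.kmod X, V)) := fun V hV => rfl
    have h1 : (f : Γ(Mero.kmod X, U)) ∈ Set.range ⇑(ι.val.app (Opposite.op U)) := by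
      rw [hrange U le_rfl]
      refine ⟨1, ?_⟩
      rw [map_one, one_mul]
      exact (res_self (Mero.kmod X) (f : Γ(Mero.kmod X, U))).symm
    obtain ⟨e, he⟩ := h1
    have he' : ι.app U e = (f : Γ(Mero.kmod X, U)) := he
    refine ⟨U, e, hxU, fun W hW => ⟨?_, ?_⟩⟩
    · intro r r' hrr
      have h2 := congrArg (ι.app W) hrr
      simp only [ι_smul_res, he'] at h2
      have hu : IsUnit (resK hW (f : Γ(Mero.kmod X, U))) := (resUnit hW f).isUnit
      exact toK_injective W (hu.mul_left_injective h2)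
    · intro t
      have h3 : ι.app W t ∈ Set.range ⇑(ι.val.app (Opposite.op W)) := ⟨t, rfl⟩
      rw [hrange W hW] at h3
      obtain ⟨r, hr⟩ := h3
      refine ⟨r, hinj W ?_⟩
      change ι.app W (r • res J hW e) = ι.app W t
      rw [ι_smul_res, he', hr]
      rfl

end Groth.Agent.Lib.Helper29.QCoh.MeroK
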