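import Groth.Agent.Lib.Helper29.MeroReg2
import Groth.Agent.Lib.Helper29.MeroDiv4
import Groth.Agent.Lib.Helper29.QCohAss2
set_option autoImplicit false
universe u
open CategoryTheory CategoryTheory.Limits AlgebraicGeometry TopologicalSpace Opposite

namespace Groth.Agent.Lib.Helper29.QCoh.MeroK
open Groth.Agent.Lib.Helper26

variable {X : Scheme.{u}}

theorem mer_ext (F : X.Modules) {U : X.Opens} {s t : Γ(Mero.merMod F, U)}
    (h : ∀ x : U, s.1 x = t.1 x) : s = t := Subtype.ext (funext h)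

theorem mer_zero_apply (F : X.Modules) {U : X.Opens} (x : U) :
    (0 : Γ(Mero.merMod F, U)).1 x = 0 := rfl

theorem toMer_app_apply (F : X.Modules) {U : X.Opens} (m : Γ(F, U)) (x : U) :
    ((Mero.toMer F).app U m).1 x = LocalizedModule.mk (F.presheaf.germ U x.1 x.2 m) 1 := rfl

theorem mmk_eq_zero_iff (F : X.Modules) {x : X} (m : F.presheaf.stalk x)
    (s : Mero.regStalk X x) :
    (LocalizedModule.mk m s : Mero.MStalk F x) = 0 ↔ ∃ u : Mero.regStalk X x, u.1 • m = 0 := by
  rw [← LocalizedModule.zero_mk (1 : Mero.regStalk X x), LocalizedModule.mk_eq]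
  constructor
  · rintro ⟨u, hu⟩
    refine ⟨u, ?_⟩
    simpa [Submonoid.smul_def] using hu
  · rintro ⟨u, hu⟩
    refine ⟨u, ?_⟩
    simp only [Submonoid.smul_def, smul_zero, one_smul, OneMemClass.coe_one]
    exact hu

/-- Finiteness of weakly associated points of the structure sheaf on Noetherian affines. -/
theorem finite_weakAss_unit_of_isNoetherian [IsLocallyNoetherian X] {U : X.Opens}
    (hU : IsAffineOpen U) : {z : X | z ∈ U ∧ Curv2.IsWeakAssPoint (unitM X) z}.Finite := by
  have hN : IsNoetherianRing Γ(X, U) :=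
    IsLocallyNoetherian.component_noetherian (X := X) ⟨U, hU⟩
  have hfin : Module.Finite Γ(X, U) Γ(unitM X, U) :=
    inferInstanceAs (Module.Finite Γ(X, U) Γ(X, U))
  have hA : (associatedPrimes Γ(X, U) Γ(unitM X, U)).Finite := associatedPrimes.finite _ _
  let g : {x : X | x ∈ U ∧ Curv2.IsWeakAssPoint (unitM X) x} →
      associatedPrimes Γ(X, U) Γ(unitM X, U) :=
    fun x => ⟨(hU.primeIdealOf ⟨x.1, x.2.1⟩).asIdeal,
      primeIdealOf_mem_associatedPrimes (unitM X) hU x.1 x.2.1 x.2.2⟩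
  have hg : Function.Injective g := by
    intro x y hxy
    apply Subtype.ext
    apply eq_of_primeIdealOf_eq hU x.1 y.1 x.2.1 y.2.1
    apply PrimeSpectrum.ext
    exact congrArg Subtype.val hxy
  have : Finite (associatedPrimes Γ(X, U) Γ(unitM X, U)) := hA.to_subtype
  exact Set.finite_coe_iff.mp (Finite.of_injective g hg)

theorem regStalk_eq_nonZeroDivisors [IsLocallyNoetherian X] (x : X) :
    Mero.regStalk X x = nonZeroDivisors (X.presheaf.stalk x) := by
  obtain ⟨W, hW, hxW, -⟩ := exists_isAffineOpen_mem_and_subset (x := x) (U := ⊤) trivial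
  exact regStalk_eq_nonZeroDivisors_of_finite x hxW (finite_weakAss_unit_of_isNoetherian hW)

end Groth.Agent.Lib.Helper29.QCoh.MeroK

namespace Groth.Agent.Lib.Helper29.QCoh.MeroK
open Groth.Agent.Lib.Helper26

variable {X : Scheme.{u}}

theorem exists_nonZeroDivisor_mem_maximalIdeal {R : Type*} [CommRing R] [IsLocalRing R]
    [IsNoetherianRing R] (h : ¬ IsAssociatedPrime (IsLocalRing.maximalIdeal R) R) :
    ∃ c ∈ IsLocalRing.maximalIdeal R, c ∈ nonZeroDivisors R := by
  apply exists_mem_nonZeroDivisors_of_not_le_associatedPrimes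
  intro p hp hle
  have hpp : p.IsPrime := hp.isPrime
  have : IsLocalRing.maximalIdeal R = p :=
    (IsLocalRing.maximalIdeal.isMaximal R).eq_of_le hpp.ne_top hle
  exact h (this ▸ hp)

theorem mono_toMer_iff [IsLocallyNoetherian X] (F : X.Modules) [F.IsQuasicoherent] :
    Mono (Mero.toMer F) ↔
      ∀ x : ↥X, Curv2.IsAssPoint F x →
        IsAssociatedPrime (IsLocalRing.maximalIdeal ↑(X.presheaf.stalk x)) ↑(X.presheaf.stalk x) := by
  rw [mono_iff_app_injective]
  constructor
  · intro hinj x hx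
    by_contra hnot
    obtain ⟨c, hcm, hcn⟩ := exists_nonZeroDivisor_mem_maximalIdeal hnot
    obtain ⟨_, t, ht⟩ := hx
    have hc : c ∈ ((⊥ : Submodule (X.presheaf.stalk x) (F.presheaf.stalk x)).colon {t}).radical := by
      rw [← ht]; exact hcm
    obtain ⟨n, hn⟩ := hc
    rw [Submodule.mem_colon_singleton, Submodule.mem_bot] at hn
    have hcn' : c ^ n ∈ Mero.regStalk X x := by
      rw [regStalk_eq_nonZeroDivisors]; exact pow_mem hcn n
    obtain ⟨W, hxW, b, hb, hbc⟩ := hcn'
    obtain ⟨W', hxW', m, rfl⟩ := F.presheaf.exists_germ_eq t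
    have hx₂ : x ∈ W ⊓ W' := ⟨hxW, hxW'⟩
    set b₂ : Γ(X, W ⊓ W') := X.presheaf.map (homOfLE inf_le_left).op b with hb₂
    set m₂ : Γ(F, W ⊓ W') := res F inf_le_right m with hm₂
    have hgerm0 : F.presheaf.germ (W ⊓ W') x hx₂ (b₂ • m₂) = F.presheaf.germ (W ⊓ W') x hx₂ 0 := by
      rw [germ_smul, map_zero, hb₂, hm₂, X.presheaf.germ_res_apply, germ_res, hbc]
      exact hn
    obtain ⟨W₃, hxW₃, i₁, i₂, h3⟩ := F.presheaf.germ_eq x hx₂ hx₂ _ _ hgerm0
    have hW₃ : W₃ ≤ W ⊓ W' := i₁.le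
    have h3' : res F hW₃ (b₂ • m₂) = 0 := by
      have : res F hW₃ (b₂ • m₂) = F.presheaf.map i₂.op 0 := h3
      rw [this, map_zero]
    rw [res_smul] at h3'
    set b₃ : Γ(X, W₃) := X.presheaf.map (homOfLE hW₃).op b₂ with hb₃
    set m₃ : Γ(F, W₃) := res F hW₃ m₂ with hm₃
    have hb₃reg : b₃ ∈ Mero.regSub X W₃ :=
      Mero.regSub_res (homOfLE hW₃) (Mero.regSub_res (homOfLE inf_le_left) hb)
    have hzero : (Mero.toMer F).app W₃ m₃ = 0 := by
      apply mer_ext
      intro y
      rw [toMer_app_apply, mer_zero_apply, mmk_eq_zero_iff]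
      refine ⟨Mero.regGerm y ⟨b₃, hb₃reg⟩, ?_⟩
      change X.presheaf.germ W₃ y.1 y.2 b₃ • F.presheaf.germ W₃ y.1 y.2 m₃ = 0
      rw [← germ_smul, h3', map_zero]
    have hm₃0 : m₃ = 0 := hinj W₃ (hzero.trans (map_zero _).symm)
    have ht0 : F.presheaf.germ W' x hxW' m = 0 := by
      have := congrArg (F.presheaf.germ W₃ x hxW₃) hm₃0
      rw [hm₃, hm₂, germ_res, germ_res, map_zero] at this
      exact this
    rw [ht0] at ht
    have htop : ((⊥ : Submodule (X.presheaf.stalk x) (F.presheaf.stalk x)).colon {0}) = ⊤ := by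
      rw [Ideal.eq_top_iff_one, Submodule.mem_colon_singleton, smul_zero]
      exact Submodule.zero_mem _
    rw [htop, Ideal.radical_top] at ht
    exact (IsLocalRing.maximalIdeal.isMaximal _).ne_top ht
  · intro hass U
    rw [injective_iff_map_eq_zero]
    intro m hm
    by_contra hne
    have : ¬ ∀ (x : X) (hx : x ∈ U), F.presheaf.germ U x hx m = 0 :=
      fun h => hne (eq_zero_of_germ_eq_zero F m h)
    push Not at this
    obtain ⟨x, hx, hgx⟩ := this
    obtain ⟨V, hV, hxV, hVU⟩ := exists_isAffineOpen_mem_and_subset (x := x) (U := U) hx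
    have hVU' : V ≤ U := hVU
    have h1 : F.presheaf.germ V x hxV (res F hVU' m) ≠ 0 := by rwa [germ_res]
    obtain ⟨y, hyV, -, hyass, hyne⟩ := exists_isWeakAssPoint_specializes F hV _ x hxV h1
    rw [germ_res] at hyne
    have h2 := congrArg (fun s : Γ(Mero.merMod F, U) => s.1 ⟨y, hVU' hyV⟩) hm
    simp only [toMer_app_apply, mer_zero_apply] at h2
    rw [mmk_eq_zero_iff] at h2
    obtain ⟨s, hs⟩ := h2
    have hsn : s.1 ∈ nonZeroDivisors (X.presheaf.stalk y) :=
      Mero.regStalk_le_nonZeroDivisors y s.2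
    have hassy := hass y ((isAssPoint_iff_isWeakAssPoint F y).mpr hyass)
    have hsu := MeroPull.isUnit_of_mem_nonZeroDivisors_of_isAssociatedPrime hassy s.1 hsn
    exact hyne (eq_zero_of_isUnit_smul hsu hs)

end Groth.Agent.Lib.Helper29.QCoh.MeroK
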