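import Groth.Agent.Lib.Helper29.Depth1C
import Groth.Agent.Lib.Helper29.MeroMer1
set_option autoImplicit false
universe u
open CategoryTheory AlgebraicGeometry TopologicalSpace Opposite IsLocalRing

namespace Groth.Agent.Lib.Helper29.Depth1
open Groth.Agent.Lib.Helper29.QCoh Groth.Agent.Lib.Helper29.QCoh.MeroK

variable {X : Scheme.{u}}

theorem unit_val_eq {x : X} (c : Mero.regStalk X x) :
    ((IsLocalization.map_units (Mero.KStalk X x) c).unit : Mero.KStalk X x) =
      LocalizedModule.mk c.1 1 := rfl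

theorem mem_stalkUnits_iff {x : X} (F : (Mero.KStalk X x)ˣ) :
    F ∈ Mero.stalkUnits X x ↔ ∃ u : (X.presheaf.stalk x)ˣ,
      (F : Mero.KStalk X x) = LocalizedModule.mk u.1 1 := by
  constructor
  · rintro ⟨u, hu⟩
    exact ⟨u, by rw [← hu]; rfl⟩
  · rintro ⟨u, hu⟩
    exact ⟨u, Units.ext hu.symm⟩

theorem effAt_iff [IsLocallyNoetherian X] {x : X} (a : X.presheaf.stalk x)
    (b : Mero.regStalk X x) (ha : a ∈ nonZeroDivisors (X.presheaf.stalk x))
    (F : (Mero.KStalk X x)ˣ) (hF : (F : Mero.KStalk X x) = LocalizedModule.mk a b) :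
    (∃ c : Mero.regStalk X x, (QuotientGroup.mk F : Mero.Germ X x) =
        QuotientGroup.mk (IsLocalization.map_units (Mero.KStalk X x) c).unit) ↔
      a ∈ Ideal.span {b.1} := by
  constructor
  · rintro ⟨c, hc⟩
    rw [QuotientGroup.eq, mem_stalkUnits_iff] at hc
    obtain ⟨u, hu⟩ := hc
    rw [Units.val_mul, unit_val_eq] at hu
    have h1 : (F : Mero.KStalk X x) * LocalizedModule.mk u.1 1 = LocalizedModule.mk c.1 1 := by
      rw [← hu, ← mul_assoc, Units.mul_inv, one_mul]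
    rw [hF] at h1
    have h2 : (LocalizedModule.mk (a * u.1) (b * 1) : Mero.KStalk X x) =
        LocalizedModule.mk c.1 1 := by
      rw [← h1]; exact LocalizedModule.mk_mul_mk.symm
    rw [mk_eq_mk_iff] at h2
    simp only [OneMemClass.coe_one, one_mul, Submonoid.coe_mul, mul_one] at h2
    rw [Ideal.mem_span_singleton']
    refine ⟨c.1 * (u⁻¹ : (X.presheaf.stalk x)ˣ).1, ?_⟩
    calc c.1 * (u⁻¹ : (X.presheaf.stalk x)ˣ).1 * b.1
        = (b.1 * c.1) * (u⁻¹ : (X.presheaf.stalk x)ˣ).1 := by ring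
      _ = a * (u.1 * (u⁻¹ : (X.presheaf.stalk x)ˣ).1) := by rw [← h2]; ring
      _ = a := by rw [Units.mul_inv, mul_one]
  · intro h
    rw [Ideal.mem_span_singleton'] at h
    obtain ⟨z, hz⟩ := h
    have hzn : z ∈ nonZeroDivisors (X.presheaf.stalk x) := by
      rw [mem_nonZeroDivisors_iff_right]
      intro r hr
      apply (mem_nonZeroDivisors_iff_right.mp ha) r
      rw [← hz, ← mul_assoc, hr, zero_mul]
    have hzr : z ∈ Mero.regStalk X x := by rw [regStalk_eq_nonZeroDivisors]; exact hzn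
    refine ⟨⟨z, hzr⟩, ?_⟩
    congr 1
    apply Units.ext
    rw [unit_val_eq, hF, mk_eq_mk_iff]
    simp only [OneMemClass.coe_one, one_mul]
    rw [← hz, mul_comm]

theorem trivAt_iff {x : X} (a : X.presheaf.stalk x)
    (b : Mero.regStalk X x) (ha : a ∈ nonZeroDivisors (X.presheaf.stalk x))
    (F : (Mero.KStalk X x)ˣ) (hF : (F : Mero.KStalk X x) = LocalizedModule.mk a b) :
    (QuotientGroup.mk F : Mero.Germ X x) = 1 ↔
      (a ∈ Ideal.span {b.1} ∧ b.1 ∈ Ideal.span {a}) := by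
  rw [QuotientGroup.eq_one_iff, mem_stalkUnits_iff]
  constructor
  · rintro ⟨u, hu⟩
    rw [hF, mk_eq_mk_iff] at hu
    simp only [OneMemClass.coe_one, one_mul] at hu
    constructor
    · rw [Ideal.mem_span_singleton']
      exact ⟨u.1, by rw [hu, mul_comm]⟩
    · rw [Ideal.mem_span_singleton']
      refine ⟨(u⁻¹ : (X.presheaf.stalk x)ˣ).1, ?_⟩
      rw [hu, ← mul_assoc, mul_comm _ b.1, mul_assoc, Units.inv_mul, mul_one]
  · rintro ⟨h1, h2⟩
    rw [Ideal.mem_span_singleton'] at h1 h2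
    obtain ⟨z, hz⟩ := h1
    obtain ⟨z', hz'⟩ := h2
    have h3 : a * (z * z') = a * 1 := by
      rw [mul_one]
      calc a * (z * z') = z * (z' * a) := by ring
        _ = a := by rw [hz', hz]
    have h4 : z * z' = 1 := by
      have := mem_nonZeroDivisors_iff_right.mp ha (z * z' - 1) (by rw [mul_comm, mul_sub, h3, sub_self])
      exact sub_eq_zero.mp this
    refine ⟨⟨z, z', h4, by rw [mul_comm]; exact h4⟩, ?_⟩
    rw [hF, mk_eq_mk_iff]
    simp only [OneMemClass.coe_one, one_mul]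
    rw [← hz, mul_comm]

theorem mem_nonZeroDivisors_of_germ {W : X.Opens} (a : Γ(X, W))
    (h : ∀ (y : X) (hy : y ∈ W), X.presheaf.germ W y hy a ∈ nonZeroDivisors (X.presheaf.stalk y)) :
    a ∈ nonZeroDivisors Γ(X, W) := by
  rw [mem_nonZeroDivisors_iff_right]
  intro r hr
  apply TopCat.Presheaf.section_ext X.sheaf
  intro y hy
  have h1 := congrArg (X.presheaf.germ W y hy) hr
  rw [map_mul, map_zero] at h1
  have h2 : X.presheaf.germ W y hy r = 0 := mem_nonZeroDivisors_iff_right.mp (h y hy) _ h1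
  exact h2.trans (map_zero (X.presheaf.germ W y hy).hom).symm

theorem hasLocalRep_mero [IsLocallyNoetherian X] (D : Mero.Divisor X) (x : X) :
    HasLocalRep (Mero.IsEffectiveAt D) (fun y => D.1 y = 1) x := by
  obtain ⟨U, hxU, f, hf⟩ := D.2 x
  obtain ⟨W, hW, hxW, hWU, a, b, hab⟩ := exists_local_rep (f : Γ(Mero.kmod X, U)) x hxU
  -- the value of `f` at `y` as a unit
  let F : ∀ (y : X) (hy : y ∈ W), (Mero.KStalk X y)ˣ := fun y hy =>
    Units.map (Mero.evalK X U ⟨y, hWU hy⟩).toMonoidHom f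
  have hFval : ∀ (y : X) (hy : y ∈ W), ((F y hy : (Mero.KStalk X y)ˣ) : Mero.KStalk X y) =
      LocalizedModule.mk (X.presheaf.germ W y hy a) (Mero.regGerm ⟨y, hy⟩ b) :=
    fun y hy => hab ⟨y, hy⟩
  have hD : ∀ (y : X) (hy : y ∈ W), D.1 y = QuotientGroup.mk (F y hy) :=
    fun y hy => hf ⟨y, hWU hy⟩
  have hanz : ∀ (y : X) (hy : y ∈ W),
      X.presheaf.germ W y hy a ∈ nonZeroDivisors (X.presheaf.stalk y) := by
    intro y hy
    rw [mem_nonZeroDivisors_iff_right]
    intro r hr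
    have h1 : ((F y hy : (Mero.KStalk X y)ˣ) : Mero.KStalk X y) *
        (LocalizedModule.mk r 1 : Mero.KStalk X y) = 0 := by
      rw [hFval y hy]
      refine LocalizedModule.mk_mul_mk.trans ?_
      rw [mk_eq_zero_iff, mul_comm]; exact hr
    have h2 : (LocalizedModule.mk r 1 : Mero.KStalk X y) = 0 := (F y hy).isUnit.mul_right_eq_zero.mp h1
    exact (mk_eq_zero_iff _ _).mp h2
  refine ⟨W, hW, hxW, a, b.1, mem_nonZeroDivisors_of_germ a hanz,
    mem_nonZeroDivisors_of_germ b.1 (fun y hy => b.2 ⟨y, hy⟩), fun y hy => ⟨?_, ?_⟩⟩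
  · have := effAt_iff (X.presheaf.germ W y hy a) (Mero.regGerm ⟨y, hy⟩ b) (hanz y hy) (F y hy)
      (hFval y hy)
    rw [← this]
    unfold Mero.IsEffectiveAt
    rw [hD y hy]
  · have := trivAt_iff (X.presheaf.germ W y hy a) (Mero.regGerm ⟨y, hy⟩ b) (hanz y hy) (F y hy)
      (hFval y hy)
    rw [← this]
    change D.1 y = 1 ↔ _
    rw [hD y hy]

end Groth.Agent.Lib.Helper29.Depth1
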