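import Groth.Agent.Lib.Helper29.TensorDesc
import Groth.Agent.Lib.Helper29.IsoCover
universe u
open CategoryTheory CategoryTheory.Limits AlgebraicGeometry TopologicalSpace Opposite
open scoped TensorProduct

namespace Groth.Agent.Lib.Helper29.QCoh

theorem tmul_bijective_of_basis {R M L : Type*} [CommRing R] [AddCommGroup M] [Module R M]
    [AddCommGroup L] [Module R L] (e : L) (he : Function.Bijective (fun r : R => r • e)) :
    Function.Bijective (fun m : M => m ⊗ₜ[R] e) := by
  let E : R ≃ₗ[R] L := LinearEquiv.ofBijective (LinearMap.toSpanSingleton R L e) he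
  let Ψ : M ≃ₗ[R] M ⊗[R] L :=
    (TensorProduct.rid R M).symm ≪≫ₗ TensorProduct.congr (LinearEquiv.refl R M) E
  have : (fun m : M => m ⊗ₜ[R] e) = Ψ := by
    funext m
    simp [Ψ, E]
  rw [this]
  exact Ψ.bijective

variable {X : Scheme.{u}}

/-- A morphism out of `M ⊗ L`, with `L` free on `e i` over the members of an affine cover, is an
isomorphism as soon as `m ↦ μ (m ⊗ e i)` is bijective on sections over the cover. -/
theorem isIso_of_tensor_basis {M L Q : X.Modules} [M.IsQuasicoherent] [L.IsQuasicoherent]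
    [Q.IsQuasicoherent] (μ : CohB1.tensorMod M L ⟶ Q) {ι : Type*} (U : ι → X.Opens)
    (hU : ∀ i, IsAffineOpen (U i)) (hcov : ∀ x : X, ∃ i, x ∈ U i) (e : ∀ i, Γ(L, U i))
    (he : ∀ i, Function.Bijective (fun r : Γ(X, U i) => r • e i))
    (h : ∀ i, Function.Bijective (fun m : Γ(M, U i) => μ.app (U i) (tmulSec M L m (e i)))) :
    IsIso μ := by
  apply isIso_of_app_bijective_of_affine_cover μ U hU hcov
  intro i
  have h1 : Function.Bijective
      (fun m : Γ(M, U i) => tensorSectionsEquiv M L (hU i) (m ⊗ₜ[Γ(X, U i)] e i)) :=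
    (tensorSectionsEquiv M L (hU i)).bijective.comp (tmul_bijective_of_basis (e i) (he i))
  have h2 : (fun m : Γ(M, U i) => μ.app (U i) (tmulSec M L m (e i))) =
      (fun t => μ.app (U i) t) ∘
        (fun m : Γ(M, U i) => tensorSectionsEquiv M L (hU i) (m ⊗ₜ[Γ(X, U i)] e i)) := rfl
  have h3 := h i
  rw [h2] at h3
  exact (Function.Bijective.of_comp_iff _ h1).mp h3

end Groth.Agent.Lib.Helper29.QCoh
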