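import Groth.Agent.Lib.Helper29.MeroDiv3
import Groth.Agent.Lib.Helper29.TensorBasis
set_option autoImplicit false
universe u
open CategoryTheory CategoryTheory.Limits AlgebraicGeometry TopologicalSpace Opposite

namespace Groth.Agent.Lib.Helper29.QCoh.MeroK

variable {X : Scheme.{u}}

theorem divCond_mul (D E : Mero.Divisor X) (x : X) (t t' : Mero.KStalk X x)
    (h : Mero.DivCond D x t) (h' : Mero.DivCond E x t') : Mero.DivCond (D * E) x (t * t') := by
  intro g hg
  obtain ⟨gD, hgD⟩ := QuotientGroup.mk_surjective (D.1 x)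
  obtain ⟨gE, hgE⟩ := QuotientGroup.mk_surjective (E.1 x)
  have h1 : (D * E).1 x = D.1 x * E.1 x := rfl
  have h2 : (QuotientGroup.mk (gD * gE) : Mero.Germ X x) = QuotientGroup.mk g := by
    rw [QuotientGroup.mk_mul, hgD, hgE, ← h1, hg]
  obtain ⟨u, hu⟩ := (QuotientGroup.eq (s := Mero.stalkUnits X x)).mp h2
  have hu' : algebraMap (X.presheaf.stalk x) (Mero.KStalk X x) u.1 =
      ((gD * gE)⁻¹ * g : (Mero.KStalk X x)ˣ).1 := congrArg Units.val hu
  have hg' : g.1 = gD.1 * gE.1 * algebraMap (X.presheaf.stalk x) (Mero.KStalk X x) u.1 := by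
    rw [hu', Units.val_mul, ← mul_assoc, ← Units.val_mul, ← Units.val_mul, mul_inv_cancel,
      Units.val_one, one_mul]
  have e : t * t' * g.1 = (t * gD.1) * (t' * gE.1) *
      algebraMap (X.presheaf.stalk x) (Mero.KStalk X x) u.1 := by rw [hg']; ring
  rw [e]
  exact mul_mem (mul_mem (h gD hgD.symm) (h' gE hgE.symm)) ⟨u.1, rfl⟩

/-- The multiplication pairing `O_X(D) × O_X(E) → O_X(D * E)`. -/
noncomputable def divPairing (D E : Mero.Divisor X) :
    Pairing (Mero.divMod D) (Mero.divMod E) (Mero.divMod (D * E)) where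
  b U t t' := divMk (D * E) (divVal D t * divVal E t') (fun x => by
    rw [Mero.kmod_mul_apply, divVal_apply, divVal_apply]
    exact divCond_mul D E x.1 _ _ (divCond_of_div D t x) (divCond_of_div E t' x))
  add_left U m m' n := div_ext _ fun x => by
    simp only [divMk_apply, Mero.kmod_mul_apply, divVal_apply, div_add_apply, add_mul]
  add_right U m n n' := div_ext _ fun x => by
    simp only [divMk_apply, Mero.kmod_mul_apply, divVal_apply, div_add_apply, mul_add]
  smul_left U r m n := div_ext _ fun x => by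
    simp only [divMk_apply, Mero.kmod_mul_apply, divVal_apply, div_smul_apply, smul_mul_assoc]
  smul_right U r m n := div_ext _ fun x => by
    simp only [divMk_apply, Mero.kmod_mul_apply, divVal_apply, div_smul_apply, mul_smul_comm]
  res h m n := div_ext _ fun x => rfl

theorem divPairing_apply (D E : Mero.Divisor X) (U : X.Opens) (t : Γ(Mero.divMod D, U))
    (t' : Γ(Mero.divMod E, U)) (x : U) :
    ((divPairing D E).b U t t').1 x = t.1 x * t'.1 x := rfl

theorem divModι_app (D : Mero.Divisor X) (U : X.Opens) (t : Γ(Mero.divMod D, U)) :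
    (Mero.divModι D).app U t = divVal D t := rfl

theorem divTensor_spec (D E : Mero.Divisor X) (U : X.Opens) (t : Γ(Mero.divMod D, U))
    (t' : Γ(Mero.divMod E, U)) :
    (Mero.divModι (D * E)).app U ((tensorDesc (divPairing D E)).app U
      (SecTwist.tmul (Mero.divMod D) (Mero.divMod E) U t t')) =
      (Mero.divModι D).app U t * (Mero.divModι E).app U t' := by
  have h1 : (tensorDesc (divPairing D E)).app U
      (SecTwist.tmul (Mero.divMod D) (Mero.divMod E) U t t') = (divPairing D E).b U t t' :=
    tensorDesc_tmulSec (divPairing D E) U t t'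
  rw [h1]
  rfl

theorem isIso_divTensor (D E : Mero.Divisor X) : IsIso (tensorDesc (divPairing D E)) := by
  haveI := isQuasicoherent_of_isInvertible (isInvertible_divMod D)
  haveI := isQuasicoherent_of_isInvertible (isInvertible_divMod E)
  haveI := isQuasicoherent_of_isInvertible (isInvertible_divMod (D * E))
  have hloc : ∀ x : X, ∃ (W : X.Opens) (_ : IsAffineOpen W) (_ : x ∈ W)
      (f f' : (Γ(Mero.kmod X, W))ˣ), (∀ y : W, D.1 y.1 = Mero.germOf f y) ∧
        (∀ y : W, E.1 y.1 = Mero.germOf f' y) := by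
    intro x
    obtain ⟨U, hxU, f, f', hf, hf'⟩ := exists_common_rep D E x
    obtain ⟨W, hW, hxW, hWU⟩ := exists_isAffineOpen_mem_and_subset (x := x) (U := U) hxU
    refine ⟨W, hW, hxW, resUnit hWU f, resUnit hWU f', fun y => ?_, fun y => ?_⟩
    · rw [germOf_resUnit]; exact hf ⟨y.1, hWU y.2⟩
    · rw [germOf_resUnit]; exact hf' ⟨y.1, hWU y.2⟩
  choose W hW hxW f f' hf hf' using hloc
  refine isIso_of_tensor_basis (tensorDesc (divPairing D E)) W hW (fun x => ⟨x, hxW x⟩)
    (fun x => divGen E (f' x) (hf' x)) (fun x => (isTriv_divGen E (f' x) (hf' x)).bijective)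
    (fun x => ?_)
  have hval : ∀ m : Γ(Mero.divMod D, W x), (tensorDesc (divPairing D E)).app (W x)
      (tmulSec (Mero.divMod D) (Mero.divMod E) m (divGen E (f' x) (hf' x))) =
      (divPairing D E).b (W x) m (divGen E (f' x) (hf' x)) := fun m =>
    tensorDesc_tmulSec (divPairing D E) (W x) m _
  constructor
  · intro m m' hmm
    simp only [hval] at hmm
    refine div_ext D fun y => ?_
    have h1 := congrArg (fun t : Γ(Mero.divMod (D * E), W x) => t.1 y) hmm
    simp only [divPairing_apply, divGen_apply] at h1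
    have h2 := congrArg (fun q => q * ((f' x : (Γ(Mero.kmod X, W x))ˣ) : Γ(Mero.kmod X, W x)).1 y) h1
    simp only [mul_assoc] at h2
    rwa [unit_inv_mul_val, mul_one, mul_one] at h2
  · intro s
    have hcond : ∀ y : W x, Mero.DivCond D y.1
        ((divVal (D * E) s * ((f' x : (Γ(Mero.kmod X, W x))ˣ) : Γ(Mero.kmod X, W x))).1 y) := by
      intro y
      rw [Mero.kmod_mul_apply, divVal_apply]
      rw [divCond_iff_of_germOf D (f x) y (hf x y)]
      have hDE : (D * E).1 y.1 = Mero.germOf (f x * f' x) y := by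
        change D.1 y.1 * E.1 y.1 = _
        rw [hf x y, hf' x y]
        unfold Mero.germOf
        rw [map_mul, QuotientGroup.mk_mul]
      have := (divCond_iff_of_germOf (D * E) (f x * f' x) y hDE _).mp (divCond_of_div _ s y)
      rw [Units.val_mul, Mero.kmod_mul_apply] at this
      convert this using 1
      ring
    refine ⟨divMk D _ hcond, ?_⟩
    simp only [hval]
    refine div_ext _ fun y => ?_
    rw [divPairing_apply, divMk_apply, Mero.kmod_mul_apply, divVal_apply, divGen_apply, mul_assoc,
      unit_val_mul_inv, mul_one]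

end Groth.Agent.Lib.Helper29.QCoh.MeroK
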