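import Groth.Agent.Lib.Helper29.Avoid
universe u
open CategoryTheory CategoryTheory.Limits AlgebraicGeometry TopologicalSpace Opposite
open scoped TensorProduct

/-! # Invertible modules on integral schemes -/

namespace Groth.Agent.Lib.Helper29.QCoh

section IntegInv
variable {X : Scheme.{u}}

theorem rres_injective_of_isIntegral [IsIntegral X] {U W : X.Opens} (h : U ≤ W)
    (hU : (U : Set X).Nonempty) : Function.Injective (rres X h) := by
  have : Nonempty U := hU.to_subtype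
  exact map_injective_of_isIntegral X (homOfLE h)

theorem inter_nonempty_of_isIntegral [IsIntegral X] {U V : X.Opens} (hU : (U : Set X).Nonempty)
    (hV : (V : Set X).Nonempty) : ((U ⊓ V : X.Opens) : Set X).Nonempty :=
  nonempty_preirreducible_inter U.isOpen V.isOpen hU hV

/-- On an integral scheme a section of an invertible module vanishing on a nonempty open
vanishes. -/
theorem eq_zero_of_res_eq_zero_of_isIntegral [IsIntegral X] {L : X.Modules}
    (hL : PicF.IsInvertible L) {U W : X.Opens} (h : U ≤ W) (hU : (U : Set X).Nonempty)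
    (m : Γ(L, W)) (hm : QCoh.res L h m = 0) : m = 0 := by
  have hcov : ∀ x : W, ∃ (V : X.Opens) (e : Γ(L, V)), (x : X) ∈ V ∧ V ≤ W ∧ IsTriv L V e := by
    intro x
    obtain ⟨V, e, -, hxV, hVW, he⟩ := exists_affine_isTriv hL (W := W) x x.2
    exact ⟨V, e, hxV, hVW, he⟩
  choose V e hxV hVW he using hcov
  refine eq_zero_of_res_cover_eq_zero L V hVW ?_ m fun x => ?_
  · intro y hy
    exact Opens.mem_iSup.mpr ⟨⟨y, hy⟩, hxV ⟨y, hy⟩⟩
  obtain ⟨a, ha⟩ := (he x).exists_eq_smul (QCoh.res L (hVW x) m)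
  have hne : ((V x ⊓ U : X.Opens) : Set X).Nonempty :=
    inter_nonempty_of_isIntegral ⟨x, hxV x⟩ hU
  have h0 : rres X (inf_le_left : V x ⊓ U ≤ V x) a = 0 := by
    apply ((he x).restrict (inf_le_left : V x ⊓ U ≤ V x)).smul_left_cancel
    rw [zero_smul, ← res_smul', ← ha, res_res]
    have : QCoh.res L ((inf_le_left : V x ⊓ U ≤ V x).trans (hVW x)) m =
        QCoh.res L (inf_le_right : V x ⊓ U ≤ U) (QCoh.res L h m) := by rw [res_res]
    rw [this, hm, map_zero]
  have ha0 : a = 0 := rres_injective_of_isIntegral inf_le_left hne (by rw [h0, map_zero])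
  rw [ha, ha0, zero_smul]

theorem subsingleton_sections_of_isEmpty' {W : X.Opens}
    (hW : ¬ (W : Set X).Nonempty) : Subsingleton Γ(X, W) := by
  have hbot : W = ⊥ := by
    ext x
    simp only [Opens.coe_bot, Set.mem_empty_iff_false, iff_false]
    exact fun hx => hW ⟨x, hx⟩
  exact subsingleton_sections_of_eq_bot hbot

/-- On an integral scheme, a morphism out of an invertible module killing one local generator
on a nonempty open is zero. -/
theorem hom_eq_zero_of_app_eq_zero [IsIntegral X] {L : X.Modules} (t : L ⟶ unitM X)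
    {V : X.Opens} {e : Γ(L, V)} (he : IsTriv L V e) (hV : (V : Set X).Nonempty)
    (h0 : t.app V e = 0) : t = 0 := by
  apply Scheme.Modules.hom_ext
  intro W
  ext m
  change t.app W m = 0
  by_cases hW : (W : Set X).Nonempty
  · have hne := inter_nonempty_of_isIntegral hW hV
    obtain ⟨b, hb⟩ := toUnit_surjective (t.app W m)
    obtain ⟨r, hr⟩ := (he.restrict (inf_le_right : W ⊓ V ≤ V)).exists_eq_smul
      (QCoh.res L (inf_le_left : W ⊓ V ≤ W) m)
    have h1 : QCoh.res (unitM X) (inf_le_left : W ⊓ V ≤ W) (t.app W m) = 0 := by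
      rw [← app_res, hr, Scheme.Modules.Hom.app_smul, app_res, h0, map_zero, smul_zero]
    rw [← hb] at h1 ⊢
    have h2 : rres X (inf_le_left : W ⊓ V ≤ W) b = 0 := h1
    have : b = 0 := rres_injective_of_isIntegral inf_le_left hne (by rw [h2, map_zero])
    rw [this]; rfl
  · have := subsingleton_sections_of_isEmpty' hW
    exact Subsingleton.elim (α := Γ(X, W)) _ _

theorem isDomain_sections_of_isIntegral [IsIntegral X] {V : X.Opens} (hV : (V : Set X).Nonempty) :
    IsDomain Γ(X, V) := by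
  have : Nonempty V := hV.to_subtype
  infer_instance

/-- On an integral scheme, the composite of nonzero maps `O ⟶ L ⟶ O` (`L` invertible) is
nonzero. -/
theorem comp_ne_zero_of_isIntegral [IsIntegral X] {L : X.Modules} (hL : PicF.IsInvertible L)
    (s : unitM X ⟶ L) (hs : s ≠ 0) (t : L ⟶ unitM X) (ht : t ≠ 0) : s ≫ t ≠ 0 := by
  intro hst
  obtain ⟨x⟩ : Nonempty X := inferInstance
  obtain ⟨V, e, hxV, he⟩ := exists_isTriv hL x
  have hV : (V : Set X).Nonempty := ⟨x, hxV⟩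
  have hdom := isDomain_sections_of_isIntegral hV
  obtain ⟨a, ha⟩ := he.exists_eq_smul (sval s V)
  obtain ⟨b, hb⟩ := toUnit_surjective (t.app V e)
  have ha0 : a ≠ 0 := by
    rintro rfl
    rw [zero_smul] at ha
    apply hs
    apply hom_ext_of_sval
    have h1 := eq_zero_of_res_eq_zero_of_isIntegral hL (le_top : V ≤ ⊤) hV (sval s ⊤)
      (by rw [res_sval, ha])
    rw [h1]; rfl
  have hb0 : b ≠ 0 := by
    rintro rfl
    exact ht (hom_eq_zero_of_app_eq_zero t he hV (by rw [← hb]; rfl))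
  have h2 : sval (s ≫ t) V = toUnit (a * b) := by
    rw [sval_comp, ha, Scheme.Modules.Hom.app_smul, ← hb]
    rfl
  rw [hst] at h2
  have h3 : (0 : Γ(X, V)) = a * b := h2
  exact mul_ne_zero ha0 hb0 h3.symm

/-- If moreover `Γ(X, O_X)` is a field, `t` is an isomorphism. -/
theorem isIso_of_comp_ne_zero [IsIntegral X] (hfield : IsField (Γ(X, ⊤) : Type u))
    {L : X.Modules} (hL : PicF.IsInvertible L) (s : unitM X ⟶ L) (t : L ⟶ unitM X)
    (hst : s ≫ t ≠ 0) : IsIso t := by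
  have ht : t ≠ 0 := by rintro rfl; exact hst comp_zero
  obtain ⟨c, hc⟩ := toUnit_surjective (sval (s ≫ t) ⊤)
  have hc0 : c ≠ 0 := by
    rintro rfl
    apply hst
    apply hom_ext_of_sval
    rw [← hc]; rfl
  obtain ⟨d, hd⟩ := hfield.mul_inv_cancel hc0
  -- split epi
  have hsplit : homOfSection L (d • sval s ⊤) ≫ t = 𝟙 (unitM X) := by
    apply hom_ext_of_sval
    rw [sval_comp, sval_homOfSection, res_self, Scheme.Modules.Hom.app_smul]
    have : t.app ⊤ (sval s ⊤) = sval (s ≫ t) ⊤ := rfl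
    rw [this, ← hc]
    change toUnit (d * c) = toUnit 1
    rw [mul_comm, hd]
  have hepi : Epi t := (IsSplitEpi.mk' ⟨_, hsplit⟩).epi
  have hmono : Mono t := by
    rw [mono_iff_app_injective]
    intro W
    rw [injective_iff_map_eq_zero]
    intro m hm
    have hcov : ∀ x : W, ∃ (V : X.Opens) (e : Γ(L, V)), (x : X) ∈ V ∧ V ≤ W ∧ IsTriv L V e := by
      intro x
      obtain ⟨V, e, -, hxV, hVW, he⟩ := exists_affine_isTriv hL (W := W) x x.2
      exact ⟨V, e, hxV, hVW, he⟩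
    choose V e hxV hVW he using hcov
    refine eq_zero_of_res_cover_eq_zero L V hVW ?_ m fun x => ?_
    · intro y hy
      exact Opens.mem_iSup.mpr ⟨⟨y, hy⟩, hxV ⟨y, hy⟩⟩
    have hVne : ((V x : X.Opens) : Set X).Nonempty := ⟨x, hxV x⟩
    have hdom := isDomain_sections_of_isIntegral hVne
    obtain ⟨r, hr⟩ := (he x).exists_eq_smul (QCoh.res L (hVW x) m)
    obtain ⟨b, hb⟩ := toUnit_surjective (t.app (V x) (e x))
    have hb0 : b ≠ 0 := by
      rintro rfl
      exact ht (hom_eq_zero_of_app_eq_zero t (he x) hVne (by rw [← hb]; rfl))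
    have h1 : t.app (V x) (QCoh.res L (hVW x) m) = 0 := by rw [app_res, hm, map_zero]
    rw [hr, Scheme.Modules.Hom.app_smul, ← hb] at h1
    have h2 : r * b = 0 := h1
    have hr0 : r = 0 := (mul_eq_zero.mp h2).resolve_right hb0
    rw [hr, hr0, zero_smul]
  exact isIso_of_mono_of_epi t

theorem nonempty_iso_unit_of_sections [IsIntegral X] (hfield : IsField (Γ(X, ⊤) : Type u))
    {L : X.Modules} (hL : PicF.IsInvertible L) (s : unitM X ⟶ L) (hs : s ≠ 0)
    (t : L ⟶ unitM X) (ht : t ≠ 0) : Nonempty (L ≅ unitM X) := by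
  have := isIso_of_comp_ne_zero hfield hL s t (comp_ne_zero_of_isIntegral hL s hs t ht)
  exact ⟨asIso t⟩

end IntegInv

section IntegInv2
variable {X : Scheme.{u}}

theorem coeff_ne_zero_of_ne_zero [IsIntegral X] {L : X.Modules} (hL : PicF.IsInvertible L)
    (s : unitM X ⟶ L) (hs : s ≠ 0) {V : X.Opens} {e : Γ(L, V)} (hV : (V : Set X).Nonempty)
    (a : Γ(X, V)) (ha : sval s V = a • e) : a ≠ 0 := by
  rintro rfl
  rw [zero_smul] at ha
  apply hs
  apply hom_ext_of_sval
  have h1 := eq_zero_of_res_eq_zero_of_isIntegral hL (le_top : V ≤ ⊤) hV (sval s ⊤)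
    (by rw [res_sval, ha])
  rw [h1]; rfl

theorem tmulRightHom_ne_zero [IsIntegral X] {L M : X.Modules} (hL : PicF.IsInvertible L)
    (hM : PicF.IsInvertible M) (t : unitM X ⟶ M) (ht : t ≠ 0) : tmulRightHom L t ≠ 0 := by
  intro h0
  have hqL := isQuasicoherent_of_isInvertible hL
  have hqM := isQuasicoherent_of_isInvertible hM
  obtain ⟨x⟩ : Nonempty X := inferInstance
  obtain ⟨V, e, e', -, hxV, -, he, he'⟩ := exists_affine_isTriv₂ hL hM (W := ⊤) x trivial
  have hV : (V : Set X).Nonempty := ⟨x, hxV⟩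
  obtain ⟨b, hb⟩ := he'.exists_eq_smul (sval t V)
  have hb0 := coeff_ne_zero_of_ne_zero hM t ht hV b hb
  have h1 : (tmulRightHom L t).app V e = b • tmulSec L M e e' := by
    rw [tmulRightHom_app, hb, tmulSec_smul_right]
  rw [h0] at h1
  have h2 : (0 : Γ(X, V)) • tmulSec L M e e' = b • tmulSec L M e e' := by
    rw [zero_smul]; exact h1
  exact hb0 ((he.tensor he').smul_left_cancel h2).symm

theorem powHom_ne_zero [IsIntegral X] {L : X.Modules} (hL : PicF.IsInvertible L)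
    (s : unitM X ⟶ L) (hs : s ≠ 0) (k : ℕ) : SecTwist.powHom s k ≠ 0 := by
  intro h0
  have hqL := isQuasicoherent_of_isInvertible hL
  obtain ⟨x⟩ : Nonempty X := inferInstance
  obtain ⟨V, e, hxV, he⟩ := exists_isTriv hL x
  have hV : (V : Set X).Nonempty := ⟨x, hxV⟩
  have hdom := isDomain_sections_of_isIntegral hV
  obtain ⟨a, ha⟩ := he.exists_eq_smul (sval s V)
  have ha0 := coeff_ne_zero_of_ne_zero hL s hs hV a ha
  have h1 : sval (SecTwist.powHom s k) V = a ^ k • epow L e k := by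
    rw [sval_powHom, ha, epow_smul]
  rw [h0] at h1
  have h2 : (0 : Γ(X, V)) • epow L e k = a ^ k • epow L e k := by
    rw [zero_smul]; exact h1
  exact pow_ne_zero k ha0 ((he.epow k).smul_left_cancel h2).symm

theorem nonempty_iso_unit_of_inverse_sections [IsIntegral X] (hfield : IsField (Γ(X, ⊤) : Type u))
    {L M : X.Modules} (hL : PicF.IsInvertible L) (hM : PicF.IsInvertible M)
    (hLM : ClSub.IsInverseOf L M) (s : unitM X ⟶ L) (hs : s ≠ 0) (t : unitM X ⟶ M) (ht : t ≠ 0) :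
    Nonempty (L ≅ unitM X) := by
  obtain ⟨ε⟩ := hLM
  refine nonempty_iso_unit_of_sections hfield hL s hs (tmulRightHom L t ≫ ε.hom) fun h0 => ?_
  apply tmulRightHom_ne_zero hL hM t ht
  rw [← cancel_mono ε.hom, h0, zero_comp]

theorem nonempty_iso_unit_of_tensorPow_iso [IsIntegral X] (hfield : IsField (Γ(X, ⊤) : Type u))
    {L : X.Modules} (hL : PicF.IsInvertible L) (s : unitM X ⟶ L) (hs : s ≠ 0) (d : ℕ)
    (hd : 0 < d) (htriv : Nonempty (CohB1.tensorPow L d ≅ unitM X)) : Nonempty (L ≅ unitM X) := by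
  obtain ⟨d, rfl⟩ := Nat.exists_eq_succ_of_ne_zero hd.ne'
  obtain ⟨θ⟩ := htriv
  refine nonempty_iso_unit_of_inverse_sections hfield hL (isInvertible_tensorPow hL d)
    ⟨tensorBraid _ _ ≪≫ θ⟩ s hs (SecTwist.powHom s d) (powHom_ne_zero hL s hs d)

end IntegInv2

section TrivNear
variable {X : Scheme.{u}}

theorem isIso_restrict_of_le_genLocus {L : X.Modules} (s : unitM X ⟶ L) {U : X.Opens}
    (hU : U ≤ CohB1.genLocus L s) : IsIso ((Scheme.Modules.restrictFunctor U.ι).map s) := by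
  rw [isIso_restrict_iff]
  intro W hW
  exact app_bijective_of_le_genLocus s (hW.trans hU)

/-- The restriction of `L` to an open contained in `X_s` is trivial. -/
noncomputable def restrictIsoUnitOfLeGenLocus {L : X.Modules} (s : unitM X ⟶ L) {U : X.Opens}
    (hU : U ≤ CohB1.genLocus L s) : L.restrict U.ι ≅ unitM (U : Scheme.{u}) :=
  haveI := isIso_restrict_of_le_genLocus s hU
  (asIso ((Scheme.Modules.restrictFunctor U.ι).map s)).symm ≪≫ restrictUnitIso' U.ι

/-- On a scheme with an ample invertible module, every invertible module is trivial on an open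
neighbourhood of any given finite set of points. -/
theorem exists_open_trivial_of_finite {M L : X.Modules} (hM : CohB1.IsAmple M)
    (hL : PicF.IsInvertible L) (Z : Set X) (hZ : Z.Finite) :
    ∃ U : X.Opens, Z ⊆ U ∧ Nonempty (L.restrict U.ι ≅ unitM (U : Scheme.{u})) := by
  obtain ⟨n₁, hn₁⟩ := exists_section_twist_nonvanishing hM hL Z hZ
  obtain ⟨n₂, hn₂⟩ := exists_section_twist_nonvanishing hM (isInvertible_unit X) Z hZ
  obtain ⟨σ, hσ⟩ := hn₁ (max n₁ n₂) (le_max_left _ _)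
  obtain ⟨τ, hτ⟩ := hn₂ (max n₁ n₂) (le_max_right _ _)
  have hMn := isInvertible_tensorPow hM.1 (max n₁ n₂)
  refine ⟨CohB1.genLocus _ σ ⊓ CohB1.genLocus _ τ, fun z hz => ⟨hσ hz, hτ hz⟩, ?_⟩
  obtain ⟨θ⟩ := nonempty_restrictTensorIso (CohB1.genLocus _ σ ⊓ CohB1.genLocus _ τ).ι hL hMn
  let e1 := restrictIsoUnitOfLeGenLocus σ (inf_le_left : CohB1.genLocus _ σ ⊓ CohB1.genLocus _ τ ≤ _)
  let e2 := restrictIsoUnitOfLeGenLocus τ (inf_le_right : CohB1.genLocus _ σ ⊓ CohB1.genLocus _ τ ≤ _)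
  let e3 : (CohB1.tensorPow M (max n₁ n₂)).restrict (CohB1.genLocus _ σ ⊓ CohB1.genLocus _ τ).ι ≅
      unitM _ :=
    (Scheme.Modules.restrictFunctor _).mapIso (tensorUnitL (CohB1.tensorPow M (max n₁ n₂))).symm ≪≫ e2
  exact ⟨(tensorUnitR _).symm ≪≫ tensorCongr (Iso.refl _) e3.symm ≪≫ θ.symm ≪≫ e1⟩

end TrivNear

section TrivFibre
variable {X Y : Scheme.{u}}

theorem nonempty_iso_unit_iff_exists_isTriv {L : X.Modules} (U : X.Opens) :
    Nonempty (L.restrict U.ι ≅ unitM (U : Scheme.{u})) ↔ ∃ e : Γ(L, U), IsTriv L U e := by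
  constructor
  · rintro ⟨ε⟩
    exact exists_isTriv_of_iso U ε
  · rintro ⟨e, he⟩
    obtain ⟨σ, -⟩ := he.exists_iso_restrict
    exact ⟨σ.symm⟩

theorem nonempty_iso_unit_restrict_mono {L : X.Modules} {U W : X.Opens} (h : W ≤ U)
    (hU : Nonempty (L.restrict U.ι ≅ unitM (U : Scheme.{u}))) :
    Nonempty (L.restrict W.ι ≅ unitM (W : Scheme.{u})) := by
  rw [nonempty_iso_unit_iff_exists_isTriv] at hU ⊢
  obtain ⟨e, he⟩ := hU
  exact ⟨_, he.restrict h⟩

theorem nonempty_iso_unit_of_restrict_restrict {L : X.Modules} (X₀ : X.Opens)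
    (U₀ : (X₀ : Scheme.{u}).Opens)
    (h : Nonempty ((L.restrict X₀.ι).restrict U₀.ι ≅ unitM (U₀ : Scheme.{u}))) :
    Nonempty (L.restrict (X₀.ι ''ᵁ U₀).ι ≅ unitM ((X₀.ι ''ᵁ U₀ : X.Opens) : Scheme.{u})) := by
  rw [nonempty_iso_unit_iff_exists_isTriv] at h ⊢
  obtain ⟨e, he⟩ := h
  exact ⟨e, he.of_restrict X₀.ι⟩

/-- For a finite morphism, an invertible module on the source is trivial over the preimage of a
neighbourhood of any given point of the target. -/
theorem exists_nhd_trivial_preimage_of_isFinite (π : X ⟶ Y) [IsFinite π] {L : X.Modules}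
    (hL : PicF.IsInvertible L) (y : Y) :
    ∃ V : Y.Opens, y ∈ V ∧
      Nonempty (L.restrict (π ⁻¹ᵁ V).ι ≅ unitM ((π ⁻¹ᵁ V : X.Opens) : Scheme.{u})) := by
  obtain ⟨V₀, hV₀, hyV₀, -⟩ := exists_isAffineOpen_mem_and_subset (x := y) (U := ⊤) trivial
  have hX₀ : IsAffineOpen (π ⁻¹ᵁ V₀) := hV₀.preimage π
  have : IsAffine ((π ⁻¹ᵁ V₀ : X.Opens) : Scheme.{u}) := hX₀
  have hM : CohB1.IsAmple (unitM ((π ⁻¹ᵁ V₀ : X.Opens) : Scheme.{u})) :=
    isQuasiAffine_iff_isAmple_unit.mp inferInstance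
  have hL₀ := isInvertible_restrict (π ⁻¹ᵁ V₀).ι hL
  have hfin : ((π ⁻¹ᵁ V₀).ι ⁻¹' (π ⁻¹' {y})).Finite :=
    (π.finite_preimage_singleton y).preimage (π ⁻¹ᵁ V₀).ι.isEmbedding.injective.injOn
  obtain ⟨U₀, hZU₀, hU₀⟩ := exists_open_trivial_of_finite hM hL₀ _ hfin
  have htriv := nonempty_iso_unit_of_restrict_restrict (π ⁻¹ᵁ V₀) U₀ hU₀
  have hclosed : IsClosed (π '' (((π ⁻¹ᵁ V₀).ι ''ᵁ U₀ : X.Opens) : Set X)ᶜ) :=
    π.isClosedMap _ ((π ⁻¹ᵁ V₀).ι ''ᵁ U₀).isOpen.isClosed_compl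
  refine ⟨V₀ ⊓ ⟨_, hclosed.isOpen_compl⟩, ⟨hyV₀, ?_⟩, ?_⟩
  · rintro ⟨x, hxU, hxy⟩
    apply hxU
    have hxV₀ : x ∈ π ⁻¹ᵁ V₀ := by
      change π x ∈ V₀
      rw [hxy]; exact hyV₀
    exact ⟨⟨x, hxV₀⟩, hZU₀ (show π x ∈ ({y} : Set Y) from hxy), rfl⟩
  · refine nonempty_iso_unit_restrict_mono ?_ htriv
    intro x hx
    by_contra hxU
    exact hx.2 ⟨x, hxU, rfl⟩

end TrivFibre

end Groth.Agent.Lib.Helper29.QCoh
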