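import Groth.Agent.Lib.Helper29.Twist2
import Groth.Agent.Lib.Helper29.SerreA
universe u
open CategoryTheory CategoryTheory.Limits AlgebraicGeometry Opposite TopologicalSpace

/-! # Serre twists on `Proj`: global generation and ampleness of `O(1)` -/

namespace Groth.Agent.Lib.Helper29.QCoh

section TrivGerm
variable {X : Scheme.{u}} {L : X.Modules}

theorem IsTriv.span_germ_eq_top {U : X.Opens} {e : Γ(L, U)} (hT : IsTriv L U e) (x : X)
    (hx : x ∈ U) :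
    Submodule.span (X.presheaf.stalk x) {L.presheaf.germ U x hx e} = ⊤ := by
  rw [eq_top_iff]
  rintro t -
  obtain ⟨V, hxV, m, rfl⟩ := L.presheaf.exists_germ_eq t
  obtain ⟨a, ha⟩ := (hT.restrict (inf_le_right : V ⊓ U ≤ U)).exists_eq_smul
    (QCoh.res L (inf_le_left : V ⊓ U ≤ V) m)
  have h1 : L.presheaf.germ V x hxV m =
      L.presheaf.germ (V ⊓ U) x ⟨hxV, hx⟩ (QCoh.res L inf_le_left m) :=
    (germ_res L (inf_le_left : V ⊓ U ≤ V) x ⟨hxV, hx⟩ m).symm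
  rw [h1, ha, germ_smul, germ_res]
  exact Submodule.smul_mem _ _ (Submodule.subset_span rfl)

/-- If the restriction of `s` to `U` is a trivialising section, then `U ≤ X_s`. -/
theorem le_genLocus_of_isTriv_sval (s : unitM X ⟶ L) {U : X.Opens}
    (hT : IsTriv L U (sval s U)) : U ≤ CohB1.genLocus L s := by
  have h := hT.genLocus_inf s (1 : Γ(X, U)) (by rw [one_smul])
  rw [Scheme.basicOpen_of_isUnit _ isUnit_one] at h
  exact inf_eq_right.mp h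

end TrivGerm

section Twist6
variable {R A : Type u} [CommRing R] [CommRing A] [Algebra R A] {𝒜 : ℕ → Submodule R A} [GradedAlgebra 𝒜]

theorem one_not_mem (x : ProjectiveSpectrum 𝒜) : (1 : A) ∉ x.asHomogeneousIdeal := fun h =>
  x.isPrime.ne_top ((Ideal.eq_top_iff_one _).mpr h)

/-- The global section `f^n / 1` of `O(n d)`. -/
def gSec (n : ℕ) {d : ℕ} (f : 𝒜 d) (m : ℤ) (hm : m = (n : ℤ) * d) : Γ(Twist.twist 𝒜 m, ⊤) :=
  mkSec 𝒜 m ⊤ (⟨f.1 ^ n, SetLike.pow_mem_graded n f.2⟩ : 𝒜 (n • d))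
    (⟨1, SetLike.GradedOne.one_mem⟩ : 𝒜 0) (fun x => one_not_mem x.1)
    (by rw [hm]; push_cast [smul_eq_mul]; ring)

theorem res_gSec (n : ℕ) {d : ℕ} (f : 𝒜 d) (m : ℤ) (hm : m = (n : ℤ) * d) (U : (Proj 𝒜).Opens)
    (hU : U ≤ Proj.basicOpen 𝒜 f.1) :
    QCoh.res (Twist.twist 𝒜 m) le_top (gSec n f m hm) =
      eSec m f n 0 (by rw [hm]; push_cast; ring) U hU := by
  apply tfun_ext
  intro x
  rw [tfun_res, tfun_eSec]
  change Localization.mk (f.1 ^ n) _ = _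
  apply mk_eq_mk_of_mul_eq
  simp

theorem isUnit_mk_iff (x : ProjectiveSpectrum 𝒜) (a s : A) (hs : s ∉ x.asHomogeneousIdeal) :
    IsUnit (Localization.mk a ⟨s, hs⟩ : Twist.Loc 𝒜 x) ↔ a ∉ x.asHomogeneousIdeal := by
  rw [Localization.mk_eq_mk'_apply]
  exact IsLocalization.AtPrime.isUnit_mk'_iff _ x.asHomogeneousIdeal.toIdeal a _

theorem exists_mem_basicOpen_of_span (s : Finset A)
    (hs : (HomogeneousIdeal.irrelevant 𝒜).toIdeal = Ideal.span (s : Set A)) (x : Proj 𝒜) :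
    ∃ f ∈ s, x ∈ Proj.basicOpen 𝒜 f := by
  have h := Proj.iSup_basicOpen_eq_top 𝒜 (fun f : s => (f : A)) (by
    rw [hs]
    apply Ideal.span_mono
    intro a ha
    exact ⟨⟨a, ha⟩, rfl⟩)
  have hx : x ∈ (⨆ f : s, Proj.basicOpen 𝒜 (f : A)) := by rw [h]; trivial
  obtain ⟨f, hf⟩ := Opens.mem_iSup.mp hx
  exact ⟨f.1, f.2, hf⟩

theorem span_germ_gSec_eq_top (n : ℕ) {d : ℕ} (f : 𝒜 d) (m : ℤ) (hm : m = (n : ℤ) * d)
    (x : Proj 𝒜) (hx : x ∈ Proj.basicOpen 𝒜 f.1) :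
    Submodule.span ((Proj 𝒜).presheaf.stalk x)
      {(Twist.twist 𝒜 m).presheaf.germ ⊤ x trivial (gSec n f m hm)} = ⊤ := by
  have hT := isTriv_eSec m f n 0 (by rw [hm]; push_cast; ring) (Proj.basicOpen 𝒜 f.1) le_rfl
  have := hT.span_germ_eq_top x hx
  rw [← res_gSec n f m hm, germ_res] at this
  exact this

/-- If `S_+` is generated by finitely many elements of degree one, `O(n)` (`n ≥ 0`) is a quotient
of a finite free module. -/
theorem exists_epi_freeMod_twist (s : Finset A) (hs1 : ∀ f ∈ s, f ∈ 𝒜 1)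
    (hs : (HomogeneousIdeal.irrelevant 𝒜).toIdeal = Ideal.span (s : Set A)) (n : ℕ) :
    ∃ (k : ℕ) (p : FlatMod.freeMod (Proj 𝒜) k ⟶ Twist.twist 𝒜 (n : ℤ)), Epi p := by
  classical
  let σ : s → Γ(Twist.twist 𝒜 (n : ℤ), ⊤) := fun f =>
    gSec n (⟨f.1, hs1 _ f.2⟩ : 𝒜 1) (n : ℤ) (by simp)
  let k := s.card
  let idx : ULift.{u} (Fin k) → s := fun i => s.equivFin.symm i.down
  have hepi : Epi (homOfSections (Twist.twist 𝒜 (n : ℤ)) (σ ∘ idx)) := by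
    apply epi_homOfSections_of_span
    intro x
    obtain ⟨f, hf, hx⟩ := exists_mem_basicOpen_of_span s hs x
    have hi : idx ⟨s.equivFin ⟨f, hf⟩⟩ = ⟨f, hf⟩ := by simp [idx]
    rw [eq_top_iff, ← span_germ_gSec_eq_top n (⟨f, hs1 f hf⟩ : 𝒜 1) (n : ℤ) (by simp) x hx]
    apply Submodule.span_mono
    rintro _ rfl
    refine ⟨⟨s.equivFin ⟨f, hf⟩⟩, ?_⟩
    simp only [Function.comp_apply, hi]
    rfl
  exact ⟨k, (freeModIso _ k).hom ≫ homOfSections _ (σ ∘ idx), epi_comp _ _⟩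

theorem genLocus_homOfSection_gSec (hcov : ∀ x : Proj 𝒜, ∃ g : 𝒜 1, x ∈ Proj.basicOpen 𝒜 g.1)
    (n : ℕ) (hn : 0 < n) (f : 𝒜 1) (m : ℤ) (hm : m = (n : ℤ) * (1 : ℕ)) :
    CohB1.genLocus (Twist.twist 𝒜 m) (homOfSection _ (gSec n f m hm)) =
      Proj.basicOpen 𝒜 f.1 := by
  have hm' : m = ((n : ℤ) - (0 : ℕ)) * (1 : ℕ) := by rw [hm]; push_cast; ring
  apply le_antisymm
  · intro x hx
    by_contra hxf
    have hfx : f.1 ∈ x.asHomogeneousIdeal := by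
      by_contra h; exact hxf h
    obtain ⟨g, hg⟩ := hcov x
    have hT1 := isTriv_sval_of_le_genLocus (homOfSection _ (gSec n f m hm))
      (inf_le_left : CohB1.genLocus (Twist.twist 𝒜 m) (homOfSection _ (gSec n f m hm)) ⊓
        Proj.basicOpen 𝒜 g.1 ≤ _)
    obtain ⟨b, hb⟩ := hT1.exists_eq_smul (eSec m g n 0 hm' _ inf_le_right)
    rw [sval_homOfSection] at hb
    have hxU : x ∈ CohB1.genLocus (Twist.twist 𝒜 m) (homOfSection _ (gSec n f m hm)) ⊓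
        Proj.basicOpen 𝒜 g.1 := ⟨hx, hg⟩
    have h1 := congrArg (fun σ => tfun 𝒜 σ ⟨x, hxU⟩) hb
    simp only [tfun_smul, tfun_eSec, tfun_res] at h1
    have h2 : tfun 𝒜 (gSec n f m hm) ⟨x, trivial⟩ =
        Localization.mk (f.1 ^ n) ⟨1, one_not_mem x⟩ := rfl
    have hu : IsUnit (Localization.mk (g.1 ^ n) ⟨g.1 ^ 0, pow_not_mem_of_not_mem hg 0⟩ :
        Twist.Loc 𝒜 x) :=
      (isUnit_mk_iff x _ _ _).mpr (pow_not_mem_of_not_mem hg n)
    rw [h1] at hu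
    have hu2 := isUnit_of_mul_isUnit_right hu
    erw [h2, isUnit_mk_iff] at hu2
    exact hu2 (Ideal.pow_mem_of_mem _ hfx n hn)
  · apply le_genLocus_of_isTriv_sval
    rw [sval_homOfSection, res_gSec n f m hm _ le_rfl]
    exact isTriv_eSec m f n 0 _ _ le_rfl

theorem exists_degree_one_cover (s : Finset A) (hs1 : ∀ f ∈ s, f ∈ 𝒜 1)
    (hs : (HomogeneousIdeal.irrelevant 𝒜).toIdeal = Ideal.span (s : Set A)) (x : Proj 𝒜) :
    ∃ g : 𝒜 1, x ∈ Proj.basicOpen 𝒜 g.1 := by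
  obtain ⟨f, hf, hx⟩ := exists_mem_basicOpen_of_span s hs x
  exact ⟨⟨f, hs1 f hf⟩, hx⟩

theorem iSup_basicOpen_eq_top_of_forall (h : ∀ x : Proj 𝒜, ∃ g : 𝒜 1, x ∈ Proj.basicOpen 𝒜 g.1) :
    (⨆ f : 𝒜 1, Proj.basicOpen 𝒜 (f : A)) = ⊤ := by
  rw [eq_top_iff]
  intro x _
  exact Opens.mem_iSup.mpr (h x)

theorem compactSpace_proj_of_span (s : Finset A) (hs1 : ∀ f ∈ s, f ∈ 𝒜 1)
    (hs : (HomogeneousIdeal.irrelevant 𝒜).toIdeal = Ideal.span (s : Set A)) :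
    CompactSpace (Proj 𝒜) := by
  rw [← isCompact_univ_iff]
  have : (Set.univ : Set (Proj 𝒜)) = ⋃ f ∈ s, (Proj.basicOpen 𝒜 f : Set (Proj 𝒜)) := by
    ext x
    simp only [Set.mem_univ, Set.mem_iUnion, true_iff]
    obtain ⟨f, hf, hx⟩ := exists_mem_basicOpen_of_span s hs x
    exact ⟨f, hf, hx⟩
  rw [this]
  exact s.finite_toSet.isCompact_biUnion fun f hf =>
    (Proj.isAffineOpen_basicOpen 𝒜 f (hs1 f hf) one_pos).isCompact

/-- If `S_+` is generated by finitely many elements of degree one, `O(1)` is ample. -/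
theorem isAmple_twist_one (s : Finset A) (hs1 : ∀ f ∈ s, f ∈ 𝒜 1)
    (hs : (HomogeneousIdeal.irrelevant 𝒜).toIdeal = Ideal.span (s : Set A)) :
    CohB1.IsAmple (Twist.twist 𝒜 1) := by
  have hcov := exists_degree_one_cover s hs1 hs
  refine ⟨(twist_invertible_and_tensor (iSup_basicOpen_eq_top_of_forall hcov)).1 1,
    compactSpace_proj_of_span s hs1 hs, fun x => ?_⟩
  obtain ⟨f, hf, hx⟩ := exists_mem_basicOpen_of_span s hs x
  have h1 : (1 : ℤ) = ((1 : ℕ) : ℤ) * (1 : ℕ) := by simp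
  have hgl := genLocus_homOfSection_gSec hcov 1 one_pos (⟨f, hs1 f hf⟩ : 𝒜 1) 1 h1
  have hg := genLocus_comp_iso (homOfSection _ (gSec 1 (⟨f, hs1 f hf⟩ : 𝒜 1) 1 h1))
    (tensorPowOne (Twist.twist 𝒜 1)).symm
  refine ⟨0, homOfSection _ (gSec 1 (⟨f, hs1 f hf⟩ : 𝒜 1) 1 h1) ≫ (tensorPowOne _).inv, ?_, ?_⟩
  · erw [hg, hgl]; exact hx
  · erw [hg, hgl]; exact Proj.isAffineOpen_basicOpen 𝒜 f (hs1 f hf) one_pos

end Twist6

end Groth.Agent.Lib.Helper29.QCoh
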