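import Groth.Agent.Lib.Helper29.MeroCore2
import Groth.Agent.Lib.Helper29.Cocycle
import Groth.Agent.Lib.Helper29.Twist3
set_option autoImplicit false
universe u
open CategoryTheory CategoryTheory.Limits AlgebraicGeometry TopologicalSpace Opposite

namespace Groth.Agent.Lib.Helper29.QCoh.MeroK
open Groth.Agent.Lib.Helper26

variable {X : Scheme.{u}}

/-- A compatible family of local trivialisations of `L` and local meromorphic unit functions:
"`s = q_x • e_x`" for a (virtual) regular meromorphic section `s`. -/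
structure MData (L : X.Modules) where
  W : X → X.Opens
  mem : ∀ x, x ∈ W x
  e : ∀ x, Γ(L, W x)
  triv : ∀ x, IsTriv L (W x) (e x)
  q : ∀ x, (Γ(Mero.kmod X, W x))ˣ
  compat : ∀ (x y : X) (T : X.Opens) (hx : T ≤ W x) (hy : T ≤ W y) (g : Γ(X, T)),
    res L hy (e y) = g • res L hx (e x) →
    resK hx (q x : Γ(Mero.kmod X, W x)) = Mero.toK X T g * resK hy (q y : Γ(Mero.kmod X, W y))

variable {L : X.Modules}

theorem MData.val_eq (d : MData L) (x z : X) (hz : z ∈ d.W x) :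
    ∃ g : X.presheaf.stalk z,
      (d.q x : Γ(Mero.kmod X, d.W x)).1 ⟨z, hz⟩ =
        algebraMap (X.presheaf.stalk z) (Mero.KStalk X z) g *
          (d.q z : Γ(Mero.kmod X, d.W z)).1 ⟨z, d.mem z⟩ ∧
      L.presheaf.germ (d.W z) z (d.mem z) (d.e z) = g • L.presheaf.germ (d.W x) z hz (d.e x) := by
  set T : X.Opens := d.W x ⊓ d.W z with hT
  obtain ⟨g, hg⟩ := ((d.triv x).restrict (inf_le_left : T ≤ d.W x)).exists_eq_smul
    (res L (inf_le_right : T ≤ d.W z) (d.e z))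
  have h1 := d.compat x z T inf_le_left inf_le_right g hg
  have hzT : z ∈ T := ⟨hz, d.mem z⟩
  refine ⟨X.presheaf.germ T z hzT g, ?_, ?_⟩
  · have h2 := congrArg (fun t : Γ(Mero.kmod X, T) => t.1 ⟨z, hzT⟩) h1
    simp only [resK_apply, Mero.kmod_mul_apply, Mero.toK_apply] at h2
    rw [algebraMap_eq_mk]
    exact h2
  · have h2 := congrArg (L.presheaf.germ T z hzT) hg
    rw [Mero.germ_smul, germ_res, germ_res] at h2
    exact h2

theorem MData.germOf_eq (d : MData L) (x z : X) (hz : z ∈ d.W x) :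
    Mero.germOf (d.q z) ⟨z, d.mem z⟩ = Mero.germOf (d.q x) ⟨z, hz⟩ := by
  obtain ⟨g, hg, -⟩ := d.val_eq x z hz
  -- the other direction
  set T : X.Opens := d.W z ⊓ d.W x with hT
  obtain ⟨g', hg'⟩ := ((d.triv z).restrict (inf_le_left : T ≤ d.W z)).exists_eq_smul
    (res L (inf_le_right : T ≤ d.W x) (d.e x))
  have h1 := d.compat z x T inf_le_left inf_le_right g' hg'
  have hzT : z ∈ T := ⟨d.mem z, hz⟩
  have h2 := congrArg (fun t : Γ(Mero.kmod X, T) => t.1 ⟨z, hzT⟩) h1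
  simp only [resK_apply, Mero.kmod_mul_apply, Mero.toK_apply] at h2
  rw [Mero.germOf, Mero.germOf, QuotientGroup.eq]
  apply mem_stalkUnits_of_mem_range
  · refine ⟨g, ?_⟩
    rw [Units.val_mul]
    change _ = ((Units.map (Mero.evalK X (d.W z) ⟨z, d.mem z⟩).toMonoidHom (d.q z))⁻¹ :
      (Mero.KStalk X z)ˣ).1 * (d.q x : Γ(Mero.kmod X, d.W x)).1 ⟨z, hz⟩
    rw [hg, mul_left_comm]
    change _ = _ * (((Units.map (Mero.evalK X (d.W z) ⟨z, d.mem z⟩).toMonoidHom (d.q z))⁻¹ :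
      (Mero.KStalk X z)ˣ).1 * ((Units.map (Mero.evalK X (d.W z) ⟨z, d.mem z⟩).toMonoidHom (d.q z)) :
      (Mero.KStalk X z)ˣ).1)
    rw [Units.inv_mul, mul_one]
  · refine ⟨X.presheaf.germ T z hzT g', ?_⟩
    rw [mul_inv_rev, inv_inv, Units.val_mul]
    change _ = ((Units.map (Mero.evalK X (d.W x) ⟨z, hz⟩).toMonoidHom (d.q x))⁻¹ :
      (Mero.KStalk X z)ˣ).1 * (d.q z : Γ(Mero.kmod X, d.W z)).1 ⟨z, d.mem z⟩
    rw [h2, mul_left_comm]
    change _ = _ * (((Units.map (Mero.evalK X (d.W x) ⟨z, hz⟩).toMonoidHom (d.q x))⁻¹ :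
      (Mero.KStalk X z)ˣ).1 * ((Units.map (Mero.evalK X (d.W x) ⟨z, hz⟩).toMonoidHom (d.q x)) :
      (Mero.KStalk X z)ˣ).1)
    rw [Units.inv_mul, mul_one, algebraMap_eq_mk]

/-- The divisor of a compatible family. -/
noncomputable def MData.div (d : MData L) : Mero.Divisor X :=
  ⟨fun y => Mero.germOf (d.q y) ⟨y, d.mem y⟩,
    fun x => ⟨d.W x, d.mem x, d.q x, fun z => d.germOf_eq x z.1 z.2⟩⟩

theorem MData.div_eq (d : MData L) (x : X) (y : d.W x) :
    d.div.1 y.1 = Mero.germOf (d.q x) y := d.germOf_eq x y.1 y.2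

theorem MData.exists_iso (d : MData L) : ∃ D : Mero.Divisor X, Nonempty (L ≅ Mero.divMod D) := by
  refine ⟨d.div, ?_⟩
  suffices hc : ∀ i j, ∃ g : Γ(X, d.W i ⊓ d.W j),
      res L inf_le_left (d.e i) = g • res L inf_le_right (d.e j) ∧
      res (Mero.divMod d.div) inf_le_left (divGen d.div (d.q i) (d.div_eq i)) =
        g • res (Mero.divMod d.div) inf_le_right (divGen d.div (d.q j) (d.div_eq j)) by
    obtain ⟨φ, -⟩ := exists_iso_of_cocycle (M := L) (N := Mero.divMod d.div) (U := d.W)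
      (m := d.e) (n := fun x => divGen d.div (d.q x) (d.div_eq x))
      (fun x => ⟨x, d.mem x⟩) d.triv (fun x => isTriv_divGen d.div (d.q x) (d.div_eq x)) hc
    exact ⟨φ⟩
  intro i j
  obtain ⟨g, hg⟩ := ((d.triv j).restrict (inf_le_right : d.W i ⊓ d.W j ≤ d.W j)).exists_eq_smul
    (res L (inf_le_left : d.W i ⊓ d.W j ≤ d.W i) (d.e i))
  refine ⟨g, hg, ?_⟩
  have h1 := d.compat j i (d.W i ⊓ d.W j) inf_le_right inf_le_left g hg
  apply div_ext
  intro y
  have h2 := congrArg (fun t : Γ(Mero.kmod X, d.W i ⊓ d.W j) => t.1 y) h1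
  simp only [resK_apply, Mero.kmod_mul_apply, Mero.toK_apply] at h2
  rw [div_smul_apply, div_res_apply, div_res_apply, divGen_apply, divGen_apply, smul_eq_mk_mul]
  have e1 := unit_inv_mul_val (d.q i) ⟨y.1, y.2.1⟩
  have e2 := unit_inv_mul_val (d.q j) ⟨y.1, y.2.2⟩
  calc ((d.q i)⁻¹ : (Γ(Mero.kmod X, d.W i))ˣ).1.1 ⟨y.1, y.2.1⟩
      = ((d.q i)⁻¹ : (Γ(Mero.kmod X, d.W i))ˣ).1.1 ⟨y.1, y.2.1⟩ *
        (((d.q j)⁻¹ : (Γ(Mero.kmod X, d.W j))ˣ).1.1 ⟨y.1, y.2.2⟩ *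
          (d.q j : Γ(Mero.kmod X, d.W j)).1 ⟨y.1, y.2.2⟩) := by rw [e2, mul_one]
    _ = _ := by
      rw [h2]
      rw [show ∀ a b c dd : Mero.KStalk X y.1, a * (b * (c * dd)) = c * b * (a * dd) from
        fun a b c dd => by ring, e1, mul_one]

end Groth.Agent.Lib.Helper29.QCoh.MeroK
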