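import Groth.Agent.Lib.Helper29.ZeroSch1
import Groth.Agent.Lib.Helper29.MeroCore3
import Groth.Agent.Lib.Helper29.IntegInv
import Groth.Agent.Lib.Helper29.DivTensor
import Groth.Agent.Lib.Helper29.Depth1M
set_option autoImplicit false
universe u
open CategoryTheory CategoryTheory.Limits AlgebraicGeometry TopologicalSpace Opposite

namespace Groth.Agent.Lib.Helper29.ZeroSch
open Groth.Agent.Lib.Helper29.QCoh Groth.Agent.Lib.Helper29.QCoh.MeroK

variable {X : Scheme.{u}}

theorem zI_eq_span_of_isTriv {L : X.Modules} (s : unitM X ⟶ L) {U : X.Opens} {e : Γ(L, U)}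
    (he : IsTriv L U e) (a : Γ(X, U)) (ha : sval s U = a • e) : zI L s U = Ideal.span {a} := by
  ext c
  rw [mem_zI, Ideal.mem_span_singleton']
  constructor
  · intro h
    obtain ⟨b, hb⟩ := h e
    refine ⟨b, he.smul_left_cancel ?_⟩
    rw [hb, ha, smul_smul]
  · rintro ⟨r, rfl⟩ m
    obtain ⟨t, rfl⟩ := he.exists_eq_smul m
    refine ⟨r * t, ?_⟩
    rw [ha, smul_smul, smul_smul]
    congr 1
    ring

theorem isFinLocFree_of_isInvertible {L : X.Modules} (hL : PicF.IsInvertible L) :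
    FlatMod.IsFinLocFree L :=
  isFinLocFree_of_isFinLocFreeOfRank ((isInvertible_iff_isFinLocFreeOfRank_one L).mp hL)

theorem zeroScheme_ideal_of_isTriv {L : X.Modules} (hL : PicF.IsInvertible L) (s : unitM X ⟶ L)
    {U : X.Opens} (hU : IsAffineOpen U) {e : Γ(L, U)}
    (he : IsTriv L U e) (a : Γ(X, U)) (ha : sval s U = a • e) :
    (PicF2.zeroScheme L s).ideal ⟨U, hU⟩ = Ideal.span {a} := by
  rw [zeroScheme_ideal (isFinLocFree_of_isInvertible hL) s ⟨U, hU⟩]
  exact zI_eq_span_of_isTriv s he a ha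

theorem sval_ne_zero [IsIntegral X] {L : X.Modules} (hL : PicF.IsInvertible L) (s : unitM X ⟶ L)
    (hs : s ≠ 0) {U : X.Opens} (hU : (U : Set X).Nonempty) : sval s U ≠ 0 := by
  intro h0
  apply hs
  apply hom_ext_of_sval
  rw [sval_zero']
  apply eq_zero_of_res_eq_zero_of_isIntegral hL (le_top : U ≤ ⊤) hU
  rw [res_sval]; exact h0

/-- The class at `y` of a regular section. -/
theorem germOf_toK_unit {U : X.Opens} (a : Mero.regSub X U) (q : (Γ(Mero.kmod X, U))ˣ)
    (hq : (q : Γ(Mero.kmod X, U)) = Mero.toK X U a.1) (y : U) :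
    Mero.germOf q y =
      QuotientGroup.mk (IsLocalization.map_units (Mero.KStalk X y.1) (Mero.regGerm y a)).unit := by
  unfold Mero.germOf
  congr 1
  apply Units.ext
  rw [Depth1.unit_val_eq]
  change (q : Γ(Mero.kmod X, U)).1 y = _
  rw [hq, Mero.toK_apply]

/-- Meromorphic data attached to a nonzero section of an invertible module on an integral
scheme. -/
theorem exists_mdata_of_section [IsIntegral X] {L : X.Modules} (hL : PicF.IsInvertible L)
    (s : unitM X ⟶ L) (hs : s ≠ 0) :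
    ∃ (d : MData L) (a : ∀ x, Γ(X, d.W x)), (∀ x, IsAffineOpen (d.W x)) ∧
      (∀ x, a x ∈ Mero.regSub X (d.W x)) ∧ (∀ x, sval s (d.W x) = a x • d.e x) ∧
      (∀ x, (d.q x : Γ(Mero.kmod X, d.W x)) = Mero.toK X (d.W x) (a x)) := by
  have hloc : ∀ x : X, ∃ (U : X.Opens) (e : Γ(L, U)), IsAffineOpen U ∧ x ∈ U ∧ IsTriv L U e := by
    intro x
    obtain ⟨U, e, hU, hxU, -, he⟩ := exists_affine_isTriv hL (W := ⊤) x trivial
    exact ⟨U, e, hU, hxU, he⟩
  choose W e hW hxW he using hloc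
  have ha : ∀ x, ∃ a : Γ(X, W x), sval s (W x) = a • e x := fun x => (he x).exists_eq_smul _
  choose a ha using ha
  have hane : ∀ x, a x ≠ 0 := by
    intro x h0
    apply sval_ne_zero hL s hs ⟨x, hxW x⟩
    rw [ha x, h0, zero_smul]
  have hdom : ∀ x, IsDomain Γ(X, W x) := fun x => by
    haveI : Nonempty (W x) := ⟨⟨x, hxW x⟩⟩
    infer_instance
  have hreg : ∀ x, a x ∈ Mero.regSub X (W x) := fun x => by
    haveI := hdom x
    exact mem_regSub_of_mem_nonZeroDivisors (hW x) (a x) (mem_nonZeroDivisors_of_ne_zero (hane x))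
  let d : MData L :=
    { W := W
      mem := hxW
      e := e
      triv := he
      q := fun x => (isUnit_toK ⟨a x, hreg x⟩).unit
      compat := by
        intro x y T hx hy g hg
        change resK hx (Mero.toK X (W x) (a x)) = Mero.toK X T g * resK hy (Mero.toK X (W y) (a y))
        rw [resK_toK, resK_toK, ← map_mul]
        congr 1
        apply ((he x).restrict hx).smul_left_cancel
        have h1 : rres X hx (a x) • QCoh.res L hx (e x) = sval s T := by
          rw [← res_smul', ← ha x, res_sval]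
        have h2 : rres X hy (a y) • QCoh.res L hy (e y) = sval s T := by
          rw [← res_smul', ← ha y, res_sval]
        change rres X hx (a x) • _ = (g * rres X hy (a y)) • _
        rw [h1, ← h2, hg, smul_smul, mul_comm] }
  exact ⟨d, a, hW, hreg, ha, fun x => rfl⟩

/-- Strengthened form of `MData.exists_iso`. -/
theorem MData.exists_iso' {L : X.Modules} (d : MData L) :
    ∃ φ : L ≅ Mero.divMod d.div, ∀ x, φ.hom.app (d.W x) (d.e x) =
      divGen d.div (d.q x) (d.div_eq x) := by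
  suffices hc : ∀ i j, ∃ g : Γ(X, d.W i ⊓ d.W j),
      QCoh.res L inf_le_left (d.e i) = g • QCoh.res L inf_le_right (d.e j) ∧
      QCoh.res (Mero.divMod d.div) inf_le_left (divGen d.div (d.q i) (d.div_eq i)) =
        g • QCoh.res (Mero.divMod d.div) inf_le_right (divGen d.div (d.q j) (d.div_eq j)) by
    exact exists_iso_of_cocycle (M := L) (N := Mero.divMod d.div) (U := d.W)
      (m := d.e) (n := fun x => divGen d.div (d.q x) (d.div_eq x))
      (fun x => ⟨x, d.mem x⟩) d.triv (fun x => isTriv_divGen d.div (d.q x) (d.div_eq x)) hc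
  intro i j
  obtain ⟨g, hg⟩ := ((d.triv j).restrict (inf_le_right : d.W i ⊓ d.W j ≤ d.W j)).exists_eq_smul
    (QCoh.res L (inf_le_left : d.W i ⊓ d.W j ≤ d.W i) (d.e i))
  refine ⟨g, hg, ?_⟩
  have h1 := d.compat j i (d.W i ⊓ d.W j) inf_le_right inf_le_left g hg
  apply div_ext
  intro y
  have h2 := congrArg (fun t : Γ(Mero.kmod X, d.W i ⊓ d.W j) => t.1 y) h1
  simp only [resK_apply, Mero.kmod_mul_apply, Mero.toK_apply] at h2
  rw [div_smul_apply, div_res_apply, div_res_apply, divGen_apply, divGen_apply, smul_eq_mk_mul]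
  have e1 := unit_inv_mul_val (d.q i) ⟨y.1, y.2.1⟩
  have e2 := unit_inv_mul_val (d.q j) ⟨y.1, y.2.2⟩
  calc ((d.q i)⁻¹ : (Γ(Mero.kmod X, d.W i))ˣ).1.1 ⟨y.1, y.2.1⟩
      = ((d.q i)⁻¹ : (Γ(Mero.kmod X, d.W i))ˣ).1.1 ⟨y.1, y.2.1⟩ *
        (((d.q j)⁻¹ : (Γ(Mero.kmod X, d.W j))ˣ).1.1 ⟨y.1, y.2.2⟩ *
          (d.q j : Γ(Mero.kmod X, d.W j)).1 ⟨y.1, y.2.2⟩) := by rw [e2, mul_one]
    _ = _ := by
      rw [h2]
      rw [show ∀ a b c dd : Mero.KStalk X y.1, a * (b * (c * dd)) = c * b * (a * dd) from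
        fun a b c dd => by ring, e1, mul_one]

theorem exists_divisor_of_section [IsIntegral X] {L : X.Modules} (hL : PicF.IsInvertible L)
    (s : unitM X ⟶ L) (hs : s ≠ 0) :
    ∃ D : Mero.Divisor X, Mero.IsDivOfIdeal D (PicF2.zeroScheme L s) ∧
      ∃ e : L ≅ Mero.divMod D,
        (Mero.divModι D).app ⊤ (e.hom.app ⊤ (SecTwist.val s ⊤)) = 1 := by
  obtain ⟨d, a, hW, hreg, ha, hq⟩ := exists_mdata_of_section hL s hs
  refine ⟨d.div, ?_, ?_⟩
  · intro x
    refine ⟨⟨d.W x, hW x⟩, d.mem x, a x, hreg x,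
      zeroScheme_ideal_of_isTriv hL s (hW x) (d.triv x) (a x) (ha x), fun y => ?_⟩
    rw [d.div_eq x y]
    exact germOf_toK_unit ⟨a x, hreg x⟩ (d.q x) (hq x) y
  · obtain ⟨φ, hφ⟩ := MData.exists_iso' d
    refine ⟨φ, ?_⟩
    rw [divModι_app]
    apply kmod_ext
    intro y
    rw [divVal_apply, Mero.kmod_one_apply]
    have h1 : QCoh.res (Mero.divMod d.div) (le_top : d.W y.1 ≤ ⊤)
        (φ.hom.app ⊤ (SecTwist.val s ⊤)) = a y.1 • divGen d.div (d.q y.1) (d.div_eq y.1) := by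
      rw [← app_res]
      have : QCoh.res L (le_top : d.W y.1 ≤ ⊤) (SecTwist.val s ⊤) = sval s (d.W y.1) :=
        res_sval s le_top
      rw [this, ha y.1]
      rw [app_smul', hφ]
    have h2 := congrArg (fun t : Γ(Mero.divMod d.div, d.W y.1) => t.1 ⟨y.1, d.mem y.1⟩) h1
    simp only [div_res_apply, div_smul_apply, divGen_apply] at h2
    refine h2.trans ?_
    rw [smul_eq_mk_mul]
    have h4 : (LocalizedModule.mk (X.presheaf.germ (d.W y.1) y.1 (d.mem y.1) (a y.1)) 1 :
        Mero.KStalk X y.1) = (d.q y.1 : Γ(Mero.kmod X, d.W y.1)).1 ⟨y.1, d.mem y.1⟩ := by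
      rw [hq y.1]; rfl
    rw [h4]
    exact unit_val_mul_inv (d.q y.1) ⟨y.1, d.mem y.1⟩

end Groth.Agent.Lib.Helper29.ZeroSch
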