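import Groth.Agent.Lib.Helper29.Avoid
import Groth.Agent.Lib.Helper29.ZeroSch2
import Groth.Agent.Lib.Helper29.EffC3
import Groth.Agent.Lib.Helper25.HypTwist1
import Groth.Agent.Lib.Helper29.Desc3
import Mathlib
universe u
open CategoryTheory CategoryTheory.Limits AlgebraicGeometry TopologicalSpace Opposite

/-! # Regular sections of invertible modules on Noetherian schemes -/

namespace Groth.Agent.Lib.Helper29.AmpDiv
open Groth.Agent.Lib.Helper29.QCoh Groth.Agent.Lib.Helper29.ZeroSch
  Groth.Agent.Lib.Helper29.EffC Groth.Agent.Lib.Helper25.BlowUpUP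

variable {X : Scheme.{u}}

/-- The associated points of a scheme. -/
def assPts (X : Scheme.{u}) : Set X :=
  {x | IsAssociatedPrime (IsLocalRing.maximalIdeal (X.presheaf.stalk x)) (X.presheaf.stalk x)}

theorem mem_assPts_iff [IsLocallyNoetherian X] (U : X.affineOpens) (x : X) (hx : x ∈ U.1) :
    x ∈ assPts X ↔
      (U.2.primeIdealOf ⟨x, hx⟩).asIdeal ∈ associatedPrimes Γ(X, U.1) Γ(X, U.1) := by
  have hA : IsNoetherianRing Γ(X, U.1) := IsLocallyNoetherian.component_noetherian U
  letI : Algebra Γ(X, U.1) (X.presheaf.stalk x) := (X.presheaf.germ U.1 x hx).hom.toAlgebra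
  haveI hloc : IsLocalization.AtPrime (X.presheaf.stalk x) (U.2.primeIdealOf ⟨x, hx⟩).asIdeal :=
    U.2.isLocalization_stalk ⟨x, hx⟩
  have key :=
    Module.associatedPrimes.preimage_comap_associatedPrimes_eq_associatedPrimes_of_isLocalizedModule
      (U.2.primeIdealOf ⟨x, hx⟩).asIdeal.primeCompl (X.presheaf.stalk x)
      (Algebra.linearMap Γ(X, U.1) (X.presheaf.stalk x))
  have hc : Ideal.comap (algebraMap Γ(X, U.1) (X.presheaf.stalk x))
      (IsLocalRing.maximalIdeal (X.presheaf.stalk x)) = (U.2.primeIdealOf ⟨x, hx⟩).asIdeal :=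
    IsLocalization.AtPrime.under_maximalIdeal (X.presheaf.stalk x) _
  show IsLocalRing.maximalIdeal (X.presheaf.stalk x) ∈
    associatedPrimes (X.presheaf.stalk x) (X.presheaf.stalk x) ↔ _
  rw [← key, Set.mem_preimage, hc]

theorem finite_assPts [IsNoetherian X] : (assPts X).Finite := by
  have hall : ∀ x : X, ∃ U : X.affineOpens, x ∈ U.1 := fun x => by
    obtain ⟨_, ⟨U₀, hU₀, rfl⟩, hxU, -⟩ :=
      X.isBasis_affineOpens.exists_subset_of_mem_open (Set.mem_univ x) isOpen_univ
    exact ⟨⟨U₀, hU₀⟩, hxU⟩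
  choose U hxU using hall
  obtain ⟨T, hT⟩ := CompactSpace.elim_nhds_subcover (fun x => ((U x).1 : Set X))
    (fun x => (U x).1.isOpen.mem_nhds (hxU x))
  have hsub : assPts X ⊆ ⋃ t ∈ T, (U t).2.fromSpec ''
      {P : PrimeSpectrum Γ(X, (U t).1) | P.asIdeal ∈ associatedPrimes Γ(X, (U t).1) Γ(X, (U t).1)} := by
    intro x hx
    have hz : x ∈ ⋃ t ∈ T, ((U t).1 : Set X) := by rw [hT]; trivial
    simp only [Set.mem_iUnion, exists_prop] at hz
    obtain ⟨t, htT, hxt⟩ := hz
    refine Set.mem_iUnion₂.mpr ⟨t, htT, (U t).2.primeIdealOf ⟨x, hxt⟩, ?_, ?_⟩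
    · exact (mem_assPts_iff (U t) x hxt).mp hx
    · exact (U t).2.fromSpec_primeIdealOf ⟨x, hxt⟩
  refine Set.Finite.subset ?_ hsub
  refine Set.Finite.biUnion T.finite_toSet (fun t _ => Set.Finite.image _ ?_)
  have hA : IsNoetherianRing Γ(X, (U t).1) := IsLocallyNoetherian.component_noetherian (U t)
  have hfin := associatedPrimes.finite Γ(X, (U t).1) Γ(X, (U t).1)
  refine Set.Finite.of_finite_image (f := PrimeSpectrum.asIdeal) (hfin.subset ?_) ?_
  · rintro _ ⟨P, hP, rfl⟩; exact hP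
  · intro P _ Q _ h; exact PrimeSpectrum.ext h

/-- A function on an affine open which is invertible at every associated point is a
nonzerodivisor. -/
theorem mem_nonZeroDivisors_of_assPts [IsLocallyNoetherian X] (U : X.affineOpens)
    (a : Γ(X, U.1)) (h : ∀ x ∈ assPts X, x ∈ U.1 → x ∈ X.basicOpen a) :
    a ∈ nonZeroDivisors Γ(X, U.1) := by
  have hA : IsNoetherianRing Γ(X, U.1) := IsLocallyNoetherian.component_noetherian U
  by_contra hcon
  have h1 : a ∈ ((nonZeroDivisors Γ(X, U.1) : Set Γ(X, U.1)))ᶜ := hcon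
  rw [← biUnion_associatedPrimes_eq_compl_nonZeroDivisors] at h1
  obtain ⟨q, hq, haq⟩ := Set.mem_iUnion₂.mp h1
  have hqprime : q.IsPrime := hq.isPrime
  obtain ⟨w, hwU, hw⟩ := exists_point_of_prime U q
  have hwass : w ∈ assPts X := (mem_assPts_iff U w hwU).mpr (hw ▸ hq)
  have h2 := h w hwass hwU
  have h3 := (Groth.Agent.Lib.Helper29.Punct.mem_basicOpen_fromSpec U.2 a
      (U.2.primeIdealOf ⟨w, hwU⟩))
  rw [U.2.fromSpec_primeIdealOf ⟨w, hwU⟩] at h3
  exact h3.mp h2 (hw ▸ haq)

/-- A nonzerodivisor on an affine open restricts to a nonzerodivisor on every smaller open. -/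
theorem rres_mul_eq_zero {U : X.Opens} (hU : IsAffineOpen U) (a : Γ(X, U))
    (ha : a ∈ nonZeroDivisors Γ(X, U)) (W : X.Opens) (h : W ≤ U) (r : Γ(X, W))
    (hr : r * rres X h a = 0) : r = 0 := by
  have hnzd : rres X h a ∈ nonZeroDivisors Γ(X, W) := by
    refine mem_nonZeroDivisors_of_germ W _ (fun x hx => ?_)
    have h1 := germ_mem_nonZeroDivisors_of_isAffineOpen hU a ha x (h hx)
    have h2 : X.presheaf.germ W x hx (rres X h a) = X.presheaf.germ U x (h hx) a :=
      TopCat.Presheaf.germ_res_apply X.presheaf (homOfLE h) x hx a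
    rw [h2]; exact h1
  exact (mem_nonZeroDivisors_iff.mp hnzd).2 r hr

open Groth.Agent.Lib.Helper25.HypTwist

/-- Local description of a regular section of an invertible module. -/
theorem exists_local_coeff [IsLocallyNoetherian X] {P : X.Modules} (hP : PicF.IsInvertible P)
    (σ : unitM X ⟶ P) (hσ : assPts X ⊆ CohB1.genLocus P σ) {U : X.Opens} (hU : IsAffineOpen U)
    {e : Γ(P, U)} (he : IsTriv P U e) :
    ∃ a : Γ(X, U), sval σ U = a • e ∧ a ∈ nonZeroDivisors Γ(X, U) ∧
      (PicF2.zeroScheme P σ).ideal ⟨U, hU⟩ = Ideal.span {a} ∧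
      CohB1.genLocus P σ ⊓ U = X.basicOpen a := by
  obtain ⟨a, ha⟩ := he.exists_eq_smul (sval σ U)
  refine ⟨a, ha, ?_, zeroScheme_ideal_of_isTriv hP σ hU he a ha, he.genLocus_inf σ a ha⟩
  apply mem_nonZeroDivisors_of_assPts ⟨U, hU⟩
  intro x hx hxU
  rw [← he.genLocus_inf σ a ha]
  exact ⟨hσ hx, hxU⟩

theorem zeroScheme_isEffCartier [IsLocallyNoetherian X] {P : X.Modules}
    (hP : PicF.IsInvertible P) (σ : unitM X ⟶ P) (hσ : assPts X ⊆ CohB1.genLocus P σ) :
    BlowUp.IsEffCartierIdeal (PicF2.zeroScheme P σ) := by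
  intro x
  obtain ⟨U, e, hU, hxU, -, he⟩ := exists_affine_isTriv hP (W := ⊤) x trivial
  obtain ⟨a, -, hnzd, hI, -⟩ := exists_local_coeff hP σ hσ hU he
  exact ⟨⟨U, hU⟩, hxU, a, hnzd, hI⟩

theorem notMem_support_zeroScheme [IsLocallyNoetherian X] {P : X.Modules}
    (hP : PicF.IsInvertible P) (σ : unitM X ⟶ P) (hσ : assPts X ⊆ CohB1.genLocus P σ)
    (x : X) (hx : x ∈ CohB1.genLocus P σ) : x ∉ (PicF2.zeroScheme P σ).support := by
  obtain ⟨U, e, hU, hxU, -, he⟩ := exists_affine_isTriv hP (W := ⊤) x trivial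
  obtain ⟨a, -, -, hI, hg⟩ := exists_local_coeff hP σ hσ hU he
  exact notMem_support_of_mem_basicOpen _ ⟨U, hU⟩ a hI x (by rw [← hg]; exact ⟨hx, hxU⟩)

/-- A trivialising section of the ideal module of a regular section. -/
theorem exists_isTriv_idealMod [IsLocallyNoetherian X] (D : X.IdealSheafData) {U : X.Opens}
    (hU : IsAffineOpen U) (a : Γ(X, U)) (ha : a ∈ nonZeroDivisors Γ(X, U))
    (hI : D.ideal ⟨U, hU⟩ = Ideal.span {a}) :
    ∃ α : Γ(ClSub.idealMod D, U), ifun D α = a ∧ IsTriv (ClSub.idealMod D) U α := by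
  obtain ⟨α, hα⟩ := exists_ifun_eq D ⟨U, hU⟩ a (by rw [hI]; exact Ideal.mem_span_singleton_self a)
  refine ⟨α, hα, isTriv_idealMod D α ?_ ?_⟩
  · intro W h
    rw [hα]
    have := (principal_of_le D (show W ≤ (⟨U, hU⟩ : X.affineOpens) from h) a ha hI).2
    exact le_of_eq this
  · intro W h r hr
    rw [hα] at hr
    exact rres_mul_eq_zero hU a ha W h r hr

/-- The key isomorphism `N ⊗ I_D ≅ I_{D'}` for `D`, `D'` the zero schemes of regular sections of
`N ⊗ M` and `O ⊗ M`. -/
theorem nonempty_iso_tensor_idealMod [IsLocallyNoetherian X] {N M : X.Modules}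
    (hN : PicF.IsInvertible N) (hM : PicF.IsInvertible M)
    (σ : unitM X ⟶ CohB1.tensorMod N M) (τ : unitM X ⟶ CohB1.tensorMod (unitM X) M)
    (hσ : assPts X ⊆ CohB1.genLocus _ σ) (hτ : assPts X ⊆ CohB1.genLocus _ τ) :
    Nonempty (CohB1.tensorMod N (ClSub.idealMod (PicF2.zeroScheme _ σ)) ≅
      ClSub.idealMod (PicF2.zeroScheme _ τ)) := by
  haveI := isQuasicoherent_of_isInvertible hN
  haveI := isQuasicoherent_of_isInvertible hM
  haveI := isQuasicoherent_of_isInvertible (isInvertible_unit X)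
  have hP := isInvertible_tensorMod hN hM
  have hQ := isInvertible_tensorMod (isInvertible_unit X) hM
  set D := PicF2.zeroScheme _ σ with hD
  set D' := PicF2.zeroScheme _ τ with hD'
  have hloc : ∀ x : X, ∃ (U : X.Opens) (eN : Γ(N, U)) (eM : Γ(M, U)) (a b : Γ(X, U))
      (α : Γ(ClSub.idealMod D, U)) (β : Γ(ClSub.idealMod D', U)), x ∈ U ∧
      IsTriv N U eN ∧ IsTriv M U eM ∧
      sval σ U = a • tmulSec N M eN eM ∧ sval τ U = b • tmulSec (unitM X) M (toUnit 1) eM ∧
      ifun D α = a ∧ ifun D' β = b ∧ IsTriv (ClSub.idealMod D) U α ∧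
      IsTriv (ClSub.idealMod D') U β := by
    intro x
    obtain ⟨U, eN, eM, hU, hxU, -, heN, heM⟩ := exists_affine_isTriv₂ hN hM (W := ⊤) x trivial
    obtain ⟨a, ha, hanzd, haI, -⟩ := exists_local_coeff hP σ hσ hU (heN.tensor heM)
    obtain ⟨b, hb, hbnzd, hbI, -⟩ := exists_local_coeff hQ τ hτ hU ((isTriv_unit U).tensor heM)
    obtain ⟨α, hα, hαT⟩ := exists_isTriv_idealMod D hU a hanzd haI
    obtain ⟨β, hβ, hβT⟩ := exists_isTriv_idealMod D' hU b hbnzd hbI
    exact ⟨U, eN, eM, a, b, α, β, hxU, heN, heM, ha, hb, hα, hβ, hαT, hβT⟩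
  choose U eN eM a b α β hxU heN heM ha hb hα hβ hαT hβT using hloc
  obtain ⟨φ, -⟩ := exists_iso_of_cocycle (U := U) (M := CohB1.tensorMod N (ClSub.idealMod D))
    (N := ClSub.idealMod D')
    (m := fun i => tmulSec N (ClSub.idealMod D) (eN i) (α i)) (n := β)
    (fun x => ⟨x, hxU x⟩)
    (fun i => (heN i).tensor (hαT i)) hβT (by
      intro i j
      have hWi : U i ⊓ U j ≤ U i := inf_le_left
      have hWj : U i ⊓ U j ≤ U j := inf_le_right
      obtain ⟨u, hu, hueq⟩ := Groth.Agent.Lib.Helper29.Desc.IsTriv.exists_isUnit_smul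
        ((heN j).restrict hWj) ((heN i).restrict hWi)
      obtain ⟨v, hv, hveq⟩ := Groth.Agent.Lib.Helper29.Desc.IsTriv.exists_isUnit_smul
        ((heM j).restrict hWj) ((heM i).restrict hWi)
      obtain ⟨u', huu'⟩ := hu.exists_right_inv
      obtain ⟨v', hvv'⟩ := hv.exists_right_inv
      -- relation between coefficients
      have h1 : rres X hWj (a j) = rres X hWi (a i) * u * v := by
        have e1 := congrArg (QCoh.res (CohB1.tensorMod N M) hWi) (ha i)
        have e2 := congrArg (QCoh.res (CohB1.tensorMod N M) hWj) (ha j)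
        rw [res_sval, res_smul', res_tmulSec] at e1 e2
        rw [hueq, hveq, tmulSec_smul_left, tmulSec_smul_right, smul_smul, smul_smul] at e1
        have e3 := e2.symm.trans e1
        exact (((heN j).restrict hWj).tensor ((heM j).restrict hWj)).smul_left_cancel e3
      have h2 : rres X hWj (b j) = rres X hWi (b i) * v := by
        have e1 := congrArg (QCoh.res (CohB1.tensorMod (unitM X) M) hWi) (hb i)
        have e2 := congrArg (QCoh.res (CohB1.tensorMod (unitM X) M) hWj) (hb j)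
        rw [res_sval, res_smul', res_tmulSec, res_toUnit_one] at e1 e2
        rw [hveq, tmulSec_smul_right, smul_smul] at e1
        have e3 := e2.symm.trans e1
        exact ((isTriv_unit (U i ⊓ U j)).tensor ((heM j).restrict hWj)).smul_left_cancel e3
      have hαrel : QCoh.res (ClSub.idealMod D) hWi (α i) =
          (u' * v') • QCoh.res (ClSub.idealMod D) hWj (α j) := by
        apply ifun_injective D
        rw [ifun_smul, ifun_res, ifun_res, hα, hα, h1]
        linear_combination (-(rres X hWi (a i)) * u * u') * hvv' +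
          (-(rres X hWi (a i))) * huu'
      have hβrel : QCoh.res (ClSub.idealMod D') hWi (β i) =
          v' • QCoh.res (ClSub.idealMod D') hWj (β j) := by
        apply ifun_injective D'
        rw [ifun_smul, ifun_res, ifun_res, hβ, hβ, h2]
        linear_combination (-(rres X hWi (b i))) * hvv'
      refine ⟨v', ?_, hβrel⟩
      rw [res_tmulSec, res_tmulSec, hueq, hαrel, tmulSec_smul_left, tmulSec_smul_right, smul_smul]
      congr 1
      linear_combination (v') * huu')
  exact ⟨φ⟩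

/-- On a Noetherian scheme with an ample invertible module, every invertible module is the
difference of two effective Cartier divisors avoiding a given finite set. -/
theorem exists_divisors_of_ample [IsNoetherian X] {L : X.Modules} (hL : CohB1.IsAmple L)
    {N : X.Modules} (hN : PicF.IsInvertible N) (E : Set X) (hE : E.Finite) :
    ∃ D D' : X.IdealSheafData, BlowUp.IsEffCartierIdeal D ∧ BlowUp.IsEffCartierIdeal D' ∧
      Disjoint E (D.support : Set X) ∧ Disjoint E (D'.support : Set X) ∧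
      Nonempty (CohB1.tensorMod N (ClSub.idealMod D) ≅ ClSub.idealMod D') := by
  have hZ : (E ∪ assPts X).Finite := hE.union finite_assPts
  obtain ⟨n₁, h₁⟩ := exists_section_twist_nonvanishing hL hN (E ∪ assPts X) hZ
  obtain ⟨n₂, h₂⟩ := exists_section_twist_nonvanishing hL (isInvertible_unit X) (E ∪ assPts X) hZ
  obtain ⟨σ, hσ⟩ := h₁ (max n₁ n₂) (le_max_left _ _)
  obtain ⟨τ, hτ⟩ := h₂ (max n₁ n₂) (le_max_right _ _)
  have hM := isInvertible_tensorPow hL.1 (max n₁ n₂)
  have hσa : assPts X ⊆ CohB1.genLocus _ σ := Set.subset_union_right.trans hσ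
  have hτa : assPts X ⊆ CohB1.genLocus _ τ := Set.subset_union_right.trans hτ
  have hP := isInvertible_tensorMod hN hM
  have hQ := isInvertible_tensorMod (isInvertible_unit X) hM
  refine ⟨PicF2.zeroScheme _ σ, PicF2.zeroScheme _ τ, zeroScheme_isEffCartier hP σ hσa,
    zeroScheme_isEffCartier hQ τ hτa, ?_, ?_, nonempty_iso_tensor_idealMod hN hM σ τ hσa hτa⟩
  · exact Set.disjoint_left.mpr fun x hxE hxs =>
      notMem_support_zeroScheme hP σ hσa x (hσ (Or.inl hxE)) hxs
  · exact Set.disjoint_left.mpr fun x hxE hxs =>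
      notMem_support_zeroScheme hQ τ hτa x (hτ (Or.inl hxE)) hxs

end Groth.Agent.Lib.Helper29.AmpDiv
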