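import Groth.Agent.Lib.Helper29.EndInv1
import Groth.Agent.Lib.Helper29.AmpDiv1
import Groth.Agent.Lib.Helper29.QCohIdealMod
import Groth.Agent.Lib.Helper29.Cocycle
universe u
open CategoryTheory CategoryTheory.Limits AlgebraicGeometry TopologicalSpace Opposite

/-! # Linearly equivalent nested effective Cartier divisors on a proper scheme over a field -/

namespace Groth.Agent.Lib.Helper29.EndInv
open Groth.Agent.Lib.Helper29.QCoh Groth.Agent.Lib.Helper29.QCoh.Glue
open Groth.Agent.Lib.Helper29.AutPn Groth.Agent.Lib.Helper29.Desc Groth.Agent.Lib.Helper29.AmpDiv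

variable {X : Scheme.{u}}

theorem hom_ext_affine {M N : X.Modules} (α α' : M ⟶ N)
    (h : ∀ (U : X.Opens) (_ : IsAffineOpen U) (m : Γ(M, U)), α.app U m = α'.app U m) :
    α = α' := by
  apply Scheme.Modules.hom_ext
  intro W
  ext σ
  refine eq_of_res_cover_eq N (fun V : {V : X.affineOpens // V.1 ≤ W} => V.1.1)
    (fun V => V.2) ?_ _ _ fun V => ?_
  · intro z hz
    obtain ⟨V, hV, hzV, hVW⟩ := exists_isAffineOpen_mem_and_subset (x := z) (U := W) hz
    exact Opens.mem_iSup.mpr ⟨⟨⟨V, hV⟩, hVW⟩, hzV⟩
  · rw [← app_res, ← app_res]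
    exact h _ V.1.2 _

section incl
variable {J I : X.IdealSheafData} (h : J ≤ I)

include h in
theorem idealModι_toSubscheme_eq_zero : ClSub.idealModι J ≫ ClSub.toSubscheme I = 0 := by
  apply hom_ext_affine
  intro U hU s
  have h1 : fromUnit ((ClSub.idealModι J).app U s) ∈ I.ideal ⟨U, hU⟩ :=
    h ⟨U, hU⟩ (idealModι_app_mem J ⟨U, hU⟩ s)
  rw [← I.ker_subschemeι_app ⟨U, hU⟩, RingHom.mem_ker] at h1
  exact h1

/-- The inclusion of ideal modules for `J ≤ I`. -/
noncomputable def idealModIncl : ClSub.idealMod J ⟶ ClSub.idealMod I :=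
  kernel.lift (ClSub.toSubscheme I) (ClSub.idealModι J) (idealModι_toSubscheme_eq_zero h)

theorem idealModIncl_ι : idealModIncl h ≫ ClSub.idealModι I = ClSub.idealModι J :=
  kernel.lift_ι _ _ _

instance : Mono (idealModIncl h) := by
  haveI : Mono (idealModIncl h ≫ ClSub.idealModι I) := by
    rw [idealModIncl_ι]; infer_instance
  exact mono_of_mono (idealModIncl h) (ClSub.idealModι I)

theorem idealModIncl_app (U : X.affineOpens) (x : J.ideal U) :
    (idealModIncl h).app U.1 ((idealModSectionsEquiv J U).symm x) =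
      (idealModSectionsEquiv I U).symm ⟨x.1, h U x.2⟩ := by
  rw [LinearEquiv.eq_symm_apply]
  apply Subtype.ext
  rw [idealModSectionsEquiv_apply]
  have h1 : (ClSub.idealModι I).app U.1 ((idealModIncl h).app U.1
      ((idealModSectionsEquiv J U).symm x)) =
      (ClSub.idealModι J).app U.1 ((idealModSectionsEquiv J U).symm x) :=
    congrArg (fun k => (Scheme.Modules.Hom.app k U.1) ((idealModSectionsEquiv J U).symm x))
      (idealModIncl_ι h)
  rw [h1]
  have h2 := idealModSectionsEquiv_apply J U ((idealModSectionsEquiv J U).symm x)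
  rw [LinearEquiv.apply_symm_apply] at h2
  exact h2.symm

/-- If the inclusion of ideal modules is an isomorphism, the ideals agree. -/
theorem eq_of_isIso_idealModIncl [IsIso (idealModIncl h)] : I = J := by
  refine le_antisymm ?_ h
  intro U x hx
  have hbij := (isIso_iff_app_bijective (idealModIncl h)).mp inferInstance U.1
  obtain ⟨s, hs⟩ := hbij.2 ((idealModSectionsEquiv I U).symm ⟨x, hx⟩)
  obtain ⟨y, rfl⟩ := (idealModSectionsEquiv J U).symm.surjective s
  rw [idealModIncl_app] at hs
  have h3 := (idealModSectionsEquiv I U).symm.injective hs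
  have h4 : y.1 = x := congrArg Subtype.val h3
  rw [← h4]
  exact y.2

end incl

theorem isInvertible_idealMod [IsLocallyNoetherian X] (D : X.IdealSheafData)
    (hD : BlowUp.IsEffCartierIdeal D) : PicF.IsInvertible (ClSub.idealMod D) := by
  refine isInvertible_of_isTriv fun x => ?_
  obtain ⟨U, hxU, a, ha, hI⟩ := hD x
  obtain ⟨α, -, hα⟩ := exists_isTriv_idealMod D U.2 a ha hI
  exact ⟨U.1, α, hxU, hα⟩

/-- In a commutative algebra integral over a field, nonzerodivisors are units. -/
theorem isUnit_of_mem_nonZeroDivisors_of_isIntegral {k A : Type*} [Field k] [CommRing A]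
    [Algebra k A] [Algebra.IsIntegral k A] {a : A} (ha : a ∈ nonZeroDivisors A) : IsUnit a := by
  let S := Algebra.adjoin k {a}
  haveI : Module.Finite k S :=
    Algebra.finite_adjoin_simple_of_isIntegral (Algebra.IsIntegral.isIntegral a)
  haveI : IsArtinianRing S := IsArtinianRing.of_finite k S
  have haS : a ∈ S := Algebra.self_mem_adjoin_singleton k a
  have h1 : (⟨a, haS⟩ : S) ∈ nonZeroDivisors S := by
    rw [mem_nonZeroDivisors_iff_right]
    intro x hx
    apply Subtype.ext
    have h2 : x.1 * a = 0 := congrArg Subtype.val hx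
    exact (mem_nonZeroDivisors_iff_right.mp ha) x.1 h2
  have h3 := IsArtinianRing.isUnit_of_mem_nonZeroDivisors h1
  exact h3.map S.val

/-- Nested effective Cartier divisors on a scheme universally closed over a field whose ideal
modules are isomorphic are equal. -/
theorem eq_of_le_of_iso {k : Type u} [Field k] {M : Scheme.{u}}
    (f : M ⟶ Spec (CommRingCat.of k)) [UniversallyClosed f] [IsLocallyNoetherian M]
    (D₁ D₂ : M.IdealSheafData) (h₁ : BlowUp.IsEffCartierIdeal D₁) (hle : D₂ ≤ D₁)
    (hiso : Nonempty (ClSub.idealMod D₁ ≅ ClSub.idealMod D₂)) : D₁ = D₂ := by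
  obtain ⟨θ⟩ := hiso
  have hN := isInvertible_idealMod D₁ h₁
  obtain ⟨a, ha⟩ := exists_eq_smulHom hN (θ.hom ≫ idealModIncl hle)
  haveI : Mono (smulHom (ClSub.idealMod D₁) a) := by
    rw [← ha]; infer_instance
  have hnzd := mem_nonZeroDivisors_of_mono hN a
  have hu : IsUnit a := by
    let F := (Scheme.ΓSpecIso (CommRingCat.of k)).inv ≫ f.appTop
    have : F.hom.IsIntegral := by
      apply RingHom.isIntegral_respectsIso.2
        (e := (Scheme.ΓSpecIso _).symm.commRingCatIsoToRingEquiv)
      exact isIntegral_appTop_of_universallyClosed f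
    algebraize [F.hom]
    exact isUnit_of_mem_nonZeroDivisors_of_isIntegral (k := k) hnzd
  haveI hψ : IsIso (θ.hom ≫ idealModIncl hle) := by
    rw [ha]
    exact (smulIso (ClSub.idealMod D₁) hu.unit).isIso_hom
  haveI : IsSplitEpi (idealModIncl hle) :=
    ⟨⟨inv (θ.hom ≫ idealModIncl hle) ≫ θ.hom, by
      rw [Category.assoc]; exact IsIso.inv_hom_id _⟩⟩
  haveI : IsIso (idealModIncl hle) := isIso_of_mono_of_isSplitEpi _
  exact eq_of_isIso_idealModIncl hle

end Groth.Agent.Lib.Helper29.EndInv
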