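import Groth.Agent.Lib.Helper29.Sky
universe u
open CategoryTheory CategoryTheory.Limits AlgebraicGeometry TopologicalSpace Opposite
open scoped TensorProduct

/-! # Sections avoiding / not vanishing at finitely many points -/

namespace Groth.Agent.Lib.Helper29.QCoh

section Avoid
variable {X : Scheme.{u}}

theorem sval_add {N : X.Modules} (s t : unitM X ⟶ N) (U : X.Opens) :
    sval (s + t) U = sval s U + sval t U := rfl

theorem sval_zero' {N : X.Modules} (U : X.Opens) : sval (0 : unitM X ⟶ N) U = 0 := rfl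

theorem mem_basicOpen_add_of_not_mem {U : X.Opens} (a b : Γ(X, U)) (x : X) (hxU : x ∈ U)
    (ha : x ∈ X.basicOpen a) (hb : x ∉ X.basicOpen b) : x ∈ X.basicOpen (a + b) := by
  rw [Scheme.mem_basicOpen X _ x hxU] at ha hb ⊢
  rw [map_add]
  by_contra hab
  have h1 : X.presheaf.germ U x hxU a + X.presheaf.germ U x hxU b ∈
      nonunits (X.presheaf.stalk x) := hab
  have h2 : X.presheaf.germ U x hxU b ∈ nonunits (X.presheaf.stalk x) := hb
  have h3 := IsLocalRing.nonunits_add h1 (by simpa using h2 : -X.presheaf.germ U x hxU b ∈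
    nonunits (X.presheaf.stalk x))
  rw [add_neg_cancel_right] at h3
  exact h3 ha

theorem not_mem_basicOpen_add {U : X.Opens} (a b : Γ(X, U)) (x : X) (hxU : x ∈ U)
    (ha : x ∉ X.basicOpen a) (hb : x ∉ X.basicOpen b) : x ∉ X.basicOpen (a + b) := by
  rw [Scheme.mem_basicOpen X _ x hxU] at ha hb ⊢
  rw [map_add]
  exact IsLocalRing.nonunits_add ha hb

variable {B : X.Modules}

theorem mem_genLocus_add (hB : PicF.IsInvertible B) (s t : unitM X ⟶ B) (x : X)
    (hs : x ∈ CohB1.genLocus B s) (ht : x ∉ CohB1.genLocus B t) :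
    x ∈ CohB1.genLocus B (s + t) := by
  obtain ⟨U, e, hxU, he⟩ := exists_isTriv hB x
  obtain ⟨a, ha⟩ := he.exists_eq_smul (sval s U)
  obtain ⟨b, hb⟩ := he.exists_eq_smul (sval t U)
  have hab : sval (s + t) U = (a + b) • e := by rw [sval_add, ha, hb, add_smul]
  rw [mem_genLocus_iff_of_isTriv _ he _ ha x hxU] at hs
  rw [mem_genLocus_iff_of_isTriv _ he _ hb x hxU] at ht
  rw [mem_genLocus_iff_of_isTriv _ he _ hab x hxU]
  exact mem_basicOpen_add_of_not_mem a b x hxU hs ht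

theorem not_mem_genLocus_add (hB : PicF.IsInvertible B) (s t : unitM X ⟶ B) (x : X)
    (hs : x ∉ CohB1.genLocus B s) (ht : x ∉ CohB1.genLocus B t) :
    x ∉ CohB1.genLocus B (s + t) := by
  obtain ⟨U, e, hxU, he⟩ := exists_isTriv hB x
  obtain ⟨a, ha⟩ := he.exists_eq_smul (sval s U)
  obtain ⟨b, hb⟩ := he.exists_eq_smul (sval t U)
  have hab : sval (s + t) U = (a + b) • e := by rw [sval_add, ha, hb, add_smul]
  rw [mem_genLocus_iff_of_isTriv _ he _ ha x hxU] at hs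
  rw [mem_genLocus_iff_of_isTriv _ he _ hb x hxU] at ht
  rw [mem_genLocus_iff_of_isTriv _ he _ hab x hxU]
  exact not_mem_basicOpen_add a b x hxU hs ht

theorem not_mem_genLocus_zero (hB : PicF.IsInvertible B) (x : X) :
    x ∉ CohB1.genLocus B (0 : unitM X ⟶ B) := by
  obtain ⟨U, e, hxU, he⟩ := exists_isTriv hB x
  have h0 : sval (0 : unitM X ⟶ B) U = (0 : Γ(X, U)) • e := by rw [zero_smul]; rfl
  rw [mem_genLocus_iff_of_isTriv _ he _ h0 x hxU, Scheme.basicOpen_zero]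
  exact fun h => h

theorem not_mem_genLocus_sum (hB : PicF.IsInvertible B) {ι : Type*} (T : Finset ι)
    (t : ι → (unitM X ⟶ B)) (x : X) (h : ∀ i ∈ T, x ∉ CohB1.genLocus B (t i)) :
    x ∉ CohB1.genLocus B (∑ i ∈ T, t i) := by
  classical
  induction T using Finset.induction_on with
  | empty => simpa using not_mem_genLocus_zero hB x
  | insert a T ha ih =>
    rw [Finset.sum_insert ha]
    exact not_mem_genLocus_add hB _ _ x (h a (Finset.mem_insert_self _ _))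
      (ih fun i hi => h i (Finset.mem_insert_of_mem hi))

theorem mem_genLocus_sum (hB : PicF.IsInvertible B) {ι : Type*} (T : Finset ι)
    (t : ι → (unitM X ⟶ B)) (x : X) (i₀ : ι) (hi₀ : i₀ ∈ T)
    (h₀ : x ∈ CohB1.genLocus B (t i₀))
    (h : ∀ i ∈ T, i ≠ i₀ → x ∉ CohB1.genLocus B (t i)) :
    x ∈ CohB1.genLocus B (∑ i ∈ T, t i) := by
  classical
  rw [← Finset.add_sum_erase T t hi₀]
  refine mem_genLocus_add hB _ _ x h₀ (not_mem_genLocus_sum hB _ t x fun i hi => ?_)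
  exact h i (Finset.mem_of_mem_erase hi) (Finset.ne_of_mem_erase hi)

theorem genLocus_sum_le (hB : PicF.IsInvertible B) {ι : Type*} (T : Finset ι)
    (t : ι → (unitM X ⟶ B)) (U : X.Opens) (h : ∀ i ∈ T, CohB1.genLocus B (t i) ≤ U) :
    CohB1.genLocus B (∑ i ∈ T, t i) ≤ U := by
  intro x hx
  by_contra hxU
  exact not_mem_genLocus_sum hB T t x (fun i hi hxi => hxU (h i hi hxi)) hx

/-- Reduction of a finite set of points to pairwise non-specialising "closed-most" points. -/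
theorem exists_incomparable_subset (Z : Set X) (hZ : Z.Finite) :
    ∃ Z' : Set X, Z' ⊆ Z ∧ Z'.Finite ∧ (∀ z ∈ Z, ∃ z' ∈ Z', z ⤳ z') ∧
      ∀ z' ∈ Z', ∀ w' ∈ Z', w' ⤳ z' → w' = z' := by
  refine ⟨{z ∈ Z | ∀ w ∈ Z, z ⤳ w → w = z}, fun z hz => hz.1, hZ.subset fun z hz => hz.1, ?_, ?_⟩
  · intro z hz
    -- well-founded induction on the finite set
    induction' hn : (Z ∩ {w | z ⤳ w}).ncard using Nat.strong_induction_on with n ih generalizing z
    by_cases hmin : ∀ w ∈ Z, z ⤳ w → w = z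
    · exact ⟨z, ⟨hz, hmin⟩, specializes_rfl⟩
    · push Not at hmin
      obtain ⟨w, hwZ, hzw, hne⟩ := hmin
      have hsub : Z ∩ {v | w ⤳ v} ⊂ Z ∩ {v | z ⤳ v} := by
        refine ⟨fun v hv => ⟨hv.1, hzw.trans hv.2⟩, fun hcontra => ?_⟩
        have : z ∈ Z ∩ {v | w ⤳ v} := hcontra ⟨hz, specializes_rfl⟩
        exact hne ((this.2.antisymm hzw).eq)
      have hlt : (Z ∩ {v | w ⤳ v}).ncard < n := by
        rw [← hn]
        exact Set.ncard_lt_ncard hsub (hZ.subset Set.inter_subset_left)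
      obtain ⟨z', hz', hwz'⟩ := ih _ hlt w hwZ rfl
      exact ⟨z', hz', hzw.trans hwz'⟩
  · rintro z' ⟨hz'Z, -⟩ w' ⟨hw'Z, hw'⟩ hsp
    exact (hw' z' hz'Z hsp).symm

end Avoid

section Avoid2
variable {X : Scheme.{u}}

/-- The open complement of the closures of the points of `Z'` other than `z`. -/
theorem exists_open_avoiding (Z' : Set X) (hZ' : Z'.Finite)
    (hinc : ∀ z' ∈ Z', ∀ w' ∈ Z', w' ⤳ z' → w' = z') (z : X) (hz : z ∈ Z') :
    ∃ U : X.Opens, z ∈ U ∧ ∀ w ∈ Z', w ≠ z → w ∉ U := by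
  have hcl : IsClosed (⋃ w ∈ Z' \ {z}, closure ({w} : Set X)) :=
    (hZ'.subset Set.sdiff_subset).isClosed_biUnion fun w _ => isClosed_closure
  refine ⟨⟨(⋃ w ∈ Z' \ {z}, closure ({w} : Set X))ᶜ, hcl.isOpen_compl⟩, ?_, ?_⟩
  · intro hmem
    obtain ⟨w, hw, hzw⟩ := Set.mem_iUnion₂.mp hmem
    have hsp : w ⤳ z := specializes_iff_mem_closure.mpr hzw
    exact hw.2 (hinc z hz w hw.1 hsp)
  · intro w hw hne hwU
    exact hwU (Set.mem_iUnion₂.mpr ⟨w, ⟨hw, hne⟩, subset_closure rfl⟩)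

/-- `L` ample, `E` invertible, `Z` finite: for all large `m` there is a section of `E ⊗ L^m`
which generates at every point of `Z`. -/
theorem exists_section_twist_nonvanishing {L E : X.Modules} (hL : CohB1.IsAmple L)
    (hE : PicF.IsInvertible E) (Z : Set X) (hZ : Z.Finite) :
    ∃ n₀ : ℕ, ∀ m, n₀ ≤ m → ∃ s : unitM X ⟶ CohB1.tensorMod E (CohB1.tensorPow L m),
      Z ⊆ CohB1.genLocus _ s := by
  classical
  have hq := isQuasicoherent_of_isInvertible hE
  have hft := isFiniteType_of_isInvertible hE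
  obtain ⟨Z', hZ'Z, hZ', hspec, hinc⟩ := exists_incomparable_subset Z hZ
  have hsec : ∀ z : X, ∃ (k : ℕ) (t : unitM X ⟶ CohB1.tensorPow L (k + 1)), z ∈ Z' →
      (z ∈ CohB1.genLocus _ t ∧ ∀ w ∈ Z', w ≠ z → w ∉ CohB1.genLocus _ t) := by
    intro z
    by_cases hz : z ∈ Z'
    · obtain ⟨U, hzU, hU⟩ := exists_open_avoiding Z' hZ' hinc z hz
      obtain ⟨k, t, hzt, htU, -⟩ := exists_affine_genLocus_nhd hL hzU
      exact ⟨k, t, fun _ => ⟨hzt, fun w hw hne hwt => hU w hw hne (htU hwt)⟩⟩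
    · exact ⟨0, 0, fun h => absurd h hz⟩
  choose k t ht using hsec
  obtain ⟨m₀, hm₀⟩ := exists_isGloballyGenerated_twist hL E
  set T := hZ'.toFinset with hT
  refine ⟨m₀ + ∑ z ∈ T, (k z + 1), fun m hm => ?_⟩
  have hB : PicF.IsInvertible (CohB1.tensorMod E (CohB1.tensorPow L m)) :=
    isInvertible_tensorMod hE (isInvertible_tensorPow hL.1 m)
  have hσ : ∀ z : X, ∃ σ : unitM X ⟶ CohB1.tensorMod E (CohB1.tensorPow L m), z ∈ Z' →
      (z ∈ CohB1.genLocus _ σ ∧ ∀ w ∈ Z', w ≠ z → w ∉ CohB1.genLocus _ σ) := by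
    intro z
    by_cases hz : z ∈ Z'
    · have hle : k z + 1 ≤ ∑ z ∈ T, (k z + 1) :=
        Finset.single_le_sum (f := fun z => k z + 1) (fun _ _ => Nat.zero_le _)
          (hZ'.mem_toFinset.mpr hz)
      obtain ⟨m', rfl⟩ : ∃ m', m = m' + (k z + 1) := ⟨m - (k z + 1), by omega⟩
      have hgg := hm₀ m' (by omega)
      have hinv' : PicF.IsInvertible (CohB1.tensorMod E (CohB1.tensorPow L m')) :=
        isInvertible_tensorMod hE (isInvertible_tensorPow hL.1 m')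
      obtain ⟨τ, hτ⟩ := exists_mem_genLocus_of_isGloballyGenerated hinv' hgg z
      obtain ⟨σ, hσ⟩ := exists_section_of_iso
        (tensorAssoc E (CohB1.tensorPow L m') (CohB1.tensorPow L (k z + 1)) ≪≫
          tensorCongr (Iso.refl E) (tensorPowAdd L m' (k z + 1)))
        (SecTwist.tmulHom τ (t z))
      rw [genLocus_tmulHom hinv' (isInvertible_tensorPow hL.1 _)] at hσ
      refine ⟨σ, fun _ => ⟨?_, fun w hw hne hwσ => ?_⟩⟩
      · rw [hσ]; exact ⟨hτ, (ht z hz).1⟩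
      · rw [hσ] at hwσ; exact (ht z hz).2 w hw hne hwσ.2
    · exact ⟨0, fun h => absurd h hz⟩
  choose σ hσ using hσ
  refine ⟨∑ z ∈ T, σ z, fun z hz => ?_⟩
  obtain ⟨z', hz', hzz'⟩ := hspec z hz
  have hz'mem : z' ∈ CohB1.genLocus _ (∑ z ∈ T, σ z) := by
    refine mem_genLocus_sum hB T σ z' z' (hZ'.mem_toFinset.mpr hz') (hσ z' hz').1 ?_
    intro i hi hne
    exact (hσ i (hZ'.mem_toFinset.mp hi)).2 z' hz' (Ne.symm hne)
  exact hzz'.mem_open (CohB1.genLocus _ _).isOpen hz'mem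

end Avoid2

section Avoid3
variable {X : Scheme.{u}}

/-- In a quasi-affine scheme a finite set of points inside an open `W` lies in an affine basic
open `X_h ⊆ W` of a global function (prime avoidance). -/
theorem exists_basicOpen_of_isQuasiAffine [X.IsQuasiAffine] (W : X.Opens) (E : Set X)
    (hE : E.Finite) (hEW : E ⊆ W) :
    ∃ h : Γ(X, ⊤), IsAffineOpen (X.basicOpen h) ∧ E ⊆ X.basicOpen h ∧ X.basicOpen h ≤ W := by
  classical
  rcases E.eq_empty_or_nonempty with rfl | ⟨e₀, he₀⟩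
  · refine ⟨0, ?_, Set.empty_subset _, ?_⟩
    · rw [Scheme.basicOpen_zero]; exact isAffineOpen_bot X
    · rw [Scheme.basicOpen_zero]; exact bot_le
  obtain ⟨S, hS⟩ : ∃ S : Set (PrimeSpectrum Γ(X, ⊤)),
      S = ((X.toSpecΓ ''ᵁ W : (Spec Γ(X, ⊤)).Opens) : Set (Spec Γ(X, ⊤))) :=
    ⟨((X.toSpecΓ ''ᵁ W : (Spec Γ(X, ⊤)).Opens) : Set (Spec Γ(X, ⊤))), rfl⟩
  have hSopen : IsOpen S := by rw [hS]; exact (X.toSpecΓ ''ᵁ W).isOpen
  obtain ⟨J, hJ⟩ := (PrimeSpectrum.isClosed_iff_zeroLocus_ideal Sᶜ).mp hSopen.isClosed_compl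
  have hmem : ∀ x : PrimeSpectrum Γ(X, ⊤), x ∈ S ↔ ¬ ((J : Set Γ(X, ⊤)) ⊆ x.asIdeal) := by
    intro x
    have h1 : x ∈ Sᶜ ↔ x ∈ PrimeSpectrum.zeroLocus (J : Set Γ(X, ⊤)) := by rw [hJ]
    rw [Set.mem_compl_iff, PrimeSpectrum.mem_zeroLocus] at h1
    constructor
    · intro hx hJx; exact (h1.mpr hJx) hx
    · intro hx; by_contra hxS; exact hx (h1.mp hxS)
  have hSmem : ∀ e : X, e ∈ W → (X.toSpecΓ e : PrimeSpectrum Γ(X, ⊤)) ∈ S := by
    intro e he; rw [hS]; exact ⟨e, he, rfl⟩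
  have hav : ¬ ((J : Set Γ(X, ⊤)) ⊆ ⋃ e ∈ (hE.toFinset : Set X),
      (((X.toSpecΓ e : PrimeSpectrum Γ(X, ⊤)).asIdeal : Ideal Γ(X, ⊤)) : Set Γ(X, ⊤))) := by
    rw [Ideal.subset_union_prime (s := hE.toFinset)
      (f := fun e => (X.toSpecΓ e : PrimeSpectrum Γ(X, ⊤)).asIdeal) e₀ e₀
      (fun e _ _ _ => (X.toSpecΓ e : PrimeSpectrum Γ(X, ⊤)).isPrime)]
    rintro ⟨e, he, hJe⟩
    have he' : e ∈ E := hE.mem_toFinset.mp he
    exact (hmem _).mp (hSmem e (hEW he')) hJe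
  rw [Set.not_subset] at hav
  obtain ⟨f, hfJ, hf⟩ := hav
  have hfE : ∀ e ∈ E, f ∉ (X.toSpecΓ e : PrimeSpectrum Γ(X, ⊤)).asIdeal := by
    intro e he hfe
    exact hf (Set.mem_iUnion₂.mpr ⟨e, hE.mem_toFinset.mpr he, hfe⟩)
  have hDW : ((PrimeSpectrum.basicOpen f : Opens (PrimeSpectrum Γ(X, ⊤))) : Set _) ⊆ S := by
    intro x hx
    rw [hmem]
    intro hJx
    exact hx (hJx hfJ)
  refine ⟨f, ?_, ?_, ?_⟩
  · rw [← Scheme.toSpecΓ_preimage_basicOpen,
      ← Scheme.Hom.isAffineOpen_iff_of_isOpenImmersion X.toSpecΓ]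
    convert IsAffineOpen.Spec_basicOpen f
    exact SetLike.coe_injective (Set.image_preimage_eq_of_subset
      ((hS ▸ hDW).trans (Set.image_subset_range _ _)))
  · intro e he
    rw [← Scheme.toSpecΓ_preimage_basicOpen]
    exact hfE e he
  · intro x hx
    rw [← Scheme.toSpecΓ_preimage_basicOpen] at hx
    obtain ⟨x', hx'W, hxx'⟩ := (hS ▸ hDW) hx
    rwa [← X.toSpecΓ.isEmbedding.injective hxx']

end Avoid3

section Avoid4
variable {X : Scheme.{u}}

/-- EGA II 5.1.?: on a quasi-affine scheme, for `L` invertible, a finite set `E` inside an open `W`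
lies in an affine `X_s ⊆ W` with `s` a global section of `L`. -/
theorem exists_affine_genLocus_of_isQuasiAffine [X.IsQuasiAffine] {L : X.Modules}
    (hL : PicF.IsInvertible L) (W : X.Opens) (E : Set X) (hE : E.Finite) (hEW : E ⊆ W) :
    ∃ s : unitM X ⟶ L, IsAffineOpen (CohB1.genLocus L s) ∧ E ⊆ CohB1.genLocus L s ∧
      CohB1.genLocus L s ≤ W := by
  classical
  have hq := isQuasicoherent_of_isInvertible hL
  have hgg := isGloballyGenerated_of_isQuasiAffine L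
  obtain ⟨E', hE'E, hE', hspec, hinc⟩ := exists_incomparable_subset E hE
  have hσ : ∀ e : X, ∃ σ : unitM X ⟶ L, e ∈ E' →
      (e ∈ CohB1.genLocus _ σ ∧ CohB1.genLocus _ σ ≤ W ∧
        ∀ w ∈ E', w ≠ e → w ∉ CohB1.genLocus _ σ) := by
    intro e
    by_cases he : e ∈ E'
    · obtain ⟨U, heU, hU⟩ := exists_open_avoiding E' hE' hinc e he
      obtain ⟨τ, hτ⟩ := exists_mem_genLocus_of_isGloballyGenerated hL hgg e
      obtain ⟨g, -, hg, hgU⟩ := exists_basicOpen_of_isQuasiAffine (U ⊓ W) {e} (Set.finite_singleton e)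
        (by rintro _ rfl; exact ⟨heU, hEW (hE'E he)⟩)
      have hloc : CohB1.genLocus L (homOfSection L (g • sval τ ⊤)) =
          X.basicOpen g ⊓ CohB1.genLocus L τ := by
        rw [genLocus_homOfSection_smul hL, genLocus_homOfSection_sval]
      refine ⟨homOfSection L (g • sval τ ⊤), fun _ => ⟨?_, ?_, fun w hw hne hwσ => ?_⟩⟩
      · rw [hloc]; exact ⟨hg rfl, hτ⟩
      · rw [hloc]; exact inf_le_left.trans (hgU.trans inf_le_right)
      · rw [hloc] at hwσ; exact hU w hw hne (hgU hwσ.1).1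
    · exact ⟨0, fun h => absurd h he⟩
  choose σ hσ using hσ
  set T := hE'.toFinset with hT
  have hs₀E : E ⊆ CohB1.genLocus L (∑ e ∈ T, σ e) := by
    intro z hz
    obtain ⟨z', hz', hzz'⟩ := hspec z hz
    have hz'mem : z' ∈ CohB1.genLocus _ (∑ e ∈ T, σ e) := by
      refine mem_genLocus_sum hL T σ z' z' (hE'.mem_toFinset.mpr hz') (hσ z' hz').1 ?_
      intro i hi hne
      exact (hσ i (hE'.mem_toFinset.mp hi)).2.2 z' hz' (Ne.symm hne)
    exact hzz'.mem_open (CohB1.genLocus _ _).isOpen hz'mem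
  have hs₀W : CohB1.genLocus L (∑ e ∈ T, σ e) ≤ W :=
    genLocus_sum_le hL T σ W fun i hi => (hσ i (hE'.mem_toFinset.mp hi)).2.1
  obtain ⟨h₂, haff, hEh, hh⟩ := exists_basicOpen_of_isQuasiAffine
    (CohB1.genLocus L (∑ e ∈ T, σ e)) E hE hs₀E
  have hloc : CohB1.genLocus L (homOfSection L (h₂ • sval (∑ e ∈ T, σ e) ⊤)) = X.basicOpen h₂ := by
    rw [genLocus_homOfSection_smul hL, genLocus_homOfSection_sval, inf_eq_left.mpr hh]
  exact ⟨homOfSection L (h₂ • sval (∑ e ∈ T, σ e) ⊤), hloc ▸ haff, hloc ▸ hEh,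
    hloc ▸ hh.trans hs₀W⟩

theorem isQuasiAffine_genLocus {M : X.Modules} (hM : CohB1.IsAmple M) (s : unitM X ⟶ M) :
    (CohB1.genLocus M s : Scheme.{u}).IsQuasiAffine := by
  have hc : CompactSpace X := hM.2.1
  have haffhom := isAffineHom_genLocus_ι hM.1 s
  have hcV : CompactSpace (CohB1.genLocus M s : Scheme.{u}) :=
    QuasiCompact.compactSpace_of_compactSpace (CohB1.genLocus M s).ι
  have hcV' : IsCompact ((CohB1.genLocus M s : X.Opens) : Set X) :=
    isCompact_iff_compactSpace.mpr hcV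
  have h1 := isAmple_restrict_of_isCompact hM (CohB1.genLocus M s) hcV'
  have hiso : IsIso ((Scheme.Modules.restrictFunctor (CohB1.genLocus M s).ι).map s) := by
    rw [isIso_restrict_iff]
    intro W hW
    exact app_bijective_of_le_genLocus s hW
  apply isQuasiAffine_of_isAmple_unit
  exact isAmple_of_iso ((asIso ((Scheme.Modules.restrictFunctor (CohB1.genLocus M s).ι).map s)).symm ≪≫
    restrictUnitIso' (CohB1.genLocus M s).ι) h1

end Avoid4

section Avoid5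
variable {X : Scheme.{u}}

/-- First step of EGA II 4.5.4: a section of a positive power of an ample `L` whose locus contains
the finite set `Z` and lies in `U`. -/
theorem exists_genLocus_finite_subset {L : X.Modules} (hL : CohB1.IsAmple L) (Z : Set X)
    (hZ : Z.Finite) (U : X.Opens) (hZU : Z ⊆ U) :
    ∃ (N : ℕ) (s : unitM X ⟶ CohB1.tensorPow L (N + 1)),
      Z ⊆ CohB1.genLocus _ s ∧ CohB1.genLocus _ s ≤ U := by
  classical
  obtain ⟨Z', hZ'Z, hZ', hspec, hinc⟩ := exists_incomparable_subset Z hZ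
  have hsec : ∀ z : X, ∃ (k : ℕ) (t : unitM X ⟶ CohB1.tensorPow L (k + 1)), z ∈ Z' →
      (z ∈ CohB1.genLocus _ t ∧ CohB1.genLocus _ t ≤ U ∧
        ∀ w ∈ Z', w ≠ z → w ∉ CohB1.genLocus _ t) := by
    intro z
    by_cases hz : z ∈ Z'
    · obtain ⟨U', hzU', hU'⟩ := exists_open_avoiding Z' hZ' hinc z hz
      obtain ⟨k, t, hzt, htU, -⟩ := exists_affine_genLocus_nhd hL
        (show z ∈ U' ⊓ U from ⟨hzU', hZU (hZ'Z hz)⟩)
      exact ⟨k, t, fun _ => ⟨hzt, htU.trans inf_le_right,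
        fun w hw hne hwt => hU' w hw hne (htU hwt).1⟩⟩
    · exact ⟨0, 0, fun h => absurd h hz⟩
  choose k t ht using hsec
  set T := hZ'.toFinset with hT
  have hpos : 0 < ∏ z ∈ T, (k z + 1) := Finset.prod_pos fun z _ => Nat.succ_pos _
  obtain ⟨N, hN⟩ : ∃ N, ∏ z ∈ T, (k z + 1) = N + 1 := ⟨_, (Nat.succ_pred_eq_of_pos hpos).symm⟩
  have hB : PicF.IsInvertible (CohB1.tensorPow L (N + 1)) := isInvertible_tensorPow hL.1 _
  have hσ : ∀ z : X, ∃ σ : unitM X ⟶ CohB1.tensorPow L (N + 1), z ∈ Z' →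
      CohB1.genLocus _ σ = CohB1.genLocus _ (t z) := by
    intro z
    by_cases hz : z ∈ Z'
    · have hdvd : (k z + 1) ∣ N + 1 := by
        rw [← hN]; exact Finset.dvd_prod_of_mem (fun z => k z + 1) (hZ'.mem_toFinset.mpr hz)
      obtain ⟨b, hb⟩ := hdvd
      have hbpos : 0 < b := by
        rcases Nat.eq_zero_or_pos b with rfl | h
        · simp at hb
        · exact h
      obtain ⟨σ, hσ⟩ := exists_pow_section hL.1 (t z) b (N + 1) hbpos hb.symm
      exact ⟨σ, fun _ => hσ⟩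
    · exact ⟨0, fun h => absurd h hz⟩
  choose σ hσ using hσ
  refine ⟨N, ∑ z ∈ T, σ z, fun z hz => ?_, ?_⟩
  · obtain ⟨z', hz', hzz'⟩ := hspec z hz
    have hz'mem : z' ∈ CohB1.genLocus _ (∑ z ∈ T, σ z) := by
      refine mem_genLocus_sum hB T σ z' z' (hZ'.mem_toFinset.mpr hz') ?_ ?_
      · rw [hσ z' hz']; exact (ht z' hz').1
      · intro i hi hne
        rw [hσ i (hZ'.mem_toFinset.mp hi)]
        exact (ht i (hZ'.mem_toFinset.mp hi)).2.2 z' hz' (Ne.symm hne)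
    exact hzz'.mem_open (CohB1.genLocus _ _).isOpen hz'mem
  · refine genLocus_sum_le hB T σ U fun i hi => ?_
    rw [hσ i (hZ'.mem_toFinset.mp hi)]
    exact (ht i (hZ'.mem_toFinset.mp hi)).2.1

/-- **EGA II 4.5.4**: for `L` ample, a finite set `Z` inside an open `U` lies in an affine
`X_s ⊆ U`, `s` a section of a positive power of `L`. -/
theorem exists_affine_genLocus_finite_subset {L : X.Modules} (hL : CohB1.IsAmple L) (Z : Set X)
    (hZ : Z.Finite) (U : X.Opens) (hZU : Z ⊆ U) :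
    ∃ (n : ℕ) (s : unitM X ⟶ CohB1.tensorPow L (n + 1)),
      Z ⊆ CohB1.genLocus _ s ∧ CohB1.genLocus _ s ≤ U ∧ IsAffineOpen (CohB1.genLocus _ s) := by
  have hc : CompactSpace X := hL.2.1
  have hsep : X.IsSeparated := isSeparated_of_isAmple hL
  obtain ⟨N, s₁, hZs₁, hs₁U⟩ := exists_genLocus_finite_subset hL Z hZ U hZU
  have hM : CohB1.IsAmple (CohB1.tensorPow L (N + 1)) :=
    (isAmple_iff_tensorPow hL.1 (N + 1) (Nat.succ_pos _)).mp hL
  obtain ⟨V, hV⟩ : ∃ V : X.Opens, V = CohB1.genLocus _ s₁ := ⟨_, rfl⟩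
  have hqa : (V : Scheme.{u}).IsQuasiAffine := by rw [hV]; exact isQuasiAffine_genLocus hM s₁
  have hEfin : (V.ι ⁻¹' Z).Finite := hZ.preimage V.ι.isEmbedding.injective.injOn
  obtain ⟨r, hraff, hEr, -⟩ := exists_basicOpen_of_isQuasiAffine (X := (V : Scheme.{u})) ⊤
    (V.ι ⁻¹' Z) hEfin (fun _ _ => trivial)
  have himg := V.ι_image_basicOpen' r
  obtain ⟨f, hf⟩ : ∃ f : Γ(X, V), f = X.presheaf.map (eqToHom V.ι_image_top.symm).op r := ⟨_, rfl⟩
  rw [← hf] at himg
  have hfaff : IsAffineOpen (X.basicOpen f) := by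
    rw [← himg]; exact hraff.image_of_isOpenImmersion V.ι
  have hZf : Z ⊆ X.basicOpen f := by
    intro z hz
    rw [← himg]
    have hzV : z ∈ V := by rw [hV]; exact hZs₁ hz
    exact ⟨⟨z, hzV⟩, hEr (show V.ι ⟨z, hzV⟩ ∈ Z from hz), rfl⟩
  subst hV
  obtain ⟨k, s, hs⟩ := exists_genLocus_eq_basicOpen hL.1 s₁ f
  exact ⟨k, s, hs ▸ hZf, hs ▸ (X.basicOpen_le f).trans hs₁U, hs ▸ hfaff⟩

end Avoid5

section GKL
variable {X : Scheme.{u}}

theorem isIso_restrict_tmulRightHom (G : X.Modules) {M' : X.Modules} [G.IsQuasicoherent]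
    [M'.IsQuasicoherent] (σ : unitM X ⟶ M') {V : X.Opens} (hV : V ≤ CohB1.genLocus M' σ) :
    IsIso ((Scheme.Modules.restrictFunctor V.ι).map (tmulRightHom G σ)) := by
  rw [isIso_restrict_iff]
  intro W hW
  exact bijective_of_forall_affine (M := G) (N := CohB1.tensorMod G M') (U := V)
    (fun W _ => (appₗ (tmulRightHom G σ) W).toAddMonoidHom)
    (fun W W' h h' m => app_res (tmulRightHom G σ) h' m)
    (fun W h hWaff => tmulRightHom_app_bijective G σ hWaff (h.trans hV)) W hW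

/-- **Sections over `X_{s₀}` extend after twisting by a power of `s₀`**, compatibly with the
loci where they generate. -/
theorem exists_section_of_restrict_section [CompactSpace X] [QuasiSeparatedSpace X]
    {N A : X.Modules} (hN : PicF.IsInvertible N) (hA : PicF.IsInvertible A)
    (s₀ : unitM X ⟶ N)
    (σ' : unitM (CohB1.genLocus N s₀ : Scheme.{u}) ⟶ A.restrict (CohB1.genLocus N s₀).ι) :
    ∃ (k : ℕ) (σ : unitM X ⟶ CohB1.tensorMod A (CohB1.tensorPow N (k + 1))),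
      CohB1.genLocus _ σ = (CohB1.genLocus N s₀).ι ''ᵁ CohB1.genLocus _ σ' := by
  have hqN := isQuasicoherent_of_isInvertible hN
  have hqA := isQuasicoherent_of_isInvertible hA
  obtain ⟨V, hV⟩ : ∃ V : X.Opens, V = CohB1.genLocus N s₀ := ⟨_, rfl⟩
  subst hV
  have hUtop : (CohB1.genLocus N s₀).ι ''ᵁ ⊤ = CohB1.genLocus N s₀ :=
    (CohB1.genLocus N s₀).ι_image_top
  obtain ⟨τ, hτ⟩ : ∃ τ : Γ(A, (CohB1.genLocus N s₀).ι ''ᵁ ⊤), τ = sval σ' ⊤ := ⟨_, rfl⟩
  obtain ⟨k, -, t', ht'⟩ := exists_extension_tmulSec_pow hN s₀ A (QCoh.res A hUtop.ge τ)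
  have hNk := isInvertible_tensorPow hN k
  have hqNk := isQuasicoherent_of_isInvertible hNk
  have hM := isInvertible_tensorMod hA hNk
  have hVle : CohB1.genLocus N s₀ ≤ CohB1.genLocus _ (SecTwist.powHom s₀ k) := by
    rcases Nat.eq_zero_or_pos k with rfl | hk
    · change _ ≤ CohB1.genLocus (unitM X) (𝟙 _)
      rw [genLocus_id]; exact le_top
    · obtain ⟨k, rfl⟩ := Nat.exists_eq_succ_of_ne_zero hk.ne'
      rw [genLocus_powHom hN]
  have hiso := isIso_restrict_tmulRightHom A (SecTwist.powHom s₀ k) hVle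
  have key : σ' ≫ (Scheme.Modules.restrictFunctor (CohB1.genLocus N s₀).ι).map
      (tmulRightHom A (SecTwist.powHom s₀ k)) =
      restrictHom (CohB1.genLocus N s₀).ι (homOfSection _ t') := by
    apply hom_ext_of_sval
    rw [sval_restrictHom_top, sval_homOfSection, sval_comp, ← hτ]
    change (tmulRightHom A (SecTwist.powHom s₀ k)).app ((CohB1.genLocus N s₀).ι ''ᵁ ⊤) τ = _
    rw [tmulRightHom_app, sval_powHom]
    have h1 : QCoh.res (CohB1.tensorMod A (CohB1.tensorPow N k))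
        (le_top : (CohB1.genLocus N s₀).ι ''ᵁ ⊤ ≤ ⊤) t' =
        QCoh.res _ hUtop.le (QCoh.res _ (le_top : CohB1.genLocus N s₀ ≤ ⊤) t') := by
      rw [res_res]
    rw [h1, ht', res_tmulSec, res_res, res_self, res_epow, res_sval]
  have h2 : CohB1.genLocus _ (restrictHom (CohB1.genLocus N s₀).ι (homOfSection _ t')) =
      CohB1.genLocus _ σ' := by
    rw [← key]
    exact genLocus_comp_iso σ' (asIso ((Scheme.Modules.restrictFunctor (CohB1.genLocus N s₀).ι).map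
      (tmulRightHom A (SecTwist.powHom s₀ k))))
  rw [genLocus_restrictHom _ hM] at h2
  refine ⟨k, SecTwist.tmulHom (homOfSection _ t') s₀ ≫ (tensorAssoc A (CohB1.tensorPow N k) N).hom, ?_⟩
  rw [genLocus_comp_iso, genLocus_tmulHom hM hN, ← h2,
    Scheme.Hom.image_preimage_eq_opensRange_inf, Scheme.Opens.opensRange_ι, inf_comm]

end GKL

end Groth.Agent.Lib.Helper29.QCoh
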