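import Groth.Agent.Lib.Helper29.MeroCore3
import Groth.Agent.Lib.Helper29.QCohFinite
set_option autoImplicit false
universe u
open CategoryTheory CategoryTheory.Limits AlgebraicGeometry TopologicalSpace Opposite

namespace Groth.Agent.Lib.Helper29.QCoh.MeroK
open Groth.Agent.Lib.Helper26

variable {X : Scheme.{u}} {L : X.Modules}

theorem isTriv_germ_smul_eq_zero {U : X.Opens} {e : Γ(L, U)} (hT : IsTriv L U e) (x : X)
    (hx : x ∈ U) (r : X.presheaf.stalk x) (h : r • L.presheaf.germ U x hx e = 0) : r = 0 := by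
  obtain ⟨V, hxV, r', rfl⟩ := X.presheaf.exists_germ_eq r
  have hxVU : x ∈ V ⊓ U := ⟨hxV, hx⟩
  have h1 : L.presheaf.germ (V ⊓ U) x hxVU
      (rres X (inf_le_left : V ⊓ U ≤ V) r' • res L (inf_le_right : V ⊓ U ≤ U) e) = 0 := by
    rw [germ_smul, germ_res]
    refine Eq.trans ?_ h
    congr 1
    exact X.presheaf.germ_res_apply (homOfLE (inf_le_left : V ⊓ U ≤ V)) x hxVU r'
  obtain ⟨W, hWT, hxW, h2⟩ := exists_res_eq_zero_of_germ_eq_zero L x hxVU _ h1
  rw [res_smul, res_res] at h2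
  have h3 := (hT W (hWT.trans inf_le_right)).1
    (a₁ := rres X hWT (rres X (inf_le_left : V ⊓ U ≤ V) r')) (a₂ := 0)
    (by simp only [h2, zero_smul])
  have h4 : X.presheaf.germ W x hxW (rres X hWT (rres X (inf_le_left : V ⊓ U ≤ V) r')) =
      X.presheaf.germ V x hxV r' := by
    change X.presheaf.germ W x hxW (X.presheaf.map (homOfLE hWT).op
      (X.presheaf.map (homOfLE (inf_le_left : V ⊓ U ≤ V)).op r')) = _
    rw [X.presheaf.germ_res_apply, X.presheaf.germ_res_apply]
  rw [← h4, h3, map_zero]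

theorem isTriv_mk_germ_free {U : X.Opens} {e : Γ(L, U)} (hT : IsTriv L U e) (x : X)
    (hx : x ∈ U) (k : Mero.KStalk X x)
    (h : k • (LocalizedModule.mk (L.presheaf.germ U x hx e) 1 : Mero.MStalk L x) = 0) :
    k = 0 := by
  induction k using Localization.induction_on with
  | H y =>
    obtain ⟨a, b⟩ := y
    rw [LocalizedModule.mk_smul_mk, mmk_eq_zero_iff] at h
    obtain ⟨c, hc⟩ := h
    rw [smul_smul] at hc
    have h1 := isTriv_germ_smul_eq_zero hT x hx (c.1 * a) hc
    have h2 : a = 0 := by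
      have := Mero.regStalk_le_nonZeroDivisors x c.2
      exact (mul_right_mem_nonZeroDivisors_eq_zero_iff this).mp (by rw [mul_comm]; exact h1)
    rw [h2]
    exact Localization.mk_zero _

/-- The value at `y` of the meromorphic section defined by a compatible family. -/
noncomputable def MData.secFun (d : MData L) (y : X) : Mero.MStalk L y :=
  (d.q y : Γ(Mero.kmod X, d.W y)).1 ⟨y, d.mem y⟩ •
    (LocalizedModule.mk (L.presheaf.germ (d.W y) y (d.mem y) (d.e y)) 1 : Mero.MStalk L y)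

theorem MData.secFun_eq (d : MData L) (x z : X) (hz : z ∈ d.W x) :
    d.secFun z = (d.q x : Γ(Mero.kmod X, d.W x)).1 ⟨z, hz⟩ •
      (LocalizedModule.mk (L.presheaf.germ (d.W x) z hz (d.e x)) 1 : Mero.MStalk L z) := by
  obtain ⟨g, hg1, hg2⟩ := d.val_eq x z hz
  unfold MData.secFun
  rw [hg2, hg1, mul_comm, mul_smul, algebraMap_smul, LocalizedModule.smul'_mk]

theorem MData.hasRegularMero (d : MData L) : Mero.HasRegularMero L := by
  have hpred : (Mero.mLoc L).pred (fun y : (⊤ : X.Opens) => d.secFun y.1) := by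
    intro x
    obtain ⟨U, hU, hxU, hUW, a, b, hab⟩ :=
      exists_local_rep (d.q x.1 : Γ(Mero.kmod X, d.W x.1)) x.1 (d.mem x.1)
    refine ⟨U, hxU, homOfLE le_top, a • res L hUW (d.e x.1), b, fun z => ?_⟩
    change d.secFun z.1 = _
    rw [d.secFun_eq x.1 z.1 (hUW z.2), hab z]
    refine (LocalizedModule.mk_smul_mk _ _ _ _).trans (Mero.mk_congr ?_ (by rw [mul_one]))
    rw [Mero.germ_smul, germ_res]
  refine ⟨⟨_, hpred⟩, fun x k hk => ?_⟩
  change k • d.secFun x = 0 at hk
  unfold MData.secFun at hk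
  rw [smul_smul] at hk
  have h0 := isTriv_mk_germ_free (d.triv x) x (d.mem x) _ hk
  have hu := unit_val_mul_inv (d.q x) ⟨x, d.mem x⟩
  calc k = k * ((d.q x : Γ(Mero.kmod X, d.W x)).1 ⟨x, d.mem x⟩ *
        ((d.q x)⁻¹ : (Γ(Mero.kmod X, d.W x))ˣ).1.1 ⟨x, d.mem x⟩) := by rw [hu, mul_one]
    _ = 0 := by rw [← mul_assoc, h0, zero_mul]

end Groth.Agent.Lib.Helper29.QCoh.MeroK
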