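import Groth.Agent.Lib.Helper29.AB4
universe u
open CategoryTheory CategoryTheory.Limits AlgebraicGeometry Opposite TopologicalSpace

/-! # Projective space over an affine base: `P^n_ℤ ×_ℤ Spec A ⟶ Proj A[T]` -/

namespace Groth.Agent.Lib.Helper29.QCoh

section Gen
variable (n : ℕ) (R : Type u) [CommRing R] {X : Scheme.{u}}

/-- The pulled back coordinates generate the pullback of `O(1)`. -/
theorem span_germ_pullSect_coord_eq_top (r : X ⟶ Proj (CohB1.polyGrading n R)) (x : X) :
    Submodule.span (X.presheaf.stalk x) (Set.range fun j =>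
      (((Scheme.Modules.pullback r).obj (Twist.twist (CohB1.polyGrading n R) 1)).presheaf.germ
        ⊤ x trivial).hom (pullSect r (Twist.twist (CohB1.polyGrading n R) 1) ⊤
          (oneSecOn (CohB1.polyGrading n R) (Xi n R j) ⊤))) = ⊤ := by
  obtain ⟨j, hj⟩ := exists_mem_basicOpen_X n R (r x)
  apply span_germ_eq_top_of_mem_genLocus _ _ x j
  have h1 : homOfSection _ (pullSect r (Twist.twist (CohB1.polyGrading n R) 1) ⊤
      (oneSecOn (CohB1.polyGrading n R) (Xi n R j) ⊤)) = coordHom n R r j := by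
    apply hom_ext_of_sval
    rw [sval_homOfSection, res_self]
    unfold coordHom
    have := sval_pullHom r (homOfSection (Twist.twist (CohB1.polyGrading n R) 1)
      (oneSecOn (CohB1.polyGrading n R) (Xi n R j) ⊤)) ⊤
    rw [sval_homOfSection, res_self] at this
    exact this.symm
  rw [h1, genLocus_coordHom]
  exact hj

theorem span_germ_coord_eq_top (x : Proj (CohB1.polyGrading n R)) :
    Submodule.span ((Proj (CohB1.polyGrading n R)).presheaf.stalk x) (Set.range fun j =>
      ((Twist.twist (CohB1.polyGrading n R) 1).presheaf.germ ⊤ x trivial).hom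
        (oneSecOn (CohB1.polyGrading n R) (Xi n R j) ⊤)) = ⊤ := by
  obtain ⟨j, hj⟩ := exists_mem_basicOpen_X n R x
  apply span_germ_eq_top_of_mem_genLocus _ _ x j
  rw [genLocus_oneSecOn]
  exact hj

end Gen

section Alpha
variable (n : ℕ) (A : Type u) [CommRing A]

/-- `P^n_ℤ ×_ℤ Spec A` is a retract of `Proj A[T_0..T_n]` over `Spec A` (in fact isomorphic). -/
theorem exists_splitMono_projSpaceOver_spec :
    ∃ (α : CohB1.ProjSpaceOver n (Spec (CommRingCat.of A)) ⟶ Proj (CohB1.polyGrading n A))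
      (β : Proj (CohB1.polyGrading n A) ⟶ CohB1.ProjSpaceOver n (Spec (CommRingCat.of A))),
      α ≫ CohB1.ProjSpace.toSpec n A = CohB1.ProjSpaceOver.toBase n _ ∧ α ≫ β = 𝟙 _ := by
  obtain ⟨β₁, -, τβ, hτβ⟩ := exists_to_projSpace (R := ULift.{u} ℤ) n
    (specULiftZIsTerminal.from (Proj (CohB1.polyGrading n A)))
    (Twist.twist (CohB1.polyGrading n A) 1) (isInvertible_twist_projSpace n A 1)
    (fun j => oneSecOn (CohB1.polyGrading n A) (Xi n A j) ⊤) (span_germ_coord_eq_top n A)
  let fst' : pullback (CohB1.ProjSpace.toSpec n (ULift.{u} ℤ))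
      (specULiftZIsTerminal.from (Spec (CommRingCat.of A))) ⟶
      Proj (CohB1.polyGrading n (ULift.{u} ℤ)) := pullback.fst _ _
  obtain ⟨α, hα, τα, hτα⟩ := exists_to_projSpace (R := A) n
    (pullback.snd (CohB1.ProjSpace.toSpec n (ULift.{u} ℤ))
      (specULiftZIsTerminal.from (Spec (CommRingCat.of A))))
    ((Scheme.Modules.pullback fst').obj (Twist.twist (CohB1.polyGrading n (ULift.{u} ℤ)) 1))
    (isInvertible_pullback fst' (isInvertible_twist_projSpace n (ULift.{u} ℤ) 1))
    (fun j => pullSect fst' _ ⊤ (oneSecOn (CohB1.polyGrading n (ULift.{u} ℤ))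
      (Xi n (ULift.{u} ℤ) j) ⊤))
    (span_germ_pullSect_coord_eq_top n (ULift.{u} ℤ) fst')
  let β : Proj (CohB1.polyGrading n A) ⟶ pullback (CohB1.ProjSpace.toSpec n (ULift.{u} ℤ))
      (specULiftZIsTerminal.from (Spec (CommRingCat.of A))) :=
    pullback.lift β₁ (CohB1.ProjSpace.toSpec n A) (specULiftZIsTerminal.hom_ext _ _)
  have hβ1 : β ≫ fst' = β₁ := pullback.lift_fst _ _ _
  have hβ2 : β ≫ pullback.snd _ _ = CohB1.ProjSpace.toSpec n A := pullback.lift_snd _ _ _
  have key : α ≫ β₁ = fst' := by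
    refine projSpace_hom_ext n (ULift.{u} ℤ) (α ≫ β₁) fst' (specULiftZIsTerminal.hom_ext _ _)
      ((pullbackCompIso α β₁ _).symm ≪≫ (Scheme.Modules.pullback α).mapIso τβ ≪≫ τα) ?_
    intro j
    have h1 := pullbackComp_inv_pullSect α β₁ (Twist.twist (CohB1.polyGrading n (ULift.{u} ℤ)) 1) ⊤
      (oneSecOn (CohB1.polyGrading n (ULift.{u} ℤ)) (Xi n (ULift.{u} ℤ) j) ⊤)
    have h2 := pullSect_naturality α τβ.hom ⊤
      (pullSect β₁ (Twist.twist (CohB1.polyGrading n (ULift.{u} ℤ)) 1) ⊤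
        (oneSecOn (CohB1.polyGrading n (ULift.{u} ℤ)) (Xi n (ULift.{u} ℤ) j) ⊤))
    rw [hτβ j] at h2
    change τα.hom.app ⊤ (((Scheme.Modules.pullback α).map τβ.hom).app ⊤
      (((Scheme.Modules.pullbackComp α β₁).inv.app _).app ⊤ _)) = _
    exact (congrArg (fun x => τα.hom.app ⊤ (((Scheme.Modules.pullback α).map τβ.hom).app ⊤ x)) h1).trans
      ((congrArg (fun x => τα.hom.app ⊤ x) h2).trans (hτα j))
  have hfin : α ≫ β = 𝟙 (pullback (CohB1.ProjSpace.toSpec n (ULift.{u} ℤ))
      (specULiftZIsTerminal.from (Spec (CommRingCat.of A)))) := by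
    apply pullback.hom_ext
    · rw [Category.assoc, Category.id_comp]
      exact (congrArg (fun k => α ≫ k) hβ1).trans key
    · rw [Category.assoc, Category.id_comp, hβ2]
      exact hα
  exact ⟨α, β, hα, hfin⟩

end Alpha

end Groth.Agent.Lib.Helper29.QCoh
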