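import Groth.Agent.Lib.Helper29.ToProj3
universe u
open CategoryTheory CategoryTheory.Limits AlgebraicGeometry Opposite TopologicalSpace DirectSum

/-! # The universal property of projective space: uniqueness -/

namespace Groth.Agent.Lib.Helper29.QCoh

section ExtAffine

/-- Morphisms into a scheme which both land in an affine open `U` are equal as soon as they
induce the same map on functions over `U`. -/
theorem hom_ext_of_appLE {W Y : Scheme.{u}} {U : Y.Opens} (hU : IsAffineOpen U) (g g' : W ⟶ Y)
    (hg : g ⁻¹ᵁ U = ⊤) (hg' : g' ⁻¹ᵁ U = ⊤)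
    (h : g.appLE U ⊤ (by rw [hg]) = g'.appLE U ⊤ (by rw [hg'])) : g = g' := by
  have hr : ∀ (k : W ⟶ Y), k ⁻¹ᵁ U = ⊤ → Set.range k ⊆ Set.range U.ι := by
    intro k hk
    rintro _ ⟨x, rfl⟩
    rw [Scheme.Opens.range_ι]
    have : x ∈ k ⁻¹ᵁ U := by rw [hk]; trivial
    exact this
  let l := IsOpenImmersion.lift U.ι g (hr g hg)
  let l' := IsOpenImmersion.lift U.ι g' (hr g' hg')
  have hl : l ≫ U.ι = g := IsOpenImmersion.lift_fac _ _ _
  have hl' : l' ≫ U.ι = g' := IsOpenImmersion.lift_fac _ _ _
  have e1 := comp_ι_appLE U l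
  have e2 := comp_ι_appLE U l'
  rw [appLE_congr_hom hl] at e1
  rw [appLE_congr_hom hl'] at e2
  have h3 : U.topIso.inv ≫ l.appTop = U.topIso.inv ≫ l'.appTop := by rw [← e1, ← e2]; exact h
  have h4 : l.appTop = l'.appTop := (cancel_epi _).mp h3
  have : IsAffine (U : Scheme.{u}) := hU
  have h5 : l = l' := ext_of_isAffine h4
  rw [← hl, ← hl', h5]

end ExtAffine

section PnGen
variable (n : ℕ) (R : Type u) [CommRing R]
open HomogeneousLocalization MvPolynomial

/-- `X_l / X_i` as an element of the degree-zero localization. -/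
noncomputable def xFrac (i l : Fin (n + 1)) : Away (CohB1.polyGrading n R) (X i) :=
  Away.mk (CohB1.polyGrading n R) (isHomogeneous_X R i) 1 (X l)
    (by rw [one_smul]; exact isHomogeneous_X R l)

/-- The constant `r` as an element of the degree-zero localization. -/
noncomputable def cFrac (i : Fin (n + 1)) (r : R) : Away (CohB1.polyGrading n R) (X i) :=
  fromZeroRingHom (CohB1.polyGrading n R) _ (algebraMap R (CohB1.polyGrading n R 0) r)

/-- The dehomogenisation homomorphism `R[X_0..X_n] → R[X]_(X_i)`. -/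
noncomputable def dehom (i : Fin (n + 1)) :
    MvPolynomial (Fin (n + 1)) R →+* Away (CohB1.polyGrading n R) (X i) :=
  eval₂Hom ((fromZeroRingHom (CohB1.polyGrading n R) _).comp
    (algebraMap R (CohB1.polyGrading n R 0))) (fun l => xFrac n R i l)

theorem dehom_eq_mk (i : Fin (n + 1)) (k : ℕ) (a : MvPolynomial (Fin (n + 1)) R)
    (ha : a ∈ CohB1.polyGrading n R (k • 1)) :
    dehom n R i a = Away.mk (CohB1.polyGrading n R) (isHomogeneous_X R i) k a ha := by
  apply HomogeneousLocalization.val_injective
  rw [Away.val_mk]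
  set u : Localization.Away (X i : MvPolynomial (Fin (n + 1)) R) :=
    Localization.mk 1 ⟨X i, Submonoid.mem_powers _⟩ with hu
  have h1 : (dehom n R i a).val =
      ((algebraMap (Away (CohB1.polyGrading n R) (X i)) (Localization.Away (X i))).comp
        (dehom n R i)) a := rfl
  have h2 : (algebraMap (Away (CohB1.polyGrading n R) (X i)) (Localization.Away (X i))).comp
      (dehom n R i) =
      eval₂Hom ((algebraMap (MvPolynomial (Fin (n + 1)) R) (Localization.Away (X i))).comp C)
        (fun l => u * algebraMap (MvPolynomial (Fin (n + 1)) R) (Localization.Away (X i)) (X l)) := by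
    unfold dehom
    rw [comp_eval₂Hom]
    have hc : (algebraMap (Away (CohB1.polyGrading n R) (X i : MvPolynomial (Fin (n + 1)) R))
          (Localization.Away (X i : MvPolynomial (Fin (n + 1)) R))).comp
        ((fromZeroRingHom (CohB1.polyGrading n R)
          (Submonoid.powers (X i : MvPolynomial (Fin (n + 1)) R))).comp
          (algebraMap R (CohB1.polyGrading n R 0))) =
        (algebraMap (MvPolynomial (Fin (n + 1)) R) (Localization.Away (X i))).comp C := by
      ext r
      change (fromZeroRingHom (CohB1.polyGrading n R)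
        (Submonoid.powers (X i : MvPolynomial (Fin (n + 1)) R))
        (algebraMap R (CohB1.polyGrading n R 0) r)).val = _
      change Localization.mk (C r) 1 = _
      rw [Localization.mk_one_eq_algebraMap]
      rfl
    have hy : (fun l => (algebraMap (Away (CohB1.polyGrading n R)
        (X i : MvPolynomial (Fin (n + 1)) R))
        (Localization.Away (X i : MvPolynomial (Fin (n + 1)) R))) (xFrac n R i l)) =
        (fun l => u * algebraMap (MvPolynomial (Fin (n + 1)) R) (Localization.Away (X i)) (X l)) := by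
      funext l
      change (xFrac n R i l).val = _
      unfold xFrac
      rw [Away.val_mk, hu, ← Localization.mk_one_eq_algebraMap, Localization.mk_mul]
      apply mk_eq_mk_of_mul_eq
      simp
    rw [hc, hy]
  have h3 : eval₂Hom ((algebraMap (MvPolynomial (Fin (n + 1)) R)
        (Localization.Away (X i : MvPolynomial (Fin (n + 1)) R))).comp C)
      (fun l => algebraMap (MvPolynomial (Fin (n + 1)) R)
        (Localization.Away (X i : MvPolynomial (Fin (n + 1)) R)) (X l)) =
      algebraMap (MvPolynomial (Fin (n + 1)) R)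
        (Localization.Away (X i : MvPolynomial (Fin (n + 1)) R)) := by
    apply MvPolynomial.ringHom_ext
    · intro r
      rw [coe_eval₂Hom, eval₂_C]
      rfl
    · intro l
      rw [coe_eval₂Hom, eval₂_X]
  have ha' : a.IsHomogeneous k := by
    have : a ∈ CohB1.polyGrading n R k := by rwa [smul_eq_mul, mul_one] at ha
    exact this
  rw [h1, h2, eval₂Hom_mul_of_isHomogeneous _ _ u ha', h3, hu, Localization.mk_pow,
    ← Localization.mk_one_eq_algebraMap, Localization.mk_mul]
  apply mk_eq_mk_of_mul_eq
  simp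

theorem away_X_ringHom_ext {B : Type u} [CommRing B] (i : Fin (n + 1))
    (ψ ψ' : Away (CohB1.polyGrading n R) (X i) →+* B)
    (hC : ∀ r : R, ψ (cFrac n R i r) = ψ' (cFrac n R i r))
    (hX : ∀ l, ψ (xFrac n R i l) = ψ' (xFrac n R i l)) : ψ = ψ' := by
  have h : ψ.comp (dehom n R i) = ψ'.comp (dehom n R i) := by
    apply MvPolynomial.ringHom_ext
    · intro r
      simp only [RingHom.comp_apply]
      have : dehom n R i (C r) = cFrac n R i r := by
        unfold dehom cFrac
        rw [coe_eval₂Hom, eval₂_C]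
        rfl
      rw [this, hC]
    · intro l
      simp only [RingHom.comp_apply]
      have : dehom n R i (X l) = xFrac n R i l := by
        unfold dehom
        rw [coe_eval₂Hom, eval₂_X]
      rw [this, hX]
  apply away_ringHom_ext (CohB1.polyGrading n R) (isHomogeneous_X R i)
  intro k a ha
  rw [← dehom_eq_mk n R i k a ha]
  exact congrArg (fun χ => χ a) h

end PnGen

section PnUnique
variable (n : ℕ) (R : Type u) [CommRing R] {X : Scheme.{u}}
open HomogeneousLocalization MvPolynomial

theorem gSec_one_eq_oneSecOn (i : Fin (n + 1)) :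
    gSec 1 (Xi n R i) 1 (by simp) = oneSecOn (CohB1.polyGrading n R) (Xi n R i) ⊤ := by
  apply tfun_ext
  intro x
  rw [tfun_oneSecOn]
  change Localization.mk ((Xi n R i).1 ^ 1) _ = _
  apply mk_eq_mk_of_mul_eq
  simp

theorem genLocus_oneSecOn (i : Fin (n + 1)) :
    CohB1.genLocus (Twist.twist (CohB1.polyGrading n R) 1)
      (homOfSection _ (oneSecOn (CohB1.polyGrading n R) (Xi n R i) ⊤)) =
      Proj.basicOpen (CohB1.polyGrading n R) (MvPolynomial.X i) := by
  rw [← gSec_one_eq_oneSecOn]
  exact genLocus_homOfSection_gSec (projSpace_degree_one_cover n R) 1 one_pos (Xi n R i) 1 (by simp)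

theorem isInvertible_twist_projSpace (d : ℤ) :
    PicF.IsInvertible (Twist.twist (CohB1.polyGrading n R) d) :=
  (twist_invertible_and_tensor (iSup_basicOpen_eq_top_of_forall
    (projSpace_degree_one_cover n R))).1 d

/-- The preimages of the standard charts under two morphisms to projective space whose pullbacks
of `O(1)` are identified compatibly with the coordinates coincide. -/
theorem preimage_basicOpen_eq_of_iso (r r' : X ⟶ Proj (CohB1.polyGrading n R))
    (τ : (Scheme.Modules.pullback r).obj (Twist.twist (CohB1.polyGrading n R) 1) ≅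
      (Scheme.Modules.pullback r').obj (Twist.twist (CohB1.polyGrading n R) 1))
    (hτ : ∀ i, τ.hom.app ⊤ (pullSect r (Twist.twist (CohB1.polyGrading n R) 1) ⊤
        (oneSecOn (CohB1.polyGrading n R) (Xi n R i) ⊤)) =
      pullSect r' (Twist.twist (CohB1.polyGrading n R) 1) ⊤
        (oneSecOn (CohB1.polyGrading n R) (Xi n R i) ⊤)) (i : Fin (n + 1)) :
    r ⁻¹ᵁ Proj.basicOpen (CohB1.polyGrading n R) (MvPolynomial.X i) =
      r' ⁻¹ᵁ Proj.basicOpen (CohB1.polyGrading n R) (MvPolynomial.X i) := by
  set si := homOfSection (Twist.twist (CohB1.polyGrading n R) 1)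
    (oneSecOn (CohB1.polyGrading n R) (Xi n R i) ⊤) with hsi
  have hM := isInvertible_twist_projSpace n R 1
  have h1 := genLocus_pullHom r hM si
  have h2 := genLocus_pullHom r' hM si
  rw [genLocus_oneSecOn] at h1 h2
  rw [← h1, ← h2, ← genLocus_comp_iso (pullHom r si) τ]
  congr 1
  apply hom_ext_of_sval
  have e1 : sval (pullHom r si ≫ τ.hom) ⊤ = τ.hom.app ⊤ (sval (pullHom r si) ⊤) := rfl
  have e2 := sval_pullHom r si ⊤
  have e3 := sval_pullHom r' si ⊤
  have e4 : sval si ⊤ = oneSecOn (CohB1.polyGrading n R) (Xi n R i) ⊤ := by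
    rw [hsi, sval_homOfSection, res_self]
  rw [e4] at e2 e3
  rw [e1]
  exact (congrArg _ e2).trans ((hτ i).trans e3.symm)

theorem awayToSection_cFrac (i : Fin (n + 1)) (c : R) :
    (Proj.awayToSection (CohB1.polyGrading n R) (MvPolynomial.X i)).hom (cFrac n R i c) =
      ((Proj (CohB1.polyGrading n R)).presheaf.map (homOfLE (le_top :
        Proj.basicOpen (CohB1.polyGrading n R) (MvPolynomial.X i) ≤ ⊤)).op).hom
        ((CohB1.ProjSpace.toSpec n R).appTop.hom
          ((Scheme.ΓSpecIso (CommRingCat.of R)).inv.hom c)) := by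
  have h := toSpecZero_appTop_res (CohB1.polyGrading n R) (MvPolynomial.X i)
    (isHomogeneous_X R i) one_pos
  have h2 := congrArg (fun φ => φ.hom (algebraMap R (CohB1.polyGrading n R 0) c)) h
  simp only [CommRingCat.hom_comp, RingHom.coe_comp, Function.comp_apply,
    CommRingCat.hom_ofHom] at h2
  refine h2.symm.trans ?_
  congr 1
  have h1 := Scheme.ΓSpecIso_inv_naturality
    (CommRingCat.ofHom (algebraMap R (CohB1.polyGrading n R 0)))
  have h3 := congrArg (fun φ => ((Proj.toSpecZero (CohB1.polyGrading n R)).appTop).hom (φ.hom c)) h1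
  simp only [CommRingCat.hom_comp, RingHom.coe_comp, Function.comp_apply,
    CommRingCat.hom_ofHom] at h3
  rw [h3]
  rfl

/-- **Uniqueness part of the universal property of projective space.** -/
theorem projSpace_hom_ext (r r' : X ⟶ Proj (CohB1.polyGrading n R))
    (hrr' : r ≫ CohB1.ProjSpace.toSpec n R = r' ≫ CohB1.ProjSpace.toSpec n R)
    (τ : (Scheme.Modules.pullback r).obj (Twist.twist (CohB1.polyGrading n R) 1) ≅
      (Scheme.Modules.pullback r').obj (Twist.twist (CohB1.polyGrading n R) 1))
    (hτ : ∀ i, τ.hom.app ⊤ (pullSect r (Twist.twist (CohB1.polyGrading n R) 1) ⊤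
        (oneSecOn (CohB1.polyGrading n R) (Xi n R i) ⊤)) =
      pullSect r' (Twist.twist (CohB1.polyGrading n R) 1) ⊤
        (oneSecOn (CohB1.polyGrading n R) (Xi n R i) ⊤)) : r = r' := by
  have hpre := preimage_basicOpen_eq_of_iso n R r r' τ hτ
  let W : Fin (n + 1) → X.Opens := fun i =>
    r ⁻¹ᵁ Proj.basicOpen (CohB1.polyGrading n R) (MvPolynomial.X i)
  have hW : IsOpenCover W := by
    rw [IsOpenCover, eq_top_iff]
    intro x _
    obtain ⟨i, hi⟩ := exists_mem_basicOpen_X n R (r x)
    exact Opens.mem_iSup.mpr ⟨i, hi⟩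
  apply (X.openCoverOfIsOpenCover W hW).hom_ext
  refine fun (i : Fin (n + 1)) => ?_
  change (W i).ι ≫ r = (W i).ι ≫ r'
  have hle : W i ≤ r' ⁻¹ᵁ Proj.basicOpen (CohB1.polyGrading n R) (MvPolynomial.X i) :=
    (hpre i).le
  -- the comparison of coefficients
  have key : ∀ l, τ.hom.app (W i) (pullSect r (Twist.twist (CohB1.polyGrading n R) 1)
      (Proj.basicOpen (CohB1.polyGrading n R) (MvPolynomial.X i))
      (oneSecOn (CohB1.polyGrading n R) (Xi n R l) _)) =
      QCoh.res _ hle (pullSect r' (Twist.twist (CohB1.polyGrading n R) 1)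
      (Proj.basicOpen (CohB1.polyGrading n R) (MvPolynomial.X i))
      (oneSecOn (CohB1.polyGrading n R) (Xi n R l) _)) := by
    intro l
    rw [← res_oneSecOn (CohB1.polyGrading n R) (Xi n R l)
      (le_top : Proj.basicOpen (CohB1.polyGrading n R) (MvPolynomial.X i) ≤ ⊤),
      pullSect_res, pullSect_res, app_res, res_res]
    exact congrArg _ (hτ l)
  have hT : IsTriv _ (W i) (QCoh.res _ hle (pullSect r' (Twist.twist (CohB1.polyGrading n R) 1)
      (Proj.basicOpen (CohB1.polyGrading n R) (MvPolynomial.X i))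
      (oneSecOn (CohB1.polyGrading n R) (Xi n R i) _))) :=
    ((isTriv_oneSecOn (CohB1.polyGrading n R) (Xi n R i) _ le_rfl).pullSect r').restrict hle
  have hcoef : ∀ l, (r.app (Proj.basicOpen (CohB1.polyGrading n R) (MvPolynomial.X i))).hom
      ((Proj.awayToSection (CohB1.polyGrading n R) (MvPolynomial.X i)).hom (xFrac n R i l)) =
      rres X hle ((r'.app (Proj.basicOpen (CohB1.polyGrading n R) (MvPolynomial.X i))).hom
        ((Proj.awayToSection (CohB1.polyGrading n R) (MvPolynomial.X i)).hom (xFrac n R i l))) := by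
    intro l
    apply hT.smul_left_cancel
    have h1 := key l
    rw [oneSecOn_eq_smul (CohB1.polyGrading n R) (Xi n R l) (Xi n R i), pullSect_smul,
      pullSect_smul, Scheme.Modules.Hom.app_smul, key i, res_smul] at h1
    exact h1
  have hg : ((W i).ι ≫ r) ⁻¹ᵁ Proj.basicOpen (CohB1.polyGrading n R) (MvPolynomial.X i) = ⊤ := by
    rw [Scheme.Hom.comp_preimage]
    exact Scheme.Opens.ι_preimage_self _
  have hg' : ((W i).ι ≫ r') ⁻¹ᵁ Proj.basicOpen (CohB1.polyGrading n R) (MvPolynomial.X i) = ⊤ := by
    rw [Scheme.Hom.comp_preimage, ← hpre i]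
    exact Scheme.Opens.ι_preimage_self _
  apply hom_ext_of_appLE (Proj.isAffineOpen_basicOpen (CohB1.polyGrading n R) (MvPolynomial.X i)
    (isHomogeneous_X R i) one_pos) _ _ hg hg'
  rw [Scheme.Hom.comp_appLE, Scheme.Hom.comp_appLE, Scheme.Opens.ι_appLE, Scheme.Opens.ι_appLE]
  have hiso : IsIso (Proj.awayToSection (CohB1.polyGrading n R) (MvPolynomial.X i)) :=
    (Proj.basicOpenIsoAway (CohB1.polyGrading n R) (MvPolynomial.X i)
      (isHomogeneous_X R i) one_pos).isIso_hom
  rw [← cancel_epi (Proj.awayToSection (CohB1.polyGrading n R) (MvPolynomial.X i))]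
  apply CommRingCat.hom_ext
  apply away_X_ringHom_ext n R i
  · intro c
    simp only [CommRingCat.hom_comp, RingHom.coe_comp, Function.comp_apply]
    rw [awayToSection_cFrac]
    have hz : ∀ (ρ : X ⟶ Proj (CohB1.polyGrading n R)) (V' : X.Opens)
        (hV' : V' ≤ ρ ⁻¹ᵁ Proj.basicOpen (CohB1.polyGrading n R) (MvPolynomial.X i)),
        (X.presheaf.map (homOfLE hV').op).hom
          ((ρ.app (Proj.basicOpen (CohB1.polyGrading n R) (MvPolynomial.X i))).hom
            (((Proj (CohB1.polyGrading n R)).presheaf.map (homOfLE (le_top :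
              Proj.basicOpen (CohB1.polyGrading n R) (MvPolynomial.X i) ≤ ⊤)).op).hom
              ((CohB1.ProjSpace.toSpec n R).appTop.hom
                ((Scheme.ΓSpecIso (CommRingCat.of R)).inv.hom c)))) =
        (X.presheaf.map (homOfLE (le_top : V' ≤ ⊤)).op).hom
          ((ρ ≫ CohB1.ProjSpace.toSpec n R).appTop.hom
            ((Scheme.ΓSpecIso (CommRingCat.of R)).inv.hom c)) := by
      intro ρ V' hV'
      have hn := ρ.naturality (homOfLE (le_top :
        Proj.basicOpen (CohB1.polyGrading n R) (MvPolynomial.X i) ≤ ⊤)).op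
      have hn2 := congrArg (fun k => k.hom ((CohB1.ProjSpace.toSpec n R).appTop.hom
        ((Scheme.ΓSpecIso (CommRingCat.of R)).inv.hom c))) hn
      simp only [CommRingCat.hom_comp, RingHom.coe_comp, Function.comp_apply] at hn2
      rw [hn2, Scheme.Hom.comp_appTop]
      exact map_map_apply X _ _ _
    refine (hz r _ _).trans (Eq.trans ?_ (hz r' _ _).symm)
    rw [hrr']
  · intro l
    simp only [CommRingCat.hom_comp, RingHom.coe_comp, Function.comp_apply]
    rw [hcoef l]
    exact map_map_apply X _ _ _

end PnUnique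

end Groth.Agent.Lib.Helper29.QCoh
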