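import Groth.Agent.Lib.Helper29.TwistPn2
universe u
open CategoryTheory CategoryTheory.Limits AlgebraicGeometry Opposite TopologicalSpace DirectSum

/-! # Global functions on `P^n`; `P^1_k` is not affine -/

namespace Groth.Agent.Lib.Helper29.QCoh

section PnGlobal
variable (n : ℕ) (R : Type u) [CommRing R]

theorem toGlobal_injective :
    Function.Injective (Coh.toGlobal (CohB1.ProjSpace.toSpec n R)) := by
  intro r r' h
  have h1 : (⟨MvPolynomial.C r, MvPolynomial.isHomogeneous_C _ r⟩ : CohB1.polyGrading n R 0) =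
      ⟨MvPolynomial.C r', MvPolynomial.isHomogeneous_C _ r'⟩ := by
    apply eq_of_forall_mk_eq n R 0 0
    intro x _ _
    have h2 := ofun_toGlobal n R r (⟨x, trivial⟩ : (⊤ : (Proj (CohB1.polyGrading n R)).Opens))
    have h3 := ofun_toGlobal n R r' (⟨x, trivial⟩ : (⊤ : (Proj (CohB1.polyGrading n R)).Opens))
    rw [h] at h2
    exact h2.symm.trans h3
  exact MvPolynomial.C_injective _ _ (congrArg Subtype.val h1)

theorem toGlobal_surjective :
    Function.Surjective (Coh.toGlobal (CohB1.ProjSpace.toSpec n R)) := by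
  intro s
  let one0 : CohB1.polyGrading n R 0 := ⟨1, SetLike.GradedOne.one_mem⟩
  obtain ⟨c, hc⟩ := exists_tfun_eq_mk_one n R 0
    ((show Γ(Proj (CohB1.polyGrading n R), ⊤) from s) • polySec n R 0 one0)
  have hc0 : c.1 = MvPolynomial.C (MvPolynomial.coeff 0 c.1) :=
    MvPolynomial.totalDegree_eq_zero_iff_eq_C.mp
      ((MvPolynomial.totalDegree_zero_iff_isHomogeneous (p := c.1)).mpr c.2)
  refine ⟨MvPolynomial.coeff 0 c.1, ?_⟩
  apply ofun_ext (CohB1.polyGrading n R)
  intro x
  have h1 := ofun_toGlobal n R (MvPolynomial.coeff 0 c.1) x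
  refine h1.trans ?_
  have h2 := hc x.1
  rw [tfun_smul, tfun_polySec] at h2
  have h3 : (Localization.mk one0.1 ⟨1, one_not_mem x.1⟩ :
      Twist.Loc (CohB1.polyGrading n R) x.1) = 1 := Localization.mk_self 1
  rw [h3, mul_one] at h2
  rw [← hc0]
  exact h2.symm

/-- **Global functions on projective space are the constants.** -/
theorem isIso_toSpec_appTop : IsIso (CohB1.ProjSpace.toSpec n R).appTop := by
  rw [ConcreteCategory.isIso_iff_bijective]
  have hb : Function.Bijective (Coh.toGlobal (CohB1.ProjSpace.toSpec n R)) :=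
    ⟨toGlobal_injective n R, toGlobal_surjective n R⟩
  have hiso : Function.Bijective (Scheme.ΓSpecIso (CommRingCat.of R)).hom :=
    ConcreteCategory.bijective_of_isIso _
  have : ((CohB1.ProjSpace.toSpec n R).appTop : _ → _) =
      (Coh.toGlobal (CohB1.ProjSpace.toSpec n R)) ∘ (Scheme.ΓSpecIso (CommRingCat.of R)).hom := by
    funext a
    change _ = (CohB1.ProjSpace.toSpec n R).appTop.hom
      ((Scheme.ΓSpecIso (CommRingCat.of R)).inv.hom ((Scheme.ΓSpecIso (CommRingCat.of R)).hom.hom a))
    exact congrArg _ (Iso.hom_inv_id_apply (Scheme.ΓSpecIso (CommRingCat.of R)) a).symm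
  rw [this]
  exact hb.comp hiso

end PnGlobal

section P1NotAffine
variable (n : ℕ) (k : Type u) [Field k]

theorem X_not_mem_span_X {i j : Fin (n + 1)} (hij : j ≠ i) :
    (MvPolynomial.X j : MvPolynomial (Fin (n + 1)) k) ∉ Ideal.span {MvPolynomial.X i} := by
  intro h
  rw [Ideal.mem_span_singleton] at h
  obtain ⟨q, hq⟩ := h
  have := congrArg (MvPolynomial.eval (fun l : Fin (n + 1) => if l = i then (0 : k) else 1)) hq
  simp [hij] at this

/-- The point `(X_i)` of projective space over a field (`n ≥ 1`). -/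
noncomputable def coordPoint (i j : Fin (n + 1)) (hij : j ≠ i) :
    Proj (CohB1.polyGrading n k) :=
  (⟨⟨Ideal.span {MvPolynomial.X i}, Ideal.homogeneous_span _ _ (by
      intro x hx
      rw [Set.mem_singleton_iff] at hx
      subst hx
      exact ⟨1, MvPolynomial.isHomogeneous_X k i⟩)⟩,
    (Ideal.span_singleton_prime (MvPolynomial.X_ne_zero i)).mpr MvPolynomial.X_prime,
    fun hle => X_not_mem_span_X n k hij (hle (by
      change MvPolynomial.X j ∈ HomogeneousIdeal.irrelevant (CohB1.polyGrading n k)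
      rw [HomogeneousIdeal.mem_irrelevant_iff, GradedRing.proj_apply,
        DirectSum.decompose_of_mem_ne (CohB1.polyGrading n k)
          (MvPolynomial.isHomogeneous_X k j) one_ne_zero]))⟩ :
    ProjectiveSpectrum (CohB1.polyGrading n k))

theorem not_isAffine_projSpace_one : ¬ IsAffine (CohB1.ProjSpace 1 k) := by
  intro hA
  have hiso := isIso_toSpec_appTop 1 k
  let e : CohB1.ProjSpace 1 k ≅ Spec (CommRingCat.of k) :=
    (CohB1.ProjSpace 1 k).isoSpec ≪≫ Scheme.Spec.mapIso
      ((asIso (CohB1.ProjSpace.toSpec 1 k).appTop).symm ≪≫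
        (Scheme.ΓSpecIso (CommRingCat.of k))).op.symm
  have hinj : Function.Injective e.hom.base := e.hom.isOpenEmbedding.injective
  have hsub : Subsingleton (Spec (CommRingCat.of k)) :=
    (inferInstance : Subsingleton (PrimeSpectrum k))
  have h01 : coordPoint 1 k 0 1 (by decide) = coordPoint 1 k 1 0 (by decide) :=
    hinj (Subsingleton.elim _ _)
  have h0 : (MvPolynomial.X 0 : MvPolynomial (Fin 2) k) ∈
      (coordPoint 1 k 0 1 (by decide)).asHomogeneousIdeal :=
    Ideal.subset_span rfl
  rw [h01] at h0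
  exact X_not_mem_span_X 1 k (i := 1) (j := 0) (by decide) h0

end P1NotAffine

end Groth.Agent.Lib.Helper29.QCoh
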