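import Groth.Agent.Lib.Helper29.ProjIdeal
import Groth.Agent.Lib.Helper29.PullSect
universe u
open CategoryTheory CategoryTheory.Limits AlgebraicGeometry Opposite TopologicalSpace DirectSum

/-! # Vanishing of pulled-back global sections of `O(d)` in terms of fractions -/

namespace Groth.Agent.Lib.Helper29.QCoh

section ProjIdealPull
variable {R A : Type u} [CommRing R] [CommRing A] [Algebra R A] (𝒜 : ℕ → Submodule R A) [GradedAlgebra 𝒜]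
variable {I : Type u} (f : I → 𝒜 1)

/-- the global section `a / 1` of `O(d)` -/
def gOf {d : ℕ} (a : 𝒜 d) : Γ(Twist.twist 𝒜 (d : ℤ), ⊤) := Twist.globalOf 𝒜 a

theorem tfun_gOf {d : ℕ} (a : 𝒜 d) (x : (⊤ : (Proj 𝒜).Opens)) :
    tfun 𝒜 (gOf 𝒜 a) x = Localization.mk a.1 ⟨1, one_not_mem x.1⟩ := rfl

theorem res_gOf_eq_frac_smul (j : I) {d : ℕ} (a : 𝒜 d) :
    res (Twist.twist 𝒜 (d : ℤ)) (le_top : Dp 𝒜 f j ≤ ⊤) (gOf 𝒜 a) =
      frac 𝒜 f j (Dp 𝒜 f j) le_rfl a •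
        eSec (d : ℤ) (f j) d 0 (by simp) (Dp 𝒜 f j) le_rfl := by
  apply tfun_ext
  intro x
  rw [tfun_smul, tfun_res, tfun_gOf, ofun_frac, tfun_eSec, Localization.mk_mul]
  apply mk_eq_mk_of_mul_eq
  simp only [Submonoid.coe_mul, pow_zero, mul_one, one_mul]
  ring

variable {Z : Scheme.{u}} (i : Z ⟶ Proj 𝒜)

theorem pullSect_gOf_eq_zero_iff (hcov : ∀ x : Proj 𝒜, ∃ j, x ∈ Dp 𝒜 f j) {d : ℕ} (a : 𝒜 d) :
    pullSect i (Twist.twist 𝒜 (d : ℤ)) ⊤ (gOf 𝒜 a) = 0 ↔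
      ∀ j, i.app (Dp 𝒜 f j) (frac 𝒜 f j (Dp 𝒜 f j) le_rfl a) = 0 := by
  have hT : ∀ j, IsTriv ((Scheme.Modules.pullback i).obj (Twist.twist 𝒜 (d : ℤ)))
      (i ⁻¹ᵁ Dp 𝒜 f j)
      (pullSect i (Twist.twist 𝒜 (d : ℤ)) (Dp 𝒜 f j)
        (eSec (d : ℤ) (f j) d 0 (by simp) (Dp 𝒜 f j) le_rfl)) := fun j =>
    (isTriv_eSec (d : ℤ) (f j) d 0 (by simp) (Dp 𝒜 f j) le_rfl).pullSect i
  have hres : ∀ j, QCoh.res ((Scheme.Modules.pullback i).obj (Twist.twist 𝒜 (d : ℤ)))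
      (i.preimage_mono (le_top : Dp 𝒜 f j ≤ ⊤))
      (pullSect i (Twist.twist 𝒜 (d : ℤ)) ⊤ (gOf 𝒜 a)) =
      i.app (Dp 𝒜 f j) (frac 𝒜 f j (Dp 𝒜 f j) le_rfl a) •
        pullSect i (Twist.twist 𝒜 (d : ℤ)) (Dp 𝒜 f j)
          (eSec (d : ℤ) (f j) d 0 (by simp) (Dp 𝒜 f j) le_rfl) := by
    intro j
    rw [← pullSect_res i _ (le_top : Dp 𝒜 f j ≤ ⊤), res_gOf_eq_frac_smul, pullSect_smul]
  constructor
  · intro h j
    have h1 := hres j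
    rw [h, map_zero] at h1
    apply (hT j).smul_left_cancel
    rw [← h1, zero_smul]
  · intro h
    refine eq_of_res_cover_eq _ (fun j => i ⁻¹ᵁ Dp 𝒜 f j)
      (fun j => i.preimage_mono (le_top : Dp 𝒜 f j ≤ ⊤)) ?_ _ _ (fun j => ?_)
    · intro x _
      obtain ⟨j, hj⟩ := hcov (i.base x)
      exact Opens.mem_iSup.mpr ⟨j, hj⟩
    · rw [hres j, h j, zero_smul, map_zero]

theorem gradedHom_eq_zero_iff {B : Type u} [CommRing B] [Algebra R B] (ℬ : ℕ → Submodule R B)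
    [GradedAlgebra ℬ] (φ : 𝒜 →+*ᵍ ℬ) (a : A) :
    φ a = 0 ↔ ∀ d, φ (decompose 𝒜 a d : A) = 0 := by
  classical
  constructor
  · intro h d
    rw [GradedRingHom.map_directSumDecompose, h, decompose_zero, DirectSum.zero_apply]
    rfl
  · intro h
    rw [← DirectSum.sum_support_decompose 𝒜 a, map_sum]
    exact Finset.sum_eq_zero fun d _ => h d

/-- If the kernel of `φ` in each degree consists of the forms whose pullback to `Z` vanishes, then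
`Proj.map φ` and `i` have the same kernel. -/
theorem ker_map_eq_ker_of_pullSect [Finite I] (hcov : ∀ x : Proj 𝒜, ∃ j, x ∈ Dp 𝒜 f j)
    [QuasiCompact i] {B : Type u} [CommRing B] [Algebra R B] (ℬ : ℕ → Submodule R B)
    [GradedAlgebra ℬ] (φ : 𝒜 →+*ᵍ ℬ)
    (hφ : HomogeneousIdeal.irrelevant ℬ ≤ (HomogeneousIdeal.irrelevant 𝒜).map φ)
    [QuasiCompact (Proj.map φ hφ)]
    (hker : ∀ (d : ℕ) (a : 𝒜 d), φ a.1 = 0 ↔
      pullSect i (Twist.twist 𝒜 (d : ℤ)) ⊤ (gOf 𝒜 a) = 0) :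
    (Proj.map φ hφ).ker = i.ker := by
  apply ker_map_eq_of_ker_eq 𝒜 f i.ker ℬ φ hφ hcov
  intro a
  rw [mem_projIdeal, gradedHom_eq_zero_iff 𝒜 ℬ φ a]
  refine forall_congr' fun d => ?_
  rw [hker d (decompose 𝒜 a d), pullSect_gOf_eq_zero_iff 𝒜 f i hcov]
  refine forall_congr' fun j => ?_
  rw [Scheme.Hom.ker_apply]
  exact RingHom.mem_ker.symm

end ProjIdealPull

end Groth.Agent.Lib.Helper29.QCoh
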