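import Mathlib
set_option autoImplicit false
open MvPolynomial

namespace Groth.Agent.Lib.Helper29.PicAlg

variable {σ : Type*} {R : Type*} [CommRing R] [IsDomain R]

/-- A divisor of a nonzero homogeneous polynomial over a domain is homogeneous. -/
theorem isHomogeneous_of_mul_isHomogeneous {F G : MvPolynomial σ R} {N : ℕ}
    (h : (F * G).IsHomogeneous N) (h0 : F * G ≠ 0) : ∃ d, F.IsHomogeneous d := by
  classical
  have hF : F ≠ 0 := left_ne_zero_of_mul h0
  have hG : G ≠ 0 := right_ne_zero_of_mul h0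
  have hf : (F : MvPowerSeries σ R) ≠ 0 := by
    intro h; apply hF; exact_mod_cast h
  have hg : (G : MvPowerSeries σ R) ≠ 0 := by
    intro h; apply hG; exact_mod_cast h
  have hpf := MvPowerSeries.ne_zero_iff_order_finite.mp hf
  have hqf := MvPowerSeries.ne_zero_iff_order_finite.mp hg
  set p := (F : MvPowerSeries σ R).order.toNat with hp
  set q := (G : MvPowerSeries σ R).order.toNat with hq
  have h1 := MvPowerSeries.homogeneousComponent_mul_of_le_order (f := (F : MvPowerSeries σ R))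
    (g := (G : MvPowerSeries σ R)) (p := p) (q := q) hpf.le hqf.le
  have h2 := MvPowerSeries.homogeneousComponent_of_order hpf
  have h3 := MvPowerSeries.homogeneousComponent_of_order hqf
  have h4 : MvPowerSeries.homogeneousComponent (p + q)
      ((F : MvPowerSeries σ R) * (G : MvPowerSeries σ R)) ≠ 0 := by
    rw [h1]; exact mul_ne_zero h2 h3
  have h5 : p + q = N := by
    by_contra hne
    apply h4
    ext d
    rw [MvPowerSeries.coeff_homogeneousComponent]
    split_ifs with hd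
    · rw [← MvPolynomial.coe_mul, MvPolynomial.coeff_coe, map_zero]
      apply h.coeff_eq_zero
      rw [hd]; exact hne
    · rfl
  have h6 : (F * G).totalDegree = F.totalDegree + G.totalDegree :=
    totalDegree_mul_of_isDomain hF hG
  have h7 : (F * G).totalDegree = N := h.totalDegree h0
  have hle : ∀ (P : MvPolynomial σ R), (P : MvPowerSeries σ R) ≠ 0 →
      (P : MvPowerSeries σ R).order.toNat ≤ P.totalDegree := by
    intro P hP
    obtain ⟨d, hd, hd2⟩ := MvPowerSeries.exists_coeff_ne_zero_and_order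
      (MvPowerSeries.ne_zero_iff_order_finite.mp hP)
    rw [← hd2, ENat.toNat_natCast]
    rw [MvPolynomial.coeff_coe] at hd
    have := MvPolynomial.le_totalDegree (mem_support_iff.mpr hd)
    exact this
  have h8 := hle F hf
  have h9 := hle G hg
  have h10 : p = F.totalDegree := by omega
  refine ⟨p, ?_⟩
  intro d hd
  have hd' : MvPowerSeries.coeff d (F : MvPowerSeries σ R) ≠ 0 := by
    rwa [MvPolynomial.coeff_coe]
  have h11 := MvPowerSeries.order_le hd'
  have h12 := MvPolynomial.le_totalDegree (mem_support_iff.mpr hd)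
  change (Finsupp.weight (fun _ => 1)) d = p
  rw [← Finsupp.degree_eq_weight_one]
  rw [← hpf] at h11
  have h13 : p ≤ Finsupp.degree d := by exact_mod_cast h11
  have h14 : Finsupp.degree d ≤ F.totalDegree := by
    exact h12
  omega


section UFD
variable [UniqueFactorizationMonoid R]
attribute [local instance] MvPolynomial.gradedAlgebra

/-- The conditions on an ideal of the polynomial ring used in the descent. -/
structure Good (J : Ideal (MvPolynomial σ R)) : Prop where
  hom : J.IsHomogeneous (homogeneousSubmodule σ R)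
  sat : ∀ (a : MvPolynomial σ R) (k : ℕ), a.IsHomogeneous k →
    (∀ i, ∃ m, X i ^ m * a ∈ J) → a ∈ J
  loc : ∀ 𝔭 : Ideal (MvPolynomial σ R), 𝔭.IsPrime → 𝔭.IsHomogeneous (homogeneousSubmodule σ R) →
    (∃ i, (X i : MvPolynomial σ R) ∉ 𝔭) → ∃ H G : MvPolynomial σ R, H ∉ 𝔭 ∧ G ∈ J ∧
      (∃ e, G.IsHomogeneous e) ∧ ∀ b ∈ J, (∃ t, b.IsHomogeneous t) → ∃ k, G ∣ H ^ k * b

theorem dvd_of_forall_homogeneous_dvd {J : Ideal (MvPolynomial σ R)}
    (hJ : J.IsHomogeneous (homogeneousSubmodule σ R)) (p : MvPolynomial σ R)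
    (h : ∀ b ∈ J, (∃ t, b.IsHomogeneous t) → p ∣ b) (b : MvPolynomial σ R) (hb : b ∈ J) : p ∣ b := by
  rw [← sum_homogeneousComponent b]
  apply Finset.dvd_sum
  intro i _
  exact h _ (homogeneousComponent_mem_of_mem hJ hb i) ⟨i, homogeneousComponent_isHomogeneous i b⟩

theorem exists_homogeneous_ne_zero {J : Ideal (MvPolynomial σ R)}
    (hJ : J.IsHomogeneous (homogeneousSubmodule σ R)) (b : MvPolynomial σ R) (hb : b ∈ J)
    (hb0 : b ≠ 0) : ∃ c ∈ J, c ≠ 0 ∧ ∃ t, c.IsHomogeneous t := by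
  by_contra hcon
  push Not at hcon
  apply hb0
  rw [← sum_homogeneousComponent b]
  apply Finset.sum_eq_zero
  intro i _
  by_contra h0
  exact hcon _ (homogeneousComponent_mem_of_mem hJ hb i) h0 i
    (homogeneousComponent_isHomogeneous i b)

/-- Core step: a good nonzero ideal without homogeneous prime common divisor is the unit ideal. -/
theorem one_mem_of_good [Finite σ] {J : Ideal (MvPolynomial σ R)} (hJ : Good J)
    (b₀ : MvPolynomial σ R) (hb₀ : b₀ ∈ J) (hb₀0 : b₀ ≠ 0)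
    (hnd : ∀ p : MvPolynomial σ R, Prime p → (∃ e, p.IsHomogeneous e) → ¬ ∀ b ∈ J, p ∣ b) :
    (1 : MvPolynomial σ R) ∈ J := by
  apply hJ.sat 1 0 (isHomogeneous_one σ R)
  intro i
  by_contra hcon
  push Not at hcon
  have hdisj : Disjoint (J : Set (MvPolynomial σ R))
      (Submonoid.powers (X i : MvPolynomial σ R)) := by
    rw [Set.disjoint_left]
    rintro a haJ ⟨m, rfl⟩
    apply hcon m
    rw [mul_one]; exact haJ
  obtain ⟨P, hP, hJP, hPd⟩ := Ideal.exists_le_prime_disjoint J _ hdisj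
  set 𝔭 : Ideal (MvPolynomial σ R) := (P.homogeneousCore (homogeneousSubmodule σ R)).toIdeal
    with h𝔭
  have h𝔭P : 𝔭 ≤ P := Ideal.toIdeal_homogeneousCore_le _ P
  have h𝔭prime : 𝔭.IsPrime := hP.homogeneousCore
  have h𝔭hom : 𝔭.IsHomogeneous (homogeneousSubmodule σ R) :=
    (P.homogeneousCore (homogeneousSubmodule σ R)).isHomogeneous
  have hJ𝔭 : J ≤ 𝔭 := by
    rw [← hJ.hom.toIdeal_homogeneousCore_eq_self]
    exact Ideal.homogeneousCore_mono _ hJP
  have hXi : (X i : MvPolynomial σ R) ∉ 𝔭 := by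
    intro h
    exact Set.disjoint_left.mp hPd (h𝔭P h) ⟨1, pow_one _⟩
  obtain ⟨H, G, hH, hGJ, ⟨e, hGe⟩, hdiv⟩ := hJ.loc 𝔭 h𝔭prime h𝔭hom ⟨i, hXi⟩
  have hH0 : H ≠ 0 := by
    rintro rfl; exact hH (Ideal.zero_mem _)
  obtain ⟨c, hcJ, hc0, hct⟩ := exists_homogeneous_ne_zero hJ.hom b₀ hb₀ hb₀0
  have hG0 : G ≠ 0 := by
    rintro rfl
    obtain ⟨k, hk⟩ := hdiv c hcJ hct
    rw [zero_dvd_iff] at hk
    exact mul_ne_zero (pow_ne_zero k hH0) hc0 hk
  -- a prime factor of `G` in `𝔭`
  have hprod : (UniqueFactorizationMonoid.factors G).prod ∈ 𝔭 := by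
    obtain ⟨u, hu⟩ := UniqueFactorizationMonoid.factors_prod hG0
    have : G ∈ 𝔭 := hJ𝔭 hGJ
    rwa [← hu, Ideal.mul_unit_mem_iff_mem _ u.isUnit] at this
  obtain ⟨p, hpf, hp𝔭⟩ :=
    (h𝔭prime.multiset_prod_mem_iff_exists_mem (UniqueFactorizationMonoid.factors G)).1 hprod
  have hpprime : Prime p := UniqueFactorizationMonoid.prime_of_factor p hpf
  have hpG : p ∣ G := UniqueFactorizationMonoid.dvd_of_mem_factors hpf
  have hphom : ∃ e, p.IsHomogeneous e := by
    obtain ⟨q, hq⟩ := hpG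
    rw [hq] at hGe hG0
    exact isHomogeneous_of_mul_isHomogeneous hGe hG0
  have hpH : ¬ p ∣ H := by
    rintro ⟨q, rfl⟩
    exact hH (Ideal.mul_mem_right _ _ hp𝔭)
  apply hnd p hpprime hphom
  apply dvd_of_forall_homogeneous_dvd hJ.hom
  intro b hb hbt
  obtain ⟨k, hk⟩ := hdiv b hb hbt
  rcases hpprime.dvd_or_dvd (hpG.trans hk) with h | h
  · exact absurd (hpprime.dvd_of_dvd_pow h) hpH
  · exact h

/-- The ideal `{a | p * a ∈ J}`. -/
def divIdeal (J : Ideal (MvPolynomial σ R)) (p : MvPolynomial σ R) : Ideal (MvPolynomial σ R) where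
  carrier := {a | p * a ∈ J}
  zero_mem' := by simp
  add_mem' := by
    intro a b ha hb
    simp only [Set.mem_ofPred_eq, mul_add] at ha hb ⊢
    exact J.add_mem ha hb
  smul_mem' := by
    intro c a ha
    simp only [Set.mem_ofPred_eq, smul_eq_mul] at ha ⊢
    rw [mul_left_comm]; exact J.mul_mem_left c ha

theorem mem_divIdeal {J : Ideal (MvPolynomial σ R)} {p a : MvPolynomial σ R} :
    a ∈ divIdeal J p ↔ p * a ∈ J := Iff.rfl

theorem good_divIdeal {J : Ideal (MvPolynomial σ R)} (hJ : Good J) (p : MvPolynomial σ R)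
    (hp0 : p ≠ 0) (e : ℕ) (hpe : p.IsHomogeneous e) (hdiv : ∀ b ∈ J, p ∣ b) :
    Good (divIdeal J p) where
  hom := by
    intro k a ha
    rw [mem_divIdeal] at ha ⊢
    have h1 := hJ.hom (e + k) ha
    rwa [DirectSum.coe_decompose_mul_add_of_left_mem (homogeneousSubmodule σ R)
      ((mem_homogeneousSubmodule e p).mpr hpe)] at h1
  sat := by
    intro a k hak h
    rw [mem_divIdeal]
    apply hJ.sat (p * a) (e + k) (hpe.mul hak)
    intro i
    obtain ⟨m, hm⟩ := h i
    refine ⟨m, ?_⟩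
    rw [mem_divIdeal] at hm
    rwa [mul_left_comm]
  loc := by
    intro 𝔭 h1 h2 h3
    obtain ⟨H, G, hH, hGJ, ⟨eG, hGe⟩, hd⟩ := hJ.loc 𝔭 h1 h2 h3
    obtain ⟨G₁, rfl⟩ := hdiv G hGJ
    refine ⟨H, G₁, hH, hGJ, ?_, ?_⟩
    · by_cases hG0 : p * G₁ = 0
      · have : G₁ = 0 := by
          rcases mul_eq_zero.mp hG0 with h | h
          · exact absurd h hp0
          · exact h
        rw [this]; exact ⟨0, isHomogeneous_zero σ R 0⟩
      · rw [mul_comm] at hGe hG0
        exact isHomogeneous_of_mul_isHomogeneous hGe hG0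
    · rintro b hb ⟨t, hbt⟩
      rw [mem_divIdeal] at hb
      obtain ⟨k, hk⟩ := hd (p * b) hb ⟨e + t, hpe.mul hbt⟩
      refine ⟨k, ?_⟩
      rw [mul_left_comm] at hk
      exact (mul_dvd_mul_iff_left hp0).mp hk

/-- **Main algebra theorem**: a good nonzero ideal of a polynomial ring over a UFD is generated by
one homogeneous polynomial. -/
theorem exists_eq_span_of_good [Finite σ] (b₀ : MvPolynomial σ R) :
    b₀ ≠ 0 → ∀ J : Ideal (MvPolynomial σ R), Good J → b₀ ∈ J →
      ∃ (d : ℕ) (F : MvPolynomial σ R), F.IsHomogeneous d ∧ J = Ideal.span {F} := by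
  refine (wellFounded_dvdNotUnit (α := MvPolynomial σ R)).induction
    (C := fun b₀ => b₀ ≠ 0 → ∀ J : Ideal (MvPolynomial σ R), Good J → b₀ ∈ J →
      ∃ (d : ℕ) (F : MvPolynomial σ R), F.IsHomogeneous d ∧ J = Ideal.span {F}) b₀ ?_
  · intro b₀ ih hb₀0 J hJ hb₀
    by_cases hnd : ∀ p : MvPolynomial σ R, Prime p → (∃ e, p.IsHomogeneous e) → ¬ ∀ b ∈ J, p ∣ b
    · have h1 := one_mem_of_good hJ b₀ hb₀ hb₀0 hnd
      refine ⟨0, 1, isHomogeneous_one σ R, ?_⟩
      rw [Ideal.span_singleton_one]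
      exact (Ideal.eq_top_iff_one J).mpr h1
    · push Not at hnd
      obtain ⟨p, hp, ⟨e, hpe⟩, hdiv⟩ := hnd
      obtain ⟨b₁, rfl⟩ := hdiv b₀ hb₀
      have hb₁0 : b₁ ≠ 0 := right_ne_zero_of_mul hb₀0
      have hlt : DvdNotUnit b₁ (p * b₁) := ⟨hb₁0, p, hp.not_isUnit, mul_comm _ _⟩
      obtain ⟨d, F, hF, hJF⟩ := ih b₁ hlt hb₁0 (divIdeal J p)
        (good_divIdeal hJ p hp.ne_zero e hpe hdiv) hb₀
      refine ⟨e + d, p * F, hpe.mul hF, ?_⟩
      apply le_antisymm
      · intro b hb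
        obtain ⟨c, rfl⟩ := hdiv b hb
        have hc : c ∈ divIdeal J p := hb
        rw [hJF, Ideal.mem_span_singleton'] at hc
        obtain ⟨a, rfl⟩ := hc
        rw [Ideal.mem_span_singleton']
        exact ⟨a, by ring⟩
      · rw [Ideal.span_singleton_le_iff_mem]
        have : F ∈ divIdeal J p := by rw [hJF]; exact Ideal.subset_span rfl
        exact this

end UFD

end Groth.Agent.Lib.Helper29.PicAlg
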