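import Groth.Agent.Lib.Helper29.Hyp1
import Groth.Agent.Lib.Helper29.PicAlg
import Groth.Agent.Lib.Helper3.ProjIntegral
set_option autoImplicit false
universe u
open CategoryTheory CategoryTheory.Limits AlgebraicGeometry TopologicalSpace Opposite DirectSum

namespace Groth.Agent.Lib.Helper29.Pic
open Groth.Agent.Lib.Helper29.QCoh Groth.Agent.Lib.Helper29.ZeroSch

section Frac
variable {R A : Type u} [CommRing R] [CommRing A] [Algebra R A] (𝒜 : ℕ → Submodule R A)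
  [GradedAlgebra 𝒜]
variable {I : Type u} (f : I → 𝒜 1)

theorem frac_eq_zero_iff (i : I) {n : ℕ} (a : 𝒜 n) :
    frac 𝒜 f i (Dp 𝒜 f i) le_rfl a = 0 ↔ ∃ m, (f i).1 ^ m * a.1 = 0 := by
  have ha : a.1 ∈ 𝒜 (n • 1) := by rw [smul_eq_mul, mul_one]; exact a.2
  rw [← awayToSection_mk_eq_frac]
  have hbij : Function.Bijective (Proj.awayToSection 𝒜 (f i).1).hom :=
    ConcreteCategory.bijective_of_isIso (Proj.basicOpenIsoAway 𝒜 (f i).1 (f i).2 one_pos).hom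
  change ((Proj.awayToSection 𝒜 (f i).1).hom _ : Γ(Proj 𝒜, Proj.basicOpen 𝒜 (f i).1)) = 0 ↔ _
  rw [map_eq_zero_iff _ hbij.1, ← (HomogeneousLocalization.val_injective _).eq_iff,
    HomogeneousLocalization.Away.val_mk, HomogeneousLocalization.val_zero,
    Localization.mk_eq_mk', IsLocalization.mk'_eq_zero_iff]
  constructor
  · rintro ⟨⟨_, k, rfl⟩, hk⟩
    exact ⟨k, hk⟩
  · rintro ⟨k, hk⟩
    exact ⟨⟨_, k, rfl⟩, hk⟩

theorem frac_pow_mul_self (i : I) (m : ℕ) {n : ℕ} (a : 𝒜 n) :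
    frac 𝒜 f i (Dp 𝒜 f i) le_rfl (⟨(f i).1 ^ m * a.1,
      SetLike.mul_mem_graded (pow_mem_deg 𝒜 f i m) a.2⟩ : 𝒜 (m + n)) =
      frac 𝒜 f i (Dp 𝒜 f i) le_rfl a := by
  rw [frac_pow_mul, frac_self, one_pow, one_mul]

/-- Equality of fractions gives an equation in the graded ring. -/
theorem exists_pow_mul_eq_of_frac_eq (i : I) {p q : ℕ} (P : 𝒜 p) (Q : 𝒜 q)
    (h : frac 𝒜 f i (Dp 𝒜 f i) le_rfl P = frac 𝒜 f i (Dp 𝒜 f i) le_rfl Q) :
    ∃ m, (f i).1 ^ m * ((f i).1 ^ q * P.1 - (f i).1 ^ p * Q.1) = 0 := by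
  set P' : 𝒜 (q + p) := ⟨(f i).1 ^ q * P.1, SetLike.mul_mem_graded (pow_mem_deg 𝒜 f i q) P.2⟩
    with hP'
  have hQm : (f i).1 ^ p * Q.1 ∈ 𝒜 (q + p) := by
    rw [add_comm]; exact SetLike.mul_mem_graded (pow_mem_deg 𝒜 f i p) Q.2
  set Q' : 𝒜 (q + p) := ⟨(f i).1 ^ p * Q.1, hQm⟩ with hQ'
  have h1 : frac 𝒜 f i (Dp 𝒜 f i) le_rfl P' = frac 𝒜 f i (Dp 𝒜 f i) le_rfl P :=
    frac_pow_mul_self 𝒜 f i q P
  have h2 : frac 𝒜 f i (Dp 𝒜 f i) le_rfl Q' = frac 𝒜 f i (Dp 𝒜 f i) le_rfl Q := by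
    rw [← frac_pow_mul_self 𝒜 f i p Q]
    exact frac_congr 𝒜 f i _ le_rfl _ _ (add_comm q p) rfl
  have h3 : frac 𝒜 f i (Dp 𝒜 f i) le_rfl (P' - Q') = 0 := by
    have h4 := frac_add 𝒜 f i (Dp 𝒜 f i) le_rfl (P' - Q') Q'
    rw [sub_add_cancel, h1, h2, h] at h4
    exact (add_eq_right.mp h4.symm)
  obtain ⟨m, hm⟩ := (frac_eq_zero_iff 𝒜 f i (P' - Q')).mp h3
  exact ⟨m, hm⟩

/-- Local generators of the ideal of the zero scheme of a nonzero section of an invertible module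
on an integral `Proj`, in terms of fractions. -/
theorem exists_local_gen [IsIntegral (Proj 𝒜)] {L : (Proj 𝒜).Modules} (hL : PicF.IsInvertible L)
    (s : unitM (Proj 𝒜) ⟶ L) (hs : s ≠ 0) (i : I) (x : Proj 𝒜) (hx : x ∈ Dp 𝒜 f i) :
    ∃ (l : ℕ) (H₀ : 𝒜 l) (e : ℕ) (G₀ : 𝒜 e), x ∈ Proj.basicOpen 𝒜 H₀.1 ∧
      frac 𝒜 f i (Dp 𝒜 f i) le_rfl G₀ ≠ 0 ∧
      frac 𝒜 f i (Dp 𝒜 f i) le_rfl G₀ ∈ (PicF2.zeroScheme L s).ideal (affDp 𝒜 f i) ∧
      ∀ (t : ℕ) (b : 𝒜 t),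
        frac 𝒜 f i (Dp 𝒜 f i) le_rfl b ∈ (PicF2.zeroScheme L s).ideal (affDp 𝒜 f i) →
        ∃ (k r : ℕ) (C : 𝒜 r), frac 𝒜 f i (Dp 𝒜 f i) le_rfl H₀ ^ k *
          frac 𝒜 f i (Dp 𝒜 f i) le_rfl b =
          frac 𝒜 f i (Dp 𝒜 f i) le_rfl C * frac 𝒜 f i (Dp 𝒜 f i) le_rfl G₀ := by
  obtain ⟨K, hK⟩ : ∃ K, K = PicF2.zeroScheme L s := ⟨_, rfl⟩
  rw [← hK]
  obtain ⟨U, hUdef⟩ : ∃ U, U = Dp 𝒜 f i := ⟨_, rfl⟩
  have hU : IsAffineOpen U := hUdef ▸ isAffineOpen_Dp 𝒜 f i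
  have hxU : x ∈ U := hUdef ▸ hx
  obtain ⟨V, e, hV, hxV, hVU, he⟩ := exists_affine_isTriv hL (W := U) x hxU
  obtain ⟨h, hhV, hxh⟩ := hU.exists_basicOpen_le ⟨x, hxV⟩ hxU
  obtain ⟨W, hWdef⟩ : ∃ W, W = (Proj 𝒜).basicOpen h := ⟨_, rfl⟩
  have hWU : W ≤ U := hWdef ▸ (Proj 𝒜).basicOpen_le h
  have hWV : W ≤ V := hWdef ▸ hhV
  have hxW : x ∈ W := hWdef ▸ hxh
  have hW : IsAffineOpen W := hWdef ▸ hU.basicOpen h
  have heW : IsTriv L W (QCoh.res L hWV e) := he.restrict hWV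
  obtain ⟨a, ha⟩ := heW.exists_eq_smul (sval s W)
  have hKW : K.ideal ⟨W, hW⟩ = Ideal.span {a} := by
    rw [hK]; exact zeroScheme_ideal_of_isTriv hL s hW heW a ha
  have ha0 : a ≠ 0 := by
    intro h0
    apply sval_ne_zero hL s hs ⟨x, hxW⟩
    rw [ha, h0, zero_smul]
  have hunit : IsUnit (rres (Proj 𝒜) hWU h) := by
    subst hWdef
    exact RingedSpace.isUnit_res_basicOpen _ h
  have hsurj : ∀ c : Γ(Proj 𝒜, W), ∃ (k : ℕ) (c' : Γ(Proj 𝒜, U)),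
      c * rres (Proj 𝒜) hWU h ^ k = rres (Proj 𝒜) hWU c' := by
    subst hWdef
    intro c
    have hloc := hU.isLocalization_basicOpen h
    obtain ⟨k, c', hc'⟩ := IsLocalization.Away.surj h c
    exact ⟨k, c', hc'⟩
  have hmemU : ∀ c' : Γ(Proj 𝒜, U), rres (Proj 𝒜) hWU c' ∈ K.ideal ⟨W, hW⟩ →
      ∃ k, h ^ k * c' ∈ K.ideal ⟨U, hU⟩ := by
    subst hWdef
    intro c' hc'
    have hloc := hU.isLocalization_basicOpen h
    have h3 := K.map_ideal_basicOpen ⟨U, hU⟩ h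
    have h2' : algebraMap Γ(Proj 𝒜, U) Γ(Proj 𝒜, (Proj 𝒜).basicOpen h) c' ∈
        Ideal.map (algebraMap Γ(Proj 𝒜, U) Γ(Proj 𝒜, (Proj 𝒜).basicOpen h))
          (K.ideal ⟨U, hU⟩) := by
      have hc'' : rres (Proj 𝒜) hWU c' ∈ K.ideal ((Proj 𝒜).affineBasicOpen (U := ⟨U, hU⟩) h) := hc'
      rw [← h3] at hc''; exact hc''
    obtain ⟨_, ⟨m, rfl⟩, hm⟩ := (IsLocalization.algebraMap_mem_map_algebraMap_iff
      (Submonoid.powers h) Γ(Proj 𝒜, (Proj 𝒜).basicOpen h) (K.ideal ⟨U, hU⟩) c').1 h2'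
    exact ⟨m, hm⟩
  obtain ⟨k, a', ha'⟩ := hsurj a
  have ha'K : rres (Proj 𝒜) hWU a' ∈ K.ideal ⟨W, hW⟩ := by
    rw [← ha', hKW]
    exact Ideal.mul_mem_right _ _ (Ideal.subset_span rfl)
  obtain ⟨k', hk'⟩ := hmemU a' ha'K
  obtain ⟨a'', ha''⟩ : ∃ a'', a'' = h ^ k' * a' := ⟨_, rfl⟩
  have ha''W : rres (Proj 𝒜) hWU a'' = rres (Proj 𝒜) hWU h ^ (k' + k) * a := by
    rw [ha'', map_mul, map_pow, ← ha']; ring
  have hKW' : K.ideal ⟨W, hW⟩ = Ideal.span {rres (Proj 𝒜) hWU a''} := by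
    rw [hKW, ha''W]
    exact (Ideal.span_singleton_mul_left_unit (hunit.pow _) a).symm
  subst hUdef
  obtain ⟨l, H₀, hH₀⟩ := exists_eq_frac 𝒜 f i h
  obtain ⟨e', G₀, hG₀⟩ := exists_eq_frac 𝒜 f i a''
  refine ⟨l, H₀, e', G₀, ?_, ?_, ?_, ?_⟩
  · have h1 := basicOpen_frac 𝒜 f i (Dp 𝒜 f i) le_rfl H₀
    rw [← hH₀, ← hWdef] at h1
    rw [h1] at hxW
    exact hxW.2
  · rw [← hG₀]
    intro h0
    apply ha0
    rw [h0, map_zero] at ha''W
    exact ((hunit.pow (k' + k)).mul_right_eq_zero).mp ha''W.symm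
  · rw [← hG₀, ha'']
    exact hk'
  · intro t b hb
    have hbW : rres (Proj 𝒜) hWU (frac 𝒜 f i (Dp 𝒜 f i) le_rfl b) ∈ K.ideal ⟨W, hW⟩ :=
      K.ideal_le_comap_ideal (U := ⟨W, hW⟩) (V := affDp 𝒜 f i) hWU hb
    rw [hKW', Ideal.mem_span_singleton'] at hbW
    obtain ⟨c, hc⟩ := hbW
    obtain ⟨k'', c', hc'⟩ := hsurj c
    obtain ⟨r, C, hC⟩ := exists_eq_frac 𝒜 f i c'
    refine ⟨k'', r, C, ?_⟩
    apply rres_injective_of_isIntegral hWU ⟨x, hxW⟩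
    rw [map_mul, map_mul, map_pow, ← hC, ← hG₀, ← hH₀, ← hc', ← hc]
    ring

theorem frac_pow_gen (i : I) {l : ℕ} (a : 𝒜 l) (k : ℕ) :
    frac 𝒜 f i (Dp 𝒜 f i) le_rfl (⟨a.1 ^ k, SetLike.pow_mem_graded k a.2⟩ : 𝒜 (k • l)) =
      frac 𝒜 f i (Dp 𝒜 f i) le_rfl a ^ k := by
  apply ofun_ext
  intro x
  rw [ofun_pow, ofun_frac, ofun_frac, Localization.mk_pow]
  apply mk_eq_mk_of_mul_eq
  simp only [SubmonoidClass.coe_pow, smul_eq_mul]
  rw [← pow_mul, mul_comm l k]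

end Frac

section Pn
variable (n : ℕ) (R : Type u) [CommRing R] [IsDomain R]

/-- The coordinate functions indexed in universe `u`. -/
noncomputable def fXn : ULift.{u} (Fin (n + 1)) → CohB1.polyGrading n R 1 :=
  fun i => Xi n R i.down

theorem fXn_cov (x : Proj (CohB1.polyGrading n R)) :
    ∃ i, x ∈ Dp (CohB1.polyGrading n R) (fXn n R) i := by
  obtain ⟨i, hi⟩ := exists_mem_basicOpen_X n R x
  exact ⟨⟨i⟩, hi⟩

instance isIntegral_projSpace : IsIntegral (Proj (CohB1.polyGrading n R)) := by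
  apply Groth.Agent.Lib.Helper3.ProjIntegral.isIntegral_of_isDomain
  intro h
  have h1 : (MvPolynomial.X 0 : MvPolynomial (Fin (n + 1)) R) ∈
      (HomogeneousIdeal.irrelevant (CohB1.polyGrading n R)).toIdeal :=
    HomogeneousIdeal.mem_irrelevant_of_mem _ one_pos (Xi n R 0).2
  rw [h] at h1
  exact MvPolynomial.X_ne_zero 0 ((Submodule.mem_bot _).mp h1)

variable {n R}

theorem good_projIdeal {L : (Proj (CohB1.polyGrading n R)).Modules} (hL : PicF.IsInvertible L)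
    (s : unitM (Proj (CohB1.polyGrading n R)) ⟶ L) (hs : s ≠ 0) :
    PicAlg.Good (projIdeal (CohB1.polyGrading n R) (fXn n R) (PicF2.zeroScheme L s)) ∧
      ∃ b ∈ projIdeal (CohB1.polyGrading n R) (fXn n R) (PicF2.zeroScheme L s), b ≠ 0 := by
  obtain ⟨K, hK⟩ : ∃ K, K = PicF2.zeroScheme L s := ⟨_, rfl⟩
  rw [← hK]
  -- the local analysis at a point of a chart
  have key : ∀ (i : Fin (n + 1)) (x : Proj (CohB1.polyGrading n R)),
      x ∈ Dp (CohB1.polyGrading n R) (fXn n R) ⟨i⟩ →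
      ∃ H G : MvPolynomial (Fin (n + 1)) R, H ∉ x.asHomogeneousIdeal ∧ G ≠ 0 ∧
        G ∈ projIdeal (CohB1.polyGrading n R) (fXn n R) K ∧
        (∃ e, G.IsHomogeneous e) ∧
        ∀ b ∈ projIdeal (CohB1.polyGrading n R) (fXn n R) K,
          (∃ t, b.IsHomogeneous t) → ∃ k, G ∣ H ^ k * b := by
    intro i x hx
    obtain ⟨l, H₀, e, G₀, hxH, hG0, hGK, hdiv⟩ :=
      exists_local_gen (CohB1.polyGrading n R) (fXn n R) hL s hs ⟨i⟩ x hx
    rw [← hK] at hGK hdiv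
    obtain ⟨m, hm⟩ := (frac_mem_iff (CohB1.polyGrading n R) (fXn n R) K ⟨i⟩ G₀).mp hGK
    have hXi : (fXn n R ⟨i⟩).1 = MvPolynomial.X i := rfl
    rw [hXi] at hm
    have hG₀0 : G₀.1 ≠ 0 := by
      intro h0
      apply hG0
      have : G₀ = 0 := Subtype.ext h0
      rw [this, frac_zero]
    refine ⟨MvPolynomial.X i * H₀.1, MvPolynomial.X i ^ m * G₀.1, ?_, ?_, hm, ⟨m + e, ?_⟩, ?_⟩
    · intro hmem
      rcases x.isPrime.mem_or_mem hmem with h | h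
      · exact hx h
      · exact hxH h
    · exact mul_ne_zero (pow_ne_zero m (MvPolynomial.X_ne_zero i)) hG₀0
    · have := ((MvPolynomial.isHomogeneous_X R i).pow m).mul G₀.2
      rwa [one_mul] at this
    · rintro b hb ⟨t, hbt⟩
      have hbK : frac (CohB1.polyGrading n R) (fXn n R) ⟨i⟩ _ le_rfl
          (⟨b, hbt⟩ : CohB1.polyGrading n R t) ∈ K.ideal (affDp _ (fXn n R) ⟨i⟩) :=
        ((coe_mem_projIdeal_iff (CohB1.polyGrading n R) (fXn n R) K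
          (⟨b, hbt⟩ : CohB1.polyGrading n R t)).mp hb) ⟨i⟩
      obtain ⟨k, r, C, hC⟩ := hdiv t ⟨b, hbt⟩ hbK
      rw [← frac_pow_gen, ← frac_mul, ← frac_mul] at hC
      obtain ⟨M, hM⟩ := exists_pow_mul_eq_of_frac_eq (CohB1.polyGrading n R) (fXn n R) ⟨i⟩ _ _ hC
      rw [hXi] at hM
      have hE : MvPolynomial.X i ^ (r + e) * (H₀.1 ^ k * b) -
          MvPolynomial.X i ^ (k • l + t) * (C.1 * G₀.1) = 0 := by
        rcases mul_eq_zero.mp hM with h | h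
        · exact absurd h (pow_ne_zero M (MvPolynomial.X_ne_zero i))
        · exact h
      refine ⟨m + r + e + k, ⟨MvPolynomial.X i ^ (k • l + t) * C.1 * MvPolynomial.X i ^ k *
        H₀.1 ^ (m + r + e), ?_⟩⟩
      linear_combination (MvPolynomial.X i ^ (m + k) * H₀.1 ^ (m + r + e)) * hE
  refine ⟨⟨?_, ?_, ?_⟩, ?_⟩
  · exact projIdeal_isHomogeneous (CohB1.polyGrading n R) (fXn n R) K
  · intro a k hak h
    rw [show a = ((⟨a, hak⟩ : CohB1.polyGrading n R k) : MvPolynomial (Fin (n + 1)) R) from rfl,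
      coe_mem_projIdeal_iff]
    intro i
    obtain ⟨m, hm⟩ := h i.down
    exact frac_mem_of_pow_mul_mem (CohB1.polyGrading n R) (fXn n R) K i
      (⟨a, hak⟩ : CohB1.polyGrading n R k) m hm
  · rintro 𝔭 h1 h2 ⟨i, hi⟩
    let x : Proj (CohB1.polyGrading n R) := ⟨⟨𝔭, h2⟩, h1, fun hle =>
      hi (hle (HomogeneousIdeal.mem_irrelevant_of_mem _ one_pos (Xi n R i).2))⟩
    have hx : x ∈ Dp (CohB1.polyGrading n R) (fXn n R) ⟨i⟩ := hi
    obtain ⟨H, G, hH, -, hGK, hGe, hdiv⟩ := key i x hx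
    exact ⟨H, G, hH, hGK, hGe, hdiv⟩
  · obtain ⟨x⟩ : Nonempty (Proj (CohB1.polyGrading n R)) := inferInstance
    obtain ⟨i, hi⟩ := exists_mem_basicOpen_X n R x
    obtain ⟨H, G, -, hG0, hGK, -, -⟩ := key i x hi
    exact ⟨G, hGK, hG0⟩

/-- **Key claim**: the zero scheme of a nonzero section of an invertible module on projective
space over a UFD is cut out by one homogeneous polynomial. -/
theorem exists_homogeneous_gen [UniqueFactorizationMonoid R]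
    {L : (Proj (CohB1.polyGrading n R)).Modules} (hL : PicF.IsInvertible L)
    (s : unitM (Proj (CohB1.polyGrading n R)) ⟶ L) (hs : s ≠ 0) :
    ∃ (d : ℕ) (F : CohB1.polyGrading n R d), ∀ i,
      (PicF2.zeroScheme L s).ideal (affDp (CohB1.polyGrading n R) (fXn n R) i) =
        Ideal.span {frac (CohB1.polyGrading n R) (fXn n R) i _ le_rfl F} := by
  obtain ⟨hgood, b₀, hb₀, hb₀0⟩ := good_projIdeal hL s hs
  obtain ⟨K, hK⟩ : ∃ K, K = PicF2.zeroScheme L s := ⟨_, rfl⟩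
  rw [← hK] at hgood hb₀ ⊢
  obtain ⟨d, F, hF, hJ⟩ := PicAlg.exists_eq_span_of_good b₀ hb₀0 _ hgood hb₀
  refine ⟨d, ⟨F, hF⟩, fun i => ?_⟩
  have hFmem : F ∈ projIdeal (CohB1.polyGrading n R) (fXn n R) K := by
    rw [hJ]; exact Ideal.subset_span rfl
  have hXi : (fXn n R i).1 = MvPolynomial.X i.down := rfl
  apply le_antisymm
  · intro r hr
    obtain ⟨t, a, rfl⟩ := exists_eq_frac (CohB1.polyGrading n R) (fXn n R) i r
    obtain ⟨m, hm⟩ := (frac_mem_iff (CohB1.polyGrading n R) (fXn n R) K i a).mp hr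
    rw [hJ, Ideal.mem_span_singleton', hXi] at hm
    obtain ⟨c, hc⟩ := hm
    by_cases ha0 : a.1 = 0
    · have : a = 0 := Subtype.ext ha0
      rw [this, frac_zero]; exact Ideal.zero_mem _
    have hne : c * F ≠ 0 := by
      rw [hc]; exact mul_ne_zero (pow_ne_zero m (MvPolynomial.X_ne_zero _)) ha0
    have hhom : (c * F).IsHomogeneous (m + t) := by
      rw [hc]
      have := ((MvPolynomial.isHomogeneous_X R i.down).pow m).mul a.2
      rwa [one_mul] at this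
    obtain ⟨d', hcd'⟩ := PicAlg.isHomogeneous_of_mul_isHomogeneous hhom hne
    have hdeg : d' + d = m + t := (hcd'.mul hF).inj_right hhom hne
    have h1 := frac_pow_mul_self (CohB1.polyGrading n R) (fXn n R) i m a
    have h2 : frac (CohB1.polyGrading n R) (fXn n R) i _ le_rfl
        (⟨c * F, hcd'.mul hF⟩ : CohB1.polyGrading n R (d' + d)) =
        frac (CohB1.polyGrading n R) (fXn n R) i _ le_rfl
          (⟨(fXn n R i).1 ^ m * a.1, SetLike.mul_mem_graded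
            (pow_mem_deg (CohB1.polyGrading n R) (fXn n R) i m) a.2⟩ :
            CohB1.polyGrading n R (m + t)) :=
      frac_congr _ _ i _ le_rfl _ _ hdeg hc
    rw [← h1, ← h2]
    have h3 := frac_mul (CohB1.polyGrading n R) (fXn n R) i _ le_rfl
      (⟨c, hcd'⟩ : CohB1.polyGrading n R d') (⟨F, hF⟩ : CohB1.polyGrading n R d)
    rw [h3]
    exact Ideal.mul_mem_left _ _ (Ideal.subset_span rfl)
  · apply (Ideal.span_singleton_le_iff_mem _).mpr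
    exact ((coe_mem_projIdeal_iff (CohB1.polyGrading n R) (fXn n R) K
      (⟨F, hF⟩ : CohB1.polyGrading n R d)).mp hFmem) i

end Pn

end Groth.Agent.Lib.Helper29.Pic
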