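import Groth.Agent.Lib.Helper29.CE3
import Groth.Agent.Lib.Helper29.QCohExt
universe u
open CategoryTheory CategoryTheory.Limits AlgebraicGeometry Opposite TopologicalSpace
open scoped TensorProduct

/-! # Sections of an invertible module separating a closed point from a closed set -/

namespace Groth.Agent.Lib.Helper29.QCoh

section SH2
variable {X : Scheme.{u}} {J : X.Modules} (i : J ⟶ unitM X) (M : X.Modules)
variable [J.IsQuasicoherent]

/-- Over a trivialising affine open every section of `J ⊗ M` is a pure tensor `a ⊗ e`. -/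
theorem exists_eq_tmulSec_of_isTriv [M.IsQuasicoherent] (W : X.affineOpens) {e : Γ(M, W.1)}
    (he : IsTriv M W.1 e) (τ : Γ(CohB1.tensorMod J M, W.1)) :
    ∃ a : Γ(J, W.1), τ = tmulSec J M a e := by
  obtain ⟨w, rfl⟩ := (tensorSectionsEquiv J M W.2).surjective τ
  induction w with
  | zero => exact ⟨0, by rw [map_zero, tmulSec_zero_left]⟩
  | tmul a m =>
    obtain ⟨b, rfl⟩ := he.exists_eq_smul m
    exact ⟨b • a, by rw [tensorSectionsEquiv_tmul, tmulSec_smul_left, tmulSec_smul_right]⟩
  | add w₁ w₂ h₁ h₂ =>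
    obtain ⟨a₁, e₁⟩ := h₁
    obtain ⟨a₂, e₂⟩ := h₂
    exact ⟨a₁ + a₂, by rw [map_add, e₁, e₂, tmulSec_add_left]⟩

/-- **Flatness of invertible modules, for ideals**: for `J ⊆ O_X` and `M` invertible, the
multiplication `J ⊗ M ⟶ M` is a monomorphism. -/
theorem mono_mulHom [Mono i] (hM : PicF.IsInvertible M) : Mono (mulHom i M) := by
  have : M.IsQuasicoherent := isQuasicoherent_of_isInvertible hM
  rw [mono_iff_app_injective]
  intro U
  rw [injective_iff_map_eq_zero]
  intro τ hτ
  have key : ∀ x : U, ∃ W : X.Opens, x.1 ∈ W ∧ ∃ h : W ≤ U,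
      res (CohB1.tensorMod J M) h τ = 0 := by
    intro x
    obtain ⟨W, e, hW, hxW, hWU, he⟩ := exists_affine_isTriv hM (W := U) x.1 x.2
    refine ⟨W, hxW, hWU, ?_⟩
    obtain ⟨a, ha⟩ := exists_eq_tmulSec_of_isTriv M ⟨W, hW⟩ he
      (res (CohB1.tensorMod J M) hWU τ)
    have h1 : (mulHom i M).app W (res (CohB1.tensorMod J M) hWU τ) = 0 := by
      rw [app_res, hτ, map_zero]
    rw [ha, mulHom_tmulSec] at h1
    have h2 : fromUnit (i.app W a) = 0 := by
      apply he.smul_left_cancel
      rw [h1, zero_smul]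
    have h3 : a = 0 := by
      apply (mono_iff_app_injective i).mp inferInstance W
      rw [map_zero]
      exact h2
    rw [ha, h3, tmulSec_zero_left]
  choose W hxW hWU hW0 using key
  exact eq_zero_of_res_cover_eq_zero _ W hWU
    (fun y hy => Opens.mem_iSup.mpr ⟨⟨y, hy⟩, hxW ⟨y, hy⟩⟩) τ hW0

/-- The short exact sequence `0 → J ⊗ M → M → M/JM → 0`. -/
theorem shortExact_mulHom [Mono i] (hM : PicF.IsInvertible M) :
    (ShortComplex.mk (mulHom i M) (cokernel.π (mulHom i M)) (cokernel.condition _)).ShortExact := by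
  have := mono_mulHom i M hM
  exact ShortComplex.ShortExact.mk (ShortComplex.exact_cokernel _)

/-- **Separating a closed point from a closed set by a section**: let `x ∈ U` be a closed point in
an affine open trivialising the invertible module `M`, and `J ⊆ O_X` an ideal whose sections vanish
at `x` and outside `U`, and which is the unit ideal on `U ∖ {x}`. If `Γ(X, M) → Γ(X, M/JM)` is
surjective, there is a global section `s` of `M` with `x ∈ X_s ⊆ U` (and then `X_s` is affine). -/
theorem exists_section_genLocus_of_surjective [Mono i] (hM : PicF.IsInvertible M) (x : X)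
    (hx : IsClosed ({x} : Set X)) (U : X.Opens) (hU : IsAffineOpen U) (hxU : x ∈ U)
    {e : Γ(M, U)} (he : IsTriv M U e)
    (hvan : VanishesOff i (U ⊓ ⟨{x}ᶜ, hx.isOpen_compl⟩))
    (hone : ∀ W : X.affineOpens, W.1 ≤ U → x ∉ W.1 → ∃ a : Γ(J, W.1), fromUnit (i.app W.1 a) = 1)
    {C : X.Modules} (π : M ⟶ C) (w : mulHom i M ≫ π = 0)
    (hex : (ShortComplex.mk (mulHom i M) π w).Exact)
    (hsurj : Function.Surjective (π.app ⊤)) :
    ∃ s : unitM X ⟶ M, x ∈ CohB1.genLocus M s ∧ CohB1.genLocus M s ≤ U ∧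
      IsAffineOpen (CohB1.genLocus M s) := by
  have : M.IsQuasicoherent := isQuasicoherent_of_isInvertible hM
  have hmono := mono_mulHom i M hM
  have hcond : ∀ (W : X.Opens) (τ : Γ(CohB1.tensorMod J M, W)),
      π.app W ((mulHom i M).app W τ) = 0 := by
    intro W τ
    exact congrArg (fun φ => φ.app W τ) w
  have hexact : ∀ (W : X.Opens) (m : Γ(M, W)), π.app W m = 0 →
      ∃ τ : Γ(CohB1.tensorMod J M, W), (mulHom i M).app W τ = m := by
    intro W m hm
    have := app_exact_of_exact_of_mono (ShortComplex.mk (mulHom i M) π w) hex W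
    exact (this m).mp hm
  set V : X.Opens := ⟨{x}ᶜ, hx.isOpen_compl⟩ with hV
  -- the image of `e` vanishes on `U ∖ {x}`
  have hzero : res C (inf_le_left : U ⊓ V ≤ U) (π.app U e) = 0 := by
    obtain ⟨ι, W, hWaff, hWle, hcov⟩ := exists_affine_cover_le (U ⊓ V)
    refine eq_zero_of_res_cover_eq_zero C W hWle hcov _ fun k => ?_
    rw [res_res, ← app_res]
    have hxW : x ∉ W k := fun h => (hWle k h).2 rfl
    obtain ⟨a, ha⟩ := hone ⟨W k, hWaff k⟩ ((hWle k).trans inf_le_left) hxW
    have : res M ((hWle k).trans inf_le_left) e =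
        (mulHom i M).app (W k) (tmulSec J M a (res M ((hWle k).trans inf_le_left) e)) := by
      rw [mulHom_tmulSec, ha, one_smul]
    rw [this, hcond]
  -- glue `π e` on `U` with `0` on `X ∖ {x}`
  obtain ⟨c, hc⟩ := exists_gluing C (fun b : Bool => if b then U else V) ⊤
    (fun _ => le_top) (by
      intro y _
      by_cases hy : y = x
      · exact Opens.mem_iSup.mpr ⟨true, by simpa [hy] using hxU⟩
      · exact Opens.mem_iSup.mpr ⟨false, hy⟩)
    (fun b => match b with
      | true => π.app U e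
      | false => 0)
    (by
      intro b b'
      cases b <;> cases b'
      · rfl
      · change res C (inf_le_left : V ⊓ U ≤ V) 0 = res C (inf_le_right : V ⊓ U ≤ U) (π.app U e)
        rw [map_zero, ← res_res C (inf_le_left : U ⊓ V ≤ U) (le_of_eq (inf_comm V U) : V ⊓ U ≤ U ⊓ V),
          hzero, map_zero]
      · change res C (inf_le_left : U ⊓ V ≤ U) (π.app U e) = res C (inf_le_right : U ⊓ V ≤ V) 0
        rw [map_zero, hzero]
      · rfl)
  have hcU : res C le_top c = π.app U e := hc true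
  have hcV : res C le_top c = (0 : Γ(C, V)) := hc false
  obtain ⟨s₀, hs₀⟩ := hsurj c
  refine ⟨homOfSection M s₀, ?_⟩
  -- the local computation at `x`
  have hlocal : ∀ (W : X.affineOpens) (y : X) (hyW : y ∈ W.1) (hy : y ∉ U ⊓ V) (m : Γ(M, W.1))
      {e' : Γ(M, W.1)} (he' : IsTriv M W.1 e'), π.app W.1 m = 0 →
      ∃ a : Γ(X, W.1), m = a • e' ∧ y ∉ X.basicOpen a := by
    intro W y hyW hy m e' he' hm
    obtain ⟨τ, hτ⟩ := hexact W.1 m hm
    let 𝔞 : Ideal Γ(X, W.1) := Ideal.comap (X.presheaf.germ W.1 y hyW).hom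
      (IsLocalRing.maximalIdeal (X.presheaf.stalk y))
    have h𝔞 : ∀ t : Γ(J, W.1), fromUnit (i.app W.1 t) ∈ 𝔞 := by
      intro t
      change (X.presheaf.germ W.1 y hyW).hom (fromUnit (i.app W.1 t)) ∈
        IsLocalRing.maximalIdeal (X.presheaf.stalk y)
      rw [IsLocalRing.mem_maximalIdeal, mem_nonunits_iff]
      intro hu
      exact hvan W t y hyW hy ((Scheme.mem_basicOpen _ _ _ hyW).mpr hu)
    obtain ⟨a, ha, hae⟩ := exists_mulHom_app_eq_smul i M W 𝔞 h𝔞 he' τ
    refine ⟨a, by rw [← hτ, hae], fun hya => ?_⟩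
    have hu : IsUnit ((X.presheaf.germ W.1 y hyW).hom a) := (Scheme.mem_basicOpen _ _ _ hyW).mp hya
    have ha' : (X.presheaf.germ W.1 y hyW).hom a ∈ IsLocalRing.maximalIdeal (X.presheaf.stalk y) := ha
    rw [IsLocalRing.mem_maximalIdeal, mem_nonunits_iff] at ha'
    exact ha' hu
  have hle : CohB1.genLocus M (homOfSection M s₀) ≤ U := by
    intro y hy
    by_contra hyU
    have hyV : y ∈ V := fun h => hyU (by rw [Set.mem_singleton_iff.mp h]; exact hxU)
    obtain ⟨W, e', hW, hyW, hWV, he'⟩ := exists_affine_isTriv hM (W := V) y hyV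
    have hm : π.app W (res M le_top s₀) = 0 := by
      rw [app_res, hs₀, ← res_res C (le_top : V ≤ ⊤) hWV, hcV, map_zero]
    obtain ⟨a, ha, hya⟩ := hlocal ⟨W, hW⟩ y hyW (fun h => hyU h.1) _ he' hm
    have hs : sval (homOfSection M s₀) W = a • e' := by rw [sval_homOfSection]; exact ha
    exact hya ((mem_genLocus_iff_of_isTriv _ he' a hs y hyW).mp hy)
  have hm : π.app U (res M le_top s₀ - e) = 0 := by
    rw [map_sub, app_res, hs₀, hcU, sub_self]
  obtain ⟨a, ha, hxa⟩ := hlocal ⟨U, hU⟩ x hxU (fun h => h.2 rfl) _ he hm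
  have hs : sval (homOfSection M s₀) U = (1 + a) • e := by
    rw [sval_homOfSection, add_smul, one_smul, ← ha]
    abel
  have hxs : x ∈ X.basicOpen (1 + a) := by
    rw [Scheme.mem_basicOpen _ _ _ hxU]
    have hna : ¬ IsUnit ((X.presheaf.germ U x hxU).hom a) := fun hu =>
      hxa ((Scheme.mem_basicOpen _ _ _ hxU).mpr hu)
    have h1 : (X.presheaf.germ U x hxU).hom (1 + a) + (-(X.presheaf.germ U x hxU).hom a) = 1 := by
      rw [map_add, map_one]; ring
    rcases IsLocalRing.isUnit_or_isUnit_of_add_one h1 with h | h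
    · exact h
    · exact absurd (by simpa using h) hna
  have heq : CohB1.genLocus M (homOfSection M s₀) = X.basicOpen (1 + a) := by
    ext y
    constructor
    · intro hy
      exact (mem_genLocus_iff_of_isTriv _ he _ hs y (hle hy)).mp hy
    · intro hy
      exact (mem_genLocus_iff_of_isTriv _ he _ hs y (X.basicOpen_le _ hy)).mpr hy
  refine ⟨?_, hle, ?_⟩
  · rw [heq]; exact hxs
  · rw [heq]; exact hU.basicOpen _

end SH2
end Groth.Agent.Lib.Helper29.QCoh
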