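import Groth.Agent.Lib.Helper29.SH1
import Groth.Agent.Lib.Helper29.SH2
universe u
open CategoryTheory CategoryTheory.Limits AlgebraicGeometry Opposite TopologicalSpace

/-! # Serre-type criteria: sections from vanishing of `H¹` of twisted ideals -/

namespace Groth.Agent.Lib.Helper29.QCoh

section SH3
variable {X : Scheme.{u}} (M : X.Modules)

/-- The reduced ideal of `(U ∖ {x})ᶜ = Uᶜ ∪ {x}`. -/
noncomputable def pointIdeal (x : X) (hx : IsClosed ({x} : Set X)) (U : X.Opens) :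
    X.IdealSheafData :=
  Scheme.IdealSheafData.vanishingIdeal
    ⟨((U ⊓ ⟨{x}ᶜ, hx.isOpen_compl⟩ : X.Opens) : Set X)ᶜ,
      (U ⊓ ⟨{x}ᶜ, hx.isOpen_compl⟩ : X.Opens).2.isClosed_compl⟩

theorem exists_section_genLocus_pointIdeal (hM : PicF.IsInvertible M) (x : X)
    (hx : IsClosed ({x} : Set X)) (U : X.Opens) (hU : IsAffineOpen U) (hxU : x ∈ U)
    {e : Γ(M, U)} (he : IsTriv M U e)
    {C : X.Modules} (π : M ⟶ C) (w : mulHom (ClSub.idealModι (pointIdeal x hx U)) M ≫ π = 0)
    (hex : (ShortComplex.mk (mulHom (ClSub.idealModι (pointIdeal x hx U)) M) π w).Exact)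
    (hsurj : Function.Surjective (π.app ⊤)) :
    ∃ s : unitM X ⟶ M, x ∈ CohB1.genLocus M s ∧ CohB1.genLocus M s ≤ U ∧
      IsAffineOpen (CohB1.genLocus M s) := by
  refine exists_section_genLocus_of_surjective (ClSub.idealModι (pointIdeal x hx U)) M hM x hx U hU
    hxU he ?_ ?_ π w hex hsurj
  · exact vanishesOff_of_mem_vanishingIdeal _ _ (fun W t => idealModι_app_mem _ W t)
  · intro W hWU hxW
    refine exists_idealModι_app_eq _ W 1 ?_
    have : (pointIdeal x hx U).ideal W = ⊤ :=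
      vanishingIdeal_compl_ideal_eq_top _ W (fun y hy => ⟨hWU hy, fun h => hxW (by
        rw [← Set.mem_singleton_iff.mp h]; exact hy)⟩)
    rw [this]; trivial

/-- From `H¹(X, I ⊗ M) = 0` for the ideal `I` of `Uᶜ ∪ {x}`: a section `s` of `M` with
`x ∈ X_s ⊆ U`. -/
theorem exists_section_genLocus_of_subsingleton_HH (hM : PicF.IsInvertible M) (x : X)
    (hx : IsClosed ({x} : Set X)) (U : X.Opens) (hU : IsAffineOpen U) (hxU : x ∈ U)
    {e : Γ(M, U)} (he : IsTriv M U e)
    (h : Subsingleton (Coh.HH X (CohB1.tensorMod (ClSub.idealMod (pointIdeal x hx U)) M) 1)) :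
    ∃ s : unitM X ⟶ M, x ∈ CohB1.genLocus M s ∧ CohB1.genLocus M s ≤ U ∧
      IsAffineOpen (CohB1.genLocus M s) := by
  have hSE := shortExact_mulHom (ClSub.idealModι (pointIdeal x hx U)) M hM
  refine exists_section_genLocus_pointIdeal M hM x hx U hU hxU he _ (cokernel.condition _)
    hSE.exact ?_
  exact app_top_surjective_of_subsingleton_HH_one _ hSE

/-- In a quasi-compact scheme, a family of opens containing a neighbourhood of each closed
point covers. -/
theorem forall_exists_mem_of_forall_closed_point [CompactSpace X] (𝒲 : Set X.Opens)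
    (h : ∀ x : X, IsClosed ({x} : Set X) → ∃ W ∈ 𝒲, x ∈ W) (y : X) : ∃ W ∈ 𝒲, y ∈ W := by
  by_contra hcon
  push Not at hcon
  have hT : IsClosed ((sSup 𝒲 : X.Opens) : Set X)ᶜ := (sSup 𝒲 : X.Opens).2.isClosed_compl
  have hne : (((sSup 𝒲 : X.Opens) : Set X)ᶜ).Nonempty := by
    refine ⟨y, fun hy => ?_⟩
    obtain ⟨W, hW, hyW⟩ := Opens.mem_sSup.mp hy
    exact hcon W hW hyW
  obtain ⟨x, hxT, hx⟩ := hT.exists_closed_singleton hne
  obtain ⟨W, hW, hxW⟩ := h x hx
  exact hxT (Opens.mem_sSup.mpr ⟨W, hW, hxW⟩)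

/-- **Cohomological criterion for ampleness** (EGA III 2.6.1-type): on a quasi-compact scheme, if
for each quasi-coherent ideal `I` some `H¹(X, I ⊗ L^{n+1})` vanishes, then `L` is ample. -/
theorem isAmple_of_forall_exists_subsingleton_HH [CompactSpace X] (L : X.Modules)
    (hL : PicF.IsInvertible L)
    (h : ∀ (I : X.Modules) (i : I ⟶ Coh.structureModule X), Mono i → Coh.IsQCoh I →
      ∃ n : ℕ, Subsingleton (Coh.HH X (CohB1.tensorMod I (CohB1.tensorPow L (n + 1))) 1)) :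
    CohB1.IsAmple L := by
  have : L.IsQuasicoherent := isQuasicoherent_of_isInvertible hL
  refine ⟨hL, inferInstance, fun y => ?_⟩
  let 𝒲 : Set X.Opens := {W | ∃ (n : ℕ) (s : Coh.structureModule X ⟶ CohB1.tensorPow L (n + 1)),
    W = CohB1.genLocus _ s ∧ IsAffineOpen (CohB1.genLocus _ s)}
  obtain ⟨W, ⟨n, s, rfl, hs⟩, hy⟩ := forall_exists_mem_of_forall_closed_point 𝒲 (fun x hx => by
    obtain ⟨U, e, hU, hxU, -, he⟩ := exists_affine_isTriv hL (W := ⊤) x trivial
    obtain ⟨n, hn⟩ := h (ClSub.idealMod (pointIdeal x hx U)) (ClSub.idealModι _) inferInstance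
      (inferInstanceAs (ClSub.idealMod (pointIdeal x hx U)).IsQuasicoherent)
    obtain ⟨s, hxs, -, hs⟩ := exists_section_genLocus_of_subsingleton_HH
      (CohB1.tensorPow L (n + 1)) (isInvertible_tensorPow hL _) x hx U hU hxU (he.epow (n + 1)) hn
    exact ⟨_, ⟨n, s, rfl, hs⟩, hxs⟩) y
  exact ⟨n, s, hy, hs⟩

end SH3
end Groth.Agent.Lib.Helper29.QCoh
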