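import Groth.Agent.Lib.Helper29.ProjF3
import Groth.Agent.Lib.Helper29.TensorIso
universe u
open CategoryTheory CategoryTheory.Limits AlgebraicGeometry TopologicalSpace Opposite
open scoped TensorProduct

/-! # Descent of the resolution property along finite locally free surjective morphisms -/

namespace Groth.Agent.Lib.Helper29.QCoh.ProjF
open Groth.Agent.Lib.Helper29.QCoh Groth.Agent.Lib.Helper3 Groth.Agent.Lib.Helper29.QCoh.Res
  Groth.Agent.Lib.Helper29.QCoh.Dual Groth.Agent.Lib.Helper29.QCoh.HomSec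

variable {X Y : Scheme.{u}}

theorem epi_tensorMapLeft (W : X.Modules) {A B : X.Modules} (φ : A ⟶ B) [Epi φ] :
    Epi (tensorMapLeft W φ) := by
  have h1 : JointlyEpi (fun _ : Unit => φ) := fun Z h1 h2 hh => (cancel_epi φ).mp (hh ())
  have h2 := JointlyEpi.tensorMapLeft W h1
  exact ⟨fun g1 g2 hg => h2 g1 g2 fun _ => hg⟩

theorem isFinLocFree_unitM (X : Scheme.{u}) : FlatMod.IsFinLocFree (unitM X) :=
  isFinLocFree_of_iso (freeModOneIso X) (isFinLocFree_freeMod X 1)

/-- For a finite locally free surjective morphism, near every point of the base some linear form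
on `f_* O_X` takes a value invertible at the point. -/
theorem exists_linear_unit_at (f : X ⟶ Y) [IsFinite f] [Flat f] [LocallyOfFinitePresentation f]
    [Surjective f] {V : Y.Opens} (hV : IsAffineOpen V) (y : Y) (hy : y ∈ V) :
    ∃ (l : Γ(pushUnit f, V) →ₗ[Γ(Y, V)] Γ(unitM Y, V)) (b : Γ(pushUnit f, V)),
      y ∈ Y.basicOpen (fromUnit (l b)) := by
  classical
  have hU : IsAffineOpen (f ⁻¹ᵁ V) := hV.preimage f
  obtain ⟨hfin, hproj⟩ := finite_projective_pushforward_sections f (isFinLocFree_unitM X) hV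
  obtain ⟨n, π, hπ⟩ := Module.Finite.exists_fin' Γ(Y, V) Γ(pushUnit f, V)
  obtain ⟨σ, hσ⟩ := Module.projective_lifting_property π LinearMap.id hπ
  let b₀ : Γ(pushUnit f, V) := (show Γ(pushUnit f, V) from toUnit (1 : Γ(X, f ⁻¹ᵁ V)))
  have hb₀ : b₀ = ∑ i, (σ b₀) i • π (fun j => if i = j then 1 else 0) := by
    have h1 : π (σ b₀) = b₀ := congrArg (fun k => k b₀) hσ
    exact h1.symm.trans (LinearMap.pi_apply_eq_sum_univ π (σ b₀))
  by_contra hcon
  push Not at hcon
  obtain ⟨x, rfl⟩ := f.surjective y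
  have hxU : x ∈ f ⁻¹ᵁ V := hy
  let p := (hU.primeIdealOf ⟨x, hxU⟩).asIdeal
  have hmem : ∀ i, f.app V ((σ b₀) i) ∈ p := by
    intro i
    let li : Γ(pushUnit f, V) →ₗ[Γ(Y, V)] Γ(unitM Y, V) :=
      { toFun := fun b => toUnit ((σ b) i)
        map_add' := fun a b => by rw [map_add]; rfl
        map_smul' := fun a b => by rw [map_smul]; rfl }
    have h1 : f x ∉ Y.basicOpen ((σ b₀) i) := hcon li b₀
    by_contra h2
    rw [← mem_basicOpen_iff_notMem_primeIdealOf hU x hxU, ← Scheme.preimage_basicOpen] at h2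
    exact h1 h2
  have h1 : (1 : Γ(X, f ⁻¹ᵁ V)) ∈ p := by
    have e : (1 : Γ(X, f ⁻¹ᵁ V)) =
        ∑ i, f.app V ((σ b₀) i) * fromUnit (show Γ(unitM X, f ⁻¹ᵁ V) from
          π (fun j => if i = j then 1 else 0)) := by
      have := congrArg (fun z : Γ(pushUnit f, V) => fromUnit (show Γ(unitM X, f ⁻¹ᵁ V) from z)) hb₀
      refine this.trans ?_
      change fromUnit (show Γ(unitM X, f ⁻¹ᵁ V) from
        ∑ i, (σ b₀) i • π (fun j => if i = j then 1 else 0)) = _
      rfl
    rw [e]
    exact Ideal.sum_mem _ fun i _ => Ideal.mul_mem_right _ _ (hmem i)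
  exact (hU.primeIdealOf ⟨x, hxU⟩).isPrime.ne_top ((Ideal.eq_top_iff_one _).mpr h1)

/-- The evaluation `𝓗om(f_*O_X, O_Y) ⊗ f_*O_X ⟶ O_Y` is an epimorphism for `f` finite locally
free and surjective. -/
theorem epi_evHom_pushUnit (f : X ⟶ Y) [IsFinite f] [Flat f] [LocallyOfFinitePresentation f]
    [Surjective f] : Epi (evHom (pushUnit f) (unitM Y)) := by
  rw [epi_iff_stalkMap_surjective]
  intro y t
  obtain ⟨W, hyW, s, rfl⟩ := (unitM Y).presheaf.exists_germ_eq t
  obtain ⟨V, hV, hyV, -⟩ := Opens.isBasis_iff_nbhd.mp Y.isBasis_affineOpens (Opens.mem_top y)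
  obtain ⟨l, b, hyD⟩ := exists_linear_unit_at f hV y hyV
  have hBq : (pushUnit f).IsQuasicoherent := isQuasicoherent_pushforward_of_isAffineHom f _
  let θ : Γ(RefHull.homSh (pushUnit f) (unitM Y), V) :=
    (homSecEquiv (pushUnit f) (unitM Y) hV).symm l
  have hθ : ev θ b = l b := by
    have := LinearEquiv.apply_symm_apply (homSecEquiv (pushUnit f) (unitM Y) hV) l
    exact congrArg (fun k => k b) this
  let a : Γ(Y, V) := fromUnit (l b)
  let W' : Y.Opens := W ⊓ Y.basicOpen a
  have hW'V : W' ≤ V := inf_le_right.trans (Y.basicOpen_le a)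
  have hW'W : W' ≤ W := inf_le_left
  have hyW' : y ∈ W' := ⟨hyW, hyD⟩
  have hu : IsUnit (Y.presheaf.map (homOfLE hW'V).op a) :=
    Groth.Agent.Lib.Helper3.SubSh.isUnit_res_of_le_basicOpen a hW'V inf_le_right
  obtain ⟨u, hu'⟩ := hu
  refine ⟨(CohB1.tensorMod (RefHull.homSh (pushUnit f) (unitM Y)) (pushUnit f)).presheaf.germ W' y
    hyW' ((fromUnit (res (unitM Y) hW'W s) * (↑u⁻¹ : Γ(Y, W'))) •
      res _ hW'V (tmulSec _ _ θ b)), ?_⟩
  rw [stalkMap_germ, Scheme.Modules.Hom.app_smul, app_res, evHom_tmulSec, hθ,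
    ← germ_res (unitM Y) hW'W y hyW' s]
  congr 1
  change (fromUnit (res (unitM Y) hW'W s) * (↑u⁻¹ : Γ(Y, W'))) *
    (Y.presheaf.map (homOfLE hW'V).op a) = fromUnit (res (unitM Y) hW'W s)
  rw [← hu', mul_assoc, Units.inv_mul, mul_one]

/-- **The resolution property descends along finite locally free surjective morphisms.** -/
theorem hasResolutionProperty_of_finLocFree_surjective (f : X ⟶ Y) [IsFinite f] [Flat f]
    [LocallyOfFinitePresentation f] [Surjective f] (hX : PerfAux.HasResolutionProperty X) :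
    PerfAux.HasResolutionProperty Y := by
  intro F hF hF'
  have hFq : F.IsQuasicoherent := hF
  have hFt : F.IsFiniteType := hF'
  obtain ⟨E, π, hE, hπ⟩ := hX ((Scheme.Modules.pullback f).obj F) inferInstance inferInstance
  have hEq : E.IsQuasicoherent := isQuasicoherent_of_isFinLocFree hE
  let B : Y.Modules := pushUnit f
  have hB : FlatMod.IsFinLocFree B := isFinLocFree_pushforward f (isFinLocFree_unitM X)
  let T : Y.Modules := RefHull.homSh B (unitM Y)
  have hT : FlatMod.IsFinLocFree T := isFinLocFree_homSh hB (isFinLocFree_unitM Y)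
  have hQ : FlatMod.IsFinLocFree (CohB1.tensorMod T ((Scheme.Modules.pushforward f).obj E)) :=
    isFinLocFree_tensor hT (isFinLocFree_pushforward f hE)
  have hiso : IsIso (projHom f F) := isIso_projHom f F
  have h1 : Epi ((Scheme.Modules.pushforward f).map π) := epi_pushforward_of_isAffineHom f π
  have h2 : Epi ((Scheme.Modules.pushforward f).map π ≫ inv (projHom f F)) := epi_comp _ _
  have h3 : Epi (tensorMapLeft T ((Scheme.Modules.pushforward f).map π ≫ inv (projHom f F))) :=
    epi_tensorMapLeft T _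
  have h4 : Epi (evHom B (unitM Y)) := epi_evHom_pushUnit f
  have h5 : Epi ((tensorBraid B T).hom ≫ evHom B (unitM Y)) := epi_comp _ _
  have h6 : Epi (tensorMapLeft F ((tensorBraid B T).hom ≫ evHom B (unitM Y))) :=
    epi_tensorMapLeft F _
  refine ⟨CohB1.tensorMod T ((Scheme.Modules.pushforward f).obj E),
    tensorMapLeft T ((Scheme.Modules.pushforward f).map π ≫ inv (projHom f F)) ≫
      (tensorBraid T (CohB1.tensorMod F B)).hom ≫ (tensorAssoc F B T).hom ≫
      tensorMapLeft F ((tensorBraid B T).hom ≫ evHom B (unitM Y)) ≫ (tensorUnitR F).hom,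
    hQ, ?_⟩
  have h7 : Epi (tensorMapLeft F ((tensorBraid B T).hom ≫ evHom B (unitM Y)) ≫
      (tensorUnitR F).hom) := epi_comp _ _
  have h8 : Epi ((tensorAssoc F B T).hom ≫
      tensorMapLeft F ((tensorBraid B T).hom ≫ evHom B (unitM Y)) ≫ (tensorUnitR F).hom) :=
    epi_comp _ _
  have h9 : Epi ((tensorBraid T (CohB1.tensorMod F B)).hom ≫ (tensorAssoc F B T).hom ≫
      tensorMapLeft F ((tensorBraid B T).hom ≫ evHom B (unitM Y)) ≫ (tensorUnitR F).hom) :=
    epi_comp _ _
  exact epi_comp _ _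

end Groth.Agent.Lib.Helper29.QCoh.ProjF
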