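import Groth.Agent.Lib.Helper29.QAff2
import Groth.Agent.Lib.Helper29.ProjF1
universe u
open CategoryTheory CategoryTheory.Limits AlgebraicGeometry TopologicalSpace Opposite

/-! # The norm of a finite locally free morphism of arbitrary (locally constant) degree -/

namespace Groth.Agent.Lib.Helper29.QCoh.QAff
open Groth.Agent.Lib.Helper29.QCoh

section
variable {X : Scheme.{u}}

theorem exists_affine_le_linearEquiv_of_isFinLocFree {M : X.Modules}
    (h : FlatMod.IsFinLocFree M) {W : X.Opens}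
    (x : X) (hxW : x ∈ W) : ∃ (V : X.Opens) (n : ℕ), IsAffineOpen V ∧ x ∈ V ∧ V ≤ W ∧
      Nonempty (Γ(M, V) ≃ₗ[Γ(X, V)] (Fin n →₀ Γ(X, V))) := by
  rw [isFinLocFree_iff_isFreeAlong] at h
  obtain ⟨U, n, hx, hfree⟩ := h x
  obtain ⟨V, hV, hxV, hVU⟩ := exists_isAffineOpen_mem_and_subset (x := x) (U := U ⊓ W) ⟨hx, hxW⟩
  refine ⟨V, n, hV, hxV, fun y hy => (hVU hy).2,
    nonempty_linearEquiv_of_isFreeAlong_fromSpec M hV n (hfree.of_range_subset _ ?_)⟩
  rw [hV.range_fromSpec, Scheme.Opens.range_ι]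
  exact fun y hy => (hVU hy).1

end

section Norm
variable {X : Scheme.{u}} (A : RelSpec.QCAlg X)

/-- Affine opens over which `A` is free of some finite rank. -/
def IsGoodE (V : X.Opens) : Prop := ∃ d : ℕ, IsGoodD A d V

theorem normAt_compat' {d d' : ℕ} {V V' W : X.Opens} (hV : IsGoodD A d V) (hV' : IsGoodD A d' V')
    (hVW : V ≤ W) (hV'W : V' ≤ W) (a : A.presheaf.obj (op W)) :
    resO (inf_le_left : V ⊓ V' ≤ V) (normAt A V (resA A hVW a)) =
      resO (inf_le_right : V ⊓ V' ≤ V') (normAt A V' (resA A hV'W a)) := by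
  choose f g hfg hxf using fun x : (V ⊓ V' : X.Opens) =>
    exists_basicOpen_le_affine_inter hV.1 hV'.1 x.1 x.2
  have hD : ∀ x, X.basicOpen (f x) ≤ V ⊓ V' := fun x =>
    le_inf (X.basicOpen_le (f x)) ((hfg x).le.trans (X.basicOpen_le (g x)))
  refine eq_of_res_cover_eq (unitM X) (fun x => X.basicOpen (f x)) hD ?_
    (toUnit (resO (inf_le_left : V ⊓ V' ≤ V) (normAt A V (resA A hVW a))))
    (toUnit (resO (inf_le_right : V ⊓ V' ≤ V') (normAt A V' (resA A hV'W a)))) ?_
  · intro x hx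
    exact Opens.mem_iSup.mpr ⟨⟨x, hx⟩, hxf ⟨x, hx⟩⟩
  · intro x
    have h1 := (isGoodD_basicOpen A d hV (f x) rfl).2 (resA A hVW a)
    have h2 := (isGoodD_basicOpen A d' hV' (g x) (hfg x)).2 (resA A hV'W a)
    rw [resA_resA] at h1 h2
    have e1 := res_res (unitM X) (inf_le_left : V ⊓ V' ≤ V) (hD x)
      (toUnit (normAt A V (resA A hVW a)))
    have e2 := res_res (unitM X) (inf_le_right : V ⊓ V' ≤ V') (hD x)
      (toUnit (normAt A V' (resA A hV'W a)))
    exact e1.trans ((congrArg toUnit (h1.symm.trans h2)).trans e2.symm)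

end Norm

section Norm2
variable {X : Scheme.{u}} (A : RelSpec.QCAlg X)
  (hcov : ∀ (W : X.Opens) (x : X), x ∈ W → ∃ V, IsGoodE A V ∧ x ∈ V ∧ V ≤ W)
include hcov

theorem eq_of_resO_isGoodE_eq {W : X.Opens} (s t : Γ(X, W))
    (h : ∀ (V : X.Opens) (_ : IsGoodE A V) (hVW : V ≤ W), resO hVW s = resO hVW t) : s = t := by
  refine eq_of_res_cover_eq (unitM X) (fun V : {V : X.Opens // IsGoodE A V ∧ V ≤ W} => V.1)
    (fun V => V.2.2) ?_ (toUnit s) (toUnit t) (fun V => congrArg toUnit (h V.1 V.2.1 V.2.2))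
  intro x hx
  obtain ⟨V, hV, hxV, hVW⟩ := hcov W x hx
  exact Opens.mem_iSup.mpr ⟨⟨V, hV, hVW⟩, hxV⟩

theorem exists_norm_section' (W : X.Opens) (a : A.presheaf.obj (op W)) :
    ∃ s : Γ(X, W), ∀ (V : X.Opens) (_ : IsGoodE A V) (hVW : V ≤ W),
      resO hVW s = normAt A V (resA A hVW a) := by
  obtain ⟨s, hs⟩ := exists_gluing (unitM X)
    (fun V : {V : X.Opens // IsGoodE A V ∧ V ≤ W} => V.1) W (fun V => V.2.2) (by
      intro x hx
      obtain ⟨V, hV, hxV, hVW⟩ := hcov W x hx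
      exact Opens.mem_iSup.mpr ⟨⟨V, hV, hVW⟩, hxV⟩)
    (fun V => toUnit (normAt A V.1 (resA A V.2.2 a)))
    (fun V V' => congrArg toUnit
      (normAt_compat' A V.2.1.choose_spec V'.2.1.choose_spec V.2.2 V'.2.2 a))
  exact ⟨fromUnit s, fun V hV hVW => congrArg fromUnit (hs ⟨V, hV, hVW⟩)⟩

/-- The glued norm on sections. -/
noncomputable def nrmSectE (W : X.Opens) (a : A.presheaf.obj (op W)) : Γ(X, W) :=
  (exists_norm_section' A hcov W a).choose

theorem res_nrmSectE {W V : X.Opens} (a : A.presheaf.obj (op W)) (hV : IsGoodE A V)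
    (hVW : V ≤ W) : resO hVW (nrmSectE A hcov W a) = normAt A V (resA A hVW a) :=
  (exists_norm_section' A hcov W a).choose_spec V hV hVW

theorem nrmSectE_one (W : X.Opens) : nrmSectE A hcov W 1 = 1 := by
  refine eq_of_resO_isGoodE_eq A hcov _ _ fun V hV hVW => ?_
  rw [res_nrmSectE A hcov _ hV, map_one, map_one]
  let _ := algSect A V
  exact map_one (Algebra.norm Γ(X, V))

theorem nrmSectE_mul (W : X.Opens) (a b : A.presheaf.obj (op W)) :
    nrmSectE A hcov W (a * b) = nrmSectE A hcov W a * nrmSectE A hcov W b := by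
  refine eq_of_resO_isGoodE_eq A hcov _ _ fun V hV hVW => ?_
  rw [map_mul, res_nrmSectE A hcov _ hV, res_nrmSectE A hcov _ hV, res_nrmSectE A hcov _ hV,
    map_mul]
  let _ := algSect A V
  exact map_mul (Algebra.norm Γ(X, V)) _ _

theorem nrmSectE_res {W W' : X.Opens} (h : W' ≤ W) (a : A.presheaf.obj (op W)) :
    nrmSectE A hcov W' (resA A h a) = resO h (nrmSectE A hcov W a) := by
  refine eq_of_resO_isGoodE_eq A hcov _ _ fun V hV hVW => ?_
  rw [res_nrmSectE A hcov _ hV, resA_resA]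
  have : resO hVW (resO h (nrmSectE A hcov W a)) = resO (hVW.trans h) (nrmSectE A hcov W a) :=
    map_map_apply X h hVW _
  rw [this, res_nrmSectE A hcov _ hV]

end Norm2

section Mor
variable {X Y : Scheme.{u}} (π : X ⟶ Y)

open Groth.Agent.Lib.Helper26.FinLocFreeMor in
theorem directImage_hcovE [IsAffineHom π]
    (hM : FlatMod.IsFinLocFree ((Scheme.Modules.pushforward π).obj (unitM X))) :
    ∀ (W : Y.Opens) (y : Y), y ∈ W →
      ∃ V, IsGoodE (RelSpec.QCAlg.directImage π) V ∧ y ∈ V ∧ V ≤ W := by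
  intro W y hy
  obtain ⟨V, d, hV, hyV, hVW, ⟨e⟩⟩ := exists_affine_le_linearEquiv_of_isFinLocFree hM y hy
  refine ⟨V, ⟨d, hV, ?_⟩, hyV, hVW⟩
  let alg : Algebra Γ(Y, V) Γ(X, π ⁻¹ᵁ V) := (π.app V).hom.toAlgebra
  have b : Module.Basis (Fin d) Γ(Y, V) Γ(X, π ⁻¹ᵁ V) :=
    Module.Basis.ofRepr ((sectionsEquiv π V).symm ≪≫ₗ e)
  exact ⟨b⟩

/-- **Every finite locally free morphism carries a weak norm.** -/
theorem nonempty_weakNorm_of_isFinLocFree (π : X ⟶ Y) [IsFinite π] [Flat π]
    [LocallyOfFinitePresentation π] : Nonempty (WeakNorm π) := by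
  have hM : FlatMod.IsFinLocFree ((Scheme.Modules.pushforward π).obj (unitM X)) :=
    ProjF.isFinLocFree_pushforward π (isFinLocFree_of_iso (freeModOneIso X) (isFinLocFree_freeMod X 1))
  have hcov := directImage_hcovE π hM
  refine ⟨{ norm := fun U =>
              { toFun := fun s => nrmSectE (RelSpec.QCAlg.directImage π) hcov U s
                map_one' := nrmSectE_one (RelSpec.QCAlg.directImage π) hcov U
                map_mul' := nrmSectE_mul (RelSpec.QCAlg.directImage π) hcov U }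
            norm_res := ?_
            norm_mem := ?_ }⟩
  · intro U V i s
    have hi : i = homOfLE (leOfHom i) := rfl
    rw [hi]
    exact (nrmSectE_res (RelSpec.QCAlg.directImage π) hcov (leOfHom i) s).symm
  · intro U s x hx hs
    obtain ⟨V, hV, hxV, hVU⟩ := hcov U (π.base x) hx
    change Y.presheaf.germ U (π.base x) hx
      (nrmSectE (RelSpec.QCAlg.directImage π) hcov U s) ∈ _
    have h1 : Y.presheaf.germ U (π.base x) hx
        (nrmSectE (RelSpec.QCAlg.directImage π) hcov U s) =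
        Y.presheaf.germ V (π.base x) hxV
          (resO hVU (nrmSectE (RelSpec.QCAlg.directImage π) hcov U s)) :=
      (TopCat.Presheaf.germ_res_apply Y.presheaf (homOfLE hVU) (π.base x) hxV _).symm
    rw [h1, res_nrmSectE (RelSpec.QCAlg.directImage π) hcov s hV hVU]
    obtain ⟨d, hVd⟩ := hV
    refine germ_norm_mem π hVd _ x hxV ?_
    have h2 : X.presheaf.germ (π ⁻¹ᵁ V) x hxV
        (resA (RelSpec.QCAlg.directImage π) hVU s) = X.presheaf.germ (π ⁻¹ᵁ U) x hx s :=
      TopCat.Presheaf.germ_res_apply X.presheaf (homOfLE (π.preimage_mono hVU)) x hxV s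
    rw [h2]
    exact hs

/-- Quasi-affineness descends along finite locally free surjective morphisms. -/
theorem isQuasiAffine_of_finLocFree (π : X ⟶ Y) [IsFinite π] [Flat π]
    [LocallyOfFinitePresentation π] [Surjective π] [X.IsQuasiAffine] : Y.IsQuasiAffine := by
  obtain ⟨N⟩ := nonempty_weakNorm_of_isFinLocFree π
  exact isQuasiAffine_of_weakNorm π π.surjective N

end Mor

end Groth.Agent.Lib.Helper29.QCoh.QAff
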