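import Groth.Agent.Lib.Helper29.RelAmple
import Groth.Agent.Lib.Helper29.TensorDesc
import Groth.Agent.Lib.Helper29.QCohQcqs
import Groth.Agent.Lib.Helper29.IsoCover
universe u
open CategoryTheory CategoryTheory.Limits AlgebraicGeometry Opposite TopologicalSpace
open scoped TensorProduct

namespace Groth.Agent.Lib.Helper29.QCoh

section TensorInv
variable {X : Scheme.{u}} (L N : X.Modules) (e : CohB1.tensorMod L N ≅ unitM X)

/-- The pairing `L × N → O_X` induced by `e`. -/
noncomputable def ipair {W : X.Opens} (l : Γ(L, W)) (n : Γ(N, W)) : Γ(X, W) :=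
  fromUnit (e.hom.app W (tmulSec L N l n))

theorem ipair_smul_left {W : X.Opens} (r : Γ(X, W)) (l : Γ(L, W)) (n : Γ(N, W)) :
    ipair L N e (r • l) n = r * ipair L N e l n := by
  unfold ipair
  rw [tmulSec_smul_left, app_smul', fromUnit_smul]

theorem ipair_smul_right {W : X.Opens} (r : Γ(X, W)) (l : Γ(L, W)) (n : Γ(N, W)) :
    ipair L N e l (r • n) = r * ipair L N e l n := by
  unfold ipair
  rw [tmulSec_smul_right, app_smul', fromUnit_smul]

theorem ipair_add_left {W : X.Opens} (l l' : Γ(L, W)) (n : Γ(N, W)) :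
    ipair L N e (l + l') n = ipair L N e l n + ipair L N e l' n := by
  unfold ipair
  rw [tmulSec_add_left, map_add, fromUnit_add]

theorem ipair_add_right {W : X.Opens} (l : Γ(L, W)) (n n' : Γ(N, W)) :
    ipair L N e l (n + n') = ipair L N e l n + ipair L N e l n' := by
  unfold ipair
  rw [tmulSec_add_right, map_add, fromUnit_add]

theorem ipair_res {W W' : X.Opens} (h : W' ≤ W) (l : Γ(L, W)) (n : Γ(N, W)) :
    ipair L N e (res L h l) (res N h n) =
      X.presheaf.map (homOfLE h).op (ipair L N e l n) := by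
  unfold ipair
  rw [← res_tmulSec, app_res]
  rfl


/-- The linear functional `m ⊗ n ↦ ⟨l₁, n⟩ • m` on the sectionwise tensor product. -/
noncomputable def contr {W : X.Opens} (l₁ : Γ(L, W)) :
    Γ(L, W) ⊗[Γ(X, W)] Γ(N, W) →ₗ[Γ(X, W)] Γ(L, W) :=
  TensorProduct.lift (LinearMap.mk₂ Γ(X, W) (fun m n => ipair L N e l₁ n • m)
    (fun m m' n => smul_add _ _ _)
    (fun c m n => smul_comm _ _ _)
    (fun m n n' => by rw [ipair_add_right, add_smul])
    (fun c m n => by rw [ipair_smul_right, mul_smul]))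

theorem contr_tmul {W : X.Opens} (l₁ : Γ(L, W)) (m : Γ(L, W)) (n : Γ(N, W)) :
    contr L N e l₁ (m ⊗ₜ n) = ipair L N e l₁ n • m := rfl

/-- Step A: if `⟨l₁, n₁⟩` is a unit then `k ⊗ n₁ = 0` forces `k = 0`. -/
theorem eq_zero_of_tmulSec_eq_zero {W : X.Opens} (l₁ k : Γ(L, W)) (n₁ : Γ(N, W))
    (hu : IsUnit (ipair L N e l₁ n₁)) (hk : tmulSec L N k n₁ = 0) : k = 0 := by
  refine eq_zero_of_germ_eq_zero L k fun y hy => ?_
  obtain ⟨W', hW', hyW', h0⟩ :=
    exists_pres_eq_zero_of_unitApp_eq_zero (tpre L N) (ptmul L N k n₁) hk y hy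
  rw [pres_ptmul] at h0
  have h1 : contr L N e (res L hW' l₁) ((res L hW' k) ⊗ₜ (res N hW' n₁)) = 0 := by
    have : ((res L hW' k) ⊗ₜ[Γ(X, W')] (res N hW' n₁) : Γ(L, W') ⊗[Γ(X, W')] Γ(N, W')) = 0 := h0
    rw [this, map_zero]
  rw [contr_tmul, ipair_res] at h1
  have hu' : IsUnit (X.presheaf.map (homOfLE hW').op (ipair L N e l₁ n₁)) :=
    hu.map (X.presheaf.map (homOfLE hW').op).hom
  have h2 : res L hW' k = 0 := by
    obtain ⟨u, hu⟩ := hu'
    rw [← hu] at h1
    have := congrArg (fun z => (↑u⁻¹ : Γ(X, W')) • z) h1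
    simpa [smul_smul] using this
  rw [← germ_res L hW' y hyW' k, h2, map_zero]


theorem ipair_sub_left {W : X.Opens} (l l' : Γ(L, W)) (n : Γ(N, W)) :
    ipair L N e (l - l') n = ipair L N e l n - ipair L N e l' n := by
  rw [eq_sub_iff_add_eq, ← ipair_add_left, sub_add_cancel]

/-- Step B: a pair of sections with unit pairing trivialises `L`. -/
theorem isTriv_of_isUnit_ipair {V : X.Opens} (l₁ : Γ(L, V)) (n₁ : Γ(N, V))
    (hu : IsUnit (ipair L N e l₁ n₁)) : IsTriv L V l₁ := by
  intro W hW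
  have huW : IsUnit (ipair L N e (res L hW l₁) (res N hW n₁)) := by
    rw [ipair_res]
    exact hu.map (X.presheaf.map (homOfLE hW).op).hom
  constructor
  · intro r r' hrr'
    have h := congrArg (fun m => ipair L N e m (res N hW n₁)) hrr'
    simp only [ipair_smul_left] at h
    exact huW.mul_left_injective h
  · intro m
    obtain ⟨u, hu'⟩ := huW
    refine ⟨ipair L N e m (res N hW n₁) * ↑u⁻¹, ?_⟩
    have hk : ipair L N e (m - (ipair L N e m (res N hW n₁) * ↑u⁻¹) • res L hW l₁)
        (res N hW n₁) = 0 := by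
      rw [ipair_sub_left, ipair_smul_left, ← hu', mul_assoc, Units.inv_mul, mul_one, sub_self]
    have hk2 : tmulSec L N (m - (ipair L N e m (res N hW n₁) * ↑u⁻¹) • res L hW l₁)
        (res N hW n₁) = 0 := by
      have hinj := ((isIso_iff_app_bijective e.hom).mp inferInstance W).1
      apply hinj
      rw [map_zero]
      exact hk
    have := eq_zero_of_tmulSec_eq_zero L N e (res L hW l₁) _ (res N hW n₁) ⟨u, hu'⟩ hk2
    exact (sub_eq_zero.mp this).symm


/-- Step C: locally there are sections with unit pairing. -/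
theorem exists_isUnit_ipair (x : X) :
    ∃ (V : X.Opens) (l : Γ(L, V)) (n : Γ(N, V)), x ∈ V ∧ IsUnit (ipair L N e l n) := by
  obtain ⟨V₀, hV₀, s, hxV₀, hs⟩ :=
    exists_unitApp_eq_res (tpre L N) (e.inv.app ⊤ (toUnit 1)) x trivial
  have hs' : unitApp (tpre L N) V₀ s =
      res (CohB1.tensorMod L N) hV₀ (e.inv.app ⊤ (toUnit 1)) := hs
  have h1 : fromUnit (e.hom.app V₀ (unitApp (tpre L N) V₀ s)) = 1 := by
    rw [hs', app_res]
    have : e.hom.app ⊤ (e.inv.app ⊤ (toUnit 1)) = toUnit 1 := by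
      rw [← app_comp, Iso.inv_hom_id]
      rfl
    rw [this, res_toUnit_one]
    rfl
  have key : ∀ w : (tpre L N).obj (op V₀),
      IsUnit (X.presheaf.germ V₀ x hxV₀
        (fromUnit (e.hom.app V₀ (unitApp (tpre L N) V₀ w)))) →
      ∃ (l : Γ(L, V₀)) (n : Γ(N, V₀)),
        IsUnit (X.presheaf.germ V₀ x hxV₀ (ipair L N e l n)) := by
    intro w
    refine tpre_induction L N (C := fun w => IsUnit (X.presheaf.germ V₀ x hxV₀
        (fromUnit (e.hom.app V₀ (unitApp (tpre L N) V₀ w)))) →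
      ∃ (l : Γ(L, V₀)) (n : Γ(N, V₀)),
        IsUnit (X.presheaf.germ V₀ x hxV₀ (ipair L N e l n))) w ?_ ?_ ?_
    · intro h
      have h0 : fromUnit (e.hom.app V₀ (unitApp (tpre L N) V₀ 0)) = 0 := by
        rw [map_zero]
        erw [map_zero]
        rfl
      rw [h0, map_zero] at h
      exact (not_isUnit_zero h).elim
    · intro l n h
      exact ⟨l, n, h⟩
    · intro a b ha hb h
      have hadd : fromUnit (e.hom.app V₀ (unitApp (tpre L N) V₀ (a + b))) =
          fromUnit (e.hom.app V₀ (unitApp (tpre L N) V₀ a)) +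
            fromUnit (e.hom.app V₀ (unitApp (tpre L N) V₀ b)) := by
        rw [map_add]
        erw [map_add]
        rfl
      rw [hadd, map_add] at h
      rcases IsLocalRing.isUnit_or_isUnit_of_isUnit_add h with h' | h'
      · exact ha h'
      · exact hb h'
  obtain ⟨l, n, hln⟩ := key s (by rw [h1, map_one]; exact isUnit_one)
  refine ⟨X.basicOpen (ipair L N e l n), res L (X.basicOpen_le _) l, res N (X.basicOpen_le _) n,
    ?_, ?_⟩
  · exact (X.mem_basicOpen (ipair L N e l n) x hxV₀).mpr hln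
  · rw [ipair_res]
    exact RingedSpace.isUnit_res_basicOpen _ (ipair L N e l n)

include e in
theorem isInvertible_of_tensor_iso : PicF.IsInvertible L := by
  refine isInvertible_of_isTriv' fun x => ?_
  obtain ⟨V, l, n, hxV, hu⟩ := exists_isUnit_ipair L N e x
  exact ⟨V, l, hxV, isTriv_of_isUnit_ipair L N e l n hu⟩

end TensorInv

end Groth.Agent.Lib.Helper29.QCoh
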