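import Groth.Agent.Lib.Helper29.VA4
universe u
open CategoryTheory CategoryTheory.Limits AlgebraicGeometry Opposite TopologicalSpace

/-! # Ample implies eventually very ample (relative to a morphism locally of finite type) -/

namespace Groth.Agent.Lib.Helper29.QCoh

section Helpers
variable {X S : Scheme.{u}}

theorem isRelVeryAmplePn_of_iso (f : X ⟶ S) {M M' : X.Modules} (e : M ≅ M')
    (h : RelAmple.IsRelVeryAmplePn f M) : RelAmple.IsRelVeryAmplePn f M' := by
  obtain ⟨n, i, hi, hf, ⟨θ⟩⟩ := h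
  exact ⟨n, i, hi, hf, ⟨e.symm ≪≫ θ⟩⟩

theorem exists_finite_sections_cover [CompactSpace X] {B : X.Modules} (hB : PicF.IsInvertible B)
    (hgg : Curv2.IsGloballyGenerated B) :
    ∃ (T : Finset X) (u : X → (unitM X ⟶ B)), ∀ x : X, ∃ y ∈ T, x ∈ CohB1.genLocus B (u y) := by
  choose u hu using fun x => exists_mem_genLocus_of_isGloballyGenerated hB hgg x
  obtain ⟨T, hT⟩ := isCompact_univ.elim_finite_subcover
    (fun x : X => ((CohB1.genLocus B (u x) : X.Opens) : Set X))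
    (fun x => (CohB1.genLocus B (u x)).isOpen)
    (fun x _ => Set.mem_iUnion.mpr ⟨x, hu x⟩)
  refine ⟨T, u, fun x => ?_⟩
  have := hT (Set.mem_univ x)
  simp only [Set.mem_iUnion] at this
  obtain ⟨y, hy, hxy⟩ := this
  exact ⟨y, hy, hxy⟩

/-- The comparison `(L' ⊗ L^e) ⊗ (L^m)^q ≅ L^(e + m q) ⊗ L'`. -/
noncomputable def twistPowIso (L L' : X.Modules) (e m q : ℕ) :
    CohB1.tensorMod (CohB1.tensorMod L' (CohB1.tensorPow L e))
      (CohB1.tensorPow (CohB1.tensorPow L m) q) ≅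
      CohB1.tensorMod (CohB1.tensorPow L (e + m * q)) L' :=
  tensorCongr (Iso.refl _) (tensorPowMul L m q) ≪≫ tensorAssoc _ _ _ ≪≫
    tensorCongr (Iso.refl L') (tensorPowAdd L e (m * q)) ≪≫ tensorBraid _ _

end Helpers

section EVA
variable {X S : Scheme.{u}}

/-- **Ample implies eventually very ample** (EGA II 4.5.10 / 4.6.11, Stacks 01VS): for `f`
locally of finite type, `L` ample on `X` and `L'` invertible, `L^n ⊗ L'` is the pullback of
`O(1)` along an `S`-immersion `X → P^N_S` for all `n ≫ 0`. -/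
theorem exists_isRelVeryAmplePn_of_isAmple (f : X ⟶ S) [LocallyOfFiniteType f]
    {L L' : X.Modules} (hA : CohB1.IsAmple L) (hL' : PicF.IsInvertible L') :
    ∃ n₀ : ℕ, ∀ n, n₀ ≤ n →
      RelAmple.IsRelVeryAmplePn f (CohB1.tensorMod (CohB1.tensorPow L n) L') := by
  classical
  have hL := hA.1
  have hc : CompactSpace X := hA.2.1
  have hsep : X.IsSeparated := isSeparated_of_isAmple hA
  have hqL := isQuasicoherent_of_isInvertible hL
  have hqL' := isQuasicoherent_of_isInvertible hL'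
  have hfL' := isFiniteType_of_isInvertible hL'
  -- (1) local data
  have h1 : ∀ x : X, ∃ (V : S.Opens) (U : X.Opens) (eL : Γ(L, U)) (eL' : Γ(L', U)) (k : ℕ)
      (s : unitM X ⟶ CohB1.tensorPow L (k + 1)),
      IsAffineOpen V ∧ U ≤ f ⁻¹ᵁ V ∧ IsTriv L U eL ∧ IsTriv L' U eL' ∧
        x ∈ CohB1.genLocus _ s ∧ CohB1.genLocus _ s ≤ U ∧ IsAffineOpen (CohB1.genLocus _ s) := by
    intro x
    obtain ⟨V, hV, hxV, -⟩ := exists_isAffineOpen_mem_and_subset (x := f x) (U := ⊤) trivial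
    obtain ⟨U, eL, eL', -, hxU, hUV, he, he'⟩ :=
      exists_affine_isTriv₂ hL hL' (W := f ⁻¹ᵁ V) x hxV
    obtain ⟨k, s, hxs, hsU, haff⟩ := exists_affine_genLocus_nhd hA hxU
    exact ⟨V, U, eL, eL', k, s, hV, hUV, he, he', hxs, hsU, haff⟩
  choose V U eL eL' k s hV hUV he he' hxs hsU haff using h1
  -- (2) finite subcover
  obtain ⟨T, hT⟩ := isCompact_univ.elim_finite_subcover
    (fun x : X => ((CohB1.genLocus _ (s x) : X.Opens) : Set X))
    (fun x => (CohB1.genLocus _ (s x)).isOpen)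
    (fun x _ => Set.mem_iUnion.mpr ⟨x, hxs x⟩)
  -- (3) common exponent
  obtain ⟨m, hm⟩ : ∃ m : ℕ, m = ∏ y ∈ T, (k y + 1) := ⟨_, rfl⟩
  have hmpos : 0 < m := by rw [hm]; exact Finset.prod_pos fun y _ => Nat.succ_pos _
  have hs' : ∀ x ∈ T, ∃ σ : unitM X ⟶ CohB1.tensorPow L m,
      CohB1.genLocus _ σ = CohB1.genLocus _ (s x) := by
    intro x hx
    refine exists_pow_section hL (s x) (∏ y ∈ T.erase x, (k y + 1)) m
      (Finset.prod_pos fun y _ => Nat.succ_pos _) ?_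
    rw [hm]
    exact Finset.mul_prod_erase T (fun y => k y + 1) hx
  choose! σ hσ using hs'
  have hΛ := isInvertible_tensorPow hL m
  -- the charts, indexed by `↥T`
  have hWeq : ∀ y : ↥T, CohB1.genLocus (CohB1.tensorPow L m) (σ y.1) = CohB1.genLocus _ (s y.1) :=
    fun y => hσ y.1 y.2
  have hWaff : ∀ y : ↥T, IsAffineOpen (CohB1.genLocus (CohB1.tensorPow L m) (σ y.1)) := fun y => by
    rw [hWeq y]; exact haff y.1
  have hWU : ∀ y : ↥T, CohB1.genLocus (CohB1.tensorPow L m) (σ y.1) ≤ U y.1 := fun y => by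
    rw [hWeq y]; exact hsU y.1
  have hWle : ∀ y : ↥T, CohB1.genLocus (CohB1.tensorPow L m) (σ y.1) ≤ f ⁻¹ᵁ V y.1 :=
    fun y => (hWU y).trans (hUV y.1)
  have hWcov : ∀ x : X, ∃ y : ↥T, x ∈ CohB1.genLocus (CohB1.tensorPow L m) (σ y.1) := by
    intro x
    have := hT (Set.mem_univ x)
    simp only [Set.mem_iUnion, exists_prop] at this
    obtain ⟨y, hyT, hxy⟩ := this
    exact ⟨⟨y, hyT⟩, by rw [hWeq]; exact hxy⟩
  -- (4) finite generation of the chart rings
  choose β hβ using fun y : ↥T => exists_finite_generators f (hV y.1) (hWaff y) (hWle y)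
  -- (5) global generation of `L' ⊗ L^e`
  obtain ⟨e₀, he₀⟩ := exists_isGloballyGenerated_twist hA L'
  have hB : ∀ e, PicF.IsInvertible (CohB1.tensorMod L' (CohB1.tensorPow L e)) :=
    fun e => isInvertible_tensorMod hL' (isInvertible_tensorPow hL e)
  have h5 : ∀ e, e₀ ≤ e → ∃ (Te : Finset X)
      (u : X → (unitM X ⟶ CohB1.tensorMod L' (CohB1.tensorPow L e))),
      ∀ x : X, ∃ y ∈ Te, x ∈ CohB1.genLocus _ (u y) :=
    fun e he => exists_finite_sections_cover (hB e) (he₀ e he)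
  choose! Te u hu using h5
  have hεB : ∀ (e : ℕ) (y : ↥T), IsTriv (CohB1.tensorMod L' (CohB1.tensorPow L e))
      (CohB1.genLocus (CohB1.tensorPow L m) (σ y.1))
      (QCoh.res _ (hWU y) (tmulSec L' (CohB1.tensorPow L e) (eL' y.1) (QCoh.epow L (eL y.1) e))) :=
    fun e y => (((he' y.1).tensor ((he y.1).epow e))).restrict (hWU y)
  -- (6) extension bounds
  have hqB : ∀ e, (CohB1.tensorMod L' (CohB1.tensorPow L e)).IsQuasicoherent :=
    fun e => isQuasicoherent_of_isInvertible (hB e)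
  have h6 : ∀ (r : ℕ) (y : ↥T) (b : Γ(X, CohB1.genLocus (CohB1.tensorPow L m) (σ y.1))) (i : X),
      ∃ N₀ : ℕ, ∀ N, N₀ ≤ N →
      ∃ t' : Γ(CohB1.tensorMod (CohB1.tensorMod L' (CohB1.tensorPow L (e₀ + r)))
          (CohB1.tensorPow (CohB1.tensorPow L m) N), ⊤),
        QCoh.res _ (le_top : CohB1.genLocus (CohB1.tensorPow L m) (σ y.1) ≤ ⊤) t' =
          tmulSec (CohB1.tensorMod L' (CohB1.tensorPow L (e₀ + r)))
            (CohB1.tensorPow (CohB1.tensorPow L m) N)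
            (b • sval (u (e₀ + r) i) (CohB1.genLocus (CohB1.tensorPow L m) (σ y.1)))
            (QCoh.epow (CohB1.tensorPow L m)
              (sval (σ y.1) (CohB1.genLocus (CohB1.tensorPow L m) (σ y.1))) N) := by
    intro r y b i
    have := hqB (e₀ + r)
    exact exists_extension_tmulSec_pow_of_le hΛ (σ y.1) _ _
  choose N₀ hN₀ using h6
  obtain ⟨Nstar, hNstar⟩ : ∃ Nstar : ℕ, ∀ r < m, ∀ (y : ↥T), ∀ b ∈ β y, ∀ i ∈ Te (e₀ + r),
      N₀ r y b i ≤ Nstar := by
    refine ⟨(Finset.range m).sup fun r => (Finset.univ : Finset ↥T).sup fun y =>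
      (β y).sup fun b => (Te (e₀ + r)).sup fun i => N₀ r y b i, fun r hr y b hb i hi => ?_⟩
    refine le_trans ?_ (Finset.le_sup (f := fun r => (Finset.univ : Finset ↥T).sup fun y =>
      (β y).sup fun b => (Te (e₀ + r)).sup fun i => N₀ r y b i) (Finset.mem_range.mpr hr))
    refine le_trans ?_ (Finset.le_sup (f := fun y => (β y).sup fun b =>
      (Te (e₀ + r)).sup fun i => N₀ r y b i) (Finset.mem_univ y))
    refine le_trans ?_ (Finset.le_sup (f := fun b => (Te (e₀ + r)).sup fun i => N₀ r y b i) hb)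
    exact Finset.le_sup (f := fun i => N₀ r y b i) hi
  -- (7) assembly
  refine ⟨e₀ + m * (Nstar + 1), fun n hn => ?_⟩
  obtain ⟨d, rfl⟩ : ∃ d, n = e₀ + d := ⟨n - e₀, by omega⟩
  have hd : m * (Nstar + 1) ≤ d := by omega
  have hq : Nstar + 1 ≤ d / m := (Nat.le_div_iff_mul_le hmpos).mpr (by rw [Nat.mul_comm]; exact hd)
  have hr : d % m < m := Nat.mod_lt _ hmpos
  obtain ⟨N, hN⟩ : ∃ N, d / m = N + 1 := ⟨d / m - 1, by omega⟩
  have hNs : Nstar ≤ N + 1 := by omega
  have hcore := isRelVeryAmplePn_tensor_pow_core f hΛ (hB (e₀ + d % m)) N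
    (J := ↥T) (I := ↥(Te (e₀ + d % m)))
    (fun y => σ y.1) (fun y => V y.1) (fun y => hV y.1) hWaff hWle hWcov
    (fun y => QCoh.res _ (hWU y) (tmulSec L' _ (eL' y.1) (QCoh.epow L (eL y.1) (e₀ + d % m))))
    (fun y => hεB (e₀ + d % m) y)
    (fun i => u (e₀ + d % m) i.1)
    (fun x => by
      obtain ⟨y, hy, hxy⟩ := hu (e₀ + d % m) (Nat.le_add_right _ _) x
      exact ⟨⟨y, hy⟩, hxy⟩)
    β hβ
    (fun y b hb i => hN₀ (d % m) y b i.1 (N + 1)
      ((hNstar (d % m) hr y b hb i.1 i.2).trans hNs))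
  have hiso := isRelVeryAmplePn_of_iso f (twistPowIso L L' (e₀ + d % m) m (N + 1)) hcore
  have hn' : e₀ + d % m + m * (N + 1) = e₀ + d := by
    rw [← hN, Nat.add_assoc, Nat.mod_add_div]
  rw [hn'] at hiso
  exact hiso

end EVA

end Groth.Agent.Lib.Helper29.QCoh
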