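import Groth.Agent.Lib.Helper29.CE1
import Groth.Agent.Lib.Helper29.QCohIdealMod
import Groth.Agent.S10848
universe u
open CategoryTheory CategoryTheory.Limits AlgebraicGeometry Opposite TopologicalSpace

/-! # A finite type quasi-coherent ideal cutting out (a superset of) the complement of a
quasi-compact open (EGA I 9.4.7 applied to the radical ideal of the complement) -/

namespace Groth.Agent.Lib.Helper29.QCoh

section CE2
variable {X : Scheme.{u}}

/-- The vanishing ideal of the complement of `U` is the unit ideal on affine opens inside `U`. -/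
theorem vanishingIdeal_compl_ideal_eq_top (U : X.Opens) (W : X.affineOpens) (hW : W.1 ≤ U) :
    (Scheme.IdealSheafData.vanishingIdeal ⟨(U : Set X)ᶜ, U.2.isClosed_compl⟩).ideal W = ⊤ := by
  rw [Scheme.IdealSheafData.vanishingIdeal_ideal]
  have : W.2.fromSpec ⁻¹' ((⟨(U : Set X)ᶜ, U.2.isClosed_compl⟩ : Closeds X) : Set X) = ∅ := by
    ext p
    simp only [Set.mem_preimage, Set.mem_empty_iff_false, iff_false]
    intro hp
    have h1 : W.2.fromSpec p ∈ W.1 := by
      have := W.2.range_fromSpec ▸ Set.mem_range_self (f := W.2.fromSpec) p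
      exact this
    exact hp (hW h1)
  exact (congrArg PrimeSpectrum.vanishingIdeal this).trans PrimeSpectrum.vanishingIdeal_empty

/-- A section of the vanishing ideal of a closed set vanishes at the points of that set. -/
theorem notMem_basicOpen_of_mem_vanishingIdeal (Z : Closeds X) (W : X.affineOpens)
    {a : Γ(X, W.1)} (ha : a ∈ (Scheme.IdealSheafData.vanishingIdeal Z).ideal W) {y : X}
    (hyW : y ∈ W.1) (hyZ : y ∈ Z) : y ∉ X.basicOpen a := by
  have h1 : y ∈ (Scheme.IdealSheafData.vanishingIdeal Z).support := by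
    change y ∈ ((Scheme.IdealSheafData.vanishingIdeal Z).support : Set X)
    rw [Scheme.IdealSheafData.coe_support_vanishingIdeal]
    exact hyZ
  rw [Scheme.IdealSheafData.mem_support_iff_of_mem (U := W) hyW] at h1
  exact (Scheme.mem_zeroLocus_iff _ _ y).mp h1 a ha


/-- The ideal module of the vanishing ideal of `Uᶜ` restricts to the structure sheaf on `U`. -/
theorem isIso_restrict_idealModι_vanishingIdeal_compl (U : X.Opens) :
    IsIso ((Scheme.Modules.restrictFunctor U.ι).map (ClSub.idealModι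
      (Scheme.IdealSheafData.vanishingIdeal ⟨(U : Set X)ᶜ, U.2.isClosed_compl⟩))) := by
  set I := Scheme.IdealSheafData.vanishingIdeal ⟨(U : Set X)ᶜ, U.2.isClosed_compl⟩ with hI
  haveI h1 : ((ClSub.idealMod I).restrict U.ι).IsQuasicoherent := inferInstance
  haveI h2 : ((unitM X).restrict U.ι).IsQuasicoherent := inferInstance
  refine isIso_of_app_bijective_of_affine_cover (M := (ClSub.idealMod I).restrict U.ι)
    (N := (unitM X).restrict U.ι) _
    (fun V : U.toScheme.affineOpens => (V : U.toScheme.Opens)) (fun V => V.2)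
    (fun x => by
      obtain ⟨W, hW, hxW, -⟩ := exists_isAffineOpen_mem_and_subset (x := x) (U := ⊤) trivial
      exact ⟨⟨W, hW⟩, hxW⟩) (fun V => ?_)
  have hV' : IsAffineOpen (U.ι ''ᵁ V.1) := V.2.image_of_isOpenImmersion U.ι
  have hle : U.ι ''ᵁ V.1 ≤ U := U.ι_image_le V.1
  constructor
  · exact idealModι_app_injective I (U.ι ''ᵁ V.1)
  · intro a
    have ha : fromUnit (X := X) (V := U.ι ''ᵁ V.1) a ∈ I.ideal ⟨U.ι ''ᵁ V.1, hV'⟩ := by
      rw [hI, vanishingIdeal_compl_ideal_eq_top U ⟨U.ι ''ᵁ V.1, hV'⟩ hle]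
      trivial
    obtain ⟨s, hs⟩ := exists_idealModι_app_eq I ⟨U.ι ''ᵁ V.1, hV'⟩ _ ha
    exact ⟨s, hs⟩

/-- **Lemma K.**  On a quasi-compact quasi-separated scheme, for a quasi-compact open `U` there
is a quasi-coherent ideal of finite type which is the unit ideal on `U` and all of whose sections
vanish outside `U`. -/
theorem exists_finiteType_ideal_compl [CompactSpace X] [QuasiSeparatedSpace X] (U : X.Opens)
    (hU : IsCompact (U : Set X)) :
    ∃ (J : X.Modules) (i : J ⟶ unitM X), Mono i ∧ J.IsQuasicoherent ∧ J.IsFiniteType ∧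
      (∃ a : Γ(J, U), fromUnit (i.app U a) = 1) ∧
      (∀ (W : X.affineOpens) (t : Γ(J, W.1)), fromUnit (i.app W.1 t) ∈
        (Scheme.IdealSheafData.vanishingIdeal ⟨(U : Set X)ᶜ, U.2.isClosed_compl⟩).ideal W) := by
  set I := Scheme.IdealSheafData.vanishingIdeal ⟨(U : Set X)ᶜ, U.2.isClosed_compl⟩ with hI
  haveI hiso := isIso_restrict_idealModι_vanishingIdeal_compl U
  rw [← hI] at hiso
  haveI hq' : ((ClSub.idealMod I).restrict U.ι).IsQuasicoherent := inferInstance
  have hft' : ((ClSub.idealMod I).restrict U.ι).IsFiniteType := by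
    haveI : ((unitM X).restrict U.ι).IsQuasicoherent := inferInstance
    haveI : (unitM (U : Scheme.{u})).IsFiniteType :=
      isFiniteType_of_isInvertible (isInvertible_unit _)
    haveI : ((unitM X).restrict U.ι).IsFiniteType :=
      isFiniteType_of_iso (restrictUnitIso' U.ι).symm
    exact isFiniteType_of_iso
      (asIso ((Scheme.Modules.restrictFunctor U.ι).map (ClSub.idealModι I))).symm
  obtain ⟨F, i₀, e, hmono, hqF, hfF, hcomm⟩ := Groth.Agent.S10848.result U hU (ClSub.idealMod I)
    ((ClSub.idealMod I).restrict U.ι) hft' (𝟙 _)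
  haveI := hmono
  refine ⟨F, i₀ ≫ ClSub.idealModι I, mono_comp _ _, hqF, hfF, ?_, fun W t => ?_⟩
  · -- the unit section over `U`
    haveI : IsIso ((Scheme.Modules.restrictFunctor U.ι).map i₀) := by
      rw [← hcomm, Category.comp_id]; infer_instance
    haveI : IsIso ((Scheme.Modules.restrictFunctor U.ι).map (i₀ ≫ ClSub.idealModι I)) := by
      rw [Functor.map_comp]; infer_instance
    have hbij := ((isIso_iff_app_bijective _).mp this) ⊤
    obtain ⟨a', ha'⟩ := hbij.2 (toUnit (X := X) (V := U.ι ''ᵁ ⊤) 1)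
    refine ⟨QCoh.res F U.ι_image_top.ge a', ?_⟩
    rw [app_res]
    have ha'' : (i₀ ≫ ClSub.idealModι I).app (U.ι ''ᵁ ⊤) a' = toUnit 1 := ha'
    rw [ha'', res_toUnit_one]
    rfl
  · exact idealModι_app_mem I W (i₀.app W.1 t)

end CE2

end Groth.Agent.Lib.Helper29.QCoh
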