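import Groth.Agent.Lib.Helper29.QCohPullbackSupp
import Groth.Agent.Lib.Helper29.QCohGen
import Groth.Agent.Lib.Helper29.QCohCrit
import Groth.Agent.Lib.Helper29.CE2
import Groth.Prelude.Def_RefPow
universe u
open CategoryTheory CategoryTheory.Limits AlgebraicGeometry Opposite TopologicalSpace

namespace Groth.Agent.Lib.Helper29.QCoh

variable {X : Scheme.{u}}

theorem stalkMap_injective_iff_kernel {M N : X.Modules} (φ : M ⟶ N) (x : X) :
    Function.Injective (stalkMap φ x) ↔ Subsingleton ((kernel φ).presheaf.stalk x) := by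
  have hex : (ShortComplex.mk (kernel.ι φ) φ (kernel.condition φ)).Exact :=
    ShortComplex.exact_of_f_is_kernel _ (kernelIsKernel φ)
  have h1 := (exact_iff_stalk_function_exact _).mp hex x
  have h2 := (mono_iff_stalkMap_injective (kernel.ι φ)).mp inferInstance x
  constructor
  · intro hinj
    refine ⟨fun a b => h2 ?_⟩
    apply hinj
    have ha : stalkMap φ x (stalkMap (kernel.ι φ) x a) = 0 := (h1 _).mpr ⟨a, rfl⟩
    have hb : stalkMap φ x (stalkMap (kernel.ι φ) x b) = 0 := (h1 _).mpr ⟨b, rfl⟩
    rw [ha, hb]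
  · intro hsub
    rw [injective_iff_map_eq_zero]
    intro a ha
    obtain ⟨k, rfl⟩ := (h1 a).mp ha
    rw [Subsingleton.elim k 0, map_zero]

theorem stalkMap_surjective_iff_cokernel {M N : X.Modules} (φ : M ⟶ N) (x : X) :
    Function.Surjective (stalkMap φ x) ↔ Subsingleton ((cokernel φ).presheaf.stalk x) := by
  have hex : (ShortComplex.mk φ (cokernel.π φ) (cokernel.condition φ)).Exact :=
    ShortComplex.exact_of_g_is_cokernel _ (cokernelIsCokernel φ)
  have h1 := (exact_iff_stalk_function_exact _).mp hex x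
  have h2 := (epi_iff_stalkMap_surjective (cokernel.π φ)).mp inferInstance x
  constructor
  · intro hsurj
    have h0 : ∀ c : (cokernel φ).presheaf.stalk x, c = 0 := by
      intro c
      obtain ⟨b, rfl⟩ := h2 c
      obtain ⟨a, rfl⟩ := hsurj b
      exact (h1 _).mpr ⟨a, rfl⟩
    exact ⟨fun a b => by rw [h0 a, h0 b]⟩
  · intro hsub b
    exact (h1 b).mp (Subsingleton.elim _ _)

theorem isOpen_setOf_stalkMap_bijective [IsLocallyNoetherian X] {M N : X.Modules}
    [M.IsQuasicoherent] [M.IsFiniteType] [N.IsQuasicoherent] [N.IsFiniteType] (φ : M ⟶ N) :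
    IsOpen {x : X | Function.Bijective (stalkMap φ x)} := by
  haveI : (kernel φ).IsQuasicoherent := isQuasicoherent_kernel φ
  haveI : (kernel φ).IsFiniteType := isFiniteType_of_mono (kernel.ι φ)
  haveI : (cokernel φ).IsFiniteType := isFiniteType_cokernel φ
  have e : {x : X | Function.Bijective (stalkMap φ x)} =
      {x : X | Subsingleton ((kernel φ).presheaf.stalk x)} ∩
        {x : X | Subsingleton ((cokernel φ).presheaf.stalk x)} := by
    ext x
    simp only [Set.mem_ofPred_eq, Set.mem_inter_iff, Function.Bijective,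
      stalkMap_injective_iff_kernel, stalkMap_surjective_iff_cokernel]
  rw [e]
  exact (isOpen_setOf_subsingleton_stalk _).inter (isOpen_setOf_subsingleton_stalk _)

theorem isOpen_isoLocus [IsLocallyNoetherian X] (F : X.Modules) (hF : Coh.IsCoh F)
    (s : Coh.structureModule X ⟶ F) : IsOpen (RefPow.isoLocus s) := by
  haveI := hF.1
  haveI := hF.2
  haveI : (Coh.structureModule X).IsQuasicoherent := inferInstanceAs (unitM X).IsQuasicoherent
  haveI : (Coh.structureModule X).IsFiniteType :=
    isFiniteType_of_isInvertible (isInvertible_unit X)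
  exact isOpen_setOf_stalkMap_bijective s

end Groth.Agent.Lib.Helper29.QCoh
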