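import Groth.Agent.Lib.Helper29.Aut1
set_option autoImplicit false
universe u
open CategoryTheory CategoryTheory.Limits AlgebraicGeometry TopologicalSpace Opposite DirectSum

namespace Groth.Agent.Lib.Helper29.AutPn
open Groth.Agent.Lib.Helper29.QCoh Groth.Agent.Lib.Helper29.ZeroSch

section General
variable {X : Scheme.{u}}

theorem pullbackId_hom_pullSect (M : X.Modules) (U : X.Opens) (m : Γ(M, U)) :
    ((Scheme.Modules.pullbackId X).hom.app M).app U (pullSect (𝟙 X) M U m) = m := by
  have h := unit_conjugateEquiv Adjunction.id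
    (Scheme.Modules.pullbackPushforwardAdjunction (𝟙 X)) (Scheme.Modules.pullbackId X).hom M
  rw [Scheme.Modules.conjugateEquiv_pullbackId_hom] at h
  have h2 := congrArg (fun ψ => Scheme.Modules.Hom.app ψ U m) h
  simp only [app_comp] at h2
  exact h2.symm

/-- Multiplication by a global function. -/
noncomputable def smulHom (M : X.Modules) (a : Γ(X, ⊤)) : M ⟶ M :=
  homOfApp (fun W => (DistribSMul.toAddMonoidHom Γ(M, W) (rres X (le_top : W ≤ ⊤) a)))
    (fun W r σ => by
      change rres X (le_top : W ≤ ⊤) a • (r • σ) = r • (rres X (le_top : W ≤ ⊤) a • σ)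
      rw [smul_smul, smul_smul, mul_comm])
    (fun {W W'} h σ => by
      change rres X (le_top : W' ≤ ⊤) a • QCoh.res M h σ =
        QCoh.res M h (rres X (le_top : W ≤ ⊤) a • σ)
      rw [res_smul']
      congr 1
      exact (map_map_apply X le_top h a).symm)

theorem smulHom_app (M : X.Modules) (a : Γ(X, ⊤)) (W : X.Opens) (σ : Γ(M, W)) :
    (smulHom M a).app W σ = rres X (le_top : W ≤ ⊤) a • σ := rfl

theorem smulHom_comp (M : X.Modules) (a b : Γ(X, ⊤)) :
    smulHom M a ≫ smulHom M b = smulHom M (b * a) := by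
  apply Scheme.Modules.hom_ext
  intro W
  ext σ
  rw [app_comp]
  change rres X (le_top : W ≤ ⊤) b • (rres X (le_top : W ≤ ⊤) a • σ) =
    rres X (le_top : W ≤ ⊤) (b * a) • σ
  rw [smul_smul, map_mul]

theorem smulHom_one (M : X.Modules) : smulHom M 1 = 𝟙 M := by
  apply Scheme.Modules.hom_ext
  intro W
  ext σ
  change rres X (le_top : W ≤ ⊤) 1 • σ = σ
  rw [map_one, one_smul]

/-- Multiplication by a global unit, as an automorphism. -/
noncomputable def smulIso (M : X.Modules) (a : (Γ(X, ⊤))ˣ) : M ≅ M where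
  hom := smulHom M a
  inv := smulHom M (a⁻¹ : (Γ(X, ⊤))ˣ)
  hom_inv_id := by rw [smulHom_comp, Units.inv_mul, smulHom_one]
  inv_hom_id := by rw [smulHom_comp, Units.mul_inv, smulHom_one]

end General

section Data
variable {n : ℕ} {k : Type u} [CommRing k]

theorem linF_smul_one (c : k) (i : Fin (n + 1)) :
    linF n k ((c • (1 : Matrix (Fin (n + 1)) (Fin (n + 1)) k)) i) = c • Xi n k i := by
  apply Subtype.ext
  change ∑ j, MvPolynomial.C ((c • (1 : Matrix (Fin (n + 1)) (Fin (n + 1)) k)) i j) *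
    MvPolynomial.X j = _
  rw [SetLike.val_smul, MvPolynomial.smul_eq_C_mul]
  rw [Finset.sum_eq_single i]
  · simp
  · intro j _ hj
    simp [Matrix.one_apply_ne' hj]
  · intro h; exact absurd (Finset.mem_univ i) h

/-- The identity is given by every invertible scalar matrix. -/
theorem hasData_id (c : kˣ) :
    HasData (𝟙 (Proj (CohB1.polyGrading n k))) ((c : k) • (1 : Matrix (Fin (n + 1)) (Fin (n + 1)) k)) := by
  obtain ⟨ι, hι⟩ : ∃ ι : (Scheme.Modules.pullback (𝟙 (Proj (CohB1.polyGrading n k)))).obj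
      (Twist.twist (CohB1.polyGrading n k) 1) ≅ Twist.twist (CohB1.polyGrading n k) 1,
      ∀ m, ι.hom.app ⊤ (pullSect (𝟙 (Proj (CohB1.polyGrading n k)))
        (Twist.twist (CohB1.polyGrading n k) 1) ⊤ m) = m :=
    ⟨(Scheme.Modules.pullbackId (Proj (CohB1.polyGrading n k))).app
      (Twist.twist (CohB1.polyGrading n k) 1), fun m => pullbackId_hom_pullSect _ ⊤ m⟩
  refine ⟨Category.id_comp _, ι ≪≫ smulIso (Twist.twist (CohB1.polyGrading n k) 1)
    (Units.map (Coh.toGlobal (CohB1.ProjSpace.toSpec n k)).toMonoidHom c), fun i => ?_⟩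
  rw [linF_smul_one, sec1_smul]
  change (smulHom _ _).app ⊤ (ι.hom.app ⊤ _) = _
  rw [hι, smulHom_app]
  rfl

theorem coeff_linF (c : Fin (n + 1) → k) (l : Fin (n + 1)) :
    MvPolynomial.coeff (Finsupp.single l 1) (linF n k c).1 = c l := by
  classical
  change MvPolynomial.coeff (Finsupp.single l 1)
    (∑ j, MvPolynomial.C (c j) * MvPolynomial.X j) = _
  rw [MvPolynomial.coeff_sum, Finset.sum_eq_single l]
  · rw [MvPolynomial.coeff_C_mul, MvPolynomial.coeff_X, if_pos rfl, mul_one]
  · intro j _ hj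
    rw [MvPolynomial.coeff_C_mul, MvPolynomial.coeff_X, if_neg, mul_zero]
    intro h
    exact hj ((Finsupp.single_left_injective one_ne_zero) h)
  · intro h; exact absurd (Finset.mem_univ l) h

/-- An automorphism of `O(1)` acts on the coordinates through a scalar matrix: the polynomial
identities. -/
theorem linF_mul_X_eq (θ : Twist.twist (CohB1.polyGrading n k) 1 ≅
      Twist.twist (CohB1.polyGrading n k) 1)
    (m : Matrix (Fin (n + 1)) (Fin (n + 1)) k)
    (hθ : ∀ i, θ.hom.app ⊤ (sec1 n k (Xi n k i)) = sec1 n k (linF n k (m i)))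
    (i j : Fin (n + 1)) :
    (linF n k (m i)).1 * MvPolynomial.X j = MvPolynomial.X i * (linF n k (m j)).1 := by
  have hP : (linF n k (m i)).1 * MvPolynomial.X j ∈ CohB1.polyGrading n k (1 + 1) :=
    SetLike.mul_mem_graded (linF n k (m i)).2 (Xi n k j).2
  have hQ : MvPolynomial.X i * (linF n k (m j)).1 ∈ CohB1.polyGrading n k (1 + 1) :=
    SetLike.mul_mem_graded (Xi n k i).2 (linF n k (m j)).2
  have key := eq_of_forall_mk_eq n k i j ⟨_, hP⟩ ⟨_, hQ⟩ (by
    intro x hxi hxj
    have h1 := oneSecOn_eq_smul (CohB1.polyGrading n k) (Xi n k i) (Xi n k j)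
    have h2 := congrArg (θ.hom.app (Proj.basicOpen (CohB1.polyGrading n k) (Xi n k j).1)) h1
    rw [app_smul'] at h2
    have h3 : ∀ l, θ.hom.app (Proj.basicOpen (CohB1.polyGrading n k) (Xi n k j).1)
        (oneSecOn (CohB1.polyGrading n k) (Xi n k l) _) =
        oneSecOn (CohB1.polyGrading n k) (linF n k (m l)) _ := by
      intro l
      have := app_res θ.hom (le_top : Proj.basicOpen (CohB1.polyGrading n k) (Xi n k j).1 ≤ ⊤)
        (sec1 n k (Xi n k l))
      rw [hθ l] at this
      exact this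
    rw [h3 i, h3 j] at h2
    have h4 := congrArg (fun σ => tfun (CohB1.polyGrading n k) σ ⟨x, hxj⟩) h2
    simp only [tfun_smul, tfun_oneSecOn] at h4
    have h5 : ofun (CohB1.polyGrading n k) ((Proj.awayToSection (CohB1.polyGrading n k)
        (Xi n k j).1).hom (HomogeneousLocalization.Away.mk (CohB1.polyGrading n k) (Xi n k j).2 1
          (Xi n k i).1 (by rw [one_smul]; exact (Xi n k i).2))) ⟨x, hxj⟩ =
        Localization.mk (Xi n k i).1 ⟨(Xi n k j).1 ^ 1, pow_not_mem_of_not_mem hxj 1⟩ := rfl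
    rw [h5] at h4
    change (Localization.mk ((linF n k (m i)).1 * MvPolynomial.X j) ⟨1, one_not_mem x⟩ :
        Twist.Loc (CohB1.polyGrading n k) x) =
      Localization.mk (MvPolynomial.X i * (linF n k (m j)).1) ⟨1, one_not_mem x⟩
    have h6 : (Localization.mk ((linF n k (m i)).1 * MvPolynomial.X j) ⟨1, one_not_mem x⟩ :
        Twist.Loc (CohB1.polyGrading n k) x) =
        Localization.mk (linF n k (m i)).1 ⟨1, one_not_mem x⟩ *
          Localization.mk (MvPolynomial.X j) ⟨1, one_not_mem x⟩ := by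
      rw [Localization.mk_mul]
      apply mk_eq_mk_of_mul_eq
      simp
    rw [h6, h4, Localization.mk_mul, Localization.mk_mul]
    apply mk_eq_mk_of_mul_eq
    simp only [Submonoid.coe_mul, pow_one]
    ring)
  exact congrArg Subtype.val key

theorem eq_smul_one_of_linF_mul_X_eq (m : Matrix (Fin (n + 1)) (Fin (n + 1)) k)
    (h : ∀ i j, (linF n k (m i)).1 * MvPolynomial.X j =
      MvPolynomial.X i * (linF n k (m j)).1) :
    m = (m 0 0) • (1 : Matrix (Fin (n + 1)) (Fin (n + 1)) k) := by
  classical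
  have hdiag : ∀ i, m i i = m 0 0 := by
    intro i
    by_cases hi : i = 0
    · rw [hi]
    have h1 := congrArg (MvPolynomial.coeff (Finsupp.single i 1 + Finsupp.single 0 1)) (h i 0)
    rw [MvPolynomial.coeff_mul_X', MvPolynomial.coeff_X_mul', if_pos, if_pos,
      add_tsub_cancel_right, add_tsub_cancel_left, coeff_linF, coeff_linF] at h1
    · exact h1
    · simp [Finsupp.mem_support_iff, Finsupp.single_apply]
    · simp [Finsupp.mem_support_iff, Finsupp.single_apply]
  ext i j
  rw [Matrix.smul_apply, Matrix.one_apply, smul_eq_mul]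
  by_cases hij : i = j
  · rw [if_pos hij, mul_one, ← hij]
    exact hdiag i
  · rw [if_neg hij, mul_zero]
    have h1 := congrArg (MvPolynomial.coeff (Finsupp.single j 2)) (h i j)
    rw [MvPolynomial.coeff_mul_X', MvPolynomial.coeff_X_mul', if_pos, if_neg,
      ← Finsupp.single_tsub, coeff_linF] at h1
    · exact h1
    · simp [Finsupp.mem_support_iff, Finsupp.single_apply, hij]
    · simp [Finsupp.mem_support_iff, Finsupp.single_apply]

/-- If the identity is given by a matrix, the matrix is an invertible scalar. -/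
theorem exists_scalar_of_hasData_id {K : Type u} [Field K]
    {m : Matrix (Fin (n + 1)) (Fin (n + 1)) K}
    (h : HasData (𝟙 (Proj (CohB1.polyGrading n K))) m) :
    ∃ c : Kˣ, m = (c : K) • (1 : Matrix (Fin (n + 1)) (Fin (n + 1)) K) := by
  obtain ⟨-, τ, hτ⟩ := h
  obtain ⟨ι, hι⟩ : ∃ ι : (Scheme.Modules.pullback (𝟙 (Proj (CohB1.polyGrading n K)))).obj
      (Twist.twist (CohB1.polyGrading n K) 1) ≅ Twist.twist (CohB1.polyGrading n K) 1,
      ∀ m, ι.hom.app ⊤ (pullSect (𝟙 (Proj (CohB1.polyGrading n K)))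
        (Twist.twist (CohB1.polyGrading n K) 1) ⊤ m) = m :=
    ⟨(Scheme.Modules.pullbackId (Proj (CohB1.polyGrading n K))).app
      (Twist.twist (CohB1.polyGrading n K) 1), fun m => pullbackId_hom_pullSect _ ⊤ m⟩
  have hθ : ∀ i, (ι.symm ≪≫ τ).hom.app ⊤ (sec1 n K (Xi n K i)) =
      sec1 n K (linF n K (m i)) := by
    intro i
    change τ.hom.app ⊤ (ι.inv.app ⊤ (sec1 n K (Xi n K i))) = _
    have h1 : ι.inv.app ⊤ (sec1 n K (Xi n K i)) =
        pullSect (𝟙 (Proj (CohB1.polyGrading n K))) (Twist.twist (CohB1.polyGrading n K) 1) ⊤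
          (sec1 n K (Xi n K i)) := by
      have := iso_inv_hom_app ι ⊤ (pullSect (𝟙 (Proj (CohB1.polyGrading n K)))
        (Twist.twist (CohB1.polyGrading n K) 1) ⊤ (sec1 n K (Xi n K i)))
      rw [hι] at this
      exact this
    rw [h1]
    exact hτ i
  have hm := eq_smul_one_of_linF_mul_X_eq m (linF_mul_X_eq (ι.symm ≪≫ τ) m hθ)
  have hc : m 0 0 ≠ 0 := by
    intro h0
    rw [h0, zero_smul] at hm
    have h1 := hθ 0
    have h2 : linF n K (m 0) = 0 := by
      rw [hm]
      apply Subtype.ext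
      change ∑ j, MvPolynomial.C ((0 : Matrix (Fin (n + 1)) (Fin (n + 1)) K) 0 j) *
        MvPolynomial.X j = 0
      simp
    rw [h2, sec1_zero] at h1
    have h3 := iso_inv_hom_app (ι.symm ≪≫ τ) ⊤ (sec1 n K (Xi n K 0))
    rw [h1, map_zero] at h3
    have h4 : Xi n K 0 = 0 := sec1_injective n K (h3.symm.trans (sec1_zero n K).symm)
    have h5 : (MvPolynomial.X 0 : MvPolynomial (Fin (n + 1)) K) = 0 := congrArg Subtype.val h4
    exact MvPolynomial.X_ne_zero 0 h5
  exact ⟨Units.mk0 _ hc, hm⟩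

/-- Every invertible matrix gives a morphism. -/
theorem exists_hasData (g : Matrix.GeneralLinearGroup (Fin (n + 1)) k) :
    ∃ r, HasData (n := n) (k := k) r g.1 := by
  have hgen : ∀ x : Proj (CohB1.polyGrading n k),
      Submodule.span ((Proj (CohB1.polyGrading n k)).presheaf.stalk x)
        (Set.range fun i => ((Twist.twist (CohB1.polyGrading n k) 1).presheaf.germ ⊤ x trivial).hom
          (sec1 n k (linF n k (g.1 i)))) = ⊤ := by
    intro x
    rw [eq_top_iff, ← span_germ_coord_eq_top n k x, Submodule.span_le]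
    rintro _ ⟨j, rfl⟩
    have h1 : Xi n k j = linF n k (Matrix.vecMul (g⁻¹.1 j) g.1) := by
      have h2 : Matrix.vecMul (g⁻¹.1 j) g.1 = (1 : Matrix (Fin (n + 1)) (Fin (n + 1)) k) j := by
        have h3 : g⁻¹.1 * g.1 = 1 := by
          rw [← Units.val_mul, inv_mul_cancel, Units.val_one]
        rw [← h3]
        funext l
        simp [Matrix.mul_apply, Matrix.vecMul, dotProduct]
      rw [h2]
      have := linF_smul_one (n := n) (1 : k) j
      rw [one_smul, one_smul] at this
      exact this.symm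
    have h4 : sec1 n k (Xi n k j) =
        ∑ i, tg n k (g⁻¹.1 j i) • sec1 n k (linF n k (g.1 i)) := by
      rw [h1, linF_vecMul, ← sec1Hom_apply, map_sum]
      apply Finset.sum_congr rfl
      intro i _
      rw [sec1Hom_apply, sec1_smul]
    change ((Twist.twist (CohB1.polyGrading n k) 1).presheaf.germ ⊤ x trivial).hom
      (sec1 n k (Xi n k j)) ∈ _
    rw [h4, map_sum]
    apply Submodule.sum_mem
    intro i _
    have h5 := germ_smul (Twist.twist (CohB1.polyGrading n k) 1) x ⊤ trivial
      (tg n k (g⁻¹.1 j i)) (sec1 n k (linF n k (g.1 i)))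
    rw [show ((Twist.twist (CohB1.polyGrading n k) 1).presheaf.germ ⊤ x trivial).hom
      (tg n k (g⁻¹.1 j i) • sec1 n k (linF n k (g.1 i))) = _ from h5]
    exact Submodule.smul_mem _ _ (Submodule.subset_span ⟨i, rfl⟩)
  obtain ⟨r, hr, τ, hτ⟩ := exists_to_projSpace (R := k) (X := Proj (CohB1.polyGrading n k)) n
    (CohB1.ProjSpace.toSpec n k)
    (Twist.twist (CohB1.polyGrading n k) 1) (isInvertible_twist_projSpace n k 1)
    (fun i => sec1 n k (linF n k (g.1 i))) hgen
  exact ⟨r, hr, τ, hτ⟩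

end Data

end Groth.Agent.Lib.Helper29.AutPn
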