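import Groth.Agent.Lib.Helper29.Avoid
import Groth.Prelude.Def_MoreMor
universe u
open CategoryTheory CategoryTheory.Limits AlgebraicGeometry TopologicalSpace Opposite
open scoped TensorProduct

/-! # Ample families of invertible modules -/

namespace Groth.Agent.Lib.Helper29.QCoh

section AmpleFamily
variable {X Y : Scheme.{u}}

theorem quasiSeparatedSpace_of_hasAmpleFamily (hY : MoreMor.HasAmpleFamily Y) :
    QuasiSeparatedSpace Y := by
  choose M n s hM hn hys haff using hY.2
  refine QuasiSeparatedSpace.of_isOpenCover (U := fun y : Y => CohB1.genLocus _ (s y)) ?_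
    (fun y => ?_) (fun y => (haff y).isQuasiSeparated)
  · rw [IsOpenCover, eq_top_iff]
    intro y _
    exact Opens.mem_iSup.mpr ⟨y, hys y⟩
  · have := isAffineHom_genLocus_ι (isInvertible_tensorPow (hM y) (n y)) (s y)
    exact IsRetrocompact_iff_isSpectralMap_subtypeVal.mpr
      (CohB1.genLocus _ (s y)).ι.isSpectralMap

/-- EGA II 4.6-style: if `Y` has an ample family and `L` is `f`-ample, then `X` has an ample
family. -/
theorem hasAmpleFamily_of_isRelAmple (f : X ⟶ Y) (hY : MoreMor.HasAmpleFamily Y) {L : X.Modules}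
    (hL : RelAmple.IsRelAmple f L) : MoreMor.HasAmpleFamily X := by
  have hcY : CompactSpace Y := hY.1
  have hqc : QuasiCompact f := hL.1
  have hcX : CompactSpace X := QuasiCompact.compactSpace_of_compactSpace f
  have hqsY := quasiSeparatedSpace_of_hasAmpleFamily hY
  have hsep := isSeparated_of_isRelAmple f hL
  have hqsX : QuasiSeparatedSpace X := quasiSeparatedSpace_of_quasiSeparated f
  have hLinv := isInvertible_of_isRelAmple f hL
  refine ⟨hcX, fun x => ?_⟩
  obtain ⟨M, n, s, hM, hn, hys, haff⟩ := hY.2 (f x)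
  have hN : PicF.IsInvertible (CohB1.tensorPow ((Scheme.Modules.pullback f).obj M) n) :=
    isInvertible_tensorPow (isInvertible_pullback f hM) n
  obtain ⟨s', hs'⟩ := exists_pullback_section f hM n s
  have hamp : CohB1.IsAmple (L.restrict (CohB1.genLocus _ s').ι) := by
    rw [hs']; exact hL.2 ⟨_, haff⟩
  have hxV : x ∈ CohB1.genLocus _ s' := by rw [hs']; exact hys
  obtain ⟨m, t, hxt, htaff⟩ := hamp.2.2 ⟨x, hxV⟩
  obtain ⟨θ⟩ := nonempty_restrictTensorPowIso (CohB1.genLocus _ s').ι hLinv (m + 1)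
  have hA := isInvertible_tensorPow hLinv (m + 1)
  obtain ⟨k, σ, hσ⟩ := exists_section_of_restrict_section hN hA s' (t ≫ θ.inv)
  have hloc : CohB1.genLocus _ (t ≫ θ.inv) = CohB1.genLocus _ t := genLocus_comp_iso t θ.symm
  rw [hloc] at hσ
  have hB : PicF.IsInvertible (CohB1.tensorMod (CohB1.tensorPow L (m + 1))
      (CohB1.tensorPow (CohB1.tensorPow ((Scheme.Modules.pullback f).obj M) n) (k + 1))) :=
    isInvertible_tensorMod hA (isInvertible_tensorPow hN _)
  have hg := genLocus_comp_iso σ (tensorPowOne _).symm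
  rw [Iso.symm_hom] at hg
  refine ⟨_, 1, σ ≫ (tensorPowOne _).inv, hB, le_rfl, ?_, ?_⟩
  · rw [hg, hσ]; exact ⟨⟨x, hxV⟩, hxt, rfl⟩
  · rw [hg, hσ]; exact htaff.image_of_isOpenImmersion _


theorem isRelAmple_unit_of_isQuasiAffine (f : X ⟶ Y) (hf : Mor2.IsQuasiAffine f) :
    RelAmple.IsRelAmple f (unitM X) := by
  refine ⟨hf.1, fun V => ?_⟩
  have := hf.2 V.1 V.2
  exact isAmple_of_iso (restrictUnitIso' (f ⁻¹ᵁ V.1).ι).symm
    (isQuasiAffine_iff_isAmple_unit.mp this)

theorem isQuasiAffine_of_isAffineHom (f : X ⟶ Y) [IsAffineHom f] : Mor2.IsQuasiAffine f :=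
  ⟨inferInstance, fun V hV => by
    have : IsAffine (f ⁻¹ᵁ V : Scheme.{u}) := hV.preimage f
    infer_instance⟩

theorem hasAmpleFamily_of_isQuasiAffine (f : X ⟶ Y) (hf : IsAffineHom f ∨ Mor2.IsQuasiAffine f)
    (hY : MoreMor.HasAmpleFamily Y) : MoreMor.HasAmpleFamily X := by
  have hf' : Mor2.IsQuasiAffine f := by
    rcases hf with h | h
    · exact isQuasiAffine_of_isAffineHom f
    · exact h
  exact hasAmpleFamily_of_isRelAmple f hY (isRelAmple_unit_of_isQuasiAffine f hf')

end AmpleFamily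

end Groth.Agent.Lib.Helper29.QCoh
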