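import Groth.Agent.Lib.Helper29.GStar6
universe u
open CategoryTheory CategoryTheory.Limits AlgebraicGeometry Opposite TopologicalSpace DirectSum

namespace Groth.Agent.Lib.Helper29.QCoh

section HomFromNegTwist
variable {R A : Type u} [CommRing R] [CommRing A] [Algebra R A] (𝒜 : ℕ → Submodule R A) [GradedAlgebra 𝒜]
variable {I : Type u} (f : I → 𝒜 1) (F : (Proj 𝒜).Modules)

theorem negTwist_hE (n : ℕ) : (-(n : ℤ)) = (((0 : ℕ) : ℤ) - n) * (1 : ℕ) := by simp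

theorem cSec_zero_eq_trans (n : ℕ) (i j : I) :
    cSec (f i) (f j) 0 n (Dp 𝒜 f i ⊓ Dp 𝒜 f j) le_rfl = trans 𝒜 f n i j := by
  apply ofun_ext
  intro x
  unfold trans
  rw [ofun_cSec, ofun_frac]
  apply mk_eq_mk_of_mul_eq
  simp only [pow_zero, one_mul, mul_one]
  ring

/-- **Morphisms `O(-n) ⟶ F` from cocycle families of weight `n`.** -/
theorem exists_hom_negTwist (hcov : ∀ x : Proj 𝒜, ∃ i, x ∈ Dp 𝒜 f i) {n : ℕ}
    (m : GStarSub 𝒜 f F n) :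
    ∃ φ : Twist.twist 𝒜 (-(n : ℤ)) ⟶ F, ∀ j,
      φ.app (Dp 𝒜 f j) (eSec (-(n : ℤ)) (f j) 0 n (negTwist_hE n) _ le_rfl) = m.1 j := by
  refine exists_hom_of_cocycle (U := fun j => Dp 𝒜 f j)
    (m := fun j => eSec (-(n : ℤ)) (f j) 0 n (negTwist_hE n) _ le_rfl) (n := fun j => m.1 j)
    hcov (fun j => isTriv_eSec _ (f j) 0 n (negTwist_hE n) _ le_rfl) (fun i j => ?_)
  refine ⟨trans 𝒜 f n i j, ?_, m.2 i j⟩
  rw [res_eSec, res_eSec, eSec_eq_cSec_smul (-(n : ℤ)) (f i) (f j) 0 n (negTwist_hE n) _ le_rfl,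
    cSec_zero_eq_trans]

end HomFromNegTwist

section StalkRange
variable {X : Scheme.{u}}

theorem stalkMapRange_comp_le {M N P : X.Modules} (φ : M ⟶ N) (ψ : N ⟶ P) (x : X) :
    stalkMapRange (φ ≫ ψ) x ≤ stalkMapRange ψ x := by
  rintro _ ⟨a, rfl⟩
  refine ⟨stalkMap φ x a, ?_⟩
  change _ = ((stalkFunctor X x).map (φ ≫ ψ)) a
  rw [Functor.map_comp]
  rfl

theorem epi_of_forall_stalkMapRange_eq_top {M N : X.Modules} (φ : M ⟶ N)
    (h : ∀ x, stalkMapRange φ x = ⊤) : Epi φ := by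
  rw [epi_iff_stalkMap_surjective]
  intro x t
  have : t ∈ stalkMapRange φ x := by rw [h x]; trivial
  exact this

end StalkRange

section SerreNeg
variable {R A : Type u} [CommRing R] [CommRing A] [Algebra R A] (𝒜 : ℕ → Submodule R A) [GradedAlgebra 𝒜]

/-- **Quasi-coherent modules of finite type on `Proj` are quotients of sums of `O(-n)`**, for
all large `n`, when `S_+` is generated by finitely many elements of degree one. -/
theorem exists_epi_coprod_negTwist (s : Finset A) (hs1 : ∀ f ∈ s, f ∈ 𝒜 1)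
    (hs : (HomogeneousIdeal.irrelevant 𝒜).toIdeal = Ideal.span (s : Set A))
    (F : (Proj 𝒜).Modules) [F.IsQuasicoherent] [F.IsFiniteType] :
    ∃ n₀ : ℕ, ∀ n : ℕ, n₀ ≤ n →
      ∃ (k : ℕ) (p : (∐ fun _ : Fin k => Twist.twist 𝒜 (-(n : ℤ))) ⟶ F), Epi p := by
  classical
  let I : Type u := {a : A // a ∈ s}
  let f : I → 𝒜 1 := fun i => ⟨i.1, hs1 _ i.2⟩
  have hcov : ∀ x : Proj 𝒜, ∃ i, x ∈ Dp 𝒜 f i := by
    intro x
    obtain ⟨g, hg, hx⟩ := exists_mem_basicOpen_of_span s hs x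
    exact ⟨⟨g, hg⟩, hx⟩
  have hgen : ∀ i : I, ∃ (r : ℕ) (t : Fin r → Γ(F, Dp 𝒜 f i)), ∀ (y : Proj 𝒜) (hy : y ∈ Dp 𝒜 f i),
      Submodule.span ((Proj 𝒜).presheaf.stalk y)
        (Set.range fun a => F.presheaf.germ (Dp 𝒜 f i) y hy (t a)) = ⊤ :=
    fun i => exists_fin_sections_span_germ_eq_top F (isAffineOpen_Dp 𝒜 f i)
  choose r t ht using hgen
  let K := Σ i : I, Fin (r i)
  have hext : ∀ c : K, ∃ N : ℕ, ∀ n : ℕ, N ≤ n → ∃ m : GStarSub 𝒜 f F n, m.1 c.1 = t c.1 c.2 :=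
    fun c => exists_gstar_extension_ge 𝒜 f F c.1 (t c.1 c.2)
  choose N₁ hN₁ using hext
  refine ⟨Finset.univ.sup N₁, fun n hn => ?_⟩
  have hm : ∀ c : K, ∃ m : GStarSub 𝒜 f F n, m.1 c.1 = t c.1 c.2 := fun c =>
    hN₁ c n ((Finset.le_sup (f := N₁) (Finset.mem_univ c)).trans hn)
  choose m hm using hm
  have hφ : ∀ c : K, ∃ φ : Twist.twist 𝒜 (-(n : ℤ)) ⟶ F, ∀ j,
      φ.app (Dp 𝒜 f j) (eSec (-(n : ℤ)) (f j) 0 n (negTwist_hE n) _ le_rfl) = (m c).1 j :=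
    fun c => exists_hom_negTwist 𝒜 f F hcov (m c)
  choose φ hφ using hφ
  let e : Fin (Fintype.card K) ≃ K := (Fintype.equivFin K).symm
  refine ⟨Fintype.card K, Sigma.desc (fun a => φ (e a)), ?_⟩
  apply epi_of_forall_stalkMapRange_eq_top
  intro x
  obtain ⟨i, hxi⟩ := hcov x
  rw [eq_top_iff, ← ht i x hxi, Submodule.span_le]
  rintro _ ⟨a, rfl⟩
  have hle := stalkMapRange_comp_le
    (Sigma.ι (fun _ : Fin (Fintype.card K) => Twist.twist 𝒜 (-(n : ℤ))) (e.symm ⟨i, a⟩))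
    (Sigma.desc (fun a => φ (e a))) x
  apply hle
  rw [Sigma.ι_desc, Equiv.apply_symm_apply]
  refine ⟨(Twist.twist 𝒜 (-(n : ℤ))).presheaf.germ (Dp 𝒜 f i) x hxi
    (eSec (-(n : ℤ)) (f i) 0 n (negTwist_hE n) _ le_rfl), ?_⟩
  refine (stalkMap_germ (φ ⟨i, a⟩) x (Dp 𝒜 f i) hxi _).trans ?_
  rw [hφ ⟨i, a⟩ i, hm ⟨i, a⟩]

end SerreNeg

end Groth.Agent.Lib.Helper29.QCoh
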