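import Groth.Agent.Lib.Helper29.Dual3
import Groth.Agent.Lib.Helper29.GStar7
import Groth.Agent.Lib.Helper29.AmpleFamily
import Groth.Prelude.Def_PerfAux
universe u
open CategoryTheory CategoryTheory.Limits AlgebraicGeometry TopologicalSpace Opposite

/-! # Ample families give the resolution property -/

namespace Groth.Agent.Lib.Helper29.QCoh.Dual
open Groth.Agent.Lib.Helper29.QCoh

variable {X : Scheme.{u}}

/-- A finite coproduct of invertible modules is finite locally free. -/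
theorem isFinLocFree_sigma_of_isInvertible {k : ℕ} (E : Fin k → X.Modules)
    (hE : ∀ j, PicF.IsInvertible (E j)) : FlatMod.IsFinLocFree (∐ E) := by
  rw [isFinLocFree_iff_isFreeAlong]
  intro x
  have h1 : ∀ j, ∃ U : X.Opens, x ∈ U ∧ IsFreeAlong (E j) U.ι 1 := fun j => by
    have := (isInvertible_iff_isFinLocFreeOfRank_one (E j)).mp (hE j)
    rw [isFinLocFreeOfRank_iff_isFreeAlong] at this
    exact this x
  choose U hxU hfree using h1
  let V : X.Opens := ⟨⋂ j, (U j : Set X), isOpen_iInter_of_finite fun j => (U j).2⟩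
  have hV : ∀ j, V ≤ U j := fun j y hy => Set.mem_iInter.mp hy j
  refine ⟨V, k, Set.mem_iInter.mpr hxU, ?_⟩
  have h2 : ∀ j, IsFreeAlong (E j) V.ι 1 := fun j =>
    (hfree j).of_range_subset V.ι (by
      rw [Scheme.Opens.range_ι, Scheme.Opens.range_ι]
      exact hV j)
  have e : ∀ j, (Scheme.Modules.pullback V.ι).obj (E j) ≅ unitM (V : Scheme.{u}) := fun j =>
    (h2 j).some ≪≫ freeModOneIso _
  exact ⟨PreservesCoproduct.iso (Scheme.Modules.pullback V.ι) E ≪≫ Sigma.mapIso e⟩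

/-- **Quotients of sums of negative powers.**  On a quasi-compact quasi-separated scheme covered
by affine opens `X_s`, `s` a section of an invertible module in a class `𝓑`, every quasi-coherent
module of finite type is a quotient of a finite sum of inverses of positive powers of members of
`𝓑`. -/
theorem exists_epi_of_affine_genLocus_cover [CompactSpace X] [QuasiSeparatedSpace X]
    (𝓑 : X.Modules → Prop) (h𝓑 : ∀ B, 𝓑 B → PicF.IsInvertible B)
    (hcov : ∀ x : X, ∃ B : X.Modules, 𝓑 B ∧ ∃ s : unitM X ⟶ B,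
      x ∈ CohB1.genLocus B s ∧ IsAffineOpen (CohB1.genLocus B s))
    (F : X.Modules) [F.IsQuasicoherent] [F.IsFiniteType] :
    ∃ (k : ℕ) (B : Fin k → X.Modules) (N : Fin k → ℕ) (E : Fin k → X.Modules) (π : (∐ E) ⟶ F),
      Epi π ∧ ∀ j, 𝓑 (B j) ∧ 0 < N j ∧ PicF.IsInvertible (E j) ∧
        Nonempty (CohB1.tensorMod (E j) (CohB1.tensorPow (B j) (N j)) ≅ unitM X) := by
  classical
  choose B hB s hxs haff using hcov
  obtain ⟨T, hT⟩ := isCompact_univ.elim_finite_subcover
    (fun x : X => ((CohB1.genLocus (B x) (s x) : X.Opens) : Set X))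
    (fun x => (CohB1.genLocus (B x) (s x)).2) (fun y _ => Set.mem_iUnion.mpr ⟨y, hxs y⟩)
  have hTcov : ∀ y : X, ∃ x ∈ T, y ∈ CohB1.genLocus (B x) (s x) := by
    intro y
    have := hT (Set.mem_univ y)
    simp only [Set.mem_iUnion] at this
    obtain ⟨x, hxT, hy⟩ := this
    exact ⟨x, hxT, hy⟩
  have hgen : ∀ x : X, ∃ (r : ℕ) (m : Fin r → Γ(F, CohB1.genLocus (B x) (s x))),
      ∀ (y : X) (hy : y ∈ CohB1.genLocus (B x) (s x)),
        Submodule.span (X.presheaf.stalk y)
          (Set.range fun a => F.presheaf.germ (CohB1.genLocus (B x) (s x)) y hy (m a)) = ⊤ :=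
    fun x => exists_fin_sections_span_germ_eq_top F (haff x)
  choose r m hm using hgen
  let K := Σ x : T, Fin (r x.1)
  have hq : ∀ x : X, (B x).IsQuasicoherent := fun x => isQuasicoherent_of_isInvertible (h𝓑 _ (hB x))
  have hext : ∀ c : K, ∃ (N : ℕ) (t' : Γ(CohB1.tensorMod F (CohB1.tensorPow (B c.1.1) (N + 1)), ⊤)),
      QCoh.res (CohB1.tensorMod F (CohB1.tensorPow (B c.1.1) (N + 1)))
        (le_top : CohB1.genLocus (B c.1.1) (s c.1.1) ≤ ⊤) t' =
        tmulSec F (CohB1.tensorPow (B c.1.1) (N + 1)) (m c.1.1 c.2)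
          (epow (B c.1.1) (sval (s c.1.1) (CohB1.genLocus (B c.1.1) (s c.1.1))) (N + 1)) := by
    intro c
    obtain ⟨N₀, hN₀⟩ := exists_extension_tmulSec_pow_of_le (h𝓑 _ (hB c.1.1)) (s c.1.1) F
      (m c.1.1 c.2)
    obtain ⟨t', ht'⟩ := hN₀ (N₀ + 1) (Nat.le_succ _)
    exact ⟨N₀, t', ht'⟩
  choose N t' ht' using hext
  have hTriv : ∀ c : K, IsTriv (CohB1.tensorPow (B c.1.1) (N c + 1))
      (CohB1.genLocus (B c.1.1) (s c.1.1))
      (epow (B c.1.1) (sval (s c.1.1) (CohB1.genLocus (B c.1.1) (s c.1.1))) (N c + 1)) := by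
    intro c
    have := hq c.1.1
    exact (isTriv_sval_of_le_genLocus (s c.1.1) le_rfl).epow (N c + 1)
  have hφ : ∀ c : K, ∃ φ : RefHull.homSh (CohB1.tensorPow (B c.1.1) (N c + 1)) (unitM X) ⟶ F,
      φ.app (CohB1.genLocus (B c.1.1) (s c.1.1)) (dualGen (hTriv c)) = m c.1.1 c.2 := by
    intro c
    obtain ⟨φ, hφ⟩ := exists_hom_dual (isInvertible_tensorPow (h𝓑 _ (hB c.1.1)) (N c + 1)) F (t' c)
    exact ⟨φ, hφ _ _ (hTriv c) _ (ht' c)⟩
  choose φ hφ using hφ
  let e : Fin (Fintype.card K) ≃ K := (Fintype.equivFin K).symm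
  refine ⟨Fintype.card K, fun j => B (e j).1.1, fun j => N (e j) + 1,
    fun j => RefHull.homSh (CohB1.tensorPow (B (e j).1.1) (N (e j) + 1)) (unitM X),
    Sigma.desc (fun j => φ (e j)), ?_, fun j => ⟨hB _, Nat.succ_pos _,
      isInvertible_dual (isInvertible_tensorPow (h𝓑 _ (hB _)) _),
      ⟨dualTensorIso (isInvertible_tensorPow (h𝓑 _ (hB _)) _)⟩⟩⟩
  apply epi_of_forall_stalkMapRange_eq_top
  intro y
  obtain ⟨x, hxT, hy⟩ := hTcov y
  rw [eq_top_iff, ← hm x y hy, Submodule.span_le]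
  rintro _ ⟨a, rfl⟩
  let c : K := ⟨⟨x, hxT⟩, a⟩
  have hle := stalkMapRange_comp_le
    (Sigma.ι (fun j : Fin (Fintype.card K) =>
      RefHull.homSh (CohB1.tensorPow (B (e j).1.1) (N (e j) + 1)) (unitM X)) (e.symm c))
    (Sigma.desc (fun j => φ (e j))) y
  apply hle
  rw [Sigma.ι_desc]
  have hec : e (e.symm c) = c := Equiv.apply_symm_apply e c
  refine ⟨(RefHull.homSh (CohB1.tensorPow (B (e (e.symm c)).1.1) (N (e (e.symm c)) + 1))
    (unitM X)).presheaf.germ (CohB1.genLocus (B (e (e.symm c)).1.1) (s (e (e.symm c)).1.1)) y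
    (by rw [hec]; exact hy) (dualGen (hTriv (e (e.symm c)))), ?_⟩
  refine (stalkMap_germ (φ (e (e.symm c))) y _ _ _).trans ?_
  rw [hφ (e (e.symm c))]
  clear hle
  generalize e (e.symm c) = c' at hec
  subst hec
  rfl

/-- **A scheme with an ample family of invertible modules has the resolution property.** -/
theorem hasResolutionProperty_of_hasAmpleFamily (hX : MoreMor.HasAmpleFamily X) :
    PerfAux.HasResolutionProperty X := by
  intro M hM hM'
  have : M.IsQuasicoherent := hM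
  have : M.IsFiniteType := hM'
  have : CompactSpace X := hX.1
  have : QuasiSeparatedSpace X := quasiSeparatedSpace_of_hasAmpleFamily hX
  obtain ⟨k, B, N, E, π, hπ, hE⟩ := exists_epi_of_affine_genLocus_cover
    (fun B => PicF.IsInvertible B) (fun B h => h)
    (fun x => by
      obtain ⟨L, n, s, hL, hn, hx, ha⟩ := hX.2 x
      exact ⟨_, isInvertible_tensorPow hL n, s, hx, ha⟩) M
  exact ⟨∐ E, π, isFinLocFree_sigma_of_isInvertible E (fun j => (hE j).2.2.1), hπ⟩

end Groth.Agent.Lib.Helper29.QCoh.Dual
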