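import Groth.Agent.Lib.Helper29.Sky
import Groth.Agent.Lib.Helper29.GenLocus
import Groth.Agent.Lib.Helper29.RelAmple
universe u
open CategoryTheory CategoryTheory.Limits AlgebraicGeometry TopologicalSpace Opposite

/-! # Invertible modules from 1-cocycles on an open cover -/

namespace Groth.Agent.Lib.Helper29.QCoh.Glue
open Groth.Agent.Lib.Helper29.QCoh

variable {X : Scheme.{u}}

theorem exists_glue_fun {κ : Type*} (V : κ → X.Opens) (W : X.Opens) (hVW : ∀ k, V k ≤ W)
    (hcov : W ≤ iSup V) (sf : ∀ k, Γ(X, V k))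
    (h : ∀ k l, rres X (inf_le_left : V k ⊓ V l ≤ V k) (sf k) =
      rres X (inf_le_right : V k ⊓ V l ≤ V l) (sf l)) :
    ∃ s : Γ(X, W), ∀ k, rres X (hVW k) s = sf k := by
  obtain ⟨s, hs, -⟩ := X.sheaf.existsUnique_gluing' V W (fun k => homOfLE (hVW k)) hcov sf
    (fun k l => h k l)
  exact ⟨s, hs⟩

theorem fun_ext_of_cover {κ : Type*} (V : κ → X.Opens) (W : X.Opens) (hVW : ∀ k, V k ≤ W)
    (hcov : W ≤ iSup V) (s t : Γ(X, W))
    (h : ∀ k, rres X (hVW k) s = rres X (hVW k) t) : s = t :=
  X.sheaf.eq_of_locally_eq' V W (fun k => homOfLE (hVW k)) hcov s t h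

variable {ι : Type u} (U : ι → X.Opens)

/-- A multiplicative 1-cocycle on the family of opens `U`. -/
structure Cocycle where
  g : ∀ i j, Γ(X, U i ⊓ U j)
  one : ∀ i, g i i = 1
  mul : ∀ (i j k : ι) (W : X.Opens) (hi : W ≤ U i) (hj : W ≤ U j) (hk : W ≤ U k),
    rres X (le_inf hi hj) (g i j) * rres X (le_inf hj hk) (g j k) = rres X (le_inf hi hk) (g i k)

variable {U} (c : Cocycle U)

/-- The compatibility condition defining sections of the glued module. -/
def IsSec (V : X.Opens) (a : ∀ i, Γ(X, V ⊓ U i)) : Prop :=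
  ∀ (i j : ι) (W : X.Opens) (hV : W ≤ V) (hi : W ≤ U i) (hj : W ≤ U j),
    rres X (le_inf hV hi) (a i) = rres X (le_inf hi hj) (c.g i j) * rres X (le_inf hV hj) (a j)

/-- Sections of the glued module over `V`. -/
def secs (V : X.Opens) : AddSubgroup (∀ i, Γ(X, V ⊓ U i)) where
  carrier := {a | IsSec c V a}
  zero_mem' := by
    intro i j W hV hi hj
    simp only [Pi.zero_apply, map_zero, mul_zero]
  add_mem' := by
    intro a b ha hb i j W hV hi hj
    simp only [Pi.add_apply, map_add, mul_add]
    rw [ha i j W hV hi hj, hb i j W hV hi hj]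
  neg_mem' := by
    intro a ha i j W hV hi hj
    simp only [Pi.neg_apply, map_neg, mul_neg]
    rw [ha i j W hV hi hj]

/-- Restriction of sections. -/
noncomputable def resSec {V V' : X.Opens} (h : V' ≤ V) (a : secs c V) : secs c V' :=
  ⟨fun i => rres X (inf_le_inf_right (U i) h) (a.1 i), by
    intro i j W hV hi hj
    rw [rres_rres, rres_rres]
    exact a.2 i j W (hV.trans h) hi hj⟩

theorem resSec_val {V V' : X.Opens} (h : V' ≤ V) (a : secs c V) (i : ι) :
    (resSec c h a).1 i = rres X (inf_le_inf_right (U i) h) (a.1 i) := rfl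

/-- The underlying presheaf of abelian groups of the glued module. -/
noncomputable def glueAb : (Opens X)ᵒᵖ ⥤ Ab.{u} where
  obj V := AddCommGrpCat.of (secs c V.unop)
  map {V W} f := AddCommGrpCat.ofHom
    { toFun := fun a => resSec c f.unop.le a
      map_zero' := by
        apply Subtype.ext
        funext i
        exact map_zero _
      map_add' := fun a b => by
        apply Subtype.ext
        funext i
        exact map_add _ _ _ }
  map_id V := by
    ext a i
    exact rres_self X _
  map_comp f g := by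
    ext a i
    exact (rres_rres X _ _ _).symm

/-- Restriction of functions out of the `RingCat`-valued structure sheaf. -/
noncomputable def toFn (V : (Opens X)ᵒᵖ) {W : X.Opens} (h : W ≤ V.unop) :
    (X.ringCatSheaf.obj.obj V) →+* Γ(X, W) :=
  rres X h

theorem toFn_map {V V' : (Opens X)ᵒᵖ} (f : V ⟶ V') {W : X.Opens} (h : W ≤ V'.unop)
    (r : X.ringCatSheaf.obj.obj V) :
    toFn V' h (X.ringCatSheaf.obj.map f r) = toFn V (h.trans f.unop.le) r :=
  rres_rres X f.unop.le h r

/-- Scalar multiplication on sections. -/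
noncomputable def smulSec (V : (Opens X)ᵒᵖ) (r : X.ringCatSheaf.obj.obj V)
    (a : secs c V.unop) : secs c V.unop :=
  ⟨fun i => toFn V (inf_le_left : V.unop ⊓ U i ≤ V.unop) r * a.1 i, by
    intro i j W hV hi hj
    rw [map_mul, map_mul, a.2 i j W hV hi hj]
    have h1 : rres X (le_inf hV hi) (toFn V (inf_le_left : V.unop ⊓ U i ≤ V.unop) r) =
        toFn V hV r := rres_rres X _ _ r
    have h2 : rres X (le_inf hV hj) (toFn V (inf_le_left : V.unop ⊓ U j ≤ V.unop) r) =
        toFn V hV r := rres_rres X _ _ r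
    rw [h1, h2, mul_left_comm]⟩

theorem smulSec_val (V : (Opens X)ᵒᵖ) (r : X.ringCatSheaf.obj.obj V) (a : secs c V.unop) (i : ι) :
    (smulSec c V r a).1 i = toFn V (inf_le_left : V.unop ⊓ U i ≤ V.unop) r * a.1 i := rfl

noncomputable instance glueModule (V : (Opens X)ᵒᵖ) :
    Module (X.ringCatSheaf.obj.obj V) ((glueAb c).obj V) where
  smul r a := smulSec c V r a
  one_smul a := by
    apply Subtype.ext
    funext i
    change toFn V _ 1 * a.1 i = a.1 i
    rw [map_one, one_mul]
  mul_smul r r' a := by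
    apply Subtype.ext
    funext i
    change toFn V _ (r * r') * a.1 i = toFn V _ r * (toFn V _ r' * a.1 i)
    rw [map_mul, mul_assoc]
  smul_zero r := by
    apply Subtype.ext
    funext i
    change toFn V _ r * 0 = 0
    rw [mul_zero]
  smul_add r a b := by
    apply Subtype.ext
    funext i
    change toFn V _ r * (a.1 i + b.1 i) = toFn V _ r * a.1 i + toFn V _ r * b.1 i
    rw [mul_add]
  add_smul r r' a := by
    apply Subtype.ext
    funext i
    change toFn V _ (r + r') * a.1 i = toFn V _ r * a.1 i + toFn V _ r' * a.1 i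
    rw [map_add, add_mul]
  zero_smul a := by
    apply Subtype.ext
    funext i
    change toFn V _ 0 * a.1 i = 0
    rw [map_zero, zero_mul]

/-- The glued presheaf of modules. -/
noncomputable def gluePre : PresheafOfModules.{u} X.ringCatSheaf.obj :=
  PresheafOfModules.ofPresheaf (glueAb c) (by
    intro V W f r m
    apply Subtype.ext
    funext i
    change rres X _ (toFn V _ r * m.1 i) = toFn W _ (X.ringCatSheaf.obj.map f r) * rres X _ (m.1 i)
    rw [map_mul, toFn_map]
    congr 1
    exact rres_rres X _ _ r)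

theorem glueAb_isSheaf : TopCat.Presheaf.IsSheaf (X := X.toTopCat) (glueAb c) := by
  rw [TopCat.Presheaf.isSheaf_iff_isSheafUniqueGluing]
  intro κ V sf hsf
  have hcomp : ∀ (k l : κ) (i : ι),
      rres X (inf_le_inf_right (U i) (inf_le_left : V k ⊓ V l ≤ V k)) ((sf k).1 i) =
        rres X (inf_le_inf_right (U i) (inf_le_right : V k ⊓ V l ≤ V l)) ((sf l).1 i) := by
    intro k l i
    have h := hsf k l
    exact congrArg (fun s : secs c (V k ⊓ V l) => s.1 i) h
  have hVle : ∀ (k : κ) (i : ι), V k ⊓ U i ≤ iSup V ⊓ U i := fun k i =>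
    inf_le_inf_right (U i) (le_iSup V k)
  have hcov : ∀ i : ι, iSup V ⊓ U i ≤ ⨆ k, V k ⊓ U i := by
    intro i x hx
    obtain ⟨k, hk⟩ := Opens.mem_iSup.mp hx.1
    exact Opens.mem_iSup.mpr ⟨k, hk, hx.2⟩
  have hex : ∀ i : ι, ∃ a : Γ(X, iSup V ⊓ U i), ∀ k, rres X (hVle k i) a = (sf k).1 i := by
    intro i
    refine exists_glue_fun (fun k => V k ⊓ U i) (iSup V ⊓ U i) (fun k => hVle k i) (hcov i)
      (fun k => (sf k).1 i) ?_
    intro k l
    have hle : (V k ⊓ U i) ⊓ (V l ⊓ U i) ≤ (V k ⊓ V l) ⊓ U i :=
      le_inf (le_inf (inf_le_left.trans inf_le_left) (inf_le_right.trans inf_le_left))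
        (inf_le_left.trans inf_le_right)
    have h := congrArg (rres X hle) (hcomp k l i)
    rw [rres_rres, rres_rres] at h
    exact h
  choose a ha using hex
  have hsec : IsSec c (iSup V) a := by
    intro i j W hV hi hj
    refine fun_ext_of_cover (fun k => W ⊓ V k) W (fun k => inf_le_left) ?_ _ _ ?_
    · intro x hx
      obtain ⟨k, hk⟩ := Opens.mem_iSup.mp (hV hx)
      exact Opens.mem_iSup.mpr ⟨k, hx, hk⟩
    · intro k
      have h1 : rres X (inf_le_left : W ⊓ V k ≤ W) (rres X (le_inf hV hi) (a i)) =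
          rres X (le_inf inf_le_right (inf_le_left.trans hi) : W ⊓ V k ≤ V k ⊓ U i)
            ((sf k).1 i) := by
        rw [← ha i k, rres_rres, rres_rres]
      have h2 : rres X (inf_le_left : W ⊓ V k ≤ W) (rres X (le_inf hV hj) (a j)) =
          rres X (le_inf inf_le_right (inf_le_left.trans hj) : W ⊓ V k ≤ V k ⊓ U j)
            ((sf k).1 j) := by
        rw [← ha j k, rres_rres, rres_rres]
      rw [h1, map_mul, h2, rres_rres]
      exact (sf k).2 i j (W ⊓ V k) inf_le_right (inf_le_left.trans hi) (inf_le_left.trans hj)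
  refine ⟨⟨a, hsec⟩, ?_, ?_⟩
  · intro k
    apply Subtype.ext
    funext i
    exact ha i k
  · intro s' hs'
    apply Subtype.ext
    funext i
    refine fun_ext_of_cover (fun k => V k ⊓ U i) (iSup V ⊓ U i) (fun k => hVle k i) (hcov i) _ _ ?_
    intro k
    have h := congrArg (fun s : secs c (V k) => s.1 i) (hs' k)
    exact h.trans (ha i k).symm

/-- The invertible module glued from the cocycle `c`. -/
noncomputable def glue : X.Modules := ⟨gluePre c, glueAb_isSheaf c⟩

theorem glue_sections (V : X.Opens) : (Γ(glue c, V) : Type u) = secs c V := rfl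

theorem res_glue_val {V V' : X.Opens} (h : V' ≤ V) (a : Γ(glue c, V)) (i : ι) :
    (show secs c V' from res (glue c) h a).1 i =
      rres X (inf_le_inf_right (U i) h) ((show secs c V from a).1 i) := rfl

theorem smul_glue_val {V : X.Opens} (r : Γ(X, V)) (a : Γ(glue c, V)) (i : ι) :
    (show secs c V from r • a).1 i =
      rres X (inf_le_left : V ⊓ U i ≤ V) r * (show secs c V from a).1 i := rfl

/-- The canonical generator of the glued module over `U k`. -/
noncomputable def gen (k : ι) : Γ(glue c, U k) :=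
  (show secs c (U k) from
    ⟨fun i => rres X (le_inf inf_le_right inf_le_left : U k ⊓ U i ≤ U i ⊓ U k) (c.g i k), by
      intro i j W hV hi hj
      rw [rres_rres, rres_rres]
      exact (c.mul i j k W hi hj hV).symm⟩)

theorem gen_val (k i : ι) : (show secs c (U k) from gen c k).1 i =
    rres X (le_inf inf_le_right inf_le_left : U k ⊓ U i ≤ U i ⊓ U k) (c.g i k) := rfl

theorem isTriv_gen (k : ι) : IsTriv (glue c) (U k) (gen c k) := by
  intro W hW
  have hWk : W ⊓ U k = W := inf_eq_left.mpr hW
  constructor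
  · intro r r' hrr
    have h1 := congrArg (fun s : Γ(glue c, W) => (show secs c W from s).1 k) hrr
    simp only [smul_glue_val, res_glue_val, gen_val, rres_rres] at h1
    have h2 : rres X (le_inf ((inf_le_left : W ⊓ U k ≤ W).trans hW) inf_le_right :
        W ⊓ U k ≤ U k ⊓ U k) (c.g k k) = 1 := by rw [c.one, map_one]
    rw [h2, mul_one, mul_one] at h1
    exact (rres_eq_bijective X hWk).1 h1
  · intro a
    have hle : W ≤ W ⊓ U k := le_inf le_rfl hW
    refine ⟨rres X hle ((show secs c W from a).1 k), ?_⟩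
    apply Subtype.ext
    funext i
    change (show secs c W from (rres X hle ((show secs c W from a).1 k)) •
      res (glue c) hW (gen c k)).1 i = (show secs c W from a).1 i
    rw [smul_glue_val, res_glue_val, gen_val, rres_rres, rres_rres]
    have h := (show secs c W from a).2 i k (W ⊓ U i) inf_le_left inf_le_right
      (inf_le_left.trans hW)
    rw [rres_self] at h
    rw [h, mul_comm]

theorem gen_transition (j k : ι) :
    res (glue c) (inf_le_right : U j ⊓ U k ≤ U k) (gen c k) =
      c.g j k • res (glue c) (inf_le_left : U j ⊓ U k ≤ U j) (gen c j) := by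
  apply Subtype.ext
  funext i
  change rres X (inf_le_inf_right (U i) (inf_le_right : U j ⊓ U k ≤ U k))
      (rres X (le_inf inf_le_right inf_le_left : U k ⊓ U i ≤ U i ⊓ U k) (c.g i k)) =
    rres X (inf_le_left : U j ⊓ U k ⊓ U i ≤ U j ⊓ U k) (c.g j k) *
      rres X (inf_le_inf_right (U i) (inf_le_left : U j ⊓ U k ≤ U j))
        (rres X (le_inf inf_le_right inf_le_left : U j ⊓ U i ≤ U i ⊓ U j) (c.g i j))
  rw [rres_rres, rres_rres]
  have h := c.mul i j k (U j ⊓ U k ⊓ U i) inf_le_right (inf_le_left.trans inf_le_left)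
    (inf_le_left.trans inf_le_right)
  rw [← h, mul_comm]

/-- **Gluing**: a multiplicative 1-cocycle on an open cover defines an invertible module with
trivialisations over the members of the cover whose transition functions are the cocycle. -/
theorem exists_invertible_of_cocycle (hU : ∀ x : X, ∃ i, x ∈ U i) (c : Cocycle U) :
    ∃ (L : X.Modules) (e : ∀ k, Γ(L, U k)), PicF.IsInvertible L ∧
      (∀ k, IsTriv L (U k) (e k)) ∧
      ∀ j k, res L (inf_le_right : U j ⊓ U k ≤ U k) (e k) =
        c.g j k • res L (inf_le_left : U j ⊓ U k ≤ U j) (e j) := by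
  refine ⟨glue c, gen c, ?_, isTriv_gen c, gen_transition c⟩
  apply isInvertible_of_isTriv'
  intro x
  obtain ⟨i, hi⟩ := hU x
  exact ⟨U i, gen c i, hi, isTriv_gen c i⟩

end Groth.Agent.Lib.Helper29.QCoh.Glue
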