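import Groth.Agent.Lib.Helper29.AmpleFamily
import Groth.Agent.Lib.Helper29.AmpDiv1
import Groth.Agent.Lib.Helper29.Glue1
import Mathlib
universe u
open CategoryTheory CategoryTheory.Limits AlgebraicGeometry TopologicalSpace Opposite

/-! # The invertible module `O(D)` of an effective Cartier divisor and ample families -/

namespace Groth.Agent.Lib.Helper29.AmpFam
open Groth.Agent.Lib.Helper29.QCoh Groth.Agent.Lib.Helper29.QCoh.Glue
  Groth.Agent.Lib.Helper29.EffC Groth.Agent.Lib.Helper25.BlowUpUP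
  Groth.Agent.Lib.Helper29.AmpDiv Groth.Agent.Lib.Helper10.DivLocal

variable {X : Scheme.{u}}

/-- The ratio of two local equations of an effective Cartier divisor. -/
theorem exists_ratio (D : X.IdealSheafData) {U₁ U₂ : X.affineOpens} (f₁ : Γ(X, U₁.1))
    (f₂ : Γ(X, U₂.1)) (hf₁ : f₁ ∈ nonZeroDivisors Γ(X, U₁.1))
    (hf₂ : f₂ ∈ nonZeroDivisors Γ(X, U₂.1)) (h₁ : D.ideal U₁ = Ideal.span {f₁})
    (h₂ : D.ideal U₂ = Ideal.span {f₂}) :
    ∃ r : Γ(X, U₁.1 ⊓ U₂.1),
      rres X (inf_le_left : U₁.1 ⊓ U₂.1 ≤ U₁.1) f₁ =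
        r * rres X (inf_le_right : U₁.1 ⊓ U₂.1 ≤ U₂.1) f₂ := by
  let κ := {V : X.affineOpens // V.1 ≤ U₁.1 ⊓ U₂.1}
  have hV₁ : ∀ k : κ, k.1.1 ≤ U₁.1 := fun k => k.2.trans inf_le_left
  have hV₂ : ∀ k : κ, k.1.1 ≤ U₂.1 := fun k => k.2.trans inf_le_right
  have hex : ∀ k : κ, ∃ r : Γ(X, k.1.1), r * rres X (hV₂ k) f₂ = rres X (hV₁ k) f₁ := by
    intro k
    have e1 := (principal_of_le D (show k.1 ≤ U₁ from hV₁ k) f₁ hf₁ h₁).2
    have e2 := (principal_of_le D (show k.1 ≤ U₂ from hV₂ k) f₂ hf₂ h₂).2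
    have hmem : rres X (hV₁ k) f₁ ∈ D.ideal k.1 := by
      rw [e1]; exact Ideal.mem_span_singleton_self _
    rw [e2] at hmem
    exact Ideal.mem_span_singleton'.mp hmem
  choose rV hrV using hex
  have hcompat : ∀ k l : κ, rres X (inf_le_left : k.1.1 ⊓ l.1.1 ≤ k.1.1) (rV k) =
      rres X (inf_le_right : k.1.1 ⊓ l.1.1 ≤ l.1.1) (rV l) := by
    intro k l
    have hle : k.1.1 ⊓ l.1.1 ≤ U₂.1 := inf_le_left.trans (hV₂ k)
    have e1 := congrArg (rres X (inf_le_left : k.1.1 ⊓ l.1.1 ≤ k.1.1)) (hrV k)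
    have e2 := congrArg (rres X (inf_le_right : k.1.1 ⊓ l.1.1 ≤ l.1.1)) (hrV l)
    rw [map_mul, rres_rres, rres_rres] at e1 e2
    have e3 : (rres X (inf_le_left : k.1.1 ⊓ l.1.1 ≤ k.1.1) (rV k) -
        rres X (inf_le_right : k.1.1 ⊓ l.1.1 ≤ l.1.1) (rV l)) * rres X hle f₂ = 0 := by
      rw [sub_mul, e1, e2, sub_self]
    exact sub_eq_zero.mp (rres_mul_eq_zero U₂.2 f₂ hf₂ _ hle _ e3)
  have hcov : U₁.1 ⊓ U₂.1 ≤ ⨆ k : κ, k.1.1 := by
    intro x hx
    obtain ⟨V, hV, hxV, hVW⟩ := exists_isAffineOpen_mem_and_subset (x := x) (U := U₁.1 ⊓ U₂.1) hx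
    exact Opens.mem_iSup.mpr ⟨⟨⟨V, hV⟩, hVW⟩, hxV⟩
  obtain ⟨r, hr⟩ := exists_glue_fun (fun k : κ => k.1.1) (U₁.1 ⊓ U₂.1) (fun k => k.2) hcov rV
    hcompat
  refine ⟨r, ?_⟩
  apply fun_ext_of_cover (fun k : κ => k.1.1) (U₁.1 ⊓ U₂.1) (fun k => k.2) hcov
  intro k
  rw [map_mul, rres_rres, rres_rres, hr k]
  exact (hrV k).symm

/-- The invertible module `O(D)` of an effective Cartier divisor with its canonical section. -/
theorem exists_invertible_section_of_effCartier (D : X.IdealSheafData)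
    (hD : BlowUp.IsEffCartierIdeal D) :
    ∃ (N : X.Modules) (s₀ : unitM X ⟶ N), PicF.IsInvertible N ∧
      CohB1.genLocus N s₀ = D.support.compl := by
  choose U hxU f hf hI using hD
  -- the cocycle of ratios
  have hratio : ∀ i j : X, ∃ r : Γ(X, (U i).1 ⊓ (U j).1),
      rres X (inf_le_left : (U i).1 ⊓ (U j).1 ≤ (U i).1) (f i) =
        r * rres X (inf_le_right : (U i).1 ⊓ (U j).1 ≤ (U j).1) (f j) :=
    fun i j => exists_ratio D (f i) (f j) (hf i) (hf j) (hI i) (hI j)
  choose g hg using hratio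
  have huniq : ∀ (k : X) (W : X.Opens) (hk : W ≤ (U k).1) (r r' : Γ(X, W)),
      r * rres X hk (f k) = r' * rres X hk (f k) → r = r' := by
    intro k W hk r r' h
    have : (r - r') * rres X hk (f k) = 0 := by rw [sub_mul, h, sub_self]
    exact sub_eq_zero.mp (rres_mul_eq_zero (U k).2 (f k) (hf k) W hk _ this)
  let c : Cocycle (fun i : X => (U i).1) :=
    { g := g
      one := fun i => by
        apply huniq i _ (inf_le_right : (U i).1 ⊓ (U i).1 ≤ (U i).1)
        rw [← hg i i, one_mul]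
      mul := fun i j k W hi hj hk => by
        apply huniq k W hk
        have e1 := congrArg (rres X (le_inf hi hj)) (hg i j)
        have e2 := congrArg (rres X (le_inf hj hk)) (hg j k)
        have e3 := congrArg (rres X (le_inf hi hk)) (hg i k)
        rw [map_mul, rres_rres, rres_rres] at e1 e2 e3
        rw [← e3, mul_assoc, ← e2, ← e1] }
  obtain ⟨N, e, hN, he, htr⟩ := exists_invertible_of_cocycle (fun x => ⟨x, hxU x⟩) c
  have hcompat : ∀ i j : X, res N (inf_le_left : (U i).1 ⊓ (U j).1 ≤ (U i).1) (f i • e i) =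
      res N (inf_le_right : (U i).1 ⊓ (U j).1 ≤ (U j).1) (f j • e j) := by
    intro i j
    rw [res_smul', res_smul', htr i j, smul_smul, hg i j, mul_comm]
  obtain ⟨σ, hσ⟩ := exists_gluing N (fun i : X => (U i).1) ⊤ (fun _ => le_top)
    (fun x _ => Opens.mem_iSup.mpr ⟨x, hxU x⟩) (fun i => f i • e i) hcompat
  refine ⟨N, homOfSection N σ, hN, ?_⟩
  have hsv : ∀ i, sval (homOfSection N σ) (U i).1 = f i • e i := by
    intro i
    rw [sval_homOfSection, hσ i]
  ext y
  have hy := (he y).genLocus_inf (homOfSection N σ) (f y) (hsv y)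
  have h1 : y ∈ CohB1.genLocus N (homOfSection N σ) ↔ y ∈ X.basicOpen (f y) := by
    rw [← hy]; exact ⟨fun h => ⟨h, hxU y⟩, fun h => h.1⟩
  have h2 : y ∈ X.basicOpen (f y) ↔ y ∉ D.support := by
    constructor
    · exact fun h => notMem_support_of_mem_basicOpen D (U y) (f y) (hI y) y h
    · intro h
      rw [mem_support_iff_le_primeIdealOf D (U y) y (hxU y), hI y, Ideal.span_singleton_le_iff_mem]
        at h
      have h3 := (Groth.Agent.Lib.Helper29.Punct.mem_basicOpen_fromSpec (U y).2 (f y)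
        ((U y).2.primeIdealOf ⟨y, hxU y⟩)).mpr h
      rwa [(U y).2.fromSpec_primeIdealOf ⟨y, hxU y⟩] at h3
  simp only [SetLike.mem_coe]
  rw [h1, h2]
  rfl

/-- Effective Cartier divisors with empty common support whose complements carry ample
invertible modules (restricted from the whole scheme) give an ample family. -/
theorem hasAmpleFamily_of_effCartier_cover {m : ℕ} (D : Fin m → X.IdealSheafData)
    (hD : ∀ i, BlowUp.IsEffCartierIdeal (D i)) (hcap : ⋂ i, ((D i).support : Set ↑X) = ∅)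
    (L : Fin m → X.Modules) (hL : ∀ i, PicF.IsInvertible (L i))
    (hamp : ∀ i, CohB1.IsAmple ((L i).restrict (Scheme.Opens.ι (D i).support.compl))) :
    MoreMor.HasAmpleFamily X := by
  choose N s₀ hN hgen using fun i => exists_invertible_section_of_effCartier (D i) (hD i)
  have hamp' : ∀ i, CohB1.IsAmple ((L i).restrict (CohB1.genLocus (N i) (s₀ i)).ι) := fun i => by
    rw [hgen i]; exact hamp i
  have hcover : ∀ x : X, ∃ i, x ∈ CohB1.genLocus (N i) (s₀ i) := by
    intro x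
    by_contra hcon
    push Not at hcon
    have hx : x ∈ ⋂ i, ((D i).support : Set X) := Set.mem_iInter.mpr fun i => by
      have h1 := hcon i
      rw [hgen i] at h1
      by_contra h
      exact h1 h
    rw [hcap] at hx
    exact hx
  have hcX : CompactSpace X := by
    constructor
    have huniv : (Set.univ : Set X) =
        ⋃ i, ((CohB1.genLocus (N i) (s₀ i) : X.Opens) : Set X) := by
      symm
      apply Set.eq_univ_of_forall
      intro x
      obtain ⟨i, hi⟩ := hcover x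
      exact Set.mem_iUnion.mpr ⟨i, hi⟩
    rw [huniv]
    apply isCompact_iUnion
    intro i
    have hc : CompactSpace ↥(CohB1.genLocus (N i) (s₀ i)) := (hamp' i).2.1
    exact isCompact_iff_compactSpace.mpr hc
  have hqsX : QuasiSeparatedSpace X := by
    refine QuasiSeparatedSpace.of_isOpenCover (U := fun i => CohB1.genLocus (N i) (s₀ i)) ?_
      (fun i => ?_) (fun i => ?_)
    · rw [IsOpenCover, eq_top_iff]
      intro y _
      obtain ⟨i, hi⟩ := hcover y
      exact Opens.mem_iSup.mpr ⟨i, hi⟩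
    · have := isAffineHom_genLocus_ι (hN i) (s₀ i)
      exact IsRetrocompact_iff_isSpectralMap_subtypeVal.mpr
        (CohB1.genLocus _ (s₀ i)).ι.isSpectralMap
    · have hsep : (CohB1.genLocus (N i) (s₀ i)).toScheme.IsSeparated :=
        isSeparated_of_isAmple (hamp' i)
      have hqs : QuasiSeparatedSpace ↥(CohB1.genLocus (N i) (s₀ i)).toScheme := inferInstance
      exact (isQuasiSeparated_iff_quasiSeparatedSpace _
        (CohB1.genLocus (N i) (s₀ i)).isOpen).mpr hqs
  refine ⟨hcX, fun x => ?_⟩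
  obtain ⟨i, hxV⟩ := hcover x
  obtain ⟨k, t, hxt, htaff⟩ := (hamp' i).2.2 ⟨x, hxV⟩
  obtain ⟨θ⟩ := nonempty_restrictTensorPowIso (CohB1.genLocus _ (s₀ i)).ι (hL i) (k + 1)
  have hA := isInvertible_tensorPow (hL i) (k + 1)
  obtain ⟨q, σ, hσ⟩ := exists_section_of_restrict_section (hN i) hA (s₀ i) (t ≫ θ.inv)
  have hloc : CohB1.genLocus _ (t ≫ θ.inv) = CohB1.genLocus _ t := genLocus_comp_iso t θ.symm
  rw [hloc] at hσ
  have hB : PicF.IsInvertible (CohB1.tensorMod (CohB1.tensorPow (L i) (k + 1))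
      (CohB1.tensorPow (N i) (q + 1))) :=
    isInvertible_tensorMod hA (isInvertible_tensorPow (hN i) _)
  have hg := genLocus_comp_iso σ (tensorPowOne _).symm
  rw [Iso.symm_hom] at hg
  refine ⟨_, 1, σ ≫ (tensorPowOne _).inv, hB, le_rfl, ?_, ?_⟩
  · rw [hg, hσ]; exact ⟨⟨x, hxV⟩, hxt, rfl⟩
  · rw [hg, hσ]; exact htaff.image_of_isOpenImmersion _

end Groth.Agent.Lib.Helper29.AmpFam
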