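import Groth.Agent.Lib.Helper29.EffC1
import Groth.Agent.Lib.Helper16.ReducedSub
import Groth.Agent.S1573
universe u
open CategoryTheory CategoryTheory.Limits AlgebraicGeometry TopologicalSpace Opposite

/-! # The complement of a dense affine open with factorial boundary is a Cartier divisor -/

namespace Groth.Agent.Lib.Helper29.EffC

variable {X : Scheme.{u}}

theorem isAffineHom_ι_of_inf (U : X.Opens)
    (hΔ : ∀ V : X.Opens, IsAffineOpen V → IsAffineOpen (U ⊓ V)) : IsAffineHom U.ι := by
  refine ⟨fun V hV => ?_⟩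
  rw [← Scheme.Hom.isAffineOpen_iff_of_isOpenImmersion U.ι,
    Scheme.Hom.image_preimage_eq_opensRange_inf, Scheme.Opens.opensRange_ι]
  exact hΔ V hV

/-- The reduced closed subscheme on the closure of a point is integral, with that point as its
generic point. -/
theorem isIntegral_subscheme_closure (ξ : X) :
    ∃ _ : IsIntegral (Scheme.IdealSheafData.vanishingIdeal
      (⟨closure {ξ}, isClosed_closure⟩ : Closeds X)).subscheme,
      (Scheme.IdealSheafData.vanishingIdeal
        (⟨closure {ξ}, isClosed_closure⟩ : Closeds X)).subschemeι (genericPoint _) = ξ := by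
  let Z : Closeds X := ⟨closure {ξ}, isClosed_closure⟩
  let I := Scheme.IdealSheafData.vanishingIdeal Z
  let i : I.subscheme ⟶ X := I.subschemeι
  have hred : IsReduced I.subscheme := Groth.Agent.Lib.Helper16.isReduced_subscheme_vanishingIdeal Z
  have hrange : Set.range i = closure {ξ} := by
    change Set.range I.subschemeι = _
    rw [Scheme.IdealSheafData.range_subschemeι, Scheme.IdealSheafData.coe_support_vanishingIdeal]
    rfl
  obtain ⟨ξ', hξ'⟩ : ξ ∈ Set.range i := by
    rw [hrange]
    exact subset_closure rfl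
  have hcl : closure ({ξ'} : Set I.subscheme) = Set.univ := by
    rw [i.isEmbedding.isInducing.closure_eq_preimage_closure_image, Set.image_singleton, hξ',
      ← hrange]
    exact Set.preimage_range _
  have hirr : IrreducibleSpace I.subscheme := by
    rw [irreducibleSpace_def]
    have h := (isIrreducible_singleton (x := ξ')).closure
    rw [hcl] at h
    exact h
  have hint : IsIntegral I.subscheme := isIntegral_of_irreducibleSpace_of_isReduced _
  refine ⟨hint, ?_⟩
  have hg : IsGenericPoint ξ' (Set.univ : Set I.subscheme) := hcl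
  have h1 : genericPoint I.subscheme = ξ' := ((genericPoint_spec I.subscheme).eq hg)
  change i (genericPoint I.subscheme) = ξ
  rw [h1, hξ']

theorem isEffCartierIdeal_finset_prod {ι : Type*} (F : Finset ι) (𝓘 : ι → X.IdealSheafData)
    (h : ∀ t ∈ F, BlowUp.IsEffCartierIdeal (𝓘 t)) :
    BlowUp.IsEffCartierIdeal (∏ t ∈ F, 𝓘 t) ∧
      ((∏ t ∈ F, 𝓘 t).support : Set X) = ⋃ t ∈ F, ((𝓘 t).support : Set X) := by
  classical
  induction F using Finset.induction_on with
  | empty =>
    refine ⟨?_, ?_⟩
    · rw [Finset.prod_empty, Scheme.IdealSheafData.one_eq_top]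
      exact Groth.Agent.Lib.Helper25.BlowUpUP.isEffCartierIdeal_top
    · rw [Finset.prod_empty, Scheme.IdealSheafData.one_eq_top, Scheme.IdealSheafData.support_top]
      simp
  | insert a F ha ih =>
    obtain ⟨h1, h2⟩ := ih (fun t ht => h t (Finset.mem_insert_of_mem ht))
    rw [Finset.prod_insert ha]
    refine ⟨Groth.Agent.Lib.Helper25.BlowUpUP.isEffCartierIdeal_mul _ _
      (h a (Finset.mem_insert_self a F)) h1, ?_⟩
    rw [Scheme.IdealSheafData.support_mul, Closeds.coe_sup, h2, Finset.set_biUnion_insert]

/-- **Complement of a dense affine open with factorial boundary**: it is the support of an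
effective Cartier divisor. -/
theorem exists_effCartier_compl [IsNoetherian X] (U : X.Opens) [IsAffineHom U.ι]
    (hdense : Dense (U : Set X))
    (hufd : ∀ x : X, x ∉ U →
      IsDomain (X.presheaf.stalk x) ∧ UniqueFactorizationMonoid (X.presheaf.stalk x)) :
    ∃ 𝓘 : X.IdealSheafData, BlowUp.IsEffCartierIdeal 𝓘 ∧ (𝓘.support : Set X) = (U : Set X)ᶜ := by
  classical
  by_cases hX : Nonempty X
  swap
  · exact ⟨⊤, Groth.Agent.Lib.Helper25.BlowUpUP.isEffCartierIdeal_top,
      by ext z; exact (hX ⟨z⟩).elim⟩
  obtain ⟨S, hSfin, hSclosed, hSirr, hS⟩ :=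
    NoetherianSpace.exists_finite_set_isClosed_irreducible (U.isOpen.isClosed_compl)
  -- generic points of the maximal members
  have hgen : ∀ t ∈ S, ∃ ξ : X, closure {ξ} = t := by
    intro t ht
    obtain ⟨ξ, hξ⟩ := QuasiSober.sober (hSirr t ht) (hSclosed t ht)
    exact ⟨ξ, hξ⟩
  let M : Set (Set X) := {m | Maximal (· ∈ S) m}
  have hMS : M ⊆ S := fun m hm => hm.1
  have hMfin : M.Finite := hSfin.subset hMS
  have hcov : (U : Set X)ᶜ = ⋃ m ∈ M, m := by
    apply Set.Subset.antisymm
    · intro z hz
      rw [hS] at hz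
      obtain ⟨t, ht, hzt⟩ := hz
      obtain ⟨m, htm, hm⟩ := hSfin.exists_le_maximal ht
      exact Set.mem_biUnion (show m ∈ M from hm) (htm hzt)
    · intro z hz
      obtain ⟨m, hm, hzm⟩ := Set.mem_iUnion₂.mp hz
      rw [hS]
      exact ⟨m, hMS hm, hzm⟩
  choose! ξ hξ using hgen
  -- each maximal member gives an effective Cartier divisor
  have key : ∀ m ∈ M, BlowUp.IsEffCartierIdeal (Scheme.IdealSheafData.vanishingIdeal
      (⟨closure {ξ m}, isClosed_closure⟩ : Closeds X)) := by
    intro m hm
    have hmS := hMS hm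
    have hcl := hξ m hmS
    obtain ⟨hint, hgp⟩ := isIntegral_subscheme_closure (ξ m)
    have hmU : m ⊆ (U : Set X)ᶜ := by
      rw [hS]; exact Set.subset_sUnion_of_mem hmS
    have hξU : ξ m ∉ U := by
      have : ξ m ∈ closure ({ξ m} : Set X) := subset_closure rfl
      rw [hcl] at this
      exact hmU this
    have hmax : ∀ y : X, y ∉ U → y ⤳ ξ m → y = ξ m := by
      intro y hy hspec
      have hirr : IsIrreducible (closure ({y} : Set X)) := isIrreducible_singleton.closure
      have hsub : closure ({y} : Set X) ⊆ ⋃₀ S := by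
        rw [← hS]
        exact (U.isOpen.isClosed_compl.closure_subset_iff).mpr (Set.singleton_subset_iff.mpr hy)
      obtain ⟨s, hsS, hys⟩ := (isIrreducible_iff_sUnion_isClosed.mp hirr)
        hSfin.toFinset (fun t ht => hSclosed t (hSfin.mem_toFinset.mp ht))
        (by simpa using hsub)
      have hsS' : s ∈ S := hSfin.mem_toFinset.mp hsS
      have hms : m ≤ s := by
        have h0 : closure ({ξ m} : Set X) ⊆ s := by
          refine ((isClosed_closure.closure_subset_iff).mpr ?_).trans hys
          rw [Set.singleton_subset_iff]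
          exact hspec.mem_closure
        rwa [hcl] at h0
      have hsm : s ≤ m := hm.2 hsS' hms
      have hy' : y ∈ closure ({ξ m} : Set X) := by
        rw [hcl]
        exact hsm (hys (subset_closure rfl))
      have h2 : ξ m ⤳ y := specializes_iff_mem_closure.mpr hy'
      exact (hspec.antisymm h2).eq
    have hcodim := (Groth.Agent.S1573.result X U (ξ m) hξU hmax).2 hdense
    refine @isEffCartierIdeal_of_integral_codim_one_ufd X _ _ hint ?_ ?_
    · rw [hgp]; exact hcodim
    · intro x hx
      apply hufd
      rw [← SetLike.mem_coe, Scheme.IdealSheafData.coe_support_vanishingIdeal] at hx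
      have hx' : x ∈ m := by
        have : x ∈ closure ({ξ m} : Set X) := hx
        rwa [hcl] at this
      exact hmU hx'
  obtain ⟨h1, h2⟩ := isEffCartierIdeal_finset_prod hMfin.toFinset
    (fun m => Scheme.IdealSheafData.vanishingIdeal (⟨closure {ξ m}, isClosed_closure⟩ : Closeds X))
    (fun m hm => key m (hMfin.mem_toFinset.mp hm))
  refine ⟨_, h1, ?_⟩
  rw [h2, hcov]
  ext z
  simp only [Set.mem_iUnion, Set.Finite.mem_toFinset, exists_prop]
  constructor
  · rintro ⟨m, hm, hz⟩
    rw [Scheme.IdealSheafData.coe_support_vanishingIdeal] at hz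
    refine ⟨m, hm, ?_⟩
    have : z ∈ closure ({ξ m} : Set X) := hz
    rwa [hξ m (hMS hm)] at this
  · rintro ⟨m, hm, hz⟩
    refine ⟨m, hm, ?_⟩
    rw [Scheme.IdealSheafData.coe_support_vanishingIdeal]
    show z ∈ closure ({ξ m} : Set X)
    rwa [hξ m (hMS hm)]

end Groth.Agent.Lib.Helper29.EffC
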