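import Groth.Agent.Lib.Helper29.TensorIso
import Mathlib.AlgebraicGeometry.Morphisms.Separated
import Mathlib.AlgebraicGeometry.QuasiAffine
universe u
open CategoryTheory CategoryTheory.Limits AlgebraicGeometry TopologicalSpace Opposite
open scoped TensorProduct

/-! # Loci `X_s` of sections of invertible modules: affineness, separatedness, ampleness -/

namespace Groth.Agent.Lib.Helper29.QCoh
variable {X : Scheme.{u}} {L L' : X.Modules}

theorem isAffineHom_genLocus_ι (hL : PicF.IsInvertible L) (s : unitM X ⟶ L) :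
    IsAffineHom (CohB1.genLocus L s).ι := by
  apply isAffineHom_of_forall_exists_isAffineOpen
  intro x
  obtain ⟨U, e, hU, hxU, -, he⟩ := exists_affine_isTriv hL (W := ⊤) x trivial
  obtain ⟨a, ha⟩ := he.exists_eq_smul (sval s U)
  refine ⟨U, hxU, hU, ?_⟩
  rw [← Scheme.Hom.isAffineOpen_iff_of_isOpenImmersion (CohB1.genLocus L s).ι,
    Scheme.Hom.image_preimage_eq_opensRange_inf, Scheme.Opens.opensRange_ι,
    he.genLocus_inf s a ha]
  exact hU.basicOpen a

/-- A scheme covered by affine opens with affine inclusion morphisms has affine diagonal. -/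
theorem isAffineHom_diagonal_of_cover {ι : Type*} (U : ι → X.Opens) (hU : IsOpenCover U)
    (haff : ∀ i, IsAffineOpen (U i)) (hι : ∀ i, IsAffineHom (U i).ι) :
    IsAffineHom (pullback.diagonal (terminal.from X)) := by
  let 𝒰 := X.openCoverOfIsOpenCover U hU
  have h1 : ∀ i, IsAffine (𝒰.X i) := fun i => haff i
  have hloc : AffineTargetMorphismProperty.IsLocal (fun X _ _ _ => IsAffine X) :=
    HasAffineProperty.isLocal_affineProperty @IsAffineHom
  have key : AffineTargetMorphismProperty.diagonal (fun X _ _ _ => IsAffine X)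
      (terminal.from X) := by
    refine AffineTargetMorphismProperty.diagonal_of_openCover_source (terminal.from X) 𝒰
      fun i j => ?_
    have : IsAffineHom (𝒰.f i) := hι i
    have : IsAffine (𝒰.X j) := h1 j
    change IsAffine (pullback (𝒰.f i) (𝒰.f j))
    infer_instance
  exact (HasAffineProperty.diagonal_iff (P := @IsAffineHom)).mp key

/-- The section map of `s` is bijective over every open contained in `X_s`. -/
theorem app_bijective_of_le_genLocus (s : unitM X ⟶ L) {W : X.Opens}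
    (hW : W ≤ CohB1.genLocus L s) : Function.Bijective (s.app W) := by
  have := bijective_of_forall_basis (M := unitM X) (N := L) (U := CohB1.genLocus L s)
    (fun W' => ∀ W'' : X.Opens, W'' ≤ W' → Function.Bijective (s.app W''))
    (fun W hW x hx => ?_) (fun W _ => (appₗ s W).toAddMonoidHom)
    (fun W W' h h' m => app_res s h' m) (fun W h hB => hB W le_rfl) W hW
  · exact this
  · obtain ⟨U, hxU, hU⟩ := (mem_genLocus_iff s x).mp (hW hx)
    exact ⟨W ⊓ U, inf_le_left, ⟨hx, hxU⟩, fun W'' hW'' => hU W'' (hW''.trans inf_le_right)⟩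

theorem isTriv_sval_of_le_genLocus (s : unitM X ⟶ L) {U : X.Opens}
    (hU : U ≤ CohB1.genLocus L s) : IsTriv L U (sval s U) := by
  intro W hW
  have hb := app_bijective_of_le_genLocus s (hW.trans hU)
  have : (fun r : Γ(X, W) => r • QCoh.res L hW (sval s U)) = fun r => s.app W (toUnit r) := by
    funext r
    rw [app_eq_smul_sval, res_sval]
  rw [this]
  exact hb

theorem exists_section_of_iso {M M' : X.Modules} (ε : M ≅ M') (s : unitM X ⟶ M) :
    ∃ s' : unitM X ⟶ M', CohB1.genLocus M' s' = CohB1.genLocus M s :=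
  ⟨s ≫ ε.hom, genLocus_comp_iso s ε⟩

theorem exists_section_of_eq (L : X.Modules) {a b : ℕ} (h : a = b)
    (s : unitM X ⟶ CohB1.tensorPow L a) :
    ∃ s' : unitM X ⟶ CohB1.tensorPow L b, CohB1.genLocus _ s' = CohB1.genLocus _ s := by
  subst h; exact ⟨s, rfl⟩

theorem exists_pow_section (hL : PicF.IsInvertible L) {a : ℕ} (s : unitM X ⟶ CohB1.tensorPow L a)
    (b c : ℕ) (hb : 0 < b) (hc : a * b = c) :
    ∃ s' : unitM X ⟶ CohB1.tensorPow L c, CohB1.genLocus _ s' = CohB1.genLocus _ s := by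
  obtain ⟨b, rfl⟩ := Nat.exists_eq_succ_of_ne_zero hb.ne'
  obtain ⟨s₁, h₁⟩ := exists_section_of_iso (tensorPowMul L a (b + 1)) (SecTwist.powHom s (b + 1))
  obtain ⟨s₂, h₂⟩ := exists_section_of_eq L hc s₁
  exact ⟨s₂, by rw [h₂, h₁, genLocus_powHom (isInvertible_tensorPow hL a)]⟩

theorem exists_mul_section (hL : PicF.IsInvertible L) {a b : ℕ}
    (s : unitM X ⟶ CohB1.tensorPow L a) (s' : unitM X ⟶ CohB1.tensorPow L b) (c : ℕ)
    (hc : a + b = c) :
    ∃ s'' : unitM X ⟶ CohB1.tensorPow L c,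
      CohB1.genLocus _ s'' = CohB1.genLocus _ s ⊓ CohB1.genLocus _ s' := by
  obtain ⟨s₁, h₁⟩ := exists_section_of_iso (tensorPowAdd L a b) (SecTwist.tmulHom s s')
  obtain ⟨s₂, h₂⟩ := exists_section_of_eq L hc s₁
  exact ⟨s₂, by rw [h₂, h₁, genLocus_tmulHom (isInvertible_tensorPow hL a)
    (isInvertible_tensorPow hL b)]⟩

/-- Two sections of positive powers of `L` can be replaced by sections of a common power. -/
theorem exists_common_power (hL : PicF.IsInvertible L) {n m : ℕ}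
    (s : unitM X ⟶ CohB1.tensorPow L (n + 1)) (s' : unitM X ⟶ CohB1.tensorPow L (m + 1)) :
    ∃ (N : ℕ) (u v : unitM X ⟶ CohB1.tensorPow L (N + 1)),
      CohB1.genLocus _ u = CohB1.genLocus _ s ∧ CohB1.genLocus _ v = CohB1.genLocus _ s' := by
  obtain ⟨u, hu⟩ := exists_pow_section hL s (m + 1) (n * m + n + m + 1) (Nat.succ_pos _) (by ring)
  obtain ⟨v, hv⟩ := exists_pow_section hL s' (n + 1) (n * m + n + m + 1) (Nat.succ_pos _) (by ring)
  exact ⟨n * m + n + m, u, v, hu, hv⟩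

theorem appLE_congr_hom {X Y : Scheme.{u}} {f g : X ⟶ Y} (h : f = g) (U : Y.Opens) (V : X.Opens)
    (e : V ≤ f ⁻¹ᵁ U) : f.appLE U V e = g.appLE U V (h ▸ e) := by
  subst h; rfl

theorem id_appLE (X : Scheme.{u}) (U V : X.Opens) (e : V ≤ (𝟙 X) ⁻¹ᵁ U) :
    (𝟙 X : X ⟶ X).appLE U V e = X.presheaf.map (homOfLE (show V ≤ U from e)).op := by
  simp only [Scheme.Hom.appLE, Scheme.Hom.id_app]
  rfl

/-- Separatedness criterion in terms of a cover by affine opens. -/
theorem isSeparated_of_cover {ι : Type u} (W : ι → X.Opens) (hW : IsOpenCover W)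
    (haff : ∀ i, IsAffineOpen (W i)) (hinf : ∀ i j, IsAffineOpen (W i ⊓ W j))
    (hgen : ∀ i j (z : Γ(X, W i ⊓ W j)), ∃ (x : Γ(X, W i)) (b : Γ(X, W j)) (n : ℕ),
      z = rres X inf_le_left x * (rres X inf_le_right b) ^ n) :
    X.IsSeparated := by
  constructor
  constructor
  let t := terminal.from X
  let p₁ : pullback t t ⟶ X := pullback.fst t t
  let p₂ : pullback t t ⟶ X := pullback.snd t t
  let Δ : X ⟶ pullback t t := pullback.diagonal t
  have hΔ₁ : Δ ≫ p₁ = 𝟙 X := pullback.diagonal_fst t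
  have hΔ₂ : Δ ≫ p₂ = 𝟙 X := pullback.diagonal_snd t
  let T : ι × ι → (pullback t t).Opens := fun k => p₁ ⁻¹ᵁ W k.1 ⊓ p₂ ⁻¹ᵁ W k.2
  -- (B1)
  have hT : ∀ k, IsAffineOpen (T k) := by
    intro k
    have : IsAffine (W k.1) := haff k.1
    have : IsAffine (W k.2) := haff k.2
    let m := pullback.map ((W k.1).ι ≫ t) ((W k.2).ι ≫ t) t t (W k.1).ι (W k.2).ι (𝟙 _)
      (by simp) (by simp)
    have hm : m.opensRange = T k := by
      ext z
      simp only [Scheme.Hom.coe_opensRange, T]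
      rw [Scheme.Pullback.range_map]
      simp [p₁, p₂]
    rw [← hm]
    exact isAffineOpen_opensRange m
  -- (B2)
  have hTcov : ⨆ k, ((⟨T k, hT k⟩ : (pullback t t).affineOpens) : (pullback t t).Opens) = ⊤ := by
    rw [eq_top_iff]
    intro z _
    have h1 : p₁ z ∈ (⊤ : X.Opens) := trivial
    have h2 : p₂ z ∈ (⊤ : X.Opens) := trivial
    rw [← hW.iSup_eq_top] at h1 h2
    obtain ⟨i, hi⟩ := Opens.mem_iSup.mp h1
    obtain ⟨j, hj⟩ := Opens.mem_iSup.mp h2
    exact Opens.mem_iSup.mpr ⟨(i, j), hi, hj⟩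
  -- (B3)
  have hpre : ∀ k, Δ ⁻¹ᵁ T k = W k.1 ⊓ W k.2 := by
    intro k
    change Δ ⁻¹ᵁ (p₁ ⁻¹ᵁ W k.1 ⊓ p₂ ⁻¹ᵁ W k.2) = _
    rw [Scheme.Hom.preimage_inf, ← Scheme.Hom.comp_preimage, ← Scheme.Hom.comp_preimage, hΔ₁, hΔ₂]
    rfl
  -- (B4)
  have hsurj : ∀ (k : ι × ι) (T' : (pullback t t).Opens) (V : X.Opens) (e : V ≤ Δ ⁻¹ᵁ T'),
      T' = T k → V = W k.1 ⊓ W k.2 → Function.Surjective (Δ.appLE T' V e) := by
    rintro k T' V e rfl rfl
    intro z
    obtain ⟨x, b, n, rfl⟩ := hgen k.1 k.2 z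
    have e₁ : T k ≤ p₁ ⁻¹ᵁ W k.1 := inf_le_left
    have e₂ : T k ≤ p₂ ⁻¹ᵁ W k.2 := inf_le_right
    refine ⟨(p₁.appLE (W k.1) (T k) e₁).hom x * ((p₂.appLE (W k.2) (T k) e₂).hom b) ^ n, ?_⟩
    have h1 : (Δ.appLE (T k) (W k.1 ⊓ W k.2) e).hom ((p₁.appLE (W k.1) (T k) e₁).hom x) =
        rres X inf_le_left x := by
      have := Scheme.Hom.appLE_comp_appLE Δ p₁ (W k.1) (T k) (W k.1 ⊓ W k.2) e₁ e
      rw [appLE_congr_hom hΔ₁, id_appLE] at this
      exact congrArg (fun φ => φ.hom x) this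
    have h2 : (Δ.appLE (T k) (W k.1 ⊓ W k.2) e).hom ((p₂.appLE (W k.2) (T k) e₂).hom b) =
        rres X inf_le_right b := by
      have := Scheme.Hom.appLE_comp_appLE Δ p₂ (W k.2) (T k) (W k.1 ⊓ W k.2) e₂ e
      rw [appLE_congr_hom hΔ₂, id_appLE] at this
      exact congrArg (fun φ => φ.hom b) this
    change (Δ.appLE (T k) (W k.1 ⊓ W k.2) e).hom _ = _
    rw [map_mul, map_pow, h1, h2]
  -- (B5)
  refine HasAffineProperty.of_iSup_eq_top (P := @IsClosedImmersion)
    (fun k => (⟨T k, hT k⟩ : (pullback t t).affineOpens)) hTcov fun k => ?_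
  constructor
  · change IsAffineOpen (Δ ⁻¹ᵁ T k)
    rw [hpre k]
    exact hinf k.1 k.2
  · change Function.Surjective ((Δ ∣_ T k).app ⊤)
    rw [morphismRestrict_app']
    refine hsurj k _ _ _ (T k).ι_image_top ?_
    rw [Scheme.Hom.preimage_top, Scheme.Opens.ι_image_top, hpre k]

theorem rres_self (X : Scheme.{u}) {U : X.Opens} (r : Γ(X, U)) : rres X le_rfl r = r := by
  change (X.presheaf.map (𝟙 _)).hom r = r
  rw [X.presheaf.map_id]; rfl

theorem rres_eq_bijective (X : Scheme.{u}) {U V : X.Opens} (h : V = U) :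
    Function.Bijective (rres X h.le) := by
  subst h
  exact ⟨fun a b hab => by simpa [rres_self] using hab, fun a => ⟨a, rres_self X a⟩⟩

theorem exists_eq_mul_pow_aux {M : X.Modules} (u v : unitM X ⟶ M) {W W' : X.Opens}
    (hu : IsAffineOpen W) (hT : IsTriv M W (sval u W)) (hT' : IsTriv M W' (sval v W'))
    (hDD : ∀ a : Γ(X, W), sval v W = a • sval u W → W ⊓ W' = X.basicOpen a)
    (z : Γ(X, W ⊓ W')) :
    ∃ (x : Γ(X, W)) (b : Γ(X, W')) (n : ℕ),
      z = rres X inf_le_left x * (rres X inf_le_right b) ^ n := by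
  obtain ⟨a, ha⟩ := hT.exists_eq_smul (sval v W)
  obtain ⟨b, hb⟩ := hT'.exists_eq_smul (sval u W')
  have hD : W ⊓ W' = X.basicOpen a := hDD a ha
  -- a * b = 1 on the intersection
  have hab : rres X (inf_le_left : W ⊓ W' ≤ W) a * rres X (inf_le_right : W ⊓ W' ≤ W') b = 1 := by
    apply (hT' (W ⊓ W') inf_le_right).1
    change (rres X inf_le_left a * rres X inf_le_right b) • QCoh.res M inf_le_right (sval v W') =
      (1 : Γ(X, W ⊓ W')) • QCoh.res M inf_le_right (sval v W')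
    rw [one_smul, mul_smul, ← res_smul', ← hb, res_sval, ← res_sval u (inf_le_left : W ⊓ W' ≤ W),
      ← res_smul', ← ha, res_sval, res_sval]
  -- localisation
  have hloc := hu.isLocalization_basicOpen a
  let z' : Γ(X, X.basicOpen a) := rres X hD.ge z
  obtain ⟨⟨x, ⟨_, n, rfl⟩⟩, hx⟩ := IsLocalization.surj (Submonoid.powers a) z'
  refine ⟨x, b, n, ?_⟩
  apply (rres_eq_bijective X hD.symm).1
  have hx' : z' * (rres X (X.basicOpen_le a) a) ^ n = rres X (X.basicOpen_le a) x := by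
    rw [← map_pow]; exact hx
  have hab' : rres X (X.basicOpen_le a) a * rres X (hD.ge.trans inf_le_right) b = 1 := by
    have := congrArg (rres X hD.ge) hab
    rw [map_mul, map_one, rres_rres, rres_rres] at this
    exact this
  rw [map_mul, map_pow, rres_rres, rres_rres]
  change z' = _
  calc z' = z' * (rres X (X.basicOpen_le a) a * rres X (hD.ge.trans inf_le_right) b) ^ n := by
        rw [hab', one_pow, mul_one]
    _ = (z' * (rres X (X.basicOpen_le a) a) ^ n) * (rres X (hD.ge.trans inf_le_right) b) ^ n := by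
        rw [mul_pow, mul_assoc]
    _ = _ := by rw [hx']

/-- For two sections `u`, `v` of the same module with `X_u` affine, every function on
`X_u ∩ X_v` is of the form `x · bⁿ` with `x` a function on `X_u` and `b` a function on `X_v`. -/
theorem exists_eq_mul_pow_of_genLocus {M : X.Modules} (u v : unitM X ⟶ M)
    (hu : IsAffineOpen (CohB1.genLocus M u))
    (z : Γ(X, CohB1.genLocus M u ⊓ CohB1.genLocus M v)) :
    ∃ (x : Γ(X, CohB1.genLocus M u)) (b : Γ(X, CohB1.genLocus M v)) (n : ℕ),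
      z = rres X inf_le_left x * (rres X inf_le_right b) ^ n := by
  have hT := isTriv_sval_of_le_genLocus u (le_refl (CohB1.genLocus M u))
  refine exists_eq_mul_pow_aux u v hu hT
    (isTriv_sval_of_le_genLocus v le_rfl) (fun a ha => ?_) z
  rw [inf_comm]
  exact hT.genLocus_inf v a ha


theorem exists_eq_mul_pow_of_eq {M : X.Modules} (u v : unitM X ⟶ M) {W W' : X.Opens}
    (hu : CohB1.genLocus M u = W) (hv : CohB1.genLocus M v = W') (haff : IsAffineOpen W)
    (z : Γ(X, W ⊓ W')) :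
    ∃ (x : Γ(X, W)) (b : Γ(X, W')) (n : ℕ),
      z = rres X inf_le_left x * (rres X inf_le_right b) ^ n := by
  subst hu hv
  exact exists_eq_mul_pow_of_genLocus u v haff z

theorem isAffineOpen_genLocus_inf {M : X.Modules} (u v : unitM X ⟶ M)
    (hu : IsAffineOpen (CohB1.genLocus M u)) :
    IsAffineOpen (CohB1.genLocus M u ⊓ CohB1.genLocus M v) := by
  have hT := isTriv_sval_of_le_genLocus u (le_refl (CohB1.genLocus M u))
  obtain ⟨a, ha⟩ := hT.exists_eq_smul (sval v (CohB1.genLocus M u))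
  rw [inf_comm, hT.genLocus_inf v a ha]
  exact hu.basicOpen a

/-- **A scheme covered by affine opens `X_s`, `s` sections of positive powers of an invertible
module, is separated.** -/
theorem isSeparated_of_affine_genLocus_cover (hL : PicF.IsInvertible L)
    (h : ∀ x : X, ∃ (n : ℕ) (s : unitM X ⟶ CohB1.tensorPow L (n + 1)),
      x ∈ CohB1.genLocus _ s ∧ IsAffineOpen (CohB1.genLocus _ s)) : X.IsSeparated := by
  choose n s hx haff using h
  refine isSeparated_of_cover (ι := X) (fun x => CohB1.genLocus _ (s x)) ?_ haff ?_ ?_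
  · refine IsOpenCover.mk (eq_top_iff.mpr fun x _ => Opens.mem_iSup.mpr ⟨x, hx x⟩)
  · intro x y
    obtain ⟨N, u, v, hu, hv⟩ := exists_common_power hL (s x) (s y)
    rw [← hu, ← hv]
    exact isAffineOpen_genLocus_inf u v (hu ▸ haff x)
  · intro x y z
    obtain ⟨N, u, v, hu, hv⟩ := exists_common_power hL (s x) (s y)
    exact exists_eq_mul_pow_of_eq u v hu hv (haff x) z

theorem sval_homOfSection (N : X.Modules) (t : Γ(N, ⊤)) (U : X.Opens) :
    sval (homOfSection N t) U = QCoh.res N le_top t := by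
  rw [← res_sval (homOfSection N t) (le_top : U ≤ ⊤)]
  congr 1
  exact homOfSection_app_one N t

/-- On a qcqs scheme, every basic open of a function on `X_{s₀}` (`s₀` a section of a positive
power of an invertible `L`) is again of the form `X_s`. -/
theorem exists_genLocus_eq_basicOpen [CompactSpace X] [QuasiSeparatedSpace X]
    (hL : PicF.IsInvertible L) {n₀ : ℕ} (s₀ : unitM X ⟶ CohB1.tensorPow L (n₀ + 1))
    (f : Γ(X, CohB1.genLocus _ s₀)) :
    ∃ (k : ℕ) (s : unitM X ⟶ CohB1.tensorPow L (k + 1)), CohB1.genLocus _ s = X.basicOpen f := by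
  have hq := isQuasicoherent_of_isInvertible hL
  have hM := isInvertible_tensorPow hL (n₀ + 1)
  have hqM := isQuasicoherent_of_isInvertible hM
  obtain ⟨N, hN, t', ht'⟩ := exists_extension_tmulSec_pow hM s₀ (unitM X) (toUnit f)
  have hTW := isTriv_sval_of_le_genLocus s₀ (le_refl (CohB1.genLocus _ s₀))
  have hT1 := (isTriv_unit (X := X) (CohB1.genLocus _ s₀)).tensor (hTW.epow N)
  have hsv : sval (homOfSection _ t') (CohB1.genLocus _ s₀) =
      f • tmulSec (unitM X) (CohB1.tensorPow (CohB1.tensorPow L (n₀ + 1)) N) (toUnit 1)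
        (epow _ (sval s₀ (CohB1.genLocus _ s₀)) N) := by
    rw [sval_homOfSection, ht', ← tmulSec_smul_left, ← toUnit_eq_smul_one]
  have h1 := hT1.genLocus_inf (homOfSection _ t') f hsv
  have hinvσ : PicF.IsInvertible (CohB1.tensorMod (unitM X)
      (CohB1.tensorPow (CohB1.tensorPow L (n₀ + 1)) N)) :=
    isInvertible_tensorMod (isInvertible_unit X) (isInvertible_tensorPow hM N)
  have h2 := genLocus_tmulHom hinvσ hM (homOfSection _ t') s₀
  rw [h1] at h2
  -- transport to a power of `L`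
  obtain ⟨s₁, hs₁⟩ := exists_section_of_iso
    (tensorCongr (tensorUnitL (CohB1.tensorPow (CohB1.tensorPow L (n₀ + 1)) N))
      (Iso.refl (CohB1.tensorPow L (n₀ + 1))))
    (SecTwist.tmulHom (homOfSection _ t') s₀)
  obtain ⟨s₂, hs₂⟩ := exists_section_of_iso (tensorPowMul L (n₀ + 1) (N + 1)) s₁
  obtain ⟨s₃, hs₃⟩ := exists_section_of_eq L
    (show (n₀ + 1) * (N + 1) = (n₀ * N + n₀ + N) + 1 by ring) s₂
  exact ⟨_, s₃, (hs₃.trans hs₂).trans (hs₁.trans h2)⟩

/-- The set of opens of the form `X_s`, `s` a section of a positive power of `L`. -/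
def lociSet (L : X.Modules) : Set X.Opens :=
  {U | ∃ (n : ℕ) (s : unitM X ⟶ CohB1.tensorPow L (n + 1)), U = CohB1.genLocus _ s}

theorem isSeparated_of_isAmple (hA : CohB1.IsAmple L) : X.IsSeparated :=
  isSeparated_of_affine_genLocus_cover hA.1 hA.2.2

/-- For an ample `L`, the affine opens `X_s` form a basis. -/
theorem exists_affine_genLocus_nhd (hA : CohB1.IsAmple L) {U : X.Opens} {x : X} (hx : x ∈ U) :
    ∃ (k : ℕ) (s : unitM X ⟶ CohB1.tensorPow L (k + 1)), x ∈ CohB1.genLocus _ s ∧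
      CohB1.genLocus _ s ≤ U ∧ IsAffineOpen (CohB1.genLocus _ s) := by
  have hsep := isSeparated_of_isAmple hA
  obtain ⟨hL, hc, h⟩ := hA
  obtain ⟨n₀, s₀, hx₀, haff⟩ := h x
  obtain ⟨f, hfU, hxf⟩ := haff.exists_basicOpen_le ⟨x, hx⟩ hx₀
  obtain ⟨k, s, hs⟩ := exists_genLocus_eq_basicOpen hL s₀ f
  exact ⟨k, s, hs ▸ hxf, hs ▸ hfU, hs ▸ haff.basicOpen f⟩

/-- If the `X_s` form a basis then so do the affine ones among them. -/
theorem affine_lociSet_isBasis (hL : PicF.IsInvertible L) (hB : Opens.IsBasis (lociSet L)) :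
    Opens.IsBasis {U : X.Opens | IsAffineOpen U ∧ U ∈ lociSet L} := by
  have hq := isQuasicoherent_of_isInvertible hL
  rw [Opens.isBasis_iff_nbhd] at hB ⊢
  intro U x hx
  obtain ⟨V, e, hV, hxV, hVU, he⟩ := exists_affine_isTriv hL x hx
  obtain ⟨U', ⟨n, s, rfl⟩, hxU', hU'V⟩ := hB hxV
  obtain ⟨a, ha⟩ := (he.epow (n + 1)).exists_eq_smul (sval s V)
  have h1 := (he.epow (n + 1)).genLocus_inf s a ha
  rw [inf_eq_left.mpr hU'V] at h1
  refine ⟨_, ⟨?_, n, s, rfl⟩, hxU', hU'V.trans hVU⟩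
  rw [h1]
  exact hV.basicOpen a

theorem isAmple_iff_lociSet_isBasis [CompactSpace X] (hL : PicF.IsInvertible L) :
    CohB1.IsAmple L ↔ Opens.IsBasis (lociSet L) := by
  constructor
  · intro hA
    rw [Opens.isBasis_iff_nbhd]
    intro U x hx
    obtain ⟨k, s, hxs, hsU, -⟩ := exists_affine_genLocus_nhd hA hx
    exact ⟨_, ⟨k, s, rfl⟩, hxs, hsU⟩
  · intro hB
    refine ⟨hL, inferInstance, fun x => ?_⟩
    have hB' := affine_lociSet_isBasis hL hB
    rw [Opens.isBasis_iff_nbhd] at hB'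
    obtain ⟨U', ⟨haff, n, s, rfl⟩, hx, -⟩ := hB' (U := ⊤) (x := x) trivial
    exact ⟨n, s, hx, haff⟩

theorem genLocus_homOfSection_smul (hL : PicF.IsInvertible L) (r : Γ(X, ⊤)) (t : Γ(L, ⊤)) :
    CohB1.genLocus L (homOfSection L (r • t)) =
      X.basicOpen r ⊓ CohB1.genLocus L (homOfSection L t) := by
  ext x
  obtain ⟨U, e, hxU, he⟩ := exists_isTriv hL x
  obtain ⟨a, ha⟩ := he.exists_eq_smul (sval (homOfSection L t) U)
  have ha' : sval (homOfSection L (r • t)) U = (rres X le_top r * a) • e := by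
    rw [sval_homOfSection, res_smul', ← sval_homOfSection, ha, mul_smul]
  simp only [SetLike.mem_coe, Opens.coe_inf, Set.mem_inter_iff]
  rw [mem_genLocus_iff_of_isTriv _ he _ ha' x hxU, mem_genLocus_iff_of_isTriv _ he _ ha x hxU,
    Scheme.basicOpen_mul]
  have h2 : X.basicOpen (rres X (le_top : U ≤ ⊤) r) = U ⊓ X.basicOpen r :=
    X.basicOpen_res r (homOfLE le_top).op
  rw [h2]
  constructor
  · rintro ⟨⟨-, h⟩, h'⟩
    exact ⟨h, h'⟩
  · rintro ⟨h, h'⟩
    exact ⟨⟨hxU, h⟩, h'⟩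

/-- On a qcqs scheme, for `L` invertible trivialised by `e` over `V ⊇ D(r)`, `r` a global
function, there is a global section `σ` of `L` with `X_σ = D(r)`. -/
theorem exists_section_genLocus_eq_basicOpen [CompactSpace X] [QuasiSeparatedSpace X]
    (hL : PicF.IsInvertible L) {V : X.Opens} {e : Γ(L, V)} (he : IsTriv L V e) (r : Γ(X, ⊤))
    (hr : X.basicOpen r ≤ V) :
    ∃ σ : unitM X ⟶ L, CohB1.genLocus L σ = X.basicOpen r := by
  have hq := isQuasicoherent_of_isInvertible hL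
  obtain ⟨n, t, ht⟩ := exists_pow_smul_eq_res_of_qcqs L (U := ⊤) isCompact_univ
    isQuasiSeparated_univ r (QCoh.res L hr e)
  refine ⟨homOfSection L (r • t), ?_⟩
  rw [genLocus_homOfSection_smul hL]
  refine inf_eq_left.mpr ?_
  -- on `D(r)`, `t = r^n e` with `r` a unit
  have heD := he.restrict hr
  have ha : sval (homOfSection L t) (X.basicOpen r) =
      (rres X (X.basicOpen_le r) r) ^ n • QCoh.res L hr e := by
    rw [sval_homOfSection]; exact ht.symm
  have := heD.genLocus_inf (homOfSection L t) _ ha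
  have hunit : IsUnit ((rres X (X.basicOpen_le r) r) ^ n) :=
    (RingedSpace.isUnit_res_basicOpen _ r).pow n
  rw [X.basicOpen_of_isUnit hunit] at this
  exact inf_eq_right.mp this

theorem isAmple_of_isQuasiAffine [X.IsQuasiAffine] (hL : PicF.IsInvertible L) :
    CohB1.IsAmple L := by
  refine ⟨hL, inferInstance, fun x => ?_⟩
  obtain ⟨V, e, -, hxV, -, he⟩ := exists_affine_isTriv hL (W := ⊤) x trivial
  obtain ⟨_, ⟨r, hr, rfl⟩, hxr, hrV⟩ :=
    Opens.isBasis_iff_nbhd.mp (Scheme.IsQuasiAffine.isBasis_basicOpen X) hxV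
  obtain ⟨σ, hσ⟩ := exists_section_genLocus_eq_basicOpen hL he r hrV
  obtain ⟨s, hs⟩ := exists_section_of_iso (tensorPowOne L).symm σ
  exact ⟨0, s, by rw [hs, hσ]; exact hxr, by rw [hs, hσ]; exact hr⟩

noncomputable def tensorPowUnit (X : Scheme.{u}) : (n : ℕ) → (CohB1.tensorPow (unitM X) n ≅ unitM X)
  | 0 => Iso.refl _
  | n + 1 => tensorCongr (tensorPowUnit X n) (Iso.refl _) ≪≫ tensorUnitR _

theorem genLocus_unit (φ : unitM X ⟶ unitM X) :
    CohB1.genLocus (unitM X) φ = X.basicOpen (fromUnit (sval φ ⊤)) := by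
  have h := (isTriv_unit (X := X) ⊤).genLocus_inf φ (fromUnit (sval φ ⊤))
    (toUnit_eq_smul_one (fromUnit (sval φ ⊤)))
  rw [inf_top_eq] at h
  exact h

/-- Common powers of sections of two different invertible modules. -/
theorem exists_tensor_section (hL : PicF.IsInvertible L) (hL' : PicF.IsInvertible L') {n m : ℕ}
    (s : unitM X ⟶ CohB1.tensorPow L (n + 1)) (s' : unitM X ⟶ CohB1.tensorPow L' (m + 1)) :
    ∃ (N : ℕ) (σ : unitM X ⟶ CohB1.tensorPow (CohB1.tensorMod L L') (N + 1)),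
      CohB1.genLocus _ σ = CohB1.genLocus _ s ⊓ CohB1.genLocus _ s' := by
  obtain ⟨u, hu⟩ := exists_pow_section hL s (m + 1) (n * m + n + m + 1) (Nat.succ_pos _) (by ring)
  obtain ⟨v, hv⟩ := exists_pow_section hL' s' (n + 1) (n * m + n + m + 1) (Nat.succ_pos _)
    (by ring)
  obtain ⟨σ, hσ⟩ := exists_section_of_iso (tensorPowTensor L L' (n * m + n + m + 1)).symm
    (SecTwist.tmulHom u v)
  refine ⟨n * m + n + m, σ, ?_⟩
  rw [hσ, genLocus_tmulHom (isInvertible_tensorPow hL _) (isInvertible_tensorPow hL' _), hu, hv]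

theorem isAmple_tensorMod_of_covering (hA : CohB1.IsAmple L) (hL' : PicF.IsInvertible L')
    (h : ∀ x : X, ∃ (n : ℕ) (s' : unitM X ⟶ CohB1.tensorPow L' (n + 1)),
      x ∈ CohB1.genLocus _ s') : CohB1.IsAmple (CohB1.tensorMod L L') := by
  refine ⟨isInvertible_tensorMod hA.1 hL', hA.2.1, fun x => ?_⟩
  obtain ⟨n, s', hx'⟩ := h x
  obtain ⟨k, s, hxs, hle, haff⟩ := exists_affine_genLocus_nhd hA hx'
  obtain ⟨N, σ, hσ⟩ := exists_tensor_section hA.1 hL' s s'
  rw [inf_eq_left.mpr hle] at hσ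
  exact ⟨N, σ, hσ ▸ hxs, hσ ▸ haff⟩

theorem isQuasiAffine_of_ample_inverse [CompactSpace X] (hinv : ClSub.IsInverseOf L L')
    (hA : CohB1.IsAmple L) (hA' : CohB1.IsAmple L') : X.IsQuasiAffine := by
  obtain ⟨ε⟩ := hinv
  refine Scheme.IsQuasiAffine.of_forall_exists_mem_basicOpen X fun x => ?_
  obtain ⟨n, s, hxs, -, haff⟩ := exists_affine_genLocus_nhd hA (U := ⊤) (x := x) trivial
  obtain ⟨m, s', hxs', hle, haff'⟩ := exists_affine_genLocus_nhd hA' hxs
  obtain ⟨N, σ, hσ⟩ := exists_tensor_section hA.1 hA'.1 s s'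
  rw [inf_eq_right.mpr hle] at hσ
  obtain ⟨φ, hφ⟩ := exists_section_of_iso (tensorPowCongr ε (N + 1) ≪≫ tensorPowUnit X (N + 1)) σ
  rw [genLocus_unit, hσ] at hφ
  exact ⟨fromUnit (sval φ ⊤), hφ ▸ haff', hφ ▸ hxs'⟩

end Groth.Agent.Lib.Helper29.QCoh
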