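import Groth.Agent.Lib.Helper29.Segre5
import Groth.Prelude.Def_ProjUP
universe u
open CategoryTheory CategoryTheory.Limits AlgebraicGeometry Opposite TopologicalSpace

/-! # Very ample ⊗ globally generated is very ample -/

namespace Groth.Agent.Lib.Helper29.QCoh

section VAGG
variable {X S : Scheme.{u}}

theorem isInvertible_twistOver (n : ℕ) (S : Scheme.{u}) (d : ℤ) :
    PicF.IsInvertible (Twist.twistOver n S d) :=
  isInvertible_pullback _ (isInvertible_twist_projSpace n (ULift.{u} ℤ) d)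

theorem isRelVeryAmplePn_tensorMod_of_generatedBy (q : X ⟶ S)
    (L L' : X.Modules) (hva : RelAmple.IsRelVeryAmplePn q L)
    (hL' : PicF.IsInvertible L') {m : ℕ} (s : Fin m → Γ(L', ⊤))
    (hs : ∀ x : X, Submodule.span (X.presheaf.stalk x)
      (Set.range fun i => (L'.presheaf.germ ⊤ x trivial).hom (s i)) = ⊤) :
    RelAmple.IsRelVeryAmplePn q (CohB1.tensorMod L L') := by
  obtain ⟨n, i, hi, hiq, ⟨ιL⟩⟩ := hva
  let σ : Fin (m + 1) → Γ(L', ⊤) := fun j => if h : (j : ℕ) < m then s ⟨j, h⟩ else 0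
  have hσ : ∀ x : X, Submodule.span (X.presheaf.stalk x)
      (Set.range fun j => (L'.presheaf.germ ⊤ x trivial).hom (σ j)) = ⊤ := by
    intro x
    rw [eq_top_iff, ← hs x]
    apply Submodule.span_mono
    rintro _ ⟨j, rfl⟩
    refine ⟨j.castSucc, ?_⟩
    simp [σ]
  obtain ⟨r, hr, τ, -⟩ := exists_to_projSpace (R := ULift.{u} ℤ) m (specULiftZIsTerminal.from X)
    L' hL' σ hσ
  let j : X ⟶ pullback (CohB1.ProjSpace.toSpec m (ULift.{u} ℤ)) (specULiftZIsTerminal.from S) :=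
    pullback.lift r q (specULiftZIsTerminal.hom_ext _ _)
  have hj1 : j ≫ pullback.fst _ _ = r := pullback.lift_fst _ _ _
  have hj2 : j ≫ pullback.snd _ _ = q := pullback.lift_snd _ _ _
  let ψ : X ⟶ pullback (CohB1.ProjSpaceOver.toBase n S) (CohB1.ProjSpaceOver.toBase m S) :=
    pullback.lift i j (hiq.trans hj2.symm)
  have hψ1 : ψ ≫ pullback.fst _ _ = i := pullback.lift_fst _ _ _
  have hψ2 : ψ ≫ pullback.snd _ _ = j := pullback.lift_snd _ _ _
  have : IsImmersion (ψ ≫ pullback.fst (CohB1.ProjSpaceOver.toBase n S)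
      (CohB1.ProjSpaceOver.toBase m S)) := by rw [hψ1]; exact hi
  have hψ : IsImmersion ψ := IsImmersion.of_comp ψ (pullback.fst (CohB1.ProjSpaceOver.toBase n S)
      (CohB1.ProjSpaceOver.toBase m S))
  obtain ⟨φ, hφ, hφb, ⟨ιφ⟩⟩ := exists_segre' S n m
  obtain ⟨θ, -⟩ := exists_pullbackTensorIso ψ
    (isInvertible_pullback (pullback.fst (CohB1.ProjSpaceOver.toBase n S)
      (CohB1.ProjSpaceOver.toBase m S)) (isInvertible_twistOver n S 1))
    (isInvertible_pullback (pullback.snd (CohB1.ProjSpaceOver.toBase n S)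
      (CohB1.ProjSpaceOver.toBase m S)) (isInvertible_twistOver m S 1))
  refine ⟨n * m + n + m, ψ ≫ φ, inferInstance, ?_, ⟨?_⟩⟩
  · have hφb' : φ ≫ pullback.snd (CohB1.ProjSpace.toSpec (n * m + n + m) (ULift.{u} ℤ))
        (specULiftZIsTerminal.from S) = pullback.fst (CohB1.ProjSpaceOver.toBase n S)
        (CohB1.ProjSpaceOver.toBase m S) ≫ pullback.snd (CohB1.ProjSpace.toSpec n (ULift.{u} ℤ))
        (specULiftZIsTerminal.from S) := hφb
    rw [Category.assoc, hφb', ← Category.assoc, hψ1, hiq]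
  · let e₁ : (Scheme.Modules.pullback ψ).obj ((Scheme.Modules.pullback
        (pullback.fst (CohB1.ProjSpaceOver.toBase n S) (CohB1.ProjSpaceOver.toBase m S))).obj
          (Twist.twistOver n S 1)) ≅ L :=
      pullbackCompIso ψ _ _ ≪≫ pullbackCongrIso hψ1 _ ≪≫ ιL.symm
    let e₂ : (Scheme.Modules.pullback ψ).obj ((Scheme.Modules.pullback
        (pullback.snd (CohB1.ProjSpaceOver.toBase n S) (CohB1.ProjSpaceOver.toBase m S))).obj
          (Twist.twistOver m S 1)) ≅ L' :=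
      pullbackCompIso ψ _ _ ≪≫ pullbackCongrIso hψ2 _ ≪≫
        pullbackCompIso j (pullback.fst (CohB1.ProjSpace.toSpec m (ULift.{u} ℤ))
          (specULiftZIsTerminal.from S)) (Twist.twistProjSpace m (ULift.{u} ℤ) 1) ≪≫
        pullbackCongrIso hj1 _ ≪≫ τ
    exact (tensorCongr e₁ e₂).symm ≪≫ θ.symm ≪≫ (Scheme.Modules.pullback ψ).mapIso ιφ ≪≫
      pullbackCompIso ψ φ _

end VAGG

end Groth.Agent.Lib.Helper29.QCoh
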