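import Groth.Agent.Lib.Helper29.Twist
import Groth.Agent.Lib.Helper29.RelAmple
universe u
open CategoryTheory CategoryTheory.Limits AlgebraicGeometry Opposite TopologicalSpace

/-! # Serre twists on `Proj`: invertibility, `O(m) ⊗ O(n) ≅ O(m+n)`, `O(n) ≅ O(1)^{⊗ n}` -/

namespace Groth.Agent.Lib.Helper29.QCoh

section Twist2
variable {X : Scheme.{u}}

/-- A trivialising section over an image open trivialises the restriction. -/
theorem IsTriv.to_restrict {X' : Scheme.{u}} (j : X' ⟶ X) [IsOpenImmersion j] {N : X.Modules}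
    {U' : X'.Opens} {n : Γ(N, j ''ᵁ U')} (hT : IsTriv N (j ''ᵁ U') n) :
    IsTriv (N.restrict j) U' n := by
  intro W' hW'
  have hb := hT (j ''ᵁ W') (j.image_mono hW')
  have : (fun r' : Γ(X', W') => r' • QCoh.res (N.restrict j) hW' n) =
      (fun r : Γ(X, j ''ᵁ W') => r • QCoh.res N (j.image_mono hW') n) ∘ (j.appIso W').inv := by
    funext r'
    simp only [Function.comp_apply]
    rw [restrict_smul]
    rfl
  rw [this]
  exact hb.comp (ConcreteCategory.bijective_of_isIso (j.appIso W').inv)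

/-- A module is invertible on an open `U` as soon as it has trivialising sections near every
point of `U`. -/
theorem isInvertible_restrict_of_isTriv {L : X.Modules} (U : X.Opens)
    (h : ∀ x ∈ U, ∃ (V : X.Opens) (e : Γ(L, V)), x ∈ V ∧ V ≤ U ∧ IsTriv L V e) :
    PicF.IsInvertible (L.restrict U.ι) := by
  refine isInvertible_of_isTriv' fun x => ?_
  obtain ⟨V, e, hxV, hVU, he⟩ := h x.1 x.2
  have hV : U.ι ''ᵁ (U.ι ⁻¹ᵁ V) = V := by
    rw [Scheme.Hom.image_preimage_eq_opensRange_inf, Scheme.Opens.opensRange_ι]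
    exact inf_eq_right.mpr hVU
  refine ⟨U.ι ⁻¹ᵁ V, QCoh.res L hV.le e, hxV, ?_⟩
  apply IsTriv.to_restrict
  exact he.restrict hV.le

end Twist2

section Twist3
variable {R A : Type u} [CommRing R] [CommRing A] [Algebra R A] {𝒜 : ℕ → Submodule R A} [GradedAlgebra 𝒜]

theorem isInvertible_twist_restrict_iSup_basicOpen (d : ℕ) (k : ℤ) :
    PicF.IsInvertible ((Twist.twist 𝒜 (k * d)).restrict
      (⨆ f : 𝒜 d, Proj.basicOpen 𝒜 (f : A)).ι) := by
  apply isInvertible_restrict_of_isTriv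
  intro x hx
  obtain ⟨f, hf⟩ := Opens.mem_iSup.mp hx
  obtain ⟨e, he⟩ := exists_isTriv_twist_mul f k
  exact ⟨_, e, hf, le_iSup (fun f : 𝒜 d => Proj.basicOpen 𝒜 (f : A)) f, he⟩

end Twist3

section Twist4
variable {R A : Type u} [CommRing R] [CommRing A] [Algebra R A] {𝒜 : ℕ → Submodule R A} [GradedAlgebra 𝒜]

theorem mk_eq_mk_of_mul_eq {S : Submonoid A} (a b : A) (s t : S) (h : (t : A) * a = s * b) :
    Localization.mk a s = Localization.mk b t :=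
  Localization.mk_eq_mk_iff.mpr (Localization.r_iff_exists.mpr ⟨1, by simp only [h]⟩)

theorem ofun_pow {U : (Proj 𝒜).Opens} (r : Γ(Proj 𝒜, U)) (n : ℕ) (x : U) :
    ofun 𝒜 (r ^ n) x = ofun 𝒜 r x ^ n :=
  HomogeneousLocalization.val_pow _ _

/-- The transition function `(f/g)^(p-q) = f^p g^q / (f^q g^p)` on `V ≤ D_+(f) ⊓ D_+(g)`. -/
def cSec {d : ℕ} (f g : 𝒜 d) (p q : ℕ) (V : (Proj 𝒜).Opens)
    (hV : V ≤ Proj.basicOpen 𝒜 f.1 ⊓ Proj.basicOpen 𝒜 g.1) : Γ(Proj 𝒜, V) :=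
  mkO 𝒜 V (⟨f.1 ^ p * g.1 ^ q, by
      have := SetLike.mul_mem_graded (SetLike.pow_mem_graded p f.2) (SetLike.pow_mem_graded q g.2)
      rwa [← add_smul] at this⟩ : 𝒜 ((p + q) • d))
    (⟨f.1 ^ q * g.1 ^ p, by
      have := SetLike.mul_mem_graded (SetLike.pow_mem_graded q f.2) (SetLike.pow_mem_graded p g.2)
      rwa [← add_smul, add_comm] at this⟩ : 𝒜 ((p + q) • d))
    (fun x h => (x.1.isPrime.mem_or_mem h).elim
      (pow_not_mem_of_not_mem (hV x.2).1 q) (pow_not_mem_of_not_mem (hV x.2).2 p))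

theorem cSec_den_not_mem {d : ℕ} (f g : 𝒜 d) (p q : ℕ) (V : (Proj 𝒜).Opens)
    (hV : V ≤ Proj.basicOpen 𝒜 f.1 ⊓ Proj.basicOpen 𝒜 g.1) (x : V) :
    f.1 ^ q * g.1 ^ p ∉ x.1.asHomogeneousIdeal := fun h => (x.1.isPrime.mem_or_mem h).elim
      (pow_not_mem_of_not_mem (hV x.2).1 q) (pow_not_mem_of_not_mem (hV x.2).2 p)

theorem ofun_cSec {d : ℕ} (f g : 𝒜 d) (p q : ℕ) (V : (Proj 𝒜).Opens)
    (hV : V ≤ Proj.basicOpen 𝒜 f.1 ⊓ Proj.basicOpen 𝒜 g.1) (x : V) :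
    ofun 𝒜 (cSec f g p q V hV) x = Localization.mk (f.1 ^ p * g.1 ^ q)
      (⟨f.1 ^ q * g.1 ^ p, cSec_den_not_mem f g p q V hV x⟩ :
        x.1.asHomogeneousIdeal.toIdeal.primeCompl) := rfl

theorem eSec_eq_cSec_smul (n : ℤ) {d : ℕ} (f g : 𝒜 d) (p q : ℕ) (h : n = ((p : ℤ) - q) * d)
    (V : (Proj 𝒜).Opens) (hV : V ≤ Proj.basicOpen 𝒜 f.1 ⊓ Proj.basicOpen 𝒜 g.1) :
    eSec n f p q h V (hV.trans inf_le_left) =
      cSec f g p q V hV • eSec n g p q h V (hV.trans inf_le_right) := by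
  apply tfun_ext
  intro x
  rw [tfun_smul, tfun_eSec, tfun_eSec, ofun_cSec, Localization.mk_mul]
  apply mk_eq_mk_of_mul_eq
  simp only [Submonoid.coe_mul]
  ring

theorem cSec_mul {d : ℕ} (f g : 𝒜 d) (p q p' q' p'' q'' : ℕ) (h : p + p' + q'' = p'' + q + q')
    (V : (Proj 𝒜).Opens) (hV : V ≤ Proj.basicOpen 𝒜 f.1 ⊓ Proj.basicOpen 𝒜 g.1) :
    cSec f g p q V hV * cSec f g p' q' V hV = cSec f g p'' q'' V hV := by
  apply ofun_ext
  intro x
  rw [ofun_mul, ofun_cSec, ofun_cSec, ofun_cSec, Localization.mk_mul]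
  apply mk_eq_mk_of_mul_eq
  simp only [Submonoid.coe_mul]
  have h2 : q + q' + p'' = q'' + p + p' := by omega
  calc f.1 ^ q'' * g.1 ^ p'' * (f.1 ^ p * g.1 ^ q * (f.1 ^ p' * g.1 ^ q'))
      = f.1 ^ (p + p' + q'') * g.1 ^ (q + q' + p'') := by ring
    _ = f.1 ^ (p'' + q + q') * g.1 ^ (q'' + p + p') := by rw [h, h2]
    _ = f.1 ^ q * g.1 ^ p * (f.1 ^ q' * g.1 ^ p') * (f.1 ^ p'' * g.1 ^ q'') := by ring

theorem cSec_pow {d : ℕ} (f g : 𝒜 d) (p q k : ℕ)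
    (V : (Proj 𝒜).Opens) (hV : V ≤ Proj.basicOpen 𝒜 f.1 ⊓ Proj.basicOpen 𝒜 g.1) :
    cSec f g p q V hV ^ k = cSec f g (k * p) (k * q) V hV := by
  apply ofun_ext
  intro x
  rw [ofun_pow, ofun_cSec, ofun_cSec, Localization.mk_pow]
  apply mk_eq_mk_of_mul_eq
  simp only [SubmonoidClass.coe_pow]
  ring

/-- Serre twists on `Proj` covered by the `D_+(f)`, `deg f = 1`: invertibility and the
multiplicative structure. -/
theorem twist_invertible_and_tensor (hcov : (⨆ f : 𝒜 1, Proj.basicOpen 𝒜 (f : A)) = ⊤) :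
    (∀ n : ℤ, PicF.IsInvertible (Twist.twist 𝒜 n)) ∧
      (∀ m n : ℤ, Nonempty (CohB1.tensorMod (Twist.twist 𝒜 m) (Twist.twist 𝒜 n) ≅
        Twist.twist 𝒜 (m + n))) ∧
      ∀ n : ℕ, Nonempty (Twist.twist 𝒜 (n : ℤ) ≅ CohB1.tensorPow (Twist.twist 𝒜 1) n) := by
  have hU : ∀ x : Proj 𝒜, ∃ f : 𝒜 1, x ∈ Proj.basicOpen 𝒜 (f : A) := by
    intro x
    have : x ∈ (⨆ f : 𝒜 1, Proj.basicOpen 𝒜 (f : A)) := by rw [hcov]; trivial
    exact Opens.mem_iSup.mp this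
  have hE : ∀ n : ℤ, n = ((n.toNat : ℤ) - (-n).toNat) * (1 : ℕ) := by
    intro n; rw [Int.toNat_sub_toNat_neg]; simp
  have hinv : ∀ n : ℤ, PicF.IsInvertible (Twist.twist 𝒜 n) := by
    intro n
    refine isInvertible_of_isTriv' fun x => ?_
    obtain ⟨f, hf⟩ := hU x
    exact ⟨_, _, hf, isTriv_eSec n f n.toNat (-n).toNat (hE n) _ le_rfl⟩
  have hqc : ∀ n : ℤ, (Twist.twist 𝒜 n).IsQuasicoherent := fun n =>
    isQuasicoherent_of_isInvertible (hinv n)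
  refine ⟨hinv, ?_, ?_⟩
  · intro m n
    have := hqc m
    have := hqc n
    obtain ⟨φ, -⟩ := exists_iso_of_cocycle (M := CohB1.tensorMod (Twist.twist 𝒜 m) (Twist.twist 𝒜 n))
      (N := Twist.twist 𝒜 (m + n))
      (U := fun f : 𝒜 1 => Proj.basicOpen 𝒜 (f : A))
      (m := fun f => tmulSec _ _ (eSec m f m.toNat (-m).toNat (hE m) _ le_rfl)
        (eSec n f n.toNat (-n).toNat (hE n) _ le_rfl))
      (n := fun f => eSec (m + n) f (m + n).toNat (-(m + n)).toNat (hE (m + n)) _ le_rfl)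
      hU (fun f => (isTriv_eSec m f _ _ (hE m) _ le_rfl).tensor (isTriv_eSec n f _ _ (hE n) _ le_rfl))
      (fun f => isTriv_eSec (m + n) f _ _ (hE (m + n)) _ le_rfl)
      (fun f g => by
        refine ⟨cSec f g (m + n).toNat (-(m + n)).toNat _ le_rfl, ?_, ?_⟩
        · rw [res_tmulSec, res_tmulSec, res_eSec, res_eSec, res_eSec, res_eSec,
            eSec_eq_cSec_smul m f g _ _ (hE m) _ le_rfl,
            eSec_eq_cSec_smul n f g _ _ (hE n) _ le_rfl,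
            tmulSec_smul_left, tmulSec_smul_right, smul_smul]
          congr 1
          rw [mul_comm]
          exact cSec_mul f g _ _ _ _ _ _ (by omega) _ _
        · rw [res_eSec, res_eSec]
          exact eSec_eq_cSec_smul (m + n) f g _ _ (hE (m + n)) _ le_rfl)
    exact ⟨φ⟩
  · intro n
    have := hqc 1
    have h1 : (1 : ℤ) = (((1 : ℕ) : ℤ) - (0 : ℕ)) * (1 : ℕ) := by simp
    have hn : (n : ℤ) = (((n : ℕ) : ℤ) - (0 : ℕ)) * (1 : ℕ) := by simp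
    obtain ⟨φ, -⟩ := exists_iso_of_cocycle (M := Twist.twist 𝒜 (n : ℤ))
      (N := CohB1.tensorPow (Twist.twist 𝒜 1) n)
      (U := fun f : 𝒜 1 => Proj.basicOpen 𝒜 (f : A))
      (m := fun f => eSec (n : ℤ) f n 0 hn _ le_rfl)
      (n := fun f => epow (Twist.twist 𝒜 1) (eSec 1 f 1 0 h1 _ le_rfl) n)
      hU (fun f => isTriv_eSec (n : ℤ) f _ _ hn _ le_rfl)
      (fun f => (isTriv_eSec 1 f _ _ h1 _ le_rfl).epow n)
      (fun f g => by
        refine ⟨cSec f g n 0 _ le_rfl, ?_, ?_⟩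
        · rw [res_eSec, res_eSec]
          exact eSec_eq_cSec_smul (n : ℤ) f g _ _ hn _ le_rfl
        · rw [res_epow, res_epow, res_eSec, res_eSec,
            eSec_eq_cSec_smul 1 f g _ _ h1 _ le_rfl, epow_smul, cSec_pow]
          simp only [mul_one, mul_zero])
    exact ⟨φ⟩

end Twist4

section Twist5
variable {R A : Type u} [CommRing R] [CommRing A] [Algebra R A] {𝒜 : ℕ → Submodule R A} [GradedAlgebra 𝒜]

theorem iSup_basicOpen_degree_one_eq_top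
    (hgen : (HomogeneousIdeal.irrelevant 𝒜).toIdeal = Ideal.span (𝒜 1 : Set A)) :
    (⨆ f : 𝒜 1, Proj.basicOpen 𝒜 (f : A)) = ⊤ := by
  apply Proj.iSup_basicOpen_eq_top 𝒜 (fun f : 𝒜 1 => (f : A))
  rw [hgen]
  apply Ideal.span_mono
  intro a ha
  exact ⟨⟨a, ha⟩, rfl⟩

end Twist5

end Groth.Agent.Lib.Helper29.QCoh
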