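import Mathlib
universe u

namespace Groth.Agent.Lib.Helper29.SemiLoc

open TensorProduct Module

theorem finrank_quotient_tensor_eq_rankAtStalk {R : Type*} [CommRing R] {M : Type*}
    [AddCommGroup M] [Module R M] [Module.Finite R M] [Module.Flat R M] (P : Ideal R)
    [hP : P.IsMaximal] :
    finrank (R ⧸ P) ((R ⧸ P) ⊗[R] M) = rankAtStalk M ⟨P, hP.isPrime⟩ := by
  rw [rankAtStalk_eq]
  let _ := Ideal.Quotient.field P
  let e := AlgebraTensorModule.cancelBaseChange R (R ⧸ P) P.ResidueField P.ResidueField M
  change _ = finrank P.ResidueField (P.ResidueField ⊗[R] M)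
  rw [← e.finrank_eq]
  exact (Module.finrank_baseChange (R := P.ResidueField) (S := R ⧸ P)
    (M' := (R ⧸ P) ⊗[R] M)).symm

theorem exists_basis_away_of_semilocal {R : Type*} [CommRing R] (S : Submonoid R)
    [Finite (MaximalSpectrum (Localization S))]
    {M : Type*} [AddCommGroup M] [Module R M] [Module.FinitePresentation R M] [Module.Flat R M]
    (r : ℕ) (h : ∀ p : PrimeSpectrum R, rankAtStalk M p = r) :
    ∃ g ∈ S, Nonempty (Basis (Fin r) (Localization (.powers g)) (LocalizedModule.Away g M)) := by
  have hfin : Module.Finite (Localization S) (LocalizedModule S M) :=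
    Module.Finite.of_isLocalizedModule S (LocalizedModule.mkLinearMap S M)
  have rk : ∀ P : MaximalSpectrum (Localization S),
      finrank (Localization S ⧸ P.1) ((Localization S ⧸ P.1) ⊗[Localization S]
        LocalizedModule S M) = r := by
    intro P
    haveI := P.2
    rw [finrank_quotient_tensor_eq_rankAtStalk,
      rankAtStalk_isBaseChange (LocalizedModule.isBaseChange S M)]
    exact h _
  obtain ⟨b⟩ := nonempty_basis_of_flat_of_finrank_eq (Localization S) (LocalizedModule S M) r rk
  obtain ⟨g, hg, b', -⟩ := Module.FinitePresentation.exists_basis_localizedModule_powers S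
    (LocalizedModule.mkLinearMap S M) (Localization S) b
  exact ⟨g, hg, ⟨b'⟩⟩

theorem finite_maximalSpectrum_localization_iInf_primeCompl {R : Type*} [CommRing R]
    (P : Finset (PrimeSpectrum R)) :
    Finite (MaximalSpectrum (Localization (⨅ p ∈ P, p.asIdeal.primeCompl))) := by
  classical
  set S : Submonoid R := ⨅ p ∈ P, p.asIdeal.primeCompl with hS
  have hmemS : ∀ a : R, a ∈ S ↔ ∀ p ∈ P, a ∉ p.asIdeal := by
    intro a
    simp only [hS, Submonoid.mem_iInf]
    rfl
  have key : ∀ m : MaximalSpectrum (Localization S), ∃ p ∈ P,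
      m.asIdeal = Ideal.map (algebraMap R (Localization S)) p.asIdeal := by
    intro m
    haveI := m.2
    set q := Ideal.comap (algebraMap R (Localization S)) m.asIdeal with hq
    have hdisj : ∀ a ∈ q, a ∉ S := by
      intro a ha haS
      have hu : IsUnit (algebraMap R (Localization S) a) := IsLocalization.map_units _ ⟨a, haS⟩
      exact m.2.ne_top (Ideal.eq_top_of_isUnit_mem _ ha hu)
    have hsub : (q : Set R) ⊆ ⋃ p ∈ (P : Set (PrimeSpectrum R)), (p.asIdeal : Set R) := by
      intro a ha
      have := hdisj a ha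
      rw [hmemS] at this
      push Not at this
      obtain ⟨p, hp, hap⟩ := this
      exact Set.mem_biUnion (Finset.mem_coe.mpr hp) hap
    obtain ⟨p, hp, hqp⟩ := (Ideal.subset_union_prime (f := fun p : PrimeSpectrum R => p.asIdeal)
      ⟨q, inferInstance⟩ ⟨q, inferInstance⟩ (fun i _ _ _ => i.2)).mp hsub
    refine ⟨p, hp, ?_⟩
    have h1 : m.asIdeal ≤ Ideal.map (algebraMap R (Localization S)) p.asIdeal := by
      rw [← IsLocalization.map_under S (Localization S) m.asIdeal]
      exact Ideal.map_mono hqp
    have h2 : Ideal.map (algebraMap R (Localization S)) p.asIdeal ≠ ⊤ := by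
      rw [IsLocalization.map_algebraMap_ne_top_iff_disjoint S]
      rw [Set.disjoint_left]
      intro a haS hap
      exact (hmemS a).mp haS p hp hap
    exact m.2.eq_of_le h2 h1
  choose φ hφ hφ' using key
  have hinj : Function.Injective (fun m => (⟨φ m, hφ m⟩ : {p // p ∈ P})) := by
    intro m m' hmm
    have : φ m = φ m' := congrArg Subtype.val hmm
    ext1
    rw [hφ' m, hφ' m', this]
  exact Finite.of_injective _ hinj

end Groth.Agent.Lib.Helper29.SemiLoc
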