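import Groth.Agent.Lib.Helper29.QCohLocFree
import Groth.Agent.Lib.Helper29.SemiLoc
universe u
open CategoryTheory CategoryTheory.Limits AlgebraicGeometry Opposite TopologicalSpace

namespace Groth.Agent.Lib.Helper29.QCoh

open Module in
/-- A basis of the standard localization transfers to any other model of the localization. -/
theorem nonempty_basis_of_basis_localizedModule {R : Type*} [CommRing R] (S : Submonoid R)
    {A : Type*} [CommRing A] [Algebra R A] [IsLocalization S A]
    {N N' : Type*} [AddCommGroup N] [Module R N] [AddCommGroup N'] [Module R N'] [Module A N']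
    [IsScalarTower R A N'] (g : N →ₗ[R] N') [IsLocalizedModule S g] {ι : Type*}
    (b : Basis ι (Localization S) (LocalizedModule S N)) : Nonempty (Basis ι A N') := by
  let e : Localization S ≃ₐ[R] A := IsLocalization.algEquiv S (Localization S) A
  let _ : Algebra (Localization S) A := e.toAlgHom.toRingHom.toAlgebra
  have : IsScalarTower R (Localization S) A := IsScalarTower.of_algebraMap_eq' (by
    ext r
    change algebraMap R A r = e (algebraMap R (Localization S) r)
    rw [AlgEquiv.commutes])
  let b1 := b.map (LocalizedModule.isBaseChange S N).equiv.symm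
  let b2 := Algebra.TensorProduct.basis A b1
  let b3 := b2.map (TensorProduct.AlgebraTensorModule.cancelBaseChange R (Localization S) A A N)
  exact ⟨b3.map (IsLocalizedModule.isBaseChange S A g).equiv⟩

variable {X : Scheme.{u}}

/-- The rank of the module of sections over an affine open at the prime of a point is the rank
of the stalk. -/
theorem rankAtStalk_sections_eq {M : X.Modules} (hlf : FlatMod.IsFinLocFree M) {V : X.Opens}
    (hV : IsAffineOpen V) (x : X) (hx : x ∈ V) :
    Module.rankAtStalk (R := Γ(X, V)) Γ(M, V) (hV.primeIdealOf ⟨x, hx⟩) =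
      Module.rankAtStalk (R := X.presheaf.stalk x) (M.presheaf.stalk x)
        (IsLocalRing.closedPoint _) := by
  haveI := isQuasicoherent_of_isFinLocFree hlf
  obtain ⟨hfin, hproj⟩ := finite_projective_sections_of_isFinLocFree hlf hV
  let _ := stalkModule M V x hx
  let _ : Algebra Γ(X, V) (X.presheaf.stalk x) :=
    TopCat.Presheaf.algebra_section_stalk X.presheaf ⟨x, hx⟩
  have hloc := hV.isLocalization_stalk ⟨x, hx⟩
  have : IsScalarTower Γ(X, V) (X.presheaf.stalk x) (M.presheaf.stalk x) :=
    IsScalarTower.of_algebraMap_smul fun a m => rfl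
  have := isLocalizedModule_germ M hV x hx
  have hbc := IsLocalizedModule.isBaseChange (hV.primeIdealOf ⟨x, hx⟩).asIdeal.primeCompl
    (X.presheaf.stalk x) (germₗ M V x hx)
  rw [Module.rankAtStalk_isBaseChange hbc]
  congr 1
  apply PrimeSpectrum.ext
  exact (IsLocalization.AtPrime.under_maximalIdeal (X.presheaf.stalk x)
    (hV.primeIdealOf ⟨x, hx⟩).asIdeal).symm

/-- The stalks of a locally free module of rank `r` have rank `r`. -/
theorem rankAtStalk_stalk_of_isFinLocFreeOfRank {r : ℕ} {M : X.Modules}
    (h : FlatMod.IsFinLocFreeOfRank r M) (x : X) :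
    Module.rankAtStalk (R := X.presheaf.stalk x) (M.presheaf.stalk x)
        (IsLocalRing.closedPoint _) = r := by
  haveI := isQuasicoherent_of_isFinLocFree (isFinLocFree_of_isFinLocFreeOfRank h)
  obtain ⟨W, hW, hxW, ⟨e⟩⟩ := exists_affine_linearEquiv_of_isFinLocFreeOfRank h x
  rw [← rankAtStalk_sections_eq (isFinLocFree_of_isFinLocFreeOfRank h) hW x hxW,
    Module.rankAtStalk_eq_of_equiv e]
  haveI := nontrivial_sections_of_mem hxW
  simp

theorem rankAtStalk_sections_of_isFinLocFreeOfRank {r : ℕ} {M : X.Modules}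
    (h : FlatMod.IsFinLocFreeOfRank r M) {V : X.Opens} (hV : IsAffineOpen V)
    (p : PrimeSpectrum Γ(X, V)) :
    Module.rankAtStalk (R := Γ(X, V)) Γ(M, V) p = r := by
  haveI := isQuasicoherent_of_isFinLocFree (isFinLocFree_of_isFinLocFreeOfRank h)
  obtain ⟨x, hx, rfl⟩ := exists_point_of_prime' hV p
  rw [rankAtStalk_sections_eq (isFinLocFree_of_isFinLocFreeOfRank h) hV x hx]
  exact rankAtStalk_stalk_of_isFinLocFreeOfRank h x

/-- Core: on an affine open `V`, a locally free module of rank `r` becomes free on `D(g)` for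
some `g` in any submonoid `S` of `Γ(X, V)` whose localization is semilocal. -/
theorem exists_basicOpen_isFreeAlong_of_semilocal {r : ℕ} {M : X.Modules}
    (h : FlatMod.IsFinLocFreeOfRank r M) {V : X.Opens} (hV : IsAffineOpen V)
    (S : Submonoid Γ(X, V)) [Finite (MaximalSpectrum (Localization S))] :
    ∃ g ∈ S, Nonempty (M.restrict (X.basicOpen g).ι ≅ FlatMod.freeMod (X.basicOpen g) r) := by
  have hlf := isFinLocFree_of_isFinLocFreeOfRank h
  haveI := isQuasicoherent_of_isFinLocFree hlf
  haveI := isFinitePresentation_of_isFinLocFree hlf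
  haveI : Module.FinitePresentation Γ(X, V) Γ(M, V) :=
    module_finitePresentation_of_isFinitePresentation M hV
  obtain ⟨hfin, hproj⟩ := finite_projective_sections_of_isFinLocFree hlf hV
  haveI : Module.Flat Γ(X, V) Γ(M, V) := inferInstance
  obtain ⟨g, hg, ⟨b⟩⟩ := SemiLoc.exists_basis_away_of_semilocal S r
    (fun p => rankAtStalk_sections_of_isFinLocFreeOfRank h hV p)
  refine ⟨g, hg, ?_⟩
  let _ : Algebra Γ(X, V) Γ(X, X.basicOpen g) :=
    (X.presheaf.map (homOfLE (X.basicOpen_le g)).op).hom.toAlgebra
  let _ : Module Γ(X, V) Γ(M, X.basicOpen g) := sectionsModule M (X.basicOpen_le g)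
  have : IsLocalization.Away g Γ(X, X.basicOpen g) := hV.isLocalization_basicOpen g
  have : IsScalarTower Γ(X, V) Γ(X, X.basicOpen g) Γ(M, X.basicOpen g) :=
    IsScalarTower.of_algebraMap_smul fun a m => rfl
  have := isLocalizedModule_res_basicOpen M hV g
  obtain ⟨b'⟩ := nonempty_basis_of_basis_localizedModule (Submonoid.powers g)
    (A := Γ(X, X.basicOpen g)) (resₗ M (X.basicOpen_le g)) b
  exact (isFreeAlong_iff_restrict M (X.basicOpen g).ι r).mp
    (isFreeAlong_ι_of_linearEquiv M (hV.basicOpen g) b'.repr)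

/-- A locally free module of rank `r` is free on a neighbourhood of any finite set of points
contained in an affine open. -/
theorem exists_open_free_of_finite_subset {Y : Scheme.{u}} (r : ℕ) (E : Y.Modules)
    (hE : FlatMod.IsFinLocFreeOfRank r E) (Z : Set Y) (hZ : Z.Finite) (V : Y.Opens)
    (hV : IsAffineOpen V) (hZV : Z ⊆ V) :
    ∃ U : Y.Opens, Z ⊆ U ∧ U ≤ V ∧
      Nonempty (E.restrict U.ι ≅ FlatMod.freeMod (U : Scheme.{u}) r) := by
  classical
  haveI := hZ.to_subtype
  let φ : Z → PrimeSpectrum Γ(Y, V) := fun z => hV.primeIdealOf ⟨z.1, hZV z.2⟩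
  let P : Finset (PrimeSpectrum Γ(Y, V)) := (Set.finite_range φ).toFinset
  haveI := SemiLoc.finite_maximalSpectrum_localization_iInf_primeCompl P
  obtain ⟨g, hg, hfree⟩ := exists_basicOpen_isFreeAlong_of_semilocal hE hV
    (⨅ p ∈ P, p.asIdeal.primeCompl)
  refine ⟨Y.basicOpen g, ?_, Y.basicOpen_le g, hfree⟩
  intro z hz
  rw [SetLike.mem_coe, mem_basicOpen_iff_notMem_primeIdealOf hV z (hZV hz)]
  have : g ∈ (φ ⟨z, hz⟩).asIdeal.primeCompl := by
    simp only [Submonoid.mem_iInf] at hg
    exact hg _ (by simp [P])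
  exact this

end Groth.Agent.Lib.Helper29.QCoh
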