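import Groth.Agent.Lib.Helper29.RelAmple
universe u
open CategoryTheory CategoryTheory.Limits AlgebraicGeometry TopologicalSpace Opposite
open scoped TensorProduct

namespace Groth.Agent.Lib.Helper29.QCoh

section QuasiAffinePullback
variable {X X' : Scheme.{u}}

/-- **Pullback of an ample module along a quasi-affine morphism is ample** (EGA II 5.1.12). -/
theorem isAmple_pullback_of_isQuasiAffine (g : X' ⟶ X) (hg : Mor2.IsQuasiAffine g)
    {L : X.Modules} (hL : CohB1.IsAmple L) :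
    CohB1.IsAmple ((Scheme.Modules.pullback g).obj L) := by
  have hqc : QuasiCompact g := hg.1
  have hcX : CompactSpace X := hL.2.1
  have hc : CompactSpace X' := QuasiCompact.compactSpace_of_compactSpace g
  have hM := isInvertible_pullback g hL.1
  -- sections and their loci
  have key : ∀ x' : X', ∃ (n : ℕ) (s' : unitM X' ⟶ CohB1.tensorPow ((Scheme.Modules.pullback g).obj L) (n + 1)),
      x' ∈ CohB1.genLocus _ s' ∧ (CohB1.genLocus _ s').toScheme.IsQuasiAffine := by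
    intro x'
    obtain ⟨n, s, hx, haff⟩ := hL.2.2 (g x')
    obtain ⟨s', hs'⟩ := exists_pullback_section g hL.1 (n + 1) s
    refine ⟨n, s', by rw [hs']; exact hx, ?_⟩
    rw [hs']
    exact hg.2 _ haff
  choose n s' hx' hqa using key
  have hqs : QuasiSeparatedSpace X' := by
    refine QuasiSeparatedSpace.of_isOpenCover (U := fun x' => CohB1.genLocus _ (s' x')) ?_
      (fun x' => ?_) (fun x' => ?_)
    · rw [IsOpenCover, eq_top_iff]
      intro x _
      exact Opens.mem_iSup.mpr ⟨x, hx' x⟩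
    · have := isAffineHom_genLocus_ι (isInvertible_tensorPow hM (n x' + 1)) (s' x')
      exact IsRetrocompact_iff_isSpectralMap_subtypeVal.mpr (CohB1.genLocus _ (s' x')).ι.isSpectralMap
    · have := hqa x'
      have hqq : QuasiSeparatedSpace (CohB1.genLocus _ (s' x')).toScheme := inferInstance
      exact (isQuasiSeparated_iff_quasiSeparatedSpace _ (CohB1.genLocus _ (s' x')).2).mpr hqq
  refine ⟨hM, hc, fun x' => ?_⟩
  have := hqa x'
  obtain ⟨_, ⟨r, hr, rfl⟩, hxr, -⟩ :=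
    Opens.isBasis_iff_nbhd.mp (Scheme.IsQuasiAffine.isBasis_basicOpen (CohB1.genLocus _ (s' x')).toScheme)
      (U := ⊤) (x := ⟨x', hx' x'⟩) trivial
  obtain ⟨k, σ, hσ⟩ := exists_genLocus_eq_basicOpen hM (s' x')
    ((CohB1.genLocus _ (s' x')).topIso.hom r)
  have e : X'.basicOpen ((CohB1.genLocus _ (s' x')).topIso.hom r) =
      (CohB1.genLocus _ (s' x')).ι ''ᵁ ((CohB1.genLocus _ (s' x')).toScheme.basicOpen r) := by
    have := (CohB1.genLocus _ (s' x')).ι_image_basicOpen_topIso_inv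
      ((CohB1.genLocus _ (s' x')).topIso.hom r)
    rw [← this]
    congr 2
    exact congrArg (fun f => f.hom r) (CohB1.genLocus _ (s' x')).topIso.hom_inv_id
  refine ⟨k, σ, ?_, ?_⟩
  · rw [hσ, e]
    exact ⟨⟨x', hx' x'⟩, hxr, rfl⟩
  · rw [hσ, e]
    exact hr.image_of_isOpenImmersion _

end QuasiAffinePullback

section QuasiAffineRel
variable {X X' Y : Scheme.{u}}

theorem isQuasiAffine_morphismRestrict (g : X' ⟶ X) (hg : Mor2.IsQuasiAffine g) (U : X.Opens) :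
    Mor2.IsQuasiAffine (g ∣_ U) := by
  have hqc : QuasiCompact g := hg.1
  refine ⟨inferInstance, fun W hW => ?_⟩
  have himg : (g ⁻¹ᵁ U).ι ''ᵁ ((g ∣_ U) ⁻¹ᵁ W) = g ⁻¹ᵁ (U.ι ''ᵁ W) :=
    image_morphismRestrict_preimage g U W
  have hq : (g ⁻¹ᵁ (U.ι ''ᵁ W)).toScheme.IsQuasiAffine := hg.2 _ (hW.image_of_isOpenImmersion _)
  have hr : Set.range (((g ∣_ U) ⁻¹ᵁ W).ι ≫ (g ⁻¹ᵁ U).ι) = Set.range (g ⁻¹ᵁ (U.ι ''ᵁ W)).ι := by
    rw [Scheme.Opens.range_ι, ← himg]
    simp only [Scheme.Hom.comp_base, TopCat.hom_comp, ContinuousMap.coe_comp, Set.range_comp,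
      Scheme.Opens.range_ι]
    rfl
  have := IsOpenImmersion.isoOfRangeEq (((g ∣_ U) ⁻¹ᵁ W).ι ≫ (g ⁻¹ᵁ U).ι)
    (g ⁻¹ᵁ (U.ι ''ᵁ W)).ι hr
  exact Scheme.IsQuasiAffine.of_isAffineHom this.hom

theorem isRelAmple_pullback_of_isQuasiAffine (f : X ⟶ Y) [QuasiCompact f] (g : X' ⟶ X)
    (hg : Mor2.IsQuasiAffine g) {L : X.Modules} (hL : RelAmple.IsRelAmple f L) :
    RelAmple.IsRelAmple (g ≫ f) ((Scheme.Modules.pullback g).obj L) := by
  have hqc : QuasiCompact g := hg.1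
  refine ⟨inferInstance, fun V => ?_⟩
  have h1 := isAmple_pullback_of_isQuasiAffine (g ∣_ (f ⁻¹ᵁ V.1))
    (isQuasiAffine_morphismRestrict g hg _) (hL.2 V)
  exact (isAmple_iff_of_iso (restrictPullbackIso g (f ⁻¹ᵁ V.1) L)).mpr h1

end QuasiAffineRel

section PullbackAffine
variable {X Y Z : Scheme.{u}}

/-- In a fibre product, the intersection of preimages of affine opens lying over a common affine
open of the base is affine. -/
theorem isAffineOpen_pullback_inf {f : X ⟶ Z} {g : Y ⟶ Z}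
    {U : X.Opens} (hU : IsAffineOpen U) {V : Y.Opens} (hV : IsAffineOpen V)
    {W : Z.Opens} (hW : IsAffineOpen W) (hUW : U ≤ f ⁻¹ᵁ W) (hVW : V ≤ g ⁻¹ᵁ W) :
    IsAffineOpen (pullback.fst f g ⁻¹ᵁ U ⊓ pullback.snd f g ⁻¹ᵁ V) := by
  have : IsAffine U.toScheme := hU
  have : IsAffine V.toScheme := hV
  have : IsAffine W.toScheme := hW
  let f' : U.toScheme ⟶ W := f.resLE _ _ hUW
  let q : V.toScheme ⟶ W := g.resLE _ _ hVW
  let p : pullback f' q ⟶ pullback f g :=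
    pullback.map _ _ _ _ U.ι V.ι W.ι (by simp [f']) (by simp [q])
  have hp : p.opensRange = pullback.fst f g ⁻¹ᵁ U ⊓ pullback.snd f g ⁻¹ᵁ V := by
    apply Opens.ext
    simp [p, Scheme.Pullback.range_map]
  rw [← hp]
  exact isAffineOpen_opensRange p

end PullbackAffine

section BaseChange
variable {X Y Y' : Scheme.{u}}

/-- `(j^* L)|_T ≅ h^* (L|_U)` for `h : T ⟶ U` the restriction of `j`. -/
noncomputable def restrictPullbackIsoLE (j : X ⟶ Y) (U : Y.Opens) (T : X.Opens) (e : T ≤ j ⁻¹ᵁ U)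
    (L : Y.Modules) :
    ((Scheme.Modules.pullback j).obj L).restrict T.ι ≅
      (Scheme.Modules.pullback (j.resLE U T e)).obj (L.restrict U.ι) :=
  restrictIsoPullback _ _ ≪≫ pullbackCompIso T.ι j L ≪≫
    pullbackCongrIso (Scheme.Hom.resLE_comp_ι j e).symm L ≪≫
    (pullbackCompIso (j.resLE U T e) U.ι L).symm ≪≫
    (Scheme.Modules.pullback (j.resLE U T e)).mapIso (restrictIsoPullback U.ι L).symm

theorem isAmple_restrict_pullback_fst (f : X ⟶ Y) (g : Y' ⟶ Y) [QuasiCompact f] {L : X.Modules}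
    {V : Y.Opens} (hV : IsAffineOpen V) {V' : Y'.Opens} (hV' : IsAffineOpen V')
    (hle : V' ≤ g ⁻¹ᵁ V) (hamp : CohB1.IsAmple (L.restrict (f ⁻¹ᵁ V).ι)) :
    CohB1.IsAmple (((Scheme.Modules.pullback (pullback.fst f g)).obj L).restrict
      (pullback.snd f g ⁻¹ᵁ V').ι) := by
  have hT : pullback.snd f g ⁻¹ᵁ V' ≤ pullback.fst f g ⁻¹ᵁ (f ⁻¹ᵁ V) := by
    intro t ht
    have h1 : g (pullback.snd f g t) ∈ V := hle ht
    have h2 : f (pullback.fst f g t) = g (pullback.snd f g t) := by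
      rw [← Scheme.Hom.comp_apply, ← Scheme.Hom.comp_apply, pullback.condition]
    change f (pullback.fst f g t) ∈ V
    rw [h2]; exact h1
  rw [isAmple_iff_of_iso (restrictPullbackIsoLE (pullback.fst f g) (f ⁻¹ᵁ V) _ hT L)]
  have hc : CompactSpace (pullback.snd f g ⁻¹ᵁ V') :=
    isCompact_iff_compactSpace.mp
      (QuasiCompact.isCompact_preimage (f := pullback.snd f g) _ V'.2 hV'.isCompact)
  have haff : IsAffineHom ((pullback.fst f g).resLE (f ⁻¹ᵁ V) (pullback.snd f g ⁻¹ᵁ V') hT) := by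
    refine ⟨fun W hW => ?_⟩
    rw [Scheme.Hom.resLE_preimage,
      ← Scheme.Hom.isAffineOpen_iff_of_isOpenImmersion (pullback.snd f g ⁻¹ᵁ V').ι,
      Scheme.Hom.image_preimage_eq_opensRange_inf, Scheme.Opens.opensRange_ι, inf_comm]
    refine isAffineOpen_pullback_inf (hW.image_of_isOpenImmersion _) hV' hV ?_ hle
    exact (f ⁻¹ᵁ V).ι_image_le W
  exact isAmple_pullback_of_isAffineHom _ hamp

theorem isRelAmple_baseChange (f : X ⟶ Y) [QuasiCompact f] (g : Y' ⟶ Y) {L : X.Modules}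
    (hL : RelAmple.IsRelAmple f L) :
    RelAmple.IsRelAmple (pullback.snd f g)
      ((Scheme.Modules.pullback (pullback.fst f g)).obj L) := by
  have hinv := isInvertible_pullback (pullback.fst f g) (isInvertible_of_isRelAmple f hL)
  refine ⟨inferInstance, fun V' => ?_⟩
  have hc : ∀ W : Y'.Opens, IsAffineOpen W →
      IsCompact ((pullback.snd f g ⁻¹ᵁ W : (pullback f g).Opens) : Set (pullback f g : Scheme.{u})) :=
    fun W hW => QuasiCompact.isCompact_preimage (f := pullback.snd f g) _ W.2 hW.isCompact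
  have key : ∀ y : V'.1, ∃ r : Γ(Y', V'.1), (y : Y') ∈ Y'.basicOpen r ∧
      CohB1.IsAmple (((Scheme.Modules.pullback (pullback.fst f g)).obj L).restrict
        (pullback.snd f g ⁻¹ᵁ (Y'.basicOpen r)).ι) := by
    rintro ⟨y, hy⟩
    obtain ⟨V, hV, hyV, -⟩ := exists_isAffineOpen_mem_and_subset (x := g y) (U := ⊤) trivial
    obtain ⟨r, hr, hyr⟩ := V'.2.exists_basicOpen_le (V := g ⁻¹ᵁ V) ⟨y, hyV⟩ hy
    exact ⟨r, hyr, isAmple_restrict_pullback_fst f g hV (V'.2.basicOpen r) hr (hL.2 ⟨V, hV⟩)⟩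
  choose r hr1 hr2 using key
  exact isAmple_restrict_preimage_of_basicOpen_cover (pullback.snd f g) hinv V'.1 (hc V'.1 V'.2) r
    (fun y hy => ⟨⟨y, hy⟩, hr1 ⟨y, hy⟩⟩) hr2

end BaseChange

section ExternalTensor
variable {X Y S : Scheme.{u}}

/-- The external tensor product of ample modules is ample (quasi-separated base). -/
theorem isAmple_externalTensor [QuasiSeparatedSpace S] (f : X ⟶ S) (g : Y ⟶ S)
    {L : X.Modules} {N : Y.Modules} (hL : CohB1.IsAmple L) (hN : CohB1.IsAmple N) :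
    CohB1.IsAmple (CohB1.tensorMod ((Scheme.Modules.pullback (pullback.fst f g)).obj L)
      ((Scheme.Modules.pullback (pullback.snd f g)).obj N)) := by
  have hcX : CompactSpace X := hL.2.1
  have hcY : CompactSpace Y := hN.2.1
  have hqc : QuasiCompact f := inferInstance
  have hc : CompactSpace (pullback f g : Scheme.{u}) :=
    QuasiCompact.compactSpace_of_compactSpace (pullback.snd f g)
  have hL' := isInvertible_pullback (pullback.fst f g) hL.1
  have hN' := isInvertible_pullback (pullback.snd f g) hN.1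
  refine ⟨isInvertible_tensorMod hL' hN', hc, fun z => ?_⟩
  obtain ⟨W, hW, hzW, -⟩ := exists_isAffineOpen_mem_and_subset
    (x := f (pullback.fst f g z)) (U := ⊤) trivial
  have hzW' : g (pullback.snd f g z) ∈ W := by
    have h2 : f (pullback.fst f g z) = g (pullback.snd f g z) := by
      rw [← Scheme.Hom.comp_apply, ← Scheme.Hom.comp_apply, pullback.condition]
    rw [← h2]; exact hzW
  obtain ⟨k, s, hxs, hsW, hsaff⟩ := exists_affine_genLocus_nhd hL (U := f ⁻¹ᵁ W) hzW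
  obtain ⟨m, t, hyt, htW, htaff⟩ := exists_affine_genLocus_nhd hN (U := g ⁻¹ᵁ W) hzW'
  obtain ⟨s', hs'⟩ := exists_pullback_section (pullback.fst f g) hL.1 (k + 1) s
  obtain ⟨t', ht'⟩ := exists_pullback_section (pullback.snd f g) hN.1 (m + 1) t
  obtain ⟨n, σ, hσ⟩ := exists_tensor_section hL' hN' s' t'
  rw [hs', ht'] at hσ
  refine ⟨n, σ, ?_, ?_⟩
  · rw [hσ]; exact ⟨hxs, hyt⟩
  · rw [hσ]; exact isAffineOpen_pullback_inf hsaff htaff hW hsW htW

end ExternalTensor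

section ExternalTensorRel
variable {X₁ X₂ Y₁ Y₂ S : Scheme.{u}}

/-- The local piece: over affine opens `V₁`, `V₂` lying over an affine `W`. -/
theorem isAmple_externalTensor_restrict (b₁ : X₁ ⟶ S) (b₂ : X₂ ⟶ S)
    {L₁ : X₁.Modules} {L₂ : X₂.Modules} (hL₁ : PicF.IsInvertible L₁) (hL₂ : PicF.IsInvertible L₂)
    (U₁ : X₁.Opens) (U₂ : X₂.Opens) {W : S.Opens} (hW : IsAffineOpen W)
    (h₁ : U₁ ≤ b₁ ⁻¹ᵁ W) (h₂ : U₂ ≤ b₂ ⁻¹ᵁ W)
    (hA₁ : CohB1.IsAmple (L₁.restrict U₁.ι)) (hA₂ : CohB1.IsAmple (L₂.restrict U₂.ι)) :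
    CohB1.IsAmple ((CohB1.tensorMod ((Scheme.Modules.pullback (pullback.fst b₁ b₂)).obj L₁)
      ((Scheme.Modules.pullback (pullback.snd b₁ b₂)).obj L₂)).restrict
        (pullback.fst b₁ b₂ ⁻¹ᵁ U₁ ⊓ pullback.snd b₁ b₂ ⁻¹ᵁ U₂).ι) := by
  have : IsAffine W.toScheme := hW
  let f₁' : U₁.toScheme ⟶ W := b₁.resLE _ _ h₁
  let f₂' : U₂.toScheme ⟶ W := b₂.resLE _ _ h₂
  let p : pullback f₁' f₂' ⟶ pullback b₁ b₂ :=
    pullback.map _ _ _ _ U₁.ι U₂.ι W.ι (by simp [f₁']) (by simp [f₂'])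
  have hp : p.opensRange = pullback.fst b₁ b₂ ⁻¹ᵁ U₁ ⊓ pullback.snd b₁ b₂ ⁻¹ᵁ U₂ := by
    apply Opens.ext
    simp [p, Scheme.Pullback.range_map]
  rw [← isAmple_restrict_iff_of_opensRange_eq p _ hp]
  have e₁ : p ≫ pullback.fst b₁ b₂ = pullback.fst f₁' f₂' ≫ U₁.ι := pullback.lift_fst _ _ _
  have e₂ : p ≫ pullback.snd b₁ b₂ = pullback.snd f₁' f₂' ≫ U₂.ι := pullback.lift_snd _ _ _
  have hL₁' := isInvertible_pullback (pullback.fst b₁ b₂) hL₁
  have hL₂' := isInvertible_pullback (pullback.snd b₁ b₂) hL₂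
  obtain ⟨φ, -⟩ := exists_pullbackTensorIso p hL₁' hL₂'
  have θ₁ : (Scheme.Modules.pullback p).obj ((Scheme.Modules.pullback (pullback.fst b₁ b₂)).obj L₁) ≅
      (Scheme.Modules.pullback (pullback.fst f₁' f₂')).obj (L₁.restrict U₁.ι) :=
    pullbackCompIso p _ L₁ ≪≫ pullbackCongrIso e₁ L₁ ≪≫ (pullbackCompIso _ U₁.ι L₁).symm ≪≫
      (Scheme.Modules.pullback _).mapIso (restrictIsoPullback U₁.ι L₁).symm
  have θ₂ : (Scheme.Modules.pullback p).obj ((Scheme.Modules.pullback (pullback.snd b₁ b₂)).obj L₂) ≅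
      (Scheme.Modules.pullback (pullback.snd f₁' f₂')).obj (L₂.restrict U₂.ι) :=
    pullbackCompIso p _ L₂ ≪≫ pullbackCongrIso e₂ L₂ ≪≫ (pullbackCompIso _ U₂.ι L₂).symm ≪≫
      (Scheme.Modules.pullback _).mapIso (restrictIsoPullback U₂.ι L₂).symm
  rw [isAmple_iff_of_iso (restrictIsoPullback p _ ≪≫ φ ≪≫ tensorCongr θ₁ θ₂)]
  exact isAmple_externalTensor f₁' f₂' hA₁ hA₂

theorem isRelAmple_externalTensor (a₁ : Y₁ ⟶ S) (a₂ : Y₂ ⟶ S)
    (f₁ : X₁ ⟶ Y₁) (f₂ : X₂ ⟶ Y₂) [QuasiCompact f₁] [QuasiCompact f₂]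
    {L₁ : X₁.Modules} {L₂ : X₂.Modules}
    (hL₁ : RelAmple.IsRelAmple f₁ L₁) (hL₂ : RelAmple.IsRelAmple f₂ L₂) :
    RelAmple.IsRelAmple
      (pullback.map (f₁ ≫ a₁) (f₂ ≫ a₂) a₁ a₂ f₁ f₂ (𝟙 S) (Category.comp_id (f₁ ≫ a₁))
        (Category.comp_id (f₂ ≫ a₂)))
      (CohB1.tensorMod ((Scheme.Modules.pullback (pullback.fst (f₁ ≫ a₁) (f₂ ≫ a₂))).obj L₁)
        ((Scheme.Modules.pullback (pullback.snd (f₁ ≫ a₁) (f₂ ≫ a₂))).obj L₂)) := by
  have hi₁ := isInvertible_of_isRelAmple f₁ hL₁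
  have hi₂ := isInvertible_of_isRelAmple f₂ hL₂
  have hqc : QuasiCompact (pullback.map (f₁ ≫ a₁) (f₂ ≫ a₂) a₁ a₂ f₁ f₂ (𝟙 S)
      (Category.comp_id (f₁ ≫ a₁)) (Category.comp_id (f₂ ≫ a₂))) :=
    MorphismProperty.pullbackMap (P := @QuasiCompact) (inferInstance : QuasiCompact f₁)
      (inferInstance : QuasiCompact f₂) rfl rfl
  have hinv := isInvertible_tensorMod
    (isInvertible_pullback (pullback.fst (f₁ ≫ a₁) (f₂ ≫ a₂)) hi₁)
    (isInvertible_pullback (pullback.snd (f₁ ≫ a₁) (f₂ ≫ a₂)) hi₂)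
  refine ⟨hqc, fun T => ?_⟩
  have hc : ∀ W : (pullback a₁ a₂ : Scheme.{u}).Opens, IsAffineOpen W →
      IsCompact (((pullback.map (f₁ ≫ a₁) (f₂ ≫ a₂) a₁ a₂ f₁ f₂ (𝟙 S)
        (Category.comp_id (f₁ ≫ a₁)) (Category.comp_id (f₂ ≫ a₂))) ⁻¹ᵁ W :
          (pullback (f₁ ≫ a₁) (f₂ ≫ a₂) : Scheme.{u}).Opens) :
            Set (pullback (f₁ ≫ a₁) (f₂ ≫ a₂) : Scheme.{u})) :=
    fun W hW => QuasiCompact.isCompact_preimage _ W.2 hW.isCompact
  have key : ∀ y : T.1, ∃ r : Γ((pullback a₁ a₂ : Scheme.{u}), T.1),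
      (y : (pullback a₁ a₂ : Scheme.{u})) ∈ (pullback a₁ a₂ : Scheme.{u}).basicOpen r ∧
      CohB1.IsAmple ((CohB1.tensorMod
        ((Scheme.Modules.pullback (pullback.fst (f₁ ≫ a₁) (f₂ ≫ a₂))).obj L₁)
        ((Scheme.Modules.pullback (pullback.snd (f₁ ≫ a₁) (f₂ ≫ a₂))).obj L₂)).restrict
          ((pullback.map (f₁ ≫ a₁) (f₂ ≫ a₂) a₁ a₂ f₁ f₂ (𝟙 S)
            (Category.comp_id (f₁ ≫ a₁)) (Category.comp_id (f₂ ≫ a₂))) ⁻¹ᵁ
              ((pullback a₁ a₂ : Scheme.{u}).basicOpen r)).ι) := by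
    rintro ⟨y, hy⟩
    obtain ⟨W, hW, hyW, -⟩ := exists_isAffineOpen_mem_and_subset
      (x := a₁ (pullback.fst a₁ a₂ y)) (U := ⊤) trivial
    have hyW' : a₂ (pullback.snd a₁ a₂ y) ∈ W := by
      have h2 : a₁ (pullback.fst a₁ a₂ y) = a₂ (pullback.snd a₁ a₂ y) := by
        rw [← Scheme.Hom.comp_apply, ← Scheme.Hom.comp_apply, pullback.condition]
      rw [← h2]; exact hyW
    obtain ⟨V₁, hV₁, hyV₁, hV₁W⟩ := exists_isAffineOpen_mem_and_subset
      (x := pullback.fst a₁ a₂ y) (U := a₁ ⁻¹ᵁ W) hyW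
    obtain ⟨V₂, hV₂, hyV₂, hV₂W⟩ := exists_isAffineOpen_mem_and_subset
      (x := pullback.snd a₁ a₂ y) (U := a₂ ⁻¹ᵁ W) hyW'
    obtain ⟨r, hr, hyr⟩ := T.2.exists_basicOpen_le
      (V := pullback.fst a₁ a₂ ⁻¹ᵁ V₁ ⊓ pullback.snd a₁ a₂ ⁻¹ᵁ V₂) ⟨y, ⟨hyV₁, hyV₂⟩⟩ hy
    refine ⟨r, hyr, ?_⟩
    have hA := isAmple_externalTensor_restrict (f₁ ≫ a₁) (f₂ ≫ a₂) hi₁ hi₂
      (f₁ ⁻¹ᵁ V₁) (f₂ ⁻¹ᵁ V₂) hW (f₁.preimage_mono hV₁W) (f₂.preimage_mono hV₂W)
      (hL₁.2 ⟨V₁, hV₁⟩) (hL₂.2 ⟨V₂, hV₂⟩)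
    refine isAmple_restrict_mono ?_ (hc _ (T.2.basicOpen r)) hA
    intro z hz
    have hz' := hr hz
    constructor
    · have : (pullback.map (f₁ ≫ a₁) (f₂ ≫ a₂) a₁ a₂ f₁ f₂ (𝟙 S)
          (Category.comp_id (f₁ ≫ a₁)) (Category.comp_id (f₂ ≫ a₂)) ≫ pullback.fst a₁ a₂) z ∈ V₁ :=
        hz'.1
      rw [pullback.lift_fst] at this
      exact this
    · have : (pullback.map (f₁ ≫ a₁) (f₂ ≫ a₂) a₁ a₂ f₁ f₂ (𝟙 S)
          (Category.comp_id (f₁ ≫ a₁)) (Category.comp_id (f₂ ≫ a₂)) ≫ pullback.snd a₁ a₂) z ∈ V₂ :=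
        hz'.2
      rw [pullback.lift_snd] at this
      exact this
  choose r hr1 hr2 using key
  exact isAmple_restrict_preimage_of_basicOpen_cover _ hinv T.1 (hc T.1 T.2) r
    (fun y hy => ⟨⟨y, hy⟩, hr1 ⟨y, hy⟩⟩) hr2

end ExternalTensorRel

section Disjoint
variable {Z : Scheme.{u}}

theorem subsingleton_sections_of_eq_bot {U : Z.Opens} (h : U = ⊥) : Subsingleton Γ(Z, U) := by
  subst h; infer_instance

/-- An idempotent function separating two disjoint opens. -/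
theorem exists_idempotent_of_disjoint (W U₁ U₂ : Z.Opens) (hd : U₁ ⊓ U₂ = ⊥)
    (hW : W ≤ U₁ ⊔ U₂) :
    ∃ e : Γ(Z, W), Z.basicOpen e = W ⊓ U₁ ∧ Z.basicOpen (1 - e) = W ⊓ U₂ := by
  let V : Bool → Z.Opens := fun b => if b then W ⊓ U₁ else W ⊓ U₂
  have hV : ∀ b, V b ≤ W := fun b => by cases b <;> exact inf_le_left
  have hVV : V true ⊓ V false = ⊥ := by
    change (W ⊓ U₁) ⊓ (W ⊓ U₂) = ⊥
    rw [eq_bot_iff, ← hd]
    exact inf_le_inf inf_le_right inf_le_right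
  have hcov : W ≤ iSup V := by
    intro x hx
    rcases hW hx with h | h
    · exact Opens.mem_iSup.mpr ⟨true, ⟨hx, h⟩⟩
    · exact Opens.mem_iSup.mpr ⟨false, ⟨hx, h⟩⟩
  obtain ⟨e, he⟩ := exists_gluing (unitM Z) V W hV hcov
    (fun b => if b then toUnit (1 : Γ(Z, V b)) else toUnit (0 : Γ(Z, V b))) (by
      intro i j
      cases i <;> cases j
      · rfl
      · have : Subsingleton Γ(Z, V false ⊓ V true) :=
          subsingleton_sections_of_eq_bot (by rw [inf_comm]; exact hVV)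
        exact Subsingleton.elim (α := Γ(Z, V false ⊓ V true)) _ _
      · have : Subsingleton Γ(Z, V true ⊓ V false) := subsingleton_sections_of_eq_bot hVV
        exact Subsingleton.elim (α := Γ(Z, V true ⊓ V false)) _ _
      · rfl)
  have he1 : rres Z (hV true) (fromUnit e) = 1 := he true
  have he0 : rres Z (hV false) (fromUnit e) = 0 := he false
  have h1 : W ⊓ U₁ ≤ Z.basicOpen (fromUnit e) := by
    refine (isUnit_rres_iff (hV true) (fromUnit e)).mp ?_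
    rw [he1]; exact isUnit_one
  have h2 : W ⊓ U₂ ≤ Z.basicOpen (1 - fromUnit e) := by
    refine (isUnit_rres_iff (hV false) (1 - fromUnit e)).mp ?_
    rw [map_sub, he0, map_one, sub_zero]; exact isUnit_one
  have h3 : (W ⊓ U₂) ⊓ Z.basicOpen (fromUnit e) = ⊥ := by
    have := Z.basicOpen_res (fromUnit e) (homOfLE (hV false)).op
    change Z.basicOpen (rres Z (hV false) (fromUnit e)) = _ at this
    rw [he0, Scheme.basicOpen_zero] at this
    exact this.symm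
  have h4 : (W ⊓ U₁) ⊓ Z.basicOpen (1 - fromUnit e) = ⊥ := by
    have := Z.basicOpen_res (1 - fromUnit e) (homOfLE (hV true)).op
    change Z.basicOpen (rres Z (hV true) (1 - fromUnit e)) = _ at this
    rw [map_sub, he1, map_one, sub_self, Scheme.basicOpen_zero] at this
    exact this.symm
  refine ⟨fromUnit e, le_antisymm ?_ h1, le_antisymm ?_ h2⟩
  · intro x hx
    have hxW : x ∈ W := Z.basicOpen_le _ hx
    rcases hW hxW with h | h
    · exact ⟨hxW, h⟩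
    · have : x ∈ ((W ⊓ U₂) ⊓ Z.basicOpen (fromUnit e) : Z.Opens) := ⟨⟨hxW, h⟩, hx⟩
      rw [h3] at this
      exact this.elim
  · intro x hx
    have hxW : x ∈ W := Z.basicOpen_le _ hx
    rcases hW hxW with h | h
    · have : x ∈ ((W ⊓ U₁) ⊓ Z.basicOpen (1 - fromUnit e) : Z.Opens) := ⟨⟨hxW, h⟩, hx⟩
      rw [h4] at this
      exact this.elim
    · exact ⟨hxW, h⟩

theorem isAmple_restrict_of_disjoint_cover {L : Z.Modules} (hL : PicF.IsInvertible L)
    (W U₁ U₂ : Z.Opens) (hc : IsCompact (W : Set Z)) (hd : U₁ ⊓ U₂ = ⊥) (hW : W ≤ U₁ ⊔ U₂)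
    (h₁ : CohB1.IsAmple (L.restrict (W ⊓ U₁).ι)) (h₂ : CohB1.IsAmple (L.restrict (W ⊓ U₂).ι)) :
    CohB1.IsAmple (L.restrict W.ι) := by
  obtain ⟨e, he1, he2⟩ := exists_idempotent_of_disjoint W U₁ U₂ hd hW
  refine isAmple_restrict_preimage_of_basicOpen_cover (𝟙 Z) hL W hc
    (fun b : Bool => if b then e else 1 - e) ?_ ?_
  · intro y hy
    rcases hW hy with h | h
    · exact ⟨true, by change y ∈ Z.basicOpen e; rw [he1]; exact ⟨hy, h⟩⟩
    · exact ⟨false, by change y ∈ Z.basicOpen (1 - e); rw [he2]; exact ⟨hy, h⟩⟩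
  · intro b
    cases b
    · change CohB1.IsAmple (L.restrict (Z.basicOpen (1 - e)).ι)
      rw [he2]; exact h₂
    · change CohB1.IsAmple (L.restrict (Z.basicOpen e).ι)
      rw [he1]; exact h₁

end Disjoint

section Coprod
variable {X X' Y : Scheme.{u}}

theorem quasiCompact_coprod_desc (f : X ⟶ Y) (f' : X' ⟶ Y) [QuasiCompact f] [QuasiCompact f'] :
    QuasiCompact (coprod.desc f f') := by
  refine ⟨fun K hKo hKc => ?_⟩
  have h1 : IsCompact ((coprod.inl : X ⟶ X ⨿ X') '' (f ⁻¹' K)) :=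
    (QuasiCompact.isCompact_preimage (f := f) K hKo hKc).image (coprod.inl : X ⟶ X ⨿ X').continuous
  have h2 : IsCompact ((coprod.inr : X' ⟶ X ⨿ X') '' (f' ⁻¹' K)) :=
    (QuasiCompact.isCompact_preimage (f := f') K hKo hKc).image (coprod.inr : X' ⟶ X ⨿ X').continuous
  have e : (coprod.desc f f') ⁻¹' K =
      (coprod.inl : X ⟶ X ⨿ X') '' (f ⁻¹' K) ∪ (coprod.inr : X' ⟶ X ⨿ X') '' (f' ⁻¹' K) := by
    ext z
    constructor
    · intro hz
      have hcov := (isCompl_range_inl_inr X X').codisjoint.top_le (Set.mem_univ z)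
      rcases hcov with ⟨x, rfl⟩ | ⟨x, rfl⟩
      · left
        refine ⟨x, ?_, rfl⟩
        have : (coprod.inl ≫ coprod.desc f f') x ∈ K := hz
        rwa [coprod.inl_desc] at this
      · right
        refine ⟨x, ?_, rfl⟩
        have : (coprod.inr ≫ coprod.desc f f') x ∈ K := hz
        rwa [coprod.inr_desc] at this
    · rintro (⟨x, hx, rfl⟩ | ⟨x, hx, rfl⟩)
      · change (coprod.inl ≫ coprod.desc f f') x ∈ K
        rwa [coprod.inl_desc]
      · change (coprod.inr ≫ coprod.desc f f') x ∈ K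
        rwa [coprod.inr_desc]
  rw [e]
  exact h1.union h2

/-- Transport of ampleness along an open immersion: `(j^* L)|_U` versus `L|_{j(U)}`. -/
theorem isAmple_restrict_pullback_iff_image {X Z : Scheme.{u}} (j : X ⟶ Z) [IsOpenImmersion j]
    (L : Z.Modules) (U : X.Opens) :
    CohB1.IsAmple (((Scheme.Modules.pullback j).obj L).restrict U.ι) ↔
      CohB1.IsAmple (L.restrict (j ''ᵁ U).ι) := by
  rw [isAmple_iff_of_iso (restrictIsoPullback U.ι _ ≪≫ pullbackCompIso U.ι j L ≪≫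
    (restrictIsoPullback (U.ι ≫ j) L).symm)]
  refine isAmple_restrict_iff_of_opensRange_eq _ L ?_
  rw [Scheme.Hom.opensRange_comp, Scheme.Opens.opensRange_ι]

theorem isInvertible_of_pullback_openImmersion_cover {Z : Scheme.{u}} {L : Z.Modules}
    (h : ∀ z : Z, ∃ (X : Scheme.{u}) (j : X ⟶ Z) (_ : IsOpenImmersion j),
      z ∈ j.opensRange ∧ PicF.IsInvertible ((Scheme.Modules.pullback j).obj L)) :
    PicF.IsInvertible L := by
  refine isInvertible_of_isTriv' fun z => ?_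
  obtain ⟨X, j, hj, ⟨x, rfl⟩, hinv⟩ := h z
  have hinv' : PicF.IsInvertible (L.restrict j) :=
    isInvertible_of_iso (restrictIsoPullback j L).symm hinv
  obtain ⟨U', e, hxU', he⟩ := exists_isTriv hinv' x
  exact ⟨j ''ᵁ U', e, ⟨x, hxU', rfl⟩, he.of_restrict j⟩

theorem isRelAmple_coprod_iff (f : X ⟶ Y) (f' : X' ⟶ Y) [QuasiCompact f] [QuasiCompact f']
    (L'' : (X ⨿ X').Modules)
    (hL : PicF.IsInvertible ((Scheme.Modules.pullback (coprod.inl : X ⟶ X ⨿ X')).obj L''))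
    (hL' : PicF.IsInvertible ((Scheme.Modules.pullback (coprod.inr : X' ⟶ X ⨿ X')).obj L'')) :
    RelAmple.IsRelAmple (coprod.desc f f') L'' ↔
      RelAmple.IsRelAmple f ((Scheme.Modules.pullback (coprod.inl : X ⟶ X ⨿ X')).obj L'') ∧
        RelAmple.IsRelAmple f' ((Scheme.Modules.pullback (coprod.inr : X' ⟶ X ⨿ X')).obj L'') := by
  have hqc := quasiCompact_coprod_desc f f'
  constructor
  · intro h
    constructor
    · have : QuasiCompact ((coprod.inl : X ⟶ X ⨿ X') ≫ coprod.desc f f') := by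
        rw [coprod.inl_desc]; infer_instance
      have h2 := isRelAmple_pullback_of_isEmbedding (coprod.desc f f') (coprod.inl : X ⟶ X ⨿ X')
        (coprod.inl : X ⟶ X ⨿ X').isOpenEmbedding.isEmbedding h
      rwa [coprod.inl_desc] at h2
    · have : QuasiCompact ((coprod.inr : X' ⟶ X ⨿ X') ≫ coprod.desc f f') := by
        rw [coprod.inr_desc]; infer_instance
      have h2 := isRelAmple_pullback_of_isEmbedding (coprod.desc f f') (coprod.inr : X' ⟶ X ⨿ X')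
        (coprod.inr : X' ⟶ X ⨿ X').isOpenEmbedding.isEmbedding h
      rwa [coprod.inr_desc] at h2
  · rintro ⟨h1, h2⟩
    have hinv : PicF.IsInvertible L'' := by
      refine isInvertible_of_pullback_openImmersion_cover fun z => ?_
      have hcov := (isCompl_range_inl_inr X X').codisjoint.top_le (Set.mem_univ z)
      rcases hcov with hz | hz
      · exact ⟨X, coprod.inl, inferInstance, hz, hL⟩
      · exact ⟨X', coprod.inr, inferInstance, hz, hL'⟩
    refine ⟨hqc, fun V => ?_⟩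
    have hc : IsCompact (((coprod.desc f f') ⁻¹ᵁ V.1 : (X ⨿ X' : Scheme.{u}).Opens) :
        Set (X ⨿ X' : Scheme.{u})) :=
      QuasiCompact.isCompact_preimage (f := coprod.desc f f') _ V.1.2 V.2.isCompact
    refine isAmple_restrict_of_disjoint_cover hinv _
      (coprod.inl : X ⟶ X ⨿ X').opensRange (coprod.inr : X' ⟶ X ⨿ X').opensRange hc
      (isCompl_opensRange_inl_inr X X').inf_eq_bot
      ((isCompl_opensRange_inl_inr X X').sup_eq_top ▸ le_top) ?_ ?_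
    · have e : (coprod.inl : X ⟶ X ⨿ X') ''ᵁ (f ⁻¹ᵁ V.1) =
          (coprod.desc f f') ⁻¹ᵁ V.1 ⊓ (coprod.inl : X ⟶ X ⨿ X').opensRange := by
        have : f ⁻¹ᵁ V.1 = (coprod.inl : X ⟶ X ⨿ X') ⁻¹ᵁ ((coprod.desc f f') ⁻¹ᵁ V.1) := by
          rw [← Scheme.Hom.comp_preimage, coprod.inl_desc]
        rw [this, Scheme.Hom.image_preimage_eq_opensRange_inf, inf_comm]
      rw [← e, ← isAmple_restrict_pullback_iff_image]
      exact h1.2 V
    · have e : (coprod.inr : X' ⟶ X ⨿ X') ''ᵁ (f' ⁻¹ᵁ V.1) =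
          (coprod.desc f f') ⁻¹ᵁ V.1 ⊓ (coprod.inr : X' ⟶ X ⨿ X').opensRange := by
        have : f' ⁻¹ᵁ V.1 = (coprod.inr : X' ⟶ X ⨿ X') ⁻¹ᵁ ((coprod.desc f f') ⁻¹ᵁ V.1) := by
          rw [← Scheme.Hom.comp_preimage, coprod.inr_desc]
        rw [this, Scheme.Hom.image_preimage_eq_opensRange_inf, inf_comm]
      rw [← e, ← isAmple_restrict_pullback_iff_image]
      exact h2.2 V

end Coprod

end Groth.Agent.Lib.Helper29.QCoh
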