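import Groth.Agent.Lib.Helper29.PullTensor
import Groth.Agent.Lib.Helper29.Dual3
import Groth.Agent.Lib.Helper29.AmpDiv1
import Groth.Prelude.Def_Omega2
universe u
open CategoryTheory CategoryTheory.Limits AlgebraicGeometry TopologicalSpace Opposite

/-! # The normal bundle of an effective Cartier divisor -/

namespace Groth.Agent.Lib.Helper29.NormCart
open Groth.Agent.Lib.Helper29.QCoh Groth.Agent.Lib.Helper29.AmpDiv
  Groth.Agent.Lib.Helper25.HypTwist Groth.Agent.Lib.Helper25.BlowUpUP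
  Groth.Agent.Lib.Helper29.QCoh.Dual

variable {X Y : Scheme.{u}}

/-- Noetherian-free version of `AmpDiv.exists_isTriv_idealMod`. -/
theorem exists_isTriv_idealMod' (D : X.IdealSheafData) {U : X.Opens}
    (hU : IsAffineOpen U) (a : Γ(X, U)) (ha : a ∈ nonZeroDivisors Γ(X, U))
    (hI : D.ideal ⟨U, hU⟩ = Ideal.span {a}) :
    ∃ α : Γ(ClSub.idealMod D, U), ifun D α = a ∧ IsTriv (ClSub.idealMod D) U α := by
  obtain ⟨α, hα⟩ := exists_ifun_eq D ⟨U, hU⟩ a (by rw [hI]; exact Ideal.mem_span_singleton_self a)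
  refine ⟨α, hα, isTriv_idealMod D α ?_ ?_⟩
  · intro W h
    rw [hα]
    have := (principal_of_le D (show W ≤ (⟨U, hU⟩ : X.affineOpens) from h) a ha hI).2
    exact le_of_eq this
  · intro W h r hr
    rw [hα] at hr
    exact rres_mul_eq_zero hU a ha W h r hr

theorem isInvertible_idealMod' (D : X.IdealSheafData)
    (hD : BlowUp.IsEffCartierIdeal D) : PicF.IsInvertible (ClSub.idealMod D) := by
  refine isInvertible_of_isTriv fun x => ?_
  obtain ⟨U, hxU, a, ha, hI⟩ := hD x
  obtain ⟨α, -, hα⟩ := exists_isTriv_idealMod' D U.2 a ha hI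
  exact ⟨U.1, α, hxU, hα⟩

/-- Tensor inverses are unique up to isomorphism. -/
theorem nonempty_iso_of_inverses {N N' L : X.Modules}
    (θ : CohB1.tensorMod N L ≅ unitM X) (θ' : CohB1.tensorMod N' L ≅ unitM X) :
    Nonempty (N ≅ N') :=
  ⟨(tensorUnitR N).symm ≪≫ tensorCongr (Iso.refl N) θ'.symm ≪≫
    tensorCongr (Iso.refl N) (tensorBraid N' L) ≪≫ (tensorAssoc N L N').symm ≪≫
    tensorCongr θ (Iso.refl N') ≪≫ tensorUnitL N'⟩

/-- The dual commutes with pullback for invertible modules. -/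
theorem nonempty_dual_pullback_iso (f : X ⟶ Y) {M : Y.Modules} (hM : PicF.IsInvertible M) :
    Nonempty (RefHull.dual ((Scheme.Modules.pullback f).obj M) ≅
      (Scheme.Modules.pullback f).obj (RefHull.dual M)) := by
  have hN := isInvertible_pullback f hM
  obtain ⟨φ, -⟩ := exists_pullbackTensorIso f (isInvertible_dual hM) hM
  exact nonempty_iso_of_inverses (dualTensorIso hN)
    (φ.symm ≪≫ (Scheme.Modules.pullback f).mapIso (dualTensorIso hM) ≪≫ pullbackUnitIso f)

theorem main (S : Scheme.{u}) (𝓓 : S.IdealSheafData) (hD : BlowUp.IsEffCartierIdeal 𝓓) :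
    Nonempty (RefHull.dual (Omega.conormal 𝓓.subschemeι) ≅
      (Scheme.Modules.pullback 𝓓.subschemeι).obj (RefHull.dual (ClSub.idealMod 𝓓))) := by
  have h1 : Omega.conormal 𝓓.subschemeι =
      (Scheme.Modules.pullback 𝓓.subschemeι).obj (ClSub.idealMod 𝓓) := by
    unfold Omega.conormal
    rw [Scheme.IdealSheafData.ker_subschemeι]
  rw [h1]
  exact nonempty_dual_pullback_iso _ (isInvertible_idealMod' 𝓓 hD)

end Groth.Agent.Lib.Helper29.NormCart
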