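import Groth.Agent.Lib.Helper29.Dual1
universe u
open CategoryTheory CategoryTheory.Limits AlgebraicGeometry TopologicalSpace Opposite

/-! # The dual of an invertible module: local generators -/

namespace Groth.Agent.Lib.Helper29.QCoh.Dual
open Groth.Agent.Lib.Helper29.QCoh

variable {X : Scheme.{u}} {L : X.Modules}

/-- The stalk of a trivialised module is free on the germ of the trivialising section. -/
noncomputable def coordEquiv {U : X.Opens} {l : Γ(L, U)} (hT : IsTriv L U l) (x : X) (hx : x ∈ U) :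
    X.presheaf.stalk x ≃ₗ[X.presheaf.stalk x] L.presheaf.stalk x :=
  LinearEquiv.ofBijective
    (LinearMap.toSpanSingleton (X.presheaf.stalk x) (L.presheaf.stalk x) (L.presheaf.germ U x hx l))
    ⟨by
      rw [← LinearMap.ker_eq_bot, LinearMap.ker_eq_bot']
      intro r hr
      exact MeroK.isTriv_germ_smul_eq_zero hT x hx r hr,
     by
      intro t
      have ht : t ∈ Submodule.span (X.presheaf.stalk x) {L.presheaf.germ U x hx l} := by
        rw [hT.span_germ_eq_top x hx]; trivial
      obtain ⟨r, rfl⟩ := Submodule.mem_span_singleton.mp ht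
      exact ⟨r, rfl⟩⟩

theorem coordEquiv_apply {U : X.Opens} {l : Γ(L, U)} (hT : IsTriv L U l) (x : X) (hx : x ∈ U)
    (r : X.presheaf.stalk x) : coordEquiv hT x hx r = r • L.presheaf.germ U x hx l := rfl

/-- The coordinate functional `L_x → (O_X)_x`, `r • l_x ↦ r • 1`. -/
noncomputable def coord {U : X.Opens} {l : Γ(L, U)} (hT : IsTriv L U l) (x : X) (hx : x ∈ U) :
    RefHull.StalkHom L (unitM X) x :=
  (LinearMap.toSpanSingleton (X.presheaf.stalk x) ((unitM X).presheaf.stalk x)
    ((unitM X).presheaf.germ U x hx (toUnit 1))) ∘ₗ (coordEquiv hT x hx).symm.toLinearMap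

theorem coord_smul_germ {U : X.Opens} {l : Γ(L, U)} (hT : IsTriv L U l) (x : X) (hx : x ∈ U)
    (r : X.presheaf.stalk x) :
    coord hT x hx (r • L.presheaf.germ U x hx l) =
      r • (unitM X).presheaf.germ U x hx (toUnit 1) := by
  unfold coord
  rw [LinearMap.comp_apply, ← coordEquiv_apply hT x hx r]
  simp only [LinearEquiv.coe_coe, LinearEquiv.symm_apply_apply, LinearMap.toSpanSingleton_apply]

theorem germ_toUnit {V : X.Opens} (a : Γ(X, V)) (x : X) (hx : x ∈ V) :
    (unitM X).presheaf.germ V x hx (toUnit a) =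
      X.presheaf.germ V x hx a • (unitM X).presheaf.germ V x hx (toUnit 1) := by
  rw [toUnit_eq_smul_one, germ_smul]

theorem coord_germ_smul {U V : X.Opens} {l : Γ(L, U)} (hT : IsTriv L U l) (h : V ≤ U)
    (a : Γ(X, V)) (x : X) (hx : x ∈ V) :
    coord hT x (h hx) (L.presheaf.germ V x hx (a • QCoh.res L h l)) =
      (unitM X).presheaf.germ V x hx (toUnit a) := by
  rw [germ_smul, germ_res, coord_smul_germ, germ_toUnit a,
    ← germ_res (unitM X) h x hx (toUnit 1), res_toUnit_one]

/-- The dual generator: the section of `𝓗om(L, O_X)` over `U` dual to a trivialising section. -/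
noncomputable def dualGen {U : X.Opens} {l : Γ(L, U)} (hT : IsTriv L U l) :
    Γ(RefHull.homSh L (unitM X), U) :=
  ⟨fun x => coord hT x.1 x.2, fun V i m x => by
    obtain ⟨a, ha⟩ := (hT.restrict i.le).exists_eq_smul m
    refine ⟨V, x.2, 𝟙 V, toUnit a, fun y => ?_⟩
    rw [ha]
    exact coord_germ_smul hT i.le a y.1 y.2⟩

theorem dualGen_apply {U : X.Opens} {l : Γ(L, U)} (hT : IsTriv L U l) (x : X) (hx : x ∈ U) :
    (dualGen hT).1 ⟨x, hx⟩ = coord hT x hx := rfl

theorem ev_dualGen_smul {U V : X.Opens} {l : Γ(L, U)} (hT : IsTriv L U l) (h : V ≤ U)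
    (a : Γ(X, V)) :
    ev (QCoh.res (RefHull.homSh L (unitM X)) h (dualGen hT)) (a • QCoh.res L h l) = toUnit a :=
  ev_eq_of_germ _ _ _ fun x hx => coord_germ_smul hT h a x hx

theorem ev_dualGen {U : X.Opens} {l : Γ(L, U)} (hT : IsTriv L U l) :
    ev (dualGen hT) l = toUnit 1 := by
  have := ev_dualGen_smul hT le_rfl 1
  rwa [one_smul, res_self, res_self] at this

/-- A section of the dual is determined by its value on a trivialising section. -/
theorem eq_smul_dualGen {U V : X.Opens} {l : Γ(L, U)} (hT : IsTriv L U l) (h : V ≤ U)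
    (ψ : Γ(RefHull.homSh L (unitM X), V)) :
    ψ = fromUnit (ev ψ (QCoh.res L h l)) • QCoh.res (RefHull.homSh L (unitM X)) h (dualGen hT) := by
  apply Subtype.ext
  funext x
  apply LinearMap.ext
  intro t
  have ht : t ∈ Submodule.span (X.presheaf.stalk x.1) {L.presheaf.germ U x.1 (h x.2) l} := by
    rw [hT.span_germ_eq_top x.1 (h x.2)]; trivial
  obtain ⟨r, rfl⟩ := Submodule.mem_span_singleton.mp ht
  rw [map_smul, map_smul]
  congr 1
  have h1 : ψ.1 x (L.presheaf.germ U x.1 (h x.2) l) =
      (unitM X).presheaf.germ V x.1 x.2 (ev ψ (QCoh.res L h l)) := by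
    rw [germ_ev, germ_res]
  rw [h1]
  change _ = (X.presheaf.germ V x.1 x.2 (fromUnit (ev ψ (QCoh.res L h l)))) •
    coord hT x.1 (h x.2) (L.presheaf.germ U x.1 (h x.2) l)
  have h2 := coord_smul_germ hT x.1 (h x.2) 1
  rw [one_smul, one_smul] at h2
  rw [h2, ← germ_res (unitM X) h x.1 x.2 (toUnit 1), res_toUnit_one, ← germ_toUnit, toUnit_fromUnit]

theorem isTriv_dualGen {U : X.Opens} {l : Γ(L, U)} (hT : IsTriv L U l) :
    IsTriv (RefHull.homSh L (unitM X)) U (dualGen hT) := by
  intro W hW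
  constructor
  · intro r r' hrr'
    have h := congrArg (fun ψ => ev ψ (QCoh.res L hW l)) hrr'
    simp only [ev_smul_left] at h
    have h1 := ev_dualGen_smul hT hW 1
    rw [one_smul] at h1
    rw [h1, ← toUnit_eq_smul_one, ← toUnit_eq_smul_one] at h
    exact h
  · intro ψ
    exact ⟨_, (eq_smul_dualGen hT hW ψ).symm⟩

end Groth.Agent.Lib.Helper29.QCoh.Dual
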