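import Groth.Agent.Lib.Helper29.ToProj2
import Groth.Agent.Lib.Helper29.Twist2
universe u
open CategoryTheory CategoryTheory.Limits AlgebraicGeometry Opposite TopologicalSpace

/-! # Morphisms to `Proj` given on charts by graded localisation maps: action on functions -/

namespace Groth.Agent.Lib.Helper29.QCoh

section PCT1
variable {R A : Type u} [CommRing R] [CommRing A] [Algebra R A] (𝒜 : ℕ → Submodule R A) [GradedAlgebra 𝒜]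
open HomogeneousLocalization

theorem awayι_preimage_basicOpen_top {f : A} {d : ℕ} (hf : f ∈ 𝒜 d) (hd : 0 < d) :
    Proj.awayι 𝒜 f hf hd ⁻¹ᵁ Proj.basicOpen 𝒜 f = ⊤ := by
  unfold Proj.awayι
  rw [comp_ι_preimage]

theorem awayToSection_awayι_appLE {f : A} {d : ℕ} (hf : f ∈ 𝒜 d) (hd : 0 < d) :
    Proj.awayToSection 𝒜 f ≫ (Proj.awayι 𝒜 f hf hd).appLE (Proj.basicOpen 𝒜 f) ⊤
        (by rw [awayι_preimage_basicOpen_top]) = (Scheme.ΓSpecIso _).inv := by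
  have h0 : (Proj.awayι 𝒜 f hf hd).appLE (Proj.basicOpen 𝒜 f) ⊤
        (by rw [awayι_preimage_basicOpen_top]) =
      ((Proj.basicOpenIsoSpec 𝒜 f hf hd).inv ≫ (Proj.basicOpen 𝒜 f).ι).appLE
          (Proj.basicOpen 𝒜 f) ⊤ (by rw [comp_ι_preimage]) := rfl
  rw [h0, comp_ι_appLE]
  have h1 := Proj.basicOpenToSpec_app_top 𝒜 f
  have h2 : Proj.awayToSection 𝒜 f ≫ (Proj.basicOpen 𝒜 f).topIso.inv =
      (Scheme.ΓSpecIso _).inv ≫ (Proj.basicOpenIsoSpec 𝒜 f hf hd).hom.appTop := by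
    rw [Proj.basicOpenIsoSpec_hom, Scheme.Hom.appTop, h1, Iso.inv_hom_id_assoc]
  rw [reassoc_of% h2, ← Scheme.Hom.comp_appTop, Iso.inv_hom_id, Scheme.Hom.id_appTop,
    Category.comp_id]

/-- If `c ≫ r = Spec ψ ≫ awayι f`, then `r` acts on functions over `D_+(f)` by `ψ`. -/
theorem appLE_awayToSection_of_comp_eq {Y : Scheme.{u}} {S : CommRingCat.{u}} (c : Spec S ⟶ Y)
    (r : Y ⟶ Proj 𝒜) {f : A} {d : ℕ} (hf : f ∈ 𝒜 d) (hd : 0 < d)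
    (ψ : CommRingCat.of (Away 𝒜 f) ⟶ S)
    (hc : c ≫ r = Spec.map ψ ≫ Proj.awayι 𝒜 f hf hd) (W : Y.Opens)
    (hW : W ≤ r ⁻¹ᵁ Proj.basicOpen 𝒜 f) (hcW : ⊤ ≤ c ⁻¹ᵁ W) (a : Away 𝒜 f) :
    (c.appLE W ⊤ hcW).hom ((r.appLE (Proj.basicOpen 𝒜 f) W hW).hom
        ((Proj.awayToSection 𝒜 f).hom a)) = (Scheme.ΓSpecIso S).inv.hom (ψ.hom a) := by
  have e0 : (⊤ : (Spec S).Opens) ≤ (c ≫ r) ⁻¹ᵁ Proj.basicOpen 𝒜 f :=
    hcW.trans ((Opens.map c.base).map (homOfLE hW)).le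
  have h1 : r.appLE (Proj.basicOpen 𝒜 f) W hW ≫ c.appLE W ⊤ hcW =
      (c ≫ r).appLE (Proj.basicOpen 𝒜 f) ⊤ e0 := Scheme.Hom.appLE_comp_appLE c r _ _ _ hW hcW
  have h2 : (c ≫ r).appLE (Proj.basicOpen 𝒜 f) ⊤ e0 =
      (Spec.map ψ ≫ Proj.awayι 𝒜 f hf hd).appLE (Proj.basicOpen 𝒜 f) ⊤ (hc ▸ e0) :=
    appLE_congr_hom hc _ _ _
  have h3 : (Spec.map ψ ≫ Proj.awayι 𝒜 f hf hd).appLE (Proj.basicOpen 𝒜 f) ⊤ (hc ▸ e0) =
      (Proj.awayι 𝒜 f hf hd).appLE (Proj.basicOpen 𝒜 f) ⊤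
        (by rw [awayι_preimage_basicOpen_top]) ≫ (Spec.map ψ).appLE ⊤ ⊤ le_rfl :=
    (Scheme.Hom.appLE_comp_appLE (Spec.map ψ) (Proj.awayι 𝒜 f hf hd) _ _ _ _ _).symm
  have h4 : (Spec.map ψ).appLE ⊤ ⊤ le_rfl = (Spec.map ψ).appTop := by
    rw [Scheme.Hom.appTop, Scheme.Hom.app_eq_appLE]
    rfl
  have key : Proj.awayToSection 𝒜 f ≫ r.appLE (Proj.basicOpen 𝒜 f) W hW ≫ c.appLE W ⊤ hcW =
      ψ ≫ (Scheme.ΓSpecIso S).inv := by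
    rw [h1, h2, h3, h4, ← Category.assoc, awayToSection_awayι_appLE,
      ← Scheme.ΓSpecIso_inv_naturality]
  have := congrArg (fun k => k.hom a) key
  simpa only [CommRingCat.hom_comp, RingHom.coe_comp, Function.comp_apply] using this

end PCT1

end Groth.Agent.Lib.Helper29.QCoh
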