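import Groth.Agent.Lib.Helper29.FinCov5
import Groth.Agent.Lib.Helper29.TensorDesc
import Mathlib.LinearAlgebra.Matrix.Charpoly.Coeff
universe u
open CategoryTheory CategoryTheory.Limits AlgebraicGeometry TopologicalSpace Opposite

namespace Groth.Agent.Lib.Helper29.QCoh

section Alg
variable {R S : Type*} [CommRing R] [CommRing S] [Algebra R S]

open Polynomial in
/-- Cayley–Hamilton in a free algebra of rank two. -/
theorem sq_sub_trace_add_norm (b : Module.Basis (Fin 2) R S) (a : S) :
    a * a - Algebra.trace R S a • a + algebraMap R S (Algebra.norm R a) = 0 := by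
  cases subsingleton_or_nontrivial R
  · haveI : Subsingleton S := Module.subsingleton R S
    exact Subsingleton.elim _ _
  have h1 := Matrix.aeval_self_charpoly (Algebra.leftMulMatrix b a)
  rw [Matrix.charpoly_fin_two, ← Algebra.trace_eq_matrix_trace b a,
    ← Algebra.norm_eq_matrix_det b a] at h1
  have h2 : Algebra.leftMulMatrix b
      (a * a - Algebra.trace R S a • a + algebraMap R S (Algebra.norm R a)) = 0 := by
    rw [← h1]
    simp only [map_add, map_sub, map_mul, map_pow, aeval_X, aeval_C, pow_two, map_smul,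
      AlgHom.commutes, Algebra.smul_def]
  exact Algebra.leftMulMatrix_injective b (h2.trans (map_zero _).symm)

/-- The product of two traceless elements in a free algebra of rank two is a scalar. -/
theorem mul_eq_of_trace_eq_zero (b : Module.Basis (Fin 2) R S) (half : R) (hhalf : 2 * half = 1)
    {x y : S} (hx : Algebra.trace R S x = 0) (hy : Algebra.trace R S y = 0) :
    x * y = algebraMap R S (half * Algebra.trace R S (x * y)) := by
  have h1 := sq_sub_trace_add_norm b x
  have h2 := sq_sub_trace_add_norm b y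
  have h3 := sq_sub_trace_add_norm b (x + y)
  rw [hx, zero_smul, sub_zero] at h1
  rw [hy, zero_smul, sub_zero] at h2
  rw [map_add, hx, hy, add_zero, zero_smul, sub_zero] at h3
  set c : R := Algebra.norm R x + Algebra.norm R y - Algebra.norm R (x + y) with hc
  have h4 : 2 * (x * y) = algebraMap R S c := by
    rw [hc, map_sub, map_add]
    linear_combination h3 - h1 - h2
  have h5 : x * y = algebraMap R S (half * c) := by
    have : (algebraMap R S (2 * half)) * (x * y) = x * y := by rw [hhalf, map_one, one_mul]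
    rw [← this, map_mul, map_mul, map_ofNat]
    linear_combination (algebraMap R S half) * h4
  have h6 : Algebra.trace R S (x * y) = c := by
    rw [h5, Algebra.trace_algebraMap_of_basis b, Fintype.card_fin, nsmul_eq_mul]
    linear_combination c * hhalf
  rw [h6]
  exact h5

end Alg

end Groth.Agent.Lib.Helper29.QCoh

namespace Groth.Agent.Lib.Helper29.QCoh

section Sheaf
variable {X : Scheme.{u}} (A : RelSpec.QCAlg X)

theorem exists_trace_retraction {d : ℕ} (hA : FlatMod.IsFinLocFreeOfRank d A.toModule)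
    {τ : A.toModule ⟶ Coh.structureModule X} (hτ : FinCov.IsTrace A τ)
    (hd : IsUnit ((d : Γ(X, ⊤)))) :
    ∃ (σ : Coh.structureModule X ⟶ A.toModule) (r : A.toModule ⟶ kernel τ),
      σ ≫ τ = 𝟙 _ ∧ kernel.ι τ ≫ r = 𝟙 _ ∧ σ ≫ r = 0 ∧ r ≫ kernel.ι τ + τ ≫ σ = 𝟙 _ := by
  obtain ⟨σ, hσ⟩ := trace_splitting A hA hτ hd
  have hz : (𝟙 A.toModule - τ ≫ σ) ≫ τ = 0 := by
    rw [Preadditive.sub_comp, Category.assoc, hσ, Category.id_comp, Category.comp_id, sub_self]
  have hri : kernel.lift τ (𝟙 A.toModule - τ ≫ σ) hz ≫ kernel.ι τ = 𝟙 A.toModule - τ ≫ σ :=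
    kernel.lift_ι _ _ _
  refine ⟨σ, kernel.lift τ (𝟙 A.toModule - τ ≫ σ) hz, hσ, ?_, ?_, ?_⟩
  · rw [← cancel_mono (kernel.ι τ), Category.assoc, hri, Preadditive.comp_sub, Category.comp_id,
      ← Category.assoc, kernel.condition, zero_comp, sub_zero, Category.id_comp]
  · rw [← cancel_mono (kernel.ι τ), Category.assoc, hri, Preadditive.comp_sub, Category.comp_id,
      ← Category.assoc, hσ, Category.id_comp, sub_self, zero_comp]
  · rw [hri, sub_add_cancel]

theorem trace_str {d : ℕ} (hA : FlatMod.IsFinLocFreeOfRank d A.toModule)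
    {τ : A.toModule ⟶ Coh.structureModule X} (hτ : FinCov.IsTrace A τ) (U : X.Opens)
    (s : Γ(X, U)) :
    τ.app U (ofRing A ((A.str.app (op U)).hom s)) = toUnit ((d : Γ(X, U)) * s) := by
  have h1 := strMod_comp_trace A hA hτ
  have h2 : (FinCov.strMod A ≫ τ).app U (toUnit s) =
      (d • 𝟙 (Coh.structureModule X)).app U (toUnit s) := by rw [h1]
  rw [nsmul_app_apply] at h2
  refine h2.trans ?_
  change (d : ℕ) • (s : Γ(X, U)) = d * s
  rw [nsmul_eq_mul]

theorem trace_ι {τ : A.toModule ⟶ Coh.structureModule X} (U : X.Opens)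
    (l : Γ(kernel τ, U)) : τ.app U ((kernel.ι τ).app U l) = 0 := by
  have h : (kernel.ι τ ≫ τ).app U l = (0 : kernel τ ⟶ _).app U l := by rw [kernel.condition]
  exact h

theorem isUnit_two_res (h2 : IsUnit (2 : Γ(X, ⊤))) (U : X.Opens) : IsUnit (2 : Γ(X, U)) := by
  have := h2.map (X.presheaf.map (homOfLE (le_top : U ≤ ⊤)).op).hom
  rwa [map_ofNat] at this

theorem bijective_str_add_ι (hA : FlatMod.IsFinLocFreeOfRank 2 A.toModule)
    {τ : A.toModule ⟶ Coh.structureModule X} (hτ : FinCov.IsTrace A τ)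
    (h2 : IsUnit (2 : Γ(X, ⊤))) (U : X.Opens) :
    Function.Bijective fun p : Γ(X, U) × (kernel τ).val.obj (op U) =>
      (A.str.app (op U)).hom p.1 +
        FinCov.toSec A (((kernel.ι τ).val.app (op U)).hom p.2) := by
  have hd : IsUnit (((2 : ℕ) : Γ(X, ⊤))) := by
    rw [Nat.cast_ofNat]
    exact h2
  obtain ⟨σ, r, hσ, hir, hσr, hsum⟩ := exists_trace_retraction A hA hτ hd
  have hU2 := isUnit_two_res h2 U
  have happ : ∀ {P Q : X.Modules} (φ ψ : P ⟶ Q) (p : Γ(P, U)), φ = ψ → φ.app U p = ψ.app U p :=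
    fun φ ψ p h => by rw [h]
  have hτstr : ∀ s : Γ(X, U), τ.app U (ofRing A ((A.str.app (op U)).hom s)) =
      toUnit (2 * s) := fun s => by
    rw [trace_str A hA hτ U s, Nat.cast_ofNat]
  constructor
  · rintro ⟨s, l⟩ ⟨s', l'⟩ h
    have h' : ofRing A ((A.str.app (op U)).hom s) + (kernel.ι τ).app U l =
        ofRing A ((A.str.app (op U)).hom s') + (kernel.ι τ).app U l' := h
    have h3 := congrArg (τ.app U) h'
    rw [map_add, map_add, trace_ι, trace_ι, add_zero, add_zero, hτstr, hτstr] at h3
    have h4 : s = s' := hU2.mul_right_inj.mp h3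
    subst h4
    have h5 : (kernel.ι τ).app U l = (kernel.ι τ).app U l' := add_left_cancel h'
    have h6 := congrArg (r.app U) h5
    have h7 := happ _ _ l hir
    have h8 := happ _ _ l' hir
    have h9 : l = l' := h7.symm.trans (h6.trans h8)
    rw [h9]
  · intro (a : Γ(A.toModule, U))
    obtain ⟨v, hv⟩ := hU2
    set t : Γ(X, U) := fromUnit (τ.app U a) with ht
    set s : Γ(X, U) := ((v⁻¹ : Γ(X, U)ˣ) : Γ(X, U)) * t with hs
    set b : Γ(A.toModule, U) := a - ofRing A ((A.str.app (op U)).hom s) with hb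
    have hτb : τ.app U b = 0 := by
      rw [hb, map_sub, hτstr]
      change toUnit t - toUnit (2 * s) = 0
      rw [hs, ← hv, ← mul_assoc, Units.mul_inv, one_mul, sub_self]
    have h3 := happ _ _ b hsum
    simp only [Scheme.Modules.Hom.add_app] at h3
    have h4 : (kernel.ι τ).app U (r.app U b) + σ.app U (τ.app U b) = b := h3
    rw [hτb, map_zero, add_zero] at h4
    refine ⟨(s, r.app U b), ?_⟩
    change ofRing A ((A.str.app (op U)).hom s) + (kernel.ι τ).app U (r.app U b) = a
    rw [h4, hb]
    exact add_sub_cancel _ _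

end Sheaf

end Groth.Agent.Lib.Helper29.QCoh

namespace Groth.Agent.Lib.Helper29.QCoh

section Pair
variable {X : Scheme.{u}}

/-- Composition of a pairing with morphisms. -/
noncomputable def Pairing.comp {M N Q M' N' Q' : X.Modules} (β : Pairing M N Q)
    (f : M' ⟶ M) (g : N' ⟶ N) (h : Q ⟶ Q') : Pairing M' N' Q' where
  b U m n := h.app U (β.b U (f.app U m) (g.app U n))
  add_left U m m' n := by rw [map_add, β.add_left, map_add]
  add_right U m n n' := by rw [map_add, β.add_right, map_add]
  smul_left U r m n := by rw [app_smul', β.smul_left, app_smul']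
  smul_right U r m n := by rw [app_smul', β.smul_right, app_smul']
  res hUV m n := by rw [← app_res, β.res, app_res, app_res]

variable (A : RelSpec.QCAlg X)

/-- The multiplication of a quasi-coherent algebra, as a pairing. -/
noncomputable def mulPairing : Pairing A.toModule A.toModule A.toModule where
  b U x y := ofRing A (asRing A x * asRing A y)
  add_left U x x' y := add_mul (asRing A x) (asRing A x') (asRing A y)
  add_right U x y y' := mul_add (asRing A x) (asRing A y) (asRing A y')
  smul_left U r x y := mul_assoc ((A.str.app (op U)).hom r) (asRing A x) (asRing A y)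
  smul_right U r x y := mul_left_comm (asRing A x) ((A.str.app (op U)).hom r) (asRing A y)
  res hUV x y := map_mul (A.presheaf.map (homOfLE hUV).op).hom (asRing A x) (asRing A y)

theorem homOfSection_app (N : X.Modules) (s : Γ(N, ⊤)) (U : X.Opens) (r : Γ(X, U)) :
    (homOfSection N s).app U (toUnit r) = r • res N (le_top : U ≤ ⊤) s := by
  rw [app_eq_smul_sval, ← res_sval (homOfSection N s) (le_top : U ≤ ⊤)]
  congr 2
  exact homOfSection_app_one N s

end Pair

end Groth.Agent.Lib.Helper29.QCoh

namespace Groth.Agent.Lib.Helper29.QCoh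

section Main
variable {X : Scheme.{u}} (A : RelSpec.QCAlg X)

theorem str_res {U V : X.Opens} (h : V ≤ U) (c : Γ(X, U)) :
    res A.toModule h (ofRing A ((A.str.app (op U)).hom c)) =
      ofRing A ((A.str.app (op V)).hom ((X.presheaf.map (homOfLE h).op).hom c)) :=
  (congr_arg (fun ψ => ψ.hom c) (A.str.naturality (homOfLE h).op)).symm

theorem mul_eq_str_of_trace_eq_zero (hA : FlatMod.IsFinLocFreeOfRank 2 A.toModule)
    {τ : A.toModule ⟶ Coh.structureModule X} (hτ : FinCov.IsTrace A τ)
    (half : Γ(X, ⊤)) (hhalf : 2 * half = 1) (U : X.Opens) (x y : Γ(A.toModule, U))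
    (hx : τ.app U x = 0) (hy : τ.app U y = 0) :
    ofRing A (asRing A x * asRing A y) =
      ofRing A ((A.str.app (op U)).hom ((X.presheaf.map (homOfLE (le_top : U ≤ ⊤)).op).hom half *
        fromUnit (τ.app U (ofRing A (asRing A x * asRing A y))))) := by
  choose V hV hzV hVU hVe using fun z : U =>
    exists_affine_le_linearEquiv_of_isFinLocFreeOfRank hA z.1 z.2
  refine eq_of_res_cover_eq A.toModule V hVU ?_ _ _ ?_
  · intro z hz
    exact Opens.mem_iSup.mpr ⟨⟨z, hz⟩, hzV ⟨z, hz⟩⟩
  · intro z
    obtain ⟨e⟩ := hVe z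
    rw [str_res, map_mul]
    have hmul : res A.toModule (hVU z) (ofRing A (asRing A x * asRing A y)) =
        ofRing A (asRing A (res A.toModule (hVU z) x) * asRing A (res A.toModule (hVU z) y)) :=
      (mulPairing A).res (hVU z) x y
    have hτres : (X.presheaf.map (homOfLE (hVU z)).op).hom
        (fromUnit (τ.app U (ofRing A (asRing A x * asRing A y)))) =
        fromUnit (τ.app (V z) (ofRing A (asRing A (res A.toModule (hVU z) x) *
          asRing A (res A.toModule (hVU z) y)))) := by
      rw [← hmul, app_res]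
      rfl
    rw [hmul, hτres]
    have hx' : τ.app (V z) (res A.toModule (hVU z) x) = 0 := by
      rw [app_res, hx, map_zero]
    have hy' : τ.app (V z) (res A.toModule (hVU z) y) = 0 := by
      rw [app_res, hy, map_zero]
    have t1 := trace_apply_of_linearEquiv A hτ (hV z) e (res A.toModule (hVU z) x)
    have t2 := trace_apply_of_linearEquiv A hτ (hV z) e (res A.toModule (hVU z) y)
    have t3 := trace_apply_of_linearEquiv A hτ (hV z) e
      (ofRing A (asRing A (res A.toModule (hVU z) x) * asRing A (res A.toModule (hVU z) y)))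
    letI : Algebra Γ(X, V z) (A.presheaf.obj (op (V z))) := (A.str.app (op (V z))).hom.toAlgebra
    have e' : (A.presheaf.obj (op (V z))) ≃ₗ[Γ(X, V z)] (Fin 2 →₀ Γ(X, V z)) := e
    have hh : 2 * ((X.presheaf.map (homOfLE (hVU z)).op).hom
        ((X.presheaf.map (homOfLE (le_top : U ≤ ⊤)).op).hom half)) = 1 := by
      have h0 := congrArg (fun w => (X.presheaf.map (homOfLE (hVU z)).op).hom
        ((X.presheaf.map (homOfLE (le_top : U ≤ ⊤)).op).hom w)) hhalf
      simp only [map_mul, map_one, map_ofNat] at h0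
      exact h0
    have key := mul_eq_of_trace_eq_zero (Module.Basis.ofRepr e') _ hh
      (x := asRing A (res A.toModule (hVU z) x)) (y := asRing A (res A.toModule (hVU z) y))
      (t1.symm.trans hx') (t2.symm.trans hy')
    refine key.trans ?_
    congr 2
    exact t3.symm

end Main

end Groth.Agent.Lib.Helper29.QCoh

namespace Groth.Agent.Lib.Helper29.QCoh

section Main2
variable {X : Scheme.{u}} (A : RelSpec.QCAlg X)

theorem exists_isDblAlg_kernel (hA : FlatMod.IsFinLocFreeOfRank 2 A.toModule)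
    {τ : A.toModule ⟶ Coh.structureModule X} (hτ : FinCov.IsTrace A τ)
    (h2 : IsUnit (2 : Γ(X, ⊤))) :
    ∃ m : CohB1.tensorMod (kernel τ) (kernel τ) ⟶ Coh.structureModule X,
      FinCov.IsDblAlg (kernel τ) m A (kernel.ι τ) := by
  obtain ⟨v, hv⟩ := h2
  have hhalf : (2 : Γ(X, ⊤)) * ((v⁻¹ : Γ(X, ⊤)ˣ) : Γ(X, ⊤)) = 1 := by
    rw [← hv]
    exact v.mul_inv
  let β : Pairing (kernel τ) (kernel τ) (unitM X) :=
    (mulPairing A).comp (kernel.ι τ) (kernel.ι τ)
      (τ ≫ homOfSection (unitM X) (toUnit ((v⁻¹ : Γ(X, ⊤)ˣ) : Γ(X, ⊤))))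
  refine ⟨tensorDesc β, bijective_str_add_ι A hA hτ ⟨v, hv⟩, ?_⟩
  intro U l l'
  have h1 : (tensorDesc β).app U (SecTwist.tmul _ _ U l l') = β.b U l l' :=
    tensorDesc_tmulSec β U l l'
  have h3 := mul_eq_str_of_trace_eq_zero A hA hτ _ hhalf U ((kernel.ι τ).app U l)
    ((kernel.ι τ).app U l') (trace_ι A U l) (trace_ι A U l')
  refine h3.trans ?_
  change (A.str.app (op U)).hom _ = (A.str.app (op U)).hom ((tensorDesc β).app U _)
  congr 1
  rw [h1]
  change _ = (τ ≫ homOfSection (unitM X) (toUnit ((v⁻¹ : Γ(X, ⊤)ˣ) : Γ(X, ⊤)))).app U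
    (ofRing A (asRing A ((kernel.ι τ).app U l) * asRing A ((kernel.ι τ).app U l')))
  rw [Scheme.Modules.Hom.comp_app]
  change _ = (homOfSection (unitM X) (toUnit ((v⁻¹ : Γ(X, ⊤)ˣ) : Γ(X, ⊤)))).app U
    (toUnit (fromUnit (τ.app U
      (ofRing A (asRing A ((kernel.ι τ).app U l) * asRing A ((kernel.ι τ).app U l'))))))
  rw [homOfSection_app]
  exact mul_comm (G := Γ(X, U)) _ _

end Main2

end Groth.Agent.Lib.Helper29.QCoh
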