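import Groth.Agent.Lib.Helper29.FBCBasis
import Groth.Agent.Lib.Helper29.Twist6
universe u
open CategoryTheory CategoryTheory.Limits AlgebraicGeometry TopologicalSpace Opposite
open scoped TensorProduct

/-! # Injectivity of `Pic` under extension of the base field -/

namespace Groth.Agent.Lib.Helper29.FBCField
open Groth.Agent.Lib.Helper29.QCoh Groth.Agent.Lib.Helper29.FBCBasis

/-- sections of an affine base change square form a pushout (after Helper20.HG.isPushout_app) -/
lemma isPushout_app {X Y X' Y' : Scheme.{u}} {π' : Y' ⟶ X'} {g : Y' ⟶ Y} {f : X' ⟶ X} {π : Y ⟶ X}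
    [IsAffineHom π]
    (H : IsPullback π' g f π) {V : X.Opens} (hV : IsAffineOpen V) {W : X'.Opens}
    (hW : IsAffineOpen W) (e : W ≤ f ⁻¹ᵁ V) (e' : π' ⁻¹ᵁ W ≤ g ⁻¹ᵁ (π ⁻¹ᵁ V)) :
    IsPushout (f.appLE V W e) (π.app V) (π'.app W)
      (g.appLE (π ⁻¹ᵁ V) (π' ⁻¹ᵁ W) e') := by
  have hUY : π' ⁻¹ᵁ W = π' ⁻¹ᵁ W ⊓ g ⁻¹ᵁ (π ⁻¹ᵁ V) := (inf_eq_left.mpr e').symm
  have h1 := (isIso_pushoutSection_iff H (US := V) (UT := π ⁻¹ᵁ V) (UX := W) le_rfl e
    (UY := π' ⁻¹ᵁ W) hUY).mp
    (isIso_pushoutSection_of_isAffineOpen H le_rfl e hUY hV (hV.preimage π) hW)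
  rw [← Scheme.Hom.app_eq_appLE, ← Scheme.Hom.app_eq_appLE] at h1
  exact h1

variable (k : Type u) [Field k] (k' : Type u) [Field k'] [Algebra k k']

/-- the basis of `Γ(Spec k', ⊤)` over `Γ(Spec k, ⊤)` -/
theorem bijective_spec {Λ : Type*} (b : Module.Basis Λ k k') :
    Function.Bijective (fun c : Λ →₀ Γ(Spec (CommRingCat.of k), ⊤) => c.sum fun l a =>
      ((Spec.map (CommRingCat.ofHom (algebraMap k k'))).appTop).hom a *
        (Scheme.ΓSpecIso (CommRingCat.of k')).inv.hom (b l)) := by
  classical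
  have hk : Function.Bijective (Scheme.ΓSpecIso (CommRingCat.of k)).hom.hom :=
    ConcreteCategory.bijective_of_isIso (Scheme.ΓSpecIso (CommRingCat.of k)).hom
  have hk' : Function.Bijective (Scheme.ΓSpecIso (CommRingCat.of k')).inv.hom :=
    ConcreteCategory.bijective_of_isIso (Scheme.ΓSpecIso (CommRingCat.of k')).inv
  have nat : ∀ a : Γ(Spec (CommRingCat.of k), ⊤),
      ((Spec.map (CommRingCat.ofHom (algebraMap k k'))).appTop).hom a =
        (Scheme.ΓSpecIso (CommRingCat.of k')).inv.hom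
          (algebraMap k k' ((Scheme.ΓSpecIso (CommRingCat.of k)).hom.hom a)) := by
    intro a
    have h := Scheme.ΓSpecIso_inv_naturality (CommRingCat.ofHom (algebraMap k k'))
    have h2 := congrArg (fun f => f.hom ((Scheme.ΓSpecIso (CommRingCat.of k)).hom.hom a)) h
    simp only [CommRingCat.hom_comp, RingHom.coe_comp, Function.comp_apply] at h2
    have h3 : (Scheme.ΓSpecIso (CommRingCat.of k)).inv.hom
        ((Scheme.ΓSpecIso (CommRingCat.of k)).hom.hom a) = a := by
      have := congrArg (fun f => f.hom a) (Scheme.ΓSpecIso (CommRingCat.of k)).hom_inv_id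
      exact this
    rw [h3] at h2
    exact h2.symm
  have key : ∀ c : Λ →₀ Γ(Spec (CommRingCat.of k), ⊤), (c.sum fun l a =>
      ((Spec.map (CommRingCat.ofHom (algebraMap k k'))).appTop).hom a *
        (Scheme.ΓSpecIso (CommRingCat.of k')).inv.hom (b l)) =
      (Scheme.ΓSpecIso (CommRingCat.of k')).inv.hom
        (b.repr.symm (c.mapRange (Scheme.ΓSpecIso (CommRingCat.of k)).hom.hom (map_zero _))) := by
    intro c
    rw [Module.Basis.repr_symm_apply, Finsupp.linearCombination_apply,
      Finsupp.sum_mapRange_index (fun l => by rw [zero_smul]), map_finsuppSum]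
    refine Finsupp.sum_congr fun l _ => ?_
    rw [nat, Algebra.smul_def, map_mul]
  rw [show (fun c : Λ →₀ Γ(Spec (CommRingCat.of k), ⊤) => c.sum fun l a =>
      ((Spec.map (CommRingCat.ofHom (algebraMap k k'))).appTop).hom a *
        (Scheme.ΓSpecIso (CommRingCat.of k')).inv.hom (b l)) =
    (Scheme.ΓSpecIso (CommRingCat.of k')).inv.hom ∘ b.repr.symm ∘
      (fun c : Λ →₀ Γ(Spec (CommRingCat.of k), ⊤) =>
        c.mapRange (Scheme.ΓSpecIso (CommRingCat.of k)).hom.hom (map_zero _)) from funext key]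
  refine hk'.comp (b.repr.symm.bijective.comp ?_)
  refine ⟨fun c c' h => ?_, fun c => ?_⟩
  · ext l
    have := DFunLike.congr_fun h l
    simp only [Finsupp.mapRange_apply] at this
    exact hk.1 this
  · choose f hf using hk.2
    refine ⟨c.mapRange f (hk.1 (by rw [hf, map_zero])), ?_⟩
    ext l
    simp [Finsupp.mapRange_apply, hf]


theorem isFreeBasis_of_isPullback {X X' : Scheme.{u}} (f : X ⟶ Spec (CommRingCat.of k))
    (g : X' ⟶ X) (q : X' ⟶ Spec (CommRingCat.of k'))
    (hpb : IsPullback g q f (Spec.map (CommRingCat.ofHom (algebraMap k k')))) {Λ : Type*}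
    (b : Module.Basis Λ k k') :
    IsFreeBasis g (fun l => q.appTop.hom ((Scheme.ΓSpecIso (CommRingCat.of k')).inv.hom (b l))) := by
  intro V hV
  haveI : IsAffineHom g :=
    MorphismProperty.of_isPullback (P := @IsAffineHom) hpb.flip inferInstance
  refine ⟨hV.preimage g, ?_⟩
  have hpo := isPushout_app hpb (isAffineOpen_top (Spec (CommRingCat.of k))) hV
    (le_top : V ≤ f ⁻¹ᵁ ⊤) (e' := fun x _ => trivial)
  have := FBCAlg.bijective_of_isPushout _ _ _ _ hpo
    (fun l => (Scheme.ΓSpecIso (CommRingCat.of k')).inv.hom (b l)) (bijective_spec k k' b)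
  exact this


theorem finite_maximalSpectrum (X : Scheme.{u}) [X.Over (Spec (CommRingCat.of k))]
    (hfin : Module.Finite k (Coh.HH X (Coh.structureModule X) 0)) :
    Finite (MaximalSpectrum Γ(X, ⊤)) := by
  letI alg : Algebra k Γ(X, ⊤) := (Coh.toGlobal (X ↘ Spec (CommRingCat.of k))).toAlgebra
  let e := hh0 (Coh.structureModule X)
  haveI : Module.Finite k Γ(X, ⊤) := by
    let φ : Coh.HH X (Coh.structureModule X) 0 →ₗ[k] Γ(X, ⊤) :=
      { toFun := fun x => e x
        map_add' := e.map_add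
        map_smul' := fun c x => by
          have h2 : c • x = (Coh.toGlobal (X ↘ Spec (CommRingCat.of k)) c) • x := rfl
          rw [h2]
          exact hh0_smul (Coh.structureModule X) _ x }
    exact Module.Finite.of_surjective φ e.surjective
  haveI : IsArtinianRing Γ(X, ⊤) := IsArtinianRing.of_finite k Γ(X, ⊤)
  infer_instance

theorem main (X : Scheme.{u}) [X.Over (Spec (CommRingCat.of k))] [CompactSpace X]
    (hfin : Module.Finite k (Coh.HH X (Coh.structureModule X) 0))
    (X' : Scheme.{u}) (g : X' ⟶ X) (q : X' ⟶ Spec (CommRingCat.of k'))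
    (hpb : IsPullback g q (X ↘ Spec (CommRingCat.of k))
      (Spec.map (CommRingCat.ofHom (algebraMap k k'))))
    (L : X.Modules) (hL : PicF.IsInvertible L)
    (h : Nonempty ((Scheme.Modules.pullback g).obj L ≅ unitM X')) : Nonempty (L ≅ unitM X) := by
  let b := Module.Free.chooseBasis k k'
  haveI : Nonempty (Module.Free.ChooseBasisIndex k k') := b.index_nonempty
  haveI hsub : Subsingleton (Spec (CommRingCat.of k)) :=
    (inferInstance : Subsingleton (PrimeSpectrum k))
  haveI hne : Nonempty (Spec (CommRingCat.of k')) := (inferInstance : Nonempty (PrimeSpectrum k'))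
  haveI : Surjective (Spec.map (CommRingCat.ofHom (algebraMap k k'))) :=
    ⟨fun y => ⟨hne.some, Subsingleton.elim _ _⟩⟩
  haveI : Surjective g := MorphismProperty.of_isPullback (P := @Surjective) hpb.flip inferInstance
  exact FBCBasis.nonempty_iso_unit g _ (isFreeBasis_of_isPullback k k' _ g q hpb b)
    (finite_maximalSpectrum k X hfin) L hL h

end Groth.Agent.Lib.Helper29.FBCField
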