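import Groth.Agent.Lib.Helper29.FlatAlg
import Groth.Agent.Lib.Helper29.FBCField
import Groth.Agent.Lib.Helper29.ZeroDim
universe u
open CategoryTheory CategoryTheory.Limits AlgebraicGeometry TopologicalSpace Opposite
open scoped TensorProduct

/-! # Flat base change for sections of quasi-coherent modules over qcqs schemes -/

namespace Groth.Agent.Lib.Helper29.FBCFlat
open Groth.Agent.Lib.Helper29.QCoh Groth.Agent.Lib.Helper29.FBCBasis
open Groth.Agent.Lib.Helper29.QCoh.Glue Groth.Agent.Lib.Helper29.Punct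
open Groth.Agent.Lib.Helper29 Groth.Agent.Lib.Helper29.Desc Groth.Agent.Lib.Helper29.Thick
  Groth.Agent.Lib.Helper29.PicUFD

section Struct
variable {R : Type u} [CommRing R] {X : Scheme.{u}} (f : X ⟶ Spec (CommRingCat.of R))

/-- the structure map `R → Γ(X, V)` -/
noncomputable def aXc (V : X.Opens) : CommRingCat.of R ⟶ Γ(X, V) :=
  (Scheme.ΓSpecIso (CommRingCat.of R)).inv ≫ f.appLE ⊤ V le_top

noncomputable abbrev aX (V : X.Opens) : R →+* Γ(X, V) := (aXc f V).hom

theorem aXc_map {V V' : X.Opens} (h : V' ≤ V) :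
    aXc f V ≫ X.presheaf.map (homOfLE h).op = aXc f V' := by
  unfold aXc
  rw [Category.assoc, Scheme.Hom.appLE_map]

theorem map_aX {V V' : X.Opens} (h : V' ≤ V) (r : R) :
    X.presheaf.map (homOfLE h).op (aX f V r) = aX f V' r := by
  have := congrArg (fun φ : CommRingCat.of R ⟶ Γ(X, V') => φ.hom r) (aXc_map f h)
  exact this

theorem appLE_congr_hom {Y Z : Scheme.{u}} {a b : Y ⟶ Z} (h : a = b) (U : Z.Opens) (V : Y.Opens)
    (e : V ≤ a ⁻¹ᵁ U) : a.appLE U V e = b.appLE U V (h ▸ e) := by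
  subst h
  rfl

end Struct

section Compat
variable {R R' : Type u} [CommRing R] [CommRing R'] [Algebra R R']
  {X X' : Scheme.{u}} (f : X ⟶ Spec (CommRingCat.of R)) (g : X' ⟶ X)
  (q : X' ⟶ Spec (CommRingCat.of R'))
  (hw : g ≫ f = q ≫ Spec.map (CommRingCat.ofHom (algebraMap R R')))
include hw

theorem aXc_app (V : X.Opens) :
    aXc f V ≫ g.app V = CommRingCat.ofHom (algebraMap R R') ≫ aXc q (g ⁻¹ᵁ V) := by
  unfold aXc
  rw [Category.assoc, Scheme.Hom.app_eq_appLE, Scheme.Hom.appLE_comp_appLE,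
    appLE_congr_hom hw, Scheme.Hom.comp_appLE, ← Category.assoc, ← Category.assoc]
  congr 1
  exact (Scheme.ΓSpecIso_inv_naturality (CommRingCat.ofHom (algebraMap R R'))).symm

theorem app_aX (V : X.Opens) (r : R) :
    g.app V (aX f V r) = aX q (g ⁻¹ᵁ V) (algebraMap R R' r) := by
  have := congrArg (fun φ : CommRingCat.of R ⟶ Γ(X', g ⁻¹ᵁ V) => φ.hom r) (aXc_app f g q hw V)
  exact this

end Compat

section Sheaf
variable {X : Scheme.{u}}

theorem eq_zero_of_res_pair (M : X.Modules) {V W U : X.Opens} (hV : V ≤ U) (hW : W ≤ U)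
    (hc : U ≤ V ⊔ W) (s : Γ(M, U)) (h1 : res M hV s = 0) (h2 : res M hW s = 0) : s = 0 := by
  let C : Bool → X.Opens := fun b => Bool.rec W V b
  have hCU : ∀ b, C b ≤ U := fun b => by cases b <;> assumption
  have hcov : U ≤ iSup C := by
    intro x hx
    rcases hc hx with h | h
    · exact Opens.mem_iSup.mpr ⟨true, h⟩
    · exact Opens.mem_iSup.mpr ⟨false, h⟩
  refine eq_zero_of_res_cover_eq_zero M C hCU hcov s (fun b => ?_)
  cases b
  · exact h2
  · exact h1

theorem subsingleton_of_le_bot (M : X.Modules) {V : X.Opens} (h : V ≤ ⊥) :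
    Subsingleton Γ(M, V) := by
  refine ⟨fun a b => ?_⟩
  refine eq_of_res_cover_eq M (fun i : PEmpty.{1} => i.elim) (fun i => i.elim) ?_ a b (fun i => i.elim)
  intro x hx
  exact (h hx).elim

end Sheaf

section Cmp
variable {R R' : Type u} [CommRing R] [CommRing R'] [Algebra R R']
  {X X' : Scheme.{u}} (f : X ⟶ Spec (CommRingCat.of R)) (g : X' ⟶ X)
  (q : X' ⟶ Spec (CommRingCat.of R'))
  (hw : g ≫ f = q ≫ Spec.map (CommRingCat.ofHom (algebraMap R R')))

/-- the `R`-module structure on sections -/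
@[reducible] noncomputable def modR (L : X.Modules) (V : X.Opens) : Module R Γ(L, V) :=
  Module.compHom Γ(L, V) (aX f V)

theorem modR_smul (L : X.Modules) (V : X.Opens) (r : R) (m : Γ(L, V)) :
    letI := modR f L V
    r • m = aX f V r • m := rfl

/-- restriction as an `R`-linear map -/
noncomputable def resR (L : X.Modules) {V V' : X.Opens} (h : V' ≤ V) :
    letI := modR f L V
    letI := modR f L V'
    Γ(L, V) →ₗ[R] Γ(L, V') :=
  letI := modR f L V
  letI := modR f L V'
  { toFun := res L h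
    map_add' := map_add _
    map_smul' := fun r m => by
      change res L h (aX f V r • m) = aX f V' r • res L h m
      rw [res_smul, map_aX] }

theorem resR_apply (L : X.Modules) {V V' : X.Opens} (h : V' ≤ V) (m : Γ(L, V)) :
    resR f L h m = res L h m := rfl

/-- the comparison map `R' ⊗[R] Γ(L, V) → Γ(g^*L, g⁻¹V)` -/
noncomputable def cT (L : X.Modules) (V : X.Opens) :
    letI := modR f L V
    R' ⊗[R] Γ(L, V) →+ Γ((Scheme.Modules.pullback g).obj L, g ⁻¹ᵁ V) :=
  letI := modR f L V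
  TensorProduct.liftAddHom
    { toFun := fun r' =>
        { toFun := fun n => aX q (g ⁻¹ᵁ V) r' • pullSect g L V n
          map_zero' := by rw [map_zero, smul_zero]
          map_add' := fun a b => by rw [map_add, smul_add] }
      map_zero' := by
        ext n
        change aX q (g ⁻¹ᵁ V) 0 • pullSect g L V n = 0
        rw [map_zero, zero_smul]
      map_add' := fun a b => by
        ext n
        change aX q (g ⁻¹ᵁ V) (a + b) • pullSect g L V n =
          aX q (g ⁻¹ᵁ V) a • pullSect g L V n + aX q (g ⁻¹ᵁ V) b • pullSect g L V n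
        rw [map_add, add_smul] }
    (fun r r' n => by
      change aX q (g ⁻¹ᵁ V) (r • r') • pullSect g L V n =
        aX q (g ⁻¹ᵁ V) r' • pullSect g L V (aX f V r • n)
      rw [pullSect_smul, app_aX f g q hw, ← mul_smul, Algebra.smul_def, map_mul, mul_comm])

theorem cT_tmul (L : X.Modules) (V : X.Opens) (r' : R') (n : Γ(L, V)) :
    letI := modR f L V
    cT f g q hw L V (r' ⊗ₜ[R] n) = aX q (g ⁻¹ᵁ V) r' • pullSect g L V n := rfl

theorem res_cT (L : X.Modules) {V V' : X.Opens} (h : V' ≤ V) :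
    letI := modR f L V
    letI := modR f L V'
    ∀ x : R' ⊗[R] Γ(L, V), res _ (g.preimage_mono h) (cT f g q hw L V x) =
      cT f g q hw L V' ((resR f L h).lTensor R' x) := by
  letI := modR f L V
  letI := modR f L V'
  intro x
  induction x using TensorProduct.induction_on with
  | zero => simp
  | add x y hx hy => rw [map_add, map_add, map_add, map_add, hx, hy]
  | tmul r' n =>
    rw [LinearMap.lTensor_tmul, cT_tmul, cT_tmul, res_smul, map_aX, resR_apply, pullSect_res]

set_option maxRecDepth 8000 in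
theorem cT_bijective_of_affine
    (hpb : IsPullback g q f (Spec.map (CommRingCat.ofHom (algebraMap R R'))))
    (L : X.Modules) [L.IsQuasicoherent] {V : X.Opens} (hV : IsAffineOpen V) :
    letI := modR f L V
    Function.Bijective (cT f g q hpb.w L V) := by
  letI := modR f L V
  haveI : IsAffineHom g :=
    MorphismProperty.of_isPullback (P := @IsAffineHom) hpb.flip inferInstance
  have hU : IsAffineOpen (g ⁻¹ᵁ V) := hV.preimage g
  have hpo := FBCField.isPushout_app hpb (isAffineOpen_top (Spec (CommRingCat.of R))) hV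
    (le_top : V ≤ f ⁻¹ᵁ ⊤) (e' := fun x _ => trivial)
  have hpo2 : IsPushout (CommRingCat.ofHom (algebraMap R R')) (aXc f V) (aXc q (g ⁻¹ᵁ V))
      (g.appLE V (g ⁻¹ᵁ V) le_rfl) := by
    rw [← Scheme.Hom.app_eq_appLE]
    refine (IsPushout.of_iso hpo (Scheme.ΓSpecIso (CommRingCat.of R)) (Iso.refl _)
      (Scheme.ΓSpecIso (CommRingCat.of R')) (Iso.refl _) ?_ ?_ ?_ ?_).flip
    · unfold aXc
      simp
    · exact Scheme.ΓSpecIso_naturality _
    · simp
    · unfold aXc
      simp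
  letI : Algebra R Γ(X, V) := (aX f V).toAlgebra
  letI : Algebra R' Γ(X', g ⁻¹ᵁ V) := (aX q (g ⁻¹ᵁ V)).toAlgebra
  letI : Algebra Γ(X, V) Γ(X', g ⁻¹ᵁ V) := (g.appLE V (g ⁻¹ᵁ V) le_rfl).hom.toAlgebra
  letI : Algebra R Γ(X', g ⁻¹ᵁ V) := ((aX q (g ⁻¹ᵁ V)).comp (algebraMap R R')).toAlgebra
  haveI : IsScalarTower R R' Γ(X', g ⁻¹ᵁ V) := IsScalarTower.of_algebraMap_eq (fun r => rfl)
  haveI : IsScalarTower R Γ(X, V) Γ(X', g ⁻¹ᵁ V) := IsScalarTower.of_algebraMap_eq (fun r => by
    have := app_aX f g q hpb.w V r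
    rw [Scheme.Hom.app_eq_appLE] at this
    exact this.symm)
  haveI : Algebra.IsPushout R R' Γ(X, V) Γ(X', g ⁻¹ᵁ V) :=
    CommRingCat.isPushout_iff_isPushout.mp hpo2
  haveI : IsScalarTower R Γ(X, V) Γ(L, V) := IsScalarTower.of_algebraMap_smul (fun r m => rfl)
  exact FlatAlg.affine_bijective R R' Γ(X, V) Γ(X', g ⁻¹ᵁ V) Γ(L, V)
    (pullbackSectionsEquiv g L hU hV le_rfl) (pullSect g L V)
    (fun m => by
      have k1 := Groth.Agent.Helper19.PullUnit.pullbackSectionsEquiv_pullSect g L hU hV le_rfl m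
      rw [res_self] at k1
      exact k1)
    (cT f g q hpb.w L V) (fun s m => rfl)

theorem subsingleton_tensor {A : Type*} [CommRing A] {M N : Type*} [AddCommGroup M] [AddCommGroup N]
    [Module A M] [Module A N] [Subsingleton N] : Subsingleton (M ⊗[A] N) := by
  refine ⟨fun a b => ?_⟩
  have h0 : ∀ x : M ⊗[A] N, x = 0 := by
    intro x
    induction x using TensorProduct.induction_on with
    | zero => rfl
    | add x y hx hy => rw [hx, hy, add_zero]
    | tmul m n => rw [Subsingleton.elim n 0, TensorProduct.tmul_zero]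
  rw [h0 a, h0 b]

theorem cT_injective [Module.Flat R R']
    (hpb : IsPullback g q f (Spec.map (CommRingCat.ofHom (algebraMap R R'))))
    (L : X.Modules) [L.IsQuasicoherent] (S : X.Opens) (hS : IsCompact (S : Set X)) :
    letI := modR f L S
    Function.Injective (cT f g q hpb.w L S) := by
  refine compact_open_induction_on
    (P := fun S => letI := modR f L S; Function.Injective (cT f g q hpb.w L S)) S hS ?_ ?_
  · letI := modR f L ⊥
    haveI : Subsingleton Γ(L, ⊥) := subsingleton_of_le_bot L le_rfl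
    haveI : Subsingleton (R' ⊗[R] Γ(L, ⊥)) := subsingleton_tensor
    exact Function.injective_of_subsingleton _
  · intro S _ U hinj
    letI := modR f L (S ⊔ U.1)
    letI := modR f L S
    letI := modR f L U.1
    exact FlatAlg.mv_injective (resR f L (le_sup_left : S ≤ S ⊔ U.1))
      (resR f L (le_sup_right : U.1 ≤ S ⊔ U.1))
      (fun m h1 h2 => eq_zero_of_res_pair L le_sup_left le_sup_right le_rfl m h1 h2)
      (res _ (g.preimage_mono (le_sup_left : S ≤ S ⊔ U.1)))
      (res _ (g.preimage_mono (le_sup_right : U.1 ≤ S ⊔ U.1)))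
      (cT f g q hpb.w L (S ⊔ U.1)) (cT f g q hpb.w L S) (cT f g q hpb.w L U.1)
      (res_cT f g q hpb.w L _) (res_cT f g q hpb.w L _) hinj
      (cT_bijective_of_affine f g q hpb L U.2).1

theorem cT_bijective [Module.Flat R R'] [QuasiSeparatedSpace X]
    (hpb : IsPullback g q f (Spec.map (CommRingCat.ofHom (algebraMap R R'))))
    (L : X.Modules) [L.IsQuasicoherent] (S : X.Opens) (hS : IsCompact (S : Set X)) :
    letI := modR f L S
    Function.Bijective (cT f g q hpb.w L S) := by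
  refine compact_open_induction_on
    (P := fun S => letI := modR f L S; Function.Bijective (cT f g q hpb.w L S)) S hS ?_ ?_
  · letI := modR f L ⊥
    haveI : Subsingleton Γ(L, ⊥) := subsingleton_of_le_bot L le_rfl
    haveI : Subsingleton (R' ⊗[R] Γ(L, ⊥)) := subsingleton_tensor
    haveI : Subsingleton Γ((Scheme.Modules.pullback g).obj L, g ⁻¹ᵁ ⊥) :=
      subsingleton_of_le_bot _ (fun x hx => hx)
    exact ⟨Function.injective_of_subsingleton _, fun y => ⟨0, Subsingleton.elim _ _⟩⟩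
  · intro S hSc U hbij
    letI := modR f L (S ⊔ U.1)
    letI := modR f L S
    letI := modR f L U.1
    letI := modR f L (S ⊓ U.1)
    have hSU : IsCompact ((S ⊓ U.1 : X.Opens) : Set X) :=
      QuasiSeparatedSpace.inter_isCompact _ _ S.2 hSc U.1.2 U.2.isCompact
    exact FlatAlg.mv_bijective (resR f L (le_sup_left : S ≤ S ⊔ U.1))
      (resR f L (le_sup_right : U.1 ≤ S ⊔ U.1))
      (resR f L (inf_le_left : S ⊓ U.1 ≤ S)) (resR f L (inf_le_right : S ⊓ U.1 ≤ U.1))
      (fun m h1 h2 => eq_zero_of_res_pair L le_sup_left le_sup_right le_rfl m h1 h2)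
      (fun m1 m2 h => exists_gluing_pair L le_sup_left le_sup_right le_rfl m1 m2 h)
      (fun m => by
        change res L _ (res L _ m) = res L _ (res L _ m)
        rw [res_res, res_res])
      (res _ (g.preimage_mono (le_sup_left : S ≤ S ⊔ U.1)))
      (res _ (g.preimage_mono (le_sup_right : U.1 ≤ S ⊔ U.1)))
      (res _ (g.preimage_mono (inf_le_left : S ⊓ U.1 ≤ S)))
      (res _ (g.preimage_mono (inf_le_right : S ⊓ U.1 ≤ U.1)))
      (fun m h1 h2 => eq_zero_of_res_pair _ (g.preimage_mono le_sup_left)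
        (g.preimage_mono le_sup_right) (fun x hx => hx) m h1 h2)
      (fun m => by rw [res_res, res_res])
      (cT f g q hpb.w L (S ⊔ U.1)) (cT f g q hpb.w L S) (cT f g q hpb.w L U.1)
      (cT f g q hpb.w L (S ⊓ U.1))
      (res_cT f g q hpb.w L _) (res_cT f g q hpb.w L _)
      (res_cT f g q hpb.w L _) (res_cT f g q hpb.w L _)
      hbij (cT_bijective_of_affine f g q hpb L U.2)
      (cT_injective f g q hpb L _ hSU)

theorem cT_smul (L : X.Modules) (V : X.Opens) (r' : R') :
    letI := modR f L V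
    ∀ x : R' ⊗[R] Γ(L, V), cT f g q hw L V (r' • x) = aX q (g ⁻¹ᵁ V) r' • cT f g q hw L V x := by
  letI := modR f L V
  intro x
  induction x using TensorProduct.induction_on with
  | zero => simp
  | add x y hx hy => rw [smul_add, map_add, map_add, hx, hy, smul_add]
  | tmul s n =>
    rw [TensorProduct.smul_tmul', cT_tmul, cT_tmul, smul_eq_mul, map_mul, mul_smul]

/-- `Γ(X', ⊤) = R'` when `Γ(X, ⊤) = R`. -/
theorem aX_bijective [Module.Flat R R'] [CompactSpace X] [QuasiSeparatedSpace X]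
    (hpb : IsPullback g q f (Spec.map (CommRingCat.ofHom (algebraMap R R'))))
    (ha : Function.Bijective (aX f ⊤)) : Function.Bijective (aX q (g ⁻¹ᵁ ⊤)) := by
  letI := modR f (unitM X) ⊤
  have hc := cT_bijective f g q hpb (unitM X) ⊤ (by simpa using isCompact_univ)
  have hΨ : Function.Bijective ((pullbackUnitIso g).hom.app (g ⁻¹ᵁ ⊤)) :=
    ConcreteCategory.bijective_of_isIso ((pullbackUnitIso g).hom.app (g ⁻¹ᵁ ⊤))
  let ι : R →ₗ[R] Γ(unitM X, ⊤) :=
    { toFun := fun r => toUnit (aX f ⊤ r)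
      map_add' := fun a b => by rw [map_add]; rfl
      map_smul' := fun a b => by
        change toUnit (aX f ⊤ (a * b)) = aX f ⊤ a • toUnit (aX f ⊤ b)
        rw [map_mul]
        rfl }
  have hι : Function.Bijective ι := ha
  let ιe : R ≃ₗ[R] Γ(unitM X, ⊤) := LinearEquiv.ofBijective ι hι
  let j : R' ≃ₗ[R] R' ⊗[R] Γ(unitM X, ⊤) :=
    (TensorProduct.rid R R').symm.trans (LinearEquiv.lTensor R' ιe)
  have key : ∀ r' : R', aX q (g ⁻¹ᵁ ⊤) r' =
      fromUnit ((pullbackUnitIso g).hom.app (g ⁻¹ᵁ ⊤) (cT f g q hpb.w (unitM X) ⊤ (j r'))) := by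
    intro r'
    have hj : j r' = r' ⊗ₜ[R] toUnit (1 : Γ(X, ⊤)) := by
      change (LinearEquiv.lTensor R' ιe) ((TensorProduct.rid R R').symm r') = _
      rw [TensorProduct.rid_symm_apply, LinearEquiv.lTensor_tmul]
      congr 1
      change toUnit (aX f ⊤ 1) = _
      rw [map_one]
    rw [hj, cT_tmul, Scheme.Modules.Hom.app_smul, pullbackUnitIso_hom_pullSect, fromUnit_smul,
      fromUnit_toUnit, map_one, mul_one]
  rw [show (aX q (g ⁻¹ᵁ ⊤) : R' → Γ(X', g ⁻¹ᵁ ⊤)) =
    (fromUnit ∘ (pullbackUnitIso g).hom.app (g ⁻¹ᵁ ⊤)) ∘ cT f g q hpb.w (unitM X) ⊤ ∘ j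
    from funext key]
  refine Function.Bijective.comp ?_ (hc.comp j.bijective)
  exact Function.Bijective.comp ⟨fun a b h => h, fun a => ⟨a, rfl⟩⟩ hΨ

theorem nonempty_iso_unit [Module.FaithfullyFlat R R'] [Finite (MaximalSpectrum R)]
    [CompactSpace X] [QuasiSeparatedSpace X]
    (hpb : IsPullback g q f (Spec.map (CommRingCat.ofHom (algebraMap R R'))))
    (ha : Function.Bijective (aX f ⊤)) (L : X.Modules) (hL : PicF.IsInvertible L)
    (h : Nonempty ((Scheme.Modules.pullback g).obj L ≅ unitM X')) : Nonempty (L ≅ unitM X) := by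
  classical
  haveI : L.IsQuasicoherent := isQuasicoherent_of_isInvertible hL
  haveI : Surjective (Spec.map (CommRingCat.ofHom (algebraMap R R'))) := ⟨fun y => by
    obtain ⟨x, hx⟩ := PrimeSpectrum.comap_surjective_of_faithfullyFlat (A := R) (B := R') y
    exact ⟨x, hx⟩⟩
  haveI : Surjective g := MorphismProperty.of_isPullback (P := @Surjective) hpb.flip inferInstance
  obtain ⟨ε⟩ := h
  set P := (Scheme.Modules.pullback g).obj L with hP
  have ht0 : IsTriv P ⊤ (sval ε.symm.hom ⊤) := isTriv_top_of_iso ε.symm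
  have ht : IsTriv P (g ⁻¹ᵁ ⊤) (res P (le_top : g ⁻¹ᵁ ⊤ ≤ ⊤) (sval ε.symm.hom ⊤)) :=
    ht0.restrict le_top
  set t := res P (le_top : g ⁻¹ᵁ ⊤ ≤ ⊤) (sval ε.symm.hom ⊤) with htdef
  letI := modR f L ⊤
  have hcb : Function.Bijective (cT f g q hpb.w L ⊤) :=
    cT_bijective f g q hpb L ⊤ (by simpa using isCompact_univ)
  have ha' : Function.Bijective (aX q (g ⁻¹ᵁ ⊤)) := aX_bijective f g q hpb ha
  letI : Module R' Γ(P, g ⁻¹ᵁ ⊤) := Module.compHom Γ(P, g ⁻¹ᵁ ⊤) (aX q (g ⁻¹ᵁ ⊤))
  obtain ⟨s, hs⟩ := FlatAlg.exists_generator_ff' (A := R) (A' := R') (M := Γ(L, ⊤))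
    (N := Γ(P, g ⁻¹ᵁ ⊤)) (cT f g q hpb.w L ⊤) hcb (fun r' x => cT_smul f g q hpb.w L ⊤ r' x) t
    (ht.bijective.comp ha')
  -- `π s = u • t`
  obtain ⟨u, hu⟩ := ht.exists_eq_smul (pullSect g L ⊤ s)
  have hgen : ∀ n : Γ(L, ⊤), ∃ a : Γ(X, ⊤), n = a • s := fun n => by
    obtain ⟨r, hr⟩ := hs.2 n
    exact ⟨aX f ⊤ r, hr.symm⟩
  have hv : ∀ x : R' ⊗[R] Γ(L, ⊤), ∃ v : Γ(X', g ⁻¹ᵁ ⊤),
      cT f g q hpb.w L ⊤ x = v • pullSect g L ⊤ s := by
    intro x
    induction x using TensorProduct.induction_on with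
    | zero => exact ⟨0, by rw [map_zero, zero_smul]⟩
    | add x y hx hy =>
      obtain ⟨v1, h1⟩ := hx
      obtain ⟨v2, h2⟩ := hy
      exact ⟨v1 + v2, by rw [map_add, h1, h2, add_smul]⟩
    | tmul r' n =>
      obtain ⟨a, ha⟩ := hgen n
      refine ⟨aX q (g ⁻¹ᵁ ⊤) r' * g.app ⊤ a, ?_⟩
      rw [cT_tmul, ha, pullSect_smul, mul_smul]
  obtain ⟨x, hx⟩ := hcb.2 t
  obtain ⟨v, hv⟩ := hv x
  rw [hx] at hv
  have huv : v * u = 1 := by
    apply ht.smul_left_cancel
    rw [mul_smul, ← hu, ← hv, one_smul]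
  have hunit : IsUnit u := IsUnit.of_mul_eq_one v (by rw [mul_comm]; exact huv)
  have hπs : IsTriv P (g ⁻¹ᵁ ⊤) (pullSect g L ⊤ s) := by
    rw [hu]
    exact Thick.IsTriv.smul_isUnit ht hunit
  have hT : IsTriv L ⊤ s := by
    have hloc : ∀ x : X, ∃ V : X.Opens, x ∈ V ∧ IsTriv L V (res L (le_top : V ≤ ⊤) s) := by
      intro x
      obtain ⟨V, e, hxV, he⟩ := exists_isTriv hL x
      refine ⟨V, hxV, ?_⟩
      obtain ⟨c, hc⟩ := he.exists_eq_smul (res L (le_top : V ≤ ⊤) s)
      have h1 : IsTriv P (g ⁻¹ᵁ V) (pullSect g L V e) := he.pullSect g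
      have h2 : IsTriv P (g ⁻¹ᵁ V) (pullSect g L V (res L (le_top : V ≤ ⊤) s)) := by
        rw [pullSect_res]
        exact hπs.restrict _
      obtain ⟨w, hw, hwe⟩ := IsTriv.exists_isUnit_smul h1 h2
      rw [hc, pullSect_smul] at hwe
      have h3 : g.app V c = w := h1.smul_left_cancel hwe
      have h4 : IsUnit c := isUnit_of_isUnit_app g c (h3 ▸ hw)
      rw [hc]
      exact Thick.IsTriv.smul_isUnit he h4
    choose V hxV hV using hloc
    refine isTriv_of_cover L s V (fun _ => le_top) (fun y _ => Opens.mem_iSup.mpr ⟨y, hxV y⟩) ?_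
    intro y
    exact hV y
  obtain ⟨φ⟩ := nonempty_iso_unit_of_isTriv_top hT
  exact ⟨φ.symm⟩

end Cmp

end Groth.Agent.Lib.Helper29.FBCFlat
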