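import Groth.Agent.Lib.Helper29.Glue1
import Groth.Agent.Lib.Helper29.Cocycle
import Groth.Agent.Lib.Helper29.Twist2
universe u
open CategoryTheory CategoryTheory.Limits AlgebraicGeometry TopologicalSpace Opposite

/-! # Extending a locally trivial module across a closed set by gluing with trivial modules -/

namespace Groth.Agent.Lib.Helper29.QCoh.Glue
open Groth.Agent.Lib.Helper29.QCoh

variable {X : Scheme.{u}} (U : X.Opens) (P : X.Modules) {ι : Type u} (V : ι → X.Opens)
  (s : ∀ i, Γ(P, V i ⊓ U))

theorem exists_transition_aux (H1 : ∀ i j, i ≠ j → V i ⊓ V j ≤ U)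
    (H2 : ∀ i, IsTriv P (V i ⊓ U) (s i)) (i j : ι) :
    ∃ g : Γ(X, V i ⊓ V j), (i = j → g = 1) ∧
      ∀ (W : X.Opens) (hW : W ≤ U) (hi : W ≤ V i) (hj : W ≤ V j),
        res P (le_inf hj hW) (s j) = rres X (le_inf hi hj) g • res P (le_inf hi hW) (s i) := by
  by_cases h : i = j
  · subst h
    refine ⟨1, fun _ => rfl, fun W hW hi hj => ?_⟩
    rw [map_one, one_smul]
  · have hU := H1 i j h
    obtain ⟨g, hg⟩ := ((H2 i).restrict (le_inf inf_le_left hU)).exists_eq_smul
      (res P (le_inf inf_le_right hU) (s j))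
    refine ⟨g, fun h' => absurd h' h, fun W hW hi hj => ?_⟩
    have := congrArg (res P (le_inf hi hj)) hg
    rw [res_res, res_smul', res_res] at this
    exact this

/-- **Extension by gluing**: let `P` be a module on `X`, `U` an open and `V i` an open cover of
`X` such that distinct members meet inside `U`, and `P` is trivialised over each `V i ⊓ U`.
Then there is an invertible module `L` on `X`, trivial over each `V i`, with the same transition
functions as `P` inside `U`; in particular `L|_U ≅ P|_U`. -/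
theorem exists_extension (hcov : ∀ x : X, ∃ i, x ∈ V i)
    (H1 : ∀ i j, i ≠ j → V i ⊓ V j ≤ U) (H2 : ∀ i, IsTriv P (V i ⊓ U) (s i)) :
    ∃ (L : X.Modules) (e : ∀ i, Γ(L, V i)), PicF.IsInvertible L ∧ (∀ i, IsTriv L (V i) (e i)) ∧
      (∀ (i j : ι) (W : X.Opens) (hW : W ≤ U) (hi : W ≤ V i) (hj : W ≤ V j) (a : Γ(X, W)),
        res P (le_inf hj hW) (s j) = a • res P (le_inf hi hW) (s i) →
        res L hj (e j) = a • res L hi (e i)) ∧
      Nonempty (L.restrict U.ι ≅ P.restrict U.ι) := by
  choose g hg1 hg using exists_transition_aux U P V s H1 H2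
  let c : Cocycle V :=
    { g := g
      one := fun i => hg1 i i rfl
      mul := by
        intro i j k W hi hj hk
        by_cases hW : W ≤ U
        · apply (H2 i W (le_inf hi hW)).1
          change (rres X _ (g i j) * rres X _ (g j k)) • res P _ (s i) =
            rres X _ (g i k) • res P _ (s i)
          rw [mul_comm, mul_smul, ← hg i j W hW hi hj, ← hg j k W hW hj hk, ← hg i k W hW hi hk]
        · have hij : i = j := by
            by_contra h
            exact hW ((le_inf hi hj).trans (H1 i j h))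
          have hjk : j = k := by
            by_contra h
            exact hW ((le_inf hj hk).trans (H1 j k h))
          subst hij; subst hjk
          rw [hg1 i i rfl, map_one, one_mul] }
  obtain ⟨L, e, hL, he, htr⟩ := exists_invertible_of_cocycle hcov c
  have htr' : ∀ (i j : ι) (W : X.Opens) (hi : W ≤ V i) (hj : W ≤ V j),
      res L hj (e j) = rres X (le_inf hi hj) (g i j) • res L hi (e i) := by
    intro i j W hi hj
    have := congrArg (res L (le_inf hi hj)) (htr i j)
    rw [res_res, res_smul', res_res] at this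
    exact this
  refine ⟨L, e, hL, he, ?_, ?_⟩
  · intro i j W hW hi hj a ha
    rw [htr' i j W hi hj]
    congr 1
    apply (H2 i W (le_inf hi hW)).1
    change rres X _ (g i j) • res P _ (s i) = a • res P _ (s i)
    rw [← hg i j W hW hi hj, ha]
  · let V' : ι → (U : Scheme.{u}).Opens := fun i => U.ι ⁻¹ᵁ V i
    have hV'1 : ∀ i, U.ι ''ᵁ V' i ≤ V i := fun i => by
      rw [Scheme.Hom.image_preimage_eq_opensRange_inf]; exact inf_le_right
    have hV'2 : ∀ i, U.ι ''ᵁ V' i ≤ U := fun i => by
      rw [Scheme.Hom.image_preimage_eq_opensRange_inf, Scheme.Opens.opensRange_ι]; exact inf_le_left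
    have hcov' : ∀ x : (U : Scheme.{u}), ∃ i, x ∈ V' i := fun x => hcov (U.ι x)
    obtain ⟨φ, -⟩ := exists_iso_of_cocycle (M := L.restrict U.ι) (N := P.restrict U.ι) (U := V')
      (m := fun i => (res L (hV'1 i) (e i) : Γ(L, U.ι ''ᵁ V' i)))
      (n := fun i => (res P (le_inf (hV'1 i) (hV'2 i)) (s i) : Γ(P, U.ι ''ᵁ V' i)))
      hcov'
      (fun i => IsTriv.to_restrict U.ι ((he i).restrict (hV'1 i)))
      (fun i => IsTriv.to_restrict U.ι ((H2 i).restrict (le_inf (hV'1 i) (hV'2 i))))
      (fun i j => by
        have hZi : U.ι ''ᵁ (V' i ⊓ V' j) ≤ V i := (U.ι.image_mono inf_le_left).trans (hV'1 i)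
        have hZj : U.ι ''ᵁ (V' i ⊓ V' j) ≤ V j := (U.ι.image_mono inf_le_right).trans (hV'1 j)
        have hZU : U.ι ''ᵁ (V' i ⊓ V' j) ≤ U := (U.ι.image_mono inf_le_left).trans (hV'2 i)
        refine ⟨(U.ι.appIso (V' i ⊓ V' j)).hom (rres X (le_inf hZj hZi) (g j i)), ?_, ?_⟩
        · change res L (U.ι.image_mono inf_le_left) (res L (hV'1 i) (e i)) =
            HSMul.hSMul (α := Γ((U : Scheme.{u}), V' i ⊓ V' j))
              (β := Γ(L.restrict U.ι, V' i ⊓ V' j))
              ((U.ι.appIso (V' i ⊓ V' j)).hom (rres X (le_inf hZj hZi) (g j i)))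
              (res L (U.ι.image_mono inf_le_right) (res L (hV'1 j) (e j)))
          rw [restrict_smul, res_res, res_res]
          simp only [Iso.hom_inv_id_apply]
          exact htr' j i _ hZj hZi
        · change res P (U.ι.image_mono inf_le_left) (res P (le_inf (hV'1 i) (hV'2 i)) (s i)) =
            HSMul.hSMul (α := Γ((U : Scheme.{u}), V' i ⊓ V' j))
              (β := Γ(P.restrict U.ι, V' i ⊓ V' j))
              ((U.ι.appIso (V' i ⊓ V' j)).hom (rres X (le_inf hZj hZi) (g j i)))
              (res P (U.ι.image_mono inf_le_right) (res P (le_inf (hV'1 j) (hV'2 j)) (s j)))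
          rw [restrict_smul, res_res, res_res]
          simp only [Iso.hom_inv_id_apply]
          exact hg j i _ hZU hZj hZi)
    exact ⟨φ⟩

end Groth.Agent.Lib.Helper29.QCoh.Glue
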