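import Groth.Agent.Lib.Helper29.Punct2
import Groth.Agent.Lib.Helper29.Glue2
import Groth.Agent.Lib.Helper29.IntegInv
import Groth.Agent.Lib.Helper29.QCohExt
import Groth.Agent.Lib.Helper29.QCohGen
import Groth.Agent.Lib.Helper29.PullTensor
universe u
open CategoryTheory CategoryTheory.Limits AlgebraicGeometry TopologicalSpace Opposite

/-! # Extending invertible modules across isolated points of dimension ≤ 1 -/

namespace Groth.Agent.Lib.Helper29.Punct
open Groth.Agent.Lib.Helper29.QCoh Groth.Agent.Lib.Helper29.QCoh.Glue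

variable {X : Scheme.{u}}

/-- A module which is locally trivial on `U` is trivial on a punctured neighbourhood of an
isolated point of the complement having finitely many generizations. -/
theorem exists_punctured_triv (U : X.Opens) (P : X.Modules)
    (hP : ∀ y ∈ U, ∃ (V : X.Opens) (e : Γ(P, V)), y ∈ V ∧ V ≤ U ∧ IsTriv P V e)
    (x : X) (hfin : {y : X | y ⤳ x}.Finite) {W₀ : X.Opens} (hW₀ : IsAffineOpen W₀) (hx : x ∈ W₀)
    (f : Γ(X, W₀)) (hf : X.basicOpen f = W₀ ⊓ U) :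
    ∃ W : X.Opens, x ∈ W ∧ W ≤ W₀ ∧ ∃ t : Γ(P, W ⊓ U), IsTriv P (W ⊓ U) t := by
  set D : X.Opens := X.basicOpen f with hD
  have hDaff : IsAffineOpen D := hW₀.basicOpen f
  have hDU : D ≤ U := by rw [hf]; exact inf_le_right
  have hL₀ : PicF.IsInvertible (P.restrict D.ι) := by
    apply isInvertible_restrict_of_isTriv
    intro y hy
    obtain ⟨V, e, hyV, -, he⟩ := hP y (hDU hy)
    exact ⟨V ⊓ D, res P inf_le_left e, ⟨hyV, hy⟩, inf_le_right, he.restrict inf_le_left⟩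
  have : IsAffine ((D : X.Opens) : Scheme.{u}) := hDaff
  have hM : CohB1.IsAmple (unitM ((D : X.Opens) : Scheme.{u})) :=
    isQuasiAffine_iff_isAmple_unit.mp inferInstance
  have hfin' : (D.ι ⁻¹' {y : X | y ⤳ x}).Finite :=
    hfin.preimage D.ι.isEmbedding.injective.injOn
  obtain ⟨U₀, hZU₀, hU₀⟩ := exists_open_trivial_of_finite hM hL₀ _ hfin'
  have htriv := nonempty_iso_unit_of_restrict_restrict D U₀ hU₀
  obtain ⟨e, he⟩ := (nonempty_iso_unit_iff_exists_isTriv _).mp htriv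
  have hG : ∀ y ∈ X.basicOpen f, y ⤳ x → y ∈ D.ι ''ᵁ U₀ := by
    intro y hy hyx
    exact ⟨⟨y, hy⟩, hZU₀ (show D.ι ⟨y, hy⟩ ⤳ x from hyx), rfl⟩
  obtain ⟨h, hxh, hle⟩ := exists_basicOpen_inf_le hW₀ f (D.ι ''ᵁ U₀) x hx hG
  have hWU : X.basicOpen h ⊓ U ≤ D.ι ''ᵁ U₀ := by
    rintro y ⟨hyh, hyU⟩
    refine hle ⟨hyh, ?_⟩
    have hy2 : y ∈ W₀ ⊓ U := ⟨X.basicOpen_le h hyh, hyU⟩
    rw [← hf] at hy2
    exact hy2
  exact ⟨X.basicOpen h, hxh, X.basicOpen_le h, res P hWU e, he.restrict hWU⟩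

theorem isTriv_toUnit_of_isUnit {W : X.Opens} (v : Γ(X, W)) (hv : IsUnit v) :
    IsTriv (unitM X) W (toUnit v) := by
  intro W' hW'
  have hv' : IsUnit (rres X hW' v) := hv.map _
  exact IsUnit.isUnit_iff_mulRight_bijective.mp hv'

/-- The isolating neighbourhoods provided by discreteness of the complement. -/
theorem exists_isolating_open (U : X.Opens) (hdisc : DiscreteTopology ↥((U : Set X)ᶜ)) (x : X)
    (hxU : x ∉ U) : ∃ O : X.Opens, x ∈ O ∧ ∀ y ∈ O, y ∉ U → y = x := by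
  have h1 : IsOpen ({⟨x, hxU⟩} : Set ↥((U : Set X)ᶜ)) := isOpen_discrete _
  rw [isOpen_induced_iff] at h1
  obtain ⟨O, hO, hOeq⟩ := h1
  refine ⟨⟨O, hO⟩, ?_, ?_⟩
  · have : (⟨x, hxU⟩ : ↥((U : Set X)ᶜ)) ∈ Subtype.val ⁻¹' O := by rw [hOeq]; rfl
    exact this
  · intro y hyO hyU
    have : (⟨y, hyU⟩ : ↥((U : Set X)ᶜ)) ∈ Subtype.val ⁻¹' O := hyO
    rw [hOeq] at this
    exact congrArg Subtype.val this

/-- **Part 1**: the complement of `U` is the zero locus of a section of an invertible module. -/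
theorem exists_invertible_section (U : X.Opens) [QuasiCompact U.ι]
    (hdisc : DiscreteTopology ↥((U : Set X)ᶜ))
    (hloc : ∀ x : X, x ∉ U →
      IsNoetherianRing (X.presheaf.stalk x) ∧ ringKrullDim (X.presheaf.stalk x) ≤ 1) :
    ∃ (L : X.Modules) (s : unitM X ⟶ L), PicF.IsInvertible L ∧ CohB1.genLocus L s = U := by
  have key : ∀ x : X, ∃ (V : X.Opens) (a : Γ(X, V)), x ∈ V ∧ X.basicOpen a = V ⊓ U ∧
      (x ∈ U → V ≤ U) ∧ (x ∉ U → ∀ y ∈ V, y ∉ U → y = x) := by
    intro x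
    by_cases hxU : x ∈ U
    · refine ⟨U, 1, hxU, ?_, fun _ => le_rfl, fun h => absurd hxU h⟩
      rw [X.basicOpen_of_isUnit isUnit_one, inf_idem]
    · obtain ⟨O, hxO, hO⟩ := exists_isolating_open U hdisc x hxU
      obtain ⟨hN, hd⟩ := hloc x hxU
      obtain ⟨W, f, -, hxW, hWO, hf⟩ := exists_local_equation X U x hxU O hxO hO
        (finite_generizations X x hN hd)
      exact ⟨W, f, hxW, hf, fun h => absurd h hxU, fun _ y hy hyU => hO y (hWO hy) hyU⟩
  choose V a hxV hbo hVU hVx using key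
  have H1 : ∀ i j, i ≠ j → V i ⊓ V j ≤ U := by
    intro i j hij y hy
    by_contra hyU
    have hi : i ∉ U := fun hi => hyU (hVU i hi hy.1)
    have hj : j ∉ U := fun hj => hyU (hVU j hj hy.2)
    exact hij ((hVx i hi y hy.1 hyU).symm.trans (hVx j hj y hy.2 hyU))
  have hu : ∀ i, IsUnit (rres X (inf_le_left : V i ⊓ U ≤ V i) (a i)) := fun i => by
    rw [isUnit_rres_iff, hbo i]
  let v : ∀ i, Γ(X, V i ⊓ U) := fun i => ((hu i).unit⁻¹ : (Γ(X, V i ⊓ U))ˣ)
  have hv : ∀ i, rres X (inf_le_left : V i ⊓ U ≤ V i) (a i) * v i = 1 := fun i =>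
    (hu i).mul_val_inv
  have H2 : ∀ i, IsTriv (unitM X) (V i ⊓ U) (toUnit (v i)) := fun i =>
    isTriv_toUnit_of_isUnit _ (Units.isUnit _)
  obtain ⟨L, e, hL, he, htr, -⟩ := exists_extension U (unitM X) V (fun i => toUnit (v i))
    (fun x => ⟨x, hxV x⟩) H1 H2
  have hcompat : ∀ i j, res L (inf_le_left : V i ⊓ V j ≤ V i) (a i • e i) =
      res L (inf_le_right : V i ⊓ V j ≤ V j) (a j • e j) := by
    intro i j
    by_cases hij : i = j
    · subst hij; rfl
    · have hW := H1 i j hij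
      set A : Γ(X, V i ⊓ V j) := rres X (inf_le_left : V i ⊓ V j ≤ V i) (a i) with hA
      set A' : Γ(X, V i ⊓ V j) := rres X (inf_le_right : V i ⊓ V j ≤ V j) (a j) with hA'
      set B : Γ(X, V i ⊓ V j) :=
        rres X (le_inf inf_le_left hW : V i ⊓ V j ≤ V i ⊓ U) (v i) with hB
      set B' : Γ(X, V i ⊓ V j) :=
        rres X (le_inf inf_le_right hW : V i ⊓ V j ≤ V j ⊓ U) (v j) with hB'
      have hvi : A * B = 1 := by
        have := congrArg (rres X (le_inf inf_le_left hW : V i ⊓ V j ≤ V i ⊓ U)) (hv i)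
        rw [map_mul, rres_rres, map_one] at this
        exact this
      have hvj : A' * B' = 1 := by
        have := congrArg (rres X (le_inf inf_le_right hW : V i ⊓ V j ≤ V j ⊓ U)) (hv j)
        rw [map_mul, rres_rres, map_one] at this
        exact this
      have h1 := htr i j (V i ⊓ V j) hW inf_le_left inf_le_right (A * B') (by
        change B' = (A * B') * B
        linear_combination (-B') * hvi)
      rw [res_smul', res_smul', h1, smul_smul]
      congr 1
      change A = A' * (A * B')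
      linear_combination (-A) * hvj
  obtain ⟨σ, hσ⟩ := exists_gluing L V ⊤ (fun _ => le_top) (fun x _ => Opens.mem_iSup.mpr ⟨x, hxV x⟩)
    (fun i => a i • e i) hcompat
  refine ⟨L, homOfSection L σ, hL, ?_⟩
  have hsv : ∀ i, sval (homOfSection L σ) (V i) = a i • e i := by
    intro i
    rw [← res_sval (homOfSection L σ) (le_top : V i ≤ ⊤), ← hσ i]
    congr 1
    have := app_eq_smul_sval (homOfSection L σ) ⊤ 1
    rw [one_smul, homOfSection_app_one] at this
    exact this.symm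
  ext y
  have hy := (he (y)).genLocus_inf (homOfSection L σ) (a y) (hsv y)
  rw [hbo y] at hy
  have h1 : y ∈ CohB1.genLocus L (homOfSection L σ) ⊓ V y ↔ y ∈ V y ⊓ U := by rw [hy]
  simp only [SetLike.mem_coe]
  constructor
  · intro h
    exact (h1.mp ⟨h, hxV y⟩).2
  · intro h
    exact (h1.mpr ⟨hxV y, h⟩).1

/-- **Part 2**: every invertible module on `U` extends to an invertible module on `X`. -/
theorem exists_invertible_extension (U : X.Opens) [QuasiCompact U.ι]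
    (hdisc : DiscreteTopology ↥((U : Set X)ᶜ))
    (hloc : ∀ x : X, x ∉ U →
      IsNoetherianRing (X.presheaf.stalk x) ∧ ringKrullDim (X.presheaf.stalk x) ≤ 1)
    (N : (U : Scheme.{u}).Modules) (hN : PicF.IsInvertible N) :
    ∃ L : X.Modules, PicF.IsInvertible L ∧ Nonempty (L.restrict U.ι ≅ N) := by
  let P : X.Modules := (Scheme.Modules.pushforward U.ι).obj N
  let φ : P.restrict U.ι ≅ N := (Scheme.Modules.restrictFunctorAdjCounitIso U.ι).app N
  have hP' : PicF.IsInvertible (P.restrict U.ι) := isInvertible_of_iso φ.symm hN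
  have hP : ∀ y ∈ U, ∃ (V : X.Opens) (e : Γ(P, V)), y ∈ V ∧ V ≤ U ∧ IsTriv P V e := by
    intro y hy
    obtain ⟨V', e', hyV', he'⟩ := exists_isTriv hP' (⟨y, hy⟩ : (U : Scheme.{u}))
    refine ⟨U.ι ''ᵁ V', e', ⟨⟨y, hy⟩, hyV', rfl⟩, ?_, IsTriv.of_restrict U.ι he'⟩
    have := U.ι.image_le_opensRange V'
    rwa [Scheme.Opens.opensRange_ι] at this
  have key : ∀ x : X, ∃ (V : X.Opens) (s : Γ(P, V ⊓ U)), x ∈ V ∧ IsTriv P (V ⊓ U) s ∧
      (x ∈ U → V ≤ U) ∧ (x ∉ U → ∀ y ∈ V, y ∉ U → y = x) := by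
    intro x
    by_cases hxU : x ∈ U
    · obtain ⟨V, e, hxV, hVU, he⟩ := hP x hxU
      exact ⟨V, res P inf_le_left e, hxV, he.restrict inf_le_left, fun _ => hVU,
        fun h => absurd hxU h⟩
    · obtain ⟨O, hxO, hO⟩ := exists_isolating_open U hdisc x hxU
      obtain ⟨hNx, hd⟩ := hloc x hxU
      have hfin := finite_generizations X x hNx hd
      obtain ⟨W₀, f, hW₀, hxW₀, hW₀O, hf⟩ := exists_local_equation X U x hxU O hxO hO hfin
      obtain ⟨W, hxW, hWW₀, t, ht⟩ := exists_punctured_triv U P hP x hfin hW₀ hxW₀ f hf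
      exact ⟨W, t, hxW, ht, fun h => absurd h hxU,
        fun _ y hy hyU => hO y (hW₀O (hWW₀ hy)) hyU⟩
  choose V s hxV hs hVU hVx using key
  have H1 : ∀ i j, i ≠ j → V i ⊓ V j ≤ U := by
    intro i j hij y hy
    by_contra hyU
    have hi : i ∉ U := fun hi => hyU (hVU i hi hy.1)
    have hj : j ∉ U := fun hj => hyU (hVU j hj hy.2)
    exact hij ((hVx i hi y hy.1 hyU).symm.trans (hVx j hj y hy.2 hyU))
  obtain ⟨L, e, hL, -, -, ⟨ψ⟩⟩ := exists_extension U P V s (fun x => ⟨x, hxV x⟩) H1 hs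
  exact ⟨L, hL, ⟨ψ ≪≫ φ⟩⟩

end Groth.Agent.Lib.Helper29.Punct
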