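import Groth.Agent.Lib.Helper29.PullSect
universe u
open CategoryTheory CategoryTheory.Limits AlgebraicGeometry TopologicalSpace Opposite

namespace Groth.Agent.Lib.Helper29.QCoh

section ResBij
variable {X : Scheme.{u}}

theorem res_bijective_of_le_of_le (M : X.Modules) {U V : X.Opens} (h : V ≤ U) (h' : U ≤ V) :
    Function.Bijective (res M h) := by
  obtain rfl : U = V := le_antisymm h' h
  have : (res M h : Γ(M, U) → Γ(M, U)) = id := by
    funext m
    exact res_self M m
  rw [this]
  exact Function.bijective_id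

end ResBij

section PullBij
variable {X Y : Scheme.{u}} (f : X ⟶ Y)

/-- Pullback of sections along an open immersion is bijective over opens inside the range. -/
theorem pullSect_bijective_of_isOpenImmersion [IsOpenImmersion f] (M : Y.Modules) (W : Y.Opens)
    (hW : W ≤ f.opensRange) : Function.Bijective (pullSect f M W) := by
  have e : f ''ᵁ (f ⁻¹ᵁ W) = W := by
    rw [Scheme.Hom.image_preimage_eq_opensRange_inf]
    exact inf_eq_right.mpr hW
  have h1 : Function.Bijective (QCoh.res M (f.image_preimage_le W)) :=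
    res_bijective_of_le_of_le M _ e.ge
  have h2 : Function.Bijective
      (((Scheme.Modules.restrictFunctorIsoPullback f).hom.app M).app (f ⁻¹ᵁ W)) :=
    app_bijective_of_isIso _ _
  have : (pullSect f M W : Γ(M, W) → _) =
      (((Scheme.Modules.restrictFunctorIsoPullback f).hom.app M).app (f ⁻¹ᵁ W)) ∘
        (QCoh.res M (f.image_preimage_le W)) := by
    funext m
    exact (restrictFunctorIsoPullback_hom_app f M W m).symm
  rw [this]
  exact h2.comp h1


variable {Z : Scheme.{u}} (g : Y ⟶ Z)

theorem pullSect_comp_eq (M : Z.Modules) (V : Z.Opens) :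
    (pullSect (f ≫ g) M V : Γ(M, V) → _) =
      (((Scheme.Modules.pullbackComp f g).hom.app M).app ((f ≫ g) ⁻¹ᵁ V)) ∘
        (pullSect f ((Scheme.Modules.pullback g).obj M) (g ⁻¹ᵁ V)) ∘ (pullSect g M V) := by
  funext m
  simp only [Function.comp_apply]
  rw [← pullbackComp_inv_pullSect]
  have := iso_hom_inv_app ((Scheme.Modules.pullbackComp f g).app M) ((f ≫ g) ⁻¹ᵁ V)
    (pullSect (f ≫ g) M V m)
  rw [Iso.app_hom, Iso.app_inv] at this
  exact this.symm

theorem pullSect_bijective_of_eq {h₁ h₂ : X ⟶ Y} (e : h₁ = h₂) (M : Y.Modules) (V : Y.Opens)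
    (h : Function.Bijective (pullSect h₁ M V)) : Function.Bijective (pullSect h₂ M V) := by
  subst e
  exact h

/-- Bijectivity of pullback of sections can be checked after restricting to an open of the
base. -/
theorem pullSect_bijective_of_restrict (M : Y.Modules) (V W : Y.Opens) (hW : W ≤ V)
    (h : Function.Bijective (pullSect (f ∣_ V) (M.restrict V.ι) (V.ι ⁻¹ᵁ W))) :
    Function.Bijective (pullSect f M W) := by
  have hι : W ≤ V.ι.opensRange := by rw [Scheme.Opens.opensRange_ι]; exact hW
  -- chain 1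
  have c1 : Function.Bijective (pullSect ((f ∣_ V) ≫ V.ι) M W) := by
    rw [pullSect_comp_eq]
    refine (app_bijective_of_isIso _ _).comp (Function.Bijective.comp ?_
      (pullSect_bijective_of_isOpenImmersion V.ι M W hι))
    have e2 : (pullSect (f ∣_ V) ((Scheme.Modules.pullback V.ι).obj M) (V.ι ⁻¹ᵁ W)) ∘
        (((Scheme.Modules.restrictFunctorIsoPullback V.ι).hom.app M).app (V.ι ⁻¹ᵁ W)) =
        (((Scheme.Modules.pullback (f ∣_ V)).map
          ((Scheme.Modules.restrictFunctorIsoPullback V.ι).hom.app M)).app _) ∘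
          pullSect (f ∣_ V) (M.restrict V.ι) (V.ι ⁻¹ᵁ W) := by
      funext m
      exact (pullSect_naturality (f ∣_ V)
        ((Scheme.Modules.restrictFunctorIsoPullback V.ι).hom.app M) _ m).symm
    have hb : Function.Bijective
        (((Scheme.Modules.restrictFunctorIsoPullback V.ι).hom.app M).app (V.ι ⁻¹ᵁ W)) :=
      app_bijective_of_isIso _ _
    have hcomp : Function.Bijective
        ((pullSect (f ∣_ V) ((Scheme.Modules.pullback V.ι).obj M) (V.ι ⁻¹ᵁ W)) ∘
        (((Scheme.Modules.restrictFunctorIsoPullback V.ι).hom.app M).app (V.ι ⁻¹ᵁ W))) := by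
      rw [e2]
      exact (app_bijective_of_isIso _ _).comp h
    exact (Function.Bijective.of_comp_iff _ hb).mp hcomp
  -- link
  have c2 : Function.Bijective (pullSect ((f ⁻¹ᵁ V).ι ≫ f) M W) :=
    pullSect_bijective_of_eq (morphismRestrict_ι f V) M W c1
  -- chain 2
  rw [pullSect_comp_eq] at c2
  have hι' : f ⁻¹ᵁ W ≤ (f ⁻¹ᵁ V).ι.opensRange := by
    rw [Scheme.Opens.opensRange_ι]; exact f.preimage_mono hW
  have hb1 : Function.Bijective
      (((Scheme.Modules.pullbackComp (f ⁻¹ᵁ V).ι f).hom.app M).app (((f ⁻¹ᵁ V).ι ≫ f) ⁻¹ᵁ W)) :=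
    app_bijective_of_isIso _ _
  have c3 := (Function.Bijective.of_comp_iff' hb1 _).mp c2
  exact (Function.Bijective.of_comp_iff'
    (pullSect_bijective_of_isOpenImmersion (f ⁻¹ᵁ V).ι _ _ hι') _).mp c3

end PullBij


section NatIsoBiprod
variable {C D : Type*} [Category C] [Category D] [Preadditive C] [Preadditive D]

/-- A natural transformation between additive functors which is an isomorphism at `A` is an
isomorphism at every finite coproduct of copies of `A`. -/
theorem isIso_app_sigma_of_isIso_app {F G : C ⥤ D} [F.Additive] [G.Additive] (α : F ⟶ G)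
    (A : C) [IsIso (α.app A)] (n : ℕ) [HasCoproduct (fun _ : Fin n => A)] :
    IsIso (α.app (∐ fun _ : Fin n => A)) := by
  classical
  let B : C := ∐ fun _ : Fin n => A
  let ι : Fin n → (A ⟶ B) := fun i => Sigma.ι (fun _ : Fin n => A) i
  let π : Fin n → (B ⟶ A) := fun i => Sigma.desc (fun j => if j = i then 𝟙 A else 0)
  have hιπ : ∀ i j, ι j ≫ π i = if j = i then 𝟙 A else 0 := by
    intro i j
    simp [ι, π]
  have hsum : ∑ i : Fin n, π i ≫ ι i = 𝟙 B := by
    apply Sigma.hom_ext
    intro j
    change ι j ≫ _ = ι j ≫ _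
    rw [Preadditive.comp_sum, Category.comp_id]
    rw [Finset.sum_eq_single j]
    · rw [← Category.assoc, hιπ, if_pos rfl, Category.id_comp]
    · intro i _ hij
      rw [← Category.assoc, hιπ, if_neg (Ne.symm hij), zero_comp]
    · intro h; exact absurd (Finset.mem_univ j) h
  refine ⟨⟨∑ i : Fin n, G.map (π i) ≫ inv (α.app A) ≫ F.map (ι i), ?_, ?_⟩⟩
  · rw [Preadditive.comp_sum]
    have : ∀ i : Fin n, α.app B ≫ G.map (π i) ≫ inv (α.app A) ≫ F.map (ι i) =
        F.map (π i ≫ ι i) := by
      intro i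
      rw [← Category.assoc, ← α.naturality, Category.assoc, IsIso.hom_inv_id_assoc, F.map_comp]
    rw [Finset.sum_congr rfl fun i _ => this i, ← F.map_sum, hsum, F.map_id]
  · rw [Preadditive.sum_comp]
    have : ∀ i : Fin n, (G.map (π i) ≫ inv (α.app A) ≫ F.map (ι i)) ≫ α.app B =
        G.map (π i ≫ ι i) := by
      intro i
      rw [Category.assoc, Category.assoc, α.naturality, IsIso.inv_hom_id_assoc, G.map_comp]
    rw [Finset.sum_congr rfl fun i _ => this i, ← G.map_sum, hsum, G.map_id]

omit [Preadditive C] [Preadditive D] in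
theorem isIso_app_of_iso {F G : C ⥤ D} (α : F ⟶ G) {A B : C} (e : A ≅ B) [IsIso (α.app B)] :
    IsIso (α.app A) := by
  have : α.app A = F.map e.hom ≫ α.app B ≫ G.map e.inv := by
    rw [← Category.assoc, α.naturality, Category.assoc, ← G.map_comp, e.hom_inv_id, G.map_id,
      Category.comp_id]
  rw [this]
  infer_instance

end NatIsoBiprod


section UnitIso
variable {X Y : Scheme.{u}} (f : X ⟶ Y)

/-- A morphism of modules which is, locally on the base, bijective on all sections is an
isomorphism. -/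
theorem isIso_of_forall_exists_app_bijective {M N : X.Modules} (φ : M ⟶ N)
    (h : ∀ x : X, ∃ V : X.Opens, x ∈ V ∧ ∀ W : X.Opens, W ≤ V → Function.Bijective (φ.app W)) :
    IsIso φ := by
  rw [isIso_iff_app_bijective]
  intro W
  refine bijective_of_forall_basis (M := M) (N := N) (U := ⊤)
    (fun W => ∀ W' : X.Opens, W' ≤ W → Function.Bijective (φ.app W'))
    (fun W _ x hx => ?_) (fun W _ => appₗ φ W |>.toAddMonoidHom)
    (fun W W' _ h' m => app_res φ h' m) (fun W _ hB => hB W le_rfl) W le_top
  obtain ⟨V, hxV, hV⟩ := h x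
  exact ⟨W ⊓ V, inf_le_left, ⟨hx, hxV⟩, fun W' hW' => hV W' (hW'.trans inf_le_right)⟩

theorem pullSect_unit_bijective (V : Y.Opens) (hf : Function.Bijective (f.app V)) :
    Function.Bijective (pullSect f (unitM Y) V) := by
  have hb : Function.Bijective ((pullbackUnitIso f).hom.app (f ⁻¹ᵁ V)) :=
    app_bijective_of_isIso _ _
  have e : ((pullbackUnitIso f).hom.app (f ⁻¹ᵁ V)) ∘ (pullSect f (unitM Y) V) =
      (fun a : Γ(Y, V) => (toUnit (f.app V a) : Γ(unitM X, f ⁻¹ᵁ V))) ∘ fromUnit := by
    funext s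
    obtain ⟨a, rfl⟩ := toUnit_surjective s
    simp only [Function.comp_apply, fromUnit_toUnit]
    exact pullbackUnitIso_hom_pullSect f V a
  have hcomp : Function.Bijective
      (((pullbackUnitIso f).hom.app (f ⁻¹ᵁ V)) ∘ (pullSect f (unitM Y) V)) := by
    rw [e]
    have hfrom : Function.Bijective (fromUnit : Γ(unitM Y, V) → Γ(Y, V)) :=
      ⟨fun a b h => h, fun a => ⟨toUnit a, rfl⟩⟩
    have hto : Function.Bijective (toUnit : Γ(X, f ⁻¹ᵁ V) → Γ(unitM X, f ⁻¹ᵁ V)) :=
      ⟨fun a b h => h, fun a => ⟨fromUnit a, rfl⟩⟩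
    exact (hto.comp hf).comp hfrom
  exact (Function.Bijective.of_comp_iff' hb _).mp hcomp

theorem morphismRestrict_app_bijective (hf : ∀ U : Y.Opens, Function.Bijective (f.app U))
    (V : Y.Opens) (U' : (V : Scheme.{u}).Opens) : Function.Bijective ((f ∣_ V).app U') := by
  rw [morphismRestrict_app]
  have h2 : Function.Bijective
      (X.presheaf.map (eqToHom (image_morphismRestrict_preimage f V U')).op) :=
    ConcreteCategory.bijective_of_isIso _
  exact h2.comp (hf _)

/-- **The unit `N ⟶ f_* f^* N` is an isomorphism for finite locally free `N` when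
`O_Y ⟶ f_* O_X` is an isomorphism.** -/
theorem isIso_unit_of_isFinLocFree (hf : ∀ U : Y.Opens, Function.Bijective (f.app U))
    {N : Y.Modules} (hN : FlatMod.IsFinLocFree N) :
    IsIso ((Scheme.Modules.pullbackPushforwardAdjunction f).unit.app N) := by
  refine isIso_of_forall_exists_app_bijective _ fun x => ?_
  obtain ⟨V, n, hxV, ⟨σ⟩⟩ := hN x
  refine ⟨V, hxV, fun W hW => ?_⟩
  change Function.Bijective (pullSect f N W)
  refine pullSect_bijective_of_restrict f N V W hW ?_
  -- the unit for `f ∣_ V` at the unit module is an isomorphism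
  haveI h1 : IsIso ((Scheme.Modules.pullbackPushforwardAdjunction (f ∣_ V)).unit.app
      (unitM (V : Scheme.{u}))) := by
    rw [isIso_iff_app_bijective]
    intro U'
    exact pullSect_unit_bijective (f ∣_ V) U' (morphismRestrict_app_bijective f hf V U')
  haveI h2 : IsIso ((Scheme.Modules.pullbackPushforwardAdjunction (f ∣_ V)).unit.app
      (FlatMod.freeMod (V : Scheme.{u}) n)) :=
    isIso_app_sigma_of_isIso_app _ (unitM (V : Scheme.{u})) n
  haveI h3 : IsIso ((Scheme.Modules.pullbackPushforwardAdjunction (f ∣_ V)).unit.app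
      (N.restrict V.ι)) := isIso_app_of_iso _ σ
  exact app_bijective_of_isIso _ _

end UnitIso

end Groth.Agent.Lib.Helper29.QCoh
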