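import Groth.Agent.Lib.Helper29.EffC4
import Mathlib
universe u
open CategoryTheory CategoryTheory.Limits AlgebraicGeometry TopologicalSpace Opposite

/-! # Extending effective Cartier divisors across points with factorial local rings -/

namespace Groth.Agent.Lib.Helper29.EffC
open Groth.Agent.Lib.Helper10.DivLocal Groth.Agent.Lib.Helper25.BlowUpUP

section Algebra

theorem height_span_prime_eq_one {T : Type u} [CommRing T] [IsDomain T] [IsNoetherianRing T]
    (π : T) (hπ : Prime π) : (Ideal.span {π}).height = 1 := by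
  have hprime : (Ideal.span {π}).IsPrime := (Ideal.span_singleton_prime hπ.ne_zero).mpr hπ
  have h1 : (Ideal.span {π}).height ≤ 1 := by
    have : (Ideal.span {π}).IsPrincipal := ⟨⟨π, rfl⟩⟩
    refine Ideal.height_le_one_of_isPrincipal_of_mem_minimalPrimes (Ideal.span {π}) _ ?_
    rw [Ideal.minimalPrimes_eq_subsingleton_self]
    exact Set.mem_singleton _
  have h0 : (Ideal.span {π}).height ≠ 0 := by
    rw [Ne, Ideal.height_eq_zero_iff_eq_bot, Ideal.span_singleton_eq_bot]
    exact hπ.ne_zero
  exact le_antisymm h1 (Order.one_le_iff_ne_zero.mpr h0)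

theorem height_eq_one_of_mem_associatedPrimes_span_singleton_aux {T : Type u} [CommRing T]
    [IsDomain T] [IsNoetherianRing T] [UniqueFactorizationMonoid T] :
    ∀ (n : ℕ) (f : T), f ≠ 0 → Multiset.card (UniqueFactorizationMonoid.factors f) = n →
      ∀ P ∈ associatedPrimes T (T ⧸ Ideal.span {f}), P.height = 1 := by
  intro n
  induction n with
  | zero =>
    intro f hf hcard P hP
    exfalso
    have hunit : IsUnit f := by
      rw [Multiset.card_eq_zero] at hcard
      exact (UniqueFactorizationMonoid.factors_eq_zero hf).mp hcard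
    have htop : Ideal.span {f} = ⊤ := Ideal.span_singleton_eq_top.mpr hunit
    have : Subsingleton (T ⧸ Ideal.span {f}) := by
      rw [htop]; exact Ideal.Quotient.subsingleton_iff.mpr rfl
    rw [associatedPrimes.eq_empty_of_subsingleton] at hP
    exact hP
  | succ n ih =>
    intro f hf hcard P hP
    have hnu : ¬ IsUnit f := by
      intro hu
      rw [UniqueFactorizationMonoid.factors_of_isUnit hu] at hcard
      simp at hcard
    obtain ⟨π, hπmem⟩ := UniqueFactorizationMonoid.exists_mem_factors hf hnu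
    have hπ : Prime π := UniqueFactorizationMonoid.prime_of_factor π hπmem
    obtain ⟨f', rfl⟩ : π ∣ f := UniqueFactorizationMonoid.dvd_of_mem_factors hπmem
    have hf' : f' ≠ 0 := right_ne_zero_of_mul hf
    have hcard' : Multiset.card (UniqueFactorizationMonoid.factors f') = n := by
      have h1 := Multiset.card_eq_card_of_rel
        (UniqueFactorizationMonoid.factors_mul hπ.ne_zero hf')
      obtain ⟨b, -, hb⟩ :=
        UniqueFactorizationMonoid.factors_eq_singleton_of_irreducible hπ.irreducible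
      rw [Multiset.card_add, hb, Multiset.card_singleton, hcard] at h1
      omega
    let φ : (T ⧸ Ideal.span {f'}) →ₗ[T] (T ⧸ Ideal.span {π * f'}) :=
      Submodule.mapQ (Ideal.span {f'}) (Ideal.span {π * f'}) (LinearMap.mulLeft T π)
        (fun s hs => by
          obtain ⟨c, rfl⟩ := Ideal.mem_span_singleton.mp hs
          show (LinearMap.mulLeft T π) (f' * c) ∈ Ideal.span {π * f'}
          exact Ideal.mem_span_singleton.mpr ⟨c, by simp [mul_assoc]⟩)
    let ψ : (T ⧸ Ideal.span {π * f'}) →ₗ[T] (T ⧸ Ideal.span {π}) :=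
      Submodule.mapQ (Ideal.span {π * f'}) (Ideal.span {π}) LinearMap.id
        (fun s hs => by
          obtain ⟨c, rfl⟩ := Ideal.mem_span_singleton.mp hs
          show π * f' * c ∈ Ideal.span {π}
          exact Ideal.mem_span_singleton.mpr ⟨f' * c, by ring⟩)
    have hφinj : Function.Injective φ := by
      rw [← LinearMap.ker_eq_bot, LinearMap.ker_eq_bot']
      intro t ht
      obtain ⟨s, rfl⟩ := Submodule.Quotient.mk_surjective _ t
      have h2 : Submodule.Quotient.mk (π * s) = (0 : T ⧸ Ideal.span {π * f'}) := ht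
      rw [Submodule.Quotient.mk_eq_zero] at h2 ⊢
      obtain ⟨c, hc⟩ := Ideal.mem_span_singleton.mp h2
      rw [mul_assoc] at hc
      have := mul_left_cancel₀ hπ.ne_zero hc
      exact Ideal.mem_span_singleton.mpr ⟨c, this⟩
    have hex : Function.Exact φ ψ := by
      intro y
      obtain ⟨t, rfl⟩ := Submodule.Quotient.mk_surjective _ y
      constructor
      · intro h0
        have h2 : Submodule.Quotient.mk t = (0 : T ⧸ Ideal.span {π}) := h0
        rw [Submodule.Quotient.mk_eq_zero] at h2
        obtain ⟨s, rfl⟩ := Ideal.mem_span_singleton.mp h2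
        exact ⟨Submodule.Quotient.mk s, rfl⟩
      · rintro ⟨z, hz⟩
        obtain ⟨s, rfl⟩ := Submodule.Quotient.mk_surjective _ z
        rw [← hz]
        show Submodule.Quotient.mk (π * s) = (0 : T ⧸ Ideal.span {π})
        rw [Submodule.Quotient.mk_eq_zero]
        exact Ideal.mem_span_singleton.mpr ⟨s, rfl⟩
    rcases associatedPrimes.subset_union_of_exact hφinj hex hP with h | h
    · exact ih f' hf' hcard' P h
    · have hprime : (Ideal.span {π}).IsPrime := (Ideal.span_singleton_prime hπ.ne_zero).mpr hπ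
      rw [associatedPrimes.eq_singleton_of_isPrimary hprime.isPrimary, Set.mem_singleton_iff,
        hprime.radical] at h
      rw [h]
      exact height_span_prime_eq_one π hπ

/-- In a Noetherian factorial domain the associated primes of a nonzero principal ideal have
height one. -/
theorem height_eq_one_of_mem_associatedPrimes_span_singleton {T : Type u} [CommRing T]
    [IsDomain T] [IsNoetherianRing T] [UniqueFactorizationMonoid T] (f : T) (hf : f ≠ 0)
    (P : Ideal T) (hP : P ∈ associatedPrimes T (T ⧸ Ideal.span {f})) : P.height = 1 :=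
  height_eq_one_of_mem_associatedPrimes_span_singleton_aux _ f hf rfl P hP

/-- Associated primes of an extended ideal in a localisation contract to associated primes. -/
theorem comap_mem_associatedPrimes_of_map {A : Type u} [CommRing A] [IsNoetherianRing A]
    (S : Type u) [CommRing S] [Algebra A S] (M : Submonoid A) [IsLocalization M S]
    (I : Ideal A) (P : Ideal S) :
    P ∈ associatedPrimes S (S ⧸ I.map (algebraMap A S)) ↔
      P.comap (algebraMap A S) ∈ associatedPrimes A (A ⧸ I) := by
  have hJ : Submodule.localized' S M (Algebra.linearMap A S) I =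
      I.map (algebraMap A S) := Ideal.localized'_eq_map S M I
  have key :=
    Module.associatedPrimes.preimage_comap_associatedPrimes_eq_associatedPrimes_of_isLocalizedModule
      M S (Submodule.toLocalizedQuotient' S M (Algebra.linearMap A S) I)
  rw [← hJ, ← key]
  rfl

/-- The key algebraic step: principalness at a factorial localisation, from principalness at all
localisations at associated primes. -/
theorem exists_span_singleton_of_local_principal {A : Type u} [CommRing A] [IsNoetherianRing A]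
    (S : Type u) [CommRing S] [IsDomain S] [UniqueFactorizationMonoid S] [Algebra A S]
    (p : Ideal A) [p.IsPrime] [IsLocalization.AtPrime S p] (I : Ideal A)
    (h : ∀ (q : Ideal A) [q.IsPrime], q ∈ associatedPrimes A (A ⧸ I) → q ≤ p →
      ∃ (T : Type u) (_ : CommRing T) (_ : Algebra A T) (_ : IsLocalization.AtPrime T q)
        (f : T), f ≠ 0 ∧ I.map (algebraMap A T) = Ideal.span {f}) :
    ∃ g : S, g ≠ 0 ∧ I.map (algebraMap A S) = Ideal.span {g} := by
  have hSn : IsNoetherianRing S := IsLocalization.isNoetherianRing p.primeCompl S inferInstance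
  apply exists_span_singleton_of_ass_height_one
  intro P hP
  have hPprime : P.IsPrime := hP.isPrime
  have hq := (comap_mem_associatedPrimes_of_map S p.primeCompl I P).mp hP
  set q := P.comap (algebraMap A S) with hqdef
  have hqprime : q.IsPrime := Ideal.IsPrime.comap _
  have hqp : q ≤ p := by
    intro a ha
    by_contra hap
    have hu : IsUnit (algebraMap A S a) := IsLocalization.map_units S (⟨a, hap⟩ : p.primeCompl)
    exact hPprime.ne_top (Ideal.eq_top_of_isUnit_mem _ ha hu)
  obtain ⟨T, _, _, hTloc, f, hf, hIT⟩ := h q hq hqp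
  -- the localisation of `S` at `P`
  let T' := Localization.AtPrime P
  have hT'loc : IsLocalization.AtPrime T' q :=
    IsLocalization.isLocalization_isLocalization_atPrime_isLocalization p.primeCompl T' P
  have hT'ufd : UniqueFactorizationMonoid T' :=
    UniqueFactorizationMonoid.of_isLocalization P.primeCompl T'
  have hT'n : IsNoetherianRing T' := IsLocalization.isNoetherianRing P.primeCompl T' hSn
  let e : T ≃ₐ[A] T' := IsLocalization.algEquiv q.primeCompl T T'
  have hIT' : I.map (algebraMap A T') = Ideal.span {e f} := by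
    have h1 : algebraMap A T' = (e : T →+* T').comp (algebraMap A T) := by
      ext a; exact (e.commutes a).symm
    rw [h1, ← Ideal.map_map, hIT, Ideal.map_span, Set.image_singleton]
    rfl
  have hef : e f ≠ 0 := fun h0 => hf (by simpa using h0)
  -- the maximal ideal of `T'` is associated
  have hJT' : (I.map (algebraMap A S)).map (algebraMap S T') = Ideal.span {e f} := by
    rw [Ideal.map_map, ← IsScalarTower.algebraMap_eq, hIT']
  have hmax : IsLocalRing.maximalIdeal T' ∈
      associatedPrimes T' (T' ⧸ (I.map (algebraMap A S)).map (algebraMap S T')) := by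
    rw [comap_mem_associatedPrimes_of_map T' P.primeCompl (I.map (algebraMap A S))]
    have hc : Ideal.comap (algebraMap S T') (IsLocalRing.maximalIdeal T') = P :=
      IsLocalization.AtPrime.under_maximalIdeal T' P
    rw [hc]
    exact hP
  rw [hJT'] at hmax
  have h1 := height_eq_one_of_mem_associatedPrimes_span_singleton (e f) hef _ hmax
  have hc : Ideal.under S (IsLocalRing.maximalIdeal T') = P :=
    IsLocalization.AtPrime.under_maximalIdeal T' P
  rw [← IsLocalization.height_under P.primeCompl (IsLocalRing.maximalIdeal T'), hc] at h1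
  exact h1

end Algebra

section Scheme
variable {X : Scheme.{u}}

/-- The pushforward of an ideal sheaf along an open immersion restricts back to itself. -/
theorem map_ι_ideal_image [IsLocallyNoetherian X] (U : X.Opens)
    (D : (U : Scheme.{u}).IdealSheafData) (V : (U : Scheme.{u}).affineOpens) :
    (D.map U.ι).ideal ⟨U.ι ''ᵁ V.1, V.2.image_of_isOpenImmersion U.ι⟩ = D.ideal V := by
  set f := D.subschemeι ≫ U.ι with hf
  have h1 := Scheme.ker_morphismRestrict_ideal f U V
  have hrange : Set.range (𝟙 D.subscheme : D.subscheme ⟶ D.subscheme) ⊆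
      Set.range (f ⁻¹ᵁ U).ι := by
    rintro z -
    rw [Scheme.Opens.range_ι]
    show f z ∈ U
    exact (D.subschemeι z).2
  let e : D.subscheme ⟶ (f ⁻¹ᵁ U).toScheme :=
    IsOpenImmersion.lift (f ⁻¹ᵁ U).ι (𝟙 D.subscheme) hrange
  have he : e ≫ (f ⁻¹ᵁ U).ι = 𝟙 _ := IsOpenImmersion.lift_fac _ _ _
  have he' : (f ⁻¹ᵁ U).ι ≫ e = 𝟙 _ := by
    rw [← cancel_mono (f ⁻¹ᵁ U).ι, Category.assoc, he, Category.comp_id, Category.id_comp]
  haveI : IsIso e := ⟨⟨(f ⁻¹ᵁ U).ι, he, he'⟩⟩
  have hcomp : e ≫ (f ∣_ U) = D.subschemeι := by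
    rw [← cancel_mono U.ι, Category.assoc, morphismRestrict_ι, ← Category.assoc, he,
      Category.id_comp]
  have hker : (f ∣_ U).ker = D := by
    rw [← Scheme.Hom.ker_comp_of_isIso e (f ∣_ U), hcomp, Scheme.IdealSheafData.ker_subschemeι]
  rw [hker] at h1
  exact h1.symm

theorem comap_map_ι [IsLocallyNoetherian X] (U : X.Opens)
    (D : (U : Scheme.{u}).IdealSheafData) : (D.map U.ι).comap U.ι = D := by
  apply Scheme.IdealSheafData.ext
  funext V
  rw [Scheme.IdealSheafData.ideal_comap_of_isOpenImmersion, map_ι_ideal_image U D V,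
    U.ι_appIso V]
  rfl

theorem exists_principal_map_ι [IsLocallyNoetherian X] (U : X.Opens)
    (D : (U : Scheme.{u}).IdealSheafData) (hD : BlowUp.IsEffCartierIdeal D) (x : X) (hx : x ∈ U) :
    ∃ W : X.affineOpens, x ∈ W.1 ∧ ∃ f : Γ(X, W.1), f ∈ nonZeroDivisors Γ(X, W.1) ∧
      (D.map U.ι).ideal W = Ideal.span {f} := by
  obtain ⟨V, hxV, f, hf, hDV⟩ := hD ⟨x, hx⟩
  refine ⟨⟨U.ι ''ᵁ V.1, V.2.image_of_isOpenImmersion U.ι⟩, ⟨⟨x, hx⟩, hxV, rfl⟩, f, hf, ?_⟩
  rw [map_ι_ideal_image]
  exact hDV

theorem mem_of_mem_associatedPrimes_map_ι [IsLocallyNoetherian X] (U : X.Opens)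
    (D : (U : Scheme.{u}).IdealSheafData) (W : X.affineOpens) (w : X) (hwW : w ∈ W.1)
    (hass : (W.2.primeIdealOf ⟨w, hwW⟩).asIdeal ∈
      associatedPrimes Γ(X, W.1) (Γ(X, W.1) ⧸ (D.map U.ι).ideal W)) : w ∈ U := by
  by_contra hwU
  have hA : IsNoetherianRing Γ(X, W.1) := IsLocallyNoetherian.component_noetherian W
  set q := (W.2.primeIdealOf ⟨w, hwW⟩).asIdeal with hq
  obtain ⟨hqprime, mbar, hm⟩ := (isAssociatedPrime_iff).mp hass
  obtain ⟨m, rfl⟩ := Ideal.Quotient.mk_surjective mbar
  have hqm : ∀ a, a ∈ q ↔ a * m ∈ (D.map U.ι).ideal W := fun a => by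
    rw [hm, Submodule.mem_colon_singleton, Submodule.mem_bot]
    show Ideal.Quotient.mk ((D.map U.ι).ideal W) (a * m) = 0 ↔ _
    exact Ideal.Quotient.eq_zero_iff_mem
  have hmI : m ∈ (D.map U.ι).ideal W := by
    set f := D.subschemeι ≫ U.ι with hf
    have hker : (D.map U.ι).ideal W = RingHom.ker (f.app W.1).hom := Scheme.Hom.ker_apply f W
    rw [hker, RingHom.mem_ker]
    apply TopCat.Presheaf.section_ext D.subscheme.sheaf (f ⁻¹ᵁ W.1)
    intro z hz
    show D.subscheme.presheaf.germ (f ⁻¹ᵁ W.1) z hz ((f.app W.1).hom m) =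
      D.subscheme.presheaf.germ (f ⁻¹ᵁ W.1) z hz 0
    rw [map_zero]
    have hyU : f z ∈ U := (D.subschemeι z).2
    have hyW : f z ∈ W.1 := hz
    obtain ⟨k, hkq, hky⟩ : ∃ k ∈ q, k ∉ (W.2.primeIdealOf ⟨f z, hyW⟩).asIdeal := by
      by_contra hcon
      push Not at hcon
      have hle : W.2.primeIdealOf ⟨w, hwW⟩ ≤ W.2.primeIdealOf ⟨f z, hyW⟩ := hcon
      have hsp : W.2.primeIdealOf ⟨w, hwW⟩ ⤳ W.2.primeIdealOf ⟨f z, hyW⟩ :=
        (PrimeSpectrum.le_iff_specializes _ _).mp hle
      have hsp' := hsp.map W.2.fromSpec.continuous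
      rw [W.2.fromSpec_primeIdealOf, W.2.fromSpec_primeIdealOf] at hsp'
      exact hwU (hsp'.mem_open U.isOpen hyU)
    have hkm : (f.app W.1).hom (k * m) = 0 := by
      rw [← RingHom.mem_ker, ← hker]; exact (hqm k).mp hkq
    have hunit : IsUnit (D.subscheme.presheaf.germ (f ⁻¹ᵁ W.1) z hz ((f.app W.1).hom k)) := by
      rw [← Scheme.Hom.germ_stalkMap_apply f W.1 z hyW k]
      apply IsUnit.map
      have := (mem_primeIdealOf_iff_germ W.2 (f z) hyW k).not.mp hky
      rwa [IsLocalRing.mem_maximalIdeal, mem_nonunits_iff, not_not] at this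
    have h0 : D.subscheme.presheaf.germ (f ⁻¹ᵁ W.1) z hz ((f.app W.1).hom k) *
        D.subscheme.presheaf.germ (f ⁻¹ᵁ W.1) z hz ((f.app W.1).hom m) = 0 := by
      rw [← map_mul, ← map_mul, hkm, map_zero]
    exact (hunit.mul_right_eq_zero).mp h0
  apply hqprime.ne_top
  rw [Ideal.eq_top_iff_one, hqm, one_mul]
  exact hmI

theorem exists_stalk_principal_map_ι [IsLocallyNoetherian X] (U : X.Opens)
    (D : (U : Scheme.{u}).IdealSheafData) (hD : BlowUp.IsEffCartierIdeal D) (W : X.affineOpens)
    (w : X) (hwW : w ∈ W.1) (hwU : w ∈ U) :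
    ∃ f : X.presheaf.stalk w, f ≠ 0 ∧
      ((D.map U.ι).ideal W).map (X.presheaf.germ W.1 w hwW).hom = Ideal.span {f} := by
  obtain ⟨W₁, hwW₁, f₁, hf₁, hI₁⟩ := exists_principal_map_ι U D hD w hwU
  obtain ⟨g, hgW, hwg⟩ := W₁.2.exists_basicOpen_le (V := W.1) ⟨w, hwW⟩ hwW₁
  obtain ⟨V, hV⟩ : ∃ V : X.affineOpens, V = X.affineBasicOpen g := ⟨_, rfl⟩
  have hVW₁ : V ≤ W₁ := by rw [hV]; exact X.basicOpen_le g
  have hVW : V ≤ W := by rw [hV]; exact hgW
  have hwV : w ∈ V.1 := by rw [hV]; exact hwg
  obtain ⟨hnzd, hIV⟩ := principal_of_le (D.map U.ι) hVW₁ f₁ hf₁ hI₁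
  have hmap := (D.map U.ι).map_ideal hVW
  refine ⟨X.presheaf.germ V.1 w hwV ((X.presheaf.map (homOfLE hVW₁).op).hom f₁), ?_, ?_⟩
  · exact nonZeroDivisors.ne_zero
      (germ_mem_nonZeroDivisors_of_isAffineOpen V.2 _ hnzd w hwV)
  · have hcomp : (X.presheaf.germ W.1 w hwW).hom =
        (X.presheaf.germ V.1 w hwV).hom.comp (X.presheaf.map (homOfLE hVW).op).hom := by
      ext a
      exact (TopCat.Presheaf.germ_res_apply X.presheaf (homOfLE hVW) w hwV a).symm
    rw [hcomp, ← Ideal.map_map, hmap, hIV, Ideal.map_span, Set.image_singleton]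

/-- Extension of an effective Cartier divisor from an open subscheme across points with factorial
local rings. -/
theorem exists_effCartier_extension [IsLocallyNoetherian X] (U : X.Opens)
    (D : (U : Scheme.{u}).IdealSheafData) (hD : BlowUp.IsEffCartierIdeal D)
    (hufd : ∀ x : X, x ∉ U →
      IsDomain (X.presheaf.stalk x) ∧ UniqueFactorizationMonoid (X.presheaf.stalk x)) :
    ∃ D' : X.IdealSheafData, BlowUp.IsEffCartierIdeal D' ∧ D'.comap U.ι = D := by
  classical
  refine ⟨D.map U.ι, ?_, comap_map_ι U D⟩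
  intro x
  by_cases hx : x ∈ U
  · exact exists_principal_map_ι U D hD x hx
  obtain ⟨_, ⟨W₀, hW₀, rfl⟩, hxW, -⟩ :=
    X.isBasis_affineOpens.exists_subset_of_mem_open (Set.mem_univ x) isOpen_univ
  obtain ⟨W, hW⟩ : ∃ W : X.affineOpens, W = ⟨W₀, hW₀⟩ := ⟨_, rfl⟩
  have hxW' : x ∈ W.1 := by rw [hW]; exact hxW
  have hA : IsNoetherianRing Γ(X, W.1) := IsLocallyNoetherian.component_noetherian W
  set p := (W.2.primeIdealOf ⟨x, hxW'⟩).asIdeal with hp
  let _ : Algebra Γ(X, W.1) (X.presheaf.stalk x) := (X.presheaf.germ W.1 x hxW').hom.toAlgebra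
  have hloc : IsLocalization.AtPrime (X.presheaf.stalk x) p := W.2.isLocalization_stalk ⟨x, hxW'⟩
  obtain ⟨hdomS, hufdS⟩ := hufd x hx
  have key := exists_span_singleton_of_local_principal (X.presheaf.stalk x) p
    ((D.map U.ι).ideal W) (by
      intro q hqprime hq hqp
      obtain ⟨w, hwW, hw⟩ := exists_point_of_prime W q
      subst hw
      have hwU : w ∈ U := mem_of_mem_associatedPrimes_map_ι U D W w hwW hq
      obtain ⟨f, hf, hIf⟩ := exists_stalk_principal_map_ι U D hD W w hwW hwU
      exact ⟨X.presheaf.stalk w, inferInstance, (X.presheaf.germ W.1 w hwW).hom.toAlgebra,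
        W.2.isLocalization_stalk ⟨w, hwW⟩, f, hf, hIf⟩)
  obtain ⟨π, hπ0, hJ⟩ := key
  have hπnzd : π ∈ nonZeroDivisors (X.presheaf.stalk x) := mem_nonZeroDivisors_of_ne_zero hπ0
  obtain ⟨h, hhp, a, H⟩ :=
    exists_away_principal_nzd p ((D.map U.ι).ideal W) (X.presheaf.stalk x) π hπnzd hJ
  let _ : Algebra Γ(X, W.1) Γ(X, X.basicOpen h) :=
    (X.presheaf.map (homOfLE (X.basicOpen_le h)).op).hom.toAlgebra
  have hlocB : IsLocalization.Away h Γ(X, X.basicOpen h) := W.2.isLocalization_basicOpen h
  obtain ⟨hnzd, hmap⟩ := H Γ(X, X.basicOpen h)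
  refine ⟨X.affineBasicOpen h, ?_, algebraMap Γ(X, W.1) Γ(X, X.basicOpen h) a, hnzd, ?_⟩
  · have h1 := (Groth.Agent.Lib.Helper29.Punct.mem_basicOpen_fromSpec W.2 h
      (W.2.primeIdealOf ⟨x, hxW'⟩)).mpr hhp
    rw [W.2.fromSpec_primeIdealOf ⟨x, hxW'⟩] at h1
    exact h1
  · rw [← (D.map U.ι).map_ideal_basicOpen W h]
    exact hmap

end Scheme

end Groth.Agent.Lib.Helper29.EffC
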