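import Groth.Agent.Lib.Helper29.AmpFam2
import Groth.Agent.Lib.Helper29.EffC5
import Groth.Agent.Lib.Helper29.RelAmple
import Groth.Agent.Lib.Helper29.PullSect
import Mathlib
universe u
open CategoryTheory CategoryTheory.Limits AlgebraicGeometry TopologicalSpace Opposite

/-! # Invertible modules on open subschemes of the spectrum of a Noetherian factorial ring -/

namespace Groth.Agent.Lib.Helper29.PicUFD
open Groth.Agent.Lib.Helper29.QCoh Groth.Agent.Lib.Helper29.QCoh.Glue
  Groth.Agent.Lib.Helper29.EffC Groth.Agent.Lib.Helper25.BlowUpUP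
  Groth.Agent.Lib.Helper29.AmpDiv Groth.Agent.Lib.Helper10.DivLocal
  Groth.Agent.Lib.Helper25.HypTwist

variable {X : Scheme.{u}}

/-- A global trivialising section gives an isomorphism with the structure sheaf. -/
theorem nonempty_iso_unit_of_isTriv_top {L : X.Modules} {e : Γ(L, ⊤)} (he : IsTriv L ⊤ e) :
    Nonempty (unitM X ≅ L) := by
  let σ₀ : unitM X ⟶ L := homOfSection L e
  have hiso : IsIso σ₀ := by
    rw [isIso_iff_app_bijective]
    intro T
    have hb := he T le_top
    have hfun : (fun s => σ₀.app T s) =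
        (fun r : Γ(X, T) => r • QCoh.res L le_top e) ∘ fromUnit := by
      funext s
      obtain ⟨r', rfl⟩ := toUnit_surjective s
      simp only [Function.comp_apply, fromUnit_toUnit]
      rw [app_eq_smul_sval, sval_homOfSection]
    change Function.Bijective (fun s => σ₀.app T s)
    rw [hfun]
    exact hb.comp ⟨fun a b h => h, fun a => ⟨toUnit a, rfl⟩⟩
  exact ⟨asIso σ₀⟩

/-- A function which lies in the ideal on every affine open is a section of the ideal module. -/
theorem exists_ifun_eq_of_forall_affine (I : X.IdealSheafData) (W : X.Opens) (a : Γ(X, W))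
    (ha : ∀ (W' : X.affineOpens) (h : W'.1 ≤ W), rres X h a ∈ I.ideal W') :
    ∃ t : Γ(ClSub.idealMod I, W), ifun I t = a := by
  have : Mono (ShortComplex.mk (ClSub.idealModι I) (ClSub.toSubscheme I)
    (kernel.condition _)).f := inferInstanceAs (Mono (ClSub.idealModι I))
  have hex := app_exact_of_exact_of_mono
    (ShortComplex.mk (ClSub.idealModι I) (ClSub.toSubscheme I) (kernel.condition _))
    (ShortComplex.exact_kernel _) W
  have key : (I.subschemeι.app W).hom a = 0 := by
    apply fun_ext_of_cover (X := I.subscheme)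
      (fun k : {W' : X.affineOpens // W'.1 ≤ W} => I.subschemeι ⁻¹ᵁ k.1.1) (I.subschemeι ⁻¹ᵁ W)
      (fun k => I.subschemeι.preimage_mono k.2)
    · intro z hz
      obtain ⟨W', hW', hzW', hW'W⟩ := AlgebraicGeometry.exists_isAffineOpen_mem_and_subset
        (show I.subschemeι z ∈ W from hz)
      exact Opens.mem_iSup.mpr ⟨⟨⟨W', hW'⟩, hW'W⟩, hzW'⟩
    · intro k
      rw [map_zero]
      have hnat := congrArg (fun φ => φ.hom a) (I.subschemeι.naturality (homOfLE k.2).op)
      have h0 : (I.subschemeι.app k.1.1).hom (rres X k.2 a) = 0 := by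
        have := ha k.1 k.2
        rw [← I.ker_subschemeι_app k.1, RingHom.mem_ker] at this
        exact this
      exact hnat.symm.trans h0
  have hz : (ClSub.toSubscheme I).app W (toUnit a) = 0 := by
    rw [unitToPush_app]
    simp only [fromUnit_toUnit]
    rw [key]
    rfl
  obtain ⟨s, hs⟩ := (hex (toUnit a)).mp hz
  exact ⟨s, congrArg fromUnit hs⟩

section Algebra

/-- An ideal of a Noetherian factorial domain which is principal (nonzero) at each of its
associated primes is principal. -/
theorem exists_span_singleton_of_forall_ass_principal {A : Type u} [CommRing A] [IsDomain A]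
    [IsNoetherianRing A] [UniqueFactorizationMonoid A] (I : Ideal A)
    (h : ∀ (q : Ideal A) [q.IsPrime], q ∈ associatedPrimes A (A ⧸ I) →
      ∃ (T : Type u) (_ : CommRing T) (_ : Algebra A T) (_ : IsLocalization.AtPrime T q)
        (f : T), f ≠ 0 ∧ I.map (algebraMap A T) = Ideal.span {f}) :
    ∃ g : A, g ≠ 0 ∧ I = Ideal.span {g} := by
  apply exists_span_singleton_of_ass_height_one
  intro P hP
  have hPprime : P.IsPrime := hP.isPrime
  obtain ⟨T, _, _, hTloc, f, hf, hIT⟩ := h P hP
  let T' := Localization.AtPrime P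
  have hT'ufd : UniqueFactorizationMonoid T' :=
    UniqueFactorizationMonoid.of_isLocalization P.primeCompl T'
  have hT'n : IsNoetherianRing T' := IsLocalization.isNoetherianRing P.primeCompl T' inferInstance
  let e : T ≃ₐ[A] T' := IsLocalization.algEquiv P.primeCompl T T'
  have hIT' : I.map (algebraMap A T') = Ideal.span {e f} := by
    have h1 : algebraMap A T' = (e : T →+* T').comp (algebraMap A T) := by
      ext a; exact (e.commutes a).symm
    rw [h1, ← Ideal.map_map, hIT, Ideal.map_span, Set.image_singleton]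
    rfl
  have hef : e f ≠ 0 := fun h0 => hf (by simpa using h0)
  have hmax : IsLocalRing.maximalIdeal T' ∈
      associatedPrimes T' (T' ⧸ I.map (algebraMap A T')) := by
    rw [comap_mem_associatedPrimes_of_map T' P.primeCompl I]
    have hc : Ideal.comap (algebraMap A T') (IsLocalRing.maximalIdeal T') = P :=
      IsLocalization.AtPrime.under_maximalIdeal T' P
    rw [hc]
    exact hP
  rw [hIT'] at hmax
  have h1 := height_eq_one_of_mem_associatedPrimes_span_singleton (e f) hef _ hmax
  have hc : Ideal.under A (IsLocalRing.maximalIdeal T') = P :=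
    IsLocalization.AtPrime.under_maximalIdeal T' P
  rw [← IsLocalization.height_under P.primeCompl (IsLocalRing.maximalIdeal T'), hc] at h1
  exact h1

end Algebra

/-- An effective Cartier divisor is principal (by a nonzero element) in every local ring. -/
theorem exists_stalk_principal_of_effCartier [IsLocallyNoetherian X] (D : X.IdealSheafData)
    (hD : BlowUp.IsEffCartierIdeal D) (W : X.affineOpens) (w : X) (hwW : w ∈ W.1) :
    ∃ f : X.presheaf.stalk w, f ≠ 0 ∧
      (D.ideal W).map (X.presheaf.germ W.1 w hwW).hom = Ideal.span {f} := by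
  obtain ⟨W₁, hwW₁, f₁, hf₁, hI₁⟩ := hD w
  obtain ⟨g, hgW, hwg⟩ := W₁.2.exists_basicOpen_le (V := W.1) ⟨w, hwW⟩ hwW₁
  obtain ⟨V, hV⟩ : ∃ V : X.affineOpens, V = X.affineBasicOpen g := ⟨_, rfl⟩
  have hVW₁ : V ≤ W₁ := by rw [hV]; exact X.basicOpen_le g
  have hVW : V ≤ W := by rw [hV]; exact hgW
  have hwV : w ∈ V.1 := by rw [hV]; exact hwg
  obtain ⟨hnzd, hIV⟩ := principal_of_le D hVW₁ f₁ hf₁ hI₁
  have hmap := D.map_ideal hVW
  refine ⟨X.presheaf.germ V.1 w hwV ((X.presheaf.map (homOfLE hVW₁).op).hom f₁), ?_, ?_⟩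
  · exact nonZeroDivisors.ne_zero
      (germ_mem_nonZeroDivisors_of_isAffineOpen V.2 _ hnzd w hwV)
  · have hcomp : (X.presheaf.germ W.1 w hwW).hom =
        (X.presheaf.germ V.1 w hwV).hom.comp (X.presheaf.map (homOfLE hVW).op).hom := by
      ext a
      exact (TopCat.Presheaf.germ_res_apply X.presheaf (homOfLE hVW) w hwV a).symm
    rw [hcomp, ← Ideal.map_map, hmap, hIV, Ideal.map_span, Set.image_singleton]

/-- On an affine open with factorial coordinate ring, an effective Cartier divisor is principal. -/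
theorem exists_span_singleton_of_effCartier_ufd [IsLocallyNoetherian X] (D : X.IdealSheafData)
    (hD : BlowUp.IsEffCartierIdeal D) (W : X.affineOpens) [IsDomain Γ(X, W.1)]
    [UniqueFactorizationMonoid Γ(X, W.1)] :
    ∃ g : Γ(X, W.1), g ≠ 0 ∧ D.ideal W = Ideal.span {g} := by
  have hA : IsNoetherianRing Γ(X, W.1) := IsLocallyNoetherian.component_noetherian W
  apply exists_span_singleton_of_forall_ass_principal
  intro q hqprime hq
  obtain ⟨w, hwW, hw⟩ := exists_point_of_prime W q
  subst hw
  obtain ⟨f, hf, hIf⟩ := exists_stalk_principal_of_effCartier D hD W w hwW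
  exact ⟨X.presheaf.stalk w, inferInstance, (X.presheaf.germ W.1 w hwW).hom.toAlgebra,
    W.2.isLocalization_stalk ⟨w, hwW⟩, f, hf, hIf⟩

/-- The ideal module of an effective Cartier divisor with a global equation is trivial. -/
theorem nonempty_iso_unit_idealMod_of_principal [IsLocallyNoetherian X] (D : X.IdealSheafData)
    (hD : BlowUp.IsEffCartierIdeal D) (g : Γ(X, ⊤))
    (hg : ∀ V : X.affineOpens, D.ideal V = Ideal.span {rres X (le_top : V.1 ≤ ⊤) g}) :
    Nonempty (unitM X ≅ ClSub.idealMod D) := by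
  obtain ⟨t, ht⟩ := exists_ifun_eq_of_forall_affine D ⊤ g (fun W' h => by
    rw [hg W']; exact Ideal.mem_span_singleton_self _)
  apply nonempty_iso_unit_of_isTriv_top (e := t)
  apply isTriv_idealMod D t
  · intro W h
    rw [ht, hg W]
  · intro W h r hr
    rw [ht] at hr
    choose V hxV f hf hI using hD
    apply fun_ext_of_cover (fun x : W => W ⊓ (V x.1).1) W (fun _ => inf_le_left)
      (fun x hx => Opens.mem_iSup.mpr ⟨⟨x, hx⟩, hx, hxV x⟩) r 0
    intro x
    rw [map_zero]
    have hgV : rres X (le_top : (V x.1).1 ≤ ⊤) g ∈ nonZeroDivisors Γ(X, (V x.1).1) := by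
      have h1 := hI x.1
      rw [hg (V x.1)] at h1
      have h2 : f x.1 ∈ Ideal.span {rres X (le_top : (V x.1).1 ≤ ⊤) g} := by
        rw [h1]; exact Ideal.mem_span_singleton_self _
      have h3 : rres X (le_top : (V x.1).1 ≤ ⊤) g ∈ Ideal.span {f x.1} := by
        rw [← h1]; exact Ideal.mem_span_singleton_self _
      obtain ⟨c', hc'⟩ := Ideal.mem_span_singleton'.mp h2
      obtain ⟨c, hc⟩ := Ideal.mem_span_singleton'.mp h3
      have hcc : c' * c = 1 := by
        have h4 : (c' * c - 1) * f x.1 = 0 := by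
          rw [sub_mul, one_mul, mul_assoc, hc, hc', sub_self]
        have := (mem_nonZeroDivisors_iff.mp (hf x.1)).2 _ h4
        exact sub_eq_zero.mp this
      have hcu : IsUnit c := IsUnit.of_mul_eq_one c' (by rw [mul_comm]; exact hcc)
      rw [← hc]
      exact mul_mem hcu.mem_nonZeroDivisors (hf x.1)
    apply rres_mul_eq_zero (V x.1).2 _ hgV (W ⊓ (V x.1).1) inf_le_right
    rw [rres_rres]
    have h5 := congrArg (rres X (inf_le_left : W ⊓ (V x.1).1 ≤ W)) hr
    rw [map_mul, map_zero, rres_rres] at h5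
    exact h5

/-- **Invertible modules on opens of a factorial Noetherian affine scheme are trivial.** -/
theorem nonempty_iso_unit_idealMod_of_open [IsAffine X] [IsNoetherian X] [IsDomain Γ(X, ⊤)]
    [UniqueFactorizationMonoid Γ(X, ⊤)] (U : X.Opens)
    (D : (U : Scheme.{u}).IdealSheafData) (hD : BlowUp.IsEffCartierIdeal D) :
    Nonempty (unitM (U : Scheme.{u}) ≅ ClSub.idealMod D) := by
  have hXaff : IsAffineOpen (⊤ : X.Opens) := isAffineOpen_top X
  have hufd : ∀ x : X, IsDomain (X.presheaf.stalk x) ∧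
      UniqueFactorizationMonoid (X.presheaf.stalk x) := by
    intro x
    letI : Algebra Γ(X, ⊤) (X.presheaf.stalk x) := (X.presheaf.germ ⊤ x trivial).hom.toAlgebra
    have hloc : IsLocalization.AtPrime (X.presheaf.stalk x)
        (hXaff.primeIdealOf ⟨x, trivial⟩).asIdeal := hXaff.isLocalization_stalk ⟨x, trivial⟩
    have hdom : IsDomain (X.presheaf.stalk x) :=
      IsLocalization.isDomain_of_le_nonZeroDivisors (X.presheaf.stalk x)
        (Ideal.primeCompl_le_nonZeroDivisors (hXaff.primeIdealOf ⟨x, trivial⟩).asIdeal)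
    exact ⟨hdom, UniqueFactorizationMonoid.of_isLocalization
      (hXaff.primeIdealOf ⟨x, trivial⟩).asIdeal.primeCompl (X.presheaf.stalk x)⟩
  obtain ⟨D', hD', hcomap⟩ := exists_effCartier_extension U D hD (fun x _ => hufd x)
  obtain ⟨g, hg0, hg⟩ := exists_span_singleton_of_effCartier_ufd D' hD' ⟨⊤, hXaff⟩
  have hUln : IsLocallyNoetherian (U : Scheme.{u}) := inferInstance
  refine nonempty_iso_unit_idealMod_of_principal D hD ((U.ι.appTop).hom g) (fun V => ?_)
  rw [← hcomap, Scheme.IdealSheafData.ideal_comap_of_isOpenImmersion, U.ι_appIso V]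
  have hmap := D'.map_ideal (U := ⟨U.ι ''ᵁ V.1, V.2.image_of_isOpenImmersion U.ι⟩)
    (V := ⟨⊤, hXaff⟩) (show U.ι ''ᵁ V.1 ≤ ⊤ from le_top)
  rw [← hmap, hg, Ideal.map_span, Set.image_singleton]
  have hel : (X.presheaf.map (homOfLE (show U.ι ''ᵁ V.1 ≤ ⊤ from le_top)).op).hom g =
      rres (U : Scheme.{u}) (le_top : V.1 ≤ ⊤) ((U.ι.appTop).hom g) := by
    unfold Scheme.Hom.appTop
    rw [Scheme.Opens.ι_app]
    change _ = (X.presheaf.map _).hom ((X.presheaf.map _).hom g)
    rw [← CommRingCat.comp_apply, ← X.presheaf.map_comp]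
    rfl
  rw [← hel]
  ext z
  exact Iff.rfl

/-- Invertible modules on open subschemes of a Noetherian factorial affine scheme are trivial. -/
theorem nonempty_iso_unit_of_isInvertible_open [IsAffine X] [IsNoetherian X] [IsDomain Γ(X, ⊤)]
    [UniqueFactorizationMonoid Γ(X, ⊤)] (U : X.Opens) (N : (U : Scheme.{u}).Modules)
    (hN : PicF.IsInvertible N) : Nonempty (N ≅ unitM (U : Scheme.{u})) := by
  have hcU : CompactSpace (U : Scheme.{u}) :=
    isCompact_iff_compactSpace.mp (NoetherianSpace.isCompact (U : Set X))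
  have hUn : IsNoetherian (U : Scheme.{u}) := {}
  have hqa : (U : Scheme.{u}).IsQuasiAffine := Scheme.IsQuasiAffine.of_isImmersion U.ι
  have hamp : CohB1.IsAmple (unitM (U : Scheme.{u})) := isQuasiAffine_iff_isAmple_unit.mp hqa
  obtain ⟨D, D', hD, hD', -, -, ⟨φ⟩⟩ := exists_divisors_of_ample hamp hN ∅ Set.finite_empty
  obtain ⟨e1⟩ := nonempty_iso_unit_idealMod_of_open U D hD
  obtain ⟨e2⟩ := nonempty_iso_unit_idealMod_of_open U D' hD'
  exact ⟨(tensorUnitR N).symm ≪≫ tensorCongr (Iso.refl N) e1 ≪≫ φ ≪≫ e2.symm⟩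

/-- The Picard group of an open subscheme of the spectrum of a Noetherian factorial domain is
trivial. -/
theorem picTrivial_open_spec (A : Type u) [CommRing A] [IsDomain A] [IsNoetherianRing A]
    [UniqueFactorizationMonoid A] (U : (Spec (CommRingCat.of A)).Opens) :
    ∀ L : (U : Scheme.{u}).Modules, PicF.IsInvertible L →
      Nonempty (L ≅ Coh.structureModule (U : Scheme.{u})) := by
  let e : Γ(Spec (CommRingCat.of A), ⊤) ≃+* A :=
    (Scheme.ΓSpecIso (CommRingCat.of A)).commRingCatIsoToRingEquiv
  have hdom : IsDomain Γ(Spec (CommRingCat.of A), ⊤) := e.toMulEquiv.isDomain A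
  have hufd : UniqueFactorizationMonoid Γ(Spec (CommRingCat.of A), ⊤) :=
    e.symm.toMulEquiv.uniqueFactorizationMonoid inferInstance
  intro L hL
  exact nonempty_iso_unit_of_isInvertible_open U L hL

end Groth.Agent.Lib.Helper29.PicUFD
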