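import Groth.Agent.Lib.Helper29.FinCov7
import Groth.Agent.Lib.Helper29.SemiLoc2
import Groth.Agent.Lib.Helper26.FinLocFreeMor
import Mathlib.AlgebraicGeometry.Morphisms.FlatRank
universe u
open CategoryTheory CategoryTheory.Limits AlgebraicGeometry TopologicalSpace Opposite

namespace Groth.Agent.Lib.Helper29.QCoh

section
variable {X Y : Scheme.{u}}

/-- The rank of a finite flat morphism at a point, computed on an affine open. -/
theorem finrank_eq_ringHom_finrank (f : X ⟶ Y) [IsFinite f] [Flat f] {V : Y.Opens}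
    (hV : IsAffineOpen V) (y : Y) (hy : y ∈ V) :
    f.finrank y = (f.app V).hom.finrank (hV.primeIdealOf ⟨y, hy⟩) := by
  have hV' : IsAffineOpen (f ⁻¹ᵁ V) := hV.preimage f
  have hfin : (f.app V).hom.Finite := f.finite_app _ hV
  have hflat : (f.app V).hom.Flat := by
    have := f.flat_appLE hV hV' le_rfl
    rwa [← Scheme.Hom.app_eq_appLE] at this
  have H : hV'.fromSpec ≫ f = Spec.map (f.app V) ≫ hV.fromSpec := by
    rw [Scheme.Hom.app_eq_appLE]
    exact (IsAffineOpen.SpecMap_appLE_fromSpec f hV hV' le_rfl).symm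
  have hpb : IsPullback (Spec.map (f.app V)) hV'.fromSpec hV.fromSpec f :=
    IsOpenImmersion.isPullback _ _ _ _ H (by rw [hV.opensRange_fromSpec, hV'.opensRange_fromSpec])
  haveI : IsFinite (Spec.map (f.app V)) := (IsFinite.SpecMap_iff _).mpr hfin
  haveI : Flat (Spec.map (f.app V)) := Flat.SpecMap_iff.mpr hflat
  have h1 := Scheme.Hom.finrank_of_isPullback _ _ _ _ hpb.flip (hV.primeIdealOf ⟨y, hy⟩)
  rw [hV.fromSpec_primeIdealOf] at h1
  rw [← h1, Scheme.Hom.finrank_SpecMap_eq_finrank hfin hflat]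

end

end Groth.Agent.Lib.Helper29.QCoh

namespace Groth.Agent.Lib.Helper29.QCoh

open Groth.Agent.Lib.Helper26.FinLocFreeMor in
theorem finrank_eq_of_linearEquiv {X Y : Scheme.{u}} (f : X ⟶ Y) [IsFinite f] [Flat f]
    {V : Y.Opens} (hV : IsAffineOpen V) (y : Y) (hy : y ∈ V) {n : ℕ}
    (e : Γ((Scheme.Modules.pushforward f).obj (unitM X), V) ≃ₗ[Γ(Y, V)] (Fin n →₀ Γ(Y, V))) :
    f.finrank y = n := by
  rw [finrank_eq_ringHom_finrank f hV y hy]
  letI alg : Algebra Γ(Y, V) Γ(X, f ⁻¹ᵁ V) := (f.app V).hom.toAlgebra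
  change Module.rankAtStalk (R := Γ(Y, V)) Γ(X, f ⁻¹ᵁ V) (hV.primeIdealOf ⟨y, hy⟩) = n
  rw [Module.rankAtStalk_eq_of_equiv ((sectionsEquiv f V).symm ≪≫ₗ e)]
  haveI : Nontrivial Γ(Y, V) := nontrivial_sections_of_mem hy
  simp

end Groth.Agent.Lib.Helper29.QCoh

namespace Groth.Agent.Lib.Helper29.QCoh

open Groth.Agent.Lib.Helper26.FinLocFreeMor in
theorem isCover_iff {X Y : Scheme.{u}} (f : X ⟶ Y) (d : ℕ) :
    FinCov.IsCover f d ↔
      IsAffineHom f ∧ FlatMod.IsFinLocFreeOfRank d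
        ((Scheme.Modules.pushforward f).obj (Coh.structureModule X)) := by
  constructor
  · rintro ⟨hf, hrk⟩
    obtain ⟨haff, hM⟩ := backward f hf
    obtain ⟨h1, h2, h3⟩ := hf
    refine ⟨haff, ?_⟩
    haveI := isQuasicoherent_of_isFinLocFree hM
    rw [isFinLocFreeOfRank_iff_exists_affine]
    intro y
    obtain ⟨V, n, hV, hyV, ⟨e⟩⟩ := exists_affine_linearEquiv_of_isFinLocFree hM y
    have hn : f.finrank y = n := finrank_eq_of_linearEquiv f hV y hyV e
    rw [hrk y] at hn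
    subst hn
    exact ⟨V, hV, hyV, ⟨e⟩⟩
  · rintro ⟨haff, hM⟩
    have hf : Mor2.IsFinLocFree f := forward f (isFinLocFree_of_isFinLocFreeOfRank hM)
    refine ⟨hf, fun y => ?_⟩
    obtain ⟨h1, h2, h3⟩ := hf
    obtain ⟨V, hV, hyV, ⟨e⟩⟩ := exists_affine_linearEquiv_of_isFinLocFreeOfRank hM y
    exact finrank_eq_of_linearEquiv f hV y hyV e

end Groth.Agent.Lib.Helper29.QCoh
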