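import Groth.Agent.Lib.Helper29.ZeroSch4
set_option autoImplicit false
universe u
open CategoryTheory CategoryTheory.Limits AlgebraicGeometry TopologicalSpace Opposite

namespace Groth.Agent.Lib.Helper29.ZeroSch
open Groth.Agent.Lib.Helper29.QCoh Groth.Agent.Lib.Helper29.QCoh.MeroK

variable {X : Scheme.{u}}

theorem zI_eq_of_unit_smul {L : X.Modules} (s s' : unitM X ⟶ L) {U : X.Opens} (h : Γ(X, U))
    (hh : IsUnit h) (hs : sval s' U = h • sval s U) : zI L s' U = zI L s U := by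
  obtain ⟨u, rfl⟩ := hh
  ext a
  rw [mem_zI, mem_zI]
  constructor
  · intro H m
    obtain ⟨b, hb⟩ := H m
    exact ⟨b * u, by rw [hb, hs, smul_smul]⟩
  · intro H m
    obtain ⟨b, hb⟩ := H m
    refine ⟨b * (u⁻¹ : (Γ(X, U))ˣ), ?_⟩
    rw [hb, hs, smul_smul, mul_assoc, Units.inv_mul, mul_one]

theorem zeroScheme_eq_of_unit_smul {L : X.Modules} (hL : PicF.IsInvertible L) (s s' : unitM X ⟶ L)
    (h : Γ(X, ⊤)) (hh : IsUnit h) (hs : sval s' ⊤ = h • sval s ⊤) :
    PicF2.zeroScheme L s' = PicF2.zeroScheme L s := by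
  apply Scheme.IdealSheafData.ext
  funext U
  rw [zeroScheme_ideal (isFinLocFree_of_isInvertible hL), zeroScheme_ideal (isFinLocFree_of_isInvertible hL)]
  apply zI_eq_of_unit_smul s s' (rres X (le_top : U.1 ≤ ⊤) h) (hh.map _)
  rw [← res_sval s' (le_top : U.1 ≤ ⊤), hs, res_smul', res_sval]

/-- Cancellation of a scalar against a nonzero section of an invertible module. -/
theorem eq_zero_of_smul_sval_eq_zero [IsIntegral X] {L : X.Modules} (hL : PicF.IsInvertible L)
    (s : unitM X ⟶ L) (hs : s ≠ 0) {T : X.Opens} (hT : (T : Set X).Nonempty) (c : Γ(X, T))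
    (hc : c • sval s T = 0) : c = 0 := by
  obtain ⟨t, ht⟩ := hT
  obtain ⟨V, e, -, htV, hVT, he⟩ := exists_affine_isTriv hL (W := T) t ht
  have hVne : (V : Set X).Nonempty := ⟨t, htV⟩
  obtain ⟨b, hb⟩ := he.exists_eq_smul (sval s V)
  have hb0 : b ≠ 0 := by
    intro h0
    apply sval_ne_zero hL s hs hVne
    rw [hb, h0, zero_smul]
  haveI := isDomain_sections_of_isIntegral hVne
  have h1 : rres X hVT c * b = 0 := by
    apply he.smul_left_cancel
    rw [zero_smul, ← smul_smul, ← hb, ← res_sval s hVT, ← res_smul', hc, map_zero]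
  have h2 : rres X hVT c = 0 := (mul_eq_zero.mp h1).resolve_right hb0
  exact rres_injective_of_isIntegral hVT hVne (by rw [h2, map_zero])

theorem exists_unit_of_zeroScheme_eq [IsIntegral X] {L : X.Modules} (hL : PicF.IsInvertible L)
    (s s' : unitM X ⟶ L) (hs : s ≠ 0)
    (heq : PicF2.zeroScheme L s' = PicF2.zeroScheme L s) :
    ∃ h : Γ(X, ⊤), IsUnit h ∧ sval s' ⊤ = h • sval s ⊤ := by
  have hloc : ∀ x : X, ∃ (U : X.Opens) (e : Γ(L, U)), IsAffineOpen U ∧ x ∈ U ∧ IsTriv L U e := by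
    intro x
    obtain ⟨U, e, hU, hxU, -, he⟩ := exists_affine_isTriv hL (W := ⊤) x trivial
    exact ⟨U, e, hU, hxU, he⟩
  choose W e hW hxW he using hloc
  have ha : ∀ x, ∃ a : Γ(X, W x), sval s (W x) = a • e x := fun x => (he x).exists_eq_smul _
  choose a ha using ha
  have ha' : ∀ x, ∃ a : Γ(X, W x), sval s' (W x) = a • e x := fun x => (he x).exists_eq_smul _
  choose a' ha' using ha'
  have hne : ∀ x, ((W x : X.Opens) : Set X).Nonempty := fun x => ⟨x, hxW x⟩
  have hu : ∀ x, ∃ u : (Γ(X, W x))ˣ, a' x = u * a x := by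
    intro x
    haveI := isDomain_sections_of_isIntegral (hne x)
    have hane : a x ≠ 0 := by
      intro h0
      apply sval_ne_zero hL s hs (hne x)
      rw [ha x, h0, zero_smul]
    apply exists_unit_of_span_eq _ _ (mem_nonZeroDivisors_of_ne_zero hane)
    rw [← zeroScheme_ideal_of_isTriv hL s' (hW x) (he x) (a' x) (ha' x),
      ← zeroScheme_ideal_of_isTriv hL s (hW x) (he x) (a x) (ha x), heq]
  choose u hu using hu
  have hsu : ∀ x, sval s' (W x) = (u x : Γ(X, W x)) • sval s (W x) := by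
    intro x
    rw [ha' x, ha x, hu x, smul_smul]
  have hcompat : TopCat.Presheaf.IsCompatible X.sheaf.1 W (fun x => (u x : Γ(X, W x))) := by
    intro i j
    have hT : (((W i ⊓ W j : X.Opens)) : Set X).Nonempty :=
      inter_nonempty_of_isIntegral (hne i) (hne j)
    have h1 : rres X (inf_le_left : W i ⊓ W j ≤ W i) (u i) • sval s (W i ⊓ W j) =
        sval s' (W i ⊓ W j) := by
      rw [← res_sval s (inf_le_left : W i ⊓ W j ≤ W i), ← res_smul', ← hsu i, res_sval]
    have h2 : rres X (inf_le_right : W i ⊓ W j ≤ W j) (u j) • sval s (W i ⊓ W j) =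
        sval s' (W i ⊓ W j) := by
      rw [← res_sval s (inf_le_right : W i ⊓ W j ≤ W j), ← res_smul', ← hsu j, res_sval]
    have h3 := eq_zero_of_smul_sval_eq_zero hL s hs hT
      (rres X (inf_le_left : W i ⊓ W j ≤ W i) (u i) - rres X (inf_le_right : W i ⊓ W j ≤ W j) (u j))
      (by rw [sub_smul, h1, h2, sub_self])
    exact sub_eq_zero.mp h3
  obtain ⟨h, hh, -⟩ := X.sheaf.existsUnique_gluing' W ⊤ (fun i => homOfLE le_top)
    (fun y _ => Opens.mem_iSup.mpr ⟨y, hxW y⟩) (fun x => (u x : Γ(X, W x))) hcompat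
  have hh' : ∀ x, rres X (le_top : W x ≤ ⊤) h = u x := hh
  refine ⟨h, ?_, ?_⟩
  · have h1 : ∀ x, W x ≤ X.basicOpen h := fun x =>
      (isUnit_rres_iff le_top h).mp (by rw [hh' x]; exact (u x).isUnit)
    have h2 : (⊤ : X.Opens) ≤ X.basicOpen h := fun y _ => h1 y (hxW y)
    have h3 := (isUnit_rres_iff (le_refl (⊤ : X.Opens)) h).mpr h2
    have h4 : rres X (le_refl (⊤ : X.Opens)) h = h := by
      change (X.presheaf.map (𝟙 _)).hom h = h
      rw [X.presheaf.map_id]; rfl
    rwa [h4] at h3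
  · apply eq_of_res_cover_eq L W (fun _ => le_top) (fun y _ => Opens.mem_iSup.mpr ⟨y, hxW y⟩)
    intro x
    rw [res_smul', res_sval, res_sval, hh' x, hsu x]

end Groth.Agent.Lib.Helper29.ZeroSch
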