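import Groth.Agent.Lib.Helper29.Pic1
import Groth.Agent.Lib.Helper29.ZeroSch5
import Groth.Agent.Lib.Helper29.SerreA
import Groth.Agent.Lib.Helper29.TensorIso
import Groth.Agent.Lib.Helper29.Twist4
set_option autoImplicit false
universe u
open CategoryTheory CategoryTheory.Limits AlgebraicGeometry TopologicalSpace Opposite DirectSum

namespace Groth.Agent.Lib.Helper29.Pic
open Groth.Agent.Lib.Helper29.QCoh Groth.Agent.Lib.Helper29.ZeroSch
open Groth.Agent.Lib.Helper29.QCoh.MeroK Groth.Agent.Lib.Helper29.Curve1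

section Div
variable {X : Scheme.{u}}

/-- A divisor is determined by the ideal sheaf of which it is the divisor. -/
theorem divisor_eq_of_isDivOfIdeal (K : X.IdealSheafData) (D D' : Mero.Divisor X)
    (hD : Mero.IsDivOfIdeal D K) (hD' : Mero.IsDivOfIdeal D' K) : D = D' := by
  apply Subtype.ext
  funext x
  obtain ⟨U₁, hxU₁, f₁, hf₁, hI₁, hg₁⟩ := hD x
  obtain ⟨U₂, hxU₂, f₂, hf₂, hI₂, hg₂⟩ := hD' x
  obtain ⟨V, hV, hxV, hVU⟩ := exists_isAffineOpen_mem_and_subset (x := x) (U := U₁.1 ⊓ U₂.1)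
    ⟨hxU₁, hxU₂⟩
  have hV1 : V ≤ U₁.1 := fun y hy => (hVU hy).1
  have hV2 : V ≤ U₂.1 := fun y hy => (hVU hy).2
  have h1 := K.map_ideal (U := ⟨V, hV⟩) (V := U₁) hV1
  have h2 := K.map_ideal (U := ⟨V, hV⟩) (V := U₂) hV2
  rw [hI₁, Ideal.map_span, Set.image_singleton] at h1
  rw [hI₂, Ideal.map_span, Set.image_singleton] at h2
  have hreg : X.presheaf.map (homOfLE hV2).op f₂ ∈ nonZeroDivisors Γ(X, V) :=
    Depth1.mem_nonZeroDivisors_of_germ _ (fun y hy => Mero.regSub_res (homOfLE hV2) hf₂ ⟨y, hy⟩)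
  obtain ⟨u, hu⟩ := exists_unit_of_span_eq _ _ hreg (h1.trans h2.symm)
  rw [hg₁ ⟨x, hxU₁⟩, hg₂ ⟨x, hxU₂⟩]
  change regClass (Mero.regGerm ⟨x, hxU₁⟩ ⟨f₁, hf₁⟩) = regClass (Mero.regGerm ⟨x, hxU₂⟩ ⟨f₂, hf₂⟩)
  refine regClass_eq_of_unit_mul _ _
    (Units.map (X.presheaf.germ V x hxV).hom.toMonoidHom u) ?_
  change X.presheaf.germ U₁.1 x hxU₁ f₁ =
    X.presheaf.germ V x hxV (u : Γ(X, V)) * X.presheaf.germ U₂.1 x hxU₂ f₂
  have h4 : X.presheaf.germ V x hxV (X.presheaf.map (homOfLE hV1).op f₁) =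
      X.presheaf.germ U₁.1 x hxU₁ f₁ := TopCat.Presheaf.germ_res_apply _ _ _ _ _
  have h5 : X.presheaf.germ V x hxV (X.presheaf.map (homOfLE hV2).op f₂) =
      X.presheaf.germ U₂.1 x hxU₂ f₂ := TopCat.Presheaf.germ_res_apply _ _ _ _ _
  have h3 := congrArg (X.presheaf.germ V x hxV) hu
  rw [map_mul] at h3
  exact h4.symm.trans (h3.trans (congrArg _ h5))

/-- Two invertible modules with nonzero sections having the same zero scheme are isomorphic. -/
theorem nonempty_iso_of_zeroScheme_eq [IsIntegral X] {L L' : X.Modules}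
    (hL : PicF.IsInvertible L) (hL' : PicF.IsInvertible L') (s : unitM X ⟶ L) (s' : unitM X ⟶ L')
    (hs : s ≠ 0) (h : PicF2.zeroScheme L s = PicF2.zeroScheme L' s') : Nonempty (L ≅ L') := by
  have hs' : s' ≠ 0 := by
    rintro rfl
    obtain ⟨x⟩ : Nonempty X := inferInstance
    obtain ⟨U, e, e', hU, hxU, -, he, he'⟩ :=
      exists_affine_isTriv₂ hL hL' (W := ⊤) x trivial
    obtain ⟨a, ha⟩ := he.exists_eq_smul (sval s U)
    have h1 := zeroScheme_ideal_of_isTriv hL s hU he a ha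
    have h2 := zeroScheme_ideal_of_isTriv hL' (0 : unitM X ⟶ L') hU he' 0
      (by rw [zero_smul]; rfl)
    rw [h, h2] at h1
    have ha0 : a = 0 := by
      have : a ∈ Ideal.span {(0 : Γ(X, U))} := h1 ▸ Ideal.subset_span rfl
      rw [Ideal.mem_span_singleton'] at this
      obtain ⟨c, hc⟩ := this
      rw [← hc, mul_zero]
    apply sval_ne_zero hL s hs ⟨x, hxU⟩
    rw [ha, ha0, zero_smul]
  obtain ⟨D, hD, e, -⟩ := exists_divisor_of_section hL s hs
  obtain ⟨D', hD', e', -⟩ := exists_divisor_of_section hL' s' hs'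
  rw [h] at hD
  have hDD : D = D' := divisor_eq_of_isDivOfIdeal _ D D' hD hD'
  subst hDD
  exact ⟨e ≪≫ e'.symm⟩

/-- A section of an invertible module on an integral scheme whose generating locus is nonempty is
nonzero. -/
theorem ne_zero_of_mem_genLocus {B : X.Modules} (hB : PicF.IsInvertible B)
    (σ : unitM X ⟶ B) (x : X) (hx : x ∈ CohB1.genLocus B σ) : σ ≠ 0 := by
  rintro rfl
  obtain ⟨U, hxU, hU⟩ := (mem_genLocus_iff (0 : unitM X ⟶ B) x).mp hx
  obtain ⟨V, e, -, hxV, hVU, he⟩ := exists_affine_isTriv hB (W := U) x hxU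
  have h1 := (he.app_bijective_iff (0 : unitM X ⟶ B) 0 (by rw [zero_smul]; rfl)
    (le_refl V)).mp (hU V hVU)
  have h2 : X.basicOpen (0 : Γ(X, V)) = ⊥ := Scheme.basicOpen_zero X V
  rw [h2] at h1
  exact h1 hxV

end Div

section General
variable {R A : Type u} [CommRing R] [CommRing A] [Algebra R A] (𝒜 : ℕ → Submodule R A)
  [GradedAlgebra 𝒜]
variable {I : Type u} (f : I → 𝒜 1)

/-- The ideal of the zero scheme of the section `F / 1` of `O(d)` on the standard charts. -/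
theorem zeroScheme_ideal_Dp_gen (hcov : ∀ x : Proj 𝒜, ∃ g : 𝒜 1, x ∈ Proj.basicOpen 𝒜 g.1)
    {d : ℕ} (s : unitM (Proj 𝒜) ⟶ Twist.twist 𝒜 (d : ℤ)) (F : 𝒜 d)
    (hs : sval s ⊤ = gOf 𝒜 F) (i : I) :
    (PicF2.zeroScheme _ s).ideal (affDp 𝒜 f i) =
      Ideal.span {frac 𝒜 f i (Dp 𝒜 f i) le_rfl F} := by
  have hL : PicF.IsInvertible (Twist.twist 𝒜 (d : ℤ)) :=
    (twist_invertible_and_tensor (iSup_basicOpen_eq_top_of_forall hcov)).1 _
  have he : IsTriv (Twist.twist 𝒜 (d : ℤ)) (Dp 𝒜 f i)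
      (eSec (d : ℤ) (f i) d 0 (by simp) (Dp 𝒜 f i) le_rfl) := isTriv_eSec _ _ _ _ _ _ _
  have ha : sval s (Dp 𝒜 f i) = frac 𝒜 f i (Dp 𝒜 f i) le_rfl F •
      eSec (d : ℤ) (f i) d 0 (by simp) (Dp 𝒜 f i) le_rfl := by
    rw [← res_sval s (le_top : Dp 𝒜 f i ≤ ⊤), hs]
    exact res_gOf_eq_frac_smul 𝒜 f i F
  exact zeroScheme_ideal_of_isTriv hL s (affDp 𝒜 f i).2 he _ ha

end General

section Pn
variable {n : ℕ} {R : Type u} [CommRing R] [IsDomain R] [UniqueFactorizationMonoid R]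

/-- An invertible module on projective space over a UFD having a nonzero section is a twist. -/
theorem exists_iso_twist_of_section {L : (Proj (CohB1.polyGrading n R)).Modules}
    (hL : PicF.IsInvertible L) (s : unitM (Proj (CohB1.polyGrading n R)) ⟶ L) (hs : s ≠ 0) :
    ∃ d : ℕ, Nonempty (L ≅ Twist.twist (CohB1.polyGrading n R) (d : ℤ)) := by
  obtain ⟨d, F, hF⟩ := exists_homogeneous_gen hL s hs
  refine ⟨d, ?_⟩
  have hcov := projSpace_degree_one_cover n R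
  have hL' : PicF.IsInvertible (Twist.twist (CohB1.polyGrading n R) (d : ℤ)) :=
    isInvertible_twist_projSpace n R _
  set s' : unitM (Proj (CohB1.polyGrading n R)) ⟶ Twist.twist (CohB1.polyGrading n R) (d : ℤ) :=
    homOfSection _ (gOf (CohB1.polyGrading n R) F) with hs'
  have hs'v : sval s' ⊤ = gOf (CohB1.polyGrading n R) F := by
    rw [hs', sval_homOfSection]
    exact res_self _ _
  apply nonempty_iso_of_zeroScheme_eq hL hL' s s' hs
  refine Scheme.IdealSheafData.ext_of_iSup_eq_top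
    (affDp (CohB1.polyGrading n R) (fXn n R)) ?_ (fun i => ?_)
  · exact top_le_iff.mp fun x _ => Opens.mem_iSup.mpr (fXn_cov n R x)
  · rw [hF i, zeroScheme_ideal_Dp_gen (CohB1.polyGrading n R) (fXn n R) hcov s' F hs'v i]

/-- **`Pic` of projective space over a UFD**: every invertible module is a twist. -/
theorem exists_iso_twist {L : (Proj (CohB1.polyGrading n R)).Modules}
    (hL : PicF.IsInvertible L) :
    ∃ d : ℤ, Nonempty (L ≅ Twist.twist (CohB1.polyGrading n R) d) := by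
  have hcov := projSpace_degree_one_cover n R
  obtain ⟨hinv, htens, hpow⟩ :=
    twist_invertible_and_tensor (iSup_basicOpen_eq_top_of_forall hcov)
  have hA : CohB1.IsAmple (Twist.twist (CohB1.polyGrading n R) 1) :=
    isAmple_twist_one_of_cover hcov
  haveI := isQuasicoherent_of_isInvertible hL
  haveI := isFiniteType_of_isInvertible hL
  obtain ⟨m, hm⟩ := exists_isGloballyGenerated_twist hA L
  have hgg := hm m le_rfl
  have hB : PicF.IsInvertible
      (CohB1.tensorMod L (CohB1.tensorPow (Twist.twist (CohB1.polyGrading n R) 1) m)) :=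
    isInvertible_tensorMod hL (isInvertible_tensorPow (hinv 1) m)
  obtain ⟨x⟩ : Nonempty (Proj (CohB1.polyGrading n R)) := inferInstance
  obtain ⟨σ, hσ⟩ := exists_mem_genLocus_of_isGloballyGenerated hB hgg x
  have hσ0 : σ ≠ 0 := ne_zero_of_mem_genLocus hB σ x hσ
  obtain ⟨d, ⟨φ⟩⟩ := exists_iso_twist_of_section hB σ hσ0
  obtain ⟨ψ⟩ := hpow m
  obtain ⟨τ⟩ := htens (m : ℤ) (-(m : ℤ))
  obtain ⟨τ'⟩ := htens (d : ℤ) (-(m : ℤ))
  obtain ⟨ψ0⟩ := hpow 0
  have e0 : Twist.twist (CohB1.polyGrading n R) ((m : ℤ) + -(m : ℤ)) ≅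
      unitM (Proj (CohB1.polyGrading n R)) :=
    eqToIso (by rw [add_neg_cancel]; rfl) ≪≫ ψ0
  refine ⟨(d : ℤ) + -(m : ℤ), ⟨?_⟩⟩
  exact (tensorUnitR L).symm ≪≫ tensorCongr (Iso.refl L) (e0.symm ≪≫ τ.symm) ≪≫
    (tensorAssoc L _ _).symm ≪≫
    tensorCongr (tensorCongr (Iso.refl L) ψ ≪≫ φ) (Iso.refl _) ≪≫ τ'

end Pn

end Groth.Agent.Lib.Helper29.Pic
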