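import Groth.Agent.Lib.Helper29.Segre6
universe u
open CategoryTheory CategoryTheory.Limits AlgebraicGeometry Opposite TopologicalSpace

/-! # Local sections as morphisms on open subschemes, and their loci -/

namespace Groth.Agent.Lib.Helper29.QCoh

section LocHom
variable {X : Scheme.{u}}

/-- A section of `M` over `U`, as a morphism `O_U ⟶ M|_U` on the open subscheme. -/
noncomputable def locHom (M : X.Modules) (U : X.Opens) (m : Γ(M, U)) :
    unitM U.toScheme ⟶ M.restrict U.ι :=
  homOfSection (M.restrict U.ι) (QCoh.res M U.ι_image_top.le m)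

theorem sval_locHom (M : X.Modules) (U : X.Opens) (m : Γ(M, U)) (W' : U.toScheme.Opens) :
    sval (locHom M U m) W' = QCoh.res M (U.ι_image_le W') m := by
  unfold locHom
  rw [sval_homOfSection]
  exact res_res M _ _ m

/-- The locus of `m ⊗ e'`, for `e'` trivialising, is the locus of `m`. -/
theorem genLocus_locHom_tmulSec {M N' : X.Modules} (hM : PicF.IsInvertible M)
    (hN' : PicF.IsInvertible N') (U : X.Opens) (m : Γ(M, U)) {e' : Γ(N', U)}
    (he' : IsTriv N' U e') :
    CohB1.genLocus _ (locHom (CohB1.tensorMod M N') U (tmulSec M N' m e')) =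
      CohB1.genLocus _ (locHom M U m) := by
  have hqM := isQuasicoherent_of_isInvertible hM
  have hqN := isQuasicoherent_of_isInvertible hN'
  ext y
  obtain ⟨V', ε', hyV', hε'⟩ := exists_isTriv (isInvertible_restrict U.ι hM) y
  have hε : IsTriv M (U.ι ''ᵁ V') ε' := hε'.of_restrict U.ι
  obtain ⟨a, ha⟩ := hε.exists_eq_smul (QCoh.res M (U.ι_image_le V') m)
  have hE : IsTriv (CohB1.tensorMod M N') (U.ι ''ᵁ V')
      (tmulSec M N' ε' (QCoh.res N' (U.ι_image_le V') e')) :=
    hε.tensor (he'.restrict (U.ι_image_le V'))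
  have hE' : IsTriv ((CohB1.tensorMod M N').restrict U.ι) V'
      (tmulSec M N' ε' (QCoh.res N' (U.ι_image_le V') e')) := hE.to_restrict U.ι
  have hb : (U.ι.appIso V').inv.hom ((U.ι.appIso V').hom.hom a) = a :=
    congrArg (fun k => k.hom a) (U.ι.appIso V').hom_inv_id
  have h1 : sval (locHom M U m) V' =
      HSMul.hSMul (α := Γ(U.toScheme, V')) (β := Γ(M.restrict U.ι, V'))
        ((U.ι.appIso V').hom.hom a) ε' := by
    rw [sval_locHom, ha, restrict_smul]
    exact congrArg (fun c => c • (show Γ(M, U.ι ''ᵁ V') from ε')) hb.symm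
  have h2 : sval (locHom (CohB1.tensorMod M N') U (tmulSec M N' m e')) V' =
      HSMul.hSMul (α := Γ(U.toScheme, V')) (β := Γ((CohB1.tensorMod M N').restrict U.ι, V'))
        ((U.ι.appIso V').hom.hom a) (tmulSec M N' ε' (QCoh.res N' (U.ι_image_le V') e')) := by
    rw [sval_locHom, res_tmulSec, ha, tmulSec_smul_left, restrict_smul]
    exact congrArg (fun c => c • (show Γ(CohB1.tensorMod M N', U.ι ''ᵁ V') from
      tmulSec M N' ε' (QCoh.res N' (U.ι_image_le V') e'))) hb.symm
  simp only [SetLike.mem_coe]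
  rw [mem_genLocus_iff_of_isTriv _ hε' _ h1 y hyV', mem_genLocus_iff_of_isTriv _ hE' _ h2 y hyV']

theorem restrictHom_eq_locHom {M : X.Modules} (U : X.Opens) (σ : unitM X ⟶ M) :
    restrictHom U.ι σ = locHom M U (sval σ U) := by
  apply hom_ext_of_sval
  rw [sval_restrictHom_top, sval_locHom]
  exact (res_sval σ (U.ι_image_le ⊤)).symm

theorem locHom_sval {M : X.Modules} (U : X.Opens) (s : unitM U.toScheme ⟶ M.restrict U.ι) :
    locHom M U (QCoh.res M U.ι_image_top.ge (sval s ⊤)) = s := by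
  apply hom_ext_of_sval
  rw [sval_locHom, res_res]
  exact res_self M _

/-- **Local sections give global sections after twisting.**  For `t` a global section of an
invertible `N₁` with non-vanishing locus `U`, and `s` a section of `F` over the open subscheme
`U`, the twists of `s` by large powers of `t` extend to global sections whose non-vanishing
locus is that of `s`. -/
theorem exists_global_section_of_local [CompactSpace X] [QuasiSeparatedSpace X]
    {F N₁ : X.Modules} (hF : PicF.IsInvertible F) (hN₁ : PicF.IsInvertible N₁)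
    (t : unitM X ⟶ N₁)
    (s : unitM (CohB1.genLocus N₁ t).toScheme ⟶ F.restrict (CohB1.genLocus N₁ t).ι) :
    ∃ N₀ : ℕ, ∀ N, N₀ ≤ N → ∃ σ' : unitM X ⟶ CohB1.tensorMod F (CohB1.tensorPow N₁ (N + 1)),
      CohB1.genLocus _ σ' = (CohB1.genLocus N₁ t).ι ''ᵁ CohB1.genLocus _ s := by
  have hqF := isQuasicoherent_of_isInvertible hF
  obtain ⟨m, hm⟩ : ∃ m : Γ(F, CohB1.genLocus N₁ t),
      m = QCoh.res F (CohB1.genLocus N₁ t).ι_image_top.ge (sval s ⊤) := ⟨_, rfl⟩
  obtain ⟨N₀, hN₀⟩ := exists_extension_tmulSec_pow_of_le hN₁ t F m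
  refine ⟨N₀, fun N hN => ?_⟩
  obtain ⟨t', ht'⟩ := hN₀ N hN
  have hNN := isInvertible_tensorPow hN₁ N
  have hFN := isInvertible_tensorMod hF hNN
  obtain ⟨σ, hσ⟩ : ∃ σ, σ = homOfSection (CohB1.tensorMod F (CohB1.tensorPow N₁ N)) t' := ⟨_, rfl⟩
  have he : IsTriv (CohB1.tensorPow N₁ N) (CohB1.genLocus N₁ t)
      (epow N₁ (sval t (CohB1.genLocus N₁ t)) N) := by
    have := isQuasicoherent_of_isInvertible hN₁
    exact (isTriv_sval_of_le_genLocus t (le_refl _)).epow N
  have h1 : (CohB1.genLocus N₁ t).ι ⁻¹ᵁ CohB1.genLocus _ σ = CohB1.genLocus _ s := by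
    rw [← genLocus_restrictHom (CohB1.genLocus N₁ t).ι hFN σ, restrictHom_eq_locHom, hσ,
      sval_homOfSection, ht', genLocus_locHom_tmulSec hF hNN _ m he, hm, locHom_sval]
  obtain ⟨σ', hσ'⟩ := exists_section_of_iso
    (tensorAssoc F (CohB1.tensorPow N₁ N) N₁) (SecTwist.tmulHom σ t)
  refine ⟨σ', hσ'.trans ?_⟩
  rw [genLocus_tmulHom hFN hN₁, ← h1, Scheme.Hom.image_preimage_eq_opensRange_inf,
    Scheme.Opens.opensRange_ι, inf_comm]

end LocHom

end Groth.Agent.Lib.Helper29.QCoh
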