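import Groth.Agent.Lib.Helper29.AB1
universe u
open CategoryTheory CategoryTheory.Limits AlgebraicGeometry Opposite TopologicalSpace

/-! # Ampleness after twisting by sections whose loci cover -/

namespace Groth.Agent.Lib.Helper29.QCoh

section GPrime
variable {X : Scheme.{u}}

theorem exists_section_tensorPow_cast (F N₁ : X.Modules) {a b : ℕ} (h : a = b)
    (σ : unitM X ⟶ CohB1.tensorMod F (CohB1.tensorPow N₁ a)) :
    ∃ σ' : unitM X ⟶ CohB1.tensorMod F (CohB1.tensorPow N₁ b),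
      CohB1.genLocus _ σ' = CohB1.genLocus _ σ := by
  subst h; exact ⟨σ, rfl⟩

theorem quasiSeparatedSpace_of_genLocus_cover {N₁ : X.Modules} (hN₁ : PicF.IsInvertible N₁)
    {ι : Type*} (t : ι → (unitM X ⟶ N₁))
    (hcov : ∀ x : X, ∃ i, x ∈ CohB1.genLocus N₁ (t i))
    (hsep : ∀ i, QuasiSeparatedSpace (CohB1.genLocus N₁ (t i)).toScheme) :
    QuasiSeparatedSpace X := by
  refine QuasiSeparatedSpace.of_isOpenCover (U := fun i => CohB1.genLocus N₁ (t i)) ?_
    (fun i => ?_) (fun i => ?_)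
  · rw [IsOpenCover, eq_top_iff]
    intro x _
    obtain ⟨i, hi⟩ := hcov x
    exact Opens.mem_iSup.mpr ⟨i, hi⟩
  · have := isAffineHom_genLocus_ι hN₁ (t i)
    exact IsRetrocompact_iff_isSpectralMap_subtypeVal.mpr (CohB1.genLocus N₁ (t i)).ι.isSpectralMap
  · exact (isQuasiSeparated_iff_quasiSeparatedSpace _ (CohB1.genLocus N₁ (t i)).2).mpr (hsep i)

/-- **Ampleness after twisting.**  If the non-vanishing loci of sections `t i` of an invertible
module `N₁` cover the quasi-compact scheme `X` and `A` is ample on each of them, then `A ⊗ N₁^c`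
is ample for all large `c`. -/
theorem exists_isAmple_tensor_pow_of_genLocus_cover [CompactSpace X] {A N₁ : X.Modules}
    (hA : PicF.IsInvertible A) (hN₁ : PicF.IsInvertible N₁) {ι : Type*}
    (t : ι → (unitM X ⟶ N₁)) (hcov : ∀ x : X, ∃ i, x ∈ CohB1.genLocus N₁ (t i))
    (hamp : ∀ i, CohB1.IsAmple (A.restrict (CohB1.genLocus N₁ (t i)).ι)) :
    ∃ c₀ : ℕ, ∀ c, c₀ ≤ c → CohB1.IsAmple (CohB1.tensorMod A (CohB1.tensorPow N₁ c)) := by
  classical
  have hqs : QuasiSeparatedSpace X := quasiSeparatedSpace_of_genLocus_cover hN₁ t hcov fun i => by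
    have hs : (CohB1.genLocus N₁ (t i)).toScheme.IsSeparated := isSeparated_of_isAmple (hamp i)
    infer_instance
  -- local data at each point
  have key : ∀ x : X, ∃ (n : ℕ) (O : X.Opens) (N₀ : ℕ), x ∈ O ∧ IsAffineOpen O ∧
      ∀ N, N₀ ≤ N → ∃ σ' : unitM X ⟶
        CohB1.tensorMod (CohB1.tensorPow A (n + 1)) (CohB1.tensorPow N₁ (N + 1)),
        CohB1.genLocus _ σ' = O := by
    intro x
    obtain ⟨i, hxi⟩ := hcov x
    obtain ⟨n, s', hxs', haff⟩ := (hamp i).2.2 ⟨x, hxi⟩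
    obtain ⟨θ⟩ := nonempty_restrictTensorPowIso (CohB1.genLocus N₁ (t i)).ι hA (n + 1)
    have hs'' : CohB1.genLocus _ (s' ≫ θ.inv) = CohB1.genLocus _ s' := genLocus_comp_iso s' θ.symm
    obtain ⟨N₀, hN₀⟩ := exists_global_section_of_local (isInvertible_tensorPow hA (n + 1)) hN₁
      (t i) (s' ≫ θ.inv)
    refine ⟨n, (CohB1.genLocus N₁ (t i)).ι ''ᵁ CohB1.genLocus _ s', N₀, ⟨⟨x, hxi⟩, hxs', rfl⟩,
      haff.image_of_isOpenImmersion _, fun N hN => ?_⟩
    obtain ⟨σ', hσ'⟩ := hN₀ N hN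
    exact ⟨σ', by rw [hσ', hs'']⟩
  choose n O N₀ hxO hOaff hσ using key
  obtain ⟨T, hT⟩ := isCompact_univ.elim_finite_subcover (fun x : X => ((O x : X.Opens) : Set X))
    (fun x => (O x).isOpen) (fun x _ => Set.mem_iUnion.mpr ⟨x, hxO x⟩)
  refine ⟨T.sup N₀ + 1, fun c hc => ?_⟩
  refine ⟨isInvertible_tensorMod hA (isInvertible_tensorPow hN₁ c), inferInstance, fun y => ?_⟩
  obtain ⟨x, hxT, hyx⟩ : ∃ x ∈ T, y ∈ O x := by
    have := hT (Set.mem_univ y)
    simp only [Set.mem_iUnion, exists_prop] at this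
    exact this
  have hNx : N₀ x ≤ c * (n x + 1) - 1 := by
    have h1 : N₀ x ≤ T.sup N₀ := Finset.le_sup hxT
    have h2 : c ≤ c * (n x + 1) := Nat.le_mul_of_pos_right c (Nat.succ_pos _)
    omega
  obtain ⟨σ', hσ'⟩ := hσ x (c * (n x + 1) - 1) hNx
  have hcast : c * (n x + 1) - 1 + 1 = c * (n x + 1) := by
    have h2 : c ≤ c * (n x + 1) := Nat.le_mul_of_pos_right c (Nat.succ_pos _)
    omega
  obtain ⟨σ₁, hσ₁⟩ := exists_section_tensorPow_cast _ N₁ hcast σ'
  obtain ⟨σ₂, hσ₂⟩ := exists_section_of_iso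
    (tensorCongr (Iso.refl (CohB1.tensorPow A (n x + 1))) (tensorPowMul N₁ c (n x + 1)).symm ≪≫
      (tensorPowTensor A (CohB1.tensorPow N₁ c) (n x + 1)).symm) σ₁
  refine ⟨n x, σ₂, ?_, ?_⟩
  · rw [hσ₂, hσ₁, hσ']; exact hyx
  · rw [hσ₂, hσ₁, hσ']; exact hOaff x

end GPrime

end Groth.Agent.Lib.Helper29.QCoh
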