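import Groth.Agent.Lib.Helper29.AB2
universe u
open CategoryTheory CategoryTheory.Limits AlgebraicGeometry Opposite TopologicalSpace

/-! # `L ⊗ f^* K^n` is ample for `L` relatively ample and `K` ample -/

namespace Groth.Agent.Lib.Helper29.QCoh

section AB
variable {X Y : Scheme.{u}}

/-- A common power carrying sections with the same loci, for a finite family. -/
theorem exists_uniform_power {K : Y.Modules} (hK : PicF.IsInvertible K) (T : Finset Y)
    (n : Y → ℕ) (s : ∀ y : Y, unitM Y ⟶ CohB1.tensorPow K (n y + 1)) :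
    ∃ (D : ℕ) (_ : 0 < D) (u : Y → (unitM Y ⟶ CohB1.tensorPow K D)),
      ∀ y ∈ T, CohB1.genLocus _ (u y) = CohB1.genLocus _ (s y) := by
  classical
  refine ⟨∏ y ∈ T, (n y + 1), Finset.prod_pos fun y _ => Nat.succ_pos _, ?_⟩
  have key : ∀ y : Y, ∃ u : unitM Y ⟶ CohB1.tensorPow K (∏ y ∈ T, (n y + 1)),
      y ∈ T → CohB1.genLocus _ u = CohB1.genLocus _ (s y) := by
    intro y
    by_cases hy : y ∈ T
    · obtain ⟨b, hb⟩ := Finset.dvd_prod_of_mem (fun y => n y + 1) hy
      have hbpos : 0 < b := by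
        rcases Nat.eq_zero_or_pos b with h0 | h0
        · rw [h0, mul_zero] at hb
          exact absurd hb (Finset.prod_pos fun y _ => Nat.succ_pos _).ne'
        · exact h0
      obtain ⟨u, hu⟩ := exists_pow_section hK (s y) b _ hbpos hb.symm
      exact ⟨u, fun _ => hu⟩
    · exact ⟨0, fun h => absurd h hy⟩
  choose u hu using key
  exact ⟨u, hu⟩

/-- **EGA II 4.6.13 (ii), affine-base form.** -/
theorem exists_isAmple_tensor_pullback_pow (f : X ⟶ Y) [QuasiCompact f] {L : X.Modules}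
    {K : Y.Modules} (hL : RelAmple.IsRelAmple f L) (hK : CohB1.IsAmple K) :
    ∃ n₀ : ℕ, 0 < n₀ ∧ ∀ n, n₀ ≤ n →
      CohB1.IsAmple (CohB1.tensorMod L ((Scheme.Modules.pullback f).obj (CohB1.tensorPow K n))) := by
  classical
  have hcY : CompactSpace Y := hK.2.1
  have hcX : CompactSpace X := QuasiCompact.compactSpace_of_compactSpace f
  have hLinv := isInvertible_of_isRelAmple f hL
  choose n s hys haff using hK.2.2
  obtain ⟨T, hT⟩ := isCompact_univ.elim_finite_subcover
    (fun y : Y => ((CohB1.genLocus _ (s y) : Y.Opens) : Set Y))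
    (fun y => (CohB1.genLocus _ (s y)).isOpen) (fun y _ => Set.mem_iUnion.mpr ⟨y, hys y⟩)
  obtain ⟨D, hD, u, hu⟩ := exists_uniform_power hK.1 T n s
  have hKD := isInvertible_tensorPow hK.1 D
  have hN₁ := isInvertible_pullback f hKD
  -- sections of `N₁ = f^* K^D` on `X`
  have hloc : ∀ y : ↥T, CohB1.genLocus _ (pullHom f (u y.1)) = f ⁻¹ᵁ CohB1.genLocus _ (s y.1) := by
    intro y
    rw [genLocus_pullHom f hKD, hu y.1 y.2]
  obtain ⟨c₀, hc₀⟩ := exists_isAmple_tensor_pow_of_genLocus_cover hLinv hN₁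
    (fun y : ↥T => pullHom f (u y.1))
    (fun x => by
      have := hT (Set.mem_univ (f x))
      simp only [Set.mem_iUnion, exists_prop] at this
      obtain ⟨y, hyT, hxy⟩ := this
      refine ⟨⟨y, hyT⟩, ?_⟩
      rw [hloc]
      exact hxy)
    (fun y => by
      rw [hloc]
      exact hL.2 ⟨CohB1.genLocus _ (s y.1), haff y.1⟩)
  -- rewrite `(f^* K^D)^c` as `f^* K^(D c)`
  have h1 : ∀ c, c₀ ≤ c → CohB1.IsAmple
      (CohB1.tensorMod L ((Scheme.Modules.pullback f).obj (CohB1.tensorPow K (D * c)))) := by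
    intro c hc
    obtain ⟨θ⟩ := nonempty_pullbackTensorPowIso f hKD c
    refine isAmple_of_iso (tensorCongr (Iso.refl L) ?_) (hc₀ c hc)
    exact θ.symm ≪≫ (Scheme.Modules.pullback f).mapIso (tensorPowMul K D c)
  -- global generation of high powers of `K`
  obtain ⟨k₀, -, hk₀⟩ := exists_isAmple_isGloballyGenerated_twist hK (isInvertible_unit Y)
  refine ⟨D * c₀ + k₀ + 1, Nat.succ_pos _, fun n hn => ?_⟩
  obtain ⟨k, hk, rfl⟩ : ∃ k, k₀ ≤ k ∧ n = D * c₀ + k := ⟨n - D * c₀, by omega, by omega⟩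
  have hKk := isInvertible_tensorPow hK.1 k
  have hgg : Curv2.IsGloballyGenerated (CohB1.tensorPow K k) :=
    isGloballyGenerated_of_iso (tensorUnitR _) (hk₀ k hk).2
  have hB := isInvertible_pullback f hKk
  have h2 : CohB1.IsAmple (CohB1.tensorMod
      (CohB1.tensorMod L ((Scheme.Modules.pullback f).obj (CohB1.tensorPow K (D * c₀))))
      ((Scheme.Modules.pullback f).obj (CohB1.tensorPow K k))) := by
    refine isAmple_tensorMod_of_covering (h1 c₀ le_rfl) hB fun x => ?_
    obtain ⟨σ, hσ⟩ := exists_mem_genLocus_of_isGloballyGenerated hKk hgg (f x)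
    refine ⟨0, pullHom f σ ≫ (tensorPowOne _).inv, ?_⟩
    have := genLocus_comp_iso (pullHom f σ) (tensorPowOne ((Scheme.Modules.pullback f).obj
      (CohB1.tensorPow K k))).symm
    rw [Iso.symm_hom] at this
    rw [this, genLocus_pullHom f hKk]
    exact hσ
  obtain ⟨φ, -⟩ := exists_pullbackTensorIso f (isInvertible_tensorPow hK.1 (D * c₀)) hKk
  refine isAmple_of_iso ?_ h2
  exact tensorAssoc _ _ _ ≪≫ tensorCongr (Iso.refl L)
    (φ.symm ≪≫ (Scheme.Modules.pullback f).mapIso (tensorPowAdd K (D * c₀) k))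

end AB

end Groth.Agent.Lib.Helper29.QCoh
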