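import Groth.Agent.Lib.Helper29.AB3
universe u
open CategoryTheory CategoryTheory.Limits AlgebraicGeometry Opposite TopologicalSpace

/-! # EGA II 4.6.13 (ii): `L ⊗ f^* K^n` is `(g ∘ f)`-ample -/

namespace Groth.Agent.Lib.Helper29.QCoh

section Comp
variable {X Y Z : Scheme.{u}}

theorem isRelAmple_morphismRestrict (f : X ⟶ Y) [QuasiCompact f] {L : X.Modules}
    (h : RelAmple.IsRelAmple f L) (V : Y.Opens) :
    RelAmple.IsRelAmple (f ∣_ V) (L.restrict (f ⁻¹ᵁ V).ι) := by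
  refine ⟨inferInstance, fun W => ?_⟩
  rw [isAmple_restrict_restrict_ι_iff, image_morphismRestrict_preimage]
  exact h.2 ⟨V.ι ''ᵁ W.1, W.2.image_of_isOpenImmersion _⟩

/-- The local statement over an affine open `W` of `Z`. -/
theorem exists_isAmple_restrict_tensor_pullback_pow (f : X ⟶ Y) (g : Y ⟶ Z)
    [QuasiCompact f] [QuasiCompact g] {L : X.Modules} {K : Y.Modules}
    (hL : RelAmple.IsRelAmple f L) (hK : RelAmple.IsRelAmple g K) (W : Z.affineOpens) :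
    ∃ n₀ : ℕ, ∀ n, n₀ ≤ n → CohB1.IsAmple
      ((CohB1.tensorMod L ((Scheme.Modules.pullback f).obj (CohB1.tensorPow K n))).restrict
        ((f ≫ g) ⁻¹ᵁ W.1).ι) := by
  have hLinv := isInvertible_of_isRelAmple f hL
  have hKinv := isInvertible_of_isRelAmple g hK
  have hKW : CohB1.IsAmple (K.restrict (g ⁻¹ᵁ W.1).ι) := hK.2 W
  have hLW := isRelAmple_morphismRestrict f hL (g ⁻¹ᵁ W.1)
  obtain ⟨n₀, -, hn₀⟩ := exists_isAmple_tensor_pullback_pow (f ∣_ (g ⁻¹ᵁ W.1)) hLW hKW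
  refine ⟨n₀, fun n hn => ?_⟩
  have hKn := isInvertible_tensorPow hKinv n
  obtain ⟨θ₁⟩ := nonempty_restrictTensorIso (f ⁻¹ᵁ (g ⁻¹ᵁ W.1)).ι hLinv
    (isInvertible_pullback f hKn)
  obtain ⟨θ₂⟩ := nonempty_restrictTensorPowIso (g ⁻¹ᵁ W.1).ι hKinv n
  refine isAmple_of_iso ?_ (hn₀ n hn)
  refine (θ₁ ≪≫ tensorCongr (Iso.refl _) ?_).symm
  exact restrictPullbackIso f (g ⁻¹ᵁ W.1) (CohB1.tensorPow K n) ≪≫
    (Scheme.Modules.pullback (f ∣_ (g ⁻¹ᵁ W.1))).mapIso θ₂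

/-- **EGA II 4.6.13 (ii).** -/
theorem exists_isRelAmple_comp_tensor_pullback_pow [CompactSpace Z] (f : X ⟶ Y) (g : Y ⟶ Z)
    [QuasiCompact f] [QuasiCompact g] (L : X.Modules) (K : Y.Modules)
    (hL : RelAmple.IsRelAmple f L) (hK : RelAmple.IsRelAmple g K) :
    ∃ n₀ : ℕ, 0 < n₀ ∧ ∀ n, n₀ ≤ n →
      RelAmple.IsRelAmple (f ≫ g)
        (CohB1.tensorMod L ((Scheme.Modules.pullback f).obj (CohB1.tensorPow K n))) := by
  classical
  have key : ∀ z : Z, ∃ W : Z.affineOpens, z ∈ W.1 := by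
    intro z
    obtain ⟨W, hW, hzW, -⟩ := exists_isAffineOpen_mem_and_subset (x := z) (U := ⊤) trivial
    exact ⟨⟨W, hW⟩, hzW⟩
  choose W hzW using key
  obtain ⟨T, hT⟩ := isCompact_univ.elim_finite_subcover (fun z : Z => (((W z).1 : Z.Opens) : Set Z))
    (fun z => (W z).1.isOpen) (fun z _ => Set.mem_iUnion.mpr ⟨z, hzW z⟩)
  choose n₀ hn₀ using fun z : Z => exists_isAmple_restrict_tensor_pullback_pow f g hL hK (W z)
  refine ⟨T.sup n₀ + 1, Nat.succ_pos _, fun n hn => ?_⟩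
  have hcov : ⨆ z : ↥T, (W z.1).1 = ⊤ := by
    rw [eq_top_iff]
    intro z _
    have := hT (Set.mem_univ z)
    simp only [Set.mem_iUnion, exists_prop] at this
    obtain ⟨z', hz'T, hz⟩ := this
    exact Opens.mem_iSup.mpr ⟨⟨z', hz'T⟩, hz⟩
  rw [isRelAmple_iff_of_openCover (f ≫ g) _ (fun z : ↥T => (W z.1).1) hcov]
  intro z
  apply isRelAmple_of_isAmple
  apply hn₀ z.1 n
  have : n₀ z.1 ≤ T.sup n₀ := Finset.le_sup z.2
  omega

end Comp

end Groth.Agent.Lib.Helper29.QCoh
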