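import Groth.Prelude.Def_Magnet2

/-! Open-immersion cartesian square for equivariant maps out of a monoid with zero (S18958,
helper29). -/

set_option autoImplicit false
universe u
open CategoryTheory MonoidalCategory CartesianMonoidalCategory MonObj AlgebraicGeometry Opposite
open Magnet

namespace Groth.Agent.Lib.Helper29.OpenAttr

set_option backward.isDefEq.respectTransparency.types false in
set_option maxHeartbeats 1000000 in
/-- the square `A ⊗ B → A ⊗ B'`, `B → B'` is a pullback of schemes. -/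
theorem isPullback_whiskerLeft {S₀ : Scheme.{u}} (A : Over S₀) {B B' : Over S₀} (f : B ⟶ B') :
    IsPullback (A ◁ f).left (CartesianMonoidalCategory.snd A B).left
      (CartesianMonoidalCategory.snd A B').left f.left := by
  have hR : IsPullback (CartesianMonoidalCategory.snd A B').left
      (CartesianMonoidalCategory.fst A B').left B'.hom A.hom :=
    (IsPullback.of_hasPullback A.hom B'.hom).flip
  have hO : IsPullback (CartesianMonoidalCategory.snd A B).left
      (CartesianMonoidalCategory.fst A B).left B.hom A.hom :=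
    (IsPullback.of_hasPullback A.hom B.hom).flip
  have e1 : (A ◁ f).left ≫ (CartesianMonoidalCategory.fst A B').left =
      (CartesianMonoidalCategory.fst A B).left := by
    rw [← Over.comp_left]
    congr 1
    simp
  have e2 : (A ◁ f).left ≫ (CartesianMonoidalCategory.snd A B').left =
      (CartesianMonoidalCategory.snd A B).left ≫ f.left := by
    rw [← Over.comp_left, ← Over.comp_left]
    congr 1
    simp
  have hO' : IsPullback (CartesianMonoidalCategory.snd A B).left
      ((A ◁ f).left ≫ (CartesianMonoidalCategory.fst A B').left) (f.left ≫ B'.hom) A.hom := by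
    rw [e1, Over.w f]
    exact hO
  exact (IsPullback.of_bot hO' e2.symm hR).flip

/-- points of a pullback square of schemes. -/
theorem exists_point_of_isPullback {P X Y S : Scheme.{u}} {fst : P ⟶ X} {snd : P ⟶ Y}
    {f : X ⟶ S} {g : Y ⟶ S} (H : IsPullback fst snd f g) (x : X) (y : Y) (h : f x = g y) :
    ∃ z : P, fst z = x ∧ snd z = y := by
  obtain ⟨z₀, h1, h2⟩ := Scheme.Pullback.exists_preimage_pullback x y h
  refine ⟨H.isoPullback.inv z₀, ?_, ?_⟩
  · rw [← Scheme.Hom.comp_apply, H.isoPullback_inv_fst, h1]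
  · rw [← Scheme.Hom.comp_apply, H.isoPullback_inv_snd, h2]

set_option backward.isDefEq.respectTransparency.types false in
set_option maxHeartbeats 1000000 in
/-- the open `U ⊆ X` is stable under the action. -/
theorem act_mem_range {S₀ : Scheme.{u}} {G X U : Over S₀} [GrpObj G]
    (aX : AlgGrp.Action G X) (aU : AlgGrp.Action G U) (j : U ⟶ X)
    (hj : aU.act ≫ j = (G ◁ j) ≫ aX.act) (q : (G ⊗ X).left)
    (hq : (CartesianMonoidalCategory.snd G X).left q ∈ Set.range j.left) :
    aX.act.left q ∈ Set.range j.left := by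
  obtain ⟨u, hu⟩ := hq
  obtain ⟨q', hq1, -⟩ := exists_point_of_isPullback (isPullback_whiskerLeft G j) q u hu.symm
  refine ⟨aU.act.left q', ?_⟩
  rw [← Scheme.Hom.comp_apply, ← Over.comp_left, hj, Over.comp_left, Scheme.Hom.comp_apply, hq1]


theorem mono_of_openImmersion {S₀ : Scheme.{u}} {Z X : Over S₀} (j : Z ⟶ X)
    [IsOpenImmersion j.left] : Mono j := by
  haveI : Mono j.left := inferInstance
  exact Over.mono_of_mono_left _

set_option backward.isDefEq.respectTransparency.types false in
set_option maxHeartbeats 2000000 in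
/-- Key: an equivariant `ψ : M ⊗ T ⟶ X` whose zero section lands in `U` lands in `U`. -/
theorem range_subset (k : Type u) [Field k]
    (M G X U : Over (Spec (CommRingCat.of k))) [MonObj M] [GrpObj G] (i : G ⟶ M) [IsMonHom i]
    (o : 𝟙_ (Over (Spec (CommRingCat.of k))) ⟶ M)
    (hM : ∀ (T : Over (Spec (CommRingCat.of k))) (K : Type u) [Field K] (eT : T.left ≅ Spec (CommRingCat.of K))
      (W : (M ⊗ T).left.Opens),
      (CartesianMonoidalCategory.snd G (M ⊗ T)).left ⁻¹ᵁ W ≤
          ((((Magnet.MonAct.regular M).restrict i).prod (Magnet.MonAct.trivial G T)).act).left ⁻¹ᵁ W →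
      (CartesianMonoidalCategory.lift (toUnit T ≫ o) (𝟙 T)).left ⁻¹ᵁ W = ⊤ → W = ⊤)
    (aX : AlgGrp.Action G X) (aU : AlgGrp.Action G U) (j : U ⟶ X) [IsOpenImmersion j.left]
    (hj : aU.act ≫ j = (G ◁ j) ≫ aX.act)
    (T : Over (Spec (CommRingCat.of k))) (ψ : M ⊗ T ⟶ X)
    (hψ : Magnet.MonAct.IsEquivariant
      (((Magnet.MonAct.regular M).restrict i).prod (Magnet.MonAct.trivial G T))
      (Magnet.MonAct.ofAction aX) ψ)
    (z : T ⟶ U) (hz : lift (toUnit T ≫ o) (𝟙 T) ≫ ψ = z ≫ j) :
    Set.range ψ.left ⊆ Set.range j.left := by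
  rintro _ ⟨w, rfl⟩
  set t : T.left := (CartesianMonoidalCategory.snd M T).left w with ht
  let TK : Over (Spec (CommRingCat.of k)) := Over.mk (T.left.fromSpecResidueField t ≫ T.hom)
  let τ : TK ⟶ T := Over.homMk (T.left.fromSpecResidueField t) rfl
  let ψK : M ⊗ TK ⟶ X := (M ◁ τ) ≫ ψ
  have hψK : Magnet.MonAct.IsEquivariant
      (((Magnet.MonAct.regular M).restrict i).prod (Magnet.MonAct.trivial G TK))
      (Magnet.MonAct.ofAction aX) ψK :=
    ((Magnet.MonAct.eqvHom ((Magnet.MonAct.regular M).restrict i) (Magnet.MonAct.ofAction aX)).map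
      τ.op ⟨ψ, hψ⟩).2
  let WK : (M ⊗ TK).left.Opens := ψK.left ⁻¹ᵁ j.left.opensRange
  have hWK : WK = ⊤ := by
    refine hM TK (T.left.residueField t) (Iso.refl _) WK ?_ ?_
    · intro p hp
      have hp' : ψK.left ((CartesianMonoidalCategory.snd G (M ⊗ TK)).left p) ∈ Set.range j.left := hp
      change ψK.left (((((Magnet.MonAct.regular M).restrict i).prod
        (Magnet.MonAct.trivial G TK)).act).left p) ∈ Set.range j.left
      have e : ((((Magnet.MonAct.regular M).restrict i).prod
          (Magnet.MonAct.trivial G TK)).act) ≫ ψK = (G ◁ ψK) ≫ aX.act := hψK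
      rw [← Scheme.Hom.comp_apply, ← Over.comp_left, e, Over.comp_left, Scheme.Hom.comp_apply]
      apply act_mem_range aX aU j hj
      rw [← Scheme.Hom.comp_apply, ← Over.comp_left, whiskerLeft_snd, Over.comp_left,
        Scheme.Hom.comp_apply]
      exact hp'
    · rw [eq_top_iff]
      rintro s -
      change ψK.left ((CartesianMonoidalCategory.lift (toUnit TK ≫ o) (𝟙 TK)).left s) ∈
        Set.range j.left
      have e : lift (toUnit TK ≫ o) (𝟙 TK) ≫ ψK = τ ≫ z ≫ j := by
        change lift (toUnit TK ≫ o) (𝟙 TK) ≫ (M ◁ τ) ≫ ψ = _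
        rw [lift_whiskerLeft_assoc, Category.id_comp, ← hz, ← Category.assoc, comp_lift,
          Category.comp_id, ← Category.assoc, toUnit_unique (τ ≫ toUnit T) (toUnit TK)]
      rw [← Scheme.Hom.comp_apply, ← Over.comp_left, e, Over.comp_left, Over.comp_left,
        Scheme.Hom.comp_apply, Scheme.Hom.comp_apply]
      exact ⟨_, rfl⟩
  -- lift `w` to the fibre
  obtain ⟨s₀⟩ : Nonempty (Spec (T.left.residueField t)) := inferInstance
  have hs₀ : τ.left s₀ = t := Scheme.fromSpecResidueField_apply t s₀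
  obtain ⟨w', hw1, -⟩ := exists_point_of_isPullback (isPullback_whiskerLeft M τ) w s₀ hs₀.symm
  have hmem : w' ∈ WK := by rw [hWK]; trivial
  have hmem' : ψK.left w' ∈ Set.range j.left := hmem
  change ((M ◁ τ) ≫ ψ).left w' ∈ Set.range j.left at hmem'
  rw [Over.comp_left, Scheme.Hom.comp_apply, hw1] at hmem'
  exact hmem'


set_option backward.isDefEq.respectTransparency.types false in
set_option maxHeartbeats 2000000 in
/-- The cartesian square of S18958. -/
theorem isPullback_eqvHom (k : Type u) [Field k]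
    (M G X U : Over (Spec (CommRingCat.of k))) [MonObj M] [GrpObj G] (i : G ⟶ M) [IsMonHom i]
    (o : 𝟙_ (Over (Spec (CommRingCat.of k))) ⟶ M)
    (hM : ∀ (T : Over (Spec (CommRingCat.of k))) (K : Type u) [Field K] (eT : T.left ≅ Spec (CommRingCat.of K))
      (W : (M ⊗ T).left.Opens),
      (CartesianMonoidalCategory.snd G (M ⊗ T)).left ⁻¹ᵁ W ≤
          ((((Magnet.MonAct.regular M).restrict i).prod (Magnet.MonAct.trivial G T)).act).left ⁻¹ᵁ W →
      (CartesianMonoidalCategory.lift (toUnit T ≫ o) (𝟙 T)).left ⁻¹ᵁ W = ⊤ → W = ⊤)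
    (aX : AlgGrp.Action G X) (aU : AlgGrp.Action G U) (j : U ⟶ X) [IsOpenImmersion j.left]
    (hj : Magnet.MonAct.IsEquivariant (Magnet.MonAct.ofAction aU) (Magnet.MonAct.ofAction aX) j) :
    IsPullback
      (Magnet.MonAct.eqvHom.postcomp ((Magnet.MonAct.regular M).restrict i) j hj)
      (Magnet.MonAct.eqvHom.evalAt ((Magnet.MonAct.regular M).restrict i) (Magnet.MonAct.ofAction aU) o)
      (Magnet.MonAct.eqvHom.evalAt ((Magnet.MonAct.regular M).restrict i) (Magnet.MonAct.ofAction aX) o)
      (yoneda.map j) := by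
  haveI : Mono j := mono_of_openImmersion j
  have hj' : aU.act ≫ j = (G ◁ j) ≫ aX.act := hj
  apply IsPullback.of_forall_isPullback_app
  intro T
  rw [Limits.Types.isPullback_iff]
  refine ⟨?_, ?_, ?_⟩
  · ext φ
    change lift (toUnit (unop T) ≫ o) (𝟙 (unop T)) ≫ (φ.1 ≫ j) =
      (lift (toUnit (unop T) ≫ o) (𝟙 (unop T)) ≫ φ.1) ≫ j
    rw [Category.assoc]
  · rintro φ₁ φ₂ ⟨h1, -⟩
    apply Subtype.ext
    have := congrArg Subtype.val h1
    simp only [Magnet.MonAct.eqvHom.postcomp_app_coe] at this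
    exact (cancel_mono j).mp this
  · intro ψ z hz
    have hz' : lift (toUnit (unop T) ≫ o) (𝟙 (unop T)) ≫ ψ.1 = z ≫ j := hz
    have hr := range_subset k M G X U i o hM aX aU j hj' (unop T) ψ.1 ψ.2 z hz'
    let cl : (M ⊗ unop T).left ⟶ U.left := IsOpenImmersion.lift j.left ψ.1.left hr
    have hcl : cl ≫ j.left = ψ.1.left := IsOpenImmersion.lift_fac _ _ _
    let φ₀ : M ⊗ unop T ⟶ U := Over.homMk cl (by
      rw [← Over.w j, ← Category.assoc, hcl, Over.w])
    have hφ₀ : φ₀ ≫ j = ψ.1 := Over.OverMorphism.ext hcl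
    have heq : Magnet.MonAct.IsEquivariant
        (((Magnet.MonAct.regular M).restrict i).prod (Magnet.MonAct.trivial G (unop T)))
        (Magnet.MonAct.ofAction aU) φ₀ := by
      have h := ψ.2
      unfold Magnet.MonAct.IsEquivariant at h ⊢
      rw [← cancel_mono j, Category.assoc, hφ₀, h, Category.assoc]
      change _ = (G ◁ φ₀) ≫ aU.act ≫ j
      rw [hj', ← Category.assoc, ← MonoidalCategory.whiskerLeft_comp, hφ₀]
      rfl
    refine ⟨⟨φ₀, heq⟩, ?_, ?_⟩
    · apply Subtype.ext
      exact hφ₀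
    · change lift (toUnit (unop T) ≫ o) (𝟙 (unop T)) ≫ φ₀ = z
      rw [← cancel_mono j, Category.assoc, hφ₀, hz']

end Groth.Agent.Lib.Helper29.OpenAttr
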