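import Groth.Prelude.Def_Magnet2

/-! Factoring through a closed immersion along a scheme-theoretically dominant quasi-compact open
part, over a field (helper29). -/

set_option autoImplicit false
universe u
open CategoryTheory MonoidalCategory CartesianMonoidalCategory MonObj AlgebraicGeometry Opposite
open Magnet

namespace Groth.Agent.Lib.Helper29.SchDomFactor

set_option backward.isDefEq.respectTransparency.types false in
set_option maxHeartbeats 1000000 in
/-- the square `G ⊗ Z → M ⊗ Z`, `G → M` is a pullback of schemes. -/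
theorem isPullback_whisker {S₀ : Scheme.{u}} (M G Z : Over S₀) (i : G ⟶ M) :
    IsPullback (CartesianMonoidalCategory.fst G Z).left (i ▷ Z).left i.left
      (CartesianMonoidalCategory.fst M Z).left := by
  have hR : IsPullback (CartesianMonoidalCategory.fst M Z).left
      (CartesianMonoidalCategory.snd M Z).left M.hom Z.hom :=
    IsPullback.of_hasPullback M.hom Z.hom
  have hO : IsPullback (CartesianMonoidalCategory.fst G Z).left
      (CartesianMonoidalCategory.snd G Z).left G.hom Z.hom :=
    IsPullback.of_hasPullback G.hom Z.hom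
  have e1 : (i ▷ Z).left ≫ (CartesianMonoidalCategory.snd M Z).left =
      (CartesianMonoidalCategory.snd G Z).left := by
    rw [← Over.comp_left]
    congr 1
    simp
  have e2 : (i ▷ Z).left ≫ (CartesianMonoidalCategory.fst M Z).left =
      (CartesianMonoidalCategory.fst G Z).left ≫ i.left := by
    rw [← Over.comp_left, ← Over.comp_left]
    congr 1
    simp
  have hO' : IsPullback (CartesianMonoidalCategory.fst G Z).left
      ((i ▷ Z).left ≫ (CartesianMonoidalCategory.snd M Z).left) (i.left ≫ M.hom) Z.hom := by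
    rw [e1, Over.w i]
    exact hO
  exact IsPullback.of_bot hO' e2.symm hR

set_option backward.isDefEq.respectTransparency.types false in
set_option maxHeartbeats 1000000 in
theorem dominant_whisker (k : Type u) [Field k]
    (M G T : Over (Spec (CommRingCat.of k))) (i : G ⟶ M) [QuasiCompact i.left]
    [IsSchemeTheoreticallyDominant i.left] :
    IsSchemeTheoreticallyDominant (i ▷ T).left := by
  haveI : Flat T.hom := inferInstance
  haveI : Flat (CartesianMonoidalCategory.fst M T).left := by
    have : (CartesianMonoidalCategory.fst M T).left = Limits.pullback.fst M.hom T.hom := rfl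
    rw [this]
    infer_instance
  exact IsSchemeTheoreticallyDominant.of_isPullback (isPullback_whisker M G T i)

set_option backward.isDefEq.respectTransparency.types false in
set_option maxHeartbeats 1000000 in
/-- If `ψ : M ⊗ T ⟶ X` restricted to the scheme-theoretically dense `G ⊗ T` factors through the
closed immersion `j : Z ⟶ X`, then so does `ψ`. -/
theorem factor_closed (k : Type u) [Field k]
    (M G X Z T : Over (Spec (CommRingCat.of k))) (i : G ⟶ M) [QuasiCompact i.left]
    [IsSchemeTheoreticallyDominant i.left] (j : Z ⟶ X) [IsClosedImmersion j.left]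
    (ψ : M ⊗ T ⟶ X) (β : G ⊗ T ⟶ Z) (h : (i ▷ T) ≫ ψ = β ≫ j) :
    ∃ φ : M ⊗ T ⟶ Z, φ ≫ j = ψ := by
  haveI := dominant_whisker k M G T i
  have hker : j.left.ker ≤ ψ.left.ker := by
    have h1 : j.left.ker ≤ (β.left ≫ j.left).ker := Scheme.Hom.le_ker_comp _ _
    have h2 : (β.left ≫ j.left).ker = ψ.left.ker := by
      have : β.left ≫ j.left = (i ▷ T).left ≫ ψ.left := by
        rw [← Over.comp_left, ← Over.comp_left, h]
      rw [this, Scheme.Hom.ker_comp, Scheme.Hom.ker_eq_bot (i ▷ T).left,
        Scheme.IdealSheafData.map_bot]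
    rw [h2] at h1
    exact h1
  let cl : (M ⊗ T).left ⟶ Z.left := IsClosedImmersion.lift j.left ψ.left hker
  have hcl : cl ≫ j.left = ψ.left := IsClosedImmersion.lift_fac _ _ _
  exact ⟨Over.homMk cl (by rw [← Over.w j, ← Category.assoc, hcl, Over.w]),
    Over.OverMorphism.ext hcl⟩

theorem mono_of_closedImmersion {S₀ : Scheme.{u}} {Z X : Over S₀} (j : Z ⟶ X)
    [IsClosedImmersion j.left] : Mono j := by
  haveI : Mono j.left := inferInstance
  exact Over.mono_of_mono_left _

set_option backward.isDefEq.respectTransparency.types false in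
set_option maxHeartbeats 2000000 in
/-- The cartesian square of S18956. -/
theorem isPullback_eqvHom (k : Type u) [Field k]
    (M G X Z : Over (Spec (CommRingCat.of k))) [MonObj M] [GrpObj G]
    (i : G ⟶ M) [IsMonHom i] [QuasiCompact i.left]
    [IsSchemeTheoreticallyDominant i.left]
    (aX : AlgGrp.Action G X) (aZ : AlgGrp.Action G Z) (j : Z ⟶ X) [IsClosedImmersion j.left]
    (hj : Magnet.MonAct.IsEquivariant (Magnet.MonAct.ofAction aZ) (Magnet.MonAct.ofAction aX) j) :
    IsPullback
      (Magnet.MonAct.eqvHom.postcomp ((Magnet.MonAct.regular M).restrict i) j hj)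
      (Magnet.MonAct.eqvHom.evalAt ((Magnet.MonAct.regular M).restrict i) (Magnet.MonAct.ofAction aZ) η[M])
      (Magnet.MonAct.eqvHom.evalAt ((Magnet.MonAct.regular M).restrict i) (Magnet.MonAct.ofAction aX) η[M])
      (yoneda.map j) := by
  haveI : Mono j := mono_of_closedImmersion j
  have hj' : aZ.act ≫ j = (G ◁ j) ≫ aX.act := hj
  apply IsPullback.of_forall_isPullback_app
  intro T
  rw [Limits.Types.isPullback_iff]
  refine ⟨?_, ?_, ?_⟩
  · ext φ
    change lift (toUnit (unop T) ≫ η[M]) (𝟙 (unop T)) ≫ (φ.1 ≫ j) =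
      (lift (toUnit (unop T) ≫ η[M]) (𝟙 (unop T)) ≫ φ.1) ≫ j
    rw [Category.assoc]
  · rintro φ₁ φ₂ ⟨h1, -⟩
    apply Subtype.ext
    have := congrArg Subtype.val h1
    simp only [Magnet.MonAct.eqvHom.postcomp_app_coe] at this
    exact (cancel_mono j).mp this
  · intro ψ z hz
    have hz' : lift (toUnit (unop T) ≫ η[M]) (𝟙 (unop T)) ≫ ψ.1 = z ≫ j := hz
    have hψ := (Magnet.MonAct.mem_eqvHom_iff ψ.1).mp ψ.2
    -- restriction of `ψ` to `G ⊗ T`
    have hres : (i ▷ unop T) ≫ ψ.1 = ((G ◁ z) ≫ aZ.act) ≫ j := by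
      apply Magnet.hom_ext_lift₂
      intro T' g t
      have h1 := hψ T' g (toUnit T' ≫ η[M]) t
      have h2 : lift g (toUnit T' ≫ η[M]) ≫ ((Magnet.MonAct.regular M).restrict i).act = g ≫ i := by
        rw [Magnet.MonAct.lift_restrict_act, Magnet.MonAct.lift_regular_act, ← Hom.one_def, _root_.mul_one]
      rw [h2] at h1
      have h3 : lift (toUnit T' ≫ η[M]) t ≫ ψ.1 = t ≫ z ≫ j := by
        rw [← hz', ← Category.assoc, comp_lift, Category.comp_id, ← Category.assoc,
          toUnit_unique (t ≫ toUnit (unop T)) (toUnit T')]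
      rw [h3] at h1
      rw [lift_whiskerRight_assoc, h1, Category.assoc, hj', lift_whiskerLeft_assoc,
        lift_whiskerLeft_assoc, Category.assoc]
      rfl
    obtain ⟨φ₀, hφ₀⟩ := factor_closed k M G X Z (unop T) i j ψ.1 ((G ◁ z) ≫ aZ.act) hres
    have heq : Magnet.MonAct.IsEquivariant
        (((Magnet.MonAct.regular M).restrict i).prod (Magnet.MonAct.trivial G (unop T)))
        (Magnet.MonAct.ofAction aZ) φ₀ := by
      have h := ψ.2
      unfold Magnet.MonAct.IsEquivariant at h ⊢
      rw [← cancel_mono j, Category.assoc, hφ₀, h, Category.assoc]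
      change _ = (G ◁ φ₀) ≫ aZ.act ≫ j
      rw [hj', ← Category.assoc, ← MonoidalCategory.whiskerLeft_comp, hφ₀]
      rfl
    refine ⟨⟨φ₀, heq⟩, ?_, ?_⟩
    · apply Subtype.ext
      exact hφ₀
    · change lift (toUnit (unop T) ≫ η[M]) (𝟙 (unop T)) ≫ φ₀ = z
      rw [← cancel_mono j, Category.assoc, hφ₀, hz']

end Groth.Agent.Lib.Helper29.SchDomFactor
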