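import Groth.Agent.Lib.Helper29.AffAttrAlg
import Groth.Agent.Lib.Helper29.SchDomFactor
import Groth.Agent.Lib.Helper29.OpenAttr
import Groth.Agent.Lib.Helper29.FBCField
import Groth.Agent.Lib.Helper10.WeilClosed2

/-! Attractor of an affine scheme for a dense open affine submonoid-group pair (S18955, helper29). -/

set_option autoImplicit false
universe u
open CategoryTheory MonoidalCategory CartesianMonoidalCategory MonObj AlgebraicGeometry Opposite
open TensorProduct
open Magnet

namespace Groth.Agent.Lib.Helper29.AffAttr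

variable {k : Type u} [Field k]

/-- algebra structure on global sections of a `k`-scheme, over `Γ(Spec k)` -/
@[instance_reducible]
noncomputable def algΓ (P : Over (Spec (CommRingCat.of k))) :
    Algebra Γ(Spec (CommRingCat.of k), ⊤) Γ(P.left, ⊤) := P.hom.appTop.hom.toAlgebra

attribute [local instance] algΓ

theorem algebraMap_eq (P : Over (Spec (CommRingCat.of k))) :
    algebraMap Γ(Spec (CommRingCat.of k), ⊤) Γ(P.left, ⊤) = P.hom.appTop.hom := rfl

/-- pullback of functions as an algebra map -/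
noncomputable def appAlg {P P' : Over (Spec (CommRingCat.of k))} (f : P ⟶ P') :
    Γ(P'.left, ⊤) →ₐ[Γ(Spec (CommRingCat.of k), ⊤)] Γ(P.left, ⊤) :=
  { f.left.appTop.hom with
    commutes' := fun r => by
      change f.left.appTop.hom (P'.hom.appTop.hom r) = P.hom.appTop.hom r
      rw [← CommRingCat.comp_apply, ← Scheme.Hom.comp_appTop, Over.w] }

theorem appAlg_apply {P P' : Over (Spec (CommRingCat.of k))} (f : P ⟶ P') (s : Γ(P'.left, ⊤)) :
    appAlg f s = f.left.appTop.hom s := rfl

theorem appAlg_comp {P P' P'' : Over (Spec (CommRingCat.of k))} (f : P ⟶ P') (g : P' ⟶ P'')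
    (s : Γ(P''.left, ⊤)) : appAlg (f ≫ g) s = appAlg f (appAlg g s) := by
  simp only [appAlg_apply, Over.comp_left, Scheme.Hom.comp_appTop, CommRingCat.comp_apply]

/-- the comparison map from the tensor product -/
noncomputable def Θ (A T : Over (Spec (CommRingCat.of k))) :
    Γ(A.left, ⊤) ⊗[Γ(Spec (CommRingCat.of k), ⊤)] Γ(T.left, ⊤) →ₐ[Γ(Spec (CommRingCat.of k), ⊤)]
      Γ((A ⊗ T).left, ⊤) :=
  Algebra.TensorProduct.productMap (appAlg (CartesianMonoidalCategory.fst A T))
    (appAlg (CartesianMonoidalCategory.snd A T))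

theorem Θ_tmul (A T : Over (Spec (CommRingCat.of k))) (x : Γ(A.left, ⊤)) (y : Γ(T.left, ⊤)) :
    Θ A T (x ⊗ₜ y) = appAlg (CartesianMonoidalCategory.fst A T) x *
      appAlg (CartesianMonoidalCategory.snd A T) y := by
  simp [Θ]

set_option backward.isDefEq.respectTransparency.types false in
set_option maxHeartbeats 1000000 in
theorem isPushout_Γ (A T : Over (Spec (CommRingCat.of k))) [IsAffine A.left] [IsAffine T.left] :
    IsPushout A.hom.appTop T.hom.appTop (CartesianMonoidalCategory.fst A T).left.appTop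
      (CartesianMonoidalCategory.snd A T).left.appTop := by
  have H : IsPullback (CartesianMonoidalCategory.fst A T).left
      (CartesianMonoidalCategory.snd A T).left A.hom T.hom :=
    IsPullback.of_hasPullback A.hom T.hom
  have hpo := FBCField.isPushout_app H (isAffineOpen_top (Spec (CommRingCat.of k)))
    (isAffineOpen_top A.left) (le_top : (⊤ : A.left.Opens) ≤ A.hom ⁻¹ᵁ ⊤)
    (e' := fun x _ => trivial)
  have e1 : A.hom.appLE ⊤ ⊤ (le_top : (⊤ : A.left.Opens) ≤ A.hom ⁻¹ᵁ ⊤) = A.hom.appTop :=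
    (Scheme.Hom.app_eq_appLE (f := A.hom) (U := ⊤)).symm
  have e4 : (CartesianMonoidalCategory.snd A T).left.appLE (T.hom ⁻¹ᵁ ⊤)
      ((CartesianMonoidalCategory.fst A T).left ⁻¹ᵁ ⊤) (fun x _ => trivial) =
      (CartesianMonoidalCategory.snd A T).left.appTop :=
    (Scheme.Hom.app_eq_appLE (f := (CartesianMonoidalCategory.snd A T).left) (U := ⊤)).symm
  rw [e1, e4] at hpo
  exact hpo


theorem Θ_bijective (A T : Over (Spec (CommRingCat.of k))) [IsAffine A.left] [IsAffine T.left] :
    Function.Bijective (Θ A T) := by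
  refine AffAttrAlg.bijective_of_isPushout (isPushout_Γ A T) rfl rfl (Θ A T).toRingHom ?_ ?_
  · intro x
    change Θ A T (x ⊗ₜ 1) = _
    rw [Θ_tmul, map_one, _root_.mul_one]
    rfl
  · intro y
    change Θ A T (1 ⊗ₜ y) = _
    rw [Θ_tmul, map_one, _root_.one_mul]
    rfl

theorem Θ_whiskerRight {A A' : Over (Spec (CommRingCat.of k))} (u : A ⟶ A')
    (T : Over (Spec (CommRingCat.of k)))
    (w : Γ(A'.left, ⊤) ⊗[Γ(Spec (CommRingCat.of k), ⊤)] Γ(T.left, ⊤)) :
    appAlg (u ▷ T) (Θ A' T w) =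
      Θ A T (Algebra.TensorProduct.map (appAlg u)
        (AlgHom.id Γ(Spec (CommRingCat.of k), ⊤) Γ(T.left, ⊤)) w) := by
  induction w using TensorProduct.induction_on with
  | zero => simp
  | tmul x y =>
    rw [Algebra.TensorProduct.map_tmul, Θ_tmul, Θ_tmul, map_mul, ← appAlg_comp, ← appAlg_comp,
      whiskerRight_fst, whiskerRight_snd, appAlg_comp]
    rfl
  | add y z hy hz => simp only [map_add, hy, hz]

theorem Θ_whiskerLeft (A : Over (Spec (CommRingCat.of k))) {T T' : Over (Spec (CommRingCat.of k))}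
    (v : T ⟶ T')
    (w : Γ(A.left, ⊤) ⊗[Γ(Spec (CommRingCat.of k), ⊤)] Γ(T'.left, ⊤)) :
    appAlg (A ◁ v) (Θ A T' w) =
      Θ A T (Algebra.TensorProduct.map
        (AlgHom.id Γ(Spec (CommRingCat.of k), ⊤) Γ(A.left, ⊤)) (appAlg v) w) := by
  induction w using TensorProduct.induction_on with
  | zero => simp
  | tmul x y =>
    rw [Algebra.TensorProduct.map_tmul, Θ_tmul, Θ_tmul, map_mul, ← appAlg_comp, ← appAlg_comp,
      whiskerLeft_fst, whiskerLeft_snd, appAlg_comp]
    rfl
  | add y z hy hz => simp only [map_add, hy, hz]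


/-- cancellation of a quasi-compact scheme-theoretically dominant morphism against affine targets -/
theorem cancel_dom {P' P Y : Scheme.{u}} (m : P' ⟶ P) [IsSchemeTheoreticallyDominant m]
    [QuasiCompact m] [IsAffine Y] (u v : P ⟶ Y) (h : m ≫ u = m ≫ v) : u = v := by
  apply ext_of_isAffine
  have h2 := congrArg Scheme.Hom.appTop h
  rw [Scheme.Hom.comp_appTop, Scheme.Hom.comp_appTop] at h2
  ext b
  apply m.app_injective ⊤
  exact congrArg (fun t => t.hom b) h2

/-- extension of a morphism to an affine scheme across a dominant morphism, given that its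
functions extend. -/
theorem exists_ext {P' P Y : Scheme.{u}} (m : P' ⟶ P) [IsSchemeTheoreticallyDominant m]
    [QuasiCompact m] [IsAffine Y] (o : P' ⟶ Y)
    (h : ∀ b : Γ(Y, ⊤), o.appTop.hom b ∈ Set.range m.appTop.hom) :
    ∃ ψ : P ⟶ Y, m ≫ ψ = o := by
  have hinj : Function.Injective m.appTop.hom := m.app_injective ⊤
  let S : Subring Γ(P', ⊤) := m.appTop.hom.range
  let e : Γ(P, ⊤) ≃+* S := RingEquiv.ofBijective m.appTop.hom.rangeRestrict
    ⟨fun a b hab => hinj (congrArg Subtype.val hab), m.appTop.hom.rangeRestrict_surjective⟩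
  let r : Γ(Y, ⊤) →+* Γ(P, ⊤) :=
    (e.symm : S →+* Γ(P, ⊤)).comp (o.appTop.hom.codRestrict S (fun b => h b))
  have hr : ∀ b, m.appTop.hom (r b) = o.appTop.hom b := by
    intro b
    have h1 : (e (r b) : Γ(P', ⊤)) = m.appTop.hom (r b) := rfl
    rw [← h1]
    change ((e (e.symm (o.appTop.hom.codRestrict S (fun b => h b) b)) : S) : Γ(P', ⊤)) = _
    rw [RingEquiv.apply_symm_apply]
    rfl
  have hr' : CommRingCat.ofHom r ≫ m.appTop = o.appTop := by
    ext b
    exact hr b
  refine ⟨P.toSpecΓ ≫ Spec.map (CommRingCat.ofHom r) ≫ Y.isoSpec.inv, ?_⟩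
  rw [← Category.assoc, Scheme.toSpecΓ_naturality, Category.assoc, ← Category.assoc (Spec.map _),
    ← Spec.map_comp, hr', ← Category.assoc, ← Scheme.toSpecΓ_naturality, Category.assoc]
  have : Y.toSpecΓ ≫ Y.isoSpec.inv = 𝟙 _ := Y.isoSpec.hom_inv_id
  rw [this, Category.comp_id]


set_option backward.isDefEq.respectTransparency.types false in
theorem qc_whiskerRight {M G : Over (Spec (CommRingCat.of k))} (i : G ⟶ M) [QuasiCompact i.left]
    (T : Over (Spec (CommRingCat.of k))) : QuasiCompact (i ▷ T).left :=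
  MorphismProperty.of_isPullback (P := @QuasiCompact) (SchDomFactor.isPullback_whisker M G T i)
    inferInstance

set_option backward.isDefEq.respectTransparency.types false in
theorem qc_whiskerLeft (A : Over (Spec (CommRingCat.of k))) {B B' : Over (Spec (CommRingCat.of k))}
    (f : B ⟶ B') [QuasiCompact f.left] : QuasiCompact (A ◁ f).left :=
  MorphismProperty.of_isPullback (P := @QuasiCompact) (OpenAttr.isPullback_whiskerLeft A f).flip
    inferInstance

set_option backward.isDefEq.respectTransparency.types false in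
set_option maxHeartbeats 1000000 in
theorem dominant_whiskerLeft (A : Over (Spec (CommRingCat.of k)))
    {B B' : Over (Spec (CommRingCat.of k))}
    (f : B ⟶ B') [QuasiCompact f.left] [IsSchemeTheoreticallyDominant f.left] :
    IsSchemeTheoreticallyDominant (A ◁ f).left := by
  haveI : Flat A.hom := inferInstance
  haveI : Flat (CartesianMonoidalCategory.snd A B').left := by
    have : (CartesianMonoidalCategory.snd A B').left = Limits.pullback.snd A.hom B'.hom := rfl
    rw [this]
    infer_instance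
  exact IsSchemeTheoreticallyDominant.of_isPullback (OpenAttr.isPullback_whiskerLeft A f).flip

section Act

variable {M G X : Over (Spec (CommRingCat.of k))} [MonObj M] [GrpObj G] (i : G ⟶ M) [IsMonHom i]
  (a : AlgGrp.Action G X)

/-- the restriction of an equivariant map to `G ⊗ T` is the orbit map of its unit section. -/
theorem restrict_eq_orbit (T : Over (Spec (CommRingCat.of k))) (φ : M ⊗ T ⟶ X)
    (hφ : Magnet.MonAct.IsEquivariant
      (((Magnet.MonAct.regular M).restrict i).prod (Magnet.MonAct.trivial G T))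
      (Magnet.MonAct.ofAction a) φ) :
    (i ▷ T) ≫ φ = (G ◁ (lift (toUnit T ≫ η[M]) (𝟙 T) ≫ φ)) ≫ a.act := by
  have hψ := (Magnet.MonAct.mem_eqvHom_iff φ).mp hφ
  apply Magnet.hom_ext_lift₂
  intro T' g t
  have h1 := hψ T' g (toUnit T' ≫ η[M]) t
  have h2 : lift g (toUnit T' ≫ η[M]) ≫ ((Magnet.MonAct.regular M).restrict i).act = g ≫ i := by
    rw [Magnet.MonAct.lift_restrict_act, Magnet.MonAct.lift_regular_act, ← Hom.one_def,
      _root_.mul_one]
  rw [h2] at h1
  have h3 : lift (toUnit T' ≫ η[M]) t ≫ φ = t ≫ lift (toUnit T ≫ η[M]) (𝟙 T) ≫ φ := by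
    rw [← Category.assoc, comp_lift, Category.comp_id, ← Category.assoc,
      toUnit_unique (t ≫ toUnit T) (toUnit T')]
  rw [h3] at h1
  rw [lift_whiskerRight_assoc, h1, lift_whiskerLeft_assoc]
  rfl

end Act

section Act2

variable {M G X : Over (Spec (CommRingCat.of k))} [MonObj M] [GrpObj G] (i : G ⟶ M) [IsMonHom i]
  (a : AlgGrp.Action G X)

/-- the unit section of an extension of an orbit map is the point. -/
theorem unit_of_restrict (T : Over (Spec (CommRingCat.of k))) (x : T ⟶ X) (ψ : M ⊗ T ⟶ X)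
    (h : (i ▷ T) ≫ ψ = (G ◁ x) ≫ a.act) :
    lift (toUnit T ≫ η[M]) (𝟙 T) ≫ ψ = x := by
  have h1 : η[M] = η[G] ≫ i := (IsMonHom.one_hom (f := i)).symm
  rw [h1, ← Category.assoc (toUnit T), ← lift_whiskerRight_assoc, h, lift_whiskerLeft_assoc,
    Category.id_comp, ← Hom.one_def]
  exact (Magnet.MonAct.ofAction a).lift_one_act x

set_option backward.isDefEq.respectTransparency.types false in
set_option maxHeartbeats 1000000 in
/-- an extension of an orbit map is equivariant. -/
theorem equivariant_of_restrict [IsAffine X.left] [QuasiCompact i.left]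
    [IsSchemeTheoreticallyDominant i.left]
    (T : Over (Spec (CommRingCat.of k))) (x : T ⟶ X) (ψ : M ⊗ T ⟶ X)
    (h : (i ▷ T) ≫ ψ = (G ◁ x) ≫ a.act) :
    Magnet.MonAct.IsEquivariant
      (((Magnet.MonAct.regular M).restrict i).prod (Magnet.MonAct.trivial G T))
      (Magnet.MonAct.ofAction a) ψ := by
  haveI := SchDomFactor.dominant_whisker k M G T i
  haveI := qc_whiskerRight i T
  haveI := dominant_whiskerLeft G (i ▷ T)
  haveI := qc_whiskerLeft G (i ▷ T)
  unfold Magnet.MonAct.IsEquivariant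
  apply Over.OverMorphism.ext
  apply cancel_dom (G ◁ (i ▷ T)).left
  rw [← Over.comp_left, ← Over.comp_left]
  congr 1
  apply Magnet.hom_ext_lift₂
  intro T' g z
  obtain ⟨h', t, rfl⟩ : ∃ (h' : T' ⟶ G) (t : T' ⟶ T), z = lift h' t :=
    ⟨z ≫ fst _ _, z ≫ snd _ _, (lift_comp_fst_snd z).symm⟩
  have e1 : lift g (lift h' t) ≫ (G ◁ (i ▷ T)) = lift g (lift (h' ≫ i) t) := by
    rw [lift_whiskerLeft, lift_whiskerRight]
  have e2 : lift ((g * h') ≫ i) t ≫ ψ = lift (g * h') (t ≫ x) ≫ a.act := by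
    rw [← lift_whiskerRight_assoc, h, lift_whiskerLeft_assoc]
  have e3 : lift (h' ≫ i) t ≫ ψ = lift h' (t ≫ x) ≫ a.act := by
    rw [← lift_whiskerRight_assoc, h, lift_whiskerLeft_assoc]
  rw [reassoc_of% e1, reassoc_of% e1, Magnet.MonAct.lift_prod_act_assoc,
    Magnet.MonAct.lift_trivial_act, Magnet.MonAct.lift_restrict_act,
    Magnet.MonAct.lift_regular_act, ← MonObj.mul_comp, e2, lift_whiskerLeft_assoc, e3]
  exact (Magnet.MonAct.ofAction a).lift_mul_act g h' (t ≫ x)

end Act2

section Act3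

variable {M G X : Over (Spec (CommRingCat.of k))} [MonObj M] [GrpObj G] (i : G ⟶ M) [IsMonHom i]
  (a : AlgGrp.Action G X)

set_option backward.isDefEq.respectTransparency.types false in
/-- equivariant maps are determined by their unit sections. -/
theorem eq_of_evalAt_eq [IsAffine X.left] [QuasiCompact i.left]
    [IsSchemeTheoreticallyDominant i.left]
    (T : Over (Spec (CommRingCat.of k))) (φ₁ φ₂ : M ⊗ T ⟶ X)
    (h₁ : Magnet.MonAct.IsEquivariant
      (((Magnet.MonAct.regular M).restrict i).prod (Magnet.MonAct.trivial G T))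
      (Magnet.MonAct.ofAction a) φ₁)
    (h₂ : Magnet.MonAct.IsEquivariant
      (((Magnet.MonAct.regular M).restrict i).prod (Magnet.MonAct.trivial G T))
      (Magnet.MonAct.ofAction a) φ₂)
    (h : lift (toUnit T ≫ η[M]) (𝟙 T) ≫ φ₁ = lift (toUnit T ≫ η[M]) (𝟙 T) ≫ φ₂) : φ₁ = φ₂ := by
  haveI := SchDomFactor.dominant_whisker k M G T i
  haveI := qc_whiskerRight i T
  apply Over.OverMorphism.ext
  apply cancel_dom (i ▷ T).left
  rw [← Over.comp_left, ← Over.comp_left, restrict_eq_orbit i a T φ₁ h₁,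
    restrict_eq_orbit i a T φ₂ h₂, h]

omit [IsMonHom i] in
theorem ext_precomp {T T' : Over (Spec (CommRingCat.of k))} (t : T' ⟶ T) (x : T ⟶ X)
    (ψ : M ⊗ T ⟶ X) (h : (i ▷ T) ≫ ψ = (G ◁ x) ≫ a.act) :
    (i ▷ T') ≫ (M ◁ t) ≫ ψ = (G ◁ (t ≫ x)) ≫ a.act := by
  rw [← whisker_exchange_assoc, h, MonoidalCategory.whiskerLeft_comp, Category.assoc]

/-- the coaction on functions -/
noncomputable def coact [IsAffine G.left] [IsAffine X.left] :
    Γ(X.left, ⊤) →+* Γ(G.left, ⊤) ⊗[Γ(Spec (CommRingCat.of k), ⊤)] Γ(X.left, ⊤) :=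
  ((RingEquiv.ofBijective (Θ G X) (Θ_bijective G X)).symm : _ →+* _).comp a.act.left.appTop.hom

theorem Θ_coact [IsAffine G.left] [IsAffine X.left] (b : Γ(X.left, ⊤)) :
    Θ G X (coact a b) = appAlg a.act b :=
  (RingEquiv.ofBijective (Θ G X) (Θ_bijective G X)).apply_symm_apply _

set_option backward.isDefEq.respectTransparency.types false in
set_option maxHeartbeats 1000000 in
/-- **affine criterion** for extending the orbit map of a point across `G ⊗ T ⟶ M ⊗ T`. -/
theorem ext_iff [IsAffine M.left] [IsAffine G.left] [IsAffine X.left]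
    [IsSchemeTheoreticallyDominant i.left] {idx : Type u}
    (𝔟 : Module.Basis idx Γ(Spec (CommRingCat.of k), ⊤)
      (Γ(G.left, ⊤) ⧸ LinearMap.range (appAlg i).toLinearMap))
    (T : Over (Spec (CommRingCat.of k))) [IsAffine T.left] (x : T ⟶ X) :
    (∃ ψ : M ⊗ T ⟶ X, (i ▷ T) ≫ ψ = (G ◁ x) ≫ a.act) ↔
      AffAttrAlg.coeffIdeal (appAlg i) 𝔟 (coact a) ≤ RingHom.ker x.left.appTop.hom := by
  haveI : QuasiCompact i.left := inferInstance
  haveI := SchDomFactor.dominant_whisker k M G T i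
  haveI := qc_whiskerRight i T
  have key : ∀ b, appAlg ((G ◁ x) ≫ a.act) b =
      Θ G T (Algebra.TensorProduct.map (AlgHom.id Γ(Spec (CommRingCat.of k), ⊤) Γ(G.left, ⊤))
        (appAlg x) (coact a b)) := by
    intro b
    rw [appAlg_comp, ← Θ_coact, Θ_whiskerLeft]
  have hk : RingHom.ker x.left.appTop.hom =
      RingHom.ker ((appAlg x : Γ(X.left, ⊤) →ₐ[Γ(Spec (CommRingCat.of k), ⊤)] Γ(T.left, ⊤)) :
        Γ(X.left, ⊤) →+* Γ(T.left, ⊤)) := rfl
  rw [hk, ← AffAttrAlg.criterion]
  constructor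
  · rintro ⟨ψ, hψ⟩ b
    obtain ⟨w, hw⟩ := (Θ_bijective M T).2 (appAlg ψ b)
    rw [AlgHom.mem_range]
    refine ⟨w, ?_⟩
    apply (Θ_bijective G T).1
    rw [← key, ← hψ, appAlg_comp, ← hw, Θ_whiskerRight]
  · intro hb
    have hex : ∃ ψ₀ : (M ⊗ T).left ⟶ X.left, (i ▷ T).left ≫ ψ₀ = ((G ◁ x) ≫ a.act).left := by
      apply exists_ext
      intro b
      obtain ⟨w, hw⟩ := (AlgHom.mem_range _).1 (hb b)
      refine ⟨Θ M T w, ?_⟩
      change appAlg (i ▷ T) (Θ M T w) = appAlg ((G ◁ x) ≫ a.act) b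
      rw [key, Θ_whiskerRight, ← hw]
    obtain ⟨ψ₀, hψ₀⟩ := hex
    refine ⟨Over.homMk ψ₀ ?_, Over.OverMorphism.ext hψ₀⟩
    apply cancel_dom (i ▷ T).left
    rw [← Category.assoc, hψ₀, Over.w, Over.w]

end Act3

theorem isField_Γ_Spec (k : Type u) [Field k] : IsField Γ(Spec (CommRingCat.of k), ⊤) :=
  MulEquiv.isField (Field.toIsField k)
    (Scheme.ΓSpecIso (CommRingCat.of k)).commRingCatIsoToRingEquiv.toMulEquiv

set_option backward.isDefEq.respectTransparency.types false in
set_option maxHeartbeats 2000000 in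
/-- **S18955**: the attractor of an affine `G`-scheme along a dense affine open embedding
`G ⟶ M` of a group into a monoid is a closed subscheme. -/
theorem exists_rep (k : Type u) [Field k]
    (M G X : Over (Spec (CommRingCat.of k))) [MonObj M] [GrpObj G] [IsAffine M.left]
    [IsAffine G.left] [IsAffine X.left] (i : G ⟶ M) [IsMonHom i]
    [IsSchemeTheoreticallyDominant i.left] (a : AlgGrp.Action G X) :
    ∃ (Z : Over (Spec (CommRingCat.of k))) (j : Z ⟶ X)
      (e : (Magnet.MonAct.eqvHom ((Magnet.MonAct.regular M).restrict i)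
        (Magnet.MonAct.ofAction a)).RepresentableBy Z),
      IsClosedImmersion j.left ∧
      ∀ (T : Over (Spec (CommRingCat.of k))) (z : T ⟶ Z),
        (Magnet.MonAct.eqvHom.evalAt ((Magnet.MonAct.regular M).restrict i)
          (Magnet.MonAct.ofAction a) η[M]).app (op T) (e.homEquiv z) = z ≫ j := by
  haveI : QuasiCompact i.left := inferInstance
  obtain ⟨idx, ⟨𝔟⟩⟩ := AffAttrAlg.exists_basis_of_isField (isField_Γ_Spec k)
    (Γ(G.left, ⊤) ⧸ LinearMap.range (appAlg i).toLinearMap)
  let J : Ideal Γ(X.left, ⊤) := AffAttrAlg.coeffIdeal (appAlg i) 𝔟 (coact a)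
  let ι₀ : (Scheme.IdealSheafData.ofIdealTop J).subscheme ⟶ X.left :=
    (Scheme.IdealSheafData.ofIdealTop J).subschemeι
  let Z : Over (Spec (CommRingCat.of k)) := Over.mk (ι₀ ≫ X.hom)
  let j : Z ⟶ X := Over.homMk ι₀ rfl
  haveI hci : IsClosedImmersion j.left := (inferInstance : IsClosedImmersion ι₀)
  haveI : IsAffine Z.left := isAffine_of_isAffineHom j.left
  haveI : Mono j := SchDomFactor.mono_of_closedImmersion j
  haveI : Mono ι₀ := inferInstance
  have hZ : J ≤ RingHom.ker j.left.appTop.hom :=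
    (Groth.Agent.Lib.Helper10.WeilClosed.exists_fac_subschemeι_iff J ι₀).1
      ⟨𝟙 _, Category.id_comp _⟩
  obtain ⟨ψu, hψu⟩ := (ext_iff i a 𝔟 Z j).2 hZ
  have hψu_eq := equivariant_of_restrict i a Z j ψu hψu
  have hψu_unit := unit_of_restrict i a Z j ψu hψu
  have hunit : ∀ (T : Over (Spec (CommRingCat.of k))) (z : T ⟶ Z),
      lift (toUnit T ≫ η[M]) (𝟙 T) ≫ (M ◁ z) ≫ ψu = z ≫ j := by
    intro T z
    rw [lift_whiskerLeft_assoc, Category.id_comp, ← hψu_unit, ← Category.assoc z, comp_lift,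
      Category.comp_id, ← Category.assoc, toUnit_unique (z ≫ toUnit Z) (toUnit T)]
  have hfac : ∀ (T : Over (Spec (CommRingCat.of k))) (φ : M ⊗ T ⟶ X)
      (_ : Magnet.MonAct.IsEquivariant
        (((Magnet.MonAct.regular M).restrict i).prod (Magnet.MonAct.trivial G T))
        (Magnet.MonAct.ofAction a) φ),
      ∃ z : T ⟶ Z, z ≫ j = lift (toUnit T ≫ η[M]) (𝟙 T) ≫ φ := by
    intro T φ hφ
    have hx := restrict_eq_orbit i a T φ hφ
    have hloc : ∀ κ : T.left.affineCover.I₀, ∃ g' : T.left.affineCover.X κ ⟶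
        (Scheme.IdealSheafData.ofIdealTop J).subscheme,
        g' ≫ ι₀ = T.left.affineCover.f κ ≫ (lift (toUnit T ≫ η[M]) (𝟙 T) ≫ φ).left := by
      intro κ
      let Tκ : Over (Spec (CommRingCat.of k)) := Over.mk (T.left.affineCover.f κ ≫ T.hom)
      let tκ : Tκ ⟶ T := Over.homMk (T.left.affineCover.f κ) rfl
      haveI : IsAffine Tκ.left := (inferInstance : IsAffine (T.left.affineCover.X κ))
      have h1 := ext_precomp i a tκ _ φ hx
      have h2 := (ext_iff i a 𝔟 Tκ (tκ ≫ lift (toUnit T ≫ η[M]) (𝟙 T) ≫ φ)).1 ⟨_, h1⟩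
      exact (Groth.Agent.Lib.Helper10.WeilClosed.exists_fac_subschemeι_iff J _).2 h2
    obtain ⟨w, hw⟩ := Groth.Agent.Lib.Helper10.ClosedSubF.exists_lift_of_mono T.left.affineCover ι₀
      (lift (toUnit T ≫ η[M]) (𝟙 T) ≫ φ).left (fun κ => (hloc κ).choose)
      (fun κ => (hloc κ).choose_spec)
    refine ⟨Over.homMk w ?_, Over.OverMorphism.ext hw⟩
    change w ≫ ι₀ ≫ X.hom = T.hom
    rw [← Category.assoc, hw, Over.w]
  let D := Magnet.MonAct.eqvHom ((Magnet.MonAct.regular M).restrict i) (Magnet.MonAct.ofAction a)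
  let φu : D.obj (op Z) := ⟨ψu, hψu_eq⟩
  let hE : ∀ {T : Over (Spec (CommRingCat.of k))}, (T ⟶ Z) ≃ D.obj (op T) := fun {T} =>
    { toFun := fun z => D.map z.op φu
      invFun := fun φ => (hfac T φ.1 φ.2).choose
      left_inv := fun z => by
        have h1 := (hfac T (D.map z.op φu).1 (D.map z.op φu).2).choose_spec
        rw [← cancel_mono j]
        exact h1.trans (hunit T z)
      right_inv := fun φ => by
        apply Subtype.ext
        apply eq_of_evalAt_eq i a T _ _ (D.map _ φu).2 φ.2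
        rw [← (hfac T φ.1 φ.2).choose_spec]
        exact hunit T _ }
  refine ⟨Z, j, ⟨hE, ?_⟩, hci, ?_⟩
  · intro T T' f g
    change D.map (f ≫ g).op φu = D.map f.op (D.map g.op φu)
    rw [op_comp, Functor.map_comp]
    rfl
  · intro T z
    exact hunit T z

end Groth.Agent.Lib.Helper29.AffAttr
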