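import Mathlib

/-! Coefficient-ideal criterion for landing in a sub-tensor-product (helper29). -/

set_option autoImplicit false
universe u
open TensorProduct CategoryTheory

namespace Groth.Agent.Lib.Helper29.AffAttrAlg

variable {k : Type u} [CommRing k] {AM AG B : Type u} [CommRing AM] [CommRing AG] [CommRing B]
  [Algebra k AM] [Algebra k AG] [Algebra k B]

/-- coefficient functional -/
noncomputable def coe (ι : AM →ₐ[k] AG) {idx : Type u}
    (𝔟 : Module.Basis idx k (AG ⧸ LinearMap.range ι.toLinearMap)) (e : idx)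
    (C : Type u) [CommRing C] [Algebra k C] : AG ⊗[k] C →ₗ[k] C :=
  (TensorProduct.lid k C).toLinearMap ∘ₗ
    ((𝔟.coord e).rTensor C) ∘ₗ ((LinearMap.range ι.toLinearMap).mkQ.rTensor C)

theorem coe_tmul (ι : AM →ₐ[k] AG) {idx : Type u}
    (𝔟 : Module.Basis idx k (AG ⧸ LinearMap.range ι.toLinearMap)) (e : idx)
    (C : Type u) [CommRing C] [Algebra k C] (a : AG) (c : C) :
    coe ι 𝔟 e C (a ⊗ₜ c) = (𝔟.coord e ((LinearMap.range ι.toLinearMap).mkQ a)) • c := by
  simp [coe]

theorem coe_natural (ι : AM →ₐ[k] AG) {idx : Type u}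
    (𝔟 : Module.Basis idx k (AG ⧸ LinearMap.range ι.toLinearMap)) (e : idx)
    {C D : Type u} [CommRing C] [Algebra k C] [CommRing D] [Algebra k D] (x : C →ₐ[k] D)
    (y : AG ⊗[k] C) :
    coe ι 𝔟 e D (Algebra.TensorProduct.map (AlgHom.id k AG) x y) = x (coe ι 𝔟 e C y) := by
  induction y using TensorProduct.induction_on with
  | zero => simp
  | tmul a c =>
    rw [Algebra.TensorProduct.map_tmul, coe_tmul, coe_tmul]
    simp
  | add y z hy hz => simp only [map_add, hy, hz]

/-- membership in the sub-tensor-product is detected by the coefficient functionals. -/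
theorem mem_range_iff (ι : AM →ₐ[k] AG) {idx : Type u}
    (𝔟 : Module.Basis idx k (AG ⧸ LinearMap.range ι.toLinearMap))
    (C : Type u) [CommRing C] [Algebra k C] (y : AG ⊗[k] C) :
    y ∈ (Algebra.TensorProduct.map ι (AlgHom.id k C)).range ↔ ∀ e, coe ι 𝔟 e C y = 0 := by
  classical
  have hex : Function.Exact (ι.toLinearMap.rTensor C)
      ((LinearMap.range ι.toLinearMap).mkQ.rTensor C) :=
    rTensor_exact C (LinearMap.exact_map_mkQ_range ι.toLinearMap)
      (Submodule.mkQ_surjective _)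
  have h1 : y ∈ (Algebra.TensorProduct.map ι (AlgHom.id k C)).range ↔
      (LinearMap.range ι.toLinearMap).mkQ.rTensor C y = 0 := by
    rw [hex y]
    constructor
    · rintro ⟨z, rfl⟩
      exact ⟨z, rfl⟩
    · rintro ⟨z, rfl⟩
      exact ⟨z, rfl⟩
  rw [h1]
  constructor
  · intro h e
    simp [coe, h]
  · intro h
    apply (TensorProduct.equivFinsuppOfBasisLeft 𝔟).injective
    rw [map_zero]
    ext e
    rw [TensorProduct.equivFinsuppOfBasisLeft_apply]
    exact h e

/-- the coefficient ideal -/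
noncomputable def coeffIdeal (ι : AM →ₐ[k] AG) {idx : Type u}
    (𝔟 : Module.Basis idx k (AG ⧸ LinearMap.range ι.toLinearMap))
    (α : B →+* AG ⊗[k] B) : Ideal B :=
  Ideal.span {c | ∃ (b : B) (e : idx), c = coe ι 𝔟 e B (α b)}

theorem criterion (ι : AM →ₐ[k] AG) {idx : Type u}
    (𝔟 : Module.Basis idx k (AG ⧸ LinearMap.range ι.toLinearMap)) (α : B →+* AG ⊗[k] B)
    {C : Type u} [CommRing C] [Algebra k C] (x : B →ₐ[k] C) :
    (∀ b, Algebra.TensorProduct.map (AlgHom.id k AG) x (α b) ∈
        (Algebra.TensorProduct.map ι (AlgHom.id k C)).range) ↔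
      coeffIdeal ι 𝔟 α ≤ RingHom.ker (x : B →+* C) := by
  simp only [mem_range_iff ι 𝔟, coe_natural]
  rw [coeffIdeal, Ideal.span_le]
  constructor
  · rintro h _ ⟨b, e, rfl⟩
    exact h b e
  · intro h b e
    exact h ⟨b, e, rfl⟩

theorem exists_basis_of_isField (hk : IsField k) (Q : Type u) [AddCommGroup Q] [Module k Q] :
    ∃ (idx : Type u), Nonempty (Module.Basis idx k Q) := by
  letI := hk.toField
  exact ⟨_, ⟨Module.Free.chooseBasis k Q⟩⟩

/-- a ring hom out of a tensor product agreeing with a pushout cocone is bijective. -/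
theorem bijective_of_isPushout {R A B' X : CommRingCat.{u}} {f : R ⟶ A} {g : R ⟶ B'}
    {a : A ⟶ X} {b : B' ⟶ X} (H : CategoryTheory.IsPushout f g a b)
    [Algebra R A] [Algebra R B'] (hf : algebraMap R A = f.hom) (hg : algebraMap R B' = g.hom)
    (θ : A ⊗[R] B' →+* X) (hl : ∀ x, θ (x ⊗ₜ 1) = a.hom x) (hr : ∀ y, θ (1 ⊗ₜ y) = b.hom y) :
    Function.Bijective θ := by
  have H' : CategoryTheory.IsPushout (CommRingCat.ofHom (algebraMap R A))
      (CommRingCat.ofHom (algebraMap R B')) a b := by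
    rw [hf, hg]
    exact H
  let e := (CommRingCat.isPushout_tensorProduct R A B').isoIsPushout A B' H'
  have h1 : ∀ x : A, e.hom.hom (x ⊗ₜ 1) = a.hom x := fun x =>
    congrArg (fun t : A ⟶ X => t.hom x)
      ((CommRingCat.isPushout_tensorProduct R A B').inl_isoIsPushout_hom A B' H')
  have h2 : ∀ y : B', e.hom.hom (1 ⊗ₜ y) = b.hom y := fun y =>
    congrArg (fun t : B' ⟶ X => t.hom y)
      ((CommRingCat.isPushout_tensorProduct R A B').inr_isoIsPushout_hom A B' H')
  have heq : ∀ z, θ z = e.hom.hom z := by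
    intro z
    induction z using TensorProduct.induction_on with
    | zero => simp
    | tmul x y =>
      have : x ⊗ₜ[R] y = (x ⊗ₜ[R] (1 : B')) * ((1 : A) ⊗ₜ[R] y) := by
        rw [Algebra.TensorProduct.tmul_mul_tmul, mul_one, one_mul]
      rw [this, map_mul, map_mul, hl, hr, h1, h2]
    | add y z hy hz => rw [map_add, map_add, hy, hz]
  have hb : Function.Bijective e.hom.hom :=
    CategoryTheory.ConcreteCategory.bijective_of_isIso e.hom
  constructor
  · intro z z' hzz
    apply hb.1
    rw [← heq, ← heq, hzz]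
  · intro w
    obtain ⟨z, hz⟩ := hb.2 w
    exact ⟨z, by rw [heq, hz]⟩

end Groth.Agent.Lib.Helper29.AffAttrAlg
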