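import Groth.Agent.Lib.Helper29.Avoid

/-! Affineness of `X_s` for relatively ample `L` and universally closed `f` (helper29, S9694):
function-level lemmas. -/

universe u
open CategoryTheory CategoryTheory.Limits AlgebraicGeometry TopologicalSpace Opposite

namespace Groth.Agent.Lib.Helper29.AffG
open Groth.Agent.Lib.Helper29.QCoh Groth.Agent.Lib.Helper29

variable {Y : Scheme.{u}}

/-- Two sections `σ, τ` of the same module: coefficient functions of each with respect to the
other, inverse to each other on the intersection of the loci. -/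
theorem exists_coeff_functions {N : Y.Modules} (σ τ : unitM Y ⟶ N) :
    ∃ (c : Γ(Y, CohB1.genLocus N σ)) (b : Γ(Y, CohB1.genLocus N τ)),
      Y.basicOpen c = CohB1.genLocus N τ ⊓ CohB1.genLocus N σ ∧
      rres Y (inf_le_right : CohB1.genLocus N τ ⊓ CohB1.genLocus N σ ≤ CohB1.genLocus N σ) c *
        rres Y (inf_le_left : CohB1.genLocus N τ ⊓ CohB1.genLocus N σ ≤ CohB1.genLocus N τ) b = 1 := by
  have hTW := isTriv_sval_of_le_genLocus σ (le_refl (CohB1.genLocus N σ))
  have hTV := isTriv_sval_of_le_genLocus τ (le_refl (CohB1.genLocus N τ))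
  obtain ⟨c, hc⟩ := (hTW _ le_rfl).2 (sval τ (CohB1.genLocus N σ))
  obtain ⟨b, hb⟩ := (hTV _ le_rfl).2 (sval σ (CohB1.genLocus N τ))
  simp only [res_self] at hc hb
  refine ⟨c, b, ?_, ?_⟩
  · exact (hTW.genLocus_inf τ c hc.symm).symm
  · set O := CohB1.genLocus N τ ⊓ CohB1.genLocus N σ with hO
    have h1 : sval τ O = rres Y (inf_le_right : O ≤ _) c • sval σ O := by
      rw [← res_sval τ (inf_le_right : O ≤ CohB1.genLocus N σ), ← hc, res_smul', res_sval]
    have h2 : sval σ O = rres Y (inf_le_left : O ≤ _) b • sval τ O := by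
      rw [← res_sval σ (inf_le_left : O ≤ CohB1.genLocus N τ), ← hb, res_smul', res_sval]
    have hinj := (hTW O inf_le_right).1
    have h3 : (rres Y (inf_le_right : O ≤ _) c * rres Y (inf_le_left : O ≤ _) b) •
        res N (inf_le_right : O ≤ CohB1.genLocus N σ) (sval σ (CohB1.genLocus N σ)) =
        (1 : Γ(Y, O)) • res N (inf_le_right : O ≤ CohB1.genLocus N σ)
          (sval σ (CohB1.genLocus N σ)) := by
      rw [res_sval, one_smul, mul_comm, mul_smul, ← h1, ← h2]
    exact hinj h3

end Groth.Agent.Lib.Helper29.AffG
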