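import Groth.Agent.Lib.Helper29.AffG1

/-! Affineness of `X_s` for relatively ample `L` and universally closed `f` (helper29, S9694):
the graph-closure argument. -/

universe u
open CategoryTheory CategoryTheory.Limits AlgebraicGeometry TopologicalSpace Opposite

namespace Groth.Agent.Lib.Helper29.AffG
open Groth.Agent.Lib.Helper29.QCoh Groth.Agent.Lib.Helper29

theorem mem_basicOpen_mul_sub_one {P : Scheme.{u}} {N : P.Opens} (a b : Γ(P, N)) (z : P)
    (hz : z ∈ N) (ha : z ∉ P.basicOpen a) : z ∈ P.basicOpen (a * b - 1) := by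
  have h1 : z ∈ P.basicOpen (-1 : Γ(P, N)) := by
    rw [Scheme.basicOpen_of_isUnit P (isUnit_one.neg)]
    exact hz
  have h2 : z ∉ P.basicOpen (a * b) := by
    rw [Scheme.basicOpen_mul]
    exact fun h => ha h.1
  have := mem_basicOpen_add_of_not_mem (-1 : Γ(P, N)) (a * b) z hz h1 h2
  rwa [neg_add_eq_sub] at this

theorem appLE_congr_hom {A B : Scheme.{u}} {m m' : A ⟶ B} (hm : m = m') (U : B.Opens)
    (O : A.Opens) (e : O ≤ m ⁻¹ᵁ U) :
    m.appLE U O e = m'.appLE U O (hm ▸ e) := by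
  subst hm; rfl

section Core
variable {Y T₀ : Scheme.{u}} [IsAffine T₀] (h : Y ⟶ T₀) [UniversallyClosed h] (V : Y.Opens)

/-- The data used to show that the closure of the graph stays over `V`. -/
def HasData : Prop :=
  ∀ y : Y, y ∉ V → ∃ (W : Y.Opens) (c : Γ(Y, W)) (β : Γ((V : Scheme.{u}), ⊤)), y ∈ W ∧
    Y.basicOpen c ≤ V ∧
    ∀ (O' : (V : Scheme.{u}).Opens) (e : O' ≤ V.ι ⁻¹ᵁ W),
      V.ι.appLE W O' e c * (V : Scheme.{u}).presheaf.map (homOfLE (le_top : O' ≤ ⊤)).op β = 1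

include h in
theorem surjective_toSpecΓ_of_hasData [CompactSpace (V : Scheme.{u})] (hdata : HasData V) :
    Function.Surjective (V : Scheme.{u}).toSpecΓ := by
  set Vs : Scheme.{u} := (V : Scheme.{u}) with hVs
  let j : Vs ⟶ Spec Γ(Vs, ⊤) := Vs.toSpecΓ
  let q₀ : Spec Γ(Vs, ⊤) ⟶ T₀ := Spec.map (V.ι ≫ h).appTop ≫ T₀.isoSpec.inv
  have hjq : j ≫ q₀ = V.ι ≫ h := by
    change Vs.toSpecΓ ≫ Spec.map (V.ι ≫ h).appTop ≫ T₀.isoSpec.inv = V.ι ≫ h
    rw [← Category.assoc, ← Scheme.toSpecΓ_naturality, Category.assoc, Scheme.toSpecΓ_isoSpec_inv,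
      Category.comp_id]
  let γ : Vs ⟶ pullback h q₀ := pullback.lift V.ι j hjq.symm
  have hγ1 : γ ≫ pullback.fst h q₀ = V.ι := pullback.lift_fst _ _ _
  have hγ2 : γ ≫ pullback.snd h q₀ = j := pullback.lift_snd _ _ _
  -- the graph
  let Γg : Vs ⟶ pullback (j ≫ q₀) q₀ := pullback.lift (𝟙 Vs) j (by simp)
  have hΓcl : IsClosedImmersion Γg :=
    MorphismProperty.of_isPullback (pullback_lift_diagonal_isPullback j q₀) inferInstance
  let e : pullback (j ≫ q₀) q₀ ⟶ pullback h q₀ :=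
    pullback.map (j ≫ q₀) q₀ h q₀ V.ι (𝟙 _) (𝟙 _) (by rw [hjq]; simp) (by simp)
  have e1 : e ≫ pullback.fst h q₀ = pullback.fst (j ≫ q₀) q₀ ≫ V.ι := pullback.lift_fst _ _ _
  have e2 : e ≫ pullback.snd h q₀ = pullback.snd (j ≫ q₀) q₀ ≫ 𝟙 _ := pullback.lift_snd _ _ _
  have g1 : Γg ≫ pullback.fst (j ≫ q₀) q₀ = 𝟙 Vs := pullback.lift_fst _ _ _
  have g2 : Γg ≫ pullback.snd (j ≫ q₀) q₀ = j := pullback.lift_snd _ _ _
  have hΓe : Γg ≫ e = γ := by
    apply pullback.hom_ext
    · rw [Category.assoc, e1, ← Category.assoc, g1, Category.id_comp, hγ1]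
    · rw [Category.assoc, e2, Category.comp_id, g2, hγ2]
  have hrange_e : Set.range e = (pullback.fst h q₀) ⁻¹' (V : Set Y) := by
    rw [Scheme.Pullback.range_map]
    have r1 : Set.range V.ι = (V : Set Y) := Scheme.Opens.range_ι V
    have r2 : Set.range (𝟙 (Spec Γ(Vs, ⊤)) : Spec Γ(Vs, ⊤) ⟶ Spec Γ(Vs, ⊤)) = Set.univ :=
      Set.range_eq_univ.mpr fun x => ⟨x, rfl⟩
    rw [r1, r2, Set.preimage_univ, Set.inter_univ]
  -- (ii)
  have hii : closure (Set.range γ) ∩ (pullback.fst h q₀) ⁻¹' (V : Set Y) ⊆ Set.range γ := by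
    rintro z ⟨hz1, hz2⟩
    rw [← hrange_e] at hz2
    obtain ⟨w, rfl⟩ := hz2
    have hind : Topology.IsInducing e := e.isOpenEmbedding.isInducing
    have hw : w ∈ closure (Set.range Γg) := by
      rw [hind.closure_eq_preimage_closure_image]
      have : e '' Set.range Γg = Set.range γ := by
        rw [← Set.range_comp, ← hΓe]
        rfl
      rw [this]
      exact hz1
    rw [Γg.isClosedEmbedding.isClosed_range.closure_eq] at hw
    obtain ⟨v, rfl⟩ := hw
    exact ⟨v, by rw [← hΓe]; rfl⟩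
  -- (i)
  have hi : closure (Set.range γ) ⊆ (pullback.fst h q₀) ⁻¹' (V : Set Y) := by
    intro z hz
    by_contra hzV
    obtain ⟨W, c, β, hyW, hcV, hprod⟩ := hdata (pullback.fst h q₀ z) hzV
    set Nz : (pullback h q₀).Opens := pullback.fst h q₀ ⁻¹ᵁ W with hNz
    have hzN : z ∈ Nz := hyW
    let c' : Γ(pullback h q₀, Nz) := (pullback.fst h q₀).app W c
    let bt : Γ(Spec Γ(Vs, ⊤), ⊤) := (Scheme.ΓSpecIso Γ(Vs, ⊤)).inv β
    let b' : Γ(pullback h q₀, Nz) := (pullback.snd h q₀).appLE ⊤ Nz le_top bt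
    set φ : Γ(pullback h q₀, Nz) := c' * b' - 1 with hφ
    have hzc : z ∉ (pullback h q₀).basicOpen c' := by
      intro hmem
      have : z ∈ pullback.fst h q₀ ⁻¹ᵁ Y.basicOpen c := by
        rw [Scheme.preimage_basicOpen]; exact hmem
      exact hzV (hcV this)
    have hzφ : z ∈ (pullback h q₀).basicOpen φ := mem_basicOpen_mul_sub_one c' b' z hzN hzc
    -- the basic open of φ misses the range of γ
    have hmiss : ∀ v : Vs, γ v ∉ (pullback h q₀).basicOpen φ := by
      intro v hv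
      have hv' : v ∈ γ ⁻¹ᵁ (pullback h q₀).basicOpen φ := hv
      rw [Scheme.preimage_basicOpen] at hv'
      have hle : γ ⁻¹ᵁ Nz ≤ V.ι ⁻¹ᵁ W := by
        intro v hv
        change (γ ≫ pullback.fst h q₀) v ∈ W at hv
        rw [hγ1] at hv
        exact hv
      have h1 : γ.app Nz c' = V.ι.appLE W (γ ⁻¹ᵁ Nz) hle c := by
        change (γ.app Nz) (((pullback.fst h q₀).app W) c) = _
        rw [← CommRingCat.comp_apply, γ.app_eq_appLE, (pullback.fst h q₀).app_eq_appLE,
          Scheme.Hom.appLE_comp_appLE, appLE_congr_hom hγ1]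
      have h2 : γ.app Nz b' = Vs.presheaf.map (homOfLE (le_top : γ ⁻¹ᵁ Nz ≤ ⊤)).op β := by
        change (γ.app Nz) (((pullback.snd h q₀).appLE ⊤ Nz le_top) bt) = _
        rw [← CommRingCat.comp_apply, γ.app_eq_appLE, Scheme.Hom.appLE_comp_appLE,
          appLE_congr_hom hγ2]
        change ((j.appLE ⊤ (γ ⁻¹ᵁ Nz) le_top)) ((Scheme.ΓSpecIso Γ(Vs, ⊤)).inv β) = _
        have : j.appLE ⊤ (γ ⁻¹ᵁ Nz) le_top = j.appTop ≫ Vs.presheaf.map (homOfLE le_top).op := rfl
        rw [this, CommRingCat.comp_apply]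
        congr 1
        change (Vs.toSpecΓ.appTop) ((Scheme.ΓSpecIso Γ(Vs, ⊤)).inv β) = β
        rw [Scheme.toSpecΓ_appTop]
        exact (Scheme.ΓSpecIso Γ(Vs, ⊤)).inv_hom_id_apply β
      have h3 : γ.app Nz φ = 0 := by
        rw [hφ, map_sub, map_mul, map_one, h1, h2, hprod _ hle, sub_self]
      rw [h3, Scheme.basicOpen_zero] at hv'
      exact hv'
    have hopen := ((pullback h q₀).basicOpen φ).isOpen
    obtain ⟨_, hw1, ⟨v, rfl⟩⟩ := mem_closure_iff.mp hz _ hopen hzφ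
    exact hmiss v hw1
  have hclosed : IsClosed (Set.range γ) := by
    have : closure (Set.range γ) = Set.range γ :=
      Set.Subset.antisymm (fun z hz => hii ⟨hz, hi hz⟩) subset_closure
    rw [← this]
    exact isClosed_closure
  have h1 : IsClosed (Set.range j) := by
    have : Set.range j = (pullback.snd h q₀) '' Set.range γ := by
      rw [← Set.range_comp, ← hγ2]
      rfl
    rw [this]
    exact (pullback.snd h q₀).isClosedMap _ hclosed
  have h2 : DenseRange j := j.denseRange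
  have h3 : Set.range j = Set.univ := by
    rw [← h1.closure_eq]
    exact h2.closure_range
  exact Set.range_eq_univ.mp h3

end Core

end Groth.Agent.Lib.Helper29.AffG
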