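import Groth.Agent.Lib.Helper29.AffG2

/-! Affineness of `X_s` for relatively ample `L` and universally closed `f` (helper29, S9694):
the data from ampleness and the final statements. -/

universe u
open CategoryTheory CategoryTheory.Limits AlgebraicGeometry TopologicalSpace Opposite

namespace Groth.Agent.Lib.Helper29.AffG
open Groth.Agent.Lib.Helper29.QCoh Groth.Agent.Lib.Helper29

variable {Y : Scheme.{u}}

theorem presheaf_map_topIso_inv (V : Y.Opens) (O' : (V : Scheme.{u}).Opens) (a : Γ(Y, V)) :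
    (V : Scheme.{u}).presheaf.map (homOfLE (le_top : O' ≤ ⊤)).op (V.topIso.inv a) =
      rres Y (show V.ι ''ᵁ O' ≤ V from fun x hx => by
        obtain ⟨v, -, rfl⟩ := hx
        exact v.2) a := by
  change (Y.presheaf.map _ ≫ Y.presheaf.map _) a = Y.presheaf.map _ a
  rw [← Functor.map_comp]
  rfl

theorem hasData_of_isAmple {M : Y.Modules} (hM : CohB1.IsAmple M) (t : unitM Y ⟶ M) :
    HasData (CohB1.genLocus M t) := by
  intro y hy
  obtain ⟨n, σ, hyσ, -⟩ := hM.2.2 y
  have hτ : CohB1.genLocus (CohB1.tensorPow M (n + 1)) (SecTwist.powHom t (n + 1)) =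
      CohB1.genLocus M t := genLocus_powHom hM.1 t n
  obtain ⟨c, b, hcD, hcb⟩ := exists_coeff_functions σ (SecTwist.powHom t (n + 1))
  refine ⟨CohB1.genLocus _ σ, c,
    (CohB1.genLocus M t).topIso.inv (rres Y (le_of_eq hτ.symm) b), hyσ, ?_, ?_⟩
  · rw [hcD, hτ]; exact inf_le_left
  · intro O' e
    rw [Scheme.Opens.ι_appLE, presheaf_map_topIso_inv]
    have hO1 : (CohB1.genLocus M t).ι ''ᵁ O' ≤ CohB1.genLocus M t := fun x hx => by
      obtain ⟨v, -, rfl⟩ := hx
      exact v.2
    have hO2 : (CohB1.genLocus M t).ι ''ᵁ O' ≤ CohB1.genLocus _ σ :=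
      Set.image_subset_iff.mpr e
    have hO : (CohB1.genLocus M t).ι ''ᵁ O' ≤
        CohB1.genLocus (CohB1.tensorPow M (n + 1)) (SecTwist.powHom t (n + 1)) ⊓
          CohB1.genLocus _ σ := le_inf (hO1.trans (le_of_eq hτ.symm)) hO2
    have key := congrArg (rres Y hO) hcb
    rw [map_mul, map_one, rres_rres, rres_rres] at key
    rw [rres_rres]
    exact key

/-- **Core**: `M` ample on `Y`, `Y → T₀` universally closed with `T₀` affine: every `Y_t` is
affine. -/
theorem isAffineOpen_genLocus_of_universallyClosed {T₀ : Scheme.{u}} [IsAffine T₀] (h : Y ⟶ T₀)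
    [UniversallyClosed h] {M : Y.Modules} (hM : CohB1.IsAmple M) (t : unitM Y ⟶ M) :
    IsAffineOpen (CohB1.genLocus M t) := by
  have hc : CompactSpace Y := hM.2.1
  have hqa : (CohB1.genLocus M t : Scheme.{u}).IsQuasiAffine := isQuasiAffine_genLocus hM t
  have haffhom := isAffineHom_genLocus_ι hM.1 t
  have hcV : CompactSpace (CohB1.genLocus M t : Scheme.{u}) :=
    QuasiCompact.compactSpace_of_compactSpace (CohB1.genLocus M t).ι
  have hsurj := surjective_toSpecΓ_of_hasData h (CohB1.genLocus M t) (hasData_of_isAmple hM t)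
  have : Epi (CohB1.genLocus M t : Scheme.{u}).toSpecΓ.base :=
    (TopCat.epi_iff_surjective _).mpr hsurj
  have : IsIso (CohB1.genLocus M t : Scheme.{u}).toSpecΓ := IsOpenImmersion.isIso _
  exact IsAffine.of_isIso (CohB1.genLocus M t : Scheme.{u}).toSpecΓ

end Groth.Agent.Lib.Helper29.AffG
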