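import Groth.Agent.Lib.Helper10.AMonPts

/-! Points of the affine line monoid `A(ℕ)` and of `G_m = A(ℤ)` (helper29). -/

set_option autoImplicit false
universe u
open CategoryTheory MonoidalCategory CartesianMonoidalCategory MonObj AlgebraicGeometry
open Magnet

namespace Groth.Agent.Lib.Helper29.AffLine

open Groth.Agent.Lib.Helper10.AMonPts

variable {S : Scheme.{u}}

/-- the submonoid of non-negative integers -/
abbrev NN : AddSubmonoid ℤ := AddSubmonoid.multiples (1 : ℤ)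

lemma nn_nonneg (n : NN) : 0 ≤ (n : ℤ) := by
  obtain ⟨m, hm⟩ := (AddSubmonoid.mem_multiples_iff (n : ℤ) (1 : ℤ)).mp n.2
  rw [← hm]
  simp

/-- character of `NN` given by an element -/
def chiA {B : Type u} [CommRing B] (c : B) : Multiplicative NN →* B where
  toFun n := c ^ (Int.toNat ((Multiplicative.toAdd n : NN) : ℤ))
  map_one' := by simp
  map_mul' a b := by
    rw [← pow_add]
    congr 1
    exact Int.toNat_add (nn_nonneg _) (nn_nonneg _)

/-- the point of the affine line with coordinate `c` -/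
noncomputable def ptA {T : Over S} (c : Γ(T.left, ⊤)) : T ⟶ AMonS S NN := amPt (chiA c)

theorem amFn_ptA {T : Over S} (n : NN) (c : Γ(T.left, ⊤)) :
    amFn n (ptA (S := S) c) = c ^ Int.toNat (n : ℤ) := amFn_amPt _ _

theorem ptA_comp {T T' : Over S} (g : T' ⟶ T) (c : Γ(T.left, ⊤)) :
    g ≫ ptA c = ptA (g.left.appTop.hom c) := by
  apply amFn_injective
  intro n
  rw [amFn_comp, amFn_ptA, amFn_ptA, map_pow]

theorem amFn_pow {N : Type} [AddCommMonoid N] (n : N) {T : Over S} (x : T ⟶ AMonS S N) (e : ℕ) :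
    amFn n (x ^ e) = amFn n x ^ e := by
  induction e with
  | zero => rw [pow_zero, pow_zero, amFn_one]
  | succ e ih => rw [pow_succ, pow_succ, amFn_mul, ih]

theorem absorbing_of_nilpotent {T : Over S} (c : Γ(T.left, ⊤)) (m' : T ⟶ AMonS S NN) (e : ℕ)
    (hc : c ^ (e + 1) = 0) (m'' : T ⟶ AMonS S NN) :
    (ptA c * m') ^ (e + 1) * m'' = (ptA c * m') ^ (e + 1) := by
  apply amFn_injective
  intro n
  rw [amFn_mul, amFn_pow, amFn_mul, amFn_ptA]
  by_cases hn : Int.toNat (n : ℤ) = 0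
  · have h0 : n = 0 := by
      apply Subtype.ext
      have := nn_nonneg n
      change (n : ℤ) = 0
      omega
    subst h0
    rw [amFn_zero, amFn_zero]
    simp
  · obtain ⟨j, hj⟩ := Nat.exists_eq_succ_of_ne_zero hn
    have hz : (c ^ Int.toNat (n : ℤ) * amFn n m') ^ (e + 1) = 0 := by
      rw [mul_pow, ← pow_mul, mul_comm (Int.toNat (n : ℤ)), pow_mul, hc, hj, zero_pow (Nat.succ_ne_zero j),
        zero_mul]
    rw [hz, zero_mul]

/-- character of `ℤ` given by a unit -/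
def chiG {B : Type u} [CommRing B] (v : Bˣ) : Multiplicative ℤ →* B :=
  (Units.coeHom B).comp (zpowersHom Bˣ v)

/-- the point of `G_m` with coordinate the unit `v` -/
noncomputable def ptG {T : Over S} (v : Γ(T.left, ⊤)ˣ) : T ⟶ AMonS S ℤ := amPt (chiG v)

theorem amFn_ptG {T : Over S} (n : ℤ) (v : Γ(T.left, ⊤)ˣ) :
    amFn n (ptG (S := S) v) = ((v ^ n : Γ(T.left, ⊤)ˣ) : Γ(T.left, ⊤)) := by
  rw [ptG, amFn_amPt]
  rfl

theorem ptG_map {T : Over S} (v : Γ(T.left, ⊤)ˣ) :
    ptG v ≫ AMonS.map S NN.subtype = ptA (v : Γ(T.left, ⊤)) := by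
  apply amFn_injective
  intro n
  rw [amFn_map, amFn_ptG, amFn_ptA]
  have h1 : (NN.subtype n : ℤ) = ((Int.toNat (n : ℤ) : ℕ) : ℤ) := by
    rw [Int.toNat_of_nonneg (nn_nonneg n)]
    rfl
  rw [h1, zpow_natCast, Units.val_pow_eq_pow_val]

theorem ptG_inv_mul {T : Over S} (v : Γ(T.left, ⊤)ˣ) :
    ptG (S := S) v⁻¹ * ptG v = 1 := by
  apply amFn_injective
  intro n
  rw [amFn_mul, amFn_one, amFn_ptG, amFn_ptG, ← Units.val_mul, inv_zpow, inv_mul_cancel,
    Units.val_one]

end Groth.Agent.Lib.Helper29.AffLine
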