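import Groth.Agent.Lib.Helper29.PicUFD1
import Groth.Agent.Lib.Helper29.TensorIso
import Mathlib
universe u
open CategoryTheory CategoryTheory.Limits AlgebraicGeometry TopologicalSpace Opposite

/-! # Two complements on zero schemes of regular sections of invertible modules -/

namespace Groth.Agent.Lib.Helper29.AmpDiv
open Groth.Agent.Lib.Helper29.QCoh Groth.Agent.Lib.Helper29.ZeroSch
  Groth.Agent.Lib.Helper29.EffC Groth.Agent.Lib.Helper25.BlowUpUP
  Groth.Agent.Lib.Helper10.DivLocal

variable {X : Scheme.{u}}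

/-- The support of the zero scheme of a regular section of an invertible module is the
complement of the locus where the section generates. -/
theorem support_zeroScheme_eq [IsLocallyNoetherian X] {P : X.Modules}
    (hP : PicF.IsInvertible P) (σ : unitM X ⟶ P) (hσ : assPts X ⊆ CohB1.genLocus P σ) :
    ((PicF2.zeroScheme P σ).support : Set X) =
      ((CohB1.genLocus P σ : X.Opens) : Set X)ᶜ := by
  ext x
  constructor
  · intro hx hx'
    exact notMem_support_zeroScheme hP σ hσ x hx' hx
  · intro hx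
    obtain ⟨U, e, hU, hxU, -, he⟩ := exists_affine_isTriv hP (W := ⊤) x trivial
    obtain ⟨a, -, -, hI, hg⟩ := exists_local_coeff hP σ hσ hU he
    by_contra hns
    apply hx
    have h := hns
    rw [SetLike.mem_coe,
      mem_support_iff_le_primeIdealOf (PicF2.zeroScheme P σ) ⟨U, hU⟩ x hxU, hI,
      Ideal.span_singleton_le_iff_mem] at h
    have h3 := (Groth.Agent.Lib.Helper29.Punct.mem_basicOpen_fromSpec hU a
      (hU.primeIdealOf ⟨x, hxU⟩)).mpr h
    rw [hU.fromSpec_primeIdealOf ⟨x, hxU⟩] at h3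
    have h4 : x ∈ CohB1.genLocus P σ ⊓ U := by rw [hg]; exact h3
    exact h4.1

/-- The zero scheme of a nowhere vanishing section is empty: its ideal sheaf is `⊤`. -/
theorem zeroScheme_eq_top_of_genLocus_eq_top [IsLocallyNoetherian X] {P : X.Modules}
    (hP : PicF.IsInvertible P) (σ : unitM X ⟶ P) (hσ : CohB1.genLocus P σ = ⊤) :
    PicF2.zeroScheme P σ = ⊤ := by
  have hσ' : assPts X ⊆ CohB1.genLocus P σ := by
    rw [hσ]; intro x _; trivial
  rw [← Scheme.IdealSheafData.support_eq_bot_iff]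
  apply TopologicalSpace.Closeds.ext
  rw [support_zeroScheme_eq hP σ hσ', hσ]
  simp

/-- **G1**: if `Q ⊗ P ≅ O_X` and `τ` is a regular section of `O_X ⊗ P`, then the ideal sheaf
of the zero scheme of `τ` is isomorphic to `Q` (the inverse of `P`). -/
theorem nonempty_idealMod_iso_inverse [IsLocallyNoetherian X] {Q P : X.Modules}
    (hQ : PicF.IsInvertible Q) (hP : PicF.IsInvertible P)
    (e : CohB1.tensorMod Q P ≅ unitM X) (τ : unitM X ⟶ CohB1.tensorMod (unitM X) P)
    (hτ : assPts X ⊆ CohB1.genLocus _ τ) :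
    Nonempty (ClSub.idealMod (PicF2.zeroScheme _ τ) ≅ Q) := by
  have hP' := isInvertible_tensorMod hQ hP
  have hgen : CohB1.genLocus (CohB1.tensorMod Q P) e.inv = ⊤ := by
    have h1 : e.inv = 𝟙 (unitM X) ≫ e.symm.hom := by simp
    rw [h1, genLocus_comp_iso, genLocus_id]
  have hσ : assPts X ⊆ CohB1.genLocus (CohB1.tensorMod Q P) e.inv := by
    rw [hgen]; intro x _; trivial
  obtain ⟨φ⟩ := nonempty_iso_tensor_idealMod hQ hP e.inv τ hσ hτ
  have hD : PicF2.zeroScheme (CohB1.tensorMod Q P) e.inv = ⊤ :=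
    zeroScheme_eq_top_of_genLocus_eq_top hP' e.inv hgen
  obtain ⟨ψ⟩ := Groth.Agent.Lib.Helper29.PicUFD.nonempty_iso_unit_idealMod_of_principal
    (PicF2.zeroScheme (CohB1.tensorMod Q P) e.inv)
    (zeroScheme_isEffCartier hP' e.inv hσ) 1 (fun V => by
      rw [hD, map_one, Ideal.span_singleton_one]; rfl)
  exact ⟨φ.symm ≪≫ tensorCongr (Iso.refl Q) ψ.symm ≪≫ tensorUnitR Q⟩

end Groth.Agent.Lib.Helper29.AmpDiv
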