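import Groth.Agent.Lib.Helper29.OverRep
import Groth.Agent.Lib.Helper29.AffAttr
import Groth.Agent.Lib.Helper29.OpenAttr
import Groth.Agent.Lib.Helper10.HomFun

/-! Gluing the attractor from invariant affine charts (S18964, helper29). -/

set_option autoImplicit false
universe u
open CategoryTheory MonoidalCategory CartesianMonoidalCategory MonObj AlgebraicGeometry Opposite
open Magnet

namespace Groth.Agent.Lib.Helper29.AttrGlue

open Groth.Agent.Lib.Helper10.ZarRep Groth.Agent.Lib.Helper10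

section Restrict

variable {S : Scheme.{u}} {G X : Over S} [GrpObj G] (aX : AlgGrp.Action G X) (U : X.left.Opens)
  (hU : (CartesianMonoidalCategory.snd G X).left ⁻¹ᵁ U ≤ aX.act.left ⁻¹ᵁ U)

/-- the open subscheme as an object over `S` -/
noncomputable def UO (X : Over S) (U : X.left.Opens) : Over S := Over.mk (U.ι ≫ X.hom)

/-- the inclusion -/
noncomputable def jU (X : Over S) (U : X.left.Opens) : UO X U ⟶ X := Over.homMk U.ι rfl

instance (X : Over S) (U : X.left.Opens) : IsOpenImmersion (jU X U).left :=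
  inferInstanceAs (IsOpenImmersion U.ι)

instance (X : Over S) (U : X.left.Opens) : Mono (jU X U) := OpenAttr.mono_of_openImmersion _

include hU in
theorem exists_actU : ∃ act : G ⊗ UO X U ⟶ UO X U, act ≫ jU X U = (G ◁ jU X U) ≫ aX.act := by
  have hr : Set.range ((G ◁ jU X U) ≫ aX.act).left ⊆ Set.range U.ι := by
    rw [Scheme.Opens.range_ι]
    rintro _ ⟨q, rfl⟩
    have h1 : (G ◁ jU X U).left q ∈ (CartesianMonoidalCategory.snd G X).left ⁻¹ᵁ U := by
      change (CartesianMonoidalCategory.snd G X).left ((G ◁ jU X U).left q) ∈ U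
      rw [← Scheme.Hom.comp_apply, ← Over.comp_left, whiskerLeft_snd, Over.comp_left,
        Scheme.Hom.comp_apply]
      exact ((CartesianMonoidalCategory.snd G (UO X U)).left q).2
    exact hU h1
  let l := IsOpenImmersion.lift U.ι ((G ◁ jU X U) ≫ aX.act).left hr
  have hl : l ≫ U.ι = ((G ◁ jU X U) ≫ aX.act).left := IsOpenImmersion.lift_fac _ _ _
  refine ⟨Over.homMk l ?_, Over.OverMorphism.ext hl⟩
  change l ≫ U.ι ≫ X.hom = _
  rw [← Category.assoc, hl, Over.w]

/-- the restricted action morphism -/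
noncomputable def actU : G ⊗ UO X U ⟶ UO X U := (exists_actU aX U hU).choose

theorem actU_comp : actU aX U hU ≫ jU X U = (G ◁ jU X U) ≫ aX.act :=
  (exists_actU aX U hU).choose_spec

/-- the restricted action -/
noncomputable def aU : AlgGrp.Action G (UO X U) :=
  (Magnet.MonAct.mk' (actU aX U hU)
    (fun T x => by
      rw [← cancel_mono (jU X U), Category.assoc, actU_comp, lift_whiskerLeft_assoc]
      exact (Magnet.MonAct.ofAction aX).lift_one_act (x ≫ jU X U))
    (fun T g h x => by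
      rw [← cancel_mono (jU X U)]
      simp only [Category.assoc]
      rw [actU_comp, lift_whiskerLeft_assoc, lift_whiskerLeft_assoc, Category.assoc, actU_comp,
        lift_whiskerLeft_assoc]
      exact (Magnet.MonAct.ofAction aX).lift_mul_act g h (x ≫ jU X U))).toAction

theorem aU_act : (aU aX U hU).act = actU aX U hU := rfl

theorem jU_equivariant : Magnet.MonAct.IsEquivariant (Magnet.MonAct.ofAction (aU aX U hU))
    (Magnet.MonAct.ofAction aX) (jU X U) :=
  actU_comp aX U hU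

end Restrict

section Sheaf

variable {S : Scheme.{u}} {M G X : Over S} [MonObj M] [GrpObj G] (ρ : Magnet.MonAct G M)
  (a : Magnet.MonAct G X)

/-- equivariance of a family -/
def Eqv {T : Scheme.{u}} (e : HomFun.El M X T) : Prop :=
  Magnet.MonAct.IsEquivariant (ρ.prod (Magnet.MonAct.trivial G (Over.mk e.1))) a e.2

set_option backward.isDefEq.respectTransparency.types false in
set_option maxHeartbeats 1000000 in
theorem eqv_local {T : Scheme.{u}} (𝒰 : Scheme.OpenCover.{u} T) (e : HomFun.El M X T)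
    (h : ∀ κ, Eqv ρ a (HomFun.elMap (𝒰.f κ) e)) : Eqv ρ a e := by
  obtain ⟨t, φ⟩ := e
  change Magnet.MonAct.IsEquivariant (ρ.prod (Magnet.MonAct.trivial G (Over.mk t))) a φ
  rw [Magnet.MonAct.mem_eqvHom_iff]
  intro T' g b τ
  apply Over.OverMorphism.ext
  let 𝒱 : Scheme.OpenCover.{u} T'.left := 𝒰.pullback₁ τ.left
  refine 𝒱.hom_ext _ _ (fun κ => ?_)
  let T'κ : Over S := Over.mk (𝒱.f κ ≫ T'.hom)
  let c : T'κ ⟶ T' := Over.homMk (𝒱.f κ) rfl
  let τκ : T'κ ⟶ Over.mk (𝒰.f κ ≫ t) := Over.homMk (Limits.pullback.snd τ.left (𝒰.f κ)) (by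
    change Limits.pullback.snd _ _ ≫ 𝒰.f κ ≫ t = Limits.pullback.fst _ _ ≫ T'.hom
    rw [← Limits.pullback.condition_assoc]
    congr 1
    exact Over.w τ)
  let uκ : Over.mk (𝒰.f κ ≫ t) ⟶ Over.mk t := Over.homMk (𝒰.f κ) rfl
  have hc : c ≫ τ = τκ ≫ uκ := Over.OverMorphism.ext Limits.pullback.condition
  have hκ := (Magnet.MonAct.mem_eqvHom_iff _).mp (h κ) T'κ (c ≫ g) (c ≫ b) τκ
  have e1 : c ≫ (lift (lift g b ≫ ρ.act) τ ≫ φ) =
      lift (lift (c ≫ g) (c ≫ b) ≫ ρ.act) τκ ≫ (M ◁ uκ) ≫ φ := by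
    rw [← Category.assoc, comp_lift, ← Category.assoc c, comp_lift, hc, lift_whiskerLeft_assoc]
  have e2 : c ≫ (lift g (lift b τ ≫ φ) ≫ a.act) =
      lift (c ≫ g) (lift (c ≫ b) τκ ≫ (M ◁ uκ) ≫ φ) ≫ a.act := by
    rw [← Category.assoc, comp_lift, ← Category.assoc c, comp_lift, hc, lift_whiskerLeft_assoc]
  have h3 := e1.trans (hκ.trans e2.symm)
  exact congrArg (fun f => f.left) h3

/-- the functor of equivariant families -/
noncomputable abbrev DD : (Over S)ᵒᵖ ⥤ Type u := Magnet.MonAct.eqvHom ρ a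

/-- forgetting equivariance -/
noncomputable def forget {T : Scheme.{u}} (x : OverRep.El (DD ρ a) T) : HomFun.El M X T := ⟨x.1, x.2.1⟩

theorem forget_elMap {T T' : Scheme.{u}} (g : T' ⟶ T) (x : OverRep.El (DD ρ a) T) :
    forget ρ a (OverRep.elMap g x) = HomFun.elMap g (forget ρ a x) := rfl

theorem forget_inj {T : Scheme.{u}} (x y : OverRep.El (DD ρ a) T)
    (h : forget ρ a x = forget ρ a y) : x = y := by
  obtain ⟨t, φ, hφ⟩ := x
  obtain ⟨t', φ', hφ'⟩ := y
  have h' : (⟨t, φ⟩ : HomFun.El M X T) = ⟨t', φ'⟩ := h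
  cases h'
  rfl

theorem sfun_isSheaf : (OverRep.sfun (DD ρ a)).IsSheaf where
  sep := fun 𝒰 x y h => forget_inj ρ a x y (HomFun.homFun_sep 𝒰 _ _ (fun κ => by
    rw [← forget_elMap, ← forget_elMap]
    exact congrArg (forget ρ a) (h κ)))
  glue := fun 𝒰 x hx => by
    obtain ⟨y', hy'⟩ := HomFun.homFun_glue 𝒰 (fun κ => forget ρ a (x κ)) (fun κ κ' Z p q hpq => by
      rw [← forget_elMap, ← forget_elMap]
      exact congrArg (forget ρ a) (hx κ κ' Z p q hpq))
    have hy : Eqv ρ a y' := eqv_local ρ a 𝒰 y' (fun κ => by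
      rw [hy' κ]
      exact (x κ).2.2)
    refine ⟨⟨y'.1, ⟨y'.2, hy⟩⟩, fun κ => forget_inj ρ a _ _ ?_⟩
    exact hy' κ

end Sheaf

section Main

variable (k : Type u) [Field k]
  (M G X : Over (Spec (CommRingCat.of k))) [MonObj M] [GrpObj G]
  (i : G ⟶ M) [IsMonHom i]
  (o : 𝟙_ (Over (Spec (CommRingCat.of k))) ⟶ M)

set_option backward.isDefEq.respectTransparency.types false in
set_option maxHeartbeats 1000000 in
/-- factoring an equivariant family through an invariant open. -/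
theorem exists_factor
    (hM : ∀ (T : Over (Spec (CommRingCat.of k))) (K : Type u) [Field K]
      (eT : T.left ≅ Spec (CommRingCat.of K)) (W : (M ⊗ T).left.Opens),
      (CartesianMonoidalCategory.snd G (M ⊗ T)).left ⁻¹ᵁ W ≤
          ((((Magnet.MonAct.regular M).restrict i).prod (Magnet.MonAct.trivial G T)).act).left ⁻¹ᵁ W →
      (CartesianMonoidalCategory.lift (toUnit T ≫ o) (𝟙 T)).left ⁻¹ᵁ W = ⊤ → W = ⊤)
    (U : Over (Spec (CommRingCat.of k)))
    (aX : AlgGrp.Action G X) (aU : AlgGrp.Action G U) (j : U ⟶ X) [IsOpenImmersion j.left]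
    (hj : aU.act ≫ j = (G ◁ j) ≫ aX.act)
    (T : Over (Spec (CommRingCat.of k))) (ψ : M ⊗ T ⟶ X)
    (hψ : Magnet.MonAct.IsEquivariant
      (((Magnet.MonAct.regular M).restrict i).prod (Magnet.MonAct.trivial G T))
      (Magnet.MonAct.ofAction aX) ψ)
    (z : T ⟶ U) (hz : lift (toUnit T ≫ o) (𝟙 T) ≫ ψ = z ≫ j) :
    ∃ φ₀ : M ⊗ T ⟶ U, Magnet.MonAct.IsEquivariant
      (((Magnet.MonAct.regular M).restrict i).prod (Magnet.MonAct.trivial G T))
      (Magnet.MonAct.ofAction aU) φ₀ ∧ φ₀ ≫ j = ψ := by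
  haveI : Mono j := OpenAttr.mono_of_openImmersion j
  have hr := OpenAttr.range_subset k M G X U i o hM aX aU j hj T ψ hψ z hz
  let cl : (M ⊗ T).left ⟶ U.left := IsOpenImmersion.lift j.left ψ.left hr
  have hcl : cl ≫ j.left = ψ.left := IsOpenImmersion.lift_fac _ _ _
  let φ₀ : M ⊗ T ⟶ U := Over.homMk cl (by
    rw [← Over.w j, ← Category.assoc, hcl, Over.w])
  have hφ₀ : φ₀ ≫ j = ψ := Over.OverMorphism.ext hcl
  refine ⟨φ₀, ?_, hφ₀⟩
  have h := hψ
  unfold Magnet.MonAct.IsEquivariant at h ⊢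
  rw [← cancel_mono j, Category.assoc, hφ₀, h, Category.assoc]
  change _ = (G ◁ φ₀) ≫ aU.act ≫ j
  rw [hj, ← Category.assoc, ← MonoidalCategory.whiskerLeft_comp, hφ₀]
  rfl

set_option backward.isDefEq.respectTransparency.types false in
set_option maxHeartbeats 4000000 in
/-- **S18964**. -/
theorem exists_rep_glue [IsAffine M.left] [IsAffine G.left]
    [IsSchemeTheoreticallyDominant i.left]
    (ho : ∀ (T : Over (Spec (CommRingCat.of k))) (m : T ⟶ M),
      m * (toUnit T ≫ o) = toUnit T ≫ o ∧ (toUnit T ≫ o) * m = toUnit T ≫ o)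
    (hM : ∀ (T : Over (Spec (CommRingCat.of k))) (K : Type u) [Field K]
      (eT : T.left ≅ Spec (CommRingCat.of K)) (W : (M ⊗ T).left.Opens),
      (CartesianMonoidalCategory.snd G (M ⊗ T)).left ⁻¹ᵁ W ≤
          ((((Magnet.MonAct.regular M).restrict i).prod (Magnet.MonAct.trivial G T)).act).left ⁻¹ᵁ W →
      (CartesianMonoidalCategory.lift (toUnit T ≫ o) (𝟙 T)).left ⁻¹ᵁ W = ⊤ → W = ⊤)
    (aX : AlgGrp.Action G X)
    (hcov : ∀ (T : Over (Spec (CommRingCat.of k)))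
      (x : (Magnet.MonAct.fixedPsh (Magnet.MonAct.ofAction aX)).obj (op T)),
      ⨆ (U : X.left.Opens) (_ : IsAffineOpen U ∧
        (CartesianMonoidalCategory.snd G X).left ⁻¹ᵁ U ≤ aX.act.left ⁻¹ᵁ U),
        x.1.left ⁻¹ᵁ U = ⊤) :
    ∃ Z : Over (Spec (CommRingCat.of k)),
      Nonempty ((Magnet.MonAct.eqvHom ((Magnet.MonAct.regular M).restrict i)
        (Magnet.MonAct.ofAction aX)).RepresentableBy Z) := by
  classical
  let ρ : Magnet.MonAct G M := (Magnet.MonAct.regular M).restrict i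
  let D : (Over (Spec (CommRingCat.of k)))ᵒᵖ ⥤ Type u := DD ρ (Magnet.MonAct.ofAction aX)
  let Idx : Type u := {U : X.left.Opens // IsAffineOpen U ∧
    (CartesianMonoidalCategory.snd G X).left ⁻¹ᵁ U ≤ aX.act.left ⁻¹ᵁ U}
  have hchart : ∀ U : Idx, ∃ (Z : Over (Spec (CommRingCat.of k))),
      Nonempty ((DD ρ (Magnet.MonAct.ofAction (aU aX U.1 U.2.2))).RepresentableBy Z) := fun U => by
    haveI : IsAffine (UO X U.1).left := U.2.1
    obtain ⟨Z, j', e, -, -⟩ := AffAttr.exists_rep k M G (UO X U.1) i (aU aX U.1 U.2.2)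
    exact ⟨Z, ⟨e⟩⟩
  choose Zc hec using hchart
  let ec : ∀ U : Idx, (DD ρ (Magnet.MonAct.ofAction (aU aX U.1 U.2.2))).RepresentableBy (Zc U) :=
    fun U => (hec U).some
  -- the comparison maps
  let gam : ∀ (U : Idx) (T : Over (Spec (CommRingCat.of k))), (T ⟶ Zc U) → D.obj (op T) :=
    fun U T z => ⟨((ec U).homEquiv z).1 ≫ jU X U.1,
      ((ec U).homEquiv z).2.comp (jU_equivariant aX U.1 U.2.2)⟩
  have hgam_nat : ∀ (U : Idx) (T T' : Over (Spec (CommRingCat.of k))) (f : T' ⟶ T) (z : T ⟶ Zc U),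
      gam U T' (f ≫ z) = D.map f.op (gam U T z) := by
    intro U T T' f z
    apply Subtype.ext
    change ((ec U).homEquiv (f ≫ z)).1 ≫ jU X U.1 = (M ◁ f) ≫ ((ec U).homEquiv z).1 ≫ jU X U.1
    rw [(ec U).homEquiv_comp f z]
    exact Category.assoc _ _ _
  have hgam_inj : ∀ (U : Idx) (T : Over (Spec (CommRingCat.of k))) (z z' : T ⟶ Zc U),
      gam U T z = gam U T z' → z = z' := by
    intro U T z z' h
    apply (ec U).homEquiv.injective
    apply Subtype.ext
    have h1 : ((ec U).homEquiv z).1 ≫ jU X U.1 = ((ec U).homEquiv z').1 ≫ jU X U.1 :=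
      congrArg Subtype.val h
    exact (cancel_mono (jU X U.1)).mp h1
  -- the charts
  let xi : ∀ U : Idx, OverRep.El D (Zc U).left := fun U => ⟨(Zc U).hom, gam U (Zc U) (𝟙 _)⟩
  have hxi : ∀ (U : Idx) (T : Over (Spec (CommRingCat.of k))) (z : T ⟶ Zc U),
      (OverRep.sfun D).pull z.left (xi U) = (⟨T.hom, gam U T z⟩ : OverRep.El D T.left) := by
    intro U T z
    have h1 := OverRep.pull_left (D := D) (T := T) (M₀ := (Zc U).hom) (gam U (Zc U) (𝟙 _)) z
    rw [← hgam_nat U (Zc U) T z (𝟙 _), Category.comp_id] at h1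
    exact h1
  -- evaluation at the zero section
  let ev : ∀ {T : Scheme.{u}} (x : OverRep.El D T), Over.mk x.1 ⟶ X :=
    fun {T} x => lift (toUnit (Over.mk x.1) ≫ o) (𝟙 (Over.mk x.1)) ≫ x.2.1
  let W : Idx → ∀ (T : Scheme.{u}), (OverRep.sfun D).F.obj (op T) → T.Opens :=
    fun U T x => (ev x).left ⁻¹ᵁ U.1
  have hev_nat : ∀ (T T' : Over (Spec (CommRingCat.of k))) (f : T' ⟶ T) (φ : D.obj (op T)),
      lift (toUnit T' ≫ o) (𝟙 T') ≫ (D.map f.op φ).1 = f ≫ lift (toUnit T ≫ o) (𝟙 T) ≫ φ.1 := by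
    intro T T' f φ
    change lift (toUnit T' ≫ o) (𝟙 T') ≫ (M ◁ f) ≫ φ.1 = _
    rw [lift_whiskerLeft_assoc, Category.id_comp, ← Category.assoc f, comp_lift, Category.comp_id,
      ← Category.assoc, toUnit_unique (f ≫ toUnit T) (toUnit T')]
  have hmono : ∀ (U : Idx) (T : Scheme.{u}) (v v' : T ⟶ (Zc U).left),
      (OverRep.sfun D).pull v (xi U) = (OverRep.sfun D).pull v' (xi U) → v = v' := by
    intro U T v v' h
    let z : Over.mk (v ≫ (Zc U).hom) ⟶ Zc U := Over.homMk v rfl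
    let z' : Over.mk (v' ≫ (Zc U).hom) ⟶ Zc U := Over.homMk v' rfl
    have e1 := hxi U _ z
    have e2 := hxi U _ z'
    have h' : (⟨v ≫ (Zc U).hom, gam U _ z⟩ : OverRep.El D T) = ⟨v' ≫ (Zc U).hom, gam U _ z'⟩ :=
      e1.symm.trans (h.trans e2)
    obtain ⟨h1, h2⟩ := OverRep.El.ext_iff' _ _ h'
    rw [← hgam_nat] at h2
    have h3 := hgam_inj U _ _ _ h2
    have h4 := congrArg (fun f => f.left) h3
    simpa [OverRep.castHom, z, z'] using h4
  have hW : ∀ (U : Idx) (T : Scheme.{u}) (x : (OverRep.sfun D).F.obj (op T)) (T' : Scheme.{u})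
      (a : T' ⟶ T), (∃ v : T' ⟶ (Zc U).left, (OverRep.sfun D).pull v (xi U) =
        (OverRep.sfun D).pull a x) ↔ Set.range a ⊆ W U T x := by
    intro U T x T' a
    let T'o : Over (Spec (CommRingCat.of k)) := Over.mk (a ≫ x.1)
    let al : T'o ⟶ Over.mk x.1 := Over.homMk a rfl
    let φ' : D.obj (op T'o) := D.map al.op x.2
    have hpa : (OverRep.sfun D).pull a x = (⟨a ≫ x.1, φ'⟩ : OverRep.El D T') := rfl
    have hev' : lift (toUnit T'o ≫ o) (𝟙 T'o) ≫ φ'.1 = al ≫ ev x := hev_nat _ _ al x.2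
    constructor
    · rintro ⟨v, hv⟩
      let z : Over.mk (v ≫ (Zc U).hom) ⟶ Zc U := Over.homMk v rfl
      have e1 := hxi U _ z
      have h' : (⟨v ≫ (Zc U).hom, gam U _ z⟩ : OverRep.El D T') = ⟨a ≫ x.1, φ'⟩ :=
        e1.symm.trans (hv.trans hpa)
      obtain ⟨h1, h2⟩ := OverRep.El.ext_iff' _ _ h'
      -- evaluate both sides at the zero section
      have h3 := congrArg (fun ψ : D.obj (op (Over.mk (v ≫ (Zc U).hom))) =>
        (lift (toUnit _ ≫ o) (𝟙 _) ≫ ψ.1).left) h2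
      simp only [] at h3
      rw [hev_nat _ _ (OverRep.castHom h1) φ', hev'] at h3
      rintro _ ⟨p, rfl⟩
      change (ev x).left (a p) ∈ U.1
      have h4 : (OverRep.castHom h1 ≫ al ≫ ev x).left p = (ev x).left (a p) := by
        simp [OverRep.castHom, al]
      rw [← h4, ← h3]
      change ((lift (toUnit _ ≫ o) (𝟙 _) ≫ ((ec U).homEquiv z).1) ≫ jU X U.1).left p ∈ U.1
      rw [Over.comp_left, Scheme.Hom.comp_apply]
      exact ((lift (toUnit _ ≫ o) (𝟙 _) ≫ ((ec U).homEquiv z).1).left p).2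
    · intro hr
      have hr' : Set.range (al ≫ ev x).left ⊆ Set.range U.1.ι := by
        rw [Scheme.Opens.range_ι]
        rintro _ ⟨p, rfl⟩
        exact hr ⟨p, rfl⟩
      let y₀ : T' ⟶ U.1.toScheme := IsOpenImmersion.lift U.1.ι (al ≫ ev x).left hr'
      have hy₀ : y₀ ≫ U.1.ι = (al ≫ ev x).left := IsOpenImmersion.lift_fac _ _ _
      let z₀ : T'o ⟶ UO X U.1 := Over.homMk y₀ (by
        change y₀ ≫ U.1.ι ≫ X.hom = T'o.hom
        rw [← Category.assoc, hy₀, Over.w])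
      have hz₀ : lift (toUnit T'o ≫ o) (𝟙 T'o) ≫ φ'.1 = z₀ ≫ jU X U.1 := by
        rw [hev']
        exact Over.OverMorphism.ext hy₀.symm
      obtain ⟨φ₀, hφ₀e, hφ₀⟩ := exists_factor k M G X i o hM (UO X U.1) aX (aU aX U.1 U.2.2)
        (jU X U.1) (actU_comp aX U.1 U.2.2) T'o φ'.1 φ'.2 z₀ hz₀
      let zz : T'o ⟶ Zc U := (ec U).homEquiv.symm ⟨φ₀, hφ₀e⟩
      refine ⟨zz.left, ?_⟩
      rw [hxi U T'o zz, hpa]
      have h5 : gam U T'o zz = φ' := by
        apply Subtype.ext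
        change ((ec U).homEquiv ((ec U).homEquiv.symm ⟨φ₀, hφ₀e⟩)).1 ≫ jU X U.1 = φ'.1
        rw [Equiv.apply_symm_apply]
        exact hφ₀
      rw [h5]
      rfl
  have hcov' : ∀ (T : Scheme.{u}) (x : (OverRep.sfun D).F.obj (op T)) (p : T),
      ∃ U : Idx, p ∈ W U T x := by
    intro T x p
    have hfix : ∀ (T' : Over (Spec (CommRingCat.of k))) (t : T' ⟶ Over.mk x.1) (g : T' ⟶ G),
        lift g (t ≫ ev x) ≫ (Magnet.MonAct.ofAction aX).act = t ≫ ev x := by
      intro T' t g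
      have h1 : t ≫ ev x = lift (toUnit T' ≫ o) t ≫ x.2.1 := by
        change t ≫ lift (toUnit (Over.mk x.1) ≫ o) (𝟙 (Over.mk x.1)) ≫ x.2.1 = _
        rw [← Category.assoc, comp_lift, Category.comp_id, ← Category.assoc,
          toUnit_unique (t ≫ toUnit (Over.mk x.1)) (toUnit T')]
      have h2 := (Magnet.MonAct.mem_eqvHom_iff x.2.1).mp x.2.2 T' g (toUnit T' ≫ o) t
      have h3 : lift g (toUnit T' ≫ o) ≫ ρ.act = toUnit T' ≫ o := by
        rw [Magnet.MonAct.lift_restrict_act, Magnet.MonAct.lift_regular_act]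
        exact (ho T' (g ≫ i)).1
      rw [h3] at h2
      rw [h1, ← h2]
    have h := hcov (Over.mk x.1) ⟨ev x, hfix⟩
    have hp : p ∈ (⊤ : T.Opens) := trivial
    rw [← h] at hp
    obtain ⟨U, hp⟩ := TopologicalSpace.Opens.mem_iSup.mp hp
    obtain ⟨hU, hp⟩ := TopologicalSpace.Opens.mem_iSup.mp hp
    exact ⟨⟨U, hU⟩, hp⟩
  obtain ⟨M₀, xi0, hrep⟩ := exists_rep_of_open_cover (OverRep.sfun D) (fun U => (Zc U).left) xi
    hmono W hW hcov' (sfun_isSheaf ρ (Magnet.MonAct.ofAction aX))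
  obtain ⟨r⟩ := OverRep.representableBy_of_rep hrep
  exact ⟨Over.mk xi0.1, ⟨r⟩⟩

end Main

end Groth.Agent.Lib.Helper29.AttrGlue
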