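import Groth.Agent.Lib.Helper29.Pic4
import Groth.Agent.Lib.Helper29.PA1
set_option autoImplicit false
universe u
open CategoryTheory CategoryTheory.Limits AlgebraicGeometry TopologicalSpace Opposite DirectSum

namespace Groth.Agent.Lib.Helper29.AutPn
open Groth.Agent.Lib.Helper29.QCoh Groth.Agent.Lib.Helper29.ZeroSch

section Lin
variable (n : ℕ) (k : Type u) [CommRing k]

/-- The linear form `∑ c_j X_j`. -/
noncomputable def linF (c : Fin (n + 1) → k) : CohB1.polyGrading n k 1 :=
  ⟨∑ j, MvPolynomial.C (c j) * MvPolynomial.X j, by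
    apply Submodule.sum_mem
    intro j _
    exact MvPolynomial.isHomogeneous_C_mul_X (c j) j⟩

/-- The global function attached to a scalar. -/
noncomputable abbrev tg (c : k) : Γ(Proj (CohB1.polyGrading n k), ⊤) :=
  Coh.toGlobal (CohB1.ProjSpace.toSpec n k) c

/-- The section `a / 1` of `O(1)`. -/
noncomputable abbrev sec1 (a : CohB1.polyGrading n k 1) :
    Γ(Twist.twist (CohB1.polyGrading n k) 1, ⊤) := oneSecOn (CohB1.polyGrading n k) a ⊤

theorem sec1_add (a b : CohB1.polyGrading n k 1) :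
    sec1 n k (a + b) = sec1 n k a + sec1 n k b := by
  apply tfun_ext
  intro x
  rw [tfun_add, tfun_oneSecOn, tfun_oneSecOn, tfun_oneSecOn, Localization.add_mk_self]
  rfl

theorem sec1_zero : sec1 n k 0 = 0 := by
  have := sec1_add n k 0 0
  rw [add_zero] at this
  exact left_eq_add.mp this

theorem sec1_smul (c : k) (a : CohB1.polyGrading n k 1) :
    sec1 n k (c • a) = tg n k c • sec1 n k a := by
  apply tfun_ext
  intro x
  rw [tfun_smul, ofun_toGlobal, tfun_oneSecOn, tfun_oneSecOn, Localization.mk_mul]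
  apply mk_eq_mk_of_mul_eq
  simp only [Submonoid.coe_mul, SetLike.val_smul, MvPolynomial.smul_eq_C_mul]
  ring

theorem sec1_injective : Function.Injective (sec1 n k) := by
  intro c c' h
  apply eq_of_forall_mk_eq n k 0 0 c c'
  intro x _ _
  have := congrArg (fun σ => tfun (CohB1.polyGrading n k) σ
    (⟨x, trivial⟩ : (⊤ : (Proj (CohB1.polyGrading n k)).Opens))) h
  exact this

theorem sec1_surjective : Function.Surjective (sec1 n k) := by
  intro σ
  obtain ⟨c, hc⟩ := exists_tfun_eq_mk_one n k 1 σ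
  refine ⟨c, ?_⟩
  apply tfun_ext
  intro x
  rw [tfun_oneSecOn]
  exact (hc x.1).symm

theorem linF_eq_sum (c : Fin (n + 1) → k) :
    linF n k c = ∑ j, c j • Xi n k j := by
  apply Subtype.ext
  rw [AddSubmonoidClass.coe_finsetSum]
  change ∑ j, MvPolynomial.C (c j) * MvPolynomial.X j = _
  apply Finset.sum_congr rfl
  intro j _
  rw [SetLike.val_smul, MvPolynomial.smul_eq_C_mul]

theorem exists_eq_linF (a : CohB1.polyGrading n k 1) : ∃ c, a = linF n k c := by
  have h : a.1 ∈ MvPolynomial.homogeneousSubmodule (Fin (n + 1)) k 1 := a.2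
  rw [MvPolynomial.homogeneousSubmodule_one_eq_span_X] at h
  obtain ⟨c, hc⟩ := (Submodule.mem_span_range_iff_exists_fun k).mp h
  refine ⟨c, Subtype.ext ?_⟩
  rw [← hc]
  change _ = ∑ j, MvPolynomial.C (c j) * MvPolynomial.X j
  apply Finset.sum_congr rfl
  intro j _
  rw [MvPolynomial.smul_eq_C_mul]

/-- `sec1` as an additive map. -/
noncomputable def sec1Hom : CohB1.polyGrading n k 1 →+
    Γ(Twist.twist (CohB1.polyGrading n k) 1, ⊤) :=
  AddMonoidHom.mk' (sec1 n k) (sec1_add n k)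

theorem sec1Hom_apply (a : CohB1.polyGrading n k 1) : sec1Hom n k a = sec1 n k a := rfl

theorem linF_vecMul (c : Fin (n + 1) → k) (m : Matrix (Fin (n + 1)) (Fin (n + 1)) k) :
    linF n k (Matrix.vecMul c m) = ∑ j, c j • linF n k (m j) := by
  apply Subtype.ext
  rw [AddSubmonoidClass.coe_finsetSum]
  change ∑ l, MvPolynomial.C (Matrix.vecMul c m l) * MvPolynomial.X l =
    ∑ j, ((c j • linF n k (m j) : CohB1.polyGrading n k 1) : MvPolynomial (Fin (n + 1)) k)
  have h1 : ∀ j, ((c j • linF n k (m j) : CohB1.polyGrading n k 1) :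
      MvPolynomial (Fin (n + 1)) k) =
      ∑ l, MvPolynomial.C (c j * m j l) * MvPolynomial.X l := by
    intro j
    rw [SetLike.val_smul, MvPolynomial.smul_eq_C_mul]
    change MvPolynomial.C (c j) * ∑ l, MvPolynomial.C (m j l) * MvPolynomial.X l = _
    rw [Finset.mul_sum]
    apply Finset.sum_congr rfl
    intro l _
    rw [map_mul, mul_assoc]
  simp_rw [h1]
  rw [Finset.sum_comm]
  apply Finset.sum_congr rfl
  intro l _
  rw [← Finset.sum_mul, ← map_sum]
  rfl

end Lin

section Data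
variable {n : ℕ} {k : Type u} [CommRing k]

/-- `r` is given in homogeneous coordinates by the matrix `m`. -/
def HasData (r : Proj (CohB1.polyGrading n k) ⟶ Proj (CohB1.polyGrading n k))
    (m : Matrix (Fin (n + 1)) (Fin (n + 1)) k) : Prop :=
  r ≫ CohB1.ProjSpace.toSpec n k = CohB1.ProjSpace.toSpec n k ∧
  ∃ τ : (Scheme.Modules.pullback r).obj (Twist.twist (CohB1.polyGrading n k) 1) ≅
      Twist.twist (CohB1.polyGrading n k) 1,
    ∀ i, τ.hom.app ⊤ (pullSect r (Twist.twist (CohB1.polyGrading n k) 1) ⊤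
      (sec1 n k (Xi n k i))) = sec1 n k (linF n k (m i))

theorem app_tg {r : Proj (CohB1.polyGrading n k) ⟶ Proj (CohB1.polyGrading n k)}
    (hr : r ≫ CohB1.ProjSpace.toSpec n k = CohB1.ProjSpace.toSpec n k) (c : k) :
    r.app ⊤ (tg n k c) = tg n k c := by
  have h1 : r.app ⊤ (Coh.toGlobal (CohB1.ProjSpace.toSpec n k) c) =
      Coh.toGlobal (r ≫ CohB1.ProjSpace.toSpec n k) c := by
    unfold Coh.toGlobal
    rw [Scheme.Hom.comp_appTop]
    rfl
  rw [hr] at h1
  exact h1

/-- The comparison isomorphism acts on all linear forms through the matrix. -/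
theorem apply_linF {r : Proj (CohB1.polyGrading n k) ⟶ Proj (CohB1.polyGrading n k)}
    {m : Matrix (Fin (n + 1)) (Fin (n + 1)) k}
    (hr : r ≫ CohB1.ProjSpace.toSpec n k = CohB1.ProjSpace.toSpec n k)
    (τ : (Scheme.Modules.pullback r).obj (Twist.twist (CohB1.polyGrading n k) 1) ≅
      Twist.twist (CohB1.polyGrading n k) 1)
    (hτ : ∀ i, τ.hom.app ⊤ (pullSect r (Twist.twist (CohB1.polyGrading n k) 1) ⊤
      (sec1 n k (Xi n k i))) = sec1 n k (linF n k (m i))) (c : Fin (n + 1) → k) :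
    τ.hom.app ⊤ (pullSect r (Twist.twist (CohB1.polyGrading n k) 1) ⊤
      (sec1 n k (linF n k c))) = sec1 n k (linF n k (Matrix.vecMul c m)) := by
  let Φ : CohB1.polyGrading n k 1 →+ Γ(Twist.twist (CohB1.polyGrading n k) 1, ⊤) :=
    AddMonoidHom.mk' (fun a => τ.hom.app ⊤
      (pullSect r (Twist.twist (CohB1.polyGrading n k) 1) ⊤ (sec1 n k a))) (by
      intro a b
      rw [sec1_add, map_add]
      exact map_add _ _ _)
  have hΦ : ∀ (t : k) (a : CohB1.polyGrading n k 1), Φ (t • a) = tg n k t • Φ a := by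
    intro t a
    change τ.hom.app ⊤ (pullSect r (Twist.twist (CohB1.polyGrading n k) 1) ⊤
      (sec1 n k (t • a))) = _
    rw [sec1_smul, pullSect_smul, app_tg hr]
    exact app_smul' τ.hom (tg n k t)
      (pullSect r (Twist.twist (CohB1.polyGrading n k) 1) ⊤ (sec1 n k a))
  change Φ (linF n k c) = _
  rw [linF_vecMul, linF_eq_sum, ← sec1Hom_apply, map_sum, map_sum]
  apply Finset.sum_congr rfl
  intro j _
  rw [hΦ, sec1Hom_apply, sec1_smul]
  congr 1
  exact hτ j

theorem HasData.unique {r r' : Proj (CohB1.polyGrading n k) ⟶ Proj (CohB1.polyGrading n k)}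
    {m : Matrix (Fin (n + 1)) (Fin (n + 1)) k} (h : HasData r m) (h' : HasData r' m) : r = r' := by
  obtain ⟨hr, τ, hτ⟩ := h
  obtain ⟨hr', τ', hτ'⟩ := h'
  refine projSpace_hom_ext n k r r' (hr.trans hr'.symm) (τ ≪≫ τ'.symm) (fun i => ?_)
  change τ'.inv.app ⊤ (τ.hom.app ⊤ (pullSect r (Twist.twist (CohB1.polyGrading n k) 1) ⊤
    (sec1 n k (Xi n k i)))) = _
  rw [hτ i, ← hτ' i]
  exact iso_inv_hom_app τ' ⊤ _

theorem HasData.comp {r r' : Proj (CohB1.polyGrading n k) ⟶ Proj (CohB1.polyGrading n k)}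
    {g h : Matrix (Fin (n + 1)) (Fin (n + 1)) k} (hg : HasData r g) (hh : HasData r' h) :
    HasData (r' ≫ r) (g * h) := by
  obtain ⟨hr, τ, hτ⟩ := hg
  obtain ⟨hr', τ', hτ'⟩ := hh
  refine ⟨by rw [Category.assoc, hr, hr'],
    (pullbackCompIso r' r _).symm ≪≫ (Scheme.Modules.pullback r').mapIso τ ≪≫ τ', fun i => ?_⟩
  have h1 := pullbackComp_inv_pullSect r' r (Twist.twist (CohB1.polyGrading n k) 1) ⊤
    (sec1 n k (Xi n k i))
  have h2 := pullSect_naturality r' τ.hom ⊤
    (pullSect r (Twist.twist (CohB1.polyGrading n k) 1) ⊤ (sec1 n k (Xi n k i)))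
  rw [hτ i] at h2
  have h3 := apply_linF hr' τ' hτ' (g i)
  have h4 : Matrix.vecMul (g i) h = (g * h) i := by
    funext j
    simp [Matrix.mul_apply, Matrix.vecMul, dotProduct]
  rw [h4] at h3
  change τ'.hom.app ⊤ (((Scheme.Modules.pullback r').map τ.hom).app ⊤
    (((Scheme.Modules.pullbackComp r' r).inv.app _).app ⊤ _)) = _
  exact (congrArg (fun x => τ'.hom.app ⊤ (((Scheme.Modules.pullback r').map τ.hom).app ⊤ x))
    h1).trans ((congrArg (fun x => τ'.hom.app ⊤ x) h2).trans h3)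

end Data

end Groth.Agent.Lib.Helper29.AutPn
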