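import Groth.Agent.Lib.Helper29.Aut2
import Groth.Agent.Lib.Helper29.RelAmple
set_option autoImplicit false
universe u
open CategoryTheory CategoryTheory.Limits AlgebraicGeometry TopologicalSpace Opposite DirectSum

namespace Groth.Agent.Lib.Helper29.AutPn
open Groth.Agent.Lib.Helper29.QCoh Groth.Agent.Lib.Helper29.ZeroSch Groth.Agent.Lib.Helper29.Pic

section Iso
variable {n : ℕ} {K : Type u} [Field K]

/-- The pullback of `O(1)` along an automorphism of projective space (of dimension `≥ 1`) is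
`O(1)`. -/
theorem nonempty_pullback_iso_twist_one_of_pos (hn : 1 ≤ n)
    (σ ρ : Proj (CohB1.polyGrading n K) ⟶ Proj (CohB1.polyGrading n K))
    [IsIso σ] [IsIso ρ] (hρσ : ρ ≫ σ = 𝟙 _) :
    Nonempty ((Scheme.Modules.pullback σ).obj (Twist.twist (CohB1.polyGrading n K) 1) ≅
      Twist.twist (CohB1.polyGrading n K) 1) := by
  have hcov := projSpace_degree_one_cover n K
  obtain ⟨hinv, htens, hpow⟩ :=
    twist_invertible_and_tensor (iSup_basicOpen_eq_top_of_forall hcov)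
  have hA : CohB1.IsAmple (Twist.twist (CohB1.polyGrading n K) 1) :=
    isAmple_twist_one_of_cover hcov
  -- the degrees of the two pullbacks
  have key : ∀ (α : Proj (CohB1.polyGrading n K) ⟶ Proj (CohB1.polyGrading n K)) [IsIso α],
      ∃ d : ℕ, 0 < d ∧ Nonempty ((Scheme.Modules.pullback α).obj
        (Twist.twist (CohB1.polyGrading n K) 1) ≅ Twist.twist (CohB1.polyGrading n K) (d : ℤ)) := by
    intro α _
    have hL := isInvertible_pullback α (hinv 1)
    obtain ⟨d, ⟨φ⟩⟩ := exists_iso_twist (n := n) (R := K) hL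
    have hamp : CohB1.IsAmple (Twist.twist (CohB1.polyGrading n K) d) :=
      isAmple_of_iso φ (isAmple_pullback_of_isAffineHom α hA)
    have hd : 0 < d := (isAmple_twist_iff n K hn d).mp hamp
    obtain ⟨e, he⟩ : ∃ e : ℕ, (e : ℤ) = d := ⟨d.toNat, by omega⟩
    subst he
    exact ⟨e, by omega, ⟨φ⟩⟩
  obtain ⟨d, hd, ⟨φ⟩⟩ := key σ
  obtain ⟨d', hd', ⟨φ'⟩⟩ := key ρ
  -- `O(1) ≅ O(d' * d)`
  obtain ⟨ψ⟩ := hpow d
  obtain ⟨θ⟩ := nonempty_pullbackTensorPowIso ρ (hinv 1) d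
  obtain ⟨κ⟩ := nonempty_tensorPow_twist_iso n K (d' : ℤ) d
  have e1 : Twist.twist (CohB1.polyGrading n K) 1 ≅
      Twist.twist (CohB1.polyGrading n K) ((d' : ℤ) * d) :=
    ((Scheme.Modules.pullbackId _).app _).symm ≪≫
      (pullbackCongrIso hρσ _).symm ≪≫ (pullbackCompIso ρ σ _).symm ≪≫
      (Scheme.Modules.pullback ρ).mapIso (φ ≪≫ ψ) ≪≫ θ ≪≫ tensorPowCongr φ' d ≪≫ κ
  have h1 := twist_iso_imp_eq n K hn _ _ e1
  have hd1 : d = 1 := by
    have h2 : d' * d = 1 := by exact_mod_cast h1.symm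
    exact Nat.eq_one_of_mul_eq_one_left h2
  subst hd1
  exact ⟨φ⟩

theorem nonempty_pullback_iso_twist_one
    (σ ρ : Proj (CohB1.polyGrading n K) ⟶ Proj (CohB1.polyGrading n K))
    [IsIso σ] [IsIso ρ] (hρσ : ρ ≫ σ = 𝟙 _) :
    Nonempty ((Scheme.Modules.pullback σ).obj (Twist.twist (CohB1.polyGrading n K) 1) ≅
      Twist.twist (CohB1.polyGrading n K) 1) := by
  rcases Nat.eq_zero_or_pos n with h0 | hpos
  · subst h0
    have hT1 : IsTriv (Twist.twist (CohB1.polyGrading 0 K) 1) ⊤ (sec1 0 K (Xi 0 K 0)) := by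
      apply isTriv_oneSecOn
      intro x _
      obtain ⟨i, hi⟩ := exists_mem_basicOpen_X 0 K x
      have : i = 0 := Fin.ext (by have := i.2; omega)
      subst this
      exact hi
    have hT2 := hT1.pullSect σ
    obtain ⟨φ, -⟩ := exists_iso_of_cocycle
      (M := (Scheme.Modules.pullback σ).obj (Twist.twist (CohB1.polyGrading 0 K) 1))
      (N := Twist.twist (CohB1.polyGrading 0 K) 1)
      (U := fun _ : Unit => (⊤ : (Proj (CohB1.polyGrading 0 K)).Opens))
      (m := fun _ => pullSect σ (Twist.twist (CohB1.polyGrading 0 K) 1) ⊤ (sec1 0 K (Xi 0 K 0)))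
      (n := fun _ => sec1 0 K (Xi 0 K 0))
      (fun x => ⟨(), trivial⟩) (fun _ => hT2) (fun _ => hT1)
      (fun _ _ => ⟨1, by rw [one_smul], by rw [one_smul]⟩)
    exact ⟨φ⟩
  · exact nonempty_pullback_iso_twist_one_of_pos hpos σ ρ hρσ

/-- Every automorphism of projective space over a field is given by a matrix. -/
theorem exists_hasData_of_isIso
    (σ ρ : Proj (CohB1.polyGrading n K) ⟶ Proj (CohB1.polyGrading n K))
    [IsIso σ] [IsIso ρ] (hρσ : ρ ≫ σ = 𝟙 _)
    (hσ : σ ≫ CohB1.ProjSpace.toSpec n K = CohB1.ProjSpace.toSpec n K) :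
    ∃ m, HasData σ m := by
  obtain ⟨τ⟩ := nonempty_pullback_iso_twist_one σ ρ hρσ
  have h1 : ∀ i, ∃ c : Fin (n + 1) → K,
      τ.hom.app ⊤ (pullSect σ (Twist.twist (CohB1.polyGrading n K) 1) ⊤
        (sec1 n K (Xi n K i))) = sec1 n K (linF n K c) := by
    intro i
    obtain ⟨b, hb⟩ := sec1_surjective n K (τ.hom.app ⊤
      (pullSect σ (Twist.twist (CohB1.polyGrading n K) 1) ⊤ (sec1 n K (Xi n K i))))
    obtain ⟨c, rfl⟩ := exists_eq_linF n K b
    exact ⟨c, hb.symm⟩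
  choose m hm using h1
  exact ⟨Matrix.of m, hσ, τ, hm⟩

end Iso

end Groth.Agent.Lib.Helper29.AutPn
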