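import Groth.Agent.Lib.Helper29.Aut3
set_option autoImplicit false
universe u
open CategoryTheory CategoryTheory.Limits AlgebraicGeometry TopologicalSpace Opposite DirectSum

namespace Groth.Agent.Lib.Helper29.AutPn
open Groth.Agent.Lib.Helper29.QCoh Groth.Agent.Lib.Helper29.ZeroSch Groth.Agent.Lib.Helper29.Pic

section Grp
variable (n : ℕ) (K : Type u) [Field K]

/-- The morphism attached to an invertible matrix. -/
noncomputable def rOf (g : Matrix.GeneralLinearGroup (Fin (n + 1)) K) :
    Proj (CohB1.polyGrading n K) ⟶ Proj (CohB1.polyGrading n K) := (exists_hasData g).choose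

theorem rOf_spec (g : Matrix.GeneralLinearGroup (Fin (n + 1)) K) : HasData (rOf n K g) g.1 :=
  (exists_hasData g).choose_spec

theorem rOf_mul (g h : Matrix.GeneralLinearGroup (Fin (n + 1)) K) :
    rOf n K h ≫ rOf n K g = rOf n K (g * h) :=
  HasData.unique ((rOf_spec n K g).comp (rOf_spec n K h)) (by
    have := rOf_spec n K (g * h)
    rwa [Units.val_mul] at this)

theorem rOf_eq_id_iff (g : Matrix.GeneralLinearGroup (Fin (n + 1)) K) :
    rOf n K g = 𝟙 _ ↔ ∃ c : Kˣ, g.1 = (c : K) • (1 : Matrix (Fin (n + 1)) (Fin (n + 1)) K) := by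
  constructor
  · intro h
    have := rOf_spec n K g
    rw [h] at this
    exact exists_scalar_of_hasData_id this
  · rintro ⟨c, hc⟩
    have h1 := rOf_spec n K g
    rw [hc] at h1
    exact HasData.unique h1 (hasData_id c)

theorem rOf_one : rOf n K 1 = 𝟙 _ :=
  (rOf_eq_id_iff n K 1).mpr ⟨1, by simp⟩

/-- The isomorphism attached to an invertible matrix. -/
noncomputable def isoOf (g : Matrix.GeneralLinearGroup (Fin (n + 1)) K) :
    Proj (CohB1.polyGrading n K) ≅ Proj (CohB1.polyGrading n K) where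
  hom := rOf n K g
  inv := rOf n K g⁻¹
  hom_inv_id := by rw [rOf_mul, inv_mul_cancel, rOf_one]
  inv_hom_id := by rw [rOf_mul, mul_inv_cancel, rOf_one]

/-- The automorphism attached to an invertible matrix. -/
noncomputable def autOf (g : Matrix.GeneralLinearGroup (Fin (n + 1)) K) :
    Aut (Over.mk (CohB1.ProjSpace.toSpec n K)) :=
  Over.isoMk (isoOf n K g) (rOf_spec n K g).1

theorem autOf_hom_left (g : Matrix.GeneralLinearGroup (Fin (n + 1)) K) :
    (autOf n K g).hom.left = rOf n K g := rfl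

/-- The homomorphism `GL_{n+1}(K) → Aut(P^n_K / K)`. -/
noncomputable def autHom :
    Matrix.GeneralLinearGroup (Fin (n + 1)) K →* Aut (Over.mk (CohB1.ProjSpace.toSpec n K)) where
  toFun := autOf n K
  map_one' := by
    apply Iso.ext
    apply Over.OverMorphism.ext
    exact rOf_one n K
  map_mul' := by
    intro g h
    apply Iso.ext
    apply Over.OverMorphism.ext
    exact (rOf_mul n K g h).symm

theorem autHom_apply (g : Matrix.GeneralLinearGroup (Fin (n + 1)) K) :
    autHom n K g = autOf n K g := rfl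

theorem autHom_surjective : Function.Surjective (autHom n K) := by
  intro σ
  obtain ⟨s, hs⟩ : ∃ s : Proj (CohB1.polyGrading n K) ⟶ Proj (CohB1.polyGrading n K),
    s = σ.hom.left := ⟨_, rfl⟩
  obtain ⟨s', hs'⟩ : ∃ s' : Proj (CohB1.polyGrading n K) ⟶ Proj (CohB1.polyGrading n K),
    s' = σ.inv.left := ⟨_, rfl⟩
  have h1 : s ≫ s' = 𝟙 _ := by
    rw [hs, hs']
    exact congrArg CommaMorphism.left σ.hom_inv_id
  have h2 : s' ≫ s = 𝟙 _ := by
    rw [hs, hs']
    exact congrArg CommaMorphism.left σ.inv_hom_id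
  have hw : s ≫ CohB1.ProjSpace.toSpec n K = CohB1.ProjSpace.toSpec n K := by
    rw [hs]; exact Over.w σ.hom
  have hw' : s' ≫ CohB1.ProjSpace.toSpec n K = CohB1.ProjSpace.toSpec n K := by
    rw [hs']; exact Over.w σ.inv
  have : IsIso s := ⟨s', h1, h2⟩
  have : IsIso s' := ⟨s, h2, h1⟩
  obtain ⟨m, hm⟩ := exists_hasData_of_isIso s s' h2 hw
  obtain ⟨m', hm'⟩ := exists_hasData_of_isIso s' s h1 hw'
  have h3 := hm.comp hm'
  rw [h2] at h3
  obtain ⟨c, hc⟩ := exists_scalar_of_hasData_id h3
  have h4 : m * ((c⁻¹ : Kˣ) : K) • m' = 1 := by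
    rw [Matrix.mul_smul, hc, smul_smul, Units.inv_mul, one_smul]
  let g : Matrix.GeneralLinearGroup (Fin (n + 1)) K :=
    ⟨m, ((c⁻¹ : Kˣ) : K) • m', h4, mul_eq_one_comm.mp h4⟩
  refine ⟨g, ?_⟩
  apply Iso.ext
  apply Over.OverMorphism.ext
  change rOf n K g = σ.hom.left
  rw [← hs]
  exact HasData.unique (rOf_spec n K g) hm

theorem autHom_ker : (autHom n K).ker =
    (Units.map (Matrix.scalar (Fin (n + 1)) :
      K →+* Matrix (Fin (n + 1)) (Fin (n + 1)) K).toMonoidHom).range := by
  ext g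
  rw [MonoidHom.mem_ker, MonoidHom.mem_range]
  have key : autHom n K g = 1 ↔ rOf n K g = 𝟙 _ := by
    constructor
    · intro h
      have := congrArg (fun a : Aut (Over.mk (CohB1.ProjSpace.toSpec n K)) => a.hom.left) h
      exact this
    · intro h
      apply Iso.ext
      apply Over.OverMorphism.ext
      exact h
  rw [key, rOf_eq_id_iff]
  constructor
  · rintro ⟨c, hc⟩
    refine ⟨c, Units.ext ?_⟩
    rw [hc]
    change Matrix.scalar (Fin (n + 1)) (c : K) = _
    rw [Matrix.scalar_apply, Matrix.smul_one_eq_diagonal]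
  · rintro ⟨c, hc⟩
    refine ⟨c, ?_⟩
    rw [← hc]
    change Matrix.scalar (Fin (n + 1)) (c : K) = _
    rw [Matrix.scalar_apply, Matrix.smul_one_eq_diagonal]

end Grp

end Groth.Agent.Lib.Helper29.AutPn
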