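import Groth.Agent.Lib.Helper29.MonAttr4
import Groth.Agent.Lib.Helper29.AffLine

/-! Points of the affine line monoid `A(ℕ)`, the limit map `x ↦ 0 • x`, and the polynomial form of
the coaction (S18959, helper29). -/

set_option autoImplicit false
universe u
open CategoryTheory CategoryTheory.Limits MonoidalCategory CartesianMonoidalCategory MonObj
  AlgebraicGeometry Opposite
open TensorProduct
open Magnet

namespace Groth.Agent.Lib.Helper29.BB

open Groth.Agent.Lib.Helper29.MonAttr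
open Groth.Agent.Lib.Helper10.AMonPts

attribute [local instance] Groth.Agent.Lib.Helper29.MonAttr.algΓ

variable {S : Scheme.{u}}

/-- character of `ℕ` given by an element -/
def chiN {B : Type u} [CommRing B] (c : B) : Multiplicative ℕ →* B where
  toFun n := c ^ (Multiplicative.toAdd n)
  map_one' := by simp
  map_mul' a b := by rw [toAdd_mul, pow_add]

/-- the point of the affine line with coordinate `c` -/
noncomputable def ptN {T : Over S} (c : Γ(T.left, ⊤)) : T ⟶ AMonS S ℕ := amPt (chiN c)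

theorem amFn_ptN {T : Over S} (n : ℕ) (c : Γ(T.left, ⊤)) :
    amFn n (ptN (S := S) c) = c ^ n := amFn_amPt _ _

theorem ptN_comp {T T' : Over S} (g : T' ⟶ T) (c : Γ(T.left, ⊤)) :
    g ≫ ptN c = ptN (g.left.appTop.hom c) := by
  apply amFn_injective
  intro n
  rw [amFn_comp, amFn_ptN, amFn_ptN]
  exact map_pow _ _ _

theorem amFn_nat {T : Over S} (g : T ⟶ AMonS S ℕ) (n : ℕ) : amFn n g = amFn 1 g ^ n := by
  induction n with
  | zero => rw [pow_zero]; exact amFn_zero g
  | succ n ih => rw [amFn_add, ih, pow_succ]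

theorem ptN_amFn {T : Over S} (g : T ⟶ AMonS S ℕ) : ptN (amFn 1 g) = g := by
  apply amFn_injective
  intro n
  rw [amFn_ptN, ← amFn_nat]

theorem mul_ptN_zero {T : Over S} (g : T ⟶ AMonS S ℕ) : g * ptN 0 = ptN 0 := by
  apply amFn_injective
  intro n
  rw [amFn_mul, amFn_ptN]
  cases n with
  | zero => rw [pow_zero, _root_.mul_one]; exact amFn_zero g
  | succ n => rw [pow_succ, mul_zero, mul_zero]

section Retraction

variable {X Y : Over S} (a : Magnet.MonAct (AMonS S ℕ) X) (b : Magnet.MonAct (AMonS S ℕ) Y)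

/-- the limit point `0 • x` -/
noncomputable def rr {T : Over S} (x : T ⟶ X) : T ⟶ X := lift (ptN 0) x ≫ a.act

theorem comp_rr {T T' : Over S} (t : T' ⟶ T) (x : T ⟶ X) : t ≫ rr a x = rr a (t ≫ x) := by
  unfold rr
  rw [← Category.assoc, comp_lift, ptN_comp, map_zero]

/-- fixed points -/
def IsFix {T : Over S} (x : T ⟶ X) : Prop :=
  ∀ (T' : Over S) (t : T' ⟶ T) (g : T' ⟶ AMonS S ℕ), lift g (t ≫ x) ≫ a.act = t ≫ x

theorem IsFix.comp {T T' : Over S} {x : T ⟶ X} (h : IsFix a x) (t : T' ⟶ T) : IsFix a (t ≫ x) := by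
  intro T'' t' g
  rw [← Category.assoc]
  exact h T'' (t' ≫ t) g

theorem rr_isFix {T : Over S} (x : T ⟶ X) : IsFix a (rr a x) := by
  intro T' t g
  rw [comp_rr]
  unfold rr
  rw [← a.lift_mul_act, mul_ptN_zero]

theorem rr_of_isFix {T : Over S} (x : T ⟶ X) (h : IsFix a x) : rr a x = x := by
  have := h T (𝟙 T) (ptN 0)
  rwa [Category.id_comp] at this

theorem rr_comp_of_equivariant (f : X ⟶ Y) (hf : Magnet.MonAct.IsEquivariant a b f)
    {T : Over S} (x : T ⟶ X) : rr a x ≫ f = rr b (x ≫ f) := by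
  unfold rr
  rw [Category.assoc]
  exact ((Magnet.MonAct.isEquivariant_iff a b f).mp hf) T _ x

theorem IsFix.map {f : X ⟶ Y} (hf : Magnet.MonAct.IsEquivariant a b f) {T : Over S} {x : T ⟶ X}
    (h : IsFix a x) : IsFix b (x ≫ f) := by
  intro T' t g
  rw [← Category.assoc, ← ((Magnet.MonAct.isEquivariant_iff a b f).mp hf) T' g (t ≫ x),
    ← Category.assoc, h T' t g]

end Retraction

section Poly

variable (k : Type u) [CommRing k]

/-- induction principle for `k[G] ⊗ C` -/
theorem tensor_induction {G : Type} [CommMonoid G] {C : Type u} [CommRing C] [Algebra k C]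
    {P : MonoidAlgebra k G ⊗[k] C → Prop}
    (h0 : P 0) (hadd : ∀ x y, P x → P y → P (x + y))
    (hs : ∀ (m : G) (c : C), P ((MonoidAlgebra.single m 1 : MonoidAlgebra k G) ⊗ₜ[k] c)) :
    ∀ w, P w := by
  intro w
  induction w using TensorProduct.induction_on with
  | zero => exact h0
  | tmul x c =>
    induction x using MonoidAlgebra.induction_linear with
    | zero => rw [TensorProduct.zero_tmul]; exact h0
    | add x y hx hy => rw [TensorProduct.add_tmul]; exact hadd _ _ hx hy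
    | single m' r =>
      have h1 : (MonoidAlgebra.single m' r : MonoidAlgebra k G) ⊗ₜ[k] c =
          (MonoidAlgebra.single m' 1 : MonoidAlgebra k G) ⊗ₜ[k] (r • c) := by
        rw [← TensorProduct.smul_tmul, MonoidAlgebra.smul_single, smul_eq_mul, _root_.mul_one]
      rw [h1]
      exact hs m' _
  | add y z hy hz => exact hadd _ _ hy hz

variable (C : Type u) [CommRing C] [Algebra k C]

/-- the polynomial realisation of `k[ℕ] ⊗ C` -/
noncomputable def toPoly : MonoidAlgebra k (Multiplicative ℕ) ⊗[k] C →ₐ[k] Polynomial C :=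
  Algebra.TensorProduct.productMap
    (MonoidAlgebra.lift k (Polynomial C) (Multiplicative ℕ) (chiN (Polynomial.X : Polynomial C)))
    (Polynomial.CAlgHom : C →ₐ[k] Polynomial C)

theorem toPoly_single_tmul (m : Multiplicative ℕ) (c : C) :
    toPoly k C ((MonoidAlgebra.single m 1 : MonoidAlgebra k (Multiplicative ℕ)) ⊗ₜ[k] c) =
      Polynomial.X ^ (Multiplicative.toAdd m) * Polynomial.C c := by
  unfold toPoly
  rw [Algebra.TensorProduct.productMap_apply_tmul, MonoidAlgebra.lift_single, one_smul]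
  rfl

theorem coeff_toPoly (w : MonoidAlgebra k (Multiplicative ℕ) ⊗[k] C) (n : ℕ) :
    (toPoly k C w).coeff n = MonAttrAlg.cf k (Multiplicative.ofAdd n) C w := by
  classical
  revert w
  apply tensor_induction
  · simp
  · intro x y hx hy
    rw [map_add, map_add, Polynomial.coeff_add, hx, hy]
  · intro m c
    rw [toPoly_single_tmul, MonAttrAlg.cf_tmul, MonoidAlgebra.coeff_single, Finsupp.single_apply,
      mul_comm, Polynomial.coeff_C_mul_X_pow]
    by_cases h : n = Multiplicative.toAdd m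
    · rw [if_pos h, if_pos (by rw [h]; rfl), one_smul]
    · rw [if_neg h, if_neg (fun h' => h (by rw [h']; rfl)), zero_smul]

variable {C}

theorem toPoly_natural {D : Type u} [CommRing D] [Algebra k D] (θ : C →ₐ[k] D)
    (w : MonoidAlgebra k (Multiplicative ℕ) ⊗[k] C) :
    toPoly k D (Algebra.TensorProduct.map (AlgHom.id k (MonoidAlgebra k (Multiplicative ℕ))) θ w) =
      (toPoly k C w).map (θ : C →+* D) := by
  revert w
  apply tensor_induction
  · simp
  · intro x y hx hy
    rw [map_add, map_add, map_add, hx, hy, Polynomial.map_add]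
  · intro m c
    rw [Algebra.TensorProduct.map_tmul, AlgHom.id_apply, toPoly_single_tmul, toPoly_single_tmul,
      Polynomial.map_mul, Polynomial.map_pow, Polynomial.map_X, Polynomial.map_C]
    rfl

end Poly

section Eval

set_option backward.isDefEq.respectTransparency.types false in
set_option maxHeartbeats 1000000 in
/-- **evaluation formula** for functions on `A(ℕ) × T` at a point `(g, t)`. -/
theorem appAlg_lift_Θ {T T' : Over S} (g : T' ⟶ AMonS S ℕ) (t : T' ⟶ T)
    (w : AA.{u} ℕ ⊗[k₀.{u}] Γ(T.left, ⊤)) :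
    appAlg (lift g t) (Θ ℕ T w) =
      (toPoly k₀.{u} Γ(T.left, ⊤) w).eval₂ ((appAlg t : Γ(T.left, ⊤) →ₐ[k₀.{u}] Γ(T'.left, ⊤)) :
        Γ(T.left, ⊤) →+* Γ(T'.left, ⊤)) (amFn 1 g) := by
  revert w
  refine tensor_induction k₀.{u} (G := Multiplicative ℕ) (C := Γ(T.left, ⊤))
    (P := fun w => appAlg (lift g t) (Θ ℕ T w) =
      (toPoly k₀.{u} Γ(T.left, ⊤) w).eval₂ ((appAlg t : Γ(T.left, ⊤) →ₐ[k₀.{u}] Γ(T'.left, ⊤)) :
        Γ(T.left, ⊤) →+* Γ(T'.left, ⊤)) (amFn 1 g)) ?_ ?_ ?_
  · simp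
  · intro x y hx hy
    rw [map_add, map_add, map_add, hx, hy, Polynomial.eval₂_add]
  · intro m c
    rw [toPoly_single_tmul, Θ_tmul, map_mul, ← appAlg_comp, lift_snd, Polynomial.eval₂_mul,
      Polynomial.eval₂_pow, Polynomial.eval₂_X, Polynomial.eval₂_C]
    have h1 : appAlg (lift g t) (chi ℕ T (MonoidAlgebra.single m 1)) = amFn 1 g ^ (Multiplicative.toAdd m) := by
      have h2 := appAlg_chi_single ℕ (lift g t) (Multiplicative.toAdd m)
      rw [lift_fst, amFn_nat] at h2
      exact h2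
    rw [h1]
    rfl

variable {X Y : Over S} (a : Magnet.MonAct (AMonS S ℕ) X) (b : Magnet.MonAct (AMonS S ℕ) Y)

/-- the coaction, with values in polynomials -/
noncomputable def alpha [IsAffine X.left] : Γ(X.left, ⊤) →+* Polynomial Γ(X.left, ⊤) :=
  ((toPoly k₀.{u} Γ(X.left, ⊤) : _ →ₐ[k₀.{u}] _) : _ →+* _).comp (coact a)

theorem alpha_apply [IsAffine X.left] (c : Γ(X.left, ⊤)) :
    alpha a c = toPoly k₀.{u} Γ(X.left, ⊤) (coact a c) := rfl

theorem coeff_alpha [IsAffine X.left] (c : Γ(X.left, ⊤)) (n : ℕ) :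
    (alpha a c).coeff n = MonAttrAlg.cf k₀.{u} (Multiplicative.ofAdd n) Γ(X.left, ⊤) (coact a c) := by
  rw [alpha_apply, coeff_toPoly]

theorem appAlg_act_lift [IsAffine X.left] {T : Over S} (g : T ⟶ AMonS S ℕ) (x : T ⟶ X)
    (c : Γ(X.left, ⊤)) :
    appAlg (lift g x ≫ a.act) c =
      (alpha a c).eval₂ ((appAlg x : Γ(X.left, ⊤) →ₐ[k₀.{u}] Γ(T.left, ⊤)) :
        Γ(X.left, ⊤) →+* Γ(T.left, ⊤)) (amFn 1 g) := by
  rw [appAlg_comp, ← Θ_coact, appAlg_lift_Θ]
  rfl

theorem alpha_counit [IsAffine X.left] (c : Γ(X.left, ⊤)) : (alpha a c).eval 1 = c := by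
  have h := appAlg_act_lift a (1 : X ⟶ AMonS S ℕ) (𝟙 X) c
  rw [a.lift_one_act, amFn_one] at h
  have h1 : ((appAlg (𝟙 X) : Γ(X.left, ⊤) →ₐ[k₀.{u}] Γ(X.left, ⊤)) : Γ(X.left, ⊤) →+* Γ(X.left, ⊤)) =
      RingHom.id _ := by
    ext s
    change (𝟙 X : X ⟶ X).left.appTop.hom s = s
    simp
  rw [h1, Polynomial.eval₂_id] at h
  rw [← h]
  change (𝟙 X : X ⟶ X).left.appTop.hom c = c
  simp

theorem alpha_homog [IsAffine X.left] (c : Γ(X.left, ⊤)) (n : ℕ) :
    alpha a ((alpha a c).coeff n) = Polynomial.C ((alpha a c).coeff n) * Polynomial.X ^ n := by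
  rw [coeff_alpha, alpha_apply, homog a c (Multiplicative.ofAdd n), toPoly_single_tmul, mul_comm]
  rfl

theorem rr_appAlg [IsAffine X.left] {T : Over S} (x : T ⟶ X) (c : Γ(X.left, ⊤)) :
    appAlg (rr a x) c = appAlg x ((alpha a c).coeff 0) := by
  unfold rr
  rw [appAlg_act_lift, amFn_ptN, pow_one, Polynomial.eval₂_at_zero]
  rfl

set_option backward.isDefEq.respectTransparency.types false in
theorem alpha_equivariant [IsAffine X.left] [IsAffine Y.left] (f : X ⟶ Y)
    (hf : Magnet.MonAct.IsEquivariant a b f) (c : Γ(Y.left, ⊤)) :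
    alpha a (appAlg f c) = (alpha b c).map ((appAlg f : Γ(Y.left, ⊤) →ₐ[k₀.{u}] Γ(X.left, ⊤)) :
      Γ(Y.left, ⊤) →+* Γ(X.left, ⊤)) := by
  have h1 : coact a (appAlg f c) = Algebra.TensorProduct.map (AlgHom.id k₀.{u} (AA.{u} ℕ))
      (appAlg f) (coact b c) := by
    apply (Θ_bijective ℕ X).1
    rw [Θ_coact, ← appAlg_comp, ← Θ_whiskerLeft, Θ_coact, ← appAlg_comp]
    unfold Magnet.MonAct.IsEquivariant at hf
    rw [hf]
  rw [alpha_apply, h1, toPoly_natural]
  rfl

end Eval

end Groth.Agent.Lib.Helper29.BB
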