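import Mathlib

/-! Graded algebra via polynomial coactions: graded Nakayama and a local injectivity criterion
(S18959, helper29). -/

set_option autoImplicit false

namespace Groth.Agent.Lib.Helper29.BB

open Polynomial

section Graded

variable {B : Type*} [CommRing B] (α : B →+* B[X])

/-- the `n`-th homogeneous component -/
noncomputable def pp (n : ℕ) (b : B) : B := (α b).coeff n

/-- a polynomial coaction: counit and homogeneity of components -/
structure IsGr : Prop where
  counit : ∀ b, (α b).eval 1 = b
  homog : ∀ b n, α ((α b).coeff n) = C ((α b).coeff n) * X ^ n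

/-- the irrelevant ideal -/
def plus : Ideal B := Ideal.span {x | ∃ (n : ℕ) (b : B), 0 < n ∧ x = pp α n b}

variable {α}

theorem pp_add (n : ℕ) (b c : B) : pp α n (b + c) = pp α n b + pp α n c := by simp [pp]

theorem pp_sub (n : ℕ) (b c : B) : pp α n (b - c) = pp α n b - pp α n c := by simp [pp]

theorem pp_zero' (n : ℕ) : pp α n 0 = 0 := by simp [pp]

theorem pp_zero_one : pp α 0 1 = 1 := by simp [pp]

theorem pp_pp (h : IsGr α) (n m : ℕ) (b : B) :
    pp α n (pp α m b) = if n = m then pp α m b else 0 := by
  unfold pp
  rw [h.homog, coeff_C_mul_X_pow]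

theorem pp_mul (n : ℕ) (b c : B) :
    pp α n (b * c) = ∑ x ∈ Finset.HasAntidiagonal.antidiagonal n, pp α x.1 b * pp α x.2 c := by
  unfold pp
  rw [map_mul, coeff_mul]

theorem pp_zero_mul (b c : B) : pp α 0 (b * c) = pp α 0 b * pp α 0 c := by
  rw [pp_mul]
  simp

theorem sum_pp (h : IsGr α) (b : B) :
    b = ∑ n ∈ Finset.range ((α b).natDegree + 1), pp α n b := by
  conv_lhs => rw [← h.counit b, eval_eq_sum_range]
  simp [pp]

theorem pp_zero_of_mem_plus (h : IsGr α) {z : B} (hz : z ∈ plus α) : pp α 0 z = 0 := by
  unfold plus at hz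
  induction hz using Submodule.span_induction with
  | mem x hx =>
    obtain ⟨n, b, hn, rfl⟩ := hx
    rw [pp_pp h, if_neg (by omega)]
  | zero => exact pp_zero' 0
  | add x y _ _ hx hy => rw [pp_add, hx, hy, add_zero]
  | smul c x _ hx => rw [smul_eq_mul, pp_zero_mul, hx, mul_zero]

theorem pp_mem_plus {n : ℕ} (hn : 0 < n) (b : B) : pp α n b ∈ plus α :=
  Ideal.subset_span ⟨n, b, hn, rfl⟩

theorem sub_pp_zero_mem_plus (h : IsGr α) (b : B) : b - pp α 0 b ∈ plus α := by
  have h1 := sum_pp h b
  rw [Finset.sum_range_succ'] at h1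
  have h2 : b - pp α 0 b = ∑ n ∈ Finset.range (α b).natDegree, pp α (n + 1) b := by
    rw [sub_eq_iff_eq_add]
    exact h1
  rw [h2]
  exact Ideal.sum_mem _ (fun n _ => pp_mem_plus (Nat.succ_pos n) b)

/-- **graded Nakayama**. -/
theorem surjective_of {A : Type*} [CommRing A] {αA : A →+* A[X]} (hA : IsGr αA) (hB : IsGr α)
    (φ : A →+* B) (hφ : ∀ a, α (φ a) = (αA a).map φ)
    (h1 : ∀ b, ∃ a, b - φ a ∈ plus α)
    (h2 : plus α ≤ Ideal.map φ (plus αA)) : Function.Surjective φ := by
  have hpφ : ∀ n a, pp α n (φ a) = φ (pp αA n a) := by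
    intro n a
    unfold pp
    rw [hφ, coeff_map]
  have key : ∀ n b, pp α n b ∈ φ.range := by
    intro n
    induction n using Nat.strong_induction_on with
    | _ n ih =>
      intro b
      rcases Nat.eq_zero_or_pos n with rfl | hn
      · obtain ⟨a, ha⟩ := h1 b
        have h3 := pp_zero_of_mem_plus hB ha
        rw [pp_sub, hpφ, sub_eq_zero] at h3
        rw [h3]
        exact ⟨_, rfl⟩
      · have hz' := h2 (pp_mem_plus hn b)
        have claim : ∀ z ∈ Ideal.map φ (plus αA), pp α 0 z = 0 ∧ pp α n z ∈ φ.range := by
          intro z hz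
          unfold Ideal.map at hz
          induction hz using Submodule.span_induction with
          | mem x hx =>
            obtain ⟨a, ha, rfl⟩ := hx
            refine ⟨?_, ?_⟩
            · rw [hpφ, pp_zero_of_mem_plus hA ha, map_zero]
            · rw [hpφ]
              exact ⟨_, rfl⟩
          | zero => exact ⟨pp_zero' 0, by rw [pp_zero']; exact Subring.zero_mem _⟩
          | add x y _ _ hx hy =>
            exact ⟨by rw [pp_add, hx.1, hy.1, add_zero],
              by rw [pp_add]; exact Subring.add_mem _ hx.2 hy.2⟩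
          | smul c x _ hx =>
            rw [smul_eq_mul]
            refine ⟨by rw [pp_zero_mul, hx.1, mul_zero], ?_⟩
            rw [pp_mul]
            apply Subring.sum_mem
            rintro ⟨i, j⟩ hij
            rw [Finset.HasAntidiagonal.mem_antidiagonal] at hij
            dsimp only at hij ⊢
            by_cases hi : i = n
            · have hj : j = 0 := by omega
              subst hj
              rw [hx.1, mul_zero]
              exact Subring.zero_mem _
            · by_cases hi0 : i = 0
              · have hj : j = n := by omega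
                subst hj
                subst hi0
                exact Subring.mul_mem _ (ih 0 hn c) hx.2
              · exact Subring.mul_mem _ (ih i (by omega) c) (ih j (by omega) x)
        have h4 := (claim _ hz').2
        rwa [pp_pp hB, if_pos rfl] at h4
  intro b
  rw [sum_pp hB b]
  exact RingHom.mem_range.mp (Subring.sum_mem _ (fun n _ => key n b))

/-- **local injectivity criterion**: an element all of whose homogeneous components vanish near
every closed point of the fixed locus is zero. -/
theorem eq_zero_of_local (h : IsGr α) (y : B)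
    (hy : ∀ (n : ℕ) (𝔭 : Ideal B), 𝔭.IsMaximal → plus α ≤ 𝔭 → ∃ s, s ∉ 𝔭 ∧ s * pp α n y = 0) :
    y = 0 := by
  rw [sum_pp h y]
  apply Finset.sum_eq_zero
  intro n _
  by_contra hne
  set z := pp α n y with hz
  let I : Ideal B := LinearMap.ker (LinearMap.toSpanSingleton B B z)
  have hI : ∀ s, s ∈ I ↔ s * z = 0 := by
    intro s
    change LinearMap.toSpanSingleton B B z s = 0 ↔ _
    rw [LinearMap.toSpanSingleton_apply, smul_eq_mul]
  have hzz : ∀ l, pp α l z = if l = n then z else 0 := fun l => pp_pp h l n y
  have hne_top : I ⊔ plus α ≠ ⊤ := by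
    intro htop
    have h1 : (1 : B) ∈ I ⊔ plus α := by rw [htop]; trivial
    obtain ⟨i, hi, c, hc, hic⟩ := Submodule.mem_sup.mp h1
    have h2 : pp α 0 i = 1 := by
      have h3 := congrArg (pp α 0) hic
      rw [pp_add, pp_zero_of_mem_plus h hc, add_zero, pp_zero_one] at h3
      exact h3
    have h4 : pp α n (i * z) = pp α 0 i * z := by
      rw [pp_mul]
      rw [Finset.sum_eq_single (0, n)]
      · dsimp only
        rw [hzz, if_pos rfl]
      · rintro ⟨k, l⟩ hkl hne'
        rw [Finset.HasAntidiagonal.mem_antidiagonal] at hkl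
        dsimp only at hkl ⊢
        rw [hzz, if_neg, mul_zero]
        intro hl
        apply hne'
        have hk : k = 0 := by omega
        rw [hk, hl]
      · intro hnot
        exact absurd (Finset.HasAntidiagonal.mem_antidiagonal.mpr (by simp)) hnot
    rw [(hI i).mp hi, pp_zero', h2, one_mul] at h4
    exact hne h4.symm
  obtain ⟨𝔭, hmax, hle⟩ := Ideal.exists_le_maximal _ hne_top
  obtain ⟨s, hs, hsz⟩ := hy n 𝔭 hmax (le_trans le_sup_right hle)
  exact hs (hle (Submodule.mem_sup_left ((hI s).mpr hsz)))

end Graded

end Groth.Agent.Lib.Helper29.BB
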