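import Groth.Agent.Lib.Helper29.BB1

/-! Lemma C: an invariant open containing the limit point `0 • x` of a field-valued point contains
the point itself (S18959, helper29). -/

set_option autoImplicit false
universe u
open CategoryTheory CategoryTheory.Limits MonoidalCategory CartesianMonoidalCategory MonObj
  AlgebraicGeometry Opposite
open TensorProduct
open Magnet

namespace Groth.Agent.Lib.Helper29.BB

open Groth.Agent.Lib.Helper29.MonAttr
open Groth.Agent.Lib.Helper10.AMonPts

attribute [local instance] Groth.Agent.Lib.Helper29.MonAttr.algΓ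

variable {S : Scheme.{u}} {X : Over S} (a : Magnet.MonAct (AMonS S ℕ) X)

/-- acting preserves an invariant open -/
theorem act_mem_of_mem (U : X.left.Opens)
    (hU : (CartesianMonoidalCategory.snd (AMonS S ℕ) X).left ⁻¹ᵁ U ≤ a.act.left ⁻¹ᵁ U)
    {T : Over S} (g : T ⟶ AMonS S ℕ) (y : T ⟶ X) (q : T.left) (hq : y.left q ∈ U) :
    (lift g y ≫ a.act).left q ∈ U := by
  have h1 : (lift g y).left q ∈ (CartesianMonoidalCategory.snd (AMonS S ℕ) X).left ⁻¹ᵁ U := by
    change (CartesianMonoidalCategory.snd (AMonS S ℕ) X).left ((lift g y).left q) ∈ U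
    rw [← Scheme.Hom.comp_apply, ← Over.comp_left, lift_snd]
    exact hq
  have h2 := hU h1
  change a.act.left ((lift g y).left q) ∈ U at h2
  rw [← Scheme.Hom.comp_apply, ← Over.comp_left] at h2
  exact h2

set_option backward.isDefEq.respectTransparency.types false in
set_option maxHeartbeats 2000000 in
/-- **Lemma C**. -/
theorem lemmaC (U : X.left.Opens)
    (hU : (CartesianMonoidalCategory.snd (AMonS S ℕ) X).left ⁻¹ᵁ U ≤ a.act.left ⁻¹ᵁ U)
    (K : Type u) [Field K] (s : Spec (CommRingCat.of K) ⟶ S) (x : Over.mk s ⟶ X)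
    (p : Spec (CommRingCat.of K)) (h : (rr a x).left p ∈ U) : x.left p ∈ U := by
  classical
  let T : Over S := Over.mk s
  haveI : IsAffine T.left := inferInstanceAs (IsAffine (Spec (CommRingCat.of K)))
  haveI : IsAffine (AMonS S ℕ ⊗ T).left := by
    change IsAffine (pullback (AMonS S ℕ).hom T.hom)
    infer_instance
  let C := Γ(T.left, ⊤)
  let eK : C ≃+* K := (Scheme.ΓSpecIso (CommRingCat.of K)).commRingCatIsoToRingEquiv
  haveI : IsDomain C := MulEquiv.isDomain K eK.toMulEquiv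
  let ω : AMonS S ℕ ⊗ T ⟶ X := (AMonS S ℕ ◁ x) ≫ a.act
  let O : (AMonS S ℕ ⊗ T).left.Opens := ω.left ⁻¹ᵁ U
  let z₀ : (AMonS S ℕ ⊗ T).left := (lift (ptN 0) (𝟙 T)).left p
  have hz₀ : z₀ ∈ O := by
    change ω.left ((lift (ptN 0) (𝟙 T)).left p) ∈ U
    rw [← Scheme.Hom.comp_apply, ← Over.comp_left]
    have : lift (ptN 0) (𝟙 T) ≫ ω = rr a x := by
      change lift (ptN 0) (𝟙 T) ≫ (AMonS S ℕ ◁ x) ≫ a.act = _
      rw [lift_whiskerLeft_assoc, Category.id_comp]
      rfl
    rw [this]
    exact h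
  obtain ⟨D, ⟨sfun, rfl⟩, hzD, hDO⟩ :=
    (TopologicalSpace.Opens.isBasis_iff_nbhd.mp (isBasis_basicOpen (AMonS S ℕ ⊗ T).left)) hz₀
  obtain ⟨w, hw⟩ := (Θ_bijective ℕ T).2 sfun
  let P : Polynomial C := toPoly k₀.{u} C w
  have hP : P ≠ 0 := by
    intro hP0
    have h1 : p ∈ (lift (ptN (S := S) 0) (𝟙 T)).left ⁻¹ᵁ ((AMonS S ℕ ⊗ T).left.basicOpen sfun) := hzD
    rw [Scheme.preimage_basicOpen_top] at h1
    have h2 : (lift (ptN (S := S) 0) (𝟙 T)).left.appTop.hom sfun = 0 := by
      have h3 := appAlg_lift_Θ (ptN (S := S) 0) (𝟙 T) w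
      rw [hw] at h3
      change appAlg (lift (ptN 0) (𝟙 T)) sfun = 0
      rw [h3]
      change Polynomial.eval₂ _ _ P = 0
      rw [hP0, Polynomial.eval₂_zero]
    change p ∈ T.left.basicOpen ((lift (ptN (S := S) 0) (𝟙 T)).left.appTop.hom sfun) at h1
    rw [h2, Scheme.basicOpen_zero] at h1
    exact h1
  -- the field of rational functions
  let L := FractionRing (Polynomial C)
  let eL : Γ(Spec (CommRingCat.of L), ⊤) ≃+* L :=
    (Scheme.ΓSpecIso (CommRingCat.of L)).commRingCatIsoToRingEquiv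
  let jK : K →+* L := (algebraMap C L).comp (eK.symm : K →+* C)
  let tL₀ : Spec (CommRingCat.of L) ⟶ Spec (CommRingCat.of K) := Spec.map (CommRingCat.ofHom jK)
  let TL : Over S := Over.mk (tL₀ ≫ s)
  let tL : TL ⟶ T := Over.homMk tL₀ rfl
  have htL : ∀ c : C, eL (appAlg tL c) = algebraMap C L c := by
    intro c
    have h1 := Scheme.ΓSpecIso_naturality (CommRingCat.ofHom jK)
    have h2 := congrArg (fun t => t.hom c) h1
    change (Scheme.ΓSpecIso (CommRingCat.of L)).hom.hom (tL₀.appTop.hom c) =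
      jK ((Scheme.ΓSpecIso (CommRingCat.of K)).hom.hom c) at h2
    change (Scheme.ΓSpecIso (CommRingCat.of L)).hom.hom (tL₀.appTop.hom c) = _
    rw [h2]
    change algebraMap C L (eK.symm (eK c)) = _
    rw [RingEquiv.symm_apply_apply]
  let xL : L := algebraMap (Polynomial C) L Polynomial.X
  have hxL : xL ≠ 0 := by
    intro h0
    have := (IsFractionRing.injective (Polynomial C) L) (h0.trans (map_zero _).symm)
    exact Polynomial.X_ne_zero this
  let u : Γ(TL.left, ⊤) := eL.symm xL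
  let u' : Γ(TL.left, ⊤) := eL.symm xL⁻¹
  have huu : u' * u = 1 := by
    change eL.symm xL⁻¹ * eL.symm xL = 1
    rw [← map_mul, inv_mul_cancel₀ hxL, map_one]
  let g : TL ⟶ AMonS S ℕ := ptN u
  let g' : TL ⟶ AMonS S ℕ := ptN u'
  have hgg : g' * g = 1 := by
    apply amFn_injective
    intro n
    rw [amFn_mul, amFn_ptN, amFn_ptN, amFn_one, ← mul_pow, huu, one_pow]
  obtain ⟨q⟩ : Nonempty (Spec (CommRingCat.of L)) := inferInstance
  -- the generic point lies in the basic open
  have hv : IsUnit (appAlg (lift g tL) sfun) := by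
    rw [← hw, appAlg_lift_Θ, amFn_ptN, pow_one]
    apply (isUnit_map_iff eL _).mp
    change IsUnit ((eL.toRingHom : Γ(TL.left, ⊤) →+* L) (Polynomial.eval₂ _ u P))
    rw [Polynomial.hom_eval₂]
    have h1 : (eL.toRingHom : Γ(TL.left, ⊤) →+* L).comp
        ((appAlg tL : Γ(T.left, ⊤) →ₐ[k₀.{u}] Γ(TL.left, ⊤)) : Γ(T.left, ⊤) →+* Γ(TL.left, ⊤)) =
        algebraMap C L := by
      ext c
      exact htL c
    have h2 : (eL.toRingHom : Γ(TL.left, ⊤) →+* L) u = (IsScalarTower.toAlgHom C (Polynomial C) L) Polynomial.X := by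
      change eL (eL.symm xL) = _
      rw [RingEquiv.apply_symm_apply]
      rfl
    rw [h1, h2, Polynomial.eval₂_algebraMap_X]
    apply IsUnit.mk0
    intro h0
    change algebraMap (Polynomial C) L P = 0 at h0
    exact hP ((IsFractionRing.injective (Polynomial C) L) (h0.trans (map_zero _).symm))
  have hq1 : (lift g tL).left q ∈ O := by
    apply hDO
    change q ∈ (lift g tL).left ⁻¹ᵁ ((AMonS S ℕ ⊗ T).left.basicOpen sfun)
    rw [Scheme.preimage_basicOpen_top]
    have : TL.left.basicOpen ((lift g tL).left.appTop.hom sfun) = ⊤ :=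
      Scheme.basicOpen_of_isUnit _ hv
    change q ∈ TL.left.basicOpen ((lift g tL).left.appTop.hom sfun)
    rw [this]
    trivial
  have hq2 : (lift g (tL ≫ x) ≫ a.act).left q ∈ U := by
    have h1 : lift g (tL ≫ x) ≫ a.act = lift g tL ≫ ω := by
      change _ = lift g tL ≫ (AMonS S ℕ ◁ x) ≫ a.act
      rw [lift_whiskerLeft_assoc]
    rw [h1, Over.comp_left, Scheme.Hom.comp_apply]
    exact hq1
  have hq3 := act_mem_of_mem a U hU g' (lift g (tL ≫ x) ≫ a.act) q hq2
  rw [← a.lift_mul_act, hgg, a.lift_one_act, Over.comp_left, Scheme.Hom.comp_apply] at hq3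
  have hp : tL.left q = p := Subsingleton.elim (α := PrimeSpectrum K) _ _
  rw [hp] at hq3
  exact hq3

end Groth.Agent.Lib.Helper29.BB
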