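import Groth.Agent.Lib.Helper29.BB1
import Groth.Agent.Lib.Helper29.BB2
import Groth.Agent.Lib.Helper29.BB3

/-! Fixed points of an affine `A¹`-scheme, invariant basic opens and Lemma D (S18959, helper29). -/

set_option autoImplicit false
universe u
open CategoryTheory CategoryTheory.Limits MonoidalCategory CartesianMonoidalCategory MonObj
  AlgebraicGeometry Opposite
open TensorProduct
open Magnet

namespace Groth.Agent.Lib.Helper29.BB

open Groth.Agent.Lib.Helper29.MonAttr
open Groth.Agent.Lib.Helper10.AMonPts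

attribute [local instance] Groth.Agent.Lib.Helper29.MonAttr.algΓ

variable {S : Scheme.{u}} {X Y : Over S} (a : Magnet.MonAct (AMonS S ℕ) X)
  (b : Magnet.MonAct (AMonS S ℕ) Y)

theorem isFix_comp_mono_iff (j : X ⟶ Y) [Mono j] (hj : Magnet.MonAct.IsEquivariant a b j)
    {T : Over S} (x : T ⟶ X) : IsFix b (x ≫ j) ↔ IsFix a x := by
  constructor
  · intro h T' t g
    rw [← cancel_mono j, Category.assoc, Category.assoc,
      ((Magnet.MonAct.isEquivariant_iff a b j).mp hj) T' g (t ≫ x), Category.assoc]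
    exact h T' t g
  · intro h
    exact IsFix.map a b hj h

/-- preimages of invariant opens under equivariant maps are invariant -/
theorem preimage_invariant (f : X ⟶ Y) (hf : Magnet.MonAct.IsEquivariant a b f) (W : Y.left.Opens)
    (hW : (CartesianMonoidalCategory.snd (AMonS S ℕ) Y).left ⁻¹ᵁ W ≤ b.act.left ⁻¹ᵁ W) :
    (CartesianMonoidalCategory.snd (AMonS S ℕ) X).left ⁻¹ᵁ (f.left ⁻¹ᵁ W) ≤
      a.act.left ⁻¹ᵁ (f.left ⁻¹ᵁ W) := by
  intro z hz
  change f.left ((CartesianMonoidalCategory.snd (AMonS S ℕ) X).left z) ∈ W at hz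
  change f.left (a.act.left z) ∈ W
  rw [← Scheme.Hom.comp_apply, ← Over.comp_left] at hz ⊢
  unfold Magnet.MonAct.IsEquivariant at hf
  rw [hf, Over.comp_left, Scheme.Hom.comp_apply]
  apply hW
  change (CartesianMonoidalCategory.snd (AMonS S ℕ) Y).left ((AMonS S ℕ ◁ f).left z) ∈ W
  rw [← Scheme.Hom.comp_apply, ← Over.comp_left, whiskerLeft_snd]
  exact hz

theorem inf_invariant (W W' : X.left.Opens)
    (hW : (CartesianMonoidalCategory.snd (AMonS S ℕ) X).left ⁻¹ᵁ W ≤ a.act.left ⁻¹ᵁ W)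
    (hW' : (CartesianMonoidalCategory.snd (AMonS S ℕ) X).left ⁻¹ᵁ W' ≤ a.act.left ⁻¹ᵁ W') :
    (CartesianMonoidalCategory.snd (AMonS S ℕ) X).left ⁻¹ᵁ (W ⊓ W') ≤ a.act.left ⁻¹ᵁ (W ⊓ W') := by
  intro z hz
  exact ⟨hW hz.1, hW' hz.2⟩

theorem alpha_isGr [IsAffine X.left] : IsGr (alpha a) :=
  ⟨alpha_counit a, alpha_homog a⟩

section Fix

theorem pt_bot_eq {T : Over S} (g g' : T ⟶ AMonS S (⊥ : AddSubmonoid ℕ)) : g = g' := by
  apply amFn_injective
  intro n
  have hn : n = 0 := Subtype.ext (AddSubmonoid.mem_bot.mp n.2)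
  rw [hn, amFn_zero, amFn_zero]

theorem isFix_iff_exists {T : Over S} (x : T ⟶ X) :
    IsFix a x ↔ ∃ ψ : AMonS S (⊥ : AddSubmonoid ℕ) ⊗ T ⟶ X,
      (pN (⊥ : AddSubmonoid ℕ) ▷ T) ≫ ψ = (AMonS S ℕ ◁ x) ≫ a.act := by
  constructor
  · intro h
    refine ⟨CartesianMonoidalCategory.snd _ _ ≫ x, ?_⟩
    rw [whiskerRight_snd_assoc]
    have h1 : AMonS S ℕ ◁ x = lift (CartesianMonoidalCategory.fst (AMonS S ℕ) T)
        (CartesianMonoidalCategory.snd (AMonS S ℕ) T ≫ x) := by
      apply CartesianMonoidalCategory.hom_ext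
      · rw [whiskerLeft_fst, lift_fst]
      · rw [whiskerLeft_snd, lift_snd]
    rw [h1]
    exact (h _ _ _).symm
  · rintro ⟨ψ, hψ⟩ T' t g
    have h1 : ∀ g₁ : T' ⟶ AMonS S ℕ, lift g₁ (t ≫ x) ≫ a.act =
        lift (g₁ ≫ pN (⊥ : AddSubmonoid ℕ)) t ≫ ψ := by
      intro g₁
      rw [← lift_whiskerLeft_assoc, ← hψ, lift_whiskerRight_assoc]
    rw [h1 g, pt_bot_eq (g ≫ pN ⊥) ((1 : T' ⟶ AMonS S ℕ) ≫ pN ⊥), ← h1, a.lift_one_act]

set_option backward.isDefEq.respectTransparency.types false in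
set_option maxHeartbeats 1000000 in
theorem attrIdeal_bot [IsAffine X.left] :
    attrIdeal (⊥ : AddSubmonoid ℕ) a = plus (alpha a) := by
  apply le_antisymm
  · unfold attrIdeal AffAttrAlg.coeffIdeal
    rw [Ideal.span_le]
    rintro c ⟨β, e, rfl⟩
    have hc : AffAttrAlg.coe (ιf.{u} (⊥ : AddSubmonoid ℕ).subtype) (bas.{u} (⊥ : AddSubmonoid ℕ)) e
        Γ(X.left, ⊤) (coact a β) = MonAttrAlg.cf k₀.{u} e.down.1 Γ(X.left, ⊤) (coact a β) :=
      MonAttrAlg.coe_eq_cf k₀.{u} _ (toMul_injective (⊥ : AddSubmonoid ℕ)) e _ _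
    rw [hc]
    have hn : 0 < Multiplicative.toAdd e.down.1 := by
      rcases Nat.eq_zero_or_pos (Multiplicative.toAdd e.down.1) with h0 | h0
      · exfalso
        apply e.down.2
        refine ⟨Multiplicative.ofAdd 0, ?_⟩
        change Multiplicative.ofAdd (((0 : (⊥ : AddSubmonoid ℕ)) : ℕ)) = e.down.1
        rw [AddSubmonoid.coe_zero, ← h0]
        rfl
      · exact h0
    apply Ideal.subset_span
    refine ⟨Multiplicative.toAdd e.down.1, β, hn, ?_⟩
    unfold pp
    rw [coeff_alpha]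
    rfl
  · unfold plus
    rw [Ideal.span_le]
    rintro c ⟨n, β, hn, rfl⟩
    have hmem : Multiplicative.ofAdd n ∉
        Set.range (AddMonoidHom.toMultiplicative (⊥ : AddSubmonoid ℕ).subtype) := by
      rintro ⟨y, hy⟩
      have h1 : ((Multiplicative.toAdd y : (⊥ : AddSubmonoid ℕ)) : ℕ) = n :=
        congrArg Multiplicative.toAdd hy
      have h2 : (Multiplicative.toAdd y : (⊥ : AddSubmonoid ℕ)) = 0 :=
        Subtype.ext (AddSubmonoid.mem_bot.mp (Multiplicative.toAdd y).2)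
      rw [h2, AddSubmonoid.coe_zero] at h1
      omega
    let e : BIdx.{u} (⊥ : AddSubmonoid ℕ) := ⟨⟨Multiplicative.ofAdd n, hmem⟩⟩
    have hc : AffAttrAlg.coe (ιf.{u} (⊥ : AddSubmonoid ℕ).subtype) (bas.{u} (⊥ : AddSubmonoid ℕ)) e
        Γ(X.left, ⊤) (coact a β) = MonAttrAlg.cf k₀.{u} e.down.1 Γ(X.left, ⊤) (coact a β) :=
      MonAttrAlg.coe_eq_cf k₀.{u} _ (toMul_injective (⊥ : AddSubmonoid ℕ)) e _ _
    unfold attrIdeal AffAttrAlg.coeffIdeal
    apply Ideal.subset_span
    refine ⟨β, e, ?_⟩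
    rw [hc]
    unfold pp
    rw [coeff_alpha]

/-- **fixed points of an affine scheme**: a point is fixed iff it kills the irrelevant ideal. -/
theorem isFix_iff_plus_le [IsAffine X.left] (W : S.Opens) (hW : IsAffineOpen W)
    (hXW : ∀ p : X.left, X.hom p ∈ W) (T : Over S) [IsAffine T.left] (x : T ⟶ X) :
    IsFix a x ↔ plus (alpha a) ≤ RingHom.ker x.left.appTop.hom := by
  rw [isFix_iff_exists, ext_iff (⊥ : AddSubmonoid ℕ) a W hW hXW T x, attrIdeal_bot]

end Fix

section Basic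

set_option backward.isDefEq.respectTransparency.types false in
set_option maxHeartbeats 1000000 in
/-- degree-zero functions are invariant -/
theorem act_pp_zero [IsAffine X.left] (c : Γ(X.left, ⊤)) :
    appAlg a.act ((alpha a c).coeff 0) =
      appAlg (CartesianMonoidalCategory.snd (AMonS S ℕ) X) ((alpha a c).coeff 0) := by
  rw [← Θ_coact, coeff_alpha, homog a c (Multiplicative.ofAdd 0), Θ_tmul]
  have h1 : (MonoidAlgebra.single (Multiplicative.ofAdd (0 : ℕ)) 1 : AA.{u} ℕ) = 1 := rfl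
  rw [h1, map_one, _root_.one_mul]

theorem basicOpen_invariant [IsAffine X.left] (c : Γ(X.left, ⊤)) :
    (CartesianMonoidalCategory.snd (AMonS S ℕ) X).left ⁻¹ᵁ (X.left.basicOpen ((alpha a c).coeff 0)) ≤
      a.act.left ⁻¹ᵁ (X.left.basicOpen ((alpha a c).coeff 0)) := by
  rw [Scheme.preimage_basicOpen_top, Scheme.preimage_basicOpen_top]
  have h := act_pp_zero a c
  change a.act.left.appTop.hom _ = (CartesianMonoidalCategory.snd (AMonS S ℕ) X).left.appTop.hom _ at h
  change (AMonS S ℕ ⊗ X).left.basicOpen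
    ((CartesianMonoidalCategory.snd (AMonS S ℕ) X).left.appTop.hom ((alpha a c).coeff 0)) ≤
    (AMonS S ℕ ⊗ X).left.basicOpen (a.act.left.appTop.hom ((alpha a c).coeff 0))
  rw [h]

/-- membership in a basic open through a point -/
theorem mem_basicOpen_iff_of_point {T : Over S} (x : T ⟶ X) (q : T.left) (c : Γ(X.left, ⊤)) :
    x.left q ∈ X.left.basicOpen c ↔ q ∈ T.left.basicOpen (appAlg x c) := by
  change q ∈ x.left ⁻¹ᵁ X.left.basicOpen c ↔ _
  rw [Scheme.preimage_basicOpen_top]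
  rfl

/-- the residue field point of a point of `X` -/
noncomputable def resPt (z : X.left) :
    Over.mk (X.left.fromSpecResidueField z ≫ X.hom) ⟶ X :=
  Over.homMk (X.left.fromSpecResidueField z) rfl

set_option backward.isDefEq.respectTransparency.types false in
set_option maxHeartbeats 1000000 in
/-- **Lemma D**: invariant basic open neighbourhoods of fixed points are cofinal among invariant
open neighbourhoods. -/
theorem lemmaD [IsAffine X.left] (W : X.left.Opens)
    (hW : (CartesianMonoidalCategory.snd (AMonS S ℕ) X).left ⁻¹ᵁ W ≤ a.act.left ⁻¹ᵁ W)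
    {T : Over S} (x : T ⟶ X) (hx : IsFix a x) (p : T.left) (hp : x.left p ∈ W) :
    ∃ c : Γ(X.left, ⊤), x.left p ∈ X.left.basicOpen ((alpha a c).coeff 0) ∧
      X.left.basicOpen ((alpha a c).coeff 0) ≤ W := by
  obtain ⟨D, ⟨c, rfl⟩, hpD, hDW⟩ :=
    (TopologicalSpace.Opens.isBasis_iff_nbhd.mp (isBasis_basicOpen X.left)) hp
  refine ⟨c, ?_, ?_⟩
  · rw [mem_basicOpen_iff_of_point, ← rr_appAlg, rr_of_isFix a x hx, ← mem_basicOpen_iff_of_point]
    exact hpD
  · intro z hz
    obtain ⟨pz⟩ : Nonempty (Spec (X.left.residueField z)) := inferInstance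
    have hpz : (resPt z).left pz = z := Scheme.fromSpecResidueField_apply z pz
    have h1 : (rr a (resPt z)).left pz ∈ X.left.basicOpen c := by
      rw [mem_basicOpen_iff_of_point, rr_appAlg, ← mem_basicOpen_iff_of_point, hpz]
      exact hz
    have h2 := lemmaC a W hW (X.left.residueField z) (X.left.fromSpecResidueField z ≫ X.hom)
      (resPt z) pz (hDW h1)
    rw [hpz] at h2
    exact h2

end Basic

end Groth.Agent.Lib.Helper29.BB
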