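import Groth.Agent.Lib.Helper29.BB4
import Groth.Agent.Lib.Helper29.SchDomFactor
import Groth.Agent.Lib.Helper10.WeilClosed2

/-! The affine core of S18959 (helper29). -/

set_option autoImplicit false
universe u
open CategoryTheory CategoryTheory.Limits MonoidalCategory CartesianMonoidalCategory MonObj
  AlgebraicGeometry Opposite
open TensorProduct
open Magnet

namespace Groth.Agent.Lib.Helper29.BB

open Groth.Agent.Lib.Helper29.MonAttr
open Groth.Agent.Lib.Helper10.AMonPts

attribute [local instance] Groth.Agent.Lib.Helper29.MonAttr.algΓ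

section Closed

variable {S : Scheme.{u}} (X : Over S) [IsAffine X.left] (J : Ideal Γ(X.left, ⊤))

/-- the closed subscheme cut out by an ideal of global sections, over the base -/
noncomputable def ZZ : Over S :=
  Over.mk ((Scheme.IdealSheafData.ofIdealTop J).subschemeι ≫ X.hom)

/-- its inclusion -/
noncomputable def jZ : ZZ X J ⟶ X :=
  Over.homMk (Scheme.IdealSheafData.ofIdealTop J).subschemeι rfl

instance : IsClosedImmersion (jZ X J).left :=
  inferInstanceAs (IsClosedImmersion (Scheme.IdealSheafData.ofIdealTop J).subschemeι)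

instance : IsAffine (ZZ X J).left := isAffine_of_isAffineHom (jZ X J).left

instance : Mono (jZ X J) := SchDomFactor.mono_of_closedImmersion _

theorem ker_jZ : RingHom.ker (jZ X J).left.appTop.hom = J := by
  have h1 := Scheme.IdealSheafData.ker_subschemeι_app (Scheme.IdealSheafData.ofIdealTop J)
    ⟨⊤, isAffineOpen_top X.left⟩
  have h2 : (Scheme.IdealSheafData.ofIdealTop J).ideal ⟨⊤, isAffineOpen_top X.left⟩ = J :=
    (Scheme.IdealSheafData.equivOfIsAffine (X := X.left)).right_inv J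
  rw [h2] at h1
  exact h1

theorem jZ_surjective : Function.Surjective (jZ X J).left.appTop.hom :=
  Scheme.IdealSheafData.subschemeι_app_surjective (Scheme.IdealSheafData.ofIdealTop J)
    ⟨⊤, isAffineOpen_top X.left⟩

theorem exists_fac_jZ {T : Over S} (x : T ⟶ X) (h : J ≤ RingHom.ker x.left.appTop.hom) :
    ∃ x' : T ⟶ ZZ X J, x' ≫ jZ X J = x := by
  obtain ⟨g', hg'⟩ :=
    (Groth.Agent.Lib.Helper10.WeilClosed.exists_fac_subschemeι_iff J x.left).2 h
  refine ⟨Over.homMk g' ?_, Over.OverMorphism.ext hg'⟩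
  change g' ≫ ((Scheme.IdealSheafData.ofIdealTop J).subschemeι ≫ X.hom) = T.hom
  rw [← Category.assoc, hg', Over.w]

end Closed

section SpecPt

variable {S : Scheme.{u}} (Y : Over S) [IsAffine Y.left] {R : Type u} [CommRing R]
  (π : Γ(Y.left, ⊤) →+* R)

/-- the `R`-point of an affine scheme defined by a ring map -/
noncomputable def specPt₀ : Spec (CommRingCat.of R) ⟶ Y.left :=
  Spec.map (CommRingCat.ofHom π) ≫ Y.left.isoSpec.inv

/-- its source, over the base -/
noncomputable def specT : Over S := Over.mk (specPt₀ Y π ≫ Y.hom)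

/-- the point, over the base -/
noncomputable def specPt : specT Y π ⟶ Y := Over.homMk (specPt₀ Y π) rfl

instance : IsAffine (specT Y π).left := inferInstanceAs (IsAffine (Spec (CommRingCat.of R)))

theorem specPt_appTop (c : Γ(Y.left, ⊤)) :
    (specPt Y π).left.appTop.hom c = (Scheme.ΓSpecIso (CommRingCat.of R)).inv.hom (π c) := by
  have h1 : specPt₀ Y π ≫ Y.left.isoSpec.hom = Spec.map (CommRingCat.ofHom π) := by
    unfold specPt₀
    rw [Category.assoc, Iso.inv_hom_id, Category.comp_id]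
  have h2 := congrArg Scheme.Hom.appTop h1
  rw [Scheme.Hom.comp_appTop, Scheme.isoSpec_hom, Scheme.toSpecΓ_appTop] at h2
  have h3 := Scheme.ΓSpecIso_inv_naturality (CommRingCat.ofHom π)
  rw [← h2] at h3
  have h4 := congrArg (fun t => t.hom c) h3
  change (Scheme.ΓSpecIso (CommRingCat.of R)).inv.hom (π c) =
    (specPt₀ Y π).appTop.hom ((Scheme.ΓSpecIso Γ(Y.left, ⊤)).hom.hom
      ((Scheme.ΓSpecIso Γ(Y.left, ⊤)).inv.hom c)) at h4
  have h5 : (Scheme.ΓSpecIso Γ(Y.left, ⊤)).hom.hom ((Scheme.ΓSpecIso Γ(Y.left, ⊤)).inv.hom c) = c :=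
    congrArg (fun t => t.hom c) (Scheme.ΓSpecIso Γ(Y.left, ⊤)).inv_hom_id
  rw [h5] at h4
  exact h4.symm

theorem ker_specPt : RingHom.ker (specPt Y π).left.appTop.hom = RingHom.ker π := by
  have e : ∀ t, (Scheme.ΓSpecIso (CommRingCat.of R)).hom.hom
      ((Scheme.ΓSpecIso (CommRingCat.of R)).inv.hom t) = t := fun t =>
    congrArg (fun u => u.hom t) (Scheme.ΓSpecIso (CommRingCat.of R)).inv_hom_id
  have hinj : Function.Injective (Scheme.ΓSpecIso (CommRingCat.of R)).inv.hom := by
    intro x y hxy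
    have h1 := congrArg (Scheme.ΓSpecIso (CommRingCat.of R)).hom.hom hxy
    rwa [e, e] at h1
  ext c
  rw [RingHom.mem_ker, RingHom.mem_ker, specPt_appTop]
  constructor
  · intro h
    exact hinj (h.trans (map_zero _).symm)
  · intro h
    rw [h]
    exact map_zero _

end SpecPt

section Flat

open TopologicalSpace

set_option backward.isDefEq.respectTransparency.types false in
set_option maxHeartbeats 1000000 in
/-- a function killed by a morphism which is flat near a point vanishes near the image point. -/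
theorem exists_pow_mul_eq_zero_of_flat {X Y : Scheme.{u}} [IsAffine Y] (g : X ⟶ Y) (E : X.Opens)
    [Flat (E.ι ≫ g)] (e : E) (z : Γ(Y, ⊤)) (hz : g.appTop.hom z = 0) :
    ∃ s : Γ(Y, ⊤), g (E.ι e) ∈ Y.basicOpen s ∧ ∃ m : ℕ, s ^ m * z = 0 := by
  let g' : E.toScheme ⟶ Y := E.ι ≫ g
  have hflat : (g'.stalkMap e).hom.Flat := Flat.stalkMap g' e
  have hinj : Function.Injective (g'.stalkMap e).hom := by
    letI := (g'.stalkMap e).hom.toAlgebra
    haveI : Module.Flat (Y.presheaf.stalk (g' e)) (E.toScheme.presheaf.stalk e) := hflat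
    haveI : IsLocalHom (algebraMap (Y.presheaf.stalk (g' e)) (E.toScheme.presheaf.stalk e)) :=
      inferInstanceAs (IsLocalHom (g'.stalkMap e).hom)
    haveI := Module.FaithfullyFlat.of_flat_of_isLocalHom (A := Y.presheaf.stalk (g' e))
      (B := E.toScheme.presheaf.stalk e)
    exact FaithfulSMul.algebraMap_injective (Y.presheaf.stalk (g' e)) (E.toScheme.presheaf.stalk e)
  have h1 := Scheme.Hom.germ_stalkMap_apply g' ⊤ e trivial z
  have h2 : g'.app ⊤ z = 0 := by
    have h0 : (g.app ⊤).hom z = 0 := hz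
    change (E.ι.app (g ⁻¹ᵁ ⊤)).hom ((g.app ⊤).hom z) = 0
    rw [h0, map_zero]
  rw [h2, map_zero] at h1
  have h3 : Y.presheaf.germ ⊤ (g' e) trivial z = 0 := hinj (h1.trans (map_zero _).symm)
  obtain ⟨W, hpW, iU, iV, hres⟩ := TopCat.Presheaf.germ_eq Y.presheaf (U := ⊤) (V := ⊤) (g' e) trivial trivial z 0
    (h3.trans (map_zero _).symm)
  obtain ⟨D, ⟨s, rfl⟩, hpD, hDW⟩ := (Opens.isBasis_iff_nbhd.mp (isBasis_basicOpen Y)) hpW
  refine ⟨s, hpD, ?_⟩
  apply exists_pow_mul_eq_zero_of_res_basicOpen_eq_zero_of_isAffineOpen Y (isAffineOpen_top Y) z s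
  have hres' : Y.presheaf.map iU.op z = 0 := by rw [hres, map_zero]
  have h4 : Y.presheaf.map (homOfLE hDW ≫ iU).op z = 0 := by
    rw [op_comp, Functor.map_comp, CommRingCat.comp_apply, hres', map_zero]
  exact h4

end Flat

section Core

variable {S : Scheme.{u}} {X Y : Over S} (a : Magnet.MonAct (AMonS S ℕ) X)
  (b : Magnet.MonAct (AMonS S ℕ) Y)

set_option backward.isDefEq.respectTransparency.types false in
set_option maxHeartbeats 2000000 in
/-- **the affine core**. -/
theorem core [IsAffine X.left] [IsAffine Y.left] (W : S.Opens) (hW : IsAffineOpen W)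
    (hXW : ∀ p : X.left, X.hom p ∈ W) (hYW : ∀ p : Y.left, Y.hom p ∈ W)
    (f : X ⟶ Y) (hf : Magnet.MonAct.IsEquivariant a b f)
    (c1 : ∀ (T : Over S) [IsAffine T.left] (y : T ⟶ Y), IsFix b y →
      ∃ x : T ⟶ X, IsFix a x ∧ x ≫ f = y)
    (c2 : ∀ (T : Over S) [IsAffine T.left] (x x' : T ⟶ X), IsFix a x → IsFix a x' →
      x ≫ f = x' ≫ f → x = x')
    (c3 : ∀ (T : Over S) [IsAffine T.left] (x : T ⟶ X), IsFix b (x ≫ f) → IsFix a x)
    (c4 : ∀ (T : Over S) (x : T ⟶ X), IsFix a x → ∀ q : T.left,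
      ∃ E : X.left.Opens, x.left q ∈ E ∧ Flat (E.ι ≫ f.left)) :
    IsIso f := by
  let A := Γ(Y.left, ⊤)
  let B := Γ(X.left, ⊤)
  let φ : A →+* B := ((appAlg f : A →ₐ[k₀.{u}] B) : A →+* B)
  have hφ : ∀ c, alpha a (φ c) = (alpha b c).map φ := fun c => alpha_equivariant a b f hf c
  have hA := alpha_isGr b
  have hB := alpha_isGr a
  have hpφ : ∀ n c, pp (alpha a) n (φ c) = φ (pp (alpha b) n c) := by
    intro n c
    unfold pp
    rw [hφ, Polynomial.coeff_map]
  let JA : Ideal A := plus (alpha b)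
  let JB : Ideal B := plus (alpha a)
  -- the universal fixed point of `Y` and its lift
  have hιY : IsFix b (jZ Y JA) := by
    rw [isFix_iff_plus_le b W hW hYW, ker_jZ]
  obtain ⟨σ, hσfix, hσ⟩ := c1 (ZZ Y JA) (jZ Y JA) hιY
  have hιX : IsFix a (jZ X JB) := by
    rw [isFix_iff_plus_le a W hW hXW, ker_jZ]
  have hιXf : IsFix b (jZ X JB ≫ f) := IsFix.map a b hf hιX
  obtain ⟨ρ, hρ⟩ := exists_fac_jZ Y JA (jZ X JB ≫ f)
    ((isFix_iff_plus_le b W hW hYW _ _).mp hιXf)
  have hρσ : ρ ≫ σ = jZ X JB := by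
    apply c2 _ _ _ (IsFix.comp a hσfix ρ) hιX
    rw [Category.assoc, hσ, hρ]
  -- surjectivity
  have h1 : ∀ b' : B, ∃ a' : A, b' - φ a' ∈ JB := by
    intro b'
    obtain ⟨a', ha'⟩ := jZ_surjective Y JA (appAlg σ b')
    refine ⟨a', ?_⟩
    have h2 : appAlg (jZ X JB) (φ a') = appAlg (jZ X JB) b' := by
      change appAlg (jZ X JB) (appAlg f a') = _
      rw [← appAlg_comp, ← hρ, appAlg_comp]
      change appAlg ρ ((jZ Y JA).left.appTop.hom a') = _
      rw [ha', ← appAlg_comp, hρσ]
    have h3 : b' - φ a' ∈ RingHom.ker (jZ X JB).left.appTop.hom := by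
      rw [RingHom.mem_ker, map_sub]
      change appAlg (jZ X JB) b' - appAlg (jZ X JB) (φ a') = 0
      rw [h2, sub_self]
    rw [ker_jZ] at h3
    exact h3
  have h2 : JB ≤ Ideal.map φ JA := by
    let J' : Ideal B := Ideal.map φ JA
    have hfix : IsFix b (jZ X J' ≫ f) := by
      rw [isFix_iff_plus_le b W hW hYW]
      intro c hc
      rw [RingHom.mem_ker]
      change appAlg (jZ X J' ≫ f) c = 0
      rw [appAlg_comp]
      have h3 : φ c ∈ RingHom.ker (jZ X J').left.appTop.hom := by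
        rw [ker_jZ]
        exact Ideal.mem_map_of_mem φ hc
      exact (RingHom.mem_ker).mp h3
    have h4 := (isFix_iff_plus_le a W hW hXW _ _).mp (c3 _ _ hfix)
    rw [ker_jZ] at h4
    exact h4
  have hsurj : Function.Surjective φ := surjective_of hA hB φ hφ h1 h2
  -- injectivity
  have hinj : Function.Injective φ := by
    rw [injective_iff_map_eq_zero]
    intro y' hy'
    apply eq_zero_of_local hA y'
    intro n 𝔭 hmax hle
    have hz : φ (pp (alpha b) n y') = 0 := by rw [← hpφ, hy', pp_zero']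
    set z := pp (alpha b) n y' with hzdef
    haveI := hmax.isPrime
    let π : A →+* A ⧸ 𝔭 := Ideal.Quotient.mk 𝔭
    have hker : RingHom.ker (specPt Y π).left.appTop.hom = 𝔭 := by
      rw [ker_specPt]
      exact Ideal.mk_ker
    have hyfix : IsFix b (specPt Y π) := by
      rw [isFix_iff_plus_le b W hW hYW, hker]
      exact hle
    obtain ⟨xb, hxbfix, hxb⟩ := c1 _ _ hyfix
    haveI : Nontrivial (A ⧸ 𝔭) := Ideal.Quotient.nontrivial_iff.mpr hmax.ne_top
    obtain ⟨q₀⟩ : Nonempty (Spec (CommRingCat.of (A ⧸ 𝔭))) := inferInstance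
    obtain ⟨E, hqE, hE⟩ := c4 _ xb hxbfix q₀
    haveI := hE
    obtain ⟨s, hs, m, hm⟩ := exists_pow_mul_eq_zero_of_flat f.left E ⟨xb.left q₀, hqE⟩ z hz
    refine ⟨s ^ m, ?_, hm⟩
    intro hsm
    have hs𝔭 : s ∈ 𝔭 := Ideal.IsPrime.mem_of_pow_mem inferInstance m hsm
    have h5 : f.left (xb.left q₀) = (specPt Y π).left q₀ := by
      rw [← hxb, Over.comp_left, Scheme.Hom.comp_apply]
    change f.left (xb.left q₀) ∈ Y.left.basicOpen s at hs
    rw [h5, mem_basicOpen_iff_of_point] at hs
    have h6 : appAlg (specPt Y π) s = 0 := by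
      have : s ∈ RingHom.ker (specPt Y π).left.appTop.hom := by rw [hker]; exact hs𝔭
      exact (RingHom.mem_ker).mp this
    rw [h6, Scheme.basicOpen_zero] at hs
    exact hs
  have hbij : Function.Bijective f.left.appTop.hom := ⟨hinj, hsurj⟩
  haveI : IsIso f.left.appTop := (ConcreteCategory.isIso_iff_bijective f.left.appTop).mpr hbij
  haveI : IsIso f.left :=
    (HasAffineProperty.iff_of_isAffine (P := MorphismProperty.isomorphisms Scheme)).mpr
      ⟨inferInstance, inferInstance⟩
  haveI : IsIso ((Over.forget S).map f) := (inferInstance : IsIso f.left)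
  exact isIso_of_reflects_iso f (Over.forget S)

end Core

end Groth.Agent.Lib.Helper29.BB
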