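import Groth.Agent.Lib.Helper29.BB5

/-! Equivariant open charts: lifting, invariance of ranges, and isomorphisms from charts
(S18959, helper29). -/

set_option autoImplicit false
universe u
open CategoryTheory CategoryTheory.Limits MonoidalCategory CartesianMonoidalCategory MonObj
  AlgebraicGeometry Opposite
open TensorProduct
open Magnet

namespace Groth.Agent.Lib.Helper29.BB

open Groth.Agent.Lib.Helper29.MonAttr
open Groth.Agent.Lib.Helper10.AMonPts
open Groth.Agent.Lib.Helper29.AttrGlue (UO jU)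

attribute [local instance] Groth.Agent.Lib.Helper29.MonAttr.algΓ

variable {S : Scheme.{u}} {X Y : Over S}

theorem mono_of_openImm {X' : Over S} (j : X' ⟶ X) [IsOpenImmersion j.left] : Mono j := by
  haveI : Mono j.left := inferInstance
  exact Over.mono_of_mono_left _

theorem exists_lift_of_range {X' T : Over S} (j : X' ⟶ X) [IsOpenImmersion j.left] (x : T ⟶ X)
    (h : ∀ q : T.left, x.left q ∈ Set.range j.left) : ∃ x' : T ⟶ X', x' ≫ j = x := by
  have hr : Set.range x.left ⊆ Set.range j.left := by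
    rintro _ ⟨q, rfl⟩
    exact h q
  let l := IsOpenImmersion.lift j.left x.left hr
  have hl : l ≫ j.left = x.left := IsOpenImmersion.lift_fac _ _ _
  refine ⟨Over.homMk l ?_, Over.OverMorphism.ext hl⟩
  rw [← Over.w j, ← Category.assoc, hl, Over.w]

theorem resPt_apply (z : X.left) (q : Spec (X.left.residueField z)) : (resPt z).left q = z :=
  Scheme.fromSpecResidueField_apply z q

theorem lands_of_resPt {T : Over S} (x : T ⟶ X) (W : Set X.left) (z : X.left)
    (t : Over.mk (X.left.fromSpecResidueField z ≫ X.hom) ⟶ T) (h : t ≫ x = resPt z) (hz : z ∈ W)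
    (q : Spec (X.left.residueField z)) : x.left (t.left q) ∈ W := by
  rw [← Scheme.Hom.comp_apply, ← Over.comp_left, h, resPt_apply]
  exact hz

variable (a : Magnet.MonAct (AMonS S ℕ) X) (b : Magnet.MonAct (AMonS S ℕ) Y)

set_option backward.isDefEq.respectTransparency.types false in
/-- the range of an equivariant open immersion is invariant -/
theorem opensRange_invariant {X' : Over S} (a' : Magnet.MonAct (AMonS S ℕ) X') (j : X' ⟶ X)
    [IsOpenImmersion j.left] (hj : Magnet.MonAct.IsEquivariant a' a j) :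
    (CartesianMonoidalCategory.snd (AMonS S ℕ) X).left ⁻¹ᵁ j.left.opensRange ≤
      a.act.left ⁻¹ᵁ j.left.opensRange := by
  intro z hz
  let zb := resPt (X := AMonS S ℕ ⊗ X) z
  obtain ⟨pz⟩ : Nonempty (Spec ((AMonS S ℕ ⊗ X).left.residueField z)) := inferInstance
  have hpz : ∀ q, zb.left q = z := fun q => resPt_apply z q
  let g := zb ≫ CartesianMonoidalCategory.fst _ _
  let x := zb ≫ CartesianMonoidalCategory.snd _ _
  have hx : ∀ q, x.left q ∈ Set.range j.left := by
    intro q
    change (zb ≫ CartesianMonoidalCategory.snd _ _).left q ∈ _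
    rw [Over.comp_left, Scheme.Hom.comp_apply, hpz]
    exact hz
  obtain ⟨x', hx'⟩ := exists_lift_of_range j x hx
  have h1 : zb ≫ a.act = (lift g x' ≫ a'.act) ≫ j := by
    unfold Magnet.MonAct.IsEquivariant at hj
    rw [Category.assoc, hj, lift_whiskerLeft_assoc, hx']
    have : lift g x = zb := lift_comp_fst_snd zb
    rw [this]
  change a.act.left z ∈ Set.range j.left
  rw [← hpz pz, ← Scheme.Hom.comp_apply, ← Over.comp_left, h1, Over.comp_left,
    Scheme.Hom.comp_apply]
  exact ⟨_, rfl⟩

/-- an isomorphism of charts with the right preimage gives an isomorphism over the chart -/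
theorem isIso_restrict_of_chart {X₀ Y₀ X₃ Y₃ : Scheme.{u}} (f : X₀ ⟶ Y₀) (jX : X₃ ⟶ X₀)
    (jY : Y₃ ⟶ Y₀) [IsOpenImmersion jX] [IsOpenImmersion jY] (f₃ : X₃ ⟶ Y₃) [IsIso f₃]
    (hcomm : jX ≫ f = f₃ ≫ jY) (hpre : (f ⁻¹ᵁ jY.opensRange : Set X₀) = Set.range jX) :
    IsIso (f ∣_ jY.opensRange) := by
  let Wy := jY.opensRange
  let Wx := f ⁻¹ᵁ Wy
  have hX : Set.range jX = Set.range Wx.ι := by
    rw [Scheme.Opens.range_ι]
    exact hpre.symm
  have hY : Set.range jY = Set.range Wy.ι := by
    rw [Scheme.Opens.range_ι]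
    rfl
  let eX := IsOpenImmersion.isoOfRangeEq jX Wx.ι hX
  let eY := IsOpenImmersion.isoOfRangeEq jY Wy.ι hY
  have h : f ∣_ Wy = eX.inv ≫ f₃ ≫ eY.hom := by
    rw [← cancel_mono Wy.ι, morphismRestrict_ι]
    simp only [Category.assoc]
    rw [IsOpenImmersion.isoOfRangeEq_hom_fac, ← hcomm, ← Category.assoc,
      IsOpenImmersion.isoOfRangeEq_inv_fac]
  rw [h]
  infer_instance

end Groth.Agent.Lib.Helper29.BB
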