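import Groth.Agent.Lib.Helper29.BB6

/-! Charts and the local isomorphism for S18959 (helper29). -/

set_option autoImplicit false
universe u
open CategoryTheory CategoryTheory.Limits MonoidalCategory CartesianMonoidalCategory MonObj
  AlgebraicGeometry Opposite
open TensorProduct
open Magnet

namespace Groth.Agent.Lib.Helper29.BB

open Groth.Agent.Lib.Helper29.MonAttr
open Groth.Agent.Lib.Helper10.AMonPts
open Groth.Agent.Lib.Helper29.AttrGlue (UO jU)

attribute [local instance] Groth.Agent.Lib.Helper29.MonAttr.algΓ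

variable {S : Scheme.{u}} {X Y : Over S}

/-- an equivariant affine open chart -/
structure Chart (a : Magnet.MonAct (AMonS S ℕ) X) where
  C : Over S
  act : Magnet.MonAct (AMonS S ℕ) C
  j : C ⟶ X
  eqv : Magnet.MonAct.IsEquivariant act a j
  imm : IsOpenImmersion j.left
  aff : IsAffine C.left

namespace Chart

variable {a : Magnet.MonAct (AMonS S ℕ) X} (c : Chart a)

instance : IsOpenImmersion c.j.left := c.imm
instance : IsAffine c.C.left := c.aff
instance : Mono c.j := mono_of_openImm c.j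

/-- the chart of an invariant affine open -/
noncomputable def ofOpen (a : Magnet.MonAct (AMonS S ℕ) X) (U : X.left.Opens)
    (hU : (CartesianMonoidalCategory.snd (AMonS S ℕ) X).left ⁻¹ᵁ U ≤ a.act.left ⁻¹ᵁ U)
    (hUaff : IsAffineOpen U) : Chart a where
  C := UO X U
  act := MonGlue.aU a U hU
  j := jU X U
  eqv := MonGlue.jU_equivariant a U hU
  imm := inferInstance
  aff := hUaff

/-- the invariant basic open of a function -/
noncomputable def bo (g : Γ(c.C.left, ⊤)) : c.C.left.Opens :=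
  c.C.left.basicOpen ((alpha c.act g).coeff 0)

/-- the basic open, as a chart of the ambient scheme -/
noncomputable def basic (g : Γ(c.C.left, ⊤)) : Chart a where
  C := UO c.C (c.bo g)
  act := MonGlue.aU c.act (c.bo g) (basicOpen_invariant c.act g)
  j := jU c.C (c.bo g) ≫ c.j
  eqv := (MonGlue.jU_equivariant c.act (c.bo g) (basicOpen_invariant c.act g)).comp c.eqv
  imm := by
    rw [Over.comp_left]
    infer_instance
  aff := (isAffineOpen_top c.C.left).basicOpen _

/-- the inclusion of the basic open into the chart -/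
noncomputable def basicι (g : Γ(c.C.left, ⊤)) : (c.basic g).C ⟶ c.C := jU c.C (c.bo g)

instance (g : Γ(c.C.left, ⊤)) : IsOpenImmersion (c.basicι g).left :=
  inferInstanceAs (IsOpenImmersion (jU c.C (c.bo g)).left)

instance (g : Γ(c.C.left, ⊤)) : Mono (c.basicι g) := mono_of_openImm _

theorem basic_j (g : Γ(c.C.left, ⊤)) : (c.basic g).j = c.basicι g ≫ c.j := rfl

theorem basicι_eqv (g : Γ(c.C.left, ⊤)) :
    Magnet.MonAct.IsEquivariant (c.basic g).act c.act (c.basicι g) :=
  MonGlue.jU_equivariant c.act (c.bo g) (basicOpen_invariant c.act g)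

theorem range_basicι (g : Γ(c.C.left, ⊤)) :
    Set.range (c.basicι g).left = (c.bo g : Set c.C.left) :=
  Scheme.Opens.range_ι _

theorem isFix_iff {T : Over S} (x : T ⟶ c.C) : IsFix a (x ≫ c.j) ↔ IsFix c.act x :=
  isFix_comp_mono_iff c.act a c.j c.eqv x

end Chart

/-- a lift of an equivariant map through equivariant monomorphisms is equivariant -/
theorem equivariant_of_fac {X' Y' : Over S} (a : Magnet.MonAct (AMonS S ℕ) X)
    (b : Magnet.MonAct (AMonS S ℕ) Y) (a' : Magnet.MonAct (AMonS S ℕ) X')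
    (b' : Magnet.MonAct (AMonS S ℕ) Y') (j : X' ⟶ X) (j' : Y' ⟶ Y) [Mono j']
    (hj : Magnet.MonAct.IsEquivariant a' a j) (hj' : Magnet.MonAct.IsEquivariant b' b j')
    (f : X ⟶ Y) (hf : Magnet.MonAct.IsEquivariant a b f) (f' : X' ⟶ Y')
    (h : f' ≫ j' = j ≫ f) : Magnet.MonAct.IsEquivariant a' b' f' := by
  unfold Magnet.MonAct.IsEquivariant at hj hj' hf ⊢
  rw [← cancel_mono j', Category.assoc, Category.assoc, h, ← Category.assoc, hj, Category.assoc,
    hf, hj', ← MonoidalCategory.whiskerLeft_comp_assoc, ← MonoidalCategory.whiskerLeft_comp_assoc, h]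

section Iso

variable [IsAffine S] (a : Magnet.MonAct (AMonS S ℕ) X) (b : Magnet.MonAct (AMonS S ℕ) Y)
  (f : X ⟶ Y) (hf : Magnet.MonAct.IsEquivariant a b f)
  (G1 : ∀ (T : Over S) (y : T ⟶ Y), IsFix b y → ∃ x : T ⟶ X, IsFix a x ∧ x ≫ f = y)
  (G2 : ∀ (T : Over S) (x x' : T ⟶ X), IsFix a x → IsFix a x' → x ≫ f = x' ≫ f → x = x')
  (G3 : ∀ (T : Over S) (x : T ⟶ X), IsFix b (x ≫ f) → IsFix a x)
  (V : X.left.Opens) [Flat (V.ι ≫ f.left)]
  (G4 : ∀ (T : Over S) (x : T ⟶ X), IsFix a x → ∀ q : T.left, x.left q ∈ V)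

include hf G1 G2 G3 G4 in
set_option backward.isDefEq.respectTransparency.types false in
set_option maxHeartbeats 4000000 in
theorem chart_iso (cY : Chart b) (c2 : Chart a) (f2 : c2.C ⟶ cY.C)
    (hf2 : f2 ≫ cY.j = c2.j ≫ f)
    (σ : ZZ cY.C (plus (alpha cY.act)) ⟶ X) (hσfix : IsFix a σ)
    (hσf : σ ≫ f = jZ cY.C (plus (alpha cY.act)) ≫ cY.j)
    (h : Γ(cY.C.left, ⊤))
    (hO : ∀ q : (ZZ cY.C (plus (alpha cY.act))).left,
      (jZ cY.C (plus (alpha cY.act))).left q ∈ cY.bo h → σ.left q ∈ Set.range c2.j.left) :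
    IsIso (f.left ∣_ (cY.basic h).j.left.opensRange) := by
  have hf2e : Magnet.MonAct.IsEquivariant c2.act cY.act f2 :=
    equivariant_of_fac a b c2.act cY.act c2.j cY.j c2.eqv cY.eqv f hf f2 hf2
  let cY3 := cY.basic h
  let cX3 := c2.basic (appAlg f2 h)
  have hE : c2.bo (appAlg f2 h) = f2.left ⁻¹ᵁ cY.bo h := by
    unfold Chart.bo
    rw [Scheme.preimage_basicOpen_top, alpha_equivariant c2.act cY.act f2 hf2e h,
      Polynomial.coeff_map]
    rfl
  -- the restricted morphism
  have hpts : ∀ q : cX3.C.left,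
      ((c2.basicι (appAlg f2 h)) ≫ f2).left q ∈ Set.range (cY.basicι h).left := by
    intro q
    rw [Chart.range_basicι, Over.comp_left, Scheme.Hom.comp_apply]
    have hq : (c2.basicι (appAlg f2 h)).left q ∈ c2.bo (appAlg f2 h) := q.2
    rw [hE] at hq
    exact hq
  obtain ⟨f3, hf3⟩ : ∃ f3 : cX3.C ⟶ cY3.C,
      f3 ≫ (cY.basicι h) = (c2.basicι (appAlg f2 h)) ≫ f2 :=
    exists_lift_of_range (cY.basicι h) ((c2.basicι (appAlg f2 h)) ≫ f2) hpts
  have hf3' : f3 ≫ cY3.j = cX3.j ≫ f := by
    change f3 ≫ (cY.basicι h) ≫ cY.j = ((c2.basicι (appAlg f2 h)) ≫ c2.j) ≫ f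
    rw [← Category.assoc, hf3, Category.assoc, hf2, Category.assoc]
  have hf3e : Magnet.MonAct.IsEquivariant cX3.act cY3.act f3 :=
    equivariant_of_fac a b cX3.act cY3.act cX3.j cY3.j cX3.eqv cY3.eqv f hf f3 hf3'
  -- fixed points over the target chart lie in the source chart
  have hP : ∀ (T : Over S) [IsAffine T.left] (x : T ⟶ X), IsFix a x →
      (∀ q, f.left (x.left q) ∈ Set.range cY3.j.left) → ∀ q, x.left q ∈ Set.range cX3.j.left := by
    intro T _ x hx hland q
    have hland' : ∀ q, (x ≫ f).left q ∈ Set.range cY.j.left := by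
      intro q
      obtain ⟨r, hr⟩ := hland q
      refine ⟨(cY.basicι h).left r, ?_⟩
      rw [Over.comp_left, Scheme.Hom.comp_apply, ← hr]
      rfl
    obtain ⟨y₁, hy₁⟩ := exists_lift_of_range cY.j (x ≫ f) hland'
    have hy₁fix : IsFix cY.act y₁ := (cY.isFix_iff y₁).mp (by rw [hy₁]; exact IsFix.map a b hf hx)
    obtain ⟨y₂, hy₂⟩ := exists_fac_jZ cY.C _ y₁
      ((isFix_iff_plus_le cY.act ⊤ (isAffineOpen_top S) (fun _ => trivial) T y₁).mp hy₁fix)
    have hx2 : y₂ ≫ σ = x := G2 T _ _ (IsFix.comp a hσfix y₂) hx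
      (by rw [Category.assoc, hσf, ← Category.assoc, hy₂, hy₁])
    have hy₁D : y₁.left q ∈ cY.bo h := by
      obtain ⟨r, hr⟩ := hland q
      have h1 : cY.j.left ((cY.basicι h).left r) = cY.j.left (y₁.left q) := by
        rw [← Scheme.Hom.comp_apply (y₁.left), ← Over.comp_left, hy₁, Over.comp_left,
          Scheme.Hom.comp_apply]
        exact hr
      have h2 := cY.j.left.isOpenEmbedding.injective h1
      rw [← h2]
      exact r.2
    have hσq : σ.left (y₂.left q) ∈ Set.range c2.j.left := by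
      apply hO
      rw [← Scheme.Hom.comp_apply, ← Over.comp_left, hy₂]
      exact hy₁D
    obtain ⟨q', hq'⟩ := hσq
    have hxq : x.left q = c2.j.left q' := by
      rw [← hx2, Over.comp_left, Scheme.Hom.comp_apply, hq']
    have hq'E : q' ∈ c2.bo (appAlg f2 h) := by
      rw [hE]
      change f2.left q' ∈ cY.bo h
      have h1 : cY.j.left (f2.left q') = cY.j.left (y₁.left q) := by
        rw [← Scheme.Hom.comp_apply, ← Over.comp_left, hf2, Over.comp_left, Scheme.Hom.comp_apply,
          ← hxq, ← Scheme.Hom.comp_apply (y₁.left), ← Over.comp_left, hy₁, Over.comp_left,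
          Scheme.Hom.comp_apply]
      rw [cY.j.left.isOpenEmbedding.injective h1]
      exact hy₁D
    refine ⟨⟨q', hq'E⟩, ?_⟩
    rw [hxq]
    rfl
  -- the core hypotheses
  have c1 : ∀ (T : Over S) [IsAffine T.left] (y : T ⟶ cY3.C), IsFix cY3.act y →
      ∃ x : T ⟶ cX3.C, IsFix cX3.act x ∧ x ≫ f3 = y := by
    intro T _ y hy
    obtain ⟨x, hxfix, hx⟩ := G1 T (y ≫ cY3.j) ((cY3.isFix_iff y).mpr hy)
    have hland : ∀ q, f.left (x.left q) ∈ Set.range cY3.j.left := by
      intro q
      rw [← Scheme.Hom.comp_apply, ← Over.comp_left, hx, Over.comp_left, Scheme.Hom.comp_apply]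
      exact ⟨_, rfl⟩
    obtain ⟨x3, hx3⟩ := exists_lift_of_range cX3.j x (hP T x hxfix hland)
    refine ⟨x3, (cX3.isFix_iff x3).mp (by rw [hx3]; exact hxfix), ?_⟩
    rw [← cancel_mono cY3.j, Category.assoc, hf3', ← Category.assoc, hx3, hx]
  have c2' : ∀ (T : Over S) [IsAffine T.left] (x x' : T ⟶ cX3.C), IsFix cX3.act x →
      IsFix cX3.act x' → x ≫ f3 = x' ≫ f3 → x = x' := by
    intro T _ x x' hx hx' hxx
    rw [← cancel_mono cX3.j]
    apply G2 T _ _ ((cX3.isFix_iff x).mpr hx) ((cX3.isFix_iff x').mpr hx')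
    rw [Category.assoc, Category.assoc, ← hf3', ← Category.assoc, ← Category.assoc, hxx]
  have c3 : ∀ (T : Over S) [IsAffine T.left] (x : T ⟶ cX3.C), IsFix cY3.act (x ≫ f3) →
      IsFix cX3.act x := by
    intro T _ x hx
    apply (cX3.isFix_iff x).mp
    apply G3
    rw [Category.assoc, ← hf3', ← Category.assoc]
    exact (cY3.isFix_iff _).mpr hx
  have c4 : ∀ (T : Over S) (x : T ⟶ cX3.C), IsFix cX3.act x → ∀ q : T.left,
      ∃ E : cX3.C.left.Opens, x.left q ∈ E ∧ Flat (E.ι ≫ f3.left) := by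
    intro T x hx q
    refine ⟨cX3.j.left ⁻¹ᵁ V, ?_, ?_⟩
    · change cX3.j.left (x.left q) ∈ V
      rw [← Scheme.Hom.comp_apply, ← Over.comp_left]
      exact G4 T _ ((cX3.isFix_iff x).mpr hx) q
    · have h1 : ((cX3.j.left ⁻¹ᵁ V).ι ≫ f3.left) ≫ cY3.j.left =
          (cX3.j.left ∣_ V) ≫ (V.ι ≫ f.left) := by
        rw [Category.assoc, ← Over.comp_left, hf3', Over.comp_left, ← Category.assoc,
          ← Category.assoc, morphismRestrict_ι]
      have h2 : Flat (((cX3.j.left ⁻¹ᵁ V).ι ≫ f3.left) ≫ cY3.j.left) := by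
        rw [h1]
        infer_instance
      exact MorphismProperty.of_postcomp (W := @Flat) (W' := MorphismProperty.monomorphisms Scheme)
        _ cY3.j.left (inferInstance : Mono cY3.j.left) h2
  haveI : IsIso f3 := core cX3.act cY3.act ⊤ (isAffineOpen_top S) (fun _ => trivial)
    (fun _ => trivial) f3 hf3e c1 c2' c3 c4
  haveI : IsIso f3.left := (inferInstance : IsIso ((Over.forget S).map f3))
  -- the preimage of the target chart
  have hpre : (f.left ⁻¹ᵁ cY3.j.left.opensRange : Set X.left) = Set.range cX3.j.left := by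
    apply Set.Subset.antisymm
    · intro x hx
      let xb := resPt (X := X) x
      obtain ⟨px⟩ : Nonempty (Spec (X.left.residueField x)) := inferInstance
      haveI : IsAffine (Over.mk (X.left.fromSpecResidueField x ≫ X.hom)).left :=
        inferInstanceAs (IsAffine (Spec (X.left.residueField x)))
      have hland : ∀ q, (xb ≫ f).left q ∈ Set.range cY3.j.left := by
        intro q
        rw [Over.comp_left, Scheme.Hom.comp_apply, resPt_apply]
        exact hx
      obtain ⟨y₁, hy₁⟩ := exists_lift_of_range cY3.j (xb ≫ f) hland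
      have hrr : rr a xb ≫ f = rr cY3.act y₁ ≫ cY3.j := by
        rw [rr_comp_of_equivariant a b f hf, ← hy₁, rr_comp_of_equivariant cY3.act b cY3.j cY3.eqv]
      have hland2 : ∀ q, f.left ((rr a xb).left q) ∈ Set.range cY3.j.left := by
        intro q
        rw [← Scheme.Hom.comp_apply, ← Over.comp_left, hrr, Over.comp_left, Scheme.Hom.comp_apply]
        exact ⟨_, rfl⟩
      have h3 := hP _ (rr a xb) (rr_isFix a xb) hland2 px
      have h4 := lemmaC a cX3.j.left.opensRange (opensRange_invariant a cX3.act cX3.j cX3.eqv)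
        (X.left.residueField x) (X.left.fromSpecResidueField x ≫ X.hom) xb px h3
      rw [resPt_apply] at h4
      exact h4
    · rintro _ ⟨q, rfl⟩
      change f.left (cX3.j.left q) ∈ Set.range cY3.j.left
      rw [← Scheme.Hom.comp_apply, ← Over.comp_left, ← hf3', Over.comp_left, Scheme.Hom.comp_apply]
      exact ⟨_, rfl⟩
  have hcomm : cX3.j.left ≫ f.left = f3.left ≫ cY3.j.left := by
    rw [← Over.comp_left, ← Over.comp_left, hf3']
  exact isIso_restrict_of_chart f.left cX3.j.left cY3.j.left f3.left hcomm hpre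

end Iso

end Groth.Agent.Lib.Helper29.BB
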