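import Groth.Agent.Lib.Helper29.BB7

/-! The local isomorphism and the main theorem for S18959 (helper29). -/

set_option autoImplicit false
universe u
open CategoryTheory CategoryTheory.Limits MonoidalCategory CartesianMonoidalCategory MonObj
  AlgebraicGeometry Opposite
open TensorProduct
open Magnet

namespace Groth.Agent.Lib.Helper29.BB

open Groth.Agent.Lib.Helper29.MonAttr
open Groth.Agent.Lib.Helper10.AMonPts
open Groth.Agent.Lib.Helper29.AttrGlue (UO jU)
open TopologicalSpace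

attribute [local instance] Groth.Agent.Lib.Helper29.MonAttr.algΓ

variable {S : Scheme.{u}} {X Y : Over S}

section Main

variable [IsAffine S] (a : Magnet.MonAct (AMonS S ℕ) X) (b : Magnet.MonAct (AMonS S ℕ) Y)
  (f : X ⟶ Y) (hf : Magnet.MonAct.IsEquivariant a b f)
  (G1 : ∀ (T : Over S) (y : T ⟶ Y), IsFix b y → ∃ x : T ⟶ X, IsFix a x ∧ x ≫ f = y)
  (G2 : ∀ (T : Over S) (x x' : T ⟶ X), IsFix a x → IsFix a x' → x ≫ f = x' ≫ f → x = x')
  (G3 : ∀ (T : Over S) (x : T ⟶ X), IsFix b (x ≫ f) → IsFix a x)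
  (V : X.left.Opens) [Flat (V.ι ≫ f.left)]
  (G4 : ∀ (T : Over S) (x : T ⟶ X), IsFix a x → ∀ q : T.left, x.left q ∈ V)
  (hX : ∀ x : X.left, ∃ U : X.left.Opens, x ∈ U ∧ IsAffineOpen U ∧
      (CartesianMonoidalCategory.snd (AMonS S ℕ) X).left ⁻¹ᵁ U ≤ a.act.left ⁻¹ᵁ U)
  (hY : ∀ y : Y.left, ∃ U : Y.left.Opens, y ∈ U ∧ IsAffineOpen U ∧
      (CartesianMonoidalCategory.snd (AMonS S ℕ) Y).left ⁻¹ᵁ U ≤ b.act.left ⁻¹ᵁ U)

include hf G1 G2 G3 G4 hX hY in
set_option backward.isDefEq.respectTransparency.types false in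
set_option maxHeartbeats 4000000 in
theorem local_iso (y : Y.left) : ∃ Wy : Y.left.Opens, y ∈ Wy ∧ IsIso (f.left ∣_ Wy) := by
  let Ty : Over S := Over.mk (Y.left.fromSpecResidueField y ≫ Y.hom)
  let yb : Ty ⟶ Y := resPt y
  obtain ⟨pz⟩ : Nonempty (Spec (Y.left.residueField y)) := inferInstance
  haveI : IsAffine Ty.left := inferInstanceAs (IsAffine (Spec (Y.left.residueField y)))
  have hsub : ∀ q q' : Ty.left, q = q' := fun q q' =>
    Subsingleton.elim (α := PrimeSpectrum (Y.left.residueField y)) q q'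
  have hfix0 : IsFix b (rr b yb) := rr_isFix b yb
  obtain ⟨x0, hx0fix, hx0f⟩ := G1 Ty (rr b yb) hfix0
  -- the chart of `Y`
  obtain ⟨Y', hyY', hY'aff, hY'inv⟩ := hY y
  let cY : Chart b := Chart.ofOpen b Y' hY'inv hY'aff
  have hrangeY : Set.range cY.j.left = (Y' : Set Y.left) := Scheme.Opens.range_ι _
  have hy0Y' : ∀ q, (rr b yb).left q ∈ Y' := by
    intro q
    exact act_mem_of_mem b Y' hY'inv (ptN 0) yb q (by rw [resPt_apply]; exact hyY')
  -- the chart of `X`
  obtain ⟨U, hxU, hUaff, hUinv⟩ := hX (x0.left pz)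
  let cU : Chart a := Chart.ofOpen a U hUinv hUaff
  have hrangeU : Set.range cU.j.left = (U : Set X.left) := Scheme.Opens.range_ι _
  have hx0U : ∀ q, x0.left q ∈ Set.range cU.j.left := by
    intro q
    rw [hrangeU, hsub q pz]
    exact hxU
  obtain ⟨x0', hx0'⟩ := exists_lift_of_range cU.j x0 hx0U
  have hx0'fix : IsFix cU.act x0' := (cU.isFix_iff x0').mp (by rw [hx0']; exact hx0fix)
  let W₁ : cU.C.left.Opens := (cU.j ≫ f).left ⁻¹ᵁ Y'
  have hW₁ := preimage_invariant cU.act b (cU.j ≫ f) (cU.eqv.comp hf) Y' hY'inv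
  have hx0'W : x0'.left pz ∈ W₁ := by
    change (cU.j ≫ f).left (x0'.left pz) ∈ Y'
    rw [← Scheme.Hom.comp_apply, ← Over.comp_left, ← Category.assoc, hx0', hx0f]
    exact hy0Y' pz
  obtain ⟨c, hc1, hc2⟩ := lemmaD cU.act W₁ hW₁ x0' hx0'fix pz hx0'W
  let c2 : Chart a := cU.basic c
  have hx0c2 : ∀ q, x0.left q ∈ Set.range c2.j.left := by
    intro q
    rw [hsub q pz]
    refine ⟨⟨x0'.left pz, hc1⟩, ?_⟩
    rw [← hx0', Over.comp_left, Scheme.Hom.comp_apply]
    rfl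
  have hpts2 : ∀ q : c2.C.left, (c2.j ≫ f).left q ∈ Set.range cY.j.left := by
    intro q
    rw [hrangeY]
    have h1 : (cU.basicι c).left q ∈ W₁ := hc2 q.2
    exact h1
  obtain ⟨f2, hf2⟩ := exists_lift_of_range cY.j (c2.j ≫ f) hpts2
  -- the universal fixed point of the chart of `Y`
  let JA := plus (alpha cY.act)
  have hιfix : IsFix cY.act (jZ cY.C JA) := by
    rw [isFix_iff_plus_le cY.act ⊤ (isAffineOpen_top S) (fun _ => trivial), ker_jZ]
  obtain ⟨σ, hσfix, hσf⟩ := G1 _ (jZ cY.C JA ≫ cY.j) ((cY.isFix_iff _).mpr hιfix)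
  obtain ⟨y0', hy0'⟩ := exists_lift_of_range cY.j (rr b yb)
    (by intro q; rw [hrangeY]; exact hy0Y' q)
  have hy0'fix : IsFix cY.act y0' := (cY.isFix_iff y0').mp (by rw [hy0']; exact hfix0)
  obtain ⟨y0'', hy0''⟩ := exists_fac_jZ cY.C JA y0'
    ((isFix_iff_plus_le cY.act ⊤ (isAffineOpen_top S) (fun _ => trivial) Ty y0').mp hy0'fix)
  have hσx : y0'' ≫ σ = x0 := G2 Ty _ _ (IsFix.comp a hσfix y0'') hx0fix
    (by rw [Category.assoc, hσf, ← Category.assoc, hy0'', hy0', hx0f])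
  let O : (ZZ cY.C JA).left.Opens := σ.left ⁻¹ᵁ c2.j.left.opensRange
  have hO0 : y0''.left pz ∈ O := by
    change σ.left (y0''.left pz) ∈ Set.range c2.j.left
    rw [← Scheme.Hom.comp_apply, ← Over.comp_left, hσx]
    exact hx0c2 pz
  have hind := (jZ cY.C JA).left.isClosedEmbedding.isInducing
  obtain ⟨O', hO'open, hO'pre⟩ := hind.isOpen_iff.mp O.isOpen
  have hpt0 : y0'.left pz ∈ O' := by
    have h1 : y0''.left pz ∈ (jZ cY.C JA).left ⁻¹' O' := by
      rw [hO'pre]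
      exact hO0
    have h2 : (jZ cY.C JA).left (y0''.left pz) ∈ O' := h1
    rwa [← Scheme.Hom.comp_apply, ← Over.comp_left, hy0''] at h2
  let O'o : cY.C.left.Opens := ⟨O', hO'open⟩
  have hpt0' : y0'.left pz ∈ O'o := hpt0
  obtain ⟨D, ⟨h, rfl⟩, hpt0h, hhO'⟩ :=
    (Opens.isBasis_iff_nbhd.mp (isBasis_basicOpen cY.C.left)) hpt0'
  have hh₀ : appAlg (jZ cY.C JA) ((alpha cY.act h).coeff 0) = appAlg (jZ cY.C JA) h := by
    have h1 : h - (alpha cY.act h).coeff 0 ∈ RingHom.ker (jZ cY.C JA).left.appTop.hom := by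
      rw [ker_jZ]
      exact sub_pp_zero_mem_plus (alpha_isGr cY.act) h
    have h2 := RingHom.mem_ker.mp h1
    rw [map_sub, sub_eq_zero] at h2
    exact h2.symm
  have hiff : ∀ q : (ZZ cY.C JA).left, (jZ cY.C JA).left q ∈ cY.bo h ↔
      (jZ cY.C JA).left q ∈ cY.C.left.basicOpen h := by
    intro q
    unfold Chart.bo
    rw [mem_basicOpen_iff_of_point, mem_basicOpen_iff_of_point, hh₀]
  have hOq : ∀ q : (ZZ cY.C (plus (alpha cY.act))).left,
      (jZ cY.C (plus (alpha cY.act))).left q ∈ cY.bo h → σ.left q ∈ Set.range c2.j.left := by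
    intro q hq
    have h1 := hhO' ((hiff q).mp hq)
    have h2 : q ∈ (jZ cY.C JA).left ⁻¹' O' := h1
    rw [hO'pre] at h2
    exact h2
  have hiso := chart_iso a b f hf G1 G2 G3 V G4 cY c2 f2 hf2 σ hσfix hσf h hOq
  refine ⟨(cY.basic h).j.left.opensRange, ?_, hiso⟩
  -- the point lies in the chart
  obtain ⟨yb', hyb'⟩ := exists_lift_of_range cY.j yb
    (by intro q; rw [hrangeY, resPt_apply]; exact hyY')
  have hrr : rr cY.act yb' = y0' := by
    rw [← cancel_mono cY.j, rr_comp_of_equivariant cY.act b cY.j cY.eqv, hyb', hy0']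
  have hpt0bo : y0'.left pz ∈ cY.bo h := by
    have h1 : (jZ cY.C JA).left (y0''.left pz) ∈ cY.bo h := by
      apply (hiff _).mpr
      rw [← Scheme.Hom.comp_apply, ← Over.comp_left, hy0'']
      exact hpt0h
    rwa [← Scheme.Hom.comp_apply, ← Over.comp_left, hy0''] at h1
  have hC := lemmaC cY.act (cY.bo h) (basicOpen_invariant cY.act h) (Y.left.residueField y)
    (Y.left.fromSpecResidueField y ≫ Y.hom) yb' pz (by rw [hrr]; exact hpt0bo)
  refine ⟨⟨yb'.left pz, hC⟩, ?_⟩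
  change cY.j.left (yb'.left pz) = y
  rw [← Scheme.Hom.comp_apply, ← Over.comp_left, hyb', resPt_apply]

include hf G1 G2 G3 G4 hX hY in
/-- **main theorem** (S18959 in terms of fixed points). -/
theorem main : IsIso f := by
  choose Wy hyW hiso using local_iso a b f hf G1 G2 G3 V G4 hX hY
  have hcov : iSup Wy = ⊤ := by
    rw [eq_top_iff]
    intro y _
    exact Opens.mem_iSup.mpr ⟨y, hyW y⟩
  haveI : IsIso f.left :=
    (IsZariskiLocalAtTarget.iff_of_iSup_eq_top (P := MorphismProperty.isomorphisms Scheme) Wy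
      hcov).mpr hiso
  haveI : IsIso ((Over.forget S).map f) := (inferInstance : IsIso f.left)
  exact isIso_of_reflects_iso f (Over.forget S)

end Main

end Groth.Agent.Lib.Helper29.BB
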