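import Groth.Agent.Lib.Helper25.BlowUpReg
import Mathlib
universe u
open CategoryTheory CategoryTheory.Limits AlgebraicGeometry TopologicalSpace Opposite

/-! # Proportional effective Cartier divisors -/

namespace Groth.Agent.Lib.Helper29.CDivRel

variable {X : Scheme.{u}}

/-- A relation between powers of ideal sheaves on an affine open persists on smaller affine
opens. -/
theorem rel_of_le (D E : X.IdealSheafData) {U V : X.affineOpens} (h : V ≤ U) {m n : ℕ}
    (hr : D.ideal U ^ m = E.ideal U ^ n) : D.ideal V ^ m = E.ideal V ^ n := by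
  rw [← D.map_ideal h, ← E.map_ideal h, ← Ideal.map_pow, ← Ideal.map_pow, hr]

theorem ideal_eq_top_of_disjoint (D : X.IdealSheafData) (U : X.affineOpens)
    (h : Disjoint (U.1 : Set X) (D.support : Set X)) : D.ideal U = ⊤ := by
  have h1 := D.coe_support_inter U
  have h2 : (D.support : Set X) ∩ (U.1 : Set X) = ∅ := by
    rw [Set.inter_comm]; exact h.inter_eq
  rw [h2] at h1
  have h3 : PrimeSpectrum.zeroLocus (D.ideal U : Set Γ(X, U.1)) = ∅ := by
    have h4 := U.2.fromSpec_image_zeroLocus (D.ideal U : Set Γ(X, U.1))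
    rw [← h1] at h4
    rwa [Set.image_eq_empty] at h4
  exact PrimeSpectrum.zeroLocus_empty_iff_eq_top.mp h3

/-- At a point of the support of an effective Cartier divisor, the powers of its ideal are
pairwise distinct. -/
theorem pow_injective_of_mem_support (D : X.IdealSheafData) (hD : BlowUp.IsEffCartierIdeal D)
    (x : X) (hx : x ∈ D.support) (U : X.affineOpens) (hxU : x ∈ U.1) {a b : ℕ}
    (h : D.ideal U ^ a = D.ideal U ^ b) : a = b := by
  obtain ⟨V, d, hxV, hVU, hd, hDV⟩ :=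
    Groth.Agent.Lib.Helper25.BlowUpUP.exists_affine_principal_le D hD x U.1 hxU
  have hV : D.ideal V ^ a = D.ideal V ^ b := by
    have := rel_of_le D D (show V ≤ U from hVU) h
    exact this
  rw [hDV, Ideal.span_singleton_pow, Ideal.span_singleton_pow] at hV
  -- `d` is not a unit
  have hnu : ¬ IsUnit d := by
    intro hu
    rw [Scheme.IdealSheafData.mem_support_iff_of_mem (U := V) hxV, Scheme.mem_zeroLocus_iff] at hx
    have h1 : d ∈ (D.ideal V : Set Γ(X, V.1)) := by
      rw [hDV]; exact Ideal.subset_span rfl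
    have h2 := hx d h1
    apply h2
    rw [X.basicOpen_of_isUnit hu]
    exact hxV
  have key : ∀ {p q : ℕ}, p < q → Ideal.span {d ^ p} = Ideal.span {d ^ q} → False := by
    intro p q hpq hpq'
    have h1 : d ^ p ∈ Ideal.span {d ^ q} := by
      rw [← hpq']; exact Ideal.subset_span rfl
    obtain ⟨c, hc⟩ := Ideal.mem_span_singleton'.mp h1
    have h2 : (c * d ^ (q - p) - 1) * d ^ p = 0 := by
      have : d ^ q = d ^ (q - p) * d ^ p := by
        rw [← pow_add, Nat.sub_add_cancel hpq.le]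
      rw [sub_mul, one_mul, mul_assoc, ← this, hc, sub_self]
    have h3 : c * d ^ (q - p) - 1 = 0 :=
      (mul_right_mem_nonZeroDivisors_eq_zero_iff (pow_mem hd p)).mp h2
    have h4 : c * d ^ (q - p) = 1 := sub_eq_zero.mp h3
    have h5 : q - p = (q - p - 1) + 1 := by omega
    rw [h5, pow_succ, ← mul_assoc] at h4
    exact hnu (IsUnit.of_mul_eq_one _ (by rw [mul_comm]; exact h4))
  rcases lt_trichotomy a b with hab | hab | hab
  · exact (key hab hV).elim
  · exact hab
  · exact (key hab hV.symm).elim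

theorem parallel_trans {m n m' n' m'' n'' : ℕ} (h0 : (m', n') ≠ (0, 0))
    (h1 : m * n' = m' * n) (h2 : m' * n'' = m'' * n') : m * n'' = m'' * n := by
  rcases Nat.eq_zero_or_pos m' with hm' | hm'
  · subst hm'
    have hn' : n' ≠ 0 := fun h => h0 (by rw [h])
    have hm : m = 0 := by
      rcases Nat.eq_zero_or_pos m with h | h
      · exact h
      · exfalso
        have : m * n' = 0 := by rw [h1]; ring
        rcases Nat.mul_eq_zero.mp this with h' | h'
        · omega
        · exact hn' h'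
    have hm'' : m'' = 0 := by
      have : m'' * n' = 0 := by rw [← h2]; ring
      rcases Nat.mul_eq_zero.mp this with h' | h'
      · exact h'
      · exact (hn' h').elim
    rw [hm, hm'']; ring
  · apply Nat.eq_of_mul_eq_mul_left hm'
    calc m' * (m * n'') = m * (m' * n'') := by ring
      _ = m * (m'' * n') := by rw [h2]
      _ = m'' * (m * n') := by ring
      _ = m'' * (m' * n) := by rw [h1]
      _ = m' * (m'' * n) := by ring

/-- Uniqueness of the ratio at points of the union of the supports. -/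
theorem ratio_unique (D E : X.IdealSheafData) (hD : BlowUp.IsEffCartierIdeal D)
    (hE : BlowUp.IsEffCartierIdeal E) (x : X)
    (hx : x ∈ (D.support : Set X) ∪ (E.support : Set X))
    (U₁ U₂ : X.affineOpens) (hx₁ : x ∈ U₁.1) (hx₂ : x ∈ U₂.1) {m n m' n' : ℕ}
    (h₁ : D.ideal U₁ ^ m = E.ideal U₁ ^ n) (h₂ : D.ideal U₂ ^ m' = E.ideal U₂ ^ n') :
    m * n' = m' * n := by
  obtain ⟨_, ⟨V₀, hV₀, rfl⟩, hxV, hVU⟩ :=
    X.isBasis_affineOpens.exists_subset_of_mem_open (show x ∈ ((U₁.1 ⊓ U₂.1 : X.Opens) : Set X)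
      from ⟨hx₁, hx₂⟩) (U₁.1 ⊓ U₂.1).isOpen
  obtain ⟨V, hV⟩ : ∃ V : X.affineOpens, V = ⟨V₀, hV₀⟩ := ⟨_, rfl⟩
  have hxV' : x ∈ V.1 := by rw [hV]; exact hxV
  have hV1 : V ≤ U₁ := by rw [hV]; exact fun z hz => (hVU hz).1
  have hV2 : V ≤ U₂ := by rw [hV]; exact fun z hz => (hVU hz).2
  have r₁ := rel_of_le D E hV1 h₁
  have r₂ := rel_of_le D E hV2 h₂
  rcases hx with hx | hx
  · apply pow_injective_of_mem_support D hD x hx V hxV'
    calc D.ideal V ^ (m * n') = (D.ideal V ^ m) ^ n' := pow_mul _ _ _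
      _ = (E.ideal V ^ n) ^ n' := by rw [r₁]
      _ = (E.ideal V ^ n') ^ n := by rw [← pow_mul, ← pow_mul, mul_comm]
      _ = (D.ideal V ^ m') ^ n := by rw [r₂]
      _ = D.ideal V ^ (m' * n) := (pow_mul _ _ _).symm
  · have := pow_injective_of_mem_support E hE x hx V hxV'
      (a := n * m') (b := n' * m) (by
        calc E.ideal V ^ (n * m') = (E.ideal V ^ n) ^ m' := pow_mul _ _ _
          _ = (D.ideal V ^ m) ^ m' := by rw [r₁]
          _ = (D.ideal V ^ m') ^ m := by rw [← pow_mul, ← pow_mul, mul_comm]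
          _ = (E.ideal V ^ n') ^ m := by rw [r₂]
          _ = E.ideal V ^ (n' * m) := (pow_mul _ _ _).symm)
    calc m * n' = n' * m := mul_comm _ _
      _ = n * m' := this.symm
      _ = m' * n := mul_comm _ _

/-- **Locally proportional effective Cartier divisors with connected total support are globally
proportional.** -/
theorem exists_global_rel [CompactSpace X] (D E : X.IdealSheafData)
    (hD : BlowUp.IsEffCartierIdeal D) (hE : BlowUp.IsEffCartierIdeal E)
    (hconn : IsPreconnected ((D.support : Set X) ∪ (E.support : Set X)))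
    (hloc : ∀ x : X, ∃ U : X.affineOpens, x ∈ U.1 ∧
      ∃ m n : ℕ, (m, n) ≠ (0, 0) ∧ D.ideal U ^ m = E.ideal U ^ n) :
    ∃ m n : ℕ, (m, n) ≠ (0, 0) ∧ ∀ U : X.affineOpens, D.ideal U ^ m = E.ideal U ^ n := by
  classical
  set S : Set X := (D.support : Set X) ∪ (E.support : Set X) with hS
  have hSclosed : IsClosed S := D.support.isClosed.union E.support.isClosed
  by_cases hSne : S.Nonempty
  swap
  · -- both divisors are empty
    rw [Set.not_nonempty_iff_eq_empty] at hSne
    have hDt : D = ⊤ := by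
      rw [← Scheme.IdealSheafData.support_eq_bot_iff]
      apply Closeds.ext
      have : (D.support : Set X) ⊆ S := Set.subset_union_left
      rw [hSne] at this
      simpa using Set.subset_empty_iff.mp this
    have hEt : E = ⊤ := by
      rw [← Scheme.IdealSheafData.support_eq_bot_iff]
      apply Closeds.ext
      have : (E.support : Set X) ⊆ S := Set.subset_union_right
      rw [hSne] at this
      simpa using Set.subset_empty_iff.mp this
    refine ⟨1, 1, by simp, fun U => ?_⟩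
    rw [hDt, hEt]
  obtain ⟨x₀, hx₀⟩ := hSne
  obtain ⟨U₀, hx₀U, m₀, n₀, hmn₀, hr₀⟩ := hloc x₀
  let u : Set X := {x | ∃ U : X.affineOpens, x ∈ U.1 ∧ ∃ m n : ℕ, (m, n) ≠ (0, 0) ∧
    D.ideal U ^ m = E.ideal U ^ n ∧ m * n₀ = m₀ * n}
  let v : Set X := {x | ∃ U : X.affineOpens, x ∈ U.1 ∧ ∃ m n : ℕ, (m, n) ≠ (0, 0) ∧
    D.ideal U ^ m = E.ideal U ^ n ∧ m * n₀ ≠ m₀ * n}
  have hu : IsOpen u := by
    rw [isOpen_iff_forall_mem_open]
    rintro x ⟨U, hxU, m, n, hmn, hr, hp⟩
    exact ⟨U.1, fun z hz => ⟨U, hz, m, n, hmn, hr, hp⟩, U.1.isOpen, hxU⟩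
  have hv : IsOpen v := by
    rw [isOpen_iff_forall_mem_open]
    rintro x ⟨U, hxU, m, n, hmn, hr, hp⟩
    exact ⟨U.1, fun z hz => ⟨U, hz, m, n, hmn, hr, hp⟩, U.1.isOpen, hxU⟩
  have huv : S ⊆ u ∪ v := by
    intro x _
    obtain ⟨U, hxU, m, n, hmn, hr⟩ := hloc x
    by_cases hp : m * n₀ = m₀ * n
    · exact Or.inl ⟨U, hxU, m, n, hmn, hr, hp⟩
    · exact Or.inr ⟨U, hxU, m, n, hmn, hr, hp⟩
  have hSu : (S ∩ u).Nonempty := ⟨x₀, hx₀, U₀, hx₀U, m₀, n₀, hmn₀, hr₀, rfl⟩
  have hSv : S ∩ v = ∅ := by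
    by_contra hne
    obtain ⟨z, hzS, ⟨U₁, hz₁, m, n, hmn, hr, hp⟩, ⟨U₂, hz₂, m', n', hmn', hr', hp'⟩⟩ :=
      hconn u v hu hv huv hSu (Set.nonempty_iff_ne_empty.mpr hne)
    apply hp'
    have h1 : m' * n = m * n' := (ratio_unique D E hD hE z hzS U₁ U₂ hz₁ hz₂ hr hr').symm
    exact parallel_trans hmn h1 hp
  -- every point has a witness parallel to `(m₀, n₀)`
  have hall : ∀ x : X, ∃ U : X.affineOpens, x ∈ U.1 ∧ ∃ m n : ℕ, (m, n) ≠ (0, 0) ∧
      D.ideal U ^ m = E.ideal U ^ n ∧ m * n₀ = m₀ * n := by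
    intro x
    by_cases hxS : x ∈ S
    · rcases huv hxS with h | h
      · exact h
      · exact (Set.eq_empty_iff_forall_notMem.mp hSv x ⟨hxS, h⟩).elim
    · obtain ⟨_, ⟨V₀, hV₀, rfl⟩, hxV, hVS⟩ :=
        X.isBasis_affineOpens.exists_subset_of_mem_open (show x ∈ Sᶜ from hxS)
          hSclosed.isOpen_compl
      refine ⟨⟨V₀, hV₀⟩, hxV, m₀, n₀, hmn₀, ?_, rfl⟩
      have hd1 : Disjoint (V₀ : Set X) (D.support : Set X) :=
        Set.disjoint_left.mpr fun z hz hzD => hVS hz (Or.inl hzD)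
      have hd2 : Disjoint (V₀ : Set X) (E.support : Set X) :=
        Set.disjoint_left.mpr fun z hz hzE => hVS hz (Or.inr hzE)
      rw [ideal_eq_top_of_disjoint D ⟨V₀, hV₀⟩ hd1, ideal_eq_top_of_disjoint E ⟨V₀, hV₀⟩ hd2,
        Ideal.top_pow, Ideal.top_pow]
  choose U hxU m n hmn hr hp using hall
  obtain ⟨T, hT⟩ := CompactSpace.elim_nhds_subcover (fun x => ((U x).1 : Set X))
    (fun x => (U x).1.isOpen.mem_nhds (hxU x))
  obtain ⟨P, hP⟩ : ∃ P : ℕ, P = ∏ x ∈ T, (m x + n x) := ⟨_, rfl⟩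
  have hPne : P ≠ 0 := by
    rw [hP, Finset.prod_ne_zero_iff]
    intro x _ h0
    apply hmn x
    have h1 : m x = 0 := by omega
    have h2 : n x = 0 := by omega
    rw [h1, h2]
  refine ⟨P * m₀, P * n₀, ?_, ?_⟩
  · intro h
    apply hmn₀
    have h1 : P * m₀ = 0 := (Prod.mk.injEq _ _ _ _ ▸ h).1
    have h2 : P * n₀ = 0 := (Prod.mk.injEq _ _ _ _ ▸ h).2
    rcases Nat.mul_eq_zero.mp h1 with h | h
    · exact (hPne h).elim
    rcases Nat.mul_eq_zero.mp h2 with h' | h'
    · exact (hPne h').elim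
    rw [h, h']
  · have hglob : D ^ (P * m₀) = E ^ (P * n₀) := by
      refine Scheme.IdealSheafData.ext_of_iSup_eq_top (fun x : T => U x.1) ?_ ?_
      · apply Opens.ext
        rw [Opens.coe_iSup, Opens.coe_top]
        apply Set.eq_univ_of_forall
        intro z
        have hz : z ∈ ⋃ x ∈ T, ((U x).1 : Set X) := by rw [hT]; trivial
        simp only [Set.mem_iUnion, exists_prop] at hz
        obtain ⟨x, hxT, hzx⟩ := hz
        exact Set.mem_iUnion.mpr ⟨⟨x, hxT⟩, hzx⟩
      · rintro ⟨x, hxT⟩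
        obtain ⟨q, hq⟩ : (m x + n x) ∣ P := by
          rw [hP]; exact Finset.dvd_prod_of_mem _ hxT
        have e1 : P * m₀ = (q * (m₀ + n₀)) * m x := by
          rw [hq]
          have := hp x
          nlinarith [this]
        have e2 : P * n₀ = (q * (m₀ + n₀)) * n x := by
          rw [hq]
          have := hp x
          nlinarith [this]
        change (D ^ (P * m₀)).ideal (U x) = (E ^ (P * n₀)).ideal (U x)
        rw [Scheme.IdealSheafData.ideal_pow, Scheme.IdealSheafData.ideal_pow, Pi.pow_apply,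
          Pi.pow_apply, e1, e2]
        calc D.ideal (U x) ^ (q * (m₀ + n₀) * m x)
            = (D.ideal (U x) ^ m x) ^ (q * (m₀ + n₀)) := by rw [← pow_mul, mul_comm]
          _ = (E.ideal (U x) ^ n x) ^ (q * (m₀ + n₀)) := by rw [hr x]
          _ = E.ideal (U x) ^ (q * (m₀ + n₀) * n x) := by rw [← pow_mul, mul_comm]
    intro V
    have := congrArg (fun I : X.IdealSheafData => I.ideal V) hglob
    simpa [Scheme.IdealSheafData.ideal_pow] using this

end Groth.Agent.Lib.Helper29.CDivRel
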