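import Groth.Agent.Lib.Helper29.CE2
universe u
open CategoryTheory CategoryTheory.Limits AlgebraicGeometry Opposite TopologicalSpace
open scoped TensorProduct

/-! # Sections of `L^n` from global generation of a twisted ideal (EGA II 4.5.2 c' ⇒ a) -/

namespace Groth.Agent.Lib.Helper29.QCoh

section CE3
variable {X : Scheme.{u}} {J : X.Modules} (i : J ⟶ unitM X) (M : X.Modules)

/-- The multiplication pairing `J × M → M`, `(a, m) ↦ i(a) • m`. -/
noncomputable def mulPairing : Pairing J M M where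
  b W a m := fromUnit (i.app W a) • m
  add_left W a a' m := by rw [map_add, fromUnit_add, add_smul]
  add_right W a m m' := smul_add _ _ _
  smul_left W r a m := by rw [app_smul', fromUnit_smul, mul_smul]
  smul_right W r a m := smul_comm _ _ _
  res {W W'} h a m := by
    rw [res_smul, app_res]
    rfl

/-- The multiplication morphism `J ⊗ M ⟶ M`. -/
noncomputable def mulHom : CohB1.tensorMod J M ⟶ M := tensorDesc (mulPairing i M)

theorem mulHom_tmulSec (W : X.Opens) (a : Γ(J, W)) (m : Γ(M, W)) :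
    (mulHom i M).app W (tmulSec J M a m) = fromUnit (i.app W a) • m :=
  tensorDesc_tmulSec (mulPairing i M) W a m


variable [J.IsQuasicoherent] [M.IsQuasicoherent]

/-- Over a trivialising affine open, the multiplication morphism takes values in `𝔞 • e`, for any
ideal `𝔞` containing the image of `J`. -/
theorem exists_mulHom_app_eq_smul (W : X.affineOpens) (𝔞 : Ideal Γ(X, W.1))
    (h𝔞 : ∀ t : Γ(J, W.1), fromUnit (i.app W.1 t) ∈ 𝔞)
    {e : Γ(M, W.1)} (he : IsTriv M W.1 e)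
    (τ : Γ(CohB1.tensorMod J M, W.1)) :
    ∃ c ∈ 𝔞, (mulHom i M).app W.1 τ = c • e := by
  obtain ⟨w, rfl⟩ := (tensorSectionsEquiv J M W.2).surjective τ
  induction w with
  | zero => exact ⟨0, Ideal.zero_mem _, by rw [map_zero, map_zero, zero_smul]⟩
  | tmul a m =>
    obtain ⟨b, rfl⟩ := he.exists_eq_smul m
    refine ⟨fromUnit (i.app W.1 a) * b, Ideal.mul_mem_right _ _ (h𝔞 a), ?_⟩
    rw [tensorSectionsEquiv_tmul, mulHom_tmulSec, mul_smul]
  | add w₁ w₂ h₁ h₂ =>
    obtain ⟨c₁, hc₁, e₁⟩ := h₁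
    obtain ⟨c₂, hc₂, e₂⟩ := h₂
    exact ⟨c₁ + c₂, Ideal.add_mem _ hc₁ hc₂, by rw [map_add, map_add, e₁, e₂, add_smul]⟩

/-- All sections of `J` (over affine opens) vanish at the points outside `U`. -/
def VanishesOff (i : J ⟶ unitM X) (U : X.Opens) : Prop :=
  ∀ (W : X.affineOpens) (t : Γ(J, W.1)) (y : X), y ∈ W.1 → y ∉ U →
    y ∉ X.basicOpen (fromUnit (i.app W.1 t))

/-- The section `μ(σ)` of `M` obtained from a global section `σ` of `J ⊗ M`. -/
noncomputable def mulSection (σ : Γ(CohB1.tensorMod J M, ⊤)) : unitM X ⟶ M :=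
  homOfSection M ((mulHom i M).app ⊤ σ)

theorem sval_mulSection (σ : Γ(CohB1.tensorMod J M, ⊤)) (W : X.Opens) :
    sval (mulSection i M σ) W =
      (mulHom i M).app W (QCoh.res (CohB1.tensorMod J M) le_top σ) := by
  unfold mulSection
  rw [sval_homOfSection, app_res]

theorem genLocus_mulSection_le (hM : PicF.IsInvertible M) (U : X.Opens)
    (hI : VanishesOff i U) (σ : Γ(CohB1.tensorMod J M, ⊤)) :
    CohB1.genLocus M (mulSection i M σ) ≤ U := by
  intro y hy
  by_contra hyU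
  obtain ⟨W, e', hW, hyW, -, he'⟩ := exists_affine_isTriv hM (W := ⊤) y trivial
  let 𝔞 : Ideal Γ(X, W) := Ideal.comap (X.presheaf.germ W y hyW).hom
    (IsLocalRing.maximalIdeal (X.presheaf.stalk y))
  have h𝔞 : ∀ t : Γ(J, W), fromUnit (i.app W t) ∈ 𝔞 := by
    intro t
    change (X.presheaf.germ W y hyW).hom (fromUnit (i.app W t)) ∈
      IsLocalRing.maximalIdeal (X.presheaf.stalk y)
    rw [IsLocalRing.mem_maximalIdeal, mem_nonunits_iff]
    intro hu
    exact hI ⟨W, hW⟩ t y hyW hyU ((Scheme.mem_basicOpen _ _ _ hyW).mpr hu)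
  obtain ⟨c, hc, hce⟩ := exists_mulHom_app_eq_smul i M ⟨W, hW⟩ 𝔞 h𝔞 he'
    (QCoh.res (CohB1.tensorMod J M) le_top σ)
  have hs : sval (mulSection i M σ) W = c • e' := by rw [sval_mulSection]; exact hce
  have hyc : y ∈ X.basicOpen c :=
    (mem_genLocus_iff_of_isTriv (mulSection i M σ) he' c hs y hyW).mp hy
  have hu : IsUnit ((X.presheaf.germ W y hyW).hom c) := (Scheme.mem_basicOpen _ _ _ hyW).mp hyc
  have hc' : (X.presheaf.germ W y hyW).hom c ∈ IsLocalRing.maximalIdeal (X.presheaf.stalk y) := hc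
  rw [IsLocalRing.mem_maximalIdeal, mem_nonunits_iff] at hc'
  exact hc' hu

theorem isAffineOpen_genLocus_mulSection (hM : PicF.IsInvertible M) (U : X.Opens)
    (hU : IsAffineOpen U) {e : Γ(M, U)} (he : IsTriv M U e)
    (hI : VanishesOff i U) (σ : Γ(CohB1.tensorMod J M, ⊤)) :
    IsAffineOpen (CohB1.genLocus M (mulSection i M σ)) := by
  obtain ⟨c, hc⟩ := he.exists_eq_smul (sval (mulSection i M σ) U)
  have heq : CohB1.genLocus M (mulSection i M σ) = X.basicOpen c := by
    ext y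
    constructor
    · intro hy
      have hyU : y ∈ U := genLocus_mulSection_le i M hM U hI σ hy
      exact (mem_genLocus_iff_of_isTriv _ he c hc y hyU).mp hy
    · intro hy
      have hyU : y ∈ U := X.basicOpen_le c hy
      exact (mem_genLocus_iff_of_isTriv _ he c hc y hyU).mpr hy
  rw [heq]
  exact hU.basicOpen c


omit [J.IsQuasicoherent] [M.IsQuasicoherent] in
/-- If `J ⊗ M` is generated at `x` by global sections, and `i` is onto near `x`, some `μ(σ)` does
not vanish at `x`. -/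
theorem exists_mem_genLocus_mulSection (U : X.Opens) {e : Γ(M, U)} (he : IsTriv M U e)
    (h1 : ∃ a : Γ(J, U), fromUnit (i.app U a) = 1) (x : X) (hx : x ∈ U)
    (hgen : GenAt (CohB1.tensorMod J M) x) :
    ∃ σ : Γ(CohB1.tensorMod J M, ⊤), x ∈ CohB1.genLocus M (mulSection i M σ) := by
  by_contra hcon
  push Not at hcon
  obtain ⟨a, ha⟩ := h1
  -- the property
  have hP : ∀ t ∈ Submodule.span (X.presheaf.stalk x)
      (Set.range fun σ : Γ(CohB1.tensorMod J M, ⊤) =>
        (CohB1.tensorMod J M).presheaf.germ ⊤ x trivial σ),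
      ∃ r : X.presheaf.stalk x, r ∈ nonunits (X.presheaf.stalk x) ∧
        stalkMap (mulHom i M) x t = r • M.presheaf.germ U x hx e := by
    intro t ht
    induction ht using Submodule.span_induction with
    | mem t ht =>
      obtain ⟨σ, rfl⟩ := ht
      obtain ⟨c, hc⟩ := he.exists_eq_smul (sval (mulSection i M σ) U)
      have hxc : x ∉ X.basicOpen c := fun h =>
        hcon σ ((mem_genLocus_iff_of_isTriv _ he c hc x hx).mpr h)
      refine ⟨X.presheaf.germ U x hx c, ?_, ?_⟩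
      · exact fun hu => hxc ((Scheme.mem_basicOpen _ _ _ hx).mpr hu)
      · rw [stalkMap_germ, ← germ_smul, ← hc]
        unfold mulSection
        rw [sval_homOfSection, germ_res]
    | zero => exact ⟨0, by simp, by rw [map_zero, zero_smul]⟩
    | add t t' _ _ h h' =>
      obtain ⟨r, hr, e₁⟩ := h
      obtain ⟨r', hr', e₂⟩ := h'
      exact ⟨r + r', IsLocalRing.nonunits_add hr hr', by rw [map_add, e₁, e₂, add_smul]⟩
    | smul c t _ h =>
      obtain ⟨r, hr, e₁⟩ := h
      exact ⟨c * r, mul_mem_nonunits_right hr, by rw [stalkMap_smul, e₁, mul_smul]⟩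
  rw [GenAt] at hgen
  obtain ⟨r, hr, hre⟩ := hP ((CohB1.tensorMod J M).presheaf.germ U x hx (tmulSec J M a e))
    (by rw [hgen]; trivial)
  rw [stalkMap_germ, mulHom_tmulSec, ha, one_smul] at hre
  have hu : IsUnit (1 - r) := IsLocalRing.isUnit_one_sub_self_of_mem_nonunits r hr
  have h0 : (1 - r) • M.presheaf.germ U x hx e = 0 := by
    rw [sub_smul, one_smul, ← hre, sub_self]
  have hge : M.presheaf.germ U x hx e = 0 := eq_zero_of_isUnit_smul hu h0
  obtain ⟨V, hVU, hxV, hV0⟩ := exists_res_eq_zero_of_germ_eq_zero M x hx e hge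
  have hb := (he V hVU).1
  have h10 : (1 : Γ(X, V)) = 0 := hb (by simp only [hV0, smul_zero])
  have : (1 : X.presheaf.stalk x) = 0 := by
    have := congrArg (X.presheaf.germ V x hxV) h10
    rwa [map_one, map_zero] at this
  exact one_ne_zero this


omit [J.IsQuasicoherent] [M.IsQuasicoherent] in
theorem vanishesOff_of_mem_vanishingIdeal (U : X.Opens)
    (hI : ∀ (W : X.affineOpens) (t : Γ(J, W.1)), fromUnit (i.app W.1 t) ∈
      (Scheme.IdealSheafData.vanishingIdeal ⟨(U : Set X)ᶜ, U.2.isClosed_compl⟩).ideal W) :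
    VanishesOff i U := fun W t _ hyW hyU =>
  notMem_basicOpen_of_mem_vanishingIdeal _ W (hI W t) hyW hyU

/-- **Lemma P.**  EGA II 4.5.2, (c') ⇒ (a), one point at a time. -/
theorem exists_affine_genLocus_of_isGloballyGenerated_twisted_ideal (hM : PicF.IsInvertible M)
    (U : X.Opens) (hU : IsAffineOpen U) {e : Γ(M, U)} (he : IsTriv M U e)
    (h1 : ∃ a : Γ(J, U), fromUnit (i.app U a) = 1) (hI : VanishesOff i U) (x : X) (hx : x ∈ U)
    (hgg : Curv2.IsGloballyGenerated (CohB1.tensorMod J M)) :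
    ∃ s : unitM X ⟶ M, x ∈ CohB1.genLocus M s ∧ IsAffineOpen (CohB1.genLocus M s) := by
  obtain ⟨σ, hσ⟩ := exists_mem_genLocus_mulSection i M U he h1 x hx
    (genAt_of_isGloballyGenerated hgg x)
  exact ⟨mulSection i M σ, hσ, isAffineOpen_genLocus_mulSection i M hM U hU he hI σ⟩

end CE3

section Transfer
variable {X : Scheme.{u}} {J : X.Modules} (i : J ⟶ unitM X) (X₁ : X.Opens)

/-- The restriction of `i : J ⟶ O_X` to an open subscheme. -/
noncomputable def restrictToUnit : J.restrict X₁.ι ⟶ unitM (X₁ : Scheme.{u}) :=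
  (Scheme.Modules.restrictFunctor X₁.ι).map i ≫ (restrictUnitIso' X₁.ι).hom

theorem fromUnit_restrictToUnit_app (W' : (X₁ : Scheme.{u}).Opens) (t : Γ(J, X₁.ι ''ᵁ W')) :
    fromUnit ((restrictToUnit i X₁).app W' t) =
      (X₁.ι.appIso W').hom (fromUnit (i.app (X₁.ι ''ᵁ W') t)) := rfl

theorem vanishesOff_restrictToUnit {U : X.Opens} (hI : VanishesOff i U) :
    VanishesOff (restrictToUnit i X₁) (X₁.ι ⁻¹ᵁ U) := by
  intro W' t y' hy'W hy'U hb
  rw [fromUnit_restrictToUnit_app] at hb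
  have hW : IsAffineOpen (X₁.ι ''ᵁ W'.1) := W'.2.image_of_isOpenImmersion X₁.ι
  refine hI ⟨X₁.ι ''ᵁ W'.1, hW⟩ t (X₁.ι y') ⟨y', hy'W, rfl⟩ hy'U ?_
  have h2 : X₁.ι y' ∈ X₁.ι ''ᵁ (X₁ : Scheme.{u}).basicOpen
      ((X₁.ι.appIso W'.1).hom (fromUnit (i.app (X₁.ι ''ᵁ W'.1) t))) := ⟨y', hb, rfl⟩
  rw [Scheme.image_basicOpen] at h2
  have h3 : (X₁.ι.appIso W'.1).inv ((X₁.ι.appIso W'.1).hom
      (fromUnit (i.app (X₁.ι ''ᵁ W'.1) t))) = fromUnit (i.app (X₁.ι ''ᵁ W'.1) t) := by
    rw [← ConcreteCategory.comp_apply, Iso.hom_inv_id]; rfl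
  rw [h3] at h2
  exact h2

theorem exists_restrictToUnit_app_eq_one {U : X.Opens} (hU : U ≤ X₁)
    (h1 : ∃ a : Γ(J, U), fromUnit (i.app U a) = 1) :
    ∃ a' : Γ(J.restrict X₁.ι, X₁.ι ⁻¹ᵁ U),
      fromUnit ((restrictToUnit i X₁).app (X₁.ι ⁻¹ᵁ U) a') = 1 := by
  obtain ⟨a, ha⟩ := h1
  have hle : X₁.ι ''ᵁ (X₁.ι ⁻¹ᵁ U) ≤ U := by
    rw [X₁.ι.image_preimage_eq_opensRange_inf]; exact inf_le_right
  refine ⟨QCoh.res J hle a, ?_⟩
  rw [fromUnit_restrictToUnit_app, app_res]
  have : fromUnit (QCoh.res (unitM X) hle (i.app U a)) =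
      X.presheaf.map (homOfLE hle).op (fromUnit (i.app U a)) := rfl
  rw [this, ha, map_one, map_one]

end Transfer

end Groth.Agent.Lib.Helper29.QCoh
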