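import Groth.Agent.Lib.Helper29.CE4
import Groth.Prelude.Def_BlowUp2
universe u
open CategoryTheory CategoryTheory.Limits AlgebraicGeometry Opposite TopologicalSpace

/-! # The ideal sheaf datum of a quasi-coherent subsheaf of `O_X` -/

namespace Groth.Agent.Lib.Helper29.QCoh

section CE5
variable {X : Scheme.{u}} {K : X.Modules} (i : K ⟶ unitM X)

/-- The image of `K(W) → O_X(W)` as an ideal. -/
def rangeIdeal (W : X.Opens) : Ideal Γ(X, W) where
  carrier := {a | ∃ t : Γ(K, W), fromUnit (i.app W t) = a}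
  add_mem' := by
    rintro _ _ ⟨t, rfl⟩ ⟨t', rfl⟩
    exact ⟨t + t', by rw [map_add]; rfl⟩
  zero_mem' := ⟨0, by rw [map_zero]; rfl⟩
  smul_mem' := by
    rintro c _ ⟨t, rfl⟩
    exact ⟨c • t, by rw [app_smul']; rfl⟩

theorem mem_rangeIdeal {W : X.Opens} {a : Γ(X, W)} :
    a ∈ rangeIdeal i W ↔ ∃ t : Γ(K, W), fromUnit (i.app W t) = a := Iff.rfl

variable [K.IsQuasicoherent]

theorem map_rangeIdeal_basicOpen (U : X.affineOpens) (f : Γ(X, U.1)) :
    (rangeIdeal i U.1).map (X.presheaf.map (homOfLE (X.basicOpen_le f)).op).hom =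
      rangeIdeal i (X.basicOpen f) := by
  apply le_antisymm
  · rw [Ideal.map_le_iff_le_comap]
    rintro _ ⟨t, rfl⟩
    refine ⟨QCoh.res K (X.basicOpen_le f) t, ?_⟩
    rw [app_res]
    rfl
  · rintro _ ⟨t', rfl⟩
    obtain ⟨n, m, hnm⟩ := exists_pow_smul_eq_res K U.2 f t'
    have h1 := congrArg (fun z => fromUnit (i.app (X.basicOpen f) z)) hnm
    simp only at h1
    rw [app_smul', app_res] at h1
    have hu : IsUnit (X.presheaf.map (homOfLE (X.basicOpen_le f)).op f) :=
      RingedSpace.isUnit_res_basicOpen _ f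
    obtain ⟨u, hu'⟩ := (hu.pow n)
    have h2 : fromUnit (i.app (X.basicOpen f) t') =
        (↑u⁻¹ : Γ(X, X.basicOpen f)) *
          (X.presheaf.map (homOfLE (X.basicOpen_le f)).op) (fromUnit (i.app U.1 m)) := by
      have h3 : (X.presheaf.map (homOfLE (X.basicOpen_le f)).op f) ^ n *
          fromUnit (i.app (X.basicOpen f) t') =
          (X.presheaf.map (homOfLE (X.basicOpen_le f)).op) (fromUnit (i.app U.1 m)) := h1
      rw [← h3, ← hu', ← mul_assoc, Units.inv_mul, one_mul]
    rw [h2]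
    exact Ideal.mul_mem_left _ _ (Ideal.mem_map_of_mem _ ⟨m, rfl⟩)

/-- The ideal sheaf datum of a quasi-coherent subsheaf of `O_X`. -/
noncomputable def idealOfHom : X.IdealSheafData where
  ideal W := rangeIdeal i W.1
  map_ideal_basicOpen U f := map_rangeIdeal_basicOpen i U f

theorem idealOfHom_ideal (W : X.affineOpens) : (idealOfHom i).ideal W = rangeIdeal i W.1 := rfl

theorem isFiniteTypeIdeal_idealOfHom [K.IsFiniteType] :
    BlowUp.IsFiniteTypeIdeal (idealOfHom i) := by
  classical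
  intro W
  have hfin : Module.Finite Γ(X, W.1) Γ(K, W.1) := module_finite_of_isFiniteType K W.2
  obtain ⟨s, hs⟩ := hfin.fg_top
  refine ⟨s.image (fun t => fromUnit (i.app W.1 t)), ?_⟩
  apply le_antisymm
  · rw [Ideal.span_le]
    intro a ha
    simp only [Finset.coe_image, Set.mem_image] at ha
    obtain ⟨t, -, rfl⟩ := ha
    exact ⟨t, rfl⟩
  · rintro _ ⟨t, rfl⟩
    have ht : t ∈ Submodule.span Γ(X, W.1) (s : Set Γ(K, W.1)) := by rw [hs]; trivial
    induction ht using Submodule.span_induction with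
    | mem t ht => exact Ideal.subset_span (Finset.mem_coe.mpr (Finset.mem_image_of_mem _ ht))
    | zero => rw [map_zero]; exact Ideal.zero_mem _
    | add t t' _ _ h h' => rw [map_add]; exact Ideal.add_mem _ h h'
    | smul c t _ h => rw [app_smul']; exact Ideal.mul_mem_left _ c h

end CE5

end Groth.Agent.Lib.Helper29.QCoh
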