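import Groth.Agent.Lib.Helper1.AffThick
import Groth.Agent.Lib.Helper29.QCohAffine
import Mathlib.Algebra.Category.ModuleCat.Sheaf.PullbackContinuous

universe u
open CategoryTheory AlgebraicGeometry TopologicalSpace Opposite

namespace Groth.Agent.Lib.Helper29.CartM

theorem surjective_of_nilpotent {T Tc : Scheme.{u}} (i : T ⟶ Tc) [IsClosedImmersion i]
    (hnil : ∃ n : ℕ, ∀ V : Tc.affineOpens, i.ker.ideal V ^ n = ⊥) : Function.Surjective i := by
  obtain ⟨n, hn⟩ := hnil
  intro x
  have hx : x ∈ i.ker.support := by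
    obtain ⟨V, hV, hxV, -⟩ :=
      AlgebraicGeometry.exists_isAffineOpen_mem_and_subset (x := x) (U := (⊤ : Tc.Opens)) trivial
    rw [Scheme.IdealSheafData.mem_support_iff_of_mem (U := ⟨V, hV⟩) hxV, Scheme.mem_zeroLocus_iff]
    intro f hf hxf
    have h1 : f ^ (n + 1) ∈ i.ker.ideal ⟨V, hV⟩ ^ (n + 1) := Ideal.pow_mem_pow hf (n + 1)
    rw [pow_succ, hn ⟨V, hV⟩, Ideal.bot_mul, Ideal.mem_bot] at h1
    have h2 : Tc.basicOpen (f ^ (n + 1)) = ⊥ := by rw [h1, Scheme.basicOpen_zero]
    rw [Tc.basicOpen_pow f (Nat.succ_pos n)] at h2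
    rw [h2] at hxf
    exact hxf
  have h3 : closure (Set.range i) = Set.range i :=
    i.isClosedEmbedding.isClosed_range.closure_eq
  have hx' : x ∈ closure (Set.range i) := by
    rw [← Scheme.Hom.support_ker]; exact hx
  rw [h3] at hx'
  exact hx'

theorem isAffineOpen_of_preimage {T Tc : Scheme.{u}} (i : T ⟶ Tc) [IsClosedImmersion i]
    (hi : Function.Surjective i) (W : Tc.Opens) (hW : IsAffineOpen (i ⁻¹ᵁ W)) :
    IsAffineOpen W := by
  haveI : IsAffine (i ⁻¹ᵁ W).toScheme := hW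
  haveI : IsClosedImmersion (i ∣_ W) := IsZariskiLocalAtTarget.restrict (P := @IsClosedImmersion) inferInstance W
  have hs : Function.Surjective (i ∣_ W) := by
    rintro ⟨y, hy⟩
    obtain ⟨x, rfl⟩ := hi y
    exact ⟨⟨x, hy⟩, Subtype.ext (morphismRestrict_base_coe i W ⟨x, hy⟩)⟩
  exact Groth.Agent.Lib.Helper1.AffThick.isAffine_of_thickening (i ∣_ W) hs

open Groth.Agent.Lib.Helper29.QCoh in
theorem epi_pushforward_map {Tc U : Scheme.{u}} (g : Tc.carrier ⟶ U.carrier)
    (hg : ∀ V : U.Opens, IsAffineOpen V → IsAffineOpen ((Opens.map g).obj V))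
    (M N : Tc.Modules) [M.IsQuasicoherent] [N.IsQuasicoherent] (φ : M ⟶ N) [Epi φ] :
    Epi ((SheafOfModules.pushforward (F := Opens.map g) (R := Tc.ringCatSheaf)
      (𝟙 (((Opens.map g).sheafPushforwardContinuous RingCat.{u} (Opens.grothendieckTopology U)
        (Opens.grothendieckTopology Tc)).obj Tc.ringCatSheaf))).map φ) := by
  apply (SheafOfModules.toSheaf _).epi_of_epi_map
  haveI : Sheaf.IsLocallySurjective ((SheafOfModules.toSheaf _).map
      ((SheafOfModules.pushforward (F := Opens.map g) (R := Tc.ringCatSheaf)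
      (𝟙 (((Opens.map g).sheafPushforwardContinuous RingCat.{u} (Opens.grothendieckTopology U)
        (Opens.grothendieckTopology Tc)).obj Tc.ringCatSheaf))).map φ)) := by
    constructor
    intro V s x hx
    obtain ⟨V', hV', hxV', hle⟩ :=
      AlgebraicGeometry.exists_isAffineOpen_mem_and_subset (x := x) (U := V) hx
    refine ⟨V', homOfLE hle, ?_, hxV'⟩
    obtain ⟨t, ht⟩ := app_surjective_of_epi φ (hg V' hV')
      (N.val.map ((Opens.map g).map (homOfLE hle)).op s)
    exact ⟨t, ht⟩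
  infer_instance

end Groth.Agent.Lib.Helper29.CartM
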