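import Mathlib
import Groth.Agent.Lib.Helper29.Glue1
import Groth.Agent.Lib.Helper1.IdealSheafComap
import Groth.Prelude.Def_CInt
universe u
open CategoryTheory CategoryTheory.Limits AlgebraicGeometry TopologicalSpace Opposite

/-! # Effective Cartier divisors on a normal scheme are determined by their pullback along a
proper schematically dominant morphism -/

namespace Groth.Agent.Lib.Helper29.CartPull
open Groth.Agent.Lib.Helper29.QCoh Groth.Agent.Lib.Helper29.QCoh.Glue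

section Alg

theorem mem_span_of_integral_quotient {A B R : Type*} [CommRing A] [CommRing B] [CommRing R]
    (φ : A →+* B) (hφ : Function.Injective φ) (g h : A) (u : B) (hu : φ.IsIntegralElem u)
    (huh : φ h = φ g * u) (ψ : A →+* R) [IsDomain R] [IsIntegrallyClosed R] (hg : ψ g ≠ 0) :
    ψ h ∈ Ideal.span {ψ g} := by
  obtain ⟨p, hp, hpu⟩ := hu
  have h1 : Polynomial.eval₂ φ (φ g * u) (p.scaleRoots g) = 0 :=
    Polynomial.scaleRoots_eval₂_eq_zero φ hpu
  rw [← huh, Polynomial.eval₂_at_apply] at h1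
  have h2 : Polynomial.eval h (p.scaleRoots g) = 0 := hφ (by rw [h1, map_zero])
  have h3 : Polynomial.eval (ψ h) ((p.map ψ).scaleRoots (ψ g)) = 0 := by
    rw [← Polynomial.map_scaleRoots p g ψ (by rw [hp.leadingCoeff, map_one]; exact one_ne_zero),
      Polynomial.eval_map, Polynomial.eval₂_at_apply, h2, map_zero]
  have hι : Function.Injective (algebraMap R (FractionRing R)) := IsFractionRing.injective R _
  have hg' : algebraMap R (FractionRing R) (ψ g) ≠ 0 := fun h0 => hg (hι (by rw [h0, map_zero]))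
  have h4 := Polynomial.scaleRoots_eval₂_mul (p := p.map ψ) (algebraMap R (FractionRing R))
    (algebraMap R (FractionRing R) (ψ h) / algebraMap R (FractionRing R) (ψ g)) (ψ g)
  rw [mul_div_cancel₀ _ hg', Polynomial.eval₂_at_apply, h3, map_zero] at h4
  have h5 : Polynomial.eval₂ (algebraMap R (FractionRing R))
      (algebraMap R (FractionRing R) (ψ h) / algebraMap R (FractionRing R) (ψ g)) (p.map ψ) = 0 := by
    rcases mul_eq_zero.mp h4.symm with h | h
    · exact absurd h (pow_ne_zero _ hg')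
    · exact h
  have hint : IsIntegral R
      (algebraMap R (FractionRing R) (ψ h) / algebraMap R (FractionRing R) (ψ g)) :=
    ⟨p.map ψ, hp.map ψ, h5⟩
  obtain ⟨r, hr⟩ := IsIntegrallyClosed.isIntegral_iff.mp hint
  refine Ideal.mem_span_singleton'.mpr ⟨r, hι ?_⟩
  rw [map_mul, hr, div_mul_cancel₀ _ hg']

end Alg

section Sch
variable {S S' : Scheme.{u}}

theorem le_iSup_affine (T : S'.Opens) :
    T ≤ ⨆ k : {W : S'.affineOpens // W.1 ≤ T}, k.1.1 := by
  intro x hx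
  obtain ⟨W, hW, hxW, hWT⟩ := exists_isAffineOpen_mem_and_subset (x := x) (U := T) hx
  exact Opens.mem_iSup.mpr ⟨⟨⟨W, hW⟩, hWT⟩, hxW⟩

theorem isIntegral_app_of_appLE (f : S' ⟶ S) (V T : S.Opens) (T' : S'.Opens) (e₁ : T = V)
    (e₂ : T' = f ⁻¹ᵁ V) (le : T' ≤ f ⁻¹ᵁ T) (hint : (f.appLE T T' le).hom.IsIntegral) :
    (f.app V).hom.IsIntegral := by
  subst e₁
  subst e₂
  rw [Scheme.Hom.app_eq_appLE]
  exact hint

theorem isIntegral_app (f : S' ⟶ S) [UniversallyClosed f] (V : S.Opens) (hV : IsAffineOpen V) :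
    (f.app V).hom.IsIntegral := by
  haveI : IsAffine (V : Scheme.{u}) := hV
  have := isIntegral_appTop_of_universallyClosed (f ∣_ V)
  rw [Scheme.Hom.appTop, morphismRestrict_app'] at this
  exact isIntegral_app_of_appLE f V _ _ V.ι_image_top (by simp) _ this

variable [IsLocallyNoetherian S]

theorem core
    (hnorm : ∀ x : S, IsDomain (S.presheaf.stalk x) ∧ IsIntegrallyClosed (S.presheaf.stalk x))
    (f : S' ⟶ S) [IsProper f] (hdom : f.ker = ⊥) (U : S.Opens)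
    (hU' : CInt.IsSchematicallyDense (f ⁻¹ᵁ U)) (D E : S.IdealSheafData)
    (hDU : (D.support : Set S) ⊆ (U : Set S)ᶜ) (hle : E.comap f ≤ D.comap f)
    (V : S.affineOpens) (g h : Γ(S, V.1)) (hDg : D.ideal V = Ideal.span {g})
    (hEh : E.ideal V = Ideal.span {h})
    (hg : ∀ y (hy : y ∈ V.1), (S.presheaf.germ V.1 y hy).hom g ≠ 0) :
    h ∈ Ideal.span {g} := by
  -- sections on affine opens of `f⁻¹ V`
  have happLE : ∀ (W : S'.Opens) (hW : W ≤ f ⁻¹ᵁ V.1) (a : Γ(S, V.1)),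
      (f.appLE V.1 W hW).hom a = rres S' hW ((f.app V.1).hom a) := fun W hW a => rfl
  -- step 1
  have step1 : ∀ (W : S'.affineOpens) (hW : W.1 ≤ f ⁻¹ᵁ V.1),
      ∃ c : Γ(S', W.1), c * rres S' hW ((f.app V.1).hom g) = rres S' hW ((f.app V.1).hom h) := by
    intro W hW
    have h1 := Groth.Agent.Lib.Helper1.ideal_comap D f W V hW
    have h2 := Groth.Agent.Lib.Helper1.ideal_comap E f W V hW
    have h3 : (E.comap f).ideal W ≤ (D.comap f).ideal W := hle W
    rw [h1, h2, hDg, hEh, Ideal.map_span, Ideal.map_span, Set.image_singleton,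
      Set.image_singleton, Ideal.span_singleton_le_iff_mem] at h3
    rw [happLE, happLE] at h3
    exact Ideal.mem_span_singleton'.mp h3
  -- g is a unit over U
  have hVU : V.1 ⊓ U ≤ S.basicOpen g := by
    rintro y ⟨hyV, hyU⟩
    have hy : y ∉ D.support := fun hy => hDU hy hyU
    rw [Scheme.IdealSheafData.mem_support_iff_of_mem (U := V) hyV, hDg, Scheme.zeroLocus_span,
      Scheme.zeroLocus_singleton] at hy
    by_contra hyg
    exact hy hyg
  -- step 2: nonzerodivisor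
  have step2 : ∀ (W : S'.Opens) (hW : W ≤ f ⁻¹ᵁ V.1) (a : Γ(S', W)),
      a * rres S' hW ((f.app V.1).hom g) = 0 → a = 0 := by
    intro W hW a ha
    have hle : W ⊓ f ⁻¹ᵁ U ≤ S'.basicOpen (rres S' hW ((f.app V.1).hom g)) := by
      rintro z ⟨hzW, hzU⟩
      have h2 : S'.basicOpen (rres S' hW ((f.app V.1).hom g)) =
          W ⊓ S'.basicOpen ((f.app V.1).hom g) := S'.basicOpen_res _ (homOfLE hW).op
      rw [h2]
      refine ⟨hzW, ?_⟩
      have h3 : f ⁻¹ᵁ S.basicOpen g = S'.basicOpen ((f.app V.1).hom g) :=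
        Scheme.preimage_basicOpen f g
      rw [← h3]
      exact hVU ⟨hW hzW, hzU⟩
    have hunit : IsUnit (rres S' (inf_le_left : W ⊓ f ⁻¹ᵁ U ≤ W)
        (rres S' hW ((f.app V.1).hom g))) := (isUnit_rres_iff _ _).mpr hle
    have h0 := congrArg (rres S' (inf_le_left : W ⊓ f ⁻¹ᵁ U ≤ W)) ha
    rw [map_mul, map_zero] at h0
    have h1 : rres S' (inf_le_left : W ⊓ f ⁻¹ᵁ U ≤ W) a = 0 := by
      have := congrArg (· * (↑hunit.unit⁻¹ : Γ(S', W ⊓ f ⁻¹ᵁ U))) h0
      simpa [mul_assoc] using this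
    exact hU' W (by rw [map_zero]; exact h1)
  -- step 3: glue
  choose c hc using step1
  have hcompat : ∀ k l : {W : S'.affineOpens // W.1 ≤ f ⁻¹ᵁ V.1},
      rres S' (inf_le_left : k.1.1 ⊓ l.1.1 ≤ k.1.1) (c k.1 k.2) =
        rres S' (inf_le_right : k.1.1 ⊓ l.1.1 ≤ l.1.1) (c l.1 l.2) := by
    intro k l
    refine fun_ext_of_cover (fun m : {W : S'.affineOpens // W.1 ≤ k.1.1 ⊓ l.1.1} => m.1.1)
      (k.1.1 ⊓ l.1.1) (fun m => m.2) (le_iSup_affine _) _ _ (fun m => ?_)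
    rw [rres_rres, rres_rres]
    have hmV : m.1.1 ≤ f ⁻¹ᵁ V.1 := (m.2.trans inf_le_left).trans k.2
    have hk := congrArg (rres S' (m.2.trans inf_le_left)) (hc k.1 k.2)
    have hl := congrArg (rres S' (m.2.trans inf_le_right)) (hc l.1 l.2)
    rw [map_mul, rres_rres, rres_rres] at hk hl
    have hsub : (rres S' (m.2.trans inf_le_left) (c k.1 k.2) -
        rres S' (m.2.trans inf_le_right) (c l.1 l.2)) *
        rres S' hmV ((f.app V.1).hom g) = 0 := by
      rw [sub_mul, hk, hl, sub_self]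
    exact sub_eq_zero.mp (step2 _ hmV _ hsub)
  obtain ⟨u, hu⟩ := exists_glue_fun
    (fun k : {W : S'.affineOpens // W.1 ≤ f ⁻¹ᵁ V.1} => k.1.1) (f ⁻¹ᵁ V.1) (fun k => k.2)
    (le_iSup_affine _) (fun k => c k.1 k.2) hcompat
  have huh : (f.app V.1).hom h = (f.app V.1).hom g * u := by
    refine fun_ext_of_cover (fun k : {W : S'.affineOpens // W.1 ≤ f ⁻¹ᵁ V.1} => k.1.1)
      (f ⁻¹ᵁ V.1) (fun k => k.2) (le_iSup_affine _) _ _ (fun k => ?_)
    rw [map_mul, hu k, mul_comm]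
    exact (hc k.1 k.2).symm
  -- injectivity and integrality
  have hinj : Function.Injective (f.app V.1).hom := by
    rw [RingHom.injective_iff_ker_eq_bot, ← Scheme.Hom.ker_apply f V, hdom]
    rfl
  have hint : (f.app V.1).hom.IsIntegralElem u := isIntegral_app f V.1 V.2 u
  -- local-global
  have hfin : Ideal.span {h} ≤ Ideal.span {g} := by
    rw [V.2.ideal_le_iff]
    intro y hy
    rw [Ideal.map_span, Ideal.map_span, Set.image_singleton, Set.image_singleton,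
      Ideal.span_singleton_le_iff_mem]
    haveI := (hnorm y).1
    haveI := (hnorm y).2
    exact mem_span_of_integral_quotient (f.app V.1).hom hinj g h u hint huh
      (S.presheaf.germ V.1 y hy).hom (hg y hy)
  exact hfin (Ideal.mem_span_singleton_self h)

theorem exists_good (D : S.IdealSheafData) (x : S) (V₁ : S.affineOpens) (hxV₁ : x ∈ V₁.1)
    (g₁ : Γ(S, V₁.1)) (hg₁ : g₁ ∈ nonZeroDivisors Γ(S, V₁.1)) (hDg₁ : D.ideal V₁ = Ideal.span {g₁})
    (V : S.affineOpens) (hle : V ≤ V₁) :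
    ∃ g : Γ(S, V.1), D.ideal V = Ideal.span {g} ∧
      ∀ y (hy : y ∈ V.1), (S.presheaf.germ V.1 y hy).hom g ≠ 0 := by
  refine ⟨(S.presheaf.map (homOfLE hle).op).hom g₁, ?_, ?_⟩
  · rw [← D.map_ideal hle, hDg₁, Ideal.map_span, Set.image_singleton]
  · intro y hy
    have h1 : (S.presheaf.germ V.1 y hy).hom ((S.presheaf.map (homOfLE hle).op).hom g₁) =
        (S.presheaf.germ V₁.1 y (hle hy)).hom g₁ :=
      TopCat.Presheaf.germ_res_apply S.presheaf (homOfLE hle) y hy g₁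
    rw [h1]
    letI : Algebra Γ(S, V₁.1) (S.presheaf.stalk y) :=
      TopCat.Presheaf.algebra_section_stalk S.presheaf ⟨y, hle hy⟩
    haveI := V₁.2.isLocalization_stalk ⟨y, hle hy⟩
    have h2 := IsLocalization.map_nonZeroDivisors_le
      (V₁.2.primeIdealOf ⟨y, hle hy⟩).asIdeal.primeCompl (S.presheaf.stalk y)
      (Submonoid.mem_map_of_mem _ hg₁)
    exact nonZeroDivisors.ne_zero h2

theorem eq_of_comap_eq
    (hnorm : ∀ x : S, IsDomain (S.presheaf.stalk x) ∧ IsIntegrallyClosed (S.presheaf.stalk x))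
    (f : S' ⟶ S) [IsProper f] (hdom : f.ker = ⊥) (U : S.Opens)
    (hU' : CInt.IsSchematicallyDense (f ⁻¹ᵁ U)) (D E : S.IdealSheafData)
    (hD : ∀ x : S, ∃ U : S.affineOpens, x ∈ (U : S.Opens) ∧ ∃ g : Γ(S, U),
      g ∈ nonZeroDivisors Γ(S, U) ∧ D.ideal U = Ideal.span {g})
    (hE : ∀ x : S, ∃ U : S.affineOpens, x ∈ (U : S.Opens) ∧ ∃ g : Γ(S, U),
      g ∈ nonZeroDivisors Γ(S, U) ∧ E.ideal U = Ideal.span {g})
    (hDU : (D.support : Set S) ⊆ (U : Set S)ᶜ) (hEU : (E.support : Set S) ⊆ (U : Set S)ᶜ)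
    (h : D.comap f = E.comap f) : D = E := by
  have hgood : ∀ x : S, ∃ V : S.affineOpens, x ∈ V.1 ∧ ∃ g h' : Γ(S, V.1),
      D.ideal V = Ideal.span {g} ∧ E.ideal V = Ideal.span {h'} ∧
      (∀ y (hy : y ∈ V.1), (S.presheaf.germ V.1 y hy).hom g ≠ 0) ∧
      (∀ y (hy : y ∈ V.1), (S.presheaf.germ V.1 y hy).hom h' ≠ 0) := by
    intro x
    obtain ⟨V₁, hxV₁, g₁, hg₁, hDg₁⟩ := hD x
    obtain ⟨V₂, hxV₂, h₂, hh₂, hEh₂⟩ := hE x
    obtain ⟨V, hV, hxV, hVle⟩ := exists_isAffineOpen_mem_and_subset (x := x)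
      (U := V₁.1 ⊓ V₂.1) ⟨hxV₁, hxV₂⟩
    have hle₁ : (⟨V, hV⟩ : S.affineOpens) ≤ V₁ := fun y hy => (hVle hy).1
    have hle₂ : (⟨V, hV⟩ : S.affineOpens) ≤ V₂ := fun y hy => (hVle hy).2
    obtain ⟨g, hg1, hg2⟩ := exists_good D x V₁ hxV₁ g₁ hg₁ hDg₁ ⟨V, hV⟩ hle₁
    obtain ⟨h', hh1, hh2⟩ := exists_good E x V₂ hxV₂ h₂ hh₂ hEh₂ ⟨V, hV⟩ hle₂
    exact ⟨⟨V, hV⟩, hxV, g, h', hg1, hh1, hg2, hh2⟩
  choose V hxV g h' hDg hEh hg hh using hgood
  refine Scheme.IdealSheafData.ext_of_iSup_eq_top V ?_ (fun x => ?_)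
  · rw [eq_top_iff]
    intro x _
    exact Opens.mem_iSup.mpr ⟨x, hxV x⟩
  · rw [hDg x, hEh x]
    apply le_antisymm
    · rw [Ideal.span_singleton_le_iff_mem]
      exact core hnorm f hdom U hU' E D hEU h.le (V x) (h' x) (g x) (hEh x) (hDg x) (hh x)
    · rw [Ideal.span_singleton_le_iff_mem]
      exact core hnorm f hdom U hU' D E hDU h.ge (V x) (g x) (h' x) (hDg x) (hEh x) (hg x)

end Sch

end Groth.Agent.Lib.Helper29.CartPull
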