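import Groth.Agent.Lib.Helper29.Thick1
universe u
open CategoryTheory CategoryTheory.Limits AlgebraicGeometry TopologicalSpace Opposite

/-! # Functions on a reduced scheme covered by finitely many closed subschemes with discrete
pairwise intersections -/

namespace Groth.Agent.Lib.Helper29.ClCov
open Groth.Agent.Lib.Helper29.QCoh Groth.Agent.Lib.Helper29.QCoh.Glue Groth.Agent.Lib.Helper29.Punct
open Groth.Agent.Lib.Helper29 Groth.Agent.Lib.Helper29.Desc

variable {X : Scheme.{u}} {κ : Type} (Zs : κ → Scheme.{u}) (ι : ∀ i, Zs i ⟶ X)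

theorem rsec_eq_of_forall_not_mem {W : X.Opens} (hW : ∀ x : X, x ∉ W) (a b : Γ(X, W)) : a = b :=
  fun_ext_of_cover (X := X) (fun k : PEmpty.{1} => k.elim) W (fun k => k.elim)
    (fun x hx => absurd hx (hW x)) a b (fun k => k.elim)

/-- Functions on a reduced scheme are determined by their restrictions to the members of a
jointly surjective family. -/
theorem eq_of_forall_app_eq [IsReduced X] (hcov : ⋃ i, Set.range (ι i) = Set.univ)
    {W : X.Opens} (ρ₁ ρ₂ : Γ(X, W)) (h : ∀ i, (ι i).app W ρ₁ = (ι i).app W ρ₂) : ρ₁ = ρ₂ := by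
  rw [← sub_eq_zero, ← AlgebraicGeometry.basicOpen_eq_bot_iff]
  ext y
  constructor
  · intro hy
    have : y ∈ ⋃ i, Set.range (ι i) := by rw [hcov]; trivial
    obtain ⟨i, z, rfl⟩ := Set.mem_iUnion.mp this
    have hz : z ∈ ι i ⁻¹ᵁ X.basicOpen (ρ₁ - ρ₂) := hy
    rw [Scheme.preimage_basicOpen, map_sub, h i, sub_self, Scheme.basicOpen_zero] at hz
    exact hz
  · intro hy
    exact absurd hy (by simp)

/-- The open part of `X` lying only on the `i`-th member. -/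
def Uo [Finite κ] [∀ i, IsClosedImmersion (ι i)] (i : κ) : X.Opens :=
  ⟨(⋃ j ∈ {j | j ≠ i}, Set.range (ι j))ᶜ,
    ((Set.toFinite _).isClosed_biUnion fun j _ => (ι j).isClosedEmbedding.isClosed_range).isOpen_compl⟩

variable [Finite κ] [∀ i, IsClosedImmersion (ι i)]

theorem mem_Uo_iff (i : κ) (x : X) : x ∈ Uo Zs ι i ↔ ∀ j, j ≠ i → x ∉ Set.range (ι j) := by
  change x ∈ (⋃ j ∈ {j | j ≠ i}, Set.range (ι j))ᶜ ↔ _
  simp only [Set.mem_compl_iff, Set.mem_iUnion, not_exists]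
  constructor
  · intro h j hj hx
    exact h j hj hx
  · intro h j hj hx
    exact h j hj hx

theorem Uo_subset_range (hcov : ⋃ i, Set.range (ι i) = Set.univ) (i : κ) (x : X)
    (hx : x ∈ Uo Zs ι i) : x ∈ Set.range (ι i) := by
  have : x ∈ ⋃ i, Set.range (ι i) := by rw [hcov]; trivial
  obtain ⟨j, hj⟩ := Set.mem_iUnion.mp this
  by_cases h : j = i
  · rw [← h]; exact hj
  · exact absurd hj ((mem_Uo_iff Zs ι i x).mp hx j h)

theorem app_injective_of_le [IsReduced X] (hcov : ⋃ i, Set.range (ι i) = Set.univ) (i : κ)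
    {W : X.Opens} (hW : W ≤ Uo Zs ι i) : Function.Injective ((ι i).app W) := by
  intro r₁ r₂ h
  rw [← sub_eq_zero, ← AlgebraicGeometry.basicOpen_eq_bot_iff]
  ext y
  constructor
  · intro hy
    obtain ⟨z, rfl⟩ := Uo_subset_range Zs ι hcov i y (hW (X.basicOpen_le _ hy))
    have hz : z ∈ ι i ⁻¹ᵁ X.basicOpen (r₁ - r₂) := hy
    rw [Scheme.preimage_basicOpen, map_sub, h, sub_self, Scheme.basicOpen_zero] at hz
    exact hz
  · intro hy
    exact absurd hy (by simp)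

theorem app_surjective_of_le [IsReduced X] (hcov : ⋃ i, Set.range (ι i) = Set.univ) (i : κ)
    {W : X.Opens} (hW : W ≤ Uo Zs ι i) : Function.Surjective ((ι i).app W) := by
  intro t
  have hloc : ∀ A : {A : X.Opens // IsAffineOpen A ∧ A ≤ W}, ∃ ρ : Γ(X, A.1),
      (ι i).app A.1 ρ = rres (Zs i) ((ι i).preimage_mono A.2.2) t :=
    fun A => (ι i).app_surjective A.1 A.2.1 _
  choose ρA hρA using hloc
  obtain ⟨ρ, hρ⟩ := exists_glue_fun (X := X)
    (fun A : {A : X.Opens // IsAffineOpen A ∧ A ≤ W} => A.1) W (fun A => A.2.2)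
    (Thick.exists_affine_cover W) ρA (by
      intro A B
      apply app_injective_of_le Zs ι hcov i ((inf_le_left.trans A.2.2).trans hW)
      have e1 := app_map_apply (ι i) (inf_le_left : A.1 ⊓ B.1 ≤ A.1) (ρA A)
      have e2 := app_map_apply (ι i) (inf_le_right : A.1 ⊓ B.1 ≤ B.1) (ρA B)
      change (ι i).app (A.1 ⊓ B.1) (rres X inf_le_left (ρA A)) = rres (Zs i) _ _ at e1
      change (ι i).app (A.1 ⊓ B.1) (rres X inf_le_right (ρA B)) = rres (Zs i) _ _ at e2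
      rw [e1, e2, hρA, hρA, rres_rres, rres_rres])
  refine ⟨ρ, ?_⟩
  apply fun_ext_of_cover (X := Zs i)
    (fun A : {A : X.Opens // IsAffineOpen A ∧ A ≤ W} => ι i ⁻¹ᵁ A.1) (ι i ⁻¹ᵁ W)
    (fun A => (ι i).preimage_mono A.2.2) (by
      intro x hx
      obtain ⟨A, hA⟩ := Opens.mem_iSup.mp (Thick.exists_affine_cover W hx)
      exact Opens.mem_iSup.mpr ⟨A, hA⟩)
  intro A
  have e1 := app_map_apply (ι i) A.2.2 ρ
  change (ι i).app A.1 (rres X A.2.2 ρ) = rres (Zs i) _ ((ι i).app W ρ) at e1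
  rw [← e1, hρ A, hρA]

/-- The open complement of the pairwise intersections. -/
def Ud : X.Opens :=
  ⟨(⋃ p : {p : κ × κ // p.1 ≠ p.2}, Set.range (ι p.1.1) ∩ Set.range (ι p.1.2))ᶜ,
    (isClosed_iUnion_of_finite fun p : {p : κ × κ // p.1 ≠ p.2} =>
      ((ι p.1.1).isClosedEmbedding.isClosed_range.inter
        (ι p.1.2).isClosedEmbedding.isClosed_range)).isOpen_compl⟩

theorem mem_Ud_iff (x : X) : x ∈ Ud Zs ι ↔
    ∀ i j, i ≠ j → x ∈ Set.range (ι i) → x ∉ Set.range (ι j) := by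
  change x ∈ (⋃ p : {p : κ × κ // p.1 ≠ p.2}, Set.range (ι p.1.1) ∩ Set.range (ι p.1.2))ᶜ ↔ _
  simp only [Set.mem_compl_iff, Set.mem_iUnion, not_exists]
  constructor
  · intro h i j hij hi hj
    exact h ⟨(i, j), hij⟩ ⟨hi, hj⟩
  · rintro h ⟨⟨i, j⟩, hij⟩ ⟨hi, hj⟩
    exact h i j hij hi hj

theorem mem_Uo_of_mem_Ud {x : X} (hx : x ∈ Ud Zs ι) {i : κ} (hi : x ∈ Set.range (ι i)) :
    x ∈ Uo Zs ι i := by
  rw [mem_Uo_iff]
  intro j hj
  exact (mem_Ud_iff Zs ι x).mp hx i j (Ne.symm hj) hi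

/-- Every subset of the complement of `Ud` is closed. -/
theorem isClosed_of_subset_compl_Ud
    (hdisc : ∀ i j, i ≠ j → DiscreteTopology ↥(Set.range (ι i) ∩ Set.range (ι j)))
    (S : Set X) (hS : S ⊆ ((Ud Zs ι : X.Opens) : Set X)ᶜ) : IsClosed S := by
  have hS' : S = ⋃ p : {p : κ × κ // p.1 ≠ p.2},
      S ∩ (Set.range (ι p.1.1) ∩ Set.range (ι p.1.2)) := by
    ext x
    simp only [Set.mem_iUnion, Set.mem_inter_iff]
    constructor
    · intro hx
      have h1 : x ∉ Ud Zs ι := hS hx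
      rw [mem_Ud_iff] at h1
      push Not at h1
      obtain ⟨i, j, hij, hi, hj⟩ := h1
      exact ⟨⟨(i, j), hij⟩, hx, hi, hj⟩
    · rintro ⟨p, hx, -⟩
      exact hx
  rw [hS']
  refine isClosed_iUnion_of_finite fun p => ?_
  have hD : IsClosed (Set.range (ι p.1.1) ∩ Set.range (ι p.1.2)) :=
    (ι p.1.1).isClosedEmbedding.isClosed_range.inter (ι p.1.2).isClosedEmbedding.isClosed_range
  haveI := hdisc p.1.1 p.1.2 p.2
  have h1 : IsClosed ((Subtype.val : ↥(Set.range (ι p.1.1) ∩ Set.range (ι p.1.2)) → X) ⁻¹' S) :=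
    isClosed_discrete _
  have h2 := hD.isClosedEmbedding_subtypeVal.isClosedMap _ h1
  rw [Subtype.image_preimage_coe] at h2
  rw [Set.inter_comm]
  exact h2

/-- **Functions over an open inside `Ud`** are families of functions on the members. -/
theorem exists_app_eq_of_le_Ud [IsReduced X] (hcov : ⋃ i, Set.range (ι i) = Set.univ)
    {W : X.Opens} (hW : W ≤ Ud Zs ι) (r : ∀ i, Γ(Zs i, ι i ⁻¹ᵁ W)) :
    ∃ ρ : Γ(X, W), ∀ i, (ι i).app W ρ = r i := by
  classical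
  have hpre : ∀ i, ι i ⁻¹ᵁ (W ⊓ Uo Zs ι i) = ι i ⁻¹ᵁ W := by
    intro i
    ext z
    constructor
    · intro hz; exact hz.1
    · intro hz; exact ⟨hz, mem_Uo_of_mem_Ud Zs ι (hW hz) ⟨z, rfl⟩⟩
  have hloc : ∀ i, ∃ ρ : Γ(X, W ⊓ Uo Zs ι i), (ι i).app _ ρ =
      rres (Zs i) ((ι i).preimage_mono (inf_le_left : W ⊓ Uo Zs ι i ≤ W)) (r i) :=
    fun i => app_surjective_of_le Zs ι hcov i inf_le_right _
  choose ρi hρi using hloc
  have hcovW : W ≤ ⨆ i, W ⊓ Uo Zs ι i := by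
    intro x hx
    have : x ∈ ⋃ i, Set.range (ι i) := by rw [hcov]; trivial
    obtain ⟨i, hi⟩ := Set.mem_iUnion.mp this
    exact Opens.mem_iSup.mpr ⟨i, hx, mem_Uo_of_mem_Ud Zs ι (hW hx) hi⟩
  obtain ⟨ρ, hρ⟩ := exists_glue_fun (X := X) (fun i => W ⊓ Uo Zs ι i) W (fun i => inf_le_left)
    hcovW ρi (by
      intro i j
      by_cases hij : i = j
      · subst hij; rfl
      · apply rsec_eq_of_forall_not_mem
        rintro x ⟨⟨-, hxi⟩, ⟨-, hxj⟩⟩
        have h1 := Uo_subset_range Zs ι hcov i x hxi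
        exact (mem_Uo_iff Zs ι j x).mp hxj i hij h1)
  refine ⟨ρ, fun i => ?_⟩
  apply (rres_eq_bijective (Zs i) (hpre i)).1
  have e1 := app_map_apply (ι i) (inf_le_left : W ⊓ Uo Zs ι i ≤ W) ρ
  change (ι i).app _ (rres X inf_le_left ρ) = rres (Zs i) _ ((ι i).app W ρ) at e1
  rw [← e1, hρ i, hρi i]

end Groth.Agent.Lib.Helper29.ClCov
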