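import Groth.Agent.Lib.Helper29.ClCov1
universe u
open CategoryTheory CategoryTheory.Limits AlgebraicGeometry TopologicalSpace Opposite

namespace Groth.Agent.Lib.Helper29.ClCov
open Groth.Agent.Lib.Helper29.QCoh Groth.Agent.Lib.Helper29.QCoh.Glue Groth.Agent.Lib.Helper29.Punct
open Groth.Agent.Lib.Helper29 Groth.Agent.Lib.Helper29.Desc

variable {X : Scheme.{u}} {κ : Type} (Zs : κ → Scheme.{u}) (ι : ∀ i, Zs i ⟶ X)
  [Finite κ] [∀ i, IsClosedImmersion (ι i)]

theorem isTriv_of_forall_not_mem {Y : Scheme.{u}} (L : Y.Modules) {W : Y.Opens}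
    (hW : ∀ y : Y, y ∉ W) (s : Γ(L, W)) : IsTriv L W s := by
  intro W' hW'
  have h' : ∀ y : Y, y ∉ W' := fun y hy => hW y (hW' hy)
  constructor
  · intro a b _
    exact rsec_eq_of_forall_not_mem h' a b
  · intro m
    exact ⟨0, eq_of_forall_not_mem L h' _ _⟩

/-- **Gluing invertible modules along a finite closed cover with discrete overlaps** of a reduced
scheme. -/
theorem exists_invertible_restricting [IsReduced X]
    (hcov : ⋃ i, Set.range (ι i) = Set.univ)
    (hdisc : ∀ i j, i ≠ j → DiscreteTopology ↥(Set.range (ι i) ∩ Set.range (ι j)))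
    (L : ∀ i, (Zs i).Modules) (hL : ∀ i, PicF.IsInvertible (L i)) :
    ∃ M : X.Modules, PicF.IsInvertible M ∧
      ∀ i, Nonempty ((Scheme.Modules.pullback (ι i)).obj M ≅ L i) := by
  classical
  -- local data
  have hdata : ∀ x : X, ∃ V : X.Opens, x ∈ V ∧ (∀ y ∈ V, y ∉ Ud Zs ι → y = x) ∧
      ∀ i, ∃ s : Γ(L i, ι i ⁻¹ᵁ V), IsTriv (L i) (ι i ⁻¹ᵁ V) s := by
    intro x
    have hO : ∀ i, ∃ O : X.Opens, x ∈ O ∧ ∃ s : Γ(L i, ι i ⁻¹ᵁ O), IsTriv (L i) (ι i ⁻¹ᵁ O) s := by
      intro i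
      by_cases hx : x ∈ Set.range (ι i)
      · obtain ⟨z, rfl⟩ := hx
        obtain ⟨N, e, hzN, he⟩ := exists_isTriv (hL i) z
        obtain ⟨Os, hOo, hO⟩ := ((ι i).isEmbedding.isInducing.isOpen_iff).mp N.isOpen
        have hle : ι i ⁻¹ᵁ (⟨Os, hOo⟩ : X.Opens) ≤ N := by
          intro w hw
          have : w ∈ ι i ⁻¹' Os := hw
          rwa [hO] at this
        refine ⟨⟨Os, hOo⟩, ?_, res (L i) hle e, he.restrict _⟩
        have : z ∈ ι i ⁻¹' Os := by rw [hO]; exact hzN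
        exact this
      · refine ⟨⟨(Set.range (ι i))ᶜ, (ι i).isClosedEmbedding.isClosed_range.isOpen_compl⟩, hx,
          0, isTriv_of_forall_not_mem _ ?_ _⟩
        intro y hy
        exact hy ⟨y, rfl⟩
    choose O hxO hsO using hO
    have hcl : IsClosed ((((Ud Zs ι : X.Opens) : Set X)ᶜ) \ {x}) :=
      isClosed_of_subset_compl_Ud Zs ι hdisc _ Set.sdiff_subset
    refine ⟨⟨(⋂ i, (O i : Set X)) ∩ ((((Ud Zs ι : X.Opens) : Set X)ᶜ) \ {x})ᶜ,
      (isOpen_iInter_of_finite fun i => (O i).isOpen).inter hcl.isOpen_compl⟩, ?_, ?_, ?_⟩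
    · exact ⟨Set.mem_iInter.mpr hxO, fun h => h.2 rfl⟩
    · rintro y ⟨-, hy⟩ hyU
      by_contra hne
      exact hy ⟨hyU, hne⟩
    · intro i
      obtain ⟨s, hs⟩ := hsO i
      have hle : ι i ⁻¹ᵁ (⟨(⋂ i, (O i : Set X)) ∩ ((((Ud Zs ι : X.Opens) : Set X)ᶜ) \ {x})ᶜ,
          (isOpen_iInter_of_finite fun i => (O i).isOpen).inter hcl.isOpen_compl⟩ : X.Opens) ≤
          ι i ⁻¹ᵁ O i := by
        intro w hw
        exact Set.mem_iInter.mp hw.1 i
      exact ⟨res (L i) hle s, hs.restrict _⟩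
  choose V hxV hVU hs using hdata
  choose s hs using hs
  have hVV : ∀ x y, x ≠ y → V x ⊓ V y ≤ Ud Zs ι := by
    rintro x y hne z ⟨hzx, hzy⟩
    by_contra hz
    exact hne ((hVU x z hzx hz).symm.trans (hVU y z hzy hz))
  -- the ratios
  have hc : ∀ x y i, ∃ c : Γ(Zs i, ι i ⁻¹ᵁ (V x ⊓ V y)), IsUnit c ∧
      res (L i) ((ι i).preimage_mono (inf_le_right : V x ⊓ V y ≤ V y)) (s y i) =
        c • res (L i) ((ι i).preimage_mono (inf_le_left : V x ⊓ V y ≤ V x)) (s x i) := by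
    intro x y i
    obtain ⟨c, hc, h⟩ := IsTriv.exists_isUnit_smul
      ((hs x i).restrict ((ι i).preimage_mono (inf_le_left : V x ⊓ V y ≤ V x)))
      ((hs y i).restrict ((ι i).preimage_mono (inf_le_right : V x ⊓ V y ≤ V y)))
    exact ⟨c, hc, h⟩
  choose c hcu hc using hc
  have hg : ∀ x y, ∃ g : Γ(X, V x ⊓ V y), (x = y → g = 1) ∧
      ∀ i, res (L i) ((ι i).preimage_mono (inf_le_right : V x ⊓ V y ≤ V y)) (s y i) =
        (ι i).app (V x ⊓ V y) g •
          res (L i) ((ι i).preimage_mono (inf_le_left : V x ⊓ V y ≤ V x)) (s x i) := by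
    intro x y
    by_cases hxy : x = y
    · subst hxy
      refine ⟨1, fun _ => rfl, fun i => ?_⟩
      rw [map_one, one_smul]
    · obtain ⟨g, hg⟩ := exists_app_eq_of_le_Ud Zs ι hcov (hVV x y hxy) (fun i => c x y i)
      refine ⟨g, fun h => absurd h hxy, fun i => ?_⟩
      rw [hg i]
      exact hc x y i
  choose g hg1 hg using hg
  have happ : ∀ (i : κ) {A B : X.Opens} (h : B ≤ A) (r : Γ(X, A)),
      (ι i).app B (rres X h r) = rres (Zs i) ((ι i).preimage_mono h) ((ι i).app A r) :=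
    fun i _ _ h r => app_map_apply (ι i) h r
  have hgW : ∀ (x y : X) (i : κ) (W : X.Opens) (hx : W ≤ V x) (hy : W ≤ V y),
      res (L i) ((ι i).preimage_mono hy) (s y i) =
        (ι i).app W (rres X (le_inf hx hy) (g x y)) •
          res (L i) ((ι i).preimage_mono hx) (s x i) := by
    intro x y i W hx hy
    have := congrArg (res (L i) ((ι i).preimage_mono (le_inf hx hy))) (hg x y i)
    rw [res_res, res_smul', res_res] at this
    rw [happ]
    exact this
  have hmul : ∀ (x y z : X) (W : X.Opens) (hx : W ≤ V x) (hy : W ≤ V y) (hz : W ≤ V z),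
      rres X (le_inf hx hy) (g x y) * rres X (le_inf hy hz) (g y z) =
        rres X (le_inf hx hz) (g x z) := by
    intro x y z W hx hy hz
    apply eq_of_forall_app_eq Zs ι hcov
    intro i
    apply ((hs x i).restrict ((ι i).preimage_mono hx)).smul_left_cancel
    rw [← hgW x z i W hx hz, map_mul, mul_comm, mul_smul, ← hgW x y i W hx hy,
      ← hgW y z i W hy hz]
  let cc : Cocycle V := { g := g, one := fun x => hg1 x x rfl, mul := hmul }
  have hcovV : ∀ y : X, ∃ k, y ∈ V k := fun y => ⟨y, hxV y⟩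
  obtain ⟨M, e, hM, he, htr⟩ := exists_invertible_of_cocycle hcovV cc
  have htr' : ∀ y z, res M (inf_le_right : V y ⊓ V z ≤ V z) (e z) =
      g y z • res M (inf_le_left : V y ⊓ V z ≤ V y) (e y) := htr
  refine ⟨M, hM, fun i => ?_⟩
  refine exists_pullback_iso (ι i) M (L i) V hcovV e he (fun x => s x i) (fun x => hs x i)
    (fun y z => ?_)
  have hle : V y ⊓ V z ≤ V z ⊓ V y := le_inf inf_le_right inf_le_left
  refine ⟨rres X hle (g z y), ?_, ?_⟩
  · have := congrArg (res M hle) (htr' z y)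
    rw [res_res, res_smul', res_res] at this
    exact this
  · exact hgW z y i (V y ⊓ V z) inf_le_right inf_le_left

end Groth.Agent.Lib.Helper29.ClCov
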