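import Mathlib
set_option autoImplicit false

namespace Groth.Agent.Lib.Helper29.ColonLoc

open Submodule

theorem map_colon_eq {A B M M' : Type*} [CommRing A] [CommRing B] [Algebra A B] (f : A)
    [IsLocalization.Away f B] [AddCommGroup M] [Module A M] [AddCommGroup M'] [Module A M']
    [Module B M'] [IsScalarTower A B M'] (ℓ : M →ₗ[A] M')
    [IsLocalizedModule (Submonoid.powers f) ℓ] [Module.Finite A M] (s : M)
    (I : Ideal A) (I' : Ideal B)
    (hI : ∀ a, a ∈ I ↔ ∀ m : M, ∃ b : A, a • m = b • s)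
    (hI' : ∀ a', a' ∈ I' ↔ ∀ m' : M', ∃ b' : B, a' • m' = b' • ℓ s) :
    I.map (algebraMap A B) = I' := by
  have hfu : IsUnit (algebraMap A B f) := IsLocalization.Away.algebraMap_isUnit f
  have hpow : ∀ n : ℕ, IsUnit (algebraMap A B (f ^ n)) := fun n => by
    rw [map_pow]; exact hfu.pow n
  apply le_antisymm
  · rw [Ideal.map_le_iff_le_comap]
    intro a ha
    rw [Ideal.mem_comap, hI']
    intro m'
    obtain ⟨⟨m, ⟨_, n, rfl⟩⟩, hm⟩ := IsLocalizedModule.surj (Submonoid.powers f) ℓ m'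
    change (f ^ n) • m' = ℓ m at hm
    obtain ⟨b, hb⟩ := (hI a).mp ha m
    obtain ⟨u, hu⟩ := hpow n
    refine ⟨algebraMap A B b * (u⁻¹ : Bˣ), ?_⟩
    have h1 : algebraMap A B a • ((f ^ n) • m') = algebraMap A B b • ℓ s := by
      rw [hm, algebraMap_smul, algebraMap_smul, ← map_smul, ← map_smul, hb]
    have h2 : (f ^ n) • m' = (u : B) • m' := by rw [hu, algebraMap_smul]
    rw [h2, smul_comm] at h1
    calc algebraMap A B a • m' = ((u⁻¹ : Bˣ) : B) • ((u : B) • (algebraMap A B a • m')) := by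
          rw [smul_smul, Units.inv_mul, one_smul]
      _ = ((u⁻¹ : Bˣ) : B) • (algebraMap A B b • ℓ s) := by rw [h1]
      _ = (algebraMap A B b * (u⁻¹ : Bˣ)) • ℓ s := by rw [smul_smul, mul_comm]
  · intro a' ha'
    rw [hI'] at ha'
    obtain ⟨G, hG⟩ := (Module.Finite.fg_top : (⊤ : Submodule A M).FG)
    -- clear denominator of a'
    obtain ⟨⟨a₀, ⟨_, n, rfl⟩⟩, ha₀⟩ := IsLocalization.surj (Submonoid.powers f) a'
    change a' * algebraMap A B (f ^ n) = algebraMap A B a₀ at ha₀
    -- for each generator find a power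
    have hgen : ∀ m : M, ∃ K : ℕ, ∃ c : A, (f ^ K * a₀) • m = c • s := by
      intro m
      obtain ⟨b', hb'⟩ := ha' (ℓ m)
      obtain ⟨⟨b₀, ⟨_, k, rfl⟩⟩, hb₀⟩ := IsLocalization.surj (Submonoid.powers f) b'
      change b' * algebraMap A B (f ^ k) = algebraMap A B b₀ at hb₀
      have h1 : ℓ ((f ^ k * a₀) • m) = ℓ ((f ^ n * b₀) • s) := by
        rw [map_smul, map_smul, ← algebraMap_smul B (f ^ k * a₀), ← algebraMap_smul B (f ^ n * b₀),
          map_mul, map_mul, ← ha₀, ← hb₀]
        have e1 : algebraMap A B (f ^ k) * (a' * algebraMap A B (f ^ n)) =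
            (algebraMap A B (f ^ k) * algebraMap A B (f ^ n)) * a' := by ring
        have e2 : algebraMap A B (f ^ n) * (b' * algebraMap A B (f ^ k)) =
            (algebraMap A B (f ^ k) * algebraMap A B (f ^ n)) * b' := by ring
        rw [e1, e2, mul_smul, hb', ← mul_smul]
      obtain ⟨⟨_, j, rfl⟩, hj⟩ :=
        (IsLocalizedModule.eq_iff_exists (Submonoid.powers f) ℓ).mp h1
      change f ^ j • ((f ^ k * a₀) • m) = f ^ j • ((f ^ n * b₀) • s) at hj
      refine ⟨j + k, f ^ j * (f ^ n * b₀), ?_⟩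
      calc (f ^ (j + k) * a₀) • m = f ^ j • ((f ^ k * a₀) • m) := by
            rw [← mul_smul, pow_add, mul_assoc]
        _ = f ^ j • ((f ^ n * b₀) • s) := hj
        _ = (f ^ j * (f ^ n * b₀)) • s := (mul_smul _ _ _).symm
    choose K c hKc using hgen
    classical
    set N := G.sup K with hN
    have hall : f ^ N * a₀ ∈ I := by
      rw [hI]
      intro m
      have hm : m ∈ span A (G : Set M) := by rw [hG]; trivial
      induction hm using Submodule.span_induction with
      | mem x hx =>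
        have hle : K x ≤ N := Finset.le_sup hx
        refine ⟨f ^ (N - K x) * c x, ?_⟩
        calc (f ^ N * a₀) • x = (f ^ (N - K x) * (f ^ K x * a₀)) • x := by
              rw [← mul_assoc, ← pow_add, Nat.sub_add_cancel hle]
          _ = f ^ (N - K x) • ((f ^ K x * a₀) • x) := mul_smul _ _ _
          _ = f ^ (N - K x) • (c x • s) := by rw [hKc]
          _ = (f ^ (N - K x) * c x) • s := (mul_smul _ _ _).symm
      | zero => exact ⟨0, by rw [smul_zero, zero_smul]⟩
      | add x y _ _ hx hy =>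
        obtain ⟨bx, hbx⟩ := hx
        obtain ⟨by', hby⟩ := hy
        exact ⟨bx + by', by rw [smul_add, hbx, hby, add_smul]⟩
      | smul r x _ hx =>
        obtain ⟨bx, hbx⟩ := hx
        exact ⟨r * bx, by rw [smul_comm, hbx, mul_smul]⟩
    obtain ⟨u, hu⟩ := hpow (N + n)
    have h3 : a' = algebraMap A B (f ^ N * a₀) * ((u⁻¹ : Bˣ) : B) := by
      rw [map_mul, ← ha₀, mul_comm a', ← mul_assoc, ← map_mul, ← pow_add, ← hu, mul_assoc,
        mul_comm a', ← mul_assoc, Units.mul_inv, one_mul]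
    rw [h3]
    exact Ideal.mul_mem_right _ _ (Ideal.mem_map_of_mem _ hall)

end Groth.Agent.Lib.Helper29.ColonLoc
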