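import Mathlib.AlgebraicGeometry.ResidueField
import Mathlib.AlgebraicGeometry.Pullbacks
import Mathlib.Topology.Connected.TotallyDisconnected
import Mathlib.RingTheory.Polynomial.Basic
import Mathlib.RingTheory.Spectrum.Prime.Topology

/-! A scheme-level `𝔸¹`-homotopy contracting `ZN` onto a section of `j : ZN ⟶ Z0` forces the fibres
of `j` to be connected and `π₀(j)` to be bijective (helper29, for S18242). -/

set_option autoImplicit false
universe u
open CategoryTheory CategoryTheory.Limits AlgebraicGeometry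

namespace Groth.Agent.Lib.Helper29.ConnHomotopy

/-- evaluation at `e` as a point of the affine line. -/
noncomputable abbrev evPt (κ : Type u) [Field κ] (e : κ) :
    Spec (CommRingCat.of κ) ⟶ Spec (CommRingCat.of (Polynomial κ)) :=
  Spec.map (CommRingCat.ofHom (Polynomial.evalRingHom e))

/-- the structure map of the affine line. -/
noncomputable abbrev prPt (κ : Type u) [Field κ] :
    Spec (CommRingCat.of (Polynomial κ)) ⟶ Spec (CommRingCat.of κ) :=
  Spec.map (CommRingCat.ofHom (Polynomial.C))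

theorem evPt_prPt (κ : Type u) [Field κ] (e : κ) : evPt κ e ≫ prPt κ = 𝟙 _ := by
  rw [evPt, prPt, ← Spec.map_comp, ← CommRingCat.ofHom_comp]
  have : (Polynomial.evalRingHom e).comp Polynomial.C = RingHom.id κ := by
    ext x; simp
  rw [this]
  exact Spec.map_id _

instance (κ : Type u) [Field κ] : PreconnectedSpace ↥(Spec (CommRingCat.of (Polynomial κ))) := by
  haveI : IrreducibleSpace (PrimeSpectrum (Polynomial κ)) := inferInstance
  change PreconnectedSpace (PrimeSpectrum (Polynomial κ))
  infer_instance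

theorem path_conn {κ : Type u} [Field κ] {P : Scheme.{u}}
    (γ : Spec (CommRingCat.of (Polynomial κ)) ⟶ P) (x y : ↥(Spec (CommRingCat.of (Polynomial κ)))) :
    connectedComponent (γ x) = connectedComponent (γ y) := by
  have h := (isPreconnected_range γ.continuous).subset_connectedComponent (x := γ y) ⟨y, rfl⟩
  exact connectedComponent_eq_iff_mem.2 (h ⟨x, rfl⟩)

theorem field_pt_eq {K : Type u} [Field K] (x y : ↥(Spec (CommRingCat.of K))) : x = y :=
  Subsingleton.elim (α := PrimeSpectrum K) x y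

section Main

variable {ZN Z0 : Scheme.{u}} (j : ZN ⟶ Z0) (s : Z0 ⟶ ZN) (hs : s ≫ j = 𝟙 Z0)
  (H : ∀ (κ : Type u) [Field κ] (z : Spec (CommRingCat.of κ) ⟶ ZN),
     ∃ γ : Spec (CommRingCat.of (Polynomial κ)) ⟶ ZN,
       evPt κ 1 ≫ γ = z ∧ evPt κ 0 ≫ γ = z ≫ j ≫ s ∧ γ ≫ j = prPt κ ≫ z ≫ j)

include H in
theorem conn_section (z : ZN) : connectedComponent z = connectedComponent (s (j z)) := by
  obtain ⟨γ, h1, h0, -⟩ := H (ZN.residueField z) (ZN.fromSpecResidueField z)
  let p : ↥(Spec (CommRingCat.of (ZN.residueField z))) :=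
    (⊥ : PrimeSpectrum (ZN.residueField z))
  have e1 : γ (evPt _ 1 p) = z := by
    rw [← Scheme.Hom.comp_apply, h1]
    exact Scheme.fromSpecResidueField_apply _ _
  have e0 : γ (evPt _ 0 p) = s (j z) := by
    rw [← Scheme.Hom.comp_apply, h0, Scheme.Hom.comp_apply, Scheme.Hom.comp_apply,
      Scheme.fromSpecResidueField_apply]
  have h := path_conn γ (evPt _ 1 p) (evPt _ 0 p)
  rwa [e1, e0] at h

include hs H in
theorem bijective_components :
    Function.Bijective (Continuous.connectedComponentsMap j.continuous) := by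
  have hjs : ∀ y : Z0, j (s y) = y := by
    intro y
    rw [← Scheme.Hom.comp_apply, hs]
    rfl
  constructor
  · intro a b hab
    obtain ⟨z₁, rfl⟩ := ConnectedComponents.surjective_coe a
    obtain ⟨z₂, rfl⟩ := ConnectedComponents.surjective_coe b
    rw [Continuous.connectedComponentsMap_mk, Continuous.connectedComponentsMap_mk] at hab
    have h2 := congrArg (Continuous.connectedComponentsMap s.continuous) hab
    rw [Continuous.connectedComponentsMap_mk, Continuous.connectedComponentsMap_mk] at h2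
    rw [ConnectedComponents.coe_eq_coe] at h2 ⊢
    rw [conn_section j s H z₁, conn_section j s H z₂, h2]
  · intro y
    obtain ⟨y₀, rfl⟩ := ConnectedComponents.surjective_coe y
    refine ⟨ConnectedComponents.mk (s y₀), ?_⟩
    rw [Continuous.connectedComponentsMap_mk, hjs]

include H in
theorem fibre_path {K : Type u} [Field K] (k : Spec (CommRingCat.of K) ⟶ Z0)
    (b₀ : Spec (CommRingCat.of K) ⟶ pullback j k) (hb1 : b₀ ≫ pullback.fst j k = k ≫ s)
    (hb2 : b₀ ≫ pullback.snd j k = 𝟙 _) (κ : Type u) [Field κ]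
    (w' : Spec (CommRingCat.of κ) ⟶ pullback j k) :
    ∃ γP : Spec (CommRingCat.of (Polynomial κ)) ⟶ pullback j k,
      evPt κ 1 ≫ γP = w' ∧ evPt κ 0 ≫ γP = (w' ≫ pullback.snd j k) ≫ b₀ := by
  obtain ⟨γ, h1, h0, hj⟩ := H κ (w' ≫ pullback.fst j k)
  obtain ⟨γP, hγ1, hγ2⟩ : ∃ γP : Spec (CommRingCat.of (Polynomial κ)) ⟶
      pullback j k, γP ≫ pullback.fst j k = γ ∧
        γP ≫ pullback.snd j k = prPt κ ≫ w' ≫ pullback.snd j k :=
    ⟨pullback.lift γ (prPt κ ≫ w' ≫ pullback.snd j k) (by
      rw [hj, Category.assoc, Category.assoc, Category.assoc, pullback.condition]),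
      pullback.lift_fst _ _ _, pullback.lift_snd _ _ _⟩
  refine ⟨γP, ?_, ?_⟩
  · apply pullback.hom_ext
    · rw [Category.assoc, hγ1, h1]
    · rw [Category.assoc, hγ2, ← Category.assoc, evPt_prPt, Category.id_comp]
  · apply pullback.hom_ext
    · rw [Category.assoc, hγ1, h0, Category.assoc, Category.assoc, hb1, Category.assoc,
        pullback.condition_assoc]
    · rw [Category.assoc, hγ2, ← Category.assoc, evPt_prPt, Category.id_comp,
        Category.assoc, Category.assoc, hb2, Category.comp_id]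

include hs H in
theorem connected_fibre (K : Type u) [Field K] (k : Spec (CommRingCat.of K) ⟶ Z0) :
    ConnectedSpace ↥(pullback j k) := by
  obtain ⟨b₀, hb1, hb2⟩ : ∃ b₀ : Spec (CommRingCat.of K) ⟶ pullback j k,
      b₀ ≫ pullback.fst j k = k ≫ s ∧ b₀ ≫ pullback.snd j k = 𝟙 _ :=
    ⟨pullback.lift (k ≫ s) (𝟙 _) (by rw [Category.assoc, hs, Category.comp_id, Category.id_comp]),
      pullback.lift_fst _ _ _, pullback.lift_snd _ _ _⟩
  let pK : ↥(Spec (CommRingCat.of K)) := (⊥ : PrimeSpectrum K)
  rw [connectedSpace_iff_connectedComponent]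
  refine ⟨b₀ pK, ?_⟩
  rw [Set.eq_univ_iff_forall]
  intro w
  obtain ⟨γP, e1, e0⟩ := fibre_path j s H k b₀ hb1 hb2 ((pullback j k).residueField w)
    ((pullback j k).fromSpecResidueField w)
  let p : ↥(Spec (CommRingCat.of ((pullback j k).residueField w))) :=
    (⊥ : PrimeSpectrum ((pullback j k).residueField w))
  have f1 : γP (evPt _ 1 p) = w := by
    rw [← Scheme.Hom.comp_apply, e1]
    exact Scheme.fromSpecResidueField_apply _ _
  have f0 : γP (evPt _ 0 p) = b₀ pK := by
    rw [← Scheme.Hom.comp_apply, e0, Scheme.Hom.comp_apply]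
    congr 1
    exact field_pt_eq _ _
  have h := path_conn γP (evPt _ 1 p) (evPt _ 0 p)
  rw [f1, f0] at h
  rw [← h]
  exact mem_connectedComponent

end Main

end Groth.Agent.Lib.Helper29.ConnHomotopy
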