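import Mathlib
set_option autoImplicit false
open MvPolynomial

namespace Groth.Agent.Lib.Helper29.DimForms

variable {k : Type*} [Field k] (n : ℕ)

/-- Kill the first `j` variables. -/
noncomputable def kill (j : ℕ) :
    MvPolynomial (Fin (n + 1)) k →ₐ[k] MvPolynomial (Fin (n + 1)) k :=
  aeval (fun i => if i.1 < j then 0 else X i)

theorem kill_X (j : ℕ) (i : Fin (n + 1)) :
    kill (k := k) n j (X i) = if i.1 < j then 0 else X i := by
  unfold kill; rw [aeval_X]

/-- The prime ideal generated by the first `j` variables. -/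
noncomputable def P (j : ℕ) : Ideal (MvPolynomial (Fin (n + 1)) k) :=
  RingHom.ker (kill (k := k) n j).toRingHom

instance (j : ℕ) : (P (k := k) n j).IsPrime := RingHom.ker_isPrime _

theorem mem_P (j : ℕ) (p : MvPolynomial (Fin (n + 1)) k) :
    p ∈ P (k := k) n j ↔ kill n j p = 0 := Iff.rfl

theorem kill_kill (j : ℕ) :
    (kill (k := k) n (j + 1)).comp (kill n j) = kill n (j + 1) := by
  apply MvPolynomial.algHom_ext
  intro i
  rw [AlgHom.comp_apply, kill_X, kill_X]
  by_cases h : i.1 < j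
  · rw [if_pos h, if_pos (by omega), map_zero]
  · rw [if_neg h, kill_X]

theorem P_le (j : ℕ) : P (k := k) n j ≤ P n (j + 1) := by
  intro p hp
  rw [mem_P] at hp ⊢
  rw [← kill_kill, AlgHom.comp_apply, hp, map_zero]

theorem P_lt (j : ℕ) (hj : j ≤ n) : P (k := k) n j < P n (j + 1) := by
  refine lt_of_le_of_ne (P_le n j) ?_
  intro h
  have h1 : (X ⟨j, by omega⟩ : MvPolynomial (Fin (n + 1)) k) ∈ P n (j + 1) := by
    rw [mem_P, kill_X, if_pos (by simp)]
  rw [← h, mem_P, kill_X, if_neg (by simp)] at h1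
  exact X_ne_zero _ h1

theorem le_height_P (j : ℕ) (hj : j ≤ n + 1) : (j : ℕ∞) ≤ (P (k := k) n j).height := by
  induction j with
  | zero => simp
  | succ j ih =>
    have h1 := ih (by omega)
    have h2 := Ideal.height_add_one_le_of_lt_of_isPrime (P_lt (k := k) n j (by omega))
    calc ((j + 1 : ℕ) : ℕ∞) = (j : ℕ∞) + 1 := by push_cast; rfl
      _ ≤ (P (k := k) n j).height + 1 := by gcongr
      _ ≤ _ := h2

theorem sub_kill_mem (j : ℕ) (𝔭 : Ideal (MvPolynomial (Fin (n + 1)) k))
    (h : ∀ i : Fin (n + 1), i.1 < j → (X i : MvPolynomial (Fin (n + 1)) k) ∈ 𝔭)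
    (p : MvPolynomial (Fin (n + 1)) k) : p - kill n j p ∈ 𝔭 := by
  induction p using MvPolynomial.induction_on with
  | C a =>
    have : kill (k := k) n j (C a) = C a := by
      unfold kill; rw [aeval_C]; rfl
    rw [this, sub_self]; exact Ideal.zero_mem _
  | add p q hp hq =>
    rw [map_add]
    have : p + q - (kill n j p + kill n j q) = (p - kill n j p) + (q - kill n j q) := by ring
    rw [this]; exact Ideal.add_mem _ hp hq
  | mul_X p i hp =>
    rw [map_mul, kill_X]
    by_cases hi : i.1 < j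
    · rw [if_pos hi, mul_zero, sub_zero]
      exact Ideal.mul_mem_left _ _ (h i hi)
    · rw [if_neg hi, ← sub_mul]
      exact Ideal.mul_mem_right _ _ hp

theorem P_le_of_X_mem (𝔭 : Ideal (MvPolynomial (Fin (n + 1)) k))
    (h : ∀ i : Fin (n + 1), (X i : MvPolynomial (Fin (n + 1)) k) ∈ 𝔭) : P n (n + 1) ≤ 𝔭 := by
  intro p hp
  rw [mem_P] at hp
  have := sub_kill_mem n (n + 1) 𝔭 (fun i _ => h i) p
  rwa [hp, sub_zero] at this

attribute [local instance] MvPolynomial.gradedAlgebra

/-- **Projective dimension theorem, weak form**: at most `n` forms of positive degree in `n + 1`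
variables over a field have a common zero in projective space. -/
theorem exists_homogeneous_prime {m : ℕ} (hmn : m < n) (F : Fin (m + 1) → MvPolynomial (Fin (n + 1)) k)
    (d : Fin (m + 1) → ℕ) (hd : ∀ i, 0 < d i) (hF : ∀ i, (F i).IsHomogeneous (d i)) :
    ∃ 𝔭 : Ideal (MvPolynomial (Fin (n + 1)) k), 𝔭.IsPrime ∧
      𝔭.IsHomogeneous (homogeneousSubmodule (Fin (n + 1)) k) ∧ (∀ i, F i ∈ 𝔭) ∧
      ∃ j, (X j : MvPolynomial (Fin (n + 1)) k) ∉ 𝔭 := by
  classical
  set s : Finset (MvPolynomial (Fin (n + 1)) k) := Finset.univ.image F with hs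
  set I : Ideal (MvPolynomial (Fin (n + 1)) k) := Ideal.span (s : Set _) with hI
  have hIhom : I.IsHomogeneous (homogeneousSubmodule (Fin (n + 1)) k) := by
    apply Ideal.homogeneous_span
    intro x hx
    rw [hs, Finset.coe_image] at hx
    obtain ⟨i, -, rfl⟩ := hx
    exact ⟨d i, hF i⟩
  have hIirr : I ≤ (HomogeneousIdeal.irrelevant (homogeneousSubmodule (Fin (n + 1)) k)).toIdeal := by
    rw [hI, Ideal.span_le]
    intro x hx
    rw [hs, Finset.coe_image] at hx
    obtain ⟨i, -, rfl⟩ := hx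
    exact HomogeneousIdeal.mem_irrelevant_of_mem _ (hd i) (hF i)
  have hItop : I ≠ ⊤ := by
    intro h
    rw [h] at hIirr
    have h1 : (1 : MvPolynomial (Fin (n + 1)) k) ∈
        (HomogeneousIdeal.irrelevant (homogeneousSubmodule (Fin (n + 1)) k)).toIdeal :=
      hIirr Submodule.mem_top
    rw [HomogeneousIdeal.mem_iff, HomogeneousIdeal.mem_irrelevant_iff] at h1
    have h2 : GradedRing.proj (homogeneousSubmodule (Fin (n + 1)) k) 0 1 = 1 := by
      rw [GradedRing.proj_apply, DirectSum.decompose_of_mem_same]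
      exact SetLike.GradedOne.one_mem
    rw [h2] at h1
    exact one_ne_zero h1
  obtain ⟨𝔭, h𝔭⟩ := Ideal.nonempty_minimalPrimes hItop
  have hprime : 𝔭.IsPrime := h𝔭.1.1
  have hle : I ≤ 𝔭 := h𝔭.1.2
  have hht : 𝔭.height ≤ s.card := Ideal.height_le_card_of_mem_minimalPrimes_span_finset h𝔭
  have hcard : s.card ≤ m + 1 := by
    have := Finset.card_image_le (s := (Finset.univ : Finset (Fin (m + 1)))) (f := F)
    simpa using this
  -- homogeneity
  have hcore : (𝔭.homogeneousCore (homogeneousSubmodule (Fin (n + 1)) k)).toIdeal = 𝔭 := by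
    apply le_antisymm (Ideal.toIdeal_homogeneousCore_le _ 𝔭)
    apply h𝔭.2 ⟨hprime.homogeneousCore, ?_⟩ (Ideal.toIdeal_homogeneousCore_le _ 𝔭)
    rw [← hIhom.toIdeal_homogeneousCore_eq_self]
    exact Ideal.homogeneousCore_mono _ hle
  refine ⟨𝔭, hprime, ?_, ?_, ?_⟩
  · rw [← hcore]
    exact (𝔭.homogeneousCore (homogeneousSubmodule (Fin (n + 1)) k)).isHomogeneous
  · intro i
    apply hle
    apply Ideal.subset_span
    rw [hs, Finset.coe_image]
    exact ⟨i, Finset.mem_coe.mpr (Finset.mem_univ i), rfl⟩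
  · by_contra hcon
    push Not at hcon
    have h1 := P_le_of_X_mem n 𝔭 hcon
    have h2 := le_height_P (k := k) n (n + 1) le_rfl
    have h3 : (P (k := k) n (n + 1)).height ≤ 𝔭.height := Ideal.height_mono h1
    have h4 : ((n + 1 : ℕ) : ℕ∞) ≤ ((m + 1 : ℕ) : ℕ∞) :=
      h2.trans (h3.trans (hht.trans (by exact_mod_cast hcard)))
    have h5 : n + 1 ≤ m + 1 := by exact_mod_cast h4
    omega

end Groth.Agent.Lib.Helper29.DimForms
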