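import Groth.Agent.Lib.Helper29.Aut4
import Groth.Agent.Lib.Helper29.DimForms
set_option autoImplicit false
universe u
open CategoryTheory CategoryTheory.Limits AlgebraicGeometry TopologicalSpace Opposite DirectSum

namespace Groth.Agent.Lib.Helper29.ConstPn
open Groth.Agent.Lib.Helper29.QCoh Groth.Agent.Lib.Helper29.ZeroSch
open Groth.Agent.Lib.Helper29.AutPn Groth.Agent.Lib.Helper29.Pic

section General
variable {R A : Type u} [CommRing R] [CommRing A] [Algebra R A] (𝒜 : ℕ → Submodule R A)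
  [GradedAlgebra 𝒜]
variable {I : Type u} (f : I → 𝒜 1)

/-- If the section `F / 1` of `O(e)` generates at `x`, then `F` does not vanish at `x`. -/
theorem not_mem_of_mem_genLocus {e : ℕ} (s : unitM (Proj 𝒜) ⟶ Twist.twist 𝒜 (e : ℤ)) (F : 𝒜 e)
    (hs : sval s ⊤ = gOf 𝒜 F) (x : Proj 𝒜) (i : I) (hxi : x ∈ Dp 𝒜 f i)
    (hx : x ∈ CohB1.genLocus _ s) : F.1 ∉ x.asHomogeneousIdeal := by
  have he : IsTriv (Twist.twist 𝒜 (e : ℤ)) (Dp 𝒜 f i)
      (eSec (e : ℤ) (f i) e 0 (by simp) (Dp 𝒜 f i) le_rfl) := isTriv_eSec _ _ _ _ _ _ _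
  have ha : sval s (Dp 𝒜 f i) = frac 𝒜 f i (Dp 𝒜 f i) le_rfl F •
      eSec (e : ℤ) (f i) e 0 (by simp) (Dp 𝒜 f i) le_rfl := by
    rw [← res_sval s (le_top : Dp 𝒜 f i ≤ ⊤), hs]
    exact res_gOf_eq_frac_smul 𝒜 f i F
  have h1 := (mem_genLocus_iff_of_isTriv s he _ ha x hxi).mp hx
  rw [basicOpen_frac] at h1
  exact (Proj.mem_basicOpen 𝒜 F.1 x).mp h1.2

/-- The point of `Proj` attached to a relevant homogeneous prime. -/
def pointOf (𝔭 : Ideal A) (hp : 𝔭.IsPrime) (hh : 𝔭.IsHomogeneous 𝒜) (g : A) {d : ℕ} (hd : 0 < d)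
    (hg : g ∈ 𝒜 d) (hgp : g ∉ 𝔭) : Proj 𝒜 :=
  (⟨⟨𝔭, hh⟩, hp, fun hle => hgp (hle (HomogeneousIdeal.mem_irrelevant_of_mem 𝒜 hd hg))⟩ :
    ProjectiveSpectrum 𝒜)

end General

end Groth.Agent.Lib.Helper29.ConstPn
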