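import Groth.Agent.Lib.Helper29.Aut4
import Groth.Agent.Lib.Helper29.DimForms
set_option autoImplicit false
universe u
open CategoryTheory CategoryTheory.Limits AlgebraicGeometry TopologicalSpace Opposite DirectSum

namespace Groth.Agent.Lib.Helper29.ConstPn
open Groth.Agent.Lib.Helper29.QCoh Groth.Agent.Lib.Helper29.ZeroSch
open Groth.Agent.Lib.Helper29.AutPn Groth.Agent.Lib.Helper29.Pic

section Triv
variable {X : Scheme.{u}}

/-- Two globally trivial modules are isomorphic, matching the generators. -/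
theorem exists_iso_of_isTriv_top {M N : X.Modules} {m : Γ(M, ⊤)} {n : Γ(N, ⊤)}
    (hm : IsTriv M ⊤ m) (hn : IsTriv N ⊤ n) : ∃ φ : M ≅ N, φ.hom.app ⊤ m = n := by
  obtain ⟨φ, hφ⟩ := exists_iso_of_cocycle (M := M) (N := N) (U := fun _ : Unit => (⊤ : X.Opens))
    (m := fun _ => m) (n := fun _ => n) (fun x => ⟨(), trivial⟩) (fun _ => hm) (fun _ => hn)
    (fun _ _ => ⟨1, by rw [one_smul], by rw [one_smul]⟩)
  exact ⟨φ, hφ ()⟩

end Triv

section Fix
variable {X : Scheme.{u}} (m : ℕ) (R : Type u) [CommRing R]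

/-- If `f^* O(1)` is globally trivial and the coordinates of `f` are fixed by `h`, then
`h ≫ f = f`. -/
theorem comp_eq_of_isTriv (f : X ⟶ Proj (CohB1.polyGrading m R)) (h : X ⟶ X)
    (hh : (h ≫ f) ≫ CohB1.ProjSpace.toSpec m R = f ≫ CohB1.ProjSpace.toSpec m R)
    (ε : Γ((Scheme.Modules.pullback f).obj (Twist.twist (CohB1.polyGrading m R) 1), ⊤))
    (hε : IsTriv _ ⊤ ε) (a : Fin (m + 1) → Γ(X, ⊤))
    (ha : ∀ i, pullSect f (Twist.twist (CohB1.polyGrading m R) 1) ⊤
      (oneSecOn (CohB1.polyGrading m R) (Xi m R i) ⊤) = a i • ε)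
    (hfix : ∀ i, h.app ⊤ (a i) = a i) : h ≫ f = f := by
  have hε' : IsTriv ((Scheme.Modules.pullback h).obj ((Scheme.Modules.pullback f).obj
      (Twist.twist (CohB1.polyGrading m R) 1))) ⊤ (pullSect h _ ⊤ ε) := hε.pullSect h
  obtain ⟨φ, hφ⟩ := exists_iso_of_isTriv_top hε' hε
  obtain ⟨Θ, hΘ⟩ : ∃ Θ : (Scheme.Modules.pullback h).obj ((Scheme.Modules.pullback f).obj
      (Twist.twist (CohB1.polyGrading m R) 1)) ≅
      (Scheme.Modules.pullback (h ≫ f)).obj (Twist.twist (CohB1.polyGrading m R) 1),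
      ∀ s : Γ(Twist.twist (CohB1.polyGrading m R) 1, ⊤),
      Θ.inv.app ⊤ (pullSect (h ≫ f) (Twist.twist (CohB1.polyGrading m R) 1) ⊤ s) =
      pullSect h _ ⊤ (pullSect f (Twist.twist (CohB1.polyGrading m R) 1) ⊤ s) :=
    ⟨pullbackCompIso h f _, fun s =>
      pullbackComp_inv_pullSect h f (Twist.twist (CohB1.polyGrading m R) 1) ⊤ s⟩
  apply projSpace_hom_ext m R (h ≫ f) f hh (Θ.symm ≪≫ φ)
  intro i
  change φ.hom.app ⊤ (Θ.inv.app ⊤ _) = _
  rw [hΘ, ha i, pullSect_smul, hfix i]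
  refine (Scheme.Modules.Hom.app_smul φ.hom (a i) _).trans ?_
  rw [hφ]

end Fix

end Groth.Agent.Lib.Helper29.ConstPn

namespace Groth.Agent.Lib.Helper29.ConstPn
open Groth.Agent.Lib.Helper29.QCoh Groth.Agent.Lib.Helper29.ZeroSch
open Groth.Agent.Lib.Helper29.AutPn Groth.Agent.Lib.Helper29.Pic

/-- Projective space over `R` has an `R`-point. -/
theorem exists_section (n : ℕ) (R : Type u) [CommRing R] :
    ∃ p : Spec (CommRingCat.of R) ⟶ Proj (CohB1.polyGrading n R),
      p ≫ CohB1.ProjSpace.toSpec n R = 𝟙 _ := by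
  classical
  have hs : ∀ x : Spec (CommRingCat.of R), Submodule.span ((Spec (CommRingCat.of R)).presheaf.stalk x)
      (Set.range fun i : Fin (n + 1) => ((unitM (Spec (CommRingCat.of R))).presheaf.germ ⊤ x trivial).hom
        (if i = 0 then sval (𝟙 (unitM (Spec (CommRingCat.of R)))) ⊤ else 0)) = ⊤ := by
    intro x
    apply span_germ_eq_top_of_mem_genLocus _ _ x 0
    have h1 : homOfSection (unitM (Spec (CommRingCat.of R)))
        (if (0 : Fin (n + 1)) = 0 then sval (𝟙 (unitM (Spec (CommRingCat.of R)))) ⊤ else 0) =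
        𝟙 _ := by
      rw [if_pos rfl]
      apply hom_ext_of_sval
      rw [sval_homOfSection, res_self]
    rw [h1, genLocus_id]
    trivial
  obtain ⟨r, hr, -⟩ := exists_to_projSpace (X := Spec (CommRingCat.of R)) n (R := R) (𝟙 _)
    (unitM _) (isInvertible_unit _) _ hs
  exact ⟨r, hr⟩

end Groth.Agent.Lib.Helper29.ConstPn
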