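import Groth.Agent.Lib.Helper29.Const1
import Groth.Agent.Lib.Helper29.Const2
set_option autoImplicit false
universe u
open CategoryTheory CategoryTheory.Limits AlgebraicGeometry TopologicalSpace Opposite DirectSum

namespace Groth.Agent.Lib.Helper29.ConstPn
open Groth.Agent.Lib.Helper29.QCoh Groth.Agent.Lib.Helper29.ZeroSch
open Groth.Agent.Lib.Helper29.AutPn Groth.Agent.Lib.Helper29.Pic

variable (k : Type u) [Field k] (n m : ℕ)

/-- A degree zero form is a constant. -/
theorem eq_smul_one_of_deg_zero (F : CohB1.polyGrading n k 0) :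
    F = (MvPolynomial.coeff 0 F.1) •
      (⟨1, SetLike.GradedOne.one_mem⟩ : CohB1.polyGrading n k 0) := by
  apply Subtype.ext
  rw [SetLike.val_smul, MvPolynomial.smul_eq_C_mul, mul_one]
  have h1 : F.1.IsHomogeneous 0 := F.2
  have h2 : F.1.totalDegree = 0 := Nat.le_zero.mp h1.totalDegree_le
  exact MvPolynomial.totalDegree_eq_zero_iff_eq_C.mp h2

/-- Transport of sections of the pullback of `O(1)`. -/
theorem exists_gen (f : Proj (CohB1.polyGrading n k) ⟶ Proj (CohB1.polyGrading m k)) {d : ℤ}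
    (τ₀ : (Scheme.Modules.pullback f).obj (Twist.twist (CohB1.polyGrading m k) 1) ≅
      Twist.twist (CohB1.polyGrading n k) d) (x : Proj (CohB1.polyGrading n k)) :
    ∃ i, x ∈ CohB1.genLocus (Twist.twist (CohB1.polyGrading n k) d)
      (homOfSection _ (τ₀.hom.app ⊤ (pullSect f (Twist.twist (CohB1.polyGrading m k) 1) ⊤
        (oneSecOn (CohB1.polyGrading m k) (Xi m k i) ⊤)))) := by
  have hL : PicF.IsInvertible ((Scheme.Modules.pullback f).obj
      (Twist.twist (CohB1.polyGrading m k) 1)) :=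
    isInvertible_pullback f (isInvertible_twist_projSpace m k 1)
  obtain ⟨i, hi⟩ := exists_mem_genLocus_of_span_germ hL _ x
    (span_germ_pullSect_coord_eq_top m k f x)
  refine ⟨i, ?_⟩
  have h1 : homOfSection _ (τ₀.hom.app ⊤ (pullSect f (Twist.twist (CohB1.polyGrading m k) 1) ⊤
      (oneSecOn (CohB1.polyGrading m k) (Xi m k i) ⊤))) =
      homOfSection _ (pullSect f (Twist.twist (CohB1.polyGrading m k) 1) ⊤
        (oneSecOn (CohB1.polyGrading m k) (Xi m k i) ⊤)) ≫ τ₀.hom := by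
    apply hom_ext_of_sval
    rw [sval_homOfSection, res_self]
    change _ = τ₀.hom.app ⊤ (sval (homOfSection _ _) ⊤)
    rw [sval_homOfSection, res_self]
  rw [h1, genLocus_comp_iso]
  exact hi

/-- The pullback of `O(1)` along a morphism from a higher dimensional projective space is
trivial. -/
theorem pullback_twist_trivial (hmn : m < n)
    (f : Proj (CohB1.polyGrading n k) ⟶ Proj (CohB1.polyGrading m k)) {d : ℤ}
    (τ₀ : (Scheme.Modules.pullback f).obj (Twist.twist (CohB1.polyGrading m k) 1) ≅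
      Twist.twist (CohB1.polyGrading n k) d) : d = 0 := by
  have hn : 1 ≤ n := by omega
  have hgen := exists_gen k n m f τ₀
  rcases lt_trichotomy d 0 with hneg | h0 | hpos
  · exfalso
    obtain ⟨e, rfl, he⟩ : ∃ e : ℕ, d = -(e : ℤ) ∧ 0 < e := ⟨d.natAbs, by omega, by omega⟩
    obtain ⟨x⟩ := nonempty_projSpace n k
    obtain ⟨i, hi⟩ := hgen x
    apply ne_zero_of_mem_genLocus (isInvertible_twist_projSpace n k _) _ x hi
    rw [eq_zero_of_neg_twist n k hn e he (τ₀.hom.app ⊤ _)]
    apply hom_ext_of_sval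
    rw [sval_homOfSection, res_self, sval_zero']
  · exact h0
  · exfalso
    obtain ⟨e, rfl, he⟩ : ∃ e : ℕ, d = (e : ℤ) ∧ 0 < e := ⟨d.natAbs, by omega, by omega⟩
    have hF : ∀ i, ∃ F : CohB1.polyGrading n k e, polySec n k e F =
        τ₀.hom.app ⊤ (pullSect f (Twist.twist (CohB1.polyGrading m k) 1) ⊤
          (oneSecOn (CohB1.polyGrading m k) (Xi m k i) ⊤)) := fun i => polySec_surjective n k e _
    choose F hF using hF
    obtain ⟨𝔭, hp, hh, hFp, j, hj⟩ := DimForms.exists_homogeneous_prime n hmn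
      (fun i => (F i).1) (fun _ => e) (fun _ => he) (fun i => (F i).2)
    obtain ⟨i, hi⟩ := hgen (pointOf (CohB1.polyGrading n k) 𝔭 hp hh (MvPolynomial.X j) one_pos
      (MvPolynomial.isHomogeneous_X k j) hj)
    refine not_mem_of_mem_genLocus (CohB1.polyGrading n k) (fXn n k) _ (F i) ?_ _ ⟨j⟩ ?_ hi
      (hFp i)
    · rw [sval_homOfSection, res_self, ← hF i]
      rfl
    · exact hj

/-- **Morphisms `P^n → P^m` over a field with `m < n` are constant.** -/
theorem hom_const (hmn : m < n)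
    (f : Proj (CohB1.polyGrading n k) ⟶ Proj (CohB1.polyGrading m k))
    (hf : f ≫ CohB1.ProjSpace.toSpec m k = CohB1.ProjSpace.toSpec n k) :
    ∃ q : Spec (CommRingCat.of k) ⟶ Proj (CohB1.polyGrading m k),
      f = CohB1.ProjSpace.toSpec n k ≫ q := by
  obtain ⟨p, hp⟩ := exists_section n k
  refine ⟨p ≫ f, ?_⟩
  have hL : PicF.IsInvertible ((Scheme.Modules.pullback f).obj
      (Twist.twist (CohB1.polyGrading m k) 1)) :=
    isInvertible_pullback f (isInvertible_twist_projSpace m k 1)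
  obtain ⟨d, ⟨τ₁⟩⟩ := exists_iso_twist (n := n) (R := k) hL
  have hd : d = ((0 : ℕ) : ℤ) := pullback_twist_trivial k n m hmn f τ₁
  subst hd
  have hF : ∀ i, ∃ c : k, τ₁.hom.app ⊤ (pullSect f (Twist.twist (CohB1.polyGrading m k) 1) ⊤
      (oneSecOn (CohB1.polyGrading m k) (Xi m k i) ⊤)) = tg n k c •
        polySec n k 0 (⟨1, SetLike.GradedOne.one_mem⟩ : CohB1.polyGrading n k 0) := by
    intro i
    obtain ⟨F, hF⟩ := polySec_surjective n k 0 (τ₁.hom.app ⊤
      (pullSect f (Twist.twist (CohB1.polyGrading m k) 1) ⊤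
      (oneSecOn (CohB1.polyGrading m k) (Xi m k i) ⊤)))
    refine ⟨MvPolynomial.coeff 0 F.1, ?_⟩
    rw [← hF, ← polySec_smul, ← eq_smul_one_of_deg_zero]
  choose c hc using hF
  have hε₀ : IsTriv (Twist.twist (CohB1.polyGrading n k) ((0 : ℕ) : ℤ)) ⊤
      (polySec n k 0 (⟨1, SetLike.GradedOne.one_mem⟩ : CohB1.polyGrading n k 0)) :=
    isTriv_mkSec _ _ _ _ _ (fun x => one_not_mem x.1) _ _
  have hε : IsTriv ((Scheme.Modules.pullback f).obj (Twist.twist (CohB1.polyGrading m k) 1)) ⊤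
      (τ₁.inv.app ⊤ (polySec n k 0 (⟨1, SetLike.GradedOne.one_mem⟩ :
        CohB1.polyGrading n k 0))) := hε₀.of_iso τ₁.symm
  have hr : (CohB1.ProjSpace.toSpec n k ≫ p) ≫ CohB1.ProjSpace.toSpec n k =
      CohB1.ProjSpace.toSpec n k := by
    rw [Category.assoc, hp, Category.comp_id]
  have key := comp_eq_of_isTriv m k f (CohB1.ProjSpace.toSpec n k ≫ p)
    (by rw [Category.assoc, hf]; exact hr) _ hε (fun i => tg n k (c i)) (fun i => ?_)
    (fun i => app_tg hr (c i))
  · exact key.symm.trans (Category.assoc _ _ _)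
  · have h1 := congrArg (fun σ => τ₁.inv.app ⊤ σ) (hc i)
    simp only at h1
    rw [iso_inv_hom_app] at h1
    rw [h1]
    exact Scheme.Modules.Hom.app_smul τ₁.inv _ _

end Groth.Agent.Lib.Helper29.ConstPn
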