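import Groth.Agent.Lib.Helper29.MeroK3
set_option autoImplicit false
universe u
open CategoryTheory CategoryTheory.Limits AlgebraicGeometry TopologicalSpace Opposite

namespace Groth.Agent.Lib.Helper29.QCoh.MeroK

variable {X : Scheme.{u}}

theorem algebraMap_eq_mk {x : X} (a : X.presheaf.stalk x) :
    algebraMap (X.presheaf.stalk x) (Mero.KStalk X x) a = LocalizedModule.mk a 1 := rfl

theorem mk_one_injective {x : X} {a a' : X.presheaf.stalk x}
    (h : (LocalizedModule.mk a 1 : Mero.KStalk X x) = LocalizedModule.mk a' 1) : a = a' :=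
  Mero.algebraMap_KStalk_injective x h

theorem mk_eq_mk_one_iff {x : X} (a c : X.presheaf.stalk x) (s : Mero.regStalk X x) :
    (LocalizedModule.mk a s : Mero.KStalk X x) = LocalizedModule.mk c 1 ↔ a = s.1 * c := by
  rw [LocalizedModule.mk_eq]
  simp only [Submonoid.smul_def, smul_eq_mul, one_mul, OneMemClass.coe_one]
  constructor
  · rintro ⟨u, hu⟩
    have hnz := Mero.regStalk_le_nonZeroDivisors x u.2
    have h2 : u.1 * (a - s.1 * c) = 0 := by rw [mul_sub, hu, sub_self]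
    exact sub_eq_zero.mp ((mem_nonZeroDivisors_iff.mp hnz).1 _ h2)
  · intro h
    exact ⟨1, by rw [h]⟩

/-- Local form: near a point where the value lies in the local ring, the meromorphic function is
a function. -/
theorem exists_local_eq_toK {W : X.Opens} (s : Γ(Mero.kmod X, W)) (y : X) (hy : y ∈ W)
    (h : s.1 ⟨y, hy⟩ ∈ (algebraMap (X.presheaf.stalk y) (Mero.KStalk X y)).range) :
    ∃ (V : X.Opens) (_ : y ∈ V) (hVW : V ≤ W) (c : Γ(X, V)),
      ∀ p : V, s.1 ⟨p.1, hVW p.2⟩ = LocalizedModule.mk (X.presheaf.germ V p.1 p.2 c) 1 := by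
  obtain ⟨W₁, hW₁, hyW₁, hW₁W, a, b, hab⟩ := exists_local_rep s y hy
  obtain ⟨c₀, hc₀⟩ := h
  obtain ⟨V₁, hyV₁, c₁, rfl⟩ := X.presheaf.exists_germ_eq c₀
  rw [algebraMap_eq_mk, hab ⟨y, hyW₁⟩, eq_comm, mk_eq_mk_one_iff] at hc₀
  have hy₂ : y ∈ W₁ ⊓ V₁ := ⟨hyW₁, hyV₁⟩
  have hprod : X.presheaf.germ (W₁ ⊓ V₁) y hy₂ (X.presheaf.map (homOfLE inf_le_left).op a) =
      X.presheaf.germ (W₁ ⊓ V₁) y hy₂ (X.presheaf.map (homOfLE inf_le_left).op b.1 *
        X.presheaf.map (homOfLE inf_le_right).op c₁) := by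
    rw [map_mul, X.presheaf.germ_res_apply, X.presheaf.germ_res_apply, X.presheaf.germ_res_apply]
    exact hc₀
  obtain ⟨V, hyV, i₁, i₂, hV⟩ := X.presheaf.germ_eq y hy₂ hy₂ _ _ hprod
  have hVW₁ : V ≤ W₁ := i₁.le.trans inf_le_left
  have hVV₁ : V ≤ V₁ := i₁.le.trans inf_le_right
  refine ⟨V, hyV, hVW₁.trans hW₁W, X.presheaf.map (homOfLE hVV₁).op c₁, fun p => ?_⟩
  have hp := hab ⟨p.1, hVW₁ p.2⟩
  refine hp.trans ?_
  rw [mk_eq_mk_one_iff]
  have h1 := congrArg (X.presheaf.germ V p.1 p.2) hV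
  rw [map_mul] at h1
  have e1 : X.presheaf.germ V p.1 p.2 (X.presheaf.map i₁.op
      (X.presheaf.map (homOfLE inf_le_left).op a)) = X.presheaf.germ W₁ p.1 (hVW₁ p.2) a := by
    rw [X.presheaf.germ_res_apply, X.presheaf.germ_res_apply]
  have e2 : X.presheaf.germ V p.1 p.2 (X.presheaf.map i₂.op
      (X.presheaf.map (homOfLE inf_le_left).op b.1)) = X.presheaf.germ W₁ p.1 (hVW₁ p.2) b.1 := by
    rw [X.presheaf.germ_res_apply, X.presheaf.germ_res_apply]
  have e3 : X.presheaf.germ V p.1 p.2 (X.presheaf.map i₂.op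
      (X.presheaf.map (homOfLE inf_le_right).op c₁)) =
      X.presheaf.germ V p.1 p.2 (X.presheaf.map (homOfLE hVV₁).op c₁) := by
    rw [X.presheaf.germ_res_apply, X.presheaf.germ_res_apply, X.presheaf.germ_res_apply]
  rw [e1, map_mul, e2, e3] at h1
  exact h1

/-- A meromorphic function all of whose values lie in the local rings is a function. -/
theorem exists_eq_toK {W : X.Opens} (s : Γ(Mero.kmod X, W))
    (h : ∀ y : W, s.1 y ∈ (algebraMap (X.presheaf.stalk y.1) (Mero.KStalk X y.1)).range) :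
    ∃ r : Γ(X, W), Mero.toK X W r = s := by
  choose V hyV hVW c hc using fun y : W => exists_local_eq_toK s y.1 y.2 (h y)
  have hcompat : TopCat.Presheaf.IsCompatible X.sheaf.1 V c := by
    intro i j
    apply TopCat.Presheaf.section_ext X.sheaf
    intro p hp
    have hpi : p ∈ V i := hp.1
    have hpj : p ∈ V j := hp.2
    have h1 := (hc i ⟨p, hpi⟩).symm.trans (hc j ⟨p, hpj⟩)
    have h2 := mk_one_injective h1
    refine Eq.trans ?_ (h2.trans ?_)
    · exact X.presheaf.germ_res_apply (Opens.infLELeft (V i) (V j)) p hp (c i)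
    · exact (X.presheaf.germ_res_apply (Opens.infLERight (V i) (V j)) p hp (c j)).symm
  obtain ⟨r, hr, -⟩ := X.sheaf.existsUnique_gluing' V W (fun i => homOfLE (hVW i))
    (fun y hy => Opens.mem_iSup.mpr ⟨⟨y, hy⟩, hyV ⟨y, hy⟩⟩) c hcompat
  refine ⟨r, kmod_ext fun y => ?_⟩
  rw [Mero.toK_apply]
  have h1 := hc y ⟨y.1, hyV y⟩
  refine Eq.trans (Mero.mk_congr ?_ rfl) h1.symm
  rw [← hr y]
  exact (X.presheaf.germ_res_apply (homOfLE (hVW y)) y.1 (hyV y) r).symm

end Groth.Agent.Lib.Helper29.QCoh.MeroK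

namespace Groth.Agent.Lib.Helper29.QCoh.MeroK

variable {X : Scheme.{u}}

/-- The domain of definition of a meromorphic function. -/
noncomputable def dom {U : X.Opens} (s : Γ(Mero.kmod X, U)) : X.Opens where
  carrier := {x | ∃ hx : x ∈ U, s.1 ⟨x, hx⟩ ∈
    (algebraMap (X.presheaf.stalk x) (Mero.KStalk X x)).range}
  is_open' := by
    rw [isOpen_iff_forall_mem_open]
    rintro x ⟨hx, h⟩
    obtain ⟨V, hxV, hVU, c, hc⟩ := exists_local_eq_toK s x hx h
    refine ⟨V, ?_, V.isOpen, hxV⟩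
    intro p hp
    exact ⟨hVU hp, ⟨X.presheaf.germ V p hp c, (hc ⟨p, hp⟩).symm⟩⟩

theorem mem_dom {U : X.Opens} (s : Γ(Mero.kmod X, U)) (x : X) :
    x ∈ dom s ↔ ∃ hx : x ∈ U, s.1 ⟨x, hx⟩ ∈
      (algebraMap (X.presheaf.stalk x) (Mero.KStalk X x)).range := Iff.rfl

theorem dom_le {U : X.Opens} (s : Γ(Mero.kmod X, U)) : dom s ≤ U := fun _ hx => hx.1

theorem mk_mem_range_of_isUnit {x : X} (a : X.presheaf.stalk x) (b : Mero.regStalk X x)
    (hb : IsUnit b.1) : (LocalizedModule.mk a b : Mero.KStalk X x) ∈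
      (algebraMap (X.presheaf.stalk x) (Mero.KStalk X x)).range := by
  obtain ⟨v, hv⟩ := hb
  refine ⟨a * (v⁻¹ : (X.presheaf.stalk x)ˣ), ?_⟩
  rw [algebraMap_eq_mk, eq_comm, mk_eq_mk_one_iff, ← hv, mul_comm a, ← mul_assoc, Units.mul_inv,
    one_mul]

/-- The domain of definition is schematically dense. -/
theorem injective_res_dom {U : X.Opens} (s : Γ(Mero.kmod X, U)) (V : X.Opens) (hVU : V ≤ U) :
    Function.Injective (X.presheaf.map (homOfLE (inf_le_left : V ⊓ dom s ≤ V)).op) := by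
  rw [injective_iff_map_eq_zero]
  intro r hr
  apply TopCat.Presheaf.section_ext X.sheaf
  intro y hy
  obtain ⟨W₁, hW₁, hyW₁, hW₁U, a, b, hab⟩ := exists_local_rep s y (hVU hy)
  obtain ⟨W', hW', hyW', hW'le⟩ := exists_isAffineOpen_mem_and_subset (x := y) (U := V ⊓ W₁)
    ⟨hy, hyW₁⟩
  have hW'V : W' ≤ V := fun p hp => (hW'le hp).1
  have hW'W₁ : W' ≤ W₁ := fun p hp => (hW'le hp).2
  set b' : Γ(X, W') := X.presheaf.map (homOfLE hW'W₁).op b.1 with hb'
  set r' : Γ(X, W') := X.presheaf.map (homOfLE hW'V).op r with hr'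
  have hle : X.basicOpen b' ≤ V ⊓ dom s := by
    intro p hp
    have hpW' : p ∈ W' := X.basicOpen_le b' hp
    refine ⟨hW'V hpW', hW₁U (hW'W₁ hpW'), ?_⟩
    rw [hab ⟨p, hW'W₁ hpW'⟩]
    apply mk_mem_range_of_isUnit
    rw [Scheme.mem_basicOpen _ _ _ hpW', hb', X.presheaf.germ_res_apply] at hp
    exact hp
  have hres : r' |_ (X.basicOpen b') = 0 := by
    have h1 := congrArg (X.presheaf.map (homOfLE hle).op) hr
    rw [map_zero] at h1
    rw [← h1, hr']
    change X.presheaf.map _ (X.presheaf.map _ r) = X.presheaf.map _ (X.presheaf.map _ r)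
    simp only [← CommRingCat.comp_apply, ← Functor.map_comp]
    rfl
  obtain ⟨n, hn⟩ := exists_pow_mul_eq_zero_of_res_basicOpen_eq_zero_of_isAffineOpen X hW' r' b' hres
  have h2 := congrArg (X.presheaf.germ W' y hyW') hn
  rw [map_mul, map_pow, map_zero] at h2
  have hbn : X.presheaf.germ W' y hyW' b' ∈ nonZeroDivisors (X.presheaf.stalk y) := by
    rw [hb', X.presheaf.germ_res_apply]
    exact b.2 ⟨y, hyW₁⟩
  have h3 := (mem_nonZeroDivisors_iff.mp (pow_mem hbn n)).1 _ h2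
  rw [hr', X.presheaf.germ_res_apply] at h3
  exact h3.trans (map_zero _).symm

end Groth.Agent.Lib.Helper29.QCoh.MeroK
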