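import Groth.Agent.Lib.Helper29.Depth1M
import Groth.Agent.Lib.Helper29.MeroK4
import Groth.Agent.Lib.Helper29.MeroDiv4
set_option autoImplicit false
universe u
open CategoryTheory AlgebraicGeometry TopologicalSpace Opposite IsLocalRing

namespace Groth.Agent.Lib.Helper29.Curve1
open Groth.Agent.Lib.Helper29.QCoh Groth.Agent.Lib.Helper29.QCoh.MeroK
open Groth.Agent.Lib.Helper29.Depth1

variable {C : Scheme.{u}}

/-- Lemma A: at a non-closed point of an absolute curve the local ring is zero-dimensional. -/
theorem krullDimLE_zero_of_not_isClosed [IsNoetherian C]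
    (hC : ∀ x : C, IsClosed ({x} : Set C) → ringKrullDim (C.presheaf.stalk x) = 1)
    (x : C) (hx : ¬ IsClosed ({x} : Set C)) : Ring.KrullDimLE 0 (C.presheaf.stalk x) := by
  obtain ⟨c, hc, hcc⟩ := IsClosed.exists_closed_singleton (isClosed_closure (s := ({x} : Set C)))
    ⟨x, subset_closure rfl⟩
  have hne : c ≠ x := fun h => hx (h ▸ hcc)
  have hspec : x ⤳ c := specializes_iff_mem_closure.mpr hc
  have hlt : c < x := by
    refine ⟨hspec, fun h => hne ?_⟩
    have : x ∈ closure ({c} : Set C) := specializes_iff_mem_closure.mp h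
    rw [hcc.closure_eq] at this
    exact this.symm
  have h1 := Order.coheight_add_one_le hlt
  have h2 : (Order.coheight c : WithBot ℕ∞) = 1 := by
    rw [← ringKrullDim_stalk_eq_coheight, hC c hcc]
  have h3 : Order.coheight c = 1 := by exact_mod_cast h2
  rw [h3] at h1
  apply krullDimLE_of_coheight_le
  have h' : Order.coheight x + 1 ≤ 0 + 1 := by rwa [zero_add]
  have h4 := (ENat.add_le_add_iff_right (ENat.one_ne_top)).mp h'
  exact_mod_cast h4

theorem isUnit_of_not_isClosed [IsNoetherian C]
    (hC : ∀ x : C, IsClosed ({x} : Set C) → ringKrullDim (C.presheaf.stalk x) = 1)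
    (x : C) (hx : ¬ IsClosed ({x} : Set C)) (α : C.presheaf.stalk x)
    (hα : α ∈ nonZeroDivisors (C.presheaf.stalk x)) : IsUnit α := by
  haveI := krullDimLE_zero_of_not_isClosed hC x hx
  have : nonZeroDivisors (C.presheaf.stalk x) ≤ IsUnit.submonoid (C.presheaf.stalk x) :=
    le_isUnit_iff_zero_notMem.mpr zero_notMem_nonZeroDivisors
  exact this hα

/-- Numerators of units of `K_x` are nonzerodivisors. -/
theorem num_mem_nonZeroDivisors {x : C} (k : (Mero.KStalk C x)ˣ) (a : C.presheaf.stalk x)
    (b : Mero.regStalk C x) (hk : (k : Mero.KStalk C x) = LocalizedModule.mk a b) :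
    a ∈ nonZeroDivisors (C.presheaf.stalk x) := by
  rw [mem_nonZeroDivisors_iff_right]
  intro r hr
  have h1 : (k : Mero.KStalk C x) * (LocalizedModule.mk r 1 : Mero.KStalk C x) = 0 := by
    rw [hk]
    refine LocalizedModule.mk_mul_mk.trans ?_
    rw [mk_eq_zero_iff, mul_comm]; exact hr
  have h2 : (LocalizedModule.mk r 1 : Mero.KStalk C x) = 0 := k.isUnit.mul_right_eq_zero.mp h1
  exact (mk_eq_zero_iff _ _).mp h2

theorem exists_rep_unit {x : C} (k : (Mero.KStalk C x)ˣ) :
    ∃ (a : C.presheaf.stalk x) (b : Mero.regStalk C x),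
      a ∈ nonZeroDivisors (C.presheaf.stalk x) ∧
      (k : Mero.KStalk C x) = LocalizedModule.mk a b := by
  obtain ⟨⟨a, b⟩, hab⟩ : ∃ y : C.presheaf.stalk x × Mero.regStalk C x,
      (k : Mero.KStalk C x) = LocalizedModule.mk y.1 y.2 := by
    generalize (k : Mero.KStalk C x) = k'
    induction k' using Localization.induction_on with
    | H y => exact ⟨y, rfl⟩
  exact ⟨a, b, num_mem_nonZeroDivisors k a b hab, hab⟩

/-- Lemma G: germs of divisors are trivial where all nonzerodivisors are units. -/
theorem germ_eq_one_of_units {x : C}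
    (h : ∀ α ∈ nonZeroDivisors (C.presheaf.stalk x), IsUnit α) (γ : Mero.Germ C x) : γ = 1 := by
  induction γ using QuotientGroup.induction_on with
  | H k =>
    obtain ⟨a, b, ha, hk⟩ := exists_rep_unit k
    rw [trivAt_iff a b ha k hk]
    have hb := h b.1 (Mero.regStalk_le_nonZeroDivisors x b.2)
    have ha' := h a ha
    rw [Ideal.span_singleton_eq_top.mpr hb, Ideal.span_singleton_eq_top.mpr ha']
    exact ⟨trivial, trivial⟩

end Groth.Agent.Lib.Helper29.Curve1
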