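import Groth.Agent.Lib.Helper29.MeroDiv2
set_option autoImplicit false
universe u
open CategoryTheory CategoryTheory.Limits AlgebraicGeometry TopologicalSpace Opposite

namespace Groth.Agent.Lib.Helper29.QCoh.MeroK

variable {X : Scheme.{u}}

theorem germOf_resUnit {U V : X.Opens} (h : V ≤ U) (f : (Γ(Mero.kmod X, U))ˣ) (y : V) :
    Mero.germOf (resUnit h f) y = Mero.germOf f ⟨y.1, h y.2⟩ :=
  congrArg _ (Units.ext rfl)

/-- Two divisors have a common local equation domain. -/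
theorem exists_common_rep (D D' : Mero.Divisor X) (x : X) :
    ∃ (U : X.Opens) (_ : x ∈ U) (f f' : (Γ(Mero.kmod X, U))ˣ),
      (∀ y : U, D.1 y.1 = Mero.germOf f y) ∧ (∀ y : U, D'.1 y.1 = Mero.germOf f' y) := by
  obtain ⟨U, hxU, f, hf⟩ := D.2 x
  obtain ⟨U', hxU', f', hf'⟩ := D'.2 x
  refine ⟨U ⊓ U', ⟨hxU, hxU'⟩, resUnit inf_le_left f, resUnit inf_le_right f', fun y => ?_,
    fun y => ?_⟩
  · rw [germOf_resUnit]; exact hf ⟨y.1, y.2.1⟩
  · rw [germOf_resUnit]; exact hf' ⟨y.1, y.2.2⟩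

/-- An element of `K_{X,x}ˣ` which, together with its inverse, lies in the local ring is in the
image of the units of the local ring. -/
theorem mem_stalkUnits_of_mem_range {x : X} (q : (Mero.KStalk X x)ˣ)
    (h1 : q.1 ∈ (algebraMap (X.presheaf.stalk x) (Mero.KStalk X x)).range)
    (h2 : (q⁻¹ : (Mero.KStalk X x)ˣ).1 ∈ (algebraMap (X.presheaf.stalk x) (Mero.KStalk X x)).range) :
    q ∈ Mero.stalkUnits X x := by
  obtain ⟨a, ha⟩ := h1
  obtain ⟨b, hb⟩ := h2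
  have hab : a * b = 1 := by
    apply Mero.algebraMap_KStalk_injective x
    rw [map_mul, ha, hb, map_one, Units.mul_inv]
  refine ⟨Units.mkOfMulEqOne a b hab, Units.ext ?_⟩
  exact ha

theorem eq_of_divCond_iff (D D' : Mero.Divisor X)
    (h : ∀ (U : X.Opens) (t : Γ(Mero.kmod X, U)),
      (∀ x : ↥U, Mero.DivCond D x.1 (t.1 x)) ↔ (∀ x : ↥U, Mero.DivCond D' x.1 (t.1 x))) :
    D = D' := by
  apply Subtype.ext
  funext x
  obtain ⟨U, hxU, f, f', hf, hf'⟩ := exists_common_rep D D' x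
  have h1 : ∀ y : U, Mero.DivCond D' y.1 (((f⁻¹ : (Γ(Mero.kmod X, U))ˣ) : Γ(Mero.kmod X, U)).1 y) := by
    rw [← h U]
    intro y
    exact divCond_of_div D (divGen D f hf) y
  have h2 : ∀ y : U, Mero.DivCond D y.1 (((f'⁻¹ : (Γ(Mero.kmod X, U))ˣ) : Γ(Mero.kmod X, U)).1 y) := by
    rw [h U]
    intro y
    exact divCond_of_div D' (divGen D' f' hf') y
  have h1x := (divCond_iff_of_germOf D' f' ⟨x, hxU⟩ (hf' _) _).mp (h1 ⟨x, hxU⟩)
  have h2x := (divCond_iff_of_germOf D f ⟨x, hxU⟩ (hf _) _).mp (h2 ⟨x, hxU⟩)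
  rw [hf ⟨x, hxU⟩, hf' ⟨x, hxU⟩]
  rw [Mero.germOf, Mero.germOf, QuotientGroup.eq]
  apply mem_stalkUnits_of_mem_range
  · exact h1x
  · have e : (((Units.map (Mero.evalK X U ⟨x, hxU⟩).toMonoidHom f)⁻¹ *
        (Units.map (Mero.evalK X U ⟨x, hxU⟩).toMonoidHom f'))⁻¹ : (Mero.KStalk X x)ˣ).1 =
        ((f'⁻¹ : (Γ(Mero.kmod X, U))ˣ) : Γ(Mero.kmod X, U)).1 ⟨x, hxU⟩ *
          (f : Γ(Mero.kmod X, U)).1 ⟨x, hxU⟩ := by
      rw [mul_inv_rev, inv_inv, Units.val_mul, ← map_inv]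
      rfl
    rw [e]
    exact h2x

end Groth.Agent.Lib.Helper29.QCoh.MeroK
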