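import Groth.Agent.Lib.Helper29.Curve1
import Groth.Agent.Lib.Helper29.MeroDiv3
import Groth.Agent.Lib.Helper29.QCohAss2
set_option autoImplicit false
universe u
open CategoryTheory AlgebraicGeometry TopologicalSpace Opposite IsLocalRing

namespace Groth.Agent.Lib.Helper29.Curve1
open Groth.Agent.Lib.Helper29.QCoh Groth.Agent.Lib.Helper29.QCoh.MeroK
open Groth.Agent.Lib.Helper29.Depth1

variable {C : Scheme.{u}}

theorem isClosed_of_nonunit [IsNoetherian C]
    (hC : ∀ x : C, IsClosed ({x} : Set C) → ringKrullDim (C.presheaf.stalk x) = 1)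
    (y : C) (α : C.presheaf.stalk y) (hα : α ∈ nonZeroDivisors (C.presheaf.stalk y))
    (hnu : ¬ IsUnit α) : IsClosed ({y} : Set C) := by
  by_contra h
  exact hnu (isUnit_of_not_isClosed hC y h α hα)

theorem isClosed_of_finite_of_forall {T : Set C} (hT : T.Finite)
    (h : ∀ y ∈ T, IsClosed ({y} : Set C)) : IsClosed T := by
  have := hT.isClosed_biUnion (f := fun y => ({y} : Set C)) h
  rwa [Set.biUnion_of_singleton] at this

/-- Lemma B: the non-unit locus of a regular function on an affine open of an absolute curve is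
finite. -/
theorem finite_nonunit_locus [IsNoetherian C]
    (hC : ∀ x : C, IsClosed ({x} : Set C) → ringKrullDim (C.presheaf.stalk x) = 1)
    {W : C.Opens} (hW : IsAffineOpen W) (a : Γ(C, W)) (ha : a ∈ nonZeroDivisors Γ(C, W)) :
    {y : C | ∃ hy : y ∈ W, ¬ IsUnit (C.presheaf.germ W y hy a)}.Finite := by
  classical
  haveI : IsNoetherianRing Γ(C, W) := IsLocallyNoetherian.component_noetherian ⟨W, hW⟩
  have hreg := mem_regSub_of_mem_nonZeroDivisors hW a ha
  have hcl : ∀ (y : C) (hy : y ∈ W), ¬ IsUnit (C.presheaf.germ W y hy a) →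
      IsClosed ({y} : Set C) := fun y hy hnu =>
    isClosed_of_nonunit hC y _ (hreg ⟨y, hy⟩) hnu
  have hmem : ∀ (y : C) (hy : y ∈ W), ¬ IsUnit (C.presheaf.germ W y hy a) ↔
      a ∈ (hW.primeIdealOf ⟨y, hy⟩).asIdeal := by
    intro y hy
    rw [← Scheme.mem_basicOpen _ _ _ hy, mem_basicOpen_iff_notMem_primeIdealOf hW y hy a,
      not_not]
  let f : C → Ideal Γ(C, W) := fun y =>
    if hy : y ∈ W then (hW.primeIdealOf ⟨y, hy⟩).asIdeal else ⊤
  have hfin : ((Ideal.span {a} : Ideal Γ(C, W)).minimalPrimes).Finite :=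
    Ideal.finite_minimalPrimes_of_isNoetherianRing _ _
  refine Set.Finite.of_injOn (f := f) ?_ ?_ hfin
  · rintro y ⟨hy, hnu⟩
    change f y ∈ _
    simp only [f, dif_pos hy]
    have hay := (hmem y hy).mp hnu
    refine ⟨⟨(hW.primeIdealOf ⟨y, hy⟩).isPrime, ?_⟩, ?_⟩
    · rw [Ideal.span_le, Set.singleton_subset_iff]; exact hay
    · rintro q ⟨hq, haq⟩ hle
      obtain ⟨z, hzW, hz⟩ := exists_point_of_prime' hW ⟨q, hq⟩
      have hzq : (hW.primeIdealOf ⟨z, hzW⟩).asIdeal = q := by rw [hz]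
      have hspec : z ⤳ y := Depth1.specializes_of_primeIdealOf_le hW z y hzW hy (hzq ▸ hle)
      have haz : a ∈ (hW.primeIdealOf ⟨z, hzW⟩).asIdeal := by
        rw [hzq]; exact haq (Ideal.subset_span rfl)
      have hzcl := hcl z hzW ((hmem z hzW).mpr haz)
      have : y ∈ closure ({z} : Set C) := specializes_iff_mem_closure.mp hspec
      rw [hzcl.closure_eq] at this
      have hyz : y = z := this
      subst hyz
      exact hzq.le
  · rintro y ⟨hy, -⟩ y' ⟨hy', -⟩ h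
    simp only [f, dif_pos hy, dif_pos hy'] at h
    exact eq_of_primeIdealOf_eq hW y y' hy hy' (PrimeSpectrum.ext h)

theorem finite_supp [IsNoetherian C]
    (hC : ∀ x : C, IsClosed ({x} : Set C) → ringKrullDim (C.presheaf.stalk x) = 1)
    (D : Mero.Divisor C) : {x : C | D.1 x ≠ 1}.Finite := by
  choose W hW hxW a b ha hb hrep using fun x => hasLocalRep_mero D x
  obtain ⟨t, ht⟩ := isCompact_univ.elim_finite_subcover (fun x => ((W x : C.Opens) : Set C))
    (fun x => (W x).isOpen) (fun y _ => Set.mem_iUnion.mpr ⟨y, hxW y⟩)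
  refine Set.Finite.subset (t.finite_toSet.biUnion (fun x _ =>
    (finite_nonunit_locus hC (hW x) (a x) (ha x)).union
      (finite_nonunit_locus hC (hW x) (b x) (hb x)))) ?_
  intro y hy
  obtain ⟨x, hxt, hyx⟩ := Set.mem_iUnion₂.mp (ht (Set.mem_univ y))
  refine Set.mem_iUnion₂.mpr ⟨x, hxt, ?_⟩
  by_contra hcon
  rw [Set.mem_union, not_or] at hcon
  obtain ⟨h1, h2⟩ := hcon
  have hau : IsUnit (C.presheaf.germ (W x) y hyx (a x)) := by
    by_contra h; exact h1 ⟨hyx, h⟩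
  have hbu : IsUnit (C.presheaf.germ (W x) y hyx (b x)) := by
    by_contra h; exact h2 ⟨hyx, h⟩
  apply hy
  apply ((hrep x y hyx).2).mpr
  rw [Ideal.span_singleton_eq_top.mpr hau, Ideal.span_singleton_eq_top.mpr hbu]
  exact ⟨trivial, trivial⟩

/-- The fraction `a / b` as a meromorphic function. -/
noncomputable def fracK {W : C.Opens} (a : Γ(C, W)) (b : Mero.regSub C W) : Γ(Mero.kmod C, W) :=
  Mero.toK C W a * invK b

theorem fracK_apply {W : C.Opens} (a : Γ(C, W)) (b : Mero.regSub C W) (y : W) :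
    (fracK a b).1 y = LocalizedModule.mk (C.presheaf.germ W y.1 y.2 a) (Mero.regGerm y b) := by
  unfold fracK
  rw [Mero.kmod_mul_apply, Mero.toK_apply]
  change (LocalizedModule.mk _ 1 : Mero.KStalk C y.1) * LocalizedModule.mk 1 (Mero.regGerm y b) = _
  refine LocalizedModule.mk_mul_mk.trans (Mero.mk_congr (mul_one _) (one_mul _))

theorem mem_divisorGroup_of_finite [IsNoetherian C]
    (hC : ∀ x : C, IsClosed ({x} : Set C) → ringKrullDim (C.presheaf.stalk x) = 1)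
    (g : ∀ x : C, Mero.Germ C x) (hfin : {x : C | g x ≠ 1}.Finite)
    (hcl : ∀ x : C, ¬ IsClosed ({x} : Set C) → g x = 1) : g ∈ Mero.divisorGroup C := by
  intro x
  obtain ⟨k, hk⟩ := QuotientGroup.mk_surjective (g x)
  obtain ⟨α, β, hα, hkv⟩ := exists_rep_unit k
  have hαr : α ∈ Mero.regStalk C x := by rw [regStalk_eq_nonZeroDivisors]; exact hα
  obtain ⟨U₁, hx₁, a₁, ha₁, hga₁⟩ := hαr
  obtain ⟨U₂, hx₂, b₂, hb₂, hgb₂⟩ := β.2
  obtain ⟨W, hW, hxW, hWU⟩ := exists_isAffineOpen_mem_and_subset (x := x) (U := U₁ ⊓ U₂)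
    ⟨hx₁, hx₂⟩
  have hW1 : W ≤ U₁ := hWU.trans inf_le_left
  have hW2 : W ≤ U₂ := hWU.trans inf_le_right
  let a : Mero.regSub C W := ⟨C.presheaf.map (homOfLE hW1).op a₁, Mero.regSub_res _ ha₁⟩
  let b : Mero.regSub C W := ⟨C.presheaf.map (homOfLE hW2).op b₂, Mero.regSub_res _ hb₂⟩
  have hax : C.presheaf.germ W x hxW a.1 = α := by
    rw [← hga₁]; exact C.presheaf.germ_res_apply _ _ _ _
  have hbx : C.presheaf.germ W x hxW b.1 = β.1 := by
    rw [← hgb₂]; exact C.presheaf.germ_res_apply _ _ _ _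
  have hfu : IsUnit (fracK a.1 b) := isUnit_of_rep _ a b (fun y => fracK_apply a.1 b y)
  -- nonzerodivisor-ness on the affine
  have haW : a.1 ∈ nonZeroDivisors Γ(C, W) :=
    mem_nonZeroDivisors_of_germ a.1 (fun y hy => a.2 ⟨y, hy⟩)
  have hbW : b.1 ∈ nonZeroDivisors Γ(C, W) :=
    mem_nonZeroDivisors_of_germ b.1 (fun y hy => b.2 ⟨y, hy⟩)
  have hNa := finite_nonunit_locus hC hW a.1 haW
  have hNb := finite_nonunit_locus hC hW b.1 hbW
  set T : Set C := ({y : C | g y ≠ 1} ∪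
    ({y : C | ∃ hy : y ∈ W, ¬ IsUnit (C.presheaf.germ W y hy a.1)} ∪
     {y : C | ∃ hy : y ∈ W, ¬ IsUnit (C.presheaf.germ W y hy b.1)})) \ {x} with hT
  have hTfin : T.Finite := (hfin.union (hNa.union hNb)).subset Set.sdiff_subset
  have hTcl : IsClosed T := by
    refine isClosed_of_finite_of_forall hTfin ?_
    rintro y ⟨hy | hy | hy, -⟩
    · by_contra hc; exact hy (hcl y hc)
    · obtain ⟨hyW, hnu⟩ := hy
      exact isClosed_of_nonunit hC y _ (a.2 ⟨y, hyW⟩) hnu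
    · obtain ⟨hyW, hnu⟩ := hy
      exact isClosed_of_nonunit hC y _ (b.2 ⟨y, hyW⟩) hnu
  let V : C.Opens := W ⊓ ⟨Tᶜ, hTcl.isOpen_compl⟩
  have hxV : x ∈ V := ⟨hxW, fun h => h.2 rfl⟩
  have hVW : V ≤ W := inf_le_left
  refine ⟨V, hxV, resUnit hVW hfu.unit, fun y => ?_⟩
  rw [germOf_resUnit]
  have hyW : y.1 ∈ W := hVW y.2
  have hFv : ((Units.map (Mero.evalK C W ⟨y.1, hyW⟩).toMonoidHom hfu.unit :
      (Mero.KStalk C y.1)ˣ) : Mero.KStalk C y.1) =
      LocalizedModule.mk (C.presheaf.germ W y.1 hyW a.1) (Mero.regGerm ⟨y.1, hyW⟩ b) :=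
    fracK_apply a.1 b ⟨y.1, hyW⟩
  by_cases hyx : y.1 = x
  · obtain ⟨y, hyV⟩ := y
    dsimp only at hyx hyW hFv ⊢
    subst hyx
    rw [← hk]
    unfold Mero.germOf
    congr 1
    apply Units.ext
    rw [hkv, hFv]
    exact Mero.mk_congr hax.symm hbx.symm
  · have hyT : y.1 ∉ T := y.2.2
    have hg1 : g y.1 = 1 := by
      by_contra h; exact hyT ⟨Or.inl h, hyx⟩
    have hau : IsUnit (C.presheaf.germ W y.1 hyW a.1) := by
      by_contra h; exact hyT ⟨Or.inr (Or.inl ⟨hyW, h⟩), hyx⟩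
    have hbu : IsUnit (C.presheaf.germ W y.1 hyW b.1) := by
      by_contra h; exact hyT ⟨Or.inr (Or.inr ⟨hyW, h⟩), hyx⟩
    rw [hg1]
    symm
    unfold Mero.germOf
    rw [trivAt_iff (C.presheaf.germ W y.1 hyW a.1) (Mero.regGerm ⟨y.1, hyW⟩ b) (a.2 ⟨y.1, hyW⟩) _ hFv]
    rw [Ideal.span_singleton_eq_top.mpr hau]
    have : (Ideal.span {(Mero.regGerm ⟨y.1, hyW⟩ b).1} : Ideal (C.presheaf.stalk y.1)) = ⊤ :=
      Ideal.span_singleton_eq_top.mpr hbu
    rw [this]
    exact ⟨trivial, trivial⟩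

end Groth.Agent.Lib.Helper29.Curve1
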