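import Groth.Agent.Lib.Helper29.Curve2
set_option autoImplicit false
universe u
open CategoryTheory AlgebraicGeometry TopologicalSpace Opposite IsLocalRing

namespace Groth.Agent.Lib.Helper29.Curve1
open Groth.Agent.Lib.Helper29.QCoh Groth.Agent.Lib.Helper29.QCoh.MeroK
open Groth.Agent.Lib.Helper29.Depth1

variable {C : Scheme.{u}}

/-- The class of a regular germ. -/
noncomputable def regClass {x : C} (a : Mero.regStalk C x) : Mero.Germ C x :=
  QuotientGroup.mk (IsLocalization.map_units (Mero.KStalk C x) a).unit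

theorem regClass_one {x : C} : regClass (1 : Mero.regStalk C x) = 1 := by
  unfold regClass
  rw [QuotientGroup.eq_one_iff]
  convert Subgroup.one_mem _
  apply Units.ext
  rw [unit_val_eq]
  exact Mero.mk_self_eq_one (1 : Mero.regStalk C x)

theorem exists_num_den [IsLocallyNoetherian C] {x : C} (γ : Mero.Germ C x) :
    ∃ a b : Mero.regStalk C x, γ = regClass a * (regClass b)⁻¹ := by
  obtain ⟨k, rfl⟩ := QuotientGroup.mk_surjective γ
  obtain ⟨α, β, hα, hkv⟩ := exists_rep_unit k
  have hαr : α ∈ Mero.regStalk C x := by rw [regStalk_eq_nonZeroDivisors]; exact hα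
  refine ⟨⟨α, hαr⟩, β, ?_⟩
  unfold regClass
  rw [← QuotientGroup.mk_inv, ← QuotientGroup.mk_mul]
  congr 1
  rw [eq_mul_inv_iff_mul_eq]
  apply Units.ext
  rw [Units.val_mul, unit_val_eq, unit_val_eq, hkv, mk_mul_mk_one, mk_eq_mk_iff]
  simp only [OneMemClass.coe_one, one_mul]
  ring

theorem exists_effective_decomp [IsNoetherian C]
    (hC : ∀ x : C, IsClosed ({x} : Set C) → ringKrullDim (C.presheaf.stalk x) = 1)
    (D : Mero.Divisor C) :
    ∃ D₁ D₂ : Mero.Divisor C, Mero.IsEffective D₁ ∧ Mero.IsEffective D₂ ∧ D = D₁ * D₂⁻¹ ∧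
      Mero.supp D₁ ⊆ Mero.supp D ∧ Mero.supp D₂ ⊆ Mero.supp D := by
  classical
  choose a b hab using fun x : C => exists_num_den (D.1 x)
  have hfin := finite_supp hC D
  have hDcl : ∀ x : C, ¬ IsClosed ({x} : Set C) → D.1 x = 1 := fun x hx =>
    germ_eq_one_of_units (fun α hα => isUnit_of_not_isClosed hC x hx α hα) (D.1 x)
  let a' : ∀ x : C, Mero.regStalk C x := fun x => if D.1 x = 1 then 1 else a x
  let b' : ∀ x : C, Mero.regStalk C x := fun x => if D.1 x = 1 then 1 else b x
  have ha1 : ∀ x : C, D.1 x = 1 → regClass (a' x) = 1 := fun x hx => by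
    simp only [a', if_pos hx]; exact regClass_one
  have hb1 : ∀ x : C, D.1 x = 1 → regClass (b' x) = 1 := fun x hx => by
    simp only [b', if_pos hx]; exact regClass_one
  have hmem : ∀ c : ∀ x : C, Mero.regStalk C x, (∀ x : C, D.1 x = 1 → regClass (c x) = 1) →
      (fun x => regClass (c x)) ∈ Mero.divisorGroup C := by
    intro c hc
    refine mem_divisorGroup_of_finite hC _ (hfin.subset ?_) (fun x hx => hc x (hDcl x hx))
    intro x hx h1
    exact hx (hc x h1)
  refine ⟨⟨_, hmem a' ha1⟩, ⟨_, hmem b' hb1⟩, fun x => ⟨a' x, rfl⟩, fun x => ⟨b' x, rfl⟩, ?_,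
    ?_, ?_⟩
  · apply Subtype.ext
    funext x
    change D.1 x = regClass (a' x) * (regClass (b' x))⁻¹
    by_cases h : D.1 x = 1
    · rw [ha1 x h, hb1 x h, h, inv_one]; exact (mul_one (1 : Mero.Germ C x)).symm
    · simp only [a', b', if_neg h]
      exact hab x
  · intro x hx h1
    exact hx (ha1 x h1)
  · intro x hx h1
    exact hx (hb1 x h1)

end Groth.Agent.Lib.Helper29.Curve1
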