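import Groth.Agent.Lib.Helper29.MeroPull
set_option autoImplicit false
universe u
open CategoryTheory CategoryTheory.Limits AlgebraicGeometry TopologicalSpace Opposite

namespace Groth.Agent.Lib.Helper29.QCoh.MeroPull
open Groth.Agent.Lib.Helper26

theorem main_aux {X Y : Scheme.{u}} (f : X ⟶ Y)
    (U : Y.Opens) (s : Γ(Y, U)) (x : X) (hx : x ∈ f ⁻¹ᵁ U)
    (hzd : X.presheaf.germ (f ⁻¹ᵁ U) x hx (f.app U s) ∉ nonZeroDivisors (X.presheaf.stalk x)) :
    ∃ (y : X) (hfy : f y ∈ U), y ⤳ x ∧ Curv2.IsWeakAssPoint (unitM X) y ∧ f y ∉ Y.basicOpen s := by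
  rw [mem_nonZeroDivisors_iff_right] at hzd
  push Not at hzd
  obtain ⟨t, ht, hne⟩ := hzd
  obtain ⟨V₀, hxV₀, m₀, rfl⟩ := X.presheaf.exists_germ_eq t
  -- the product germ vanishes
  have hV₁ : V₀ ⊓ f ⁻¹ᵁ U ≤ V₀ := inf_le_left
  have hV₂ : V₀ ⊓ f ⁻¹ᵁ U ≤ f ⁻¹ᵁ U := inf_le_right
  have hxV₁ : x ∈ V₀ ⊓ f ⁻¹ᵁ U := ⟨hxV₀, hx⟩
  have hprod : X.presheaf.germ (V₀ ⊓ f ⁻¹ᵁ U) x hxV₁
      (X.presheaf.map (homOfLE hV₁).op m₀ * X.presheaf.map (homOfLE hV₂).op (f.app U s)) =
      X.presheaf.germ (V₀ ⊓ f ⁻¹ᵁ U) x hxV₁ 0 := by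
    rw [map_mul, map_zero, X.presheaf.germ_res_apply, X.presheaf.germ_res_apply]
    exact ht
  obtain ⟨W, hxW, iU, iV, hW0⟩ := X.presheaf.germ_eq x hxV₁ hxV₁ _ _ hprod
  obtain ⟨V, hV, hxV, hVW⟩ := exists_isAffineOpen_mem_and_subset (x := x) (U := W) hxW
  have hVW' : V ≤ W := hVW
  have hVV₀ : V ≤ V₀ := hVW'.trans (iU.le.trans hV₁)
  have hVU : V ≤ f ⁻¹ᵁ U := hVW'.trans (iU.le.trans hV₂)
  set m : Γ(X, V) := X.presheaf.map (homOfLE hVV₀).op m₀ with hm
  set a : Γ(X, V) := X.presheaf.map (homOfLE hVU).op (f.app U s) with ha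
  have hma : m * a = 0 := by
    have := congrArg (X.presheaf.map (homOfLE hVW').op) hW0
    rw [map_zero, map_zero, map_mul, map_mul] at this
    rw [hm, ha]
    have e1 : X.presheaf.map (homOfLE hVW').op (X.presheaf.map iU.op
        (X.presheaf.map (homOfLE hV₁).op m₀)) = X.presheaf.map (homOfLE hVV₀).op m₀ := by
      simp only [← CommRingCat.comp_apply, ← Functor.map_comp, ← op_comp]; rfl
    have e2 : ∀ z : Γ(X, f ⁻¹ᵁ U), X.presheaf.map (homOfLE hVW').op (X.presheaf.map iU.op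
        (X.presheaf.map (homOfLE hV₂).op z)) = X.presheaf.map (homOfLE hVU).op z := by
      intro z
      simp only [← CommRingCat.comp_apply, ← Functor.map_comp, ← op_comp]; rfl
    rw [e1, e2] at this
    exact this
  have hgm : X.presheaf.germ V x hxV m = X.presheaf.germ V₀ x hxV₀ m₀ := by
    rw [hm]; exact X.presheaf.germ_res_apply (homOfLE hVV₀) x hxV m₀
  -- nonzero germ in the unit module
  have hne' : (unitM X).presheaf.germ V x hxV (toUnit m) ≠ 0 := by
    intro h0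
    rw [germ_eq_zero_iff (unitM X) hV x hxV] at h0
    obtain ⟨r, hr, hrm⟩ := h0
    have hrm' : r * m = 0 := hrm
    have hru : IsUnit (X.presheaf.germ V x hxV r) := by
      rwa [← Scheme.mem_basicOpen _ _ _ hxV]
    have h1 := congrArg (X.presheaf.germ V x hxV) hrm'
    rw [map_mul, map_zero, hgm] at h1
    exact hne (hru.mul_right_eq_zero.mp h1)
  obtain ⟨y, hyV, hyx, hyass, hyne⟩ :=
    exists_isWeakAssPoint_specializes (unitM X) hV (toUnit m) x hxV hne'
  have hya : y ∉ X.basicOpen a := by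
    intro hy
    apply hyne
    rw [germ_eq_zero_iff (unitM X) hV y hyV]
    refine ⟨a, hy, ?_⟩
    change a * m = 0
    rw [mul_comm]; exact hma
  have hfy : f y ∈ U := hVU hyV
  have hfyb : f y ∉ Y.basicOpen s := by
    intro hcon
    apply hya
    rw [ha, Scheme.basicOpen_res]
    refine ⟨hyV, ?_⟩
    rw [← Scheme.preimage_basicOpen]
    exact hcon
  exact ⟨y, hfy, hyx, hyass, hfyb⟩


/-- A weakly associated point of the structure module has its maximal ideal associated to the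
local ring. -/
theorem isAssociatedPrime_of_isWeakAssPoint_unit {X : Scheme.{u}} (y : X)
    (hy : Curv2.IsWeakAssPoint (unitM X) y) :
    IsAssociatedPrime (IsLocalRing.maximalIdeal (X.presheaf.stalk y)) (X.presheaf.stalk y) := by
  obtain ⟨V, hV, hyV, -⟩ := exists_isAffineOpen_mem_and_subset (x := y) (U := ⊤) trivial
  obtain ⟨m, hm⟩ := exists_mem_minimalPrimes_of_isWeakAssPoint (unitM X) hV y hyV hy
  let _ : Algebra Γ(X, V) (X.presheaf.stalk y) :=
    TopCat.Presheaf.algebra_section_stalk X.presheaf ⟨y, hyV⟩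
  have hloc := hV.isLocalization_stalk ⟨y, hyV⟩
  set p := (hV.primeIdealOf ⟨y, hyV⟩).asIdeal with hp
  have hpp : p.IsPrime := (hV.primeIdealOf ⟨y, hyV⟩).isPrime
  let m' : Γ(X, V) := m
  have hann : ∀ r : Γ(X, V), r ∈ annSection (unitM X) m ↔ r * m' = 0 := fun r => by
    rw [mem_annSection]; rfl
  set t : X.presheaf.stalk y := algebraMap Γ(X, V) (X.presheaf.stalk y) m' with ht
  have ht0 : t ≠ 0 := by
    intro h0
    rw [ht, IsLocalization.map_eq_zero_iff p.primeCompl] at h0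
    obtain ⟨c, hc⟩ := h0
    exact c.2 (hm.1.2 ((hann c.1).mpr hc))
  refine ⟨inferInstance, t, ?_⟩
  apply le_antisymm
  · intro r hr
    obtain ⟨⟨a, c⟩, hac⟩ := IsLocalization.surj p.primeCompl r
    have hcu : IsUnit (algebraMap Γ(X, V) (X.presheaf.stalk y) c.1) :=
      IsLocalization.map_units _ c
    have ha : a ∈ p := by
      rw [← IsLocalization.AtPrime.to_map_mem_maximal_iff (X.presheaf.stalk y) p a]
      change r * _ = _ at hac
      rw [← hac]
      exact Ideal.mul_mem_right _ _ hr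
    obtain ⟨d, hd, n, hdn⟩ := FinitePushAss.exists_mul_pow_mem _ p hm a ha
    rw [hann] at hdn
    have hdu : IsUnit (algebraMap Γ(X, V) (X.presheaf.stalk y) d) :=
      IsLocalization.map_units _ (⟨d, hd⟩ : p.primeCompl)
    have h1 := congrArg (algebraMap Γ(X, V) (X.presheaf.stalk y)) hdn
    rw [map_mul, map_mul, map_pow, map_zero, mul_assoc] at h1
    have h2 : algebraMap Γ(X, V) (X.presheaf.stalk y) a ^ n * t = 0 :=
      hdu.mul_right_eq_zero.mp h1
    change r * _ = _ at hac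
    rw [← hac, mul_pow, mul_assoc, mul_comm _ t, ← mul_assoc] at h2
    have h3 : r ^ n * t = 0 := (hcu.pow n).mul_left_eq_zero.mp h2
    refine ⟨n, ?_⟩
    rw [Submodule.mem_colon_singleton, Submodule.mem_bot, smul_eq_mul]
    exact h3
  · have hne : (⊥ : Submodule (X.presheaf.stalk y) (X.presheaf.stalk y)).colon {t} ≠ ⊤ := by
      intro htop
      have h1 : (1 : X.presheaf.stalk y) ∈
          (⊥ : Submodule (X.presheaf.stalk y) (X.presheaf.stalk y)).colon {t} := by
        rw [htop]; trivial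
      rw [Submodule.mem_colon_singleton, Submodule.mem_bot, one_smul] at h1
      exact ht0 h1
    have hle := IsLocalRing.le_maximalIdeal hne
    exact (Ideal.IsPrime.radical_le_iff inferInstance).mpr hle

/-- A nonzerodivisor of a local ring whose maximal ideal is associated is a unit. -/
theorem isUnit_of_mem_nonZeroDivisors_of_isAssociatedPrime {R : Type*} [CommRing R] [IsLocalRing R]
    (h : IsAssociatedPrime (IsLocalRing.maximalIdeal R) R) (r : R) (hr : r ∈ nonZeroDivisors R) :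
    IsUnit r := by
  by_contra hnu
  obtain ⟨_, t, ht⟩ := h
  have hrm : r ∈ IsLocalRing.maximalIdeal R := (IsLocalRing.mem_maximalIdeal r).mpr hnu
  rw [ht] at hrm
  obtain ⟨n, hn⟩ := hrm
  rw [Submodule.mem_colon_singleton, Submodule.mem_bot, smul_eq_mul] at hn
  have h0 : t = 0 := (mem_nonZeroDivisors_iff.mp (pow_mem hr n)).1 t hn
  have htop : (⊥ : Submodule R R).colon {t} = ⊤ := by
    rw [h0, Ideal.eq_top_iff_one, Submodule.mem_colon_singleton, smul_zero]
    exact Submodule.zero_mem _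
  rw [htop, Ideal.radical_top] at ht
  exact (IsLocalRing.maximalIdeal.isMaximal R).ne_top ht

theorem main2 {X Y : Scheme.{u}} (f : X ⟶ Y)
    (hf : ∀ x : ↥X, IsAssociatedPrime (IsLocalRing.maximalIdeal ↑(X.presheaf.stalk x)) ↑(X.presheaf.stalk x) →
      IsAssociatedPrime (IsLocalRing.maximalIdeal ↑(Y.presheaf.stalk (f x))) ↑(Y.presheaf.stalk (f x)))
    (U : Y.Opens) (s : Γ(Y, U)) (hs : s ∈ Mero.regSub Y U) : f.app U s ∈ Mero.regSub X (f ⁻¹ᵁ U) := by
  rintro ⟨x, hx⟩
  change X.presheaf.germ (f ⁻¹ᵁ U) x hx (f.app U s) ∈ nonZeroDivisors (X.presheaf.stalk x)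
  by_contra hzd
  obtain ⟨y, hfy, -, hyass, hfyb⟩ := main_aux f U s x hx hzd
  apply hfyb
  rw [Scheme.mem_basicOpen _ _ _ hfy]
  exact isUnit_of_mem_nonZeroDivisors_of_isAssociatedPrime
    (hf y (isAssociatedPrime_of_isWeakAssPoint_unit y hyass)) _ (hs ⟨f y, hfy⟩)

end Groth.Agent.Lib.Helper29.QCoh.MeroPull
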