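import Groth.Agent.Lib.Helper29.MeroK4
import Groth.Agent.Lib.Helper29.MeroPull2
set_option autoImplicit false
universe u
open CategoryTheory CategoryTheory.Limits AlgebraicGeometry TopologicalSpace Opposite

namespace Groth.Agent.Lib.Helper29.QCoh.MeroK
open Groth.Agent.Lib.Helper26

variable {X : Scheme.{u}}

/-- If the germ of `r` at `x` is a zero divisor there is a weakly associated point of `O_X`
generalizing `x` at which `r` vanishes. -/
theorem exists_weakAss_of_zero_divisor {U : X.Opens} (r : Γ(X, U)) (x : X) (hx : x ∈ U)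
    (hzd : X.presheaf.germ U x hx r ∉ nonZeroDivisors (X.presheaf.stalk x)) :
    ∃ (z : X) (_ : z ∈ U), z ⤳ x ∧ Curv2.IsWeakAssPoint (unitM X) z ∧ z ∉ X.basicOpen r := by
  rw [mem_nonZeroDivisors_iff_right] at hzd
  push Not at hzd
  obtain ⟨t, ht, hne⟩ := hzd
  obtain ⟨V₀, hxV₀, m₀, rfl⟩ := X.presheaf.exists_germ_eq t
  have hV₁ : V₀ ⊓ U ≤ V₀ := inf_le_left
  have hV₂ : V₀ ⊓ U ≤ U := inf_le_right
  have hxV₁ : x ∈ V₀ ⊓ U := ⟨hxV₀, hx⟩
  have hprod : X.presheaf.germ (V₀ ⊓ U) x hxV₁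
      (X.presheaf.map (homOfLE hV₁).op m₀ * X.presheaf.map (homOfLE hV₂).op r) =
      X.presheaf.germ (V₀ ⊓ U) x hxV₁ 0 := by
    rw [map_mul, map_zero, X.presheaf.germ_res_apply, X.presheaf.germ_res_apply]
    exact ht
  obtain ⟨W, hxW, iU, iV, hW0⟩ := X.presheaf.germ_eq x hxV₁ hxV₁ _ _ hprod
  obtain ⟨V, hV, hxV, hVW⟩ := exists_isAffineOpen_mem_and_subset (x := x) (U := W) hxW
  have hVW' : V ≤ W := hVW
  have hVV₀ : V ≤ V₀ := hVW'.trans (iU.le.trans hV₁)
  have hVU : V ≤ U := hVW'.trans (iU.le.trans hV₂)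
  set m : Γ(X, V) := X.presheaf.map (homOfLE hVV₀).op m₀ with hm
  set a : Γ(X, V) := X.presheaf.map (homOfLE hVU).op r with ha
  have hma : m * a = 0 := by
    have := congrArg (X.presheaf.map (homOfLE hVW').op) hW0
    rw [map_zero, map_zero, map_mul, map_mul] at this
    rw [hm, ha]
    have e1 : X.presheaf.map (homOfLE hVW').op (X.presheaf.map iU.op
        (X.presheaf.map (homOfLE hV₁).op m₀)) = X.presheaf.map (homOfLE hVV₀).op m₀ := by
      simp only [← CommRingCat.comp_apply, ← Functor.map_comp, ← op_comp]; rfl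
    have e2 : ∀ z : Γ(X, U), X.presheaf.map (homOfLE hVW').op (X.presheaf.map iU.op
        (X.presheaf.map (homOfLE hV₂).op z)) = X.presheaf.map (homOfLE hVU).op z := by
      intro z
      simp only [← CommRingCat.comp_apply, ← Functor.map_comp, ← op_comp]; rfl
    rw [e1, e2] at this
    exact this
  have hgm : X.presheaf.germ V x hxV m = X.presheaf.germ V₀ x hxV₀ m₀ := by
    rw [hm]; exact X.presheaf.germ_res_apply (homOfLE hVV₀) x hxV m₀
  have hne' : (unitM X).presheaf.germ V x hxV (toUnit m) ≠ 0 := by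
    intro h0
    rw [germ_eq_zero_iff (unitM X) hV x hxV] at h0
    obtain ⟨c, hc, hcm⟩ := h0
    have hcm' : c * m = 0 := hcm
    have hcu : IsUnit (X.presheaf.germ V x hxV c) := by
      rwa [← Scheme.mem_basicOpen _ _ _ hxV]
    have h1 := congrArg (X.presheaf.germ V x hxV) hcm'
    rw [map_mul, map_zero, hgm] at h1
    exact hne (hcu.mul_right_eq_zero.mp h1)
  obtain ⟨y, hyV, hyx, hyass, hyne⟩ :=
    exists_isWeakAssPoint_specializes (unitM X) hV (toUnit m) x hxV hne'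
  have hya : y ∉ X.basicOpen a := by
    intro hy
    apply hyne
    rw [germ_eq_zero_iff (unitM X) hV y hyV]
    refine ⟨a, hy, ?_⟩
    change a * m = 0
    rw [mul_comm]; exact hma
  refine ⟨y, hVU hyV, hyx, hyass, fun hcon => hya ?_⟩
  rw [ha, Scheme.basicOpen_res]
  exact ⟨hyV, hcon⟩

/-- Conversely, a section vanishing at a weakly associated point generalizing `x` has a zero
divisor germ at `x`. -/
theorem not_mem_nonZeroDivisors_of_weakAss {U : X.Opens} (r : Γ(X, U)) (x z : X) (hx : x ∈ U)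
    (hzx : z ⤳ x) (hz : Curv2.IsWeakAssPoint (unitM X) z) (hzr : z ∉ X.basicOpen r) :
    X.presheaf.germ U x hx r ∉ nonZeroDivisors (X.presheaf.stalk x) := by
  intro hnz
  obtain ⟨V, hV, hxV, hVU⟩ := exists_isAffineOpen_mem_and_subset (x := x) (U := U) hx
  have hVU' : V ≤ U := hVU
  have hzV : z ∈ V := hzx.mem_open V.isOpen hxV
  obtain ⟨m, hm⟩ := exists_mem_minimalPrimes_of_isWeakAssPoint (unitM X) hV z hzV hz
  let m' : Γ(X, V) := m
  have hann : ∀ c : Γ(X, V), c ∈ annSection (unitM X) m ↔ c * m' = 0 := fun c => by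
    rw [mem_annSection]; rfl
  set a : Γ(X, V) := X.presheaf.map (homOfLE hVU').op r with ha
  have haz : a ∈ (hV.primeIdealOf ⟨z, hzV⟩).asIdeal := by
    by_contra hcon
    apply hzr
    have := (mem_basicOpen_iff_notMem_primeIdealOf hV z hzV a).mpr hcon
    rw [ha, Scheme.basicOpen_res] at this
    exact this.2
  obtain ⟨d, hd, n, hdn⟩ := FinitePushAss.exists_mul_pow_mem _ _ hm a haz
  rw [hann] at hdn
  -- the germ of `d * m'` at `x` is nonzero and killed by a power of the germ of `r`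
  have h1 := congrArg (X.presheaf.germ V x hxV) hdn
  rw [mul_assoc, mul_comm d, mul_assoc, map_mul, map_pow, map_zero] at h1
  have hga : X.presheaf.germ V x hxV a = X.presheaf.germ U x hx r := by
    rw [ha]; exact X.presheaf.germ_res_apply (homOfLE hVU') x hxV r
  rw [hga] at h1
  have h2 := (mem_nonZeroDivisors_iff.mp (pow_mem hnz n)).1 _ h1
  -- hence some `c ∉ 𝔭_x` kills `m' * d`
  let _ : Algebra Γ(X, V) (X.presheaf.stalk x) :=
    TopCat.Presheaf.algebra_section_stalk X.presheaf ⟨x, hxV⟩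
  have hloc := hV.isLocalization_stalk ⟨x, hxV⟩
  have h3 : algebraMap Γ(X, V) (X.presheaf.stalk x) (m' * d) = 0 := h2
  rw [IsLocalization.map_eq_zero_iff (hV.primeIdealOf ⟨x, hxV⟩).asIdeal.primeCompl] at h3
  obtain ⟨⟨c, hc⟩, hcmd⟩ := h3
  have hcd : c * d ∈ (hV.primeIdealOf ⟨z, hzV⟩).asIdeal := by
    apply hm.1.2
    rw [hann]
    rw [← hcmd]; ring
  have hle : (hV.primeIdealOf ⟨z, hzV⟩).asIdeal ≤ (hV.primeIdealOf ⟨x, hxV⟩).asIdeal := by
    have h4 : (⟨z, hzV⟩ : V) ⤳ ⟨x, hxV⟩ :=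
      (Topology.IsInducing.subtypeVal.specializes_iff (x := (⟨z, hzV⟩ : V)) (y := ⟨x, hxV⟩)).mp hzx
    have h5 : hV.primeIdealOf ⟨z, hzV⟩ ⤳ hV.primeIdealOf ⟨x, hxV⟩ :=
      h4.map (hV.isoSpec.hom.continuous)
    exact (PrimeSpectrum.le_iff_specializes _ _).mpr h5
  have hzprime : (hV.primeIdealOf ⟨z, hzV⟩).asIdeal.IsPrime := (hV.primeIdealOf ⟨z, hzV⟩).isPrime
  rcases hzprime.mem_or_mem hcd with h6 | h6
  · exact hc (hle h6)
  · exact hd h6

end Groth.Agent.Lib.Helper29.QCoh.MeroK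

namespace Groth.Agent.Lib.Helper29.QCoh.MeroK
open Groth.Agent.Lib.Helper26

variable {X : Scheme.{u}}

/-- If an affine neighbourhood of `x` has only finitely many weakly associated points of `O_X`,
every nonzerodivisor of `O_{X,x}` is the germ of a regular section. -/
theorem regStalk_eq_nonZeroDivisors_of_finite (x : X) {W : X.Opens} (hxW : x ∈ W)
    (hfin : {z : X | z ∈ W ∧ Curv2.IsWeakAssPoint (unitM X) z}.Finite) :
    Mero.regStalk X x = nonZeroDivisors (X.presheaf.stalk x) := by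
  classical
  refine le_antisymm (Mero.regStalk_le_nonZeroDivisors x) ?_
  intro c hc
  obtain ⟨W₀, hxW₀, r₀, rfl⟩ := X.presheaf.exists_germ_eq c
  obtain ⟨V, hV, hxV, hVle⟩ := exists_isAffineOpen_mem_and_subset (x := x) (U := W ⊓ W₀)
    ⟨hxW, hxW₀⟩
  have hVW : V ≤ W := fun p hp => (hVle hp).1
  have hVW₀ : V ≤ W₀ := fun p hp => (hVle hp).2
  set r : Γ(X, V) := X.presheaf.map (homOfLE hVW₀).op r₀ with hr
  have hgr : X.presheaf.germ V x hxV r = X.presheaf.germ W₀ x hxW₀ r₀ := by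
    rw [hr]; exact X.presheaf.germ_res_apply (homOfLE hVW₀) x hxV r₀
  have hpx : (hV.primeIdealOf ⟨x, hxV⟩).asIdeal.IsPrime := (hV.primeIdealOf ⟨x, hxV⟩).isPrime
  -- choose separating functions
  have hsep : ∀ z : X, ∃ g : Γ(X, V), g ∉ (hV.primeIdealOf ⟨x, hxV⟩).asIdeal ∧
      ∀ hzV : z ∈ V, ¬ z ⤳ x → g ∈ (hV.primeIdealOf ⟨z, hzV⟩).asIdeal := by
    intro z
    by_cases hz : z ∈ V ∧ ¬ z ⤳ x
    · obtain ⟨hzV, hzx⟩ := hz
      have hnle : ¬ (hV.primeIdealOf ⟨z, hzV⟩).asIdeal ≤ (hV.primeIdealOf ⟨x, hxV⟩).asIdeal :=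
        fun hle => hzx (specializes_of_primeIdealOf_le hV x z hxV hzV hle)
      obtain ⟨g, hgz, hgx⟩ := Set.not_subset.mp hnle
      exact ⟨g, hgx, fun _ _ => hgz⟩
    · refine ⟨1, fun h1 => hpx.ne_top ((Ideal.eq_top_iff_one _).mpr h1), fun hzV hzx => ?_⟩
      exact absurd ⟨hzV, hzx⟩ hz
  choose g hgx hgz using hsep
  set G : Γ(X, V) := ∏ z ∈ hfin.toFinset, g z with hG
  have hGx : G ∉ (hV.primeIdealOf ⟨x, hxV⟩).asIdeal := by
    intro hmem
    obtain ⟨z, -, hz⟩ := (hpx.prod_mem_iff).mp hmem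
    exact hgx z hz
  have hxG : x ∈ X.basicOpen G := (mem_basicOpen_iff_notMem_primeIdealOf hV x hxV G).mpr hGx
  have hGV : X.basicOpen G ≤ V := X.basicOpen_le G
  set r' : Γ(X, X.basicOpen G) := X.presheaf.map (homOfLE hGV).op r with hr'
  refine ⟨X.basicOpen G, hxG, r', ?_, ?_⟩
  · rintro ⟨y, hy⟩
    by_contra hzd
    obtain ⟨z, hzG, hzy, hzass, hzr⟩ := exists_weakAss_of_zero_divisor r' y hy hzd
    have hzV : z ∈ V := hGV hzG
    have hzr' : z ∉ X.basicOpen r := by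
      intro hcon
      apply hzr
      rw [hr', Scheme.basicOpen_res]
      exact ⟨hzG, hcon⟩
    by_cases hzx : z ⤳ x
    · exact not_mem_nonZeroDivisors_of_weakAss r x z hxV hzx hzass hzr' (by rw [hgr]; exact hc)
    · have hzfin : z ∈ hfin.toFinset := by
        rw [Set.Finite.mem_toFinset]
        exact ⟨hVW hzV, hzass⟩
      have h1 : G ∈ (hV.primeIdealOf ⟨z, hzV⟩).asIdeal := by
        rw [hG]
        exact Ideal.mem_of_dvd _ (Finset.dvd_prod_of_mem g hzfin) (hgz z hzV hzx)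
      exact (mem_basicOpen_iff_notMem_primeIdealOf hV z hzV G).mp hzG h1
  · rw [hr', X.presheaf.germ_res_apply]
    exact hgr

end Groth.Agent.Lib.Helper29.QCoh.MeroK

namespace Groth.Agent.Lib.Helper29.QCoh.MeroK
open Groth.Agent.Lib.Helper26

variable {X : Scheme.{u}}

/-- A zero divisor of the ring of an affine open lies in the prime of a weakly associated
point. -/
theorem exists_weakAss_of_not_mem_nonZeroDivisors {U : X.Opens} (hU : IsAffineOpen U)
    (b : Γ(X, U)) (hb : b ∉ nonZeroDivisors Γ(X, U)) :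
    ∃ (z : X) (hz : z ∈ U), Curv2.IsWeakAssPoint (unitM X) z ∧
      b ∈ (hU.primeIdealOf ⟨z, hz⟩).asIdeal := by
  rw [mem_nonZeroDivisors_iff_right] at hb
  push Not at hb
  obtain ⟨c, hcb, hc⟩ := hb
  have hne : annSection (unitM X) (toUnit c) ≠ ⊤ := annSection_ne_top _ _ hc
  obtain ⟨p, hp⟩ := Ideal.nonempty_minimalPrimes hne
  have hpp : p.IsPrime := hp.1.1
  obtain ⟨z, hz, hzp⟩ := exists_point_of_prime' hU ⟨p, hpp⟩
  have hzp' : (hU.primeIdealOf ⟨z, hz⟩).asIdeal = p := congrArg PrimeSpectrum.asIdeal hzp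
  refine ⟨z, hz, isWeakAssPoint_of_mem_minimalPrimes (unitM X) hU (toUnit c) z hz
    (by rw [hzp']; exact hp), ?_⟩
  rw [hzp']
  apply hp.1.2
  rw [mem_annSection]
  change b * c = 0
  rw [mul_comm]; exact hcb

/-- Prime avoidance over finitely many weakly associated points. -/
theorem exists_nonZeroDivisor_of_not_le {U : X.Opens} (hU : IsAffineOpen U)
    (hfin : {z : X | z ∈ U ∧ Curv2.IsWeakAssPoint (unitM X) z}.Finite) (I : Ideal Γ(X, U))
    (h : ∀ (z : X) (hz : z ∈ U), Curv2.IsWeakAssPoint (unitM X) z →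
      ¬ I ≤ (hU.primeIdealOf ⟨z, hz⟩).asIdeal) :
    ∃ b ∈ I, b ∈ nonZeroDivisors Γ(X, U) := by
  classical
  by_contra hcon
  push Not at hcon
  let f : X → Ideal Γ(X, U) := fun z =>
    if hz : z ∈ U then (hU.primeIdealOf ⟨z, hz⟩).asIdeal else ⊤
  have hf : ∀ (z : X) (hz : z ∈ U), f z = (hU.primeIdealOf ⟨z, hz⟩).asIdeal := fun z hz => by
    simp only [f, dif_pos hz]
  have hsub : (I : Set Γ(X, U)) ⊆ ⋃ z ∈ (hfin.toFinset : Set X), (f z : Set Γ(X, U)) := by
    intro b hb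
    obtain ⟨z, hz, hzass, hbz⟩ := exists_weakAss_of_not_mem_nonZeroDivisors hU b (hcon b hb)
    simp only [Set.mem_iUnion, exists_prop]
    refine ⟨z, ?_, ?_⟩
    · simp only [Finset.mem_coe, Set.Finite.mem_toFinset]
      exact ⟨hz, hzass⟩
    · rw [hf z hz]; exact hbz
  obtain ⟨z₀, -, -, -⟩ := exists_weakAss_of_not_mem_nonZeroDivisors hU 0 (hcon 0 I.zero_mem)
  obtain ⟨z, hzs, hIz⟩ := (Ideal.subset_union_prime (R := Γ(X, U)) (f := f) z₀ z₀
    (fun z hz _ _ => by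
      rw [Set.Finite.mem_toFinset] at hz
      rw [hf z hz.1]
      exact (hU.primeIdealOf ⟨z, hz.1⟩).isPrime)).mp hsub
  rw [Set.Finite.mem_toFinset] at hzs
  rw [hf z hzs.1] at hIz
  exact h z hzs.1 hzs.2 hIz

end Groth.Agent.Lib.Helper29.QCoh.MeroK

namespace Groth.Agent.Lib.Helper29.QCoh.MeroK
open Groth.Agent.Lib.Helper26

variable {X : Scheme.{u}}

theorem exists_nonZeroDivisor_denominator_of_finite {U : X.Opens} (hU : IsAffineOpen U)
    (hfin : {z : X | z ∈ U ∧ Curv2.IsWeakAssPoint (unitM X) z}.Finite)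
    (t : Γ(Mero.kmod X, U)) : ∃ b ∈ denom t, b ∈ nonZeroDivisors Γ(X, U) := by
  apply exists_nonZeroDivisor_of_not_le hU hfin
  intro z hz hzass hle
  obtain ⟨d, c, hdc, hdn⟩ := exists_denominator hU t z hz
  have hdz : d ∈ (hU.primeIdealOf ⟨z, hz⟩).asIdeal := hle ⟨c, hdc⟩
  have hzd : z ∉ X.basicOpen d := fun hcon =>
    (mem_basicOpen_iff_notMem_primeIdealOf hU z hz d).mp hcon hdz
  exact not_mem_nonZeroDivisors_of_weakAss d z z hz specializes_rfl hzass hzd hdn

/-- `Γ(U, K_X)` is the total ring of fractions of `Γ(U, O_X)` for an affine open with finitely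
many weakly associated points. -/
theorem isLocalization_kmod_of_finite {U : X.Opens} (hU : IsAffineOpen U)
    (hfin : {z : X | z ∈ U ∧ Curv2.IsWeakAssPoint (unitM X) z}.Finite) :
    @IsLocalization Γ(X, U) _ (nonZeroDivisors Γ(X, U)) Γ(Mero.kmod X, U) _
      (Mero.toK X U).toAlgebra := by
  letI := (Mero.toK X U).toAlgebra
  have halg : ∀ r : Γ(X, U), algebraMap Γ(X, U) Γ(Mero.kmod X, U) r = Mero.toK X U r :=
    fun r => rfl
  refine ⟨?_, ?_, ?_⟩
  · rintro ⟨b, hb⟩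
    rw [halg]
    exact isUnit_toK ⟨b, mem_regSub_of_mem_nonZeroDivisors hU b hb⟩
  · intro z
    obtain ⟨b, ⟨c, hc⟩, hb⟩ := exists_nonZeroDivisor_denominator_of_finite hU hfin z
    refine ⟨⟨c, ⟨b, hb⟩⟩, ?_⟩
    rw [halg, halg, mul_comm]
    exact hc
  · intro a a' h
    rw [halg, halg] at h
    exact ⟨1, by rw [toK_injective U h]⟩

end Groth.Agent.Lib.Helper29.QCoh.MeroK
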