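import Groth.Agent.Lib.Helper29.Curve3
import Groth.Agent.Lib.Helper29.MeroReg
set_option autoImplicit false
universe u
open CategoryTheory AlgebraicGeometry TopologicalSpace Opposite IsLocalRing

namespace Groth.Agent.Lib.Helper29.Curve1
open Groth.Agent.Lib.Helper29.QCoh Groth.Agent.Lib.Helper29.QCoh.MeroK
open Groth.Agent.Lib.Helper29.Depth1

variable {C : Scheme.{u}}

theorem regClass_eq_one_iff {x : C} (c : Mero.regStalk C x) : regClass c = 1 ↔ IsUnit c.1 := by
  unfold regClass
  rw [trivAt_iff c.1 1 (Mero.regStalk_le_nonZeroDivisors x c.2) _ (unit_val_eq c)]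
  constructor
  · rintro ⟨-, h⟩
    rw [← Ideal.span_singleton_eq_top, Ideal.eq_top_iff_one]
    exact h
  · intro h
    rw [Ideal.span_singleton_eq_top.mpr h]
    have : (Ideal.span {((1 : Mero.regStalk C x) : C.presheaf.stalk x)} :
        Ideal (C.presheaf.stalk x)) = ⊤ := Ideal.span_singleton_eq_top.mpr isUnit_one
    rw [this]
    exact ⟨trivial, trivial⟩

/-- A proper specialization of a point of an absolute curve is a closed point. -/
theorem isClosed_of_specializes_ne [IsNoetherian C]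
    (hC : ∀ x : C, IsClosed ({x} : Set C) → ringKrullDim (C.presheaf.stalk x) = 1)
    (η y : C) (h : η ⤳ y) (hne : y ≠ η) : IsClosed ({y} : Set C) := by
  by_contra hy
  haveI := krullDimLE_zero_of_not_isClosed hC y hy
  have h0 : ringKrullDim (C.presheaf.stalk y) ≤ 0 := by
    have := (Ring.krullDimLE_iff (n := 0) (R := C.presheaf.stalk y)).mp inferInstance
    exact_mod_cast this
  rw [ringKrullDim_stalk_eq_coheight] at h0
  have h0' : Order.coheight y ≤ 0 := by exact_mod_cast h0
  have hlt : y < η := ⟨h, fun h' => hne (h'.antisymm h).eq⟩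
  have h1 := Order.coheight_add_one_le hlt
  have h2 : (1 : ℕ∞) ≤ 0 := le_trans (le_add_self) (h1.trans h0')
  exact absurd h2 (by simp)

/-- Every irreducible component of an absolute curve without open points meets a dense open in a
point carrying a non-invertible regular germ. -/
theorem exists_good_point [IsNoetherian C]
    (hC : ∀ x : C, IsClosed ({x} : Set C) → ringKrullDim (C.presheaf.stalk x) = 1)
    (hpt : ∀ x : C, ¬ IsOpen ({x} : Set C)) (U : C.Opens) (hU : Dense (U : Set C))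
    (Z : Set C) (hZ : Z ∈ irreducibleComponents (C : Type u)) :
    ∃ y : C, y ∈ Z ∧ y ∈ U ∧ ∃ c : Mero.regStalk C y, ¬ IsUnit c.1 := by
  obtain ⟨o, ho, hone, hoZ⟩ :=
    NoetherianSpace.exists_isOpen_nonempty_subset_irreducibleComponent Z hZ
  obtain ⟨x₀, hx₀o, hx₀U⟩ := hU.inter_open_nonempty o ho hone
  obtain ⟨W, hW, hx₀W, hWle⟩ := exists_isAffineOpen_mem_and_subset (x := x₀)
    (U := ⟨o, ho⟩ ⊓ U) ⟨hx₀o, hx₀U⟩
  have hWo : ∀ y ∈ W, y ∈ Z := fun y hy => hoZ (hWle hy).1
  have hWU : ∀ y ∈ W, y ∈ U := fun y hy => (hWle hy).2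
  obtain ⟨η, hη⟩ := QuasiSober.sober hZ.1 (isClosed_of_mem_irreducibleComponents Z hZ)
  have hspec : ∀ y ∈ Z, η ⤳ y := fun y hy => by
    rw [specializes_iff_mem_closure, hη.def]; exact hy
  have hηW : η ∈ W := (hspec x₀ (hWo x₀ hx₀W)).mem_open W.isOpen hx₀W
  have hfin := finite_weakAss_unit_of_isNoetherian hW
  -- a point of `W` other than `η` which is not weakly associated
  obtain ⟨y, hyW, hyη, hyA⟩ : ∃ y : C, y ∈ W ∧ y ≠ η ∧ ¬ Curv2.IsWeakAssPoint (unitM C) y := by
    by_contra hcon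
    push Not at hcon
    apply hpt η
    have hsub : ((W : Set C) \ {η}) ⊆ {z : C | z ∈ W ∧ Curv2.IsWeakAssPoint (unitM C) z} :=
      fun y hy => ⟨hy.1, hcon y hy.1 hy.2⟩
    have hTcl : IsClosed ((W : Set C) \ {η}) :=
      isClosed_of_finite_of_forall (hfin.subset hsub) (fun y hy =>
        isClosed_of_specializes_ne hC η y (hspec y (hWo y hy.1)) hy.2)
    have : ({η} : Set C) = (W : Set C) ∩ ((W : Set C) \ {η})ᶜ := by
      ext z
      simp only [Set.mem_singleton_iff, Set.mem_inter_iff, Set.mem_compl_iff, Set.mem_sdiff,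
        not_and, not_not]
      constructor
      · rintro rfl; exact ⟨hηW, fun _ => rfl⟩
      · rintro ⟨h1, h2⟩; exact h2 h1
    rw [this]
    exact W.isOpen.inter hTcl.isOpen_compl
  have hycl := isClosed_of_specializes_ne hC η y (hspec y (hWo y hyW)) hyη
  obtain ⟨b, hby, hb⟩ := exists_nonZeroDivisor_of_not_le hW hfin
    (hW.primeIdealOf ⟨y, hyW⟩).asIdeal (by
      intro z hzW hzA hle
      have hyz : y ⤳ z := Depth1.specializes_of_primeIdealOf_le hW y z hyW hzW hle
      have : z ∈ closure ({y} : Set C) := specializes_iff_mem_closure.mp hyz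
      rw [hycl.closure_eq] at this
      have hzy : z = y := this
      exact hyA (hzy ▸ hzA))
  have hreg := mem_regSub_of_mem_nonZeroDivisors hW b hb
  refine ⟨y, hWo y hyW, hWU y hyW, ⟨C.presheaf.germ W y hyW b,
    Mero.germ_mem_regStalk ⟨y, hyW⟩ hreg⟩, ?_⟩
  change ¬ IsUnit (C.presheaf.germ W y hyW b)
  rw [← Scheme.mem_basicOpen _ _ _ hyW, mem_basicOpen_iff_notMem_primeIdealOf hW y hyW b,
    not_not]
  exact hby

theorem exists_effective_meeting [IsNoetherian C]
    (hC : ∀ x : C, IsClosed ({x} : Set C) → ringKrullDim (C.presheaf.stalk x) = 1)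
    (hpt : ∀ x : C, ¬ IsOpen ({x} : Set C)) (U : C.Opens) (hU : Dense (U : Set C)) :
    ∃ D : Mero.Divisor C, Mero.IsEffective D ∧ Mero.supp D ⊆ (U : Set C) ∧
      ∀ Z ∈ irreducibleComponents (C : Type u), (Mero.supp D ∩ Z).Nonempty := by
  classical
  have hgood := exists_good_point hC hpt U hU
  choose y hyZ hyU hyc using hgood
  have hcompfin : (irreducibleComponents (C : Type u)).Finite :=
    NoetherianSpace.finite_irreducibleComponents
  haveI : Finite (irreducibleComponents (C : Type u)) := hcompfin.to_subtype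
  set Y : Set C := Set.range (fun Z : irreducibleComponents (C : Type u) => y Z.1 Z.2) with hY
  have hYfin : Y.Finite := Set.finite_range _
  let c : ∀ x : C, Mero.regStalk C x := fun x =>
    if h : x ∈ Y ∧ ∃ c : Mero.regStalk C x, ¬ IsUnit c.1 then h.2.choose else 1
  have hc1 : ∀ x : C, regClass (c x) ≠ 1 → x ∈ Y := by
    intro x hx
    by_contra hxY
    apply hx
    have : c x = 1 := by simp only [c]; rw [dif_neg (fun h => hxY h.1)]
    rw [this]; exact regClass_one
  have hc2 : ∀ (Z : Set C) (hZ : Z ∈ irreducibleComponents (C : Type u)),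
      regClass (c (y Z hZ)) ≠ 1 := by
    intro Z hZ
    have h : y Z hZ ∈ Y ∧ ∃ c : Mero.regStalk C (y Z hZ), ¬ IsUnit c.1 :=
      ⟨⟨⟨Z, hZ⟩, rfl⟩, hyc Z hZ⟩
    have : c (y Z hZ) = h.2.choose := by simp only [c]; rw [dif_pos h]
    rw [this, Ne, regClass_eq_one_iff]
    exact h.2.choose_spec
  have hmem : (fun x => regClass (c x)) ∈ Mero.divisorGroup C := by
    refine mem_divisorGroup_of_finite hC _ (hYfin.subset hc1) (fun x hx => ?_)
    exact germ_eq_one_of_units (fun α hα => isUnit_of_not_isClosed hC x hx α hα) _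
  refine ⟨⟨_, hmem⟩, fun x => ⟨c x, rfl⟩, ?_, ?_⟩
  · intro x hx
    obtain ⟨⟨Z, hZ⟩, rfl⟩ := hc1 x hx
    exact hyU Z hZ
  · intro Z hZ
    exact ⟨y Z hZ, hc2 Z hZ, hyZ Z hZ⟩

end Groth.Agent.Lib.Helper29.Curve1
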