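import Groth.Agent.Lib.Helper29.FinCov10
universe u
open CategoryTheory CategoryTheory.Limits AlgebraicGeometry TopologicalSpace Opposite

namespace Groth.Agent.Lib.Helper29.QCoh

namespace DblInv

section Alg
variable {R S : Type*} [CommRing R] [CommRing S] [Algebra R S]

/-- the conjugation of a free algebra of rank two -/
theorem conj_mul (b : Module.Basis (Fin 2) R S) (x y : S) :
    algebraMap R S (Algebra.trace R S (x * y)) - x * y =
      (algebraMap R S (Algebra.trace R S x) - x) * (algebraMap R S (Algebra.trace R S y) - y) := by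
  have key : ∀ z : S, Algebra.leftMulMatrix b (algebraMap R S (Algebra.trace R S z) - z) =
      (Algebra.leftMulMatrix b z).adjugate := by
    intro z
    rw [map_sub, AlgHom.commutes, Algebra.trace_eq_matrix_trace b z]
    ext i j
    rw [Matrix.adjugate_fin_two]
    fin_cases i <;> fin_cases j <;>
      simp [Matrix.trace_fin_two, Matrix.algebraMap_matrix_apply]
  apply Algebra.leftMulMatrix_injective b
  conv_lhs => rw [mul_comm x y]
  rw [key, map_mul, map_mul, key, key, Matrix.adjugate_mul_distrib]

end Alg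

section Conj
variable {X : Scheme.{u}} (A : RelSpec.QCAlg X)

theorem exists_isGoodD_le {d : ℕ} (hA : FlatMod.IsFinLocFreeOfRank d A.toModule)
    (W : X.Opens) (x : X) (hxW : x ∈ W) : ∃ V, IsGoodD A d V ∧ x ∈ V ∧ V ≤ W := by
  obtain ⟨V, hV, hxV, hVW, ⟨e⟩⟩ := exists_affine_le_linearEquiv_of_isFinLocFreeOfRank hA x hxW
  refine ⟨V, ⟨hV, ?_⟩, hxV, hVW⟩
  letI := algSect A V
  have e' : (A.presheaf.obj (op V)) ≃ₗ[Γ(X, V)] (Fin d →₀ Γ(X, V)) := e
  exact ⟨Module.Basis.ofRepr e'⟩

theorem isGood_of_isGoodD {d : ℕ} {V : X.Opens} (h : IsGoodD A d V) : IsGood A V := by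
  obtain ⟨hV, ⟨b⟩⟩ := h
  letI := algSect A V
  exact ⟨hV, Module.Free.of_basis b, Module.Finite.of_basis b⟩

variable {d : ℕ} (hA : FlatMod.IsFinLocFreeOfRank d A.toModule)

include hA in
theorem eq_of_resA_isGoodD_eq {W : X.Opens} (s t : A.presheaf.obj (op W))
    (h : ∀ (V : X.Opens) (_ : IsGoodD A d V) (hVW : V ≤ W), resA A hVW s = resA A hVW t) :
    s = t := by
  refine eq_of_res_cover_eq A.toModule (fun V : {V : X.Opens // IsGoodD A d V ∧ V ≤ W} => V.1)
    (fun V => V.2.2) ?_ (ofRing A s) (ofRing A t) (fun V => h V.1 V.2.1 V.2.2)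
  intro x hx
  obtain ⟨V, hV, hxV, hVW⟩ := exists_isGoodD_le A hA W x hx
  exact Opens.mem_iSup.mpr ⟨⟨V, hV, hVW⟩, hxV⟩

/-- the glued trace, as a map to functions -/
noncomputable def trW (W : X.Opens) (a : A.presheaf.obj (op W)) : Γ(X, W) :=
  fromUnit (trSect A (isFinLocFree_of_isFinLocFreeOfRank hA) W (ofRing A a))

theorem trW_add (W : X.Opens) (a b : A.presheaf.obj (op W)) :
    trW A hA W (a + b) = trW A hA W a + trW A hA W b :=
  congrArg fromUnit (trSect_add A (isFinLocFree_of_isFinLocFreeOfRank hA) W (ofRing A a)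
    (ofRing A b))

theorem trW_res {W W' : X.Opens} (h : W' ≤ W) (a : A.presheaf.obj (op W)) :
    trW A hA W' (resA A h a) = resO h (trW A hA W a) :=
  congrArg fromUnit (trSect_res A (isFinLocFree_of_isFinLocFreeOfRank hA) h (ofRing A a))

theorem trW_str (W : X.Opens) (g : Γ(X, W)) :
    trW A hA W ((A.str.app (op W)).hom g) = (d : Γ(X, W)) * g :=
  congrArg fromUnit (trace_str A hA (isTrace_traceHom A (isFinLocFree_of_isFinLocFreeOfRank hA))
    W g)

theorem trW_eq_trace {V : X.Opens} (hV : IsGoodD A d V) (a : A.presheaf.obj (op V)) :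
    trW A hA V a = (letI := algSect A V; Algebra.trace Γ(X, V) (A.presheaf.obj (op V)) a) := by
  obtain ⟨h1, h2, h3⟩ := isGood_of_isGoodD A hV
  exact congrArg fromUnit
    (isTrace_traceHom A (isFinLocFree_of_isFinLocFreeOfRank hA) V h1 h2 h3 (ofRing A a))

/-- the conjugation `a ↦ tr(a) - a` on sections -/
noncomputable def conjW (W : X.Opens) (a : A.presheaf.obj (op W)) : A.presheaf.obj (op W) :=
  (A.str.app (op W)).hom (trW A hA W a) - a

theorem conjW_add (W : X.Opens) (a b : A.presheaf.obj (op W)) :
    conjW A hA W (a + b) = conjW A hA W a + conjW A hA W b := by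
  unfold conjW
  rw [trW_add, map_add]
  ring

theorem conjW_res {W W' : X.Opens} (h : W' ≤ W) (a : A.presheaf.obj (op W)) :
    conjW A hA W' (resA A h a) = resA A h (conjW A hA W a) := by
  unfold conjW
  rw [trW_res, map_sub]
  congr 1
  exact congr_arg (fun ψ => ψ.hom (trW A hA W a)) (A.str.naturality (homOfLE h).op)

theorem conjW_str (hd : d = 2) (W : X.Opens) (g : Γ(X, W)) :
    conjW A hA W ((A.str.app (op W)).hom g) = (A.str.app (op W)).hom g := by
  unfold conjW
  subst hd
  rw [trW_str, map_mul, map_natCast]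
  push_cast
  ring

theorem conjW_one (hd : d = 2) (W : X.Opens) : conjW A hA W 1 = 1 := by
  have := conjW_str A hA hd W 1
  rwa [map_one] at this

theorem conjW_conjW (hd : d = 2) (W : X.Opens) (a : A.presheaf.obj (op W)) :
    conjW A hA W (conjW A hA W a) = a := by
  have h1 : conjW A hA W ((A.str.app (op W)).hom (trW A hA W a) - a) =
      conjW A hA W ((A.str.app (op W)).hom (trW A hA W a)) - conjW A hA W a := by
    have := conjW_add A hA W ((A.str.app (op W)).hom (trW A hA W a) - a) a
    rw [sub_add_cancel] at this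
    rw [this, add_sub_cancel_right]
  have h2 : conjW A hA W (conjW A hA W a) = conjW A hA W ((A.str.app (op W)).hom (trW A hA W a) - a) :=
    rfl
  rw [h2, h1, conjW_str A hA hd]
  unfold conjW
  ring

theorem conjW_mul (hd : d = 2) (W : X.Opens) (a b : A.presheaf.obj (op W)) :
    conjW A hA W (a * b) = conjW A hA W a * conjW A hA W b := by
  refine eq_of_resA_isGoodD_eq A hA _ _ fun V hV hVW => ?_
  rw [map_mul, ← conjW_res, ← conjW_res, ← conjW_res, map_mul]
  unfold conjW
  rw [trW_eq_trace A hA hV, trW_eq_trace A hA hV, trW_eq_trace A hA hV]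
  subst hd
  obtain ⟨-, ⟨bs⟩⟩ := hV
  letI := algSect A V
  exact conj_mul bs _ _

/-- the conjugation as a ring homomorphism -/
noncomputable def conjHom (hd : d = 2) (W : X.Opens) :
    A.presheaf.obj (op W) →+* A.presheaf.obj (op W) where
  toFun := conjW A hA W
  map_one' := conjW_one A hA hd W
  map_mul' := conjW_mul A hA hd W
  map_zero' := by
    have := conjW_add A hA W 0 0
    rw [add_zero] at this
    exact left_eq_add.mp this
  map_add' := conjW_add A hA W

/-- the conjugation as an endomorphism of the presheaf of rings -/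
noncomputable def conjNat (hd : d = 2) : A.presheaf ⟶ A.presheaf where
  app W := CommRingCat.ofHom (conjHom A hA hd W.unop)
  naturality W W' i := by
    ext a
    exact conjW_res A hA (leOfHom i.unop) a

/-- the conjugation as an endomorphism of the quasi-coherent algebra -/
noncomputable def conjAlg (hd : d = 2) : A ⟶ A :=
  ⟨conjNat A hA hd, by
    ext W g
    exact conjW_str A hA hd W g⟩

theorem conjNat_app_apply (hd : d = 2) (W : X.Opens) (a : A.presheaf.obj (op W)) :
    ((conjNat A hA hd).app (op W)).hom a = conjW A hA W a := rfl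

theorem conjNat_comp (hd : d = 2) : conjNat A hA hd ≫ conjNat A hA hd = 𝟙 _ := by
  ext W a
  exact conjW_conjW A hA hd W a

/-- fixed sections of the conjugation come from functions when `2` is invertible -/
theorem conjW_eq_self (hd : d = 2) (W : X.Opens) (half : Γ(X, W)) (hhalf : 2 * half = 1)
    (a : A.presheaf.obj (op W)) (h : conjW A hA W a = a) :
    a = (A.str.app (op W)).hom (half * trW A hA W a) := by
  unfold conjW at h
  have h1 : (A.str.app (op W)).hom (trW A hA W a) = 2 * a := by
    rw [two_mul]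
    exact sub_eq_iff_eq_add.mp h
  rw [map_mul, h1, ← mul_assoc]
  have : (A.str.app (op W)).hom half * 2 = 1 := by
    have := congrArg (A.str.app (op W)).hom hhalf
    rw [map_mul, map_ofNat, map_one] at this
    rw [mul_comm]
    exact this
  rw [this, one_mul]

include hA in
theorem str_injective (hd : d = 2) (W : X.Opens) (half : Γ(X, W)) (hhalf : 2 * half = 1) :
    Function.Injective (A.str.app (op W)).hom := by
  intro g g' h
  have h1 := congrArg (trW A hA W) h
  rw [trW_str, trW_str] at h1
  subst hd
  push_cast at h1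
  calc g = (2 * half) * g := by rw [hhalf, one_mul]
    _ = half * (2 * g) := by ring
    _ = half * (2 * g') := by rw [h1]
    _ = (2 * half) * g' := by ring
    _ = g' := by rw [hhalf, one_mul]

end Conj

end DblInv

end Groth.Agent.Lib.Helper29.QCoh
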