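import Groth.Agent.Lib.Helper29.DblInv1
import Groth.Agent.Lib.Helper3.QCAlgLift3
import Groth.Agent.Lib.Helper3.QCAlgSpecHom
import Groth.Prelude.Def_SGA1
universe u
open CategoryTheory CategoryTheory.Limits AlgebraicGeometry TopologicalSpace Opposite
open RelSpec Groth.Agent.Lib.Helper3

namespace Groth.Agent.Lib.Helper29.QCoh

namespace DblInv

section Ext
variable {X Y : Scheme.{u}} (f : X ⟶ Y)

theorem le_preimage_of_comp {T : Scheme.{u}} {t : T ⟶ Y} {a : T ⟶ X} (ha : a ≫ f = t)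
    (U : Y.Opens) : t ⁻¹ᵁ U ≤ a ⁻¹ᵁ (f ⁻¹ᵁ U) := by
  rw [← Scheme.Hom.comp_preimage, ha]

variable [IsAffineHom f]

/-- Morphisms into `X` over `Y` (with `f : X ⟶ Y` affine) are determined by their action on
sections over preimages of affine opens of `Y`. -/
theorem hom_ext_over {T : Scheme.{u}} (t : T ⟶ Y) (a b : T ⟶ X) (ha : a ≫ f = t)
    (hb : b ≫ f = t)
    (h : ∀ (U : Y.Opens) (_ : IsAffineOpen U),
      a.appLE (f ⁻¹ᵁ U) (t ⁻¹ᵁ U) (le_preimage_of_comp f ha U) =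
        b.appLE (f ⁻¹ᵁ U) (t ⁻¹ᵁ U) (le_preimage_of_comp f hb U)) : a = b := by
  haveI := isIso_canonicalToSpec_of_isAffineHom f
  rw [← cancel_mono (canonicalToSpec f)]
  have ha' : (a ≫ canonicalToSpec f) ≫ (QCAlg.directImage f).π = t := by
    rw [Category.assoc, canonicalToSpec_π, ha]
  have hb' : (b ≫ canonicalToSpec f) ≫ (QCAlg.directImage f).π = t := by
    rw [Category.assoc, canonicalToSpec_π, hb]
  refine QCAlg.spec_hom_ext (QCAlg.directImage f) t _ _ ha' hb' fun U hU => ?_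
  have e₁ : f ⁻¹ᵁ U ≤ canonicalToSpec f ⁻¹ᵁ ((QCAlg.directImage f).π ⁻¹ᵁ U) :=
    (canonicalToSpec_preimage f U).ge
  have h1 := Scheme.Hom.appLE_comp_appLE a (canonicalToSpec f)
    ((QCAlg.directImage f).π ⁻¹ᵁ U) (f ⁻¹ᵁ U) (t ⁻¹ᵁ U) e₁ (le_preimage_of_comp f ha U)
  have h2 := Scheme.Hom.appLE_comp_appLE b (canonicalToSpec f)
    ((QCAlg.directImage f).π ⁻¹ᵁ U) (f ⁻¹ᵁ U) (t ⁻¹ᵁ U) e₁ (le_preimage_of_comp f hb U)
  exact h1.symm.trans ((congrArg _ (h U hU)).trans h2)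

end Ext

section Main
variable {X Y : Scheme.{u}} (f : X ⟶ Y) [IsAffineHom f]

theorem isFinLocFreeOfRank_directImage {d : ℕ}
    (hM : FlatMod.IsFinLocFreeOfRank d ((Scheme.Modules.pushforward f).obj (unitM X))) :
    FlatMod.IsFinLocFreeOfRank d (QCAlg.directImage f).toModule := by
  rw [isFinLocFreeOfRank_iff_exists_affine]
  intro y
  obtain ⟨V, ⟨hV, ⟨b⟩⟩, hyV, -⟩ := directImage_hcov f hM ⊤ y trivial
  refine ⟨V, hV, hyV, ⟨?_⟩⟩
  letI := algSect (QCAlg.directImage f) V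
  have e : Γ((QCAlg.directImage f).toModule, V) ≃ₗ[Γ(Y, V)] (Fin d →₀ Γ(Y, V)) := b.repr
  exact e

variable (hA : FlatMod.IsFinLocFreeOfRank 2 (QCAlg.directImage f).toModule)

/-- the conjugation on `f_* O_X` -/
noncomputable def omega : (QCAlg.directImage f).presheaf ⟶ f.base _* X.presheaf :=
  conjNat (QCAlg.directImage f) hA rfl

theorem str_omega : (QCAlg.directImage f).str ≫ omega f hA = f.c :=
  (conjAlg (QCAlg.directImage f) hA rfl).comm

/-- the involution, as a morphism -/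
noncomputable def sigmaHom : X ⟶ X :=
  haveI := isIso_canonicalToSpec_of_isAffineHom f
  QCAlg.lift (QCAlg.directImage f) f (omega f hA) ≫ inv (canonicalToSpec f)

theorem sigmaHom_comp : sigmaHom f hA ≫ f = f := by
  haveI := isIso_canonicalToSpec_of_isAffineHom f
  unfold sigmaHom
  have h := canonicalToSpec_π f
  have h' : inv (canonicalToSpec f) ≫ f = (QCAlg.directImage f).π := by
    rw [IsIso.inv_comp_eq]
    exact h.symm
  rw [Category.assoc, h']
  exact QCAlg.lift_π _ _ _ (str_omega f hA)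

theorem appLE_comp_of_eq {X₁ X₂ X₃ : Scheme.{u}} (a : X₁ ⟶ X₂) (b : X₂ ⟶ X₃) (g : X₁ ⟶ X₃)
    (hg : a ≫ b = g) (U : X₃.Opens) (V : X₂.Opens) (W : X₁.Opens) (e₁ : V ≤ b ⁻¹ᵁ U)
    (e₂ : W ≤ a ⁻¹ᵁ V) (e₃ : W ≤ g ⁻¹ᵁ U) :
    b.appLE U V e₁ ≫ a.appLE V W e₂ = g.appLE U W e₃ := by
  subst hg
  exact Scheme.Hom.appLE_comp_appLE a b U V W e₁ e₂

theorem appLE_eq_of_eq {X₁ X₂ : Scheme.{u}} (a b : X₁ ⟶ X₂) (h : a = b) (U : X₂.Opens)
    (V : X₁.Opens) (e : V ≤ a ⁻¹ᵁ U) (e' : V ≤ b ⁻¹ᵁ U) : a.appLE U V e = b.appLE U V e' := by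
  subst h
  rfl

theorem sigmaHom_appLE (U : Y.Opens) (hU : IsAffineOpen U) :
    (sigmaHom f hA).appLE (f ⁻¹ᵁ U) (f ⁻¹ᵁ U) (le_preimage_of_comp f (sigmaHom_comp f hA) U) =
      (omega f hA).app (op U) := by
  haveI := isIso_canonicalToSpec_of_isAffineHom f
  have hτ : sigmaHom f hA ≫ canonicalToSpec f =
      QCAlg.lift (QCAlg.directImage f) f (omega f hA) := by
    unfold sigmaHom
    rw [Category.assoc, IsIso.inv_hom_id, Category.comp_id]
  have e₁ : f ⁻¹ᵁ U ≤ canonicalToSpec f ⁻¹ᵁ ((QCAlg.directImage f).π ⁻¹ᵁ U) :=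
    (canonicalToSpec_preimage f U).ge
  have h1 := appLE_comp_of_eq (sigmaHom f hA) (canonicalToSpec f) _ hτ
    ((QCAlg.directImage f).π ⁻¹ᵁ U) (f ⁻¹ᵁ U) (f ⁻¹ᵁ U) e₁
    (le_preimage_of_comp f (sigmaHom_comp f hA) U)
    (QCAlg.le_lift_preimage (QCAlg.directImage f) f (omega f hA) (str_omega f hA) U)
  have h2b := QCAlg.lift_appLE (QCAlg.directImage f) f (omega f hA) (str_omega f hA) U hU
  rw [h2b] at h1
  have hc : canonicalToSpec f =
      QCAlg.lift (QCAlg.directImage f) f (𝟙 (QCAlg.directImage f).presheaf) := rfl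
  have h3 : (canonicalToSpec f).appLE ((QCAlg.directImage f).π ⁻¹ᵁ U) (f ⁻¹ᵁ U) e₁ =
      (QCAlg.directImage f).gammaAff U hU := by
    have h3a := appLE_eq_of_eq _ _ hc ((QCAlg.directImage f).π ⁻¹ᵁ U) (f ⁻¹ᵁ U) e₁
      (QCAlg.le_lift_preimage (QCAlg.directImage f) f (𝟙 (QCAlg.directImage f).presheaf)
        (Category.comp_id _) U)
    have h3b := QCAlg.lift_appLE (QCAlg.directImage f) f (𝟙 (QCAlg.directImage f).presheaf)
      (Category.comp_id _) U hU
    rw [h3b] at h3a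
    exact h3a.trans (Category.comp_id _)
  rw [h3] at h1
  haveI := isIso_gammaAff (QCAlg.directImage f) U hU
  exact (cancel_epi ((QCAlg.directImage f).gammaAff U hU)).mp h1

theorem sigmaHom_sq : sigmaHom f hA ≫ sigmaHom f hA = 𝟙 X := by
  have ha : (sigmaHom f hA ≫ sigmaHom f hA) ≫ f = f := by
    rw [Category.assoc, sigmaHom_comp, sigmaHom_comp]
  refine hom_ext_over f f _ _ ha (Category.id_comp f) fun U hU => ?_
  have h1 := appLE_comp_of_eq (sigmaHom f hA) (sigmaHom f hA) _ rfl (f ⁻¹ᵁ U) (f ⁻¹ᵁ U) (f ⁻¹ᵁ U)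
    (le_preimage_of_comp f (sigmaHom_comp f hA) U) (le_preimage_of_comp f (sigmaHom_comp f hA) U)
    (le_preimage_of_comp f ha U)
  rw [← h1, sigmaHom_appLE f hA U hU, Groth.Agent.Lib.Helper26.FinLocFreeMor.id_appLE le_rfl]
  have h2 : (omega f hA).app (op U) ≫ (omega f hA).app (op U) = 𝟙 _ := by
    have := congrArg (fun φ => φ.app (op U)) (conjNat_comp (QCAlg.directImage f) hA rfl)
    exact this
  exact h2.trans (X.presheaf.map_id _).symm

theorem sigmaHom_appLE_apply (U : Y.Opens) (s : Γ(X, f ⁻¹ᵁ U)) :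
    ((sigmaHom f hA).appLE (f ⁻¹ᵁ U) (f ⁻¹ᵁ U)
      (le_preimage_of_comp f (sigmaHom_comp f hA) U)).hom s =
      conjW (QCAlg.directImage f) hA U s := by
  refine eq_of_resA_isGoodD_eq (QCAlg.directImage f) hA _ _ fun V hV hVU => ?_
  rw [← conjW_res]
  have h1 := Scheme.Hom.appLE_map (sigmaHom f hA)
    (le_preimage_of_comp f (sigmaHom_comp f hA) U) (homOfLE (f.preimage_mono hVU)).op
  have h2 := Scheme.Hom.map_appLE (sigmaHom f hA)
    (le_preimage_of_comp f (sigmaHom_comp f hA) V) (homOfLE (f.preimage_mono hVU)).op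
  have h3 := congrArg (fun ψ => ψ.hom s) (h1.trans h2.symm)
  refine h3.trans ?_
  have h4 := congrArg (fun ψ => ψ.hom (resA (QCAlg.directImage f) hVU s))
    (sigmaHom_appLE f hA V hV.1)
  exact h4

end Main

section Quot
variable {X Y : Scheme.{u}} (f : X ⟶ Y) [IsAffineHom f]
  (hA : FlatMod.IsFinLocFreeOfRank 2 (QCAlg.directImage f).toModule)

/-- the subgroup of automorphisms over `Y` -/
def autOver : Subgroup (Aut X) where
  carrier := {g | g.hom ≫ f = f}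
  mul_mem' := by
    intro a b ha hb
    change (a * b).hom ≫ f = f
    rw [Aut.Aut_mul_def]
    change (b.hom ≫ a.hom) ≫ f = f
    rw [Category.assoc, ha, hb]
  one_mem' := Category.id_comp f
  inv_mem' := by
    intro a ha
    change a⁻¹.hom ≫ f = f
    rw [Aut.Aut_inv_def]
    change a.inv ≫ f = f
    rw [Iso.inv_comp_eq]
    exact ha.symm

theorem isQuot (h2 : IsUnit (2 : Γ(Y, ⊤))) (σ : Aut X) (hσ : σ.hom = sigmaHom f hA) :
    SGA1.IsQuot (Subgroup.zpowers σ).subtype f := by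
  have hinv : ∀ g : Subgroup.zpowers σ, ((Subgroup.zpowers σ).subtype g).hom ≫ f = f := by
    intro g
    have hle : Subgroup.zpowers σ ≤ autOver f := by
      rw [Subgroup.zpowers_le]
      change σ.hom ≫ f = f
      rw [hσ]
      exact sigmaHom_comp f hA
    exact hle g.2
  have hhalf : ∀ U : Y.Opens, ∃ half : Γ(Y, U), 2 * half = 1 := by
    intro U
    obtain ⟨u, hu⟩ := isUnit_two_res h2 U
    exact ⟨↑u⁻¹, by rw [← hu]; exact u.mul_inv⟩
  refine ⟨inferInstance, hinv, ?_, ?_⟩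
  · intro U
    obtain ⟨half, hh⟩ := hhalf U
    exact str_injective (QCAlg.directImage f) hA rfl U half hh
  · intro U s
    constructor
    · rintro ⟨a, rfl⟩ g
      have h1 := appLE_comp_of_eq ((Subgroup.zpowers σ).subtype g).hom f f (hinv g) U (f ⁻¹ᵁ U)
        (f ⁻¹ᵁ U) le_rfl (SGA1.preimage_le_of_inv (Subgroup.zpowers σ).subtype f hinv g U) le_rfl
      rw [Scheme.Hom.appLE_eq_app] at h1
      exact congrArg (fun ψ => ψ.hom a) h1
    · intro h
      obtain ⟨half, hh⟩ := hhalf U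
      have h1 := h ⟨σ, Subgroup.mem_zpowers σ⟩
      have h3 : (σ.hom.appLE (f ⁻¹ᵁ U) (f ⁻¹ᵁ U)
          (SGA1.preimage_le_of_inv (Subgroup.zpowers σ).subtype f hinv
            ⟨σ, Subgroup.mem_zpowers σ⟩ U)) =
          (sigmaHom f hA).appLE (f ⁻¹ᵁ U) (f ⁻¹ᵁ U)
            (le_preimage_of_comp f (sigmaHom_comp f hA) U) :=
        appLE_eq_of_eq _ _ hσ _ _ _ _
      have h4 : conjW (QCAlg.directImage f) hA U s = s := by
        rw [← sigmaHom_appLE_apply f hA U s, ← h3]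
        exact h1
      exact ⟨half * trW (QCAlg.directImage f) hA U s,
        (conjW_eq_self (QCAlg.directImage f) hA rfl U half hh s h4).symm⟩

end Quot

theorem exists_involution {X Y : Scheme.{u}} (f : X ⟶ Y)
    [IsFinite f] [Flat f] [LocallyOfFinitePresentation f] (hrk : ∀ y : Y, f.finrank y = 2)
    (h2 : IsUnit (2 : Γ(Y, ⊤))) :
    ∃ σ : Aut X, σ.hom ≫ f = f ∧ σ * σ = 1 ∧ SGA1.IsQuot (Subgroup.zpowers σ).subtype f := by
  have hcov : FinCov.IsCover f 2 := ⟨⟨inferInstance, inferInstance, inferInstance⟩, hrk⟩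
  obtain ⟨haff, hM⟩ := (isCover_iff f 2).mp hcov
  have hA := isFinLocFreeOfRank_directImage f hM
  let σ : Aut X :=
    { hom := sigmaHom f hA
      inv := sigmaHom f hA
      hom_inv_id := sigmaHom_sq f hA
      inv_hom_id := sigmaHom_sq f hA }
  refine ⟨σ, sigmaHom_comp f hA, ?_, isQuot f hA h2 σ rfl⟩
  rw [Aut.Aut_mul_def]
  apply Iso.ext
  exact sigmaHom_sq f hA

end DblInv

end Groth.Agent.Lib.Helper29.QCoh
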