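import Groth.Agent.Lib.Helper18.CM2
set_option autoImplicit false
universe u
open IsLocalRing Pointwise

namespace Groth.Agent.Lib.Helper29.Depth1
open Groth.Agent.Lib.Helper18.CM

/-- Local form: if `b ∈ 𝔪` is regular, `c ∉ bA` and `𝔪 c ⊆ bA`, then `depth A = 1`. -/
theorem depth_eq_one_of_colon {A : Type u} [CommRing A] [IsLocalRing A] [IsNoetherianRing A]
    (b c : A) (hb : IsSMulRegular A b) (hbm : b ∈ maximalIdeal A)
    (hc : c ∉ Ideal.span {b}) (hmc : ∀ r ∈ maximalIdeal A, r * c ∈ Ideal.span {b}) :
    LocCoh.depth A A = 1 := by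
  have h1 := depth_quotSMulTop A hbm hb
  have hmem : ∀ t : A, t ∈ b • (⊤ : Submodule A A) ↔ t ∈ Ideal.span {b} := by
    intro t
    rw [Submodule.mem_smul_pointwise_iff_exists, Ideal.mem_span_singleton']
    constructor
    · rintro ⟨y, -, rfl⟩
      exact ⟨y, by rw [smul_eq_mul, mul_comm]⟩
    · rintro ⟨y, rfl⟩
      exact ⟨y, trivial, by rw [smul_eq_mul, mul_comm]⟩
  have h2 : LocCoh.depth A (QuotSMulTop b A) = 0 := by
    rw [depth_eq_zero_iff]
    refine ⟨inferInstance, Submodule.Quotient.mk c, ?_⟩
    have hcol : (⊥ : Submodule A (QuotSMulTop b A)).colon {Submodule.Quotient.mk c} =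
        maximalIdeal A := by
      have hle : maximalIdeal A ≤
          (⊥ : Submodule A (QuotSMulTop b A)).colon {Submodule.Quotient.mk c} := by
        intro r hr
        rw [Submodule.mem_colon_singleton, Submodule.mem_bot, ← Submodule.Quotient.mk_smul,
          Submodule.Quotient.mk_eq_zero, hmem]
        exact hmc r hr
      refine ((IsLocalRing.maximalIdeal.isMaximal A).eq_of_le ?_ hle).symm
      intro htop
      have h1 : (1 : A) ∈ (⊥ : Submodule A (QuotSMulTop b A)).colon {Submodule.Quotient.mk c} := by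
        rw [htop]; trivial
      rw [Submodule.mem_colon_singleton, Submodule.mem_bot, one_smul,
        Submodule.Quotient.mk_eq_zero, hmem] at h1
      exact hc h1
    rw [hcol]
    exact (Ideal.IsPrime.radical inferInstance).symm
  rw [← h1, h2, zero_add]

end Groth.Agent.Lib.Helper29.Depth1
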