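import Groth.Agent.Lib.Helper29.Depth1A
set_option autoImplicit false
universe u
open IsLocalRing Pointwise

namespace Groth.Agent.Lib.Helper29.Depth1
open Groth.Agent.Lib.Helper18.CM

/-- Global form: for `b` a nonzerodivisor of a Noetherian ring `R` and `q` a minimal prime over
`(bR : a)`, the localisation of `R` at `q` has depth one. -/
theorem depth_eq_one_of_mem_minimalPrimes_colon {R : Type u} [CommRing R] [IsNoetherianRing R]
    (a b : R) (hb : b ∈ nonZeroDivisors R) (q : Ideal R) [hq : q.IsPrime]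
    (hmin : q ∈ ((Ideal.span {b} : Ideal R).colon {a}).minimalPrimes)
    (A : Type u) [CommRing A] [IsLocalRing A] [Algebra R A] [IsLocalization.AtPrime A q] :
    LocCoh.depth A A = 1 := by
  haveI : IsNoetherianRing A := IsLocalization.isNoetherianRing q.primeCompl A inferInstance
  obtain ⟨c, hc⟩ := Submodule.exists_eq_colon_of_mem_minimalPrimes hmin
  have hmemq : ∀ r : R, r ∈ q ↔ ∃ t : R, r * c = b * t := by
    intro r
    rw [hc, Submodule.mem_colon_singleton, Ideal.mem_span_singleton']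
    constructor
    · rintro ⟨t, ht⟩; exact ⟨t, by rw [smul_eq_mul] at ht; rw [← ht, mul_comm]⟩
    · rintro ⟨t, ht⟩; exact ⟨t, by rw [smul_eq_mul, ht, mul_comm]⟩
  have hbq : b ∈ q := (hmemq b).mpr ⟨c, rfl⟩
  apply depth_eq_one_of_colon (algebraMap R A b) (algebraMap R A c)
  · -- regular
    intro x y hxy
    rw [← sub_eq_zero]
    have h0 : algebraMap R A b * (x - y) = 0 := by
      rw [mul_sub, sub_eq_zero]; exact hxy
    obtain ⟨r, s, hrs⟩ := IsLocalization.exists_mk'_eq q.primeCompl (x - y)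
    rw [← hrs, ← IsLocalization.mk'_one (M := q.primeCompl) A b, ← IsLocalization.mk'_mul,
      IsLocalization.mk'_eq_zero_iff] at h0
    obtain ⟨m, hm⟩ := h0
    have h1 : b * (m.1 * r) = 0 := by rw [← hm]; ring
    have h2 : m.1 * r = 0 := by
      rw [mul_comm] at h1
      exact (mem_nonZeroDivisors_iff_right.mp hb) _ h1
    rw [← hrs, IsLocalization.mk'_eq_zero_iff]
    exact ⟨m, h2⟩
  · exact (IsLocalization.AtPrime.to_map_mem_maximal_iff A q b).mpr hbq
  · -- `c ∉ bA`
    intro hcb
    rw [Ideal.mem_span_singleton'] at hcb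
    obtain ⟨y, hy⟩ := hcb
    obtain ⟨t, s, hts⟩ := IsLocalization.exists_mk'_eq q.primeCompl y
    rw [← hts] at hy
    have h1 : algebraMap R A (t * b) = algebraMap R A (s.1 * c) := by
      rw [map_mul, map_mul, ← hy]
      rw [show algebraMap R A s.1 * (IsLocalization.mk' A t s * algebraMap R A b) =
        (IsLocalization.mk' A t s * algebraMap R A s.1) * algebraMap R A b by ring,
        IsLocalization.mk'_spec]
    obtain ⟨u, hu⟩ := (IsLocalization.eq_iff_exists q.primeCompl A).mp h1
    have h2 : u.1 * s.1 ∈ q := (hmemq _).mpr ⟨u.1 * t, by rw [mul_assoc, ← hu]; ring⟩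
    rcases hq.mem_or_mem h2 with h | h
    · exact u.2 h
    · exact s.2 h
  · -- `𝔪 c ⊆ bA`
    intro r hr
    obtain ⟨r₀, s, hrs⟩ := IsLocalization.exists_mk'_eq q.primeCompl r
    rw [← hrs] at hr ⊢
    have hr₀ : r₀ ∈ q := (IsLocalization.AtPrime.mk'_mem_maximal_iff A q r₀ s).mp hr
    obtain ⟨t, ht⟩ := (hmemq r₀).mp hr₀
    rw [Ideal.mem_span_singleton']
    refine ⟨IsLocalization.mk' A t s, ?_⟩
    rw [← IsLocalization.mk'_one (M := q.primeCompl) A b, ← IsLocalization.mk'_one (M := q.primeCompl) A c,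
      ← IsLocalization.mk'_mul, ← IsLocalization.mk'_mul, IsLocalization.mk'_eq_iff_eq]
    rw [ht, mul_comm t b]

end Groth.Agent.Lib.Helper29.Depth1
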