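import Groth.Agent.Lib.Helper29.Depth1B
import Groth.Agent.Lib.Helper29.QCohAss
set_option autoImplicit false
universe u
open CategoryTheory AlgebraicGeometry TopologicalSpace Opposite IsLocalRing

namespace Groth.Agent.Lib.Helper29.Depth1
open Groth.Agent.Lib.Helper29.QCoh

variable {X : Scheme.{u}}

theorem germ_mem_span_iff {W : X.Opens} (hW : IsAffineOpen W) (a b : Γ(X, W)) (y : X)
    (hy : y ∈ W) :
    X.presheaf.germ W y hy a ∈ Ideal.span {X.presheaf.germ W y hy b} ↔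
      ¬ ((Ideal.span {b} : Ideal Γ(X, W)).colon {a} ≤ (hW.primeIdealOf ⟨y, hy⟩).asIdeal) := by
  let _ : Algebra Γ(X, W) (X.presheaf.stalk y) :=
    TopCat.Presheaf.algebra_section_stalk X.presheaf ⟨y, hy⟩
  have hloc := hW.isLocalization_stalk ⟨y, hy⟩
  set p := (hW.primeIdealOf ⟨y, hy⟩).asIdeal with hp
  have hpp : p.IsPrime := (hW.primeIdealOf ⟨y, hy⟩).isPrime
  have halg : ∀ r : Γ(X, W), X.presheaf.germ W y hy r =
      algebraMap Γ(X, W) (X.presheaf.stalk y) r := fun r => rfl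
  rw [halg a, halg b]
  constructor
  · intro h hle
    rw [Ideal.mem_span_singleton'] at h
    obtain ⟨z, hz⟩ := h
    obtain ⟨t, s, hts⟩ := IsLocalization.exists_mk'_eq p.primeCompl z
    have h1 : algebraMap Γ(X, W) (X.presheaf.stalk y) (s.1 * a) =
        algebraMap Γ(X, W) (X.presheaf.stalk y) (t * b) := by
      rw [map_mul, map_mul, ← hz, ← hts]
      rw [show algebraMap Γ(X, W) (X.presheaf.stalk y) s.1 *
          (IsLocalization.mk' (X.presheaf.stalk y) t s *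
            algebraMap Γ(X, W) (X.presheaf.stalk y) b) =
          (IsLocalization.mk' (X.presheaf.stalk y) t s *
            algebraMap Γ(X, W) (X.presheaf.stalk y) s.1) *
            algebraMap Γ(X, W) (X.presheaf.stalk y) b by ring, IsLocalization.mk'_spec]
    obtain ⟨u, hu⟩ := (IsLocalization.eq_iff_exists p.primeCompl (X.presheaf.stalk y)).mp h1
    have h2 : u.1 * s.1 ∈ (Ideal.span {b} : Ideal Γ(X, W)).colon {a} := by
      rw [Submodule.mem_colon_singleton, smul_eq_mul, Ideal.mem_span_singleton']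
      exact ⟨u.1 * t, by rw [mul_assoc, ← hu]; ring⟩
    rcases hpp.mem_or_mem (hle h2) with h | h
    · exact u.2 h
    · exact s.2 h
  · intro h
    obtain ⟨r, hr, hrp⟩ := Set.not_subset.mp h
    rw [SetLike.mem_coe, Submodule.mem_colon_singleton, smul_eq_mul,
      Ideal.mem_span_singleton'] at hr
    obtain ⟨t, ht⟩ := hr
    have hu : IsUnit (algebraMap Γ(X, W) (X.presheaf.stalk y) r) :=
      IsLocalization.map_units _ (⟨r, hrp⟩ : p.primeCompl)
    obtain ⟨v, hv⟩ := hu.exists_left_inv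
    rw [Ideal.mem_span_singleton']
    refine ⟨v * algebraMap Γ(X, W) (X.presheaf.stalk y) t, ?_⟩
    rw [mul_assoc, ← map_mul, ht, map_mul, ← mul_assoc, hv, one_mul]

theorem depth_stalk_eq_one [IsLocallyNoetherian X] {W : X.Opens} (hW : IsAffineOpen W)
    (a b : Γ(X, W)) (hb : b ∈ nonZeroDivisors Γ(X, W)) (y : X) (hy : y ∈ W)
    (hmin : (hW.primeIdealOf ⟨y, hy⟩).asIdeal ∈
      ((Ideal.span {b} : Ideal Γ(X, W)).colon {a}).minimalPrimes) :
    LocCoh.depth (X.presheaf.stalk y) (X.presheaf.stalk y) = 1 := by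
  let _ : Algebra Γ(X, W) (X.presheaf.stalk y) :=
    TopCat.Presheaf.algebra_section_stalk X.presheaf ⟨y, hy⟩
  haveI hloc := hW.isLocalization_stalk ⟨y, hy⟩
  haveI : IsNoetherianRing Γ(X, W) := IsLocallyNoetherian.component_noetherian ⟨W, hW⟩
  haveI : (hW.primeIdealOf ⟨y, hy⟩).asIdeal.IsPrime := (hW.primeIdealOf ⟨y, hy⟩).isPrime
  exact depth_eq_one_of_mem_minimalPrimes_colon a b hb _ hmin (X.presheaf.stalk y)

/-- A local description of "effective at" and "trivial at" predicates by a fraction `a / b`. -/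
def HasLocalRep (eff triv : X → Prop) (x : X) : Prop :=
  ∃ (W : X.Opens) (_ : IsAffineOpen W) (_ : x ∈ W) (a b : Γ(X, W)),
    a ∈ nonZeroDivisors Γ(X, W) ∧ b ∈ nonZeroDivisors Γ(X, W) ∧
    ∀ (y : X) (hy : y ∈ W),
      (eff y ↔ X.presheaf.germ W y hy a ∈ Ideal.span {X.presheaf.germ W y hy b}) ∧
      (triv y ↔ (X.presheaf.germ W y hy a ∈ Ideal.span {X.presheaf.germ W y hy b} ∧
        X.presheaf.germ W y hy b ∈ Ideal.span {X.presheaf.germ W y hy a}))

theorem eff_of_depth_one [IsLocallyNoetherian X] {eff triv : X → Prop} (x : X)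
    (h : HasLocalRep eff triv x)
    (hd : ∀ y : X, LocCoh.depth (X.presheaf.stalk y) (X.presheaf.stalk y) = 1 → eff y) :
    eff x := by
  obtain ⟨W, hW, hxW, a, b, ha, hb, hrep⟩ := h
  by_contra hne
  have h1 : (Ideal.span {b} : Ideal Γ(X, W)).colon {a} ≤ (hW.primeIdealOf ⟨x, hxW⟩).asIdeal := by
    by_contra hle
    exact hne ((hrep x hxW).1.mpr ((germ_mem_span_iff hW a b x hxW).mpr hle))
  haveI : (hW.primeIdealOf ⟨x, hxW⟩).asIdeal.IsPrime := (hW.primeIdealOf ⟨x, hxW⟩).isPrime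
  obtain ⟨q, hqmin, hqle⟩ := Ideal.exists_minimalPrimes_le h1
  obtain ⟨y, hyW, hy⟩ := exists_point_of_prime' hW ⟨q, hqmin.1.1⟩
  have hyq : (hW.primeIdealOf ⟨y, hyW⟩).asIdeal = q := by rw [hy]
  have hdepth := depth_stalk_eq_one hW a b hb y hyW (hyq ▸ hqmin)
  have h2 := (hrep y hyW).1.mp (hd y hdepth)
  have h3 := (germ_mem_span_iff hW a b y hyW).mp h2
  apply h3
  rw [hyq]
  exact hqmin.1.2

theorem specializes_of_primeIdealOf_le {W : X.Opens} (hW : IsAffineOpen W) (z x : X)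
    (hz : z ∈ W) (hx : x ∈ W)
    (hle : (hW.primeIdealOf ⟨z, hz⟩).asIdeal ≤ (hW.primeIdealOf ⟨x, hx⟩).asIdeal) : z ⤳ x := by
  have h1 : hW.primeIdealOf ⟨z, hz⟩ ⤳ hW.primeIdealOf ⟨x, hx⟩ :=
    (PrimeSpectrum.le_iff_specializes _ _).mp hle
  have h2 := h1.map hW.fromSpec.base.hom.continuous
  have e1 : hW.fromSpec.base (hW.primeIdealOf ⟨z, hz⟩) = z := hW.fromSpec_primeIdealOf ⟨z, hz⟩
  have e2 : hW.fromSpec.base (hW.primeIdealOf ⟨x, hx⟩) = x := hW.fromSpec_primeIdealOf ⟨x, hx⟩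
  rw [← e1, ← e2]
  exact h2

theorem depth_eq_one_of_maximal_aux [IsLocallyNoetherian X] {W : X.Opens} (hW : IsAffineOpen W)
    (a b : Γ(X, W)) (hb : b ∈ nonZeroDivisors Γ(X, W)) (x : X) (hxW : x ∈ W)
    (hx : X.presheaf.germ W x hxW a ∉ Ideal.span {X.presheaf.germ W x hxW b})
    (hz : ∀ (z : X) (hzW : z ∈ W), z ⤳ x → z ≠ x →
      X.presheaf.germ W z hzW a ∈ Ideal.span {X.presheaf.germ W z hzW b}) :
    LocCoh.depth (X.presheaf.stalk x) (X.presheaf.stalk x) = 1 := by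
  apply depth_stalk_eq_one hW a b hb x hxW
  have h1 : (Ideal.span {b} : Ideal Γ(X, W)).colon {a} ≤ (hW.primeIdealOf ⟨x, hxW⟩).asIdeal := by
    by_contra hle
    exact hx ((germ_mem_span_iff hW a b x hxW).mpr hle)
  refine ⟨⟨(hW.primeIdealOf ⟨x, hxW⟩).isPrime, h1⟩, ?_⟩
  rintro q' ⟨hq'p, hq'le⟩ hq'x
  obtain ⟨z, hzW, hzq⟩ := exists_point_of_prime' hW ⟨q', hq'p⟩
  have hzq' : (hW.primeIdealOf ⟨z, hzW⟩).asIdeal = q' := by rw [hzq]
  have hspec : z ⤳ x := specializes_of_primeIdealOf_le hW z x hzW hxW (hzq' ▸ hq'x)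
  by_cases hzx : z = x
  · subst hzx
    rw [← hzq']
  · exfalso
    have h2 := hz z hzW hspec hzx
    have h3 := (germ_mem_span_iff hW a b z hzW).mp h2
    apply h3
    rw [hzq']
    exact hq'le

theorem depth_eq_one_of_maximal [IsLocallyNoetherian X] {eff triv : X → Prop} (x : X)
    (h : HasLocalRep eff triv x) (hx : ¬ triv x)
    (hmax : ∀ z : X, ¬ triv z → z ⤳ x → z = x) :
    LocCoh.depth (X.presheaf.stalk x) (X.presheaf.stalk x) = 1 := by
  obtain ⟨W, hW, hxW, a, b, ha, hb, hrep⟩ := h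
  have htriv : ∀ (z : X) (hzW : z ∈ W), z ⤳ x → z ≠ x →
      (X.presheaf.germ W z hzW a ∈ Ideal.span {X.presheaf.germ W z hzW b} ∧
        X.presheaf.germ W z hzW b ∈ Ideal.span {X.presheaf.germ W z hzW a}) := by
    intro z hzW hspec hne
    apply (hrep z hzW).2.mp
    by_contra hnt
    exact hne (hmax z hnt hspec)
  have hnot := fun hh => hx ((hrep x hxW).2.mpr hh)
  by_cases h1 : X.presheaf.germ W x hxW a ∈ Ideal.span {X.presheaf.germ W x hxW b}
  · have h2 : X.presheaf.germ W x hxW b ∉ Ideal.span {X.presheaf.germ W x hxW a} :=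
      fun h2 => hnot ⟨h1, h2⟩
    exact depth_eq_one_of_maximal_aux hW b a ha x hxW h2
      (fun z hzW hs hne => (htriv z hzW hs hne).2)
  · exact depth_eq_one_of_maximal_aux hW a b hb x hxW h1
      (fun z hzW hs hne => (htriv z hzW hs hne).1)

theorem germ_mem_span_of_depth_one [IsLocallyNoetherian X] {W : X.Opens} (hW : IsAffineOpen W)
    (a b : Γ(X, W)) (hb : b ∈ nonZeroDivisors Γ(X, W)) (x : X) (hxW : x ∈ W)
    (hd : ∀ (y : X) (hy : y ∈ W), LocCoh.depth (X.presheaf.stalk y) (X.presheaf.stalk y) = 1 →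
      X.presheaf.germ W y hy a ∈ Ideal.span {X.presheaf.germ W y hy b}) :
    X.presheaf.germ W x hxW a ∈ Ideal.span {X.presheaf.germ W x hxW b} := by
  by_contra hne
  have h1 : (Ideal.span {b} : Ideal Γ(X, W)).colon {a} ≤ (hW.primeIdealOf ⟨x, hxW⟩).asIdeal := by
    by_contra hle
    exact hne ((germ_mem_span_iff hW a b x hxW).mpr hle)
  haveI : (hW.primeIdealOf ⟨x, hxW⟩).asIdeal.IsPrime := (hW.primeIdealOf ⟨x, hxW⟩).isPrime
  obtain ⟨q, hqmin, hqle⟩ := Ideal.exists_minimalPrimes_le h1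
  obtain ⟨y, hyW, hy⟩ := exists_point_of_prime' hW ⟨q, hqmin.1.1⟩
  have hyq : (hW.primeIdealOf ⟨y, hyW⟩).asIdeal = q := by rw [hy]
  have hdepth := depth_stalk_eq_one hW a b hb y hyW (hyq ▸ hqmin)
  have h3 := (germ_mem_span_iff hW a b y hyW).mp (hd y hyW hdepth)
  apply h3
  rw [hyq]
  exact hqmin.1.2

theorem triv_of_depth_one [IsLocallyNoetherian X] {eff triv : X → Prop} (x : X)
    (h : HasLocalRep eff triv x)
    (hd : ∀ y : X, LocCoh.depth (X.presheaf.stalk y) (X.presheaf.stalk y) = 1 → triv y) :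
    triv x := by
  obtain ⟨W, hW, hxW, a, b, ha, hb, hrep⟩ := h
  refine (hrep x hxW).2.mpr ⟨?_, ?_⟩
  · exact germ_mem_span_of_depth_one hW a b hb x hxW
      (fun y hy hdep => ((hrep y hy).2.mp (hd y hdep)).1)
  · exact germ_mem_span_of_depth_one hW b a ha x hxW
      (fun y hy hdep => ((hrep y hy).2.mp (hd y hdep)).2)

end Groth.Agent.Lib.Helper29.Depth1
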