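import Groth.Agent.Lib.Helper29.Punct3
import Groth.Agent.Lib.Helper29.QCohPush
universe u
open CategoryTheory CategoryTheory.Limits AlgebraicGeometry TopologicalSpace Opposite

/-! # Descending invertible modules along finite morphisms which are isomorphisms generically -/

namespace Groth.Agent.Lib.Helper29.Desc
open Groth.Agent.Lib.Helper29.QCoh Groth.Agent.Lib.Helper29.QCoh.Glue Groth.Agent.Lib.Helper29.Punct

variable {X Y : Scheme.{u}}

/-- A module on `Y` and a module on `X` with trivialisations over a cover of `Y` (resp. its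
preimage) whose transition functions correspond under `f` : the pullback is the module on `X`. -/
theorem exists_pullback_iso (f : X ⟶ Y) (N : Y.Modules) (L : X.Modules) {ι : Type*}
    (V : ι → Y.Opens) (hcov : ∀ y : Y, ∃ i, y ∈ V i)
    (e : ∀ i, Γ(N, V i)) (he : ∀ i, IsTriv N (V i) (e i))
    (s : ∀ i, Γ(L, f ⁻¹ᵁ V i)) (hs : ∀ i, IsTriv L (f ⁻¹ᵁ V i) (s i))
    (htr : ∀ i j, ∃ g : Γ(Y, V i ⊓ V j),
      res N inf_le_left (e i) = g • res N inf_le_right (e j) ∧
      res L (f.preimage_mono inf_le_left) (s i) =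
        f.app (V i ⊓ V j) g • res L (f.preimage_mono inf_le_right) (s j)) :
    Nonempty ((Scheme.Modules.pullback f).obj N ≅ L) := by
  obtain ⟨φ, -⟩ := exists_iso_of_cocycle (M := (Scheme.Modules.pullback f).obj N) (N := L)
    (U := fun i => f ⁻¹ᵁ V i) (m := fun i => pullSect f N (V i) (e i)) (n := s)
    (fun x => hcov (f x)) (fun i => (he i).pullSect f) hs (fun i j => by
      obtain ⟨g, hg1, hg2⟩ := htr i j
      refine ⟨f.app (V i ⊓ V j) g, ?_, hg2⟩
      have := congrArg (pullSect f N (V i ⊓ V j)) hg1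
      rw [pullSect_res, pullSect_smul, pullSect_res] at this
      exact this)
  exact ⟨φ⟩

theorem isTriv_pushforward (f : X ⟶ Y) (L : X.Modules) {W : Y.Opens}
    (hbij : ∀ W' : Y.Opens, W' ≤ W → Function.Bijective (f.app W'))
    (s : Γ(L, f ⁻¹ᵁ W)) (hs : IsTriv L (f ⁻¹ᵁ W) s) :
    IsTriv ((Scheme.Modules.pushforward f).obj L) W
      (show Γ((Scheme.Modules.pushforward f).obj L, W) from s) := by
  intro W' hW'
  have h1 := hs (f ⁻¹ᵁ W') (f.preimage_mono hW')
  exact h1.comp (hbij W' hW')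

theorem app_bijective_of_isIso_morphismRestrict (f : X ⟶ Y) (V : Y.Opens) (hV : IsIso (f ∣_ V))
    (W' : Y.Opens) (hW' : W' ≤ V) : Function.Bijective (f.app W') := by
  have e : V.ι ''ᵁ (V.ι ⁻¹ᵁ W') = W' := by
    rw [Scheme.Hom.image_preimage_eq_opensRange_inf, Scheme.Opens.opensRange_ι]
    exact inf_eq_right.mpr hW'
  have h1 : IsIso ((f ∣_ V).app (V.ι ⁻¹ᵁ W')) := inferInstance
  rw [morphismRestrict_app] at h1
  have h2 : IsIso (f.app (V.ι ''ᵁ (V.ι ⁻¹ᵁ W'))) := by
    have h4 : IsIso (X.presheaf.map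
        (eqToHom (image_morphismRestrict_preimage f V (V.ι ⁻¹ᵁ W'))).op) := by
      rw [eqToHom_op, eqToHom_map]; infer_instance
    exact @IsIso.of_isIso_comp_right _ _ _ _ _ _ _ h4 h1
  rw [e] at h2
  exact ConcreteCategory.bijective_of_isIso (f.app W')

/-- **Stacks 0C0Q-type**: if `f` is finite and an isomorphism over an open `V` with discrete
complement, every invertible module on `X` is a pullback. -/
theorem exists_descent_of_isIso (f : X ⟶ Y) [IsFinite f] (V : Y.Opens) (hV : IsIso (f ∣_ V))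
    (hdisc : DiscreteTopology ↥((V : Set Y)ᶜ)) (L : X.Modules) (hL : PicF.IsInvertible L) :
    ∃ N : Y.Modules, PicF.IsInvertible N ∧ Nonempty ((Scheme.Modules.pullback f).obj N ≅ L) := by
  have hbij := app_bijective_of_isIso_morphismRestrict f V hV
  let P : Y.Modules := (Scheme.Modules.pushforward f).obj L
  have key : ∀ y : Y, ∃ (W : Y.Opens) (s : Γ(L, f ⁻¹ᵁ W)), y ∈ W ∧ IsTriv L (f ⁻¹ᵁ W) s ∧
      (y ∈ V → W ≤ V) ∧ (y ∉ V → ∀ z ∈ W, z ∉ V → z = y) := by
    intro y
    obtain ⟨V₀, hyV₀, h0⟩ := exists_nhd_trivial_preimage_of_isFinite f hL y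
    obtain ⟨s₀, hs₀⟩ := (nonempty_iso_unit_iff_exists_isTriv _).mp h0
    by_cases hyV : y ∈ V
    · exact ⟨V₀ ⊓ V, res L (f.preimage_mono inf_le_left) s₀, ⟨hyV₀, hyV⟩,
        hs₀.restrict _, fun _ => inf_le_right, fun h => absurd hyV h⟩
    · obtain ⟨O, hyO, hO⟩ := exists_isolating_open V hdisc y hyV
      exact ⟨V₀ ⊓ O, res L (f.preimage_mono inf_le_left) s₀, ⟨hyV₀, hyO⟩,
        hs₀.restrict _, fun h => absurd h hyV, fun _ z hz hzV => hO z hz.2 hzV⟩
  choose W s hyW hs hWV hWy using key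
  have H1 : ∀ i j, i ≠ j → W i ⊓ W j ≤ V := by
    intro i j hij y hy
    by_contra hyU
    have hi : i ∉ V := fun hi => hyU (hWV i hi hy.1)
    have hj : j ∉ V := fun hj => hyU (hWV j hj hy.2)
    exact hij ((hWy i hi y hy.1 hyU).symm.trans (hWy j hj y hy.2 hyU))
  let sP : ∀ i, Γ(P, W i ⊓ V) := fun i =>
    (show Γ(P, W i ⊓ V) from res L (f.preimage_mono (inf_le_left : W i ⊓ V ≤ W i)) (s i))
  have H2 : ∀ i, IsTriv P (W i ⊓ V) (sP i) := fun i =>
    isTriv_pushforward f L (fun W' hW' => hbij W' (hW'.trans inf_le_right)) _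
      ((hs i).restrict (f.preimage_mono inf_le_left))
  obtain ⟨N, e, hN, he, htr, -⟩ := exists_extension V P W sP (fun y => ⟨y, hyW y⟩) H1 H2
  refine ⟨N, hN, exists_pullback_iso f N L W (fun y => ⟨y, hyW y⟩) e he s hs (fun i j => ?_)⟩
  by_cases hij : i = j
  · subst hij
    refine ⟨1, ?_, ?_⟩
    · rw [one_smul]
    · rw [map_one, one_smul]
  · have hW := H1 i j hij
    obtain ⟨g, hg⟩ := ((H2 j).restrict (le_inf inf_le_right hW : W i ⊓ W j ≤ W j ⊓ V)).exists_eq_smul
      (res P (le_inf inf_le_left hW : W i ⊓ W j ≤ W i ⊓ V) (sP i))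
    refine ⟨g, htr j i (W i ⊓ W j) hW inf_le_right inf_le_left g hg, ?_⟩
    have hg' : res L (f.preimage_mono (le_inf inf_le_left hW : W i ⊓ W j ≤ W i ⊓ V))
        (res L (f.preimage_mono (inf_le_left : W i ⊓ V ≤ W i)) (s i)) =
        f.app (W i ⊓ W j) g • res L (f.preimage_mono (le_inf inf_le_right hW : W i ⊓ W j ≤ W j ⊓ V))
          (res L (f.preimage_mono (inf_le_left : W j ⊓ V ≤ W j)) (s j)) := hg
    rw [res_res, res_res] at hg'
    exact hg'

end Groth.Agent.Lib.Helper29.Desc
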