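import Mathlib
universe u
open CategoryTheory AlgebraicGeometry TopologicalSpace

/-! # Topology of spaces of dimension ≤ 1, coset prime avoidance -/

namespace Groth.Agent.Lib.Helper29.Dim1

section Top
variable {Y : Type*} [TopologicalSpace Y]

/-- In a `T0` space of dimension `≤ 1`, a proper generization of a point is a generic point of
an irreducible component. -/
theorem eq_or_mem_genericPoints [T0Space Y] (hdim : topologicalKrullDim Y ≤ 1) {z y : Y}
    (h : z ⤳ y) : z = y ∨ z ∈ genericPoints Y := by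
  have hall := Order.krullDim_le_one_iff.mp hdim
  let C : IrreducibleCloseds Y := ⟨closure {z}, isIrreducible_singleton.closure, isClosed_closure⟩
  let C' : IrreducibleCloseds Y := ⟨closure {y}, isIrreducible_singleton.closure, isClosed_closure⟩
  have hC'C : C' ≤ C := by
    change closure {y} ⊆ closure {z}
    exact closure_minimal (Set.singleton_subset_iff.mpr h.mem_closure) isClosed_closure
  rcases hall C with hmin | hmax
  · left
    have hCC' : C ≤ C' := hmin hC'C
    have heq : closure {z} = closure {y} := Set.Subset.antisymm hCC' hC'C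
    exact ((inseparable_iff_closure_eq.mpr heq).eq)
  · right
    change closure {z} ∈ irreducibleComponents Y
    refine ⟨isIrreducible_singleton.closure, fun S hS hzS => ?_⟩
    let S' : IrreducibleCloseds Y := ⟨closure S, hS.closure, isClosed_closure⟩
    have h1 : C ≤ S' := by
      change closure {z} ⊆ closure S
      exact hzS.trans subset_closure
    have h2 : S' ≤ C := hmax h1
    exact subset_closure.trans h2

/-- The open set of points lying on no irreducible component other than `closure {η}`. -/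
def complOther (η : Y) : Set Y := (⋃ C ∈ (irreducibleComponents Y) \ {closure {η}}, C)ᶜ

theorem isOpen_complOther (hfin : (irreducibleComponents Y).Finite) (η : Y) :
    IsOpen (complOther η) := by
  unfold complOther
  rw [isOpen_compl_iff]
  exact (hfin.subset Set.sdiff_subset).isClosed_biUnion
    (fun C hC => isClosed_of_mem_irreducibleComponents C hC.1)

theorem mem_complOther {η : Y} (hη : η ∈ genericPoints Y) : η ∈ complOther η := by
  intro hmem
  simp only [Set.mem_iUnion, exists_prop] at hmem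
  obtain ⟨C, ⟨hC, hCne⟩, hηC⟩ := hmem
  apply hCne
  have hsub : closure {η} ⊆ C :=
    closure_minimal (Set.singleton_subset_iff.mpr hηC) (isClosed_of_mem_irreducibleComponents C hC)
  exact Set.Subset.antisymm (hη.2 hC.1 hsub) hsub

theorem irreducibleComponent_eq_of_mem_complOther {η z : Y} (hz : z ∈ complOther η) :
    irreducibleComponent z = closure {η} := by
  by_contra h
  apply hz
  simp only [Set.mem_iUnion, exists_prop]
  exact ⟨irreducibleComponent z, ⟨irreducibleComponent_mem_irreducibleComponents z, h⟩,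
    mem_irreducibleComponent⟩

theorem mem_closure_of_mem_complOther {η z : Y} (hz : z ∈ complOther η) : z ∈ closure {η} := by
  rw [← irreducibleComponent_eq_of_mem_complOther hz]
  exact mem_irreducibleComponent

theorem eq_of_mem_complOther [T0Space Y] {η η' z : Y} (hz : z ∈ complOther η)
    (hz' : z ∈ complOther η') : η = η' := by
  have h := (irreducibleComponent_eq_of_mem_complOther hz).symm.trans
    (irreducibleComponent_eq_of_mem_complOther hz')
  exact (inseparable_iff_closure_eq.mpr h).eq

theorem generic_mem_of_dense [T0Space Y] {V : Set Y} (hVo : IsOpen V) (hV : Dense V)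
    (hfin : (irreducibleComponents Y).Finite) {η : Y} (hη : η ∈ genericPoints Y) : η ∈ V := by
  obtain ⟨z, hzA, hzV⟩ := hV.inter_open_nonempty (complOther η) (isOpen_complOther hfin η)
    ⟨η, mem_complOther hη⟩
  have hspec : η ⤳ z := specializes_iff_mem_closure.mpr (mem_closure_of_mem_complOther hzA)
  exact hspec.mem_open hVo hzV

/-- A closed set containing no generic point, in a Noetherian sober space of dimension `≤ 1`,
is finite and consists of closed points. -/
theorem finite_of_isClosed_of_disjoint_genericPoints [T0Space Y] [QuasiSober Y] [NoetherianSpace Y]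
    (hdim : topologicalKrullDim Y ≤ 1) {T : Set Y} (hT : IsClosed T)
    (hTg : ∀ y ∈ T, y ∉ genericPoints Y) :
    T.Finite ∧ ∀ y ∈ T, IsClosed ({y} : Set Y) := by
  have hclosed : ∀ y ∈ T, IsClosed ({y} : Set Y) := by
    intro y hy
    have : closure {y} = {y} := by
      ext z
      simp only [Set.mem_singleton_iff]
      constructor
      · intro hz
        have hs : y ⤳ z := specializes_iff_mem_closure.mpr hz
        rcases eq_or_mem_genericPoints hdim hs with h | h
        · exact h.symm
        · exact absurd h (hTg y hy)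
      · rintro rfl
        exact subset_closure rfl
    rw [← this]
    exact isClosed_closure
  refine ⟨?_, hclosed⟩
  obtain ⟨S, hS, hTS⟩ := NoetherianSpace.exists_finset_irreducible (⟨T, hT⟩ : Closeds Y)
  have hTS' : T = ⋃ k ∈ S, (k : Set Y) := by
    have := congrArg (fun c : Closeds Y => (c : Set Y)) hTS
    simpa [Closeds.coe_finset_sup] using this
  rw [hTS']
  refine S.finite_toSet.biUnion fun k hk => ?_
  have hirr : IsIrreducible (k : Set Y) := hS ⟨k, hk⟩
  have hgen := hirr.isGenericPoint_genericPoint k.isClosed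
  have hmemk : hirr.genericPoint ∈ (k : Set Y) := hgen.mem
  have hmemT : hirr.genericPoint ∈ T := by
    rw [hTS']
    exact Set.mem_biUnion hk hmemk
  have hk1 : (k : Set Y) = {hirr.genericPoint} :=
    hgen.def.symm.trans (hclosed _ hmemT).closure_eq
  rw [hk1]
  exact Set.finite_singleton _

theorem finite_generizations [T0Space Y] [QuasiSober Y] [NoetherianSpace Y]
    (hdim : topologicalKrullDim Y ≤ 1) (y : Y) : {z : Y | z ⤳ y}.Finite := by
  have hG : (genericPoints Y).Finite :=
    genericPoints.finite NoetherianSpace.finite_irreducibleComponents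
  refine ((Set.finite_singleton y).union hG).subset ?_
  intro z hz
  rcases eq_or_mem_genericPoints hdim hz with h | h
  · exact Or.inl h
  · exact Or.inr h

theorem eq_of_specializes_of_mem_genericPoints [T0Space Y] {z z' : Y} (hz' : z' ∈ genericPoints Y)
    (h : z ⤳ z') : z = z' := by
  have hsub : closure {z'} ⊆ closure {z} :=
    closure_minimal (Set.singleton_subset_iff.mpr h.mem_closure) isClosed_closure
  have := hz'.2 isIrreducible_singleton.closure hsub
  have heq : closure {z} = closure {z'} := Set.Subset.antisymm this hsub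
  exact (inseparable_iff_closure_eq.mpr heq).eq

end Top

section Alg

/-- Coset prime avoidance for pairwise incomparable primes, for an element invertible modulo
the ideal. -/
theorem exists_add_not_mem {B : Type*} [CommRing B] (I : Ideal B) (b b' : B)
    (hbb' : b * b' - 1 ∈ I) (Z : Finset (PrimeSpectrum B))
    (hZ : ∀ 𝔭 ∈ Z, ∀ 𝔮 ∈ Z, 𝔭 ≤ 𝔮 → 𝔭 = 𝔮) :
    ∃ c ∈ I, ∀ 𝔮 ∈ Z, b + c ∉ 𝔮.asIdeal := by
  classical
  let Z2 : Finset (PrimeSpectrum B) := Z.filter (fun 𝔮 => ¬ I ≤ 𝔮.asIdeal ∧ b ∈ 𝔮.asIdeal)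
  let Z3 : Finset (PrimeSpectrum B) := Z.filter (fun 𝔮 => ¬ I ≤ 𝔮.asIdeal ∧ b ∉ 𝔮.asIdeal)
  let J : Ideal B := I ⊓ Z3.inf PrimeSpectrum.asIdeal
  have hJ : ¬ ((J : Set B) ⊆ ⋃ 𝔮 ∈ (↑Z2 : Set (PrimeSpectrum B)), (𝔮.asIdeal : Set B)) := by
    intro hsub
    by_cases hne : Z2.Nonempty
    · obtain ⟨a, ha⟩ := hne
      obtain ⟨𝔮, h𝔮, hle⟩ :=
        (Ideal.subset_union_prime a a (fun i _ _ _ => i.isPrime)).mp hsub
      have h𝔮' := Finset.mem_filter.mp h𝔮
      rcases (Ideal.IsPrime.inf_le 𝔮.isPrime).mp hle with h1 | h1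
      · exact h𝔮'.2.1 h1
      · obtain ⟨𝔭, h𝔭, h𝔭𝔮⟩ := (Ideal.IsPrime.inf_le' 𝔮.isPrime).mp h1
        have h𝔭' := Finset.mem_filter.mp h𝔭
        have := hZ 𝔭 h𝔭'.1 𝔮 h𝔮'.1 h𝔭𝔮
        exact h𝔭'.2.2 (this ▸ h𝔮'.2.2)
    · rw [Finset.not_nonempty_iff_eq_empty] at hne
      have h0 : (0 : B) ∈ (J : Set B) := J.zero_mem
      have := hsub h0
      simp [hne] at this
  rw [Set.not_subset] at hJ
  obtain ⟨c, hcJ, hc⟩ := hJ
  have hcI : c ∈ I := hcJ.1
  refine ⟨c, hcI, fun 𝔮 h𝔮 hmem => ?_⟩
  by_cases hI : I ≤ 𝔮.asIdeal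
  · have hb : b ∈ 𝔮.asIdeal := by
      have := 𝔮.asIdeal.sub_mem hmem (hI hcI)
      simpa using this
    have h1 : b * b' ∈ 𝔮.asIdeal := 𝔮.asIdeal.mul_mem_right _ hb
    have h2 : (1 : B) ∈ 𝔮.asIdeal := by
      have := 𝔮.asIdeal.sub_mem h1 (hI hbb')
      simpa using this
    exact 𝔮.isPrime.ne_top ((Ideal.eq_top_iff_one _).mpr h2)
  · by_cases hb : b ∈ 𝔮.asIdeal
    · have h𝔮2 : 𝔮 ∈ Z2 := Finset.mem_filter.mpr ⟨h𝔮, hI, hb⟩
      apply hc
      simp only [Set.mem_iUnion, exists_prop]
      refine ⟨𝔮, h𝔮2, ?_⟩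
      have := 𝔮.asIdeal.sub_mem hmem hb
      simpa using this
    · have h𝔮3 : 𝔮 ∈ Z3 := Finset.mem_filter.mpr ⟨h𝔮, hI, hb⟩
      have hc𝔮 : c ∈ 𝔮.asIdeal := (Finset.inf_le h𝔮3 : Z3.inf PrimeSpectrum.asIdeal ≤ 𝔮.asIdeal) hcJ.2
      apply hb
      have := 𝔮.asIdeal.sub_mem hmem hc𝔮
      simpa using this

end Alg

end Groth.Agent.Lib.Helper29.Dim1
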