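import Groth.Agent.Lib.Helper29.Desc1
import Groth.Agent.Lib.Helper29.Dim1
universe u
open CategoryTheory CategoryTheory.Limits AlgebraicGeometry TopologicalSpace Opposite

/-! # Descending invertible modules along finite morphisms, generically closed immersions,
over one-dimensional Noetherian bases -/

namespace Groth.Agent.Lib.Helper29.Desc
open Groth.Agent.Lib.Helper29.QCoh Groth.Agent.Lib.Helper29.QCoh.Glue Groth.Agent.Lib.Helper29.Punct
open Groth.Agent.Lib.Helper29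

variable {X Y : Scheme.{u}}

theorem eq_of_forall_not_mem (L : X.Modules) {W : X.Opens} (hW : ∀ x : X, x ∉ W) (a b : Γ(L, W)) :
    a = b :=
  eq_of_res_cover_eq L (fun k : PEmpty.{1} => k.elim) (fun k => k.elim)
    (fun x hx => absurd hx (hW x)) a b (fun k => k.elim)

/-- Triviality with respect to a given section is local. -/
theorem isTriv_of_cover (L : X.Modules) {U : X.Opens} (e : Γ(L, U)) {κ : Type*}
    (V : κ → X.Opens) (hVU : ∀ k, V k ≤ U) (hcov : U ≤ iSup V)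
    (h : ∀ k, IsTriv L (V k) (res L (hVU k) e)) : IsTriv L U e := by
  intro W hW
  have hcovW : W ≤ ⨆ k, W ⊓ V k := by
    intro x hx
    obtain ⟨k, hk⟩ := Opens.mem_iSup.mp (hcov (hW hx))
    exact Opens.mem_iSup.mpr ⟨k, hx, hk⟩
  have hk : ∀ k, ∀ (Z : X.Opens) (hZW : Z ≤ W) (hZV : Z ≤ V k),
      Function.Bijective (fun r : Γ(X, Z) => r • res L (hZW.trans hW) e) := by
    intro k Z hZW hZV
    have := h k Z hZV
    simpa only [res_res] using this
  constructor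
  · intro r r' hrr'
    replace hrr' : r • res L hW e = r' • res L hW e := hrr'
    apply fun_ext_of_cover (fun k => W ⊓ V k) W (fun k => inf_le_left) hcovW
    intro k
    apply (hk k (W ⊓ V k) inf_le_left inf_le_right).1
    have := congrArg (res L (inf_le_left : W ⊓ V k ≤ W)) hrr'
    rw [res_smul', res_smul', res_res] at this
    exact this
  · intro m
    have hex : ∀ k, ∃ r : Γ(X, W ⊓ V k),
        r • res L ((inf_le_left : W ⊓ V k ≤ W).trans hW) e = res L inf_le_left m :=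
      fun k => (hk k (W ⊓ V k) inf_le_left inf_le_right).2 _
    choose r hr using hex
    obtain ⟨R, hR⟩ := exists_glue_fun (fun k => W ⊓ V k) W (fun k => inf_le_left) hcovW r (by
      intro k l
      apply (hk k ((W ⊓ V k) ⊓ (W ⊓ V l)) (inf_le_left.trans inf_le_left)
        (inf_le_left.trans inf_le_right)).1
      change rres X _ (r k) • res L _ e = rres X _ (r l) • res L _ e
      have h1 := congrArg (res L (inf_le_left : (W ⊓ V k) ⊓ (W ⊓ V l) ≤ W ⊓ V k)) (hr k)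
      have h2 := congrArg (res L (inf_le_right : (W ⊓ V k) ⊓ (W ⊓ V l) ≤ W ⊓ V l)) (hr l)
      rw [res_smul', res_res, res_res] at h1 h2
      rw [h1, h2])
    refine ⟨R, ?_⟩
    apply eq_of_res_cover_eq L (fun k => W ⊓ V k) (fun k => inf_le_left) hcovW
    intro k
    change res L _ (R • res L hW e) = res L _ m
    rw [res_smul', res_res, hR k, hr k]

theorem app_surjective_of_isClosedImmersion (f : X ⟶ Y) (V : Y.Opens)
    (hfV : IsClosedImmersion (f ∣_ V)) {D : Y.Opens} (hD : IsAffineOpen D) (hDV : D ≤ V) :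
    Function.Surjective (f.app D) := by
  have h1 : IsClosedImmersion (f ∣_ D) := by
    have h2 : IsClosedImmersion ((f ∣_ V) ∣_ (V.ι ⁻¹ᵁ D)) :=
      IsZariskiLocalAtTarget.restrict hfV _
    have e : V.ι ''ᵁ (V.ι ⁻¹ᵁ D) = D := by
      rw [Scheme.Hom.image_preimage_eq_opensRange_inf, Scheme.Opens.opensRange_ι]
      exact inf_eq_right.mpr hDV
    have h3 := (MorphismProperty.arrow_mk_iso_iff @IsClosedImmersion
      (morphismRestrictRestrict f V (V.ι ⁻¹ᵁ D))).mp h2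
    rw [e] at h3
    exact h3
  have : IsAffine (D : Scheme.{u}) := hD
  obtain ⟨-, hsurj⟩ := IsClosedImmersion.isAffine_surjective_of_isAffine (f ∣_ D)
  rw [morphismRestrict_appTop] at hsurj
  have hψ : IsIso (X.presheaf.map (eqToHom (image_morphismRestrict_preimage f D ⊤)).op) := by
    rw [eqToHom_op, eqToHom_map]; infer_instance
  have h4 : Function.Surjective (f.app (D.ι ''ᵁ ⊤)) := by
    intro t
    obtain ⟨a, ha⟩ := hsurj
      ((X.presheaf.map (eqToHom (image_morphismRestrict_preimage f D ⊤)).op) t)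
    refine ⟨a, ?_⟩
    exact (ConcreteCategory.bijective_of_isIso
      (X.presheaf.map (eqToHom (image_morphismRestrict_preimage f D ⊤)).op)).1 ha
  rw [D.ι_image_top] at h4
  exact h4

theorem exists_unit_lift (f : X ⟶ Y) {D : Y.Opens} (hD : IsAffineOpen D)
    (hsurj : Function.Surjective (f.app D)) (u : Γ(X, f ⁻¹ᵁ D)) (hu : IsUnit u) (Zs : Set Y)
    (hZfin : Zs.Finite) (hZD : Zs ⊆ D) (hZ : ∀ z ∈ Zs, ∀ z' ∈ Zs, z ⤳ z' → z = z') :
    ∃ b : Γ(Y, D), f.app D b = u ∧ ∀ z ∈ Zs, z ∈ Y.basicOpen b := by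
  classical
  obtain ⟨b₀, hb₀⟩ := hsurj u
  obtain ⟨b₀', hb₀'⟩ := hsurj (↑hu.unit⁻¹)
  let I : Ideal Γ(Y, D) := RingHom.ker (f.app D).hom
  have hbb' : b₀ * b₀' - 1 ∈ I := by
    change (f.app D).hom (b₀ * b₀' - 1) = 0
    rw [map_sub, map_mul, map_one]
    change (f.app D) b₀ * (f.app D) b₀' - 1 = 0
    rw [hb₀, hb₀', IsUnit.mul_val_inv, sub_self]
  have hinj : Function.Injective hD.fromSpec := hD.fromSpec.isOpenEmbedding.injective
  let Zp : Set (PrimeSpectrum Γ(Y, D)) := {𝔮 | hD.fromSpec 𝔮 ∈ Zs}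
  have hZpfin : Zp.Finite :=
    hZfin.preimage (f := fun 𝔮 : PrimeSpectrum Γ(Y, D) => (hD.fromSpec 𝔮 : Y))
      (fun a _ b _ hab => hinj hab)
  let Z : Finset (PrimeSpectrum Γ(Y, D)) := hZpfin.toFinset
  have hZmem : ∀ 𝔮 : PrimeSpectrum Γ(Y, D), 𝔮 ∈ Z ↔ hD.fromSpec 𝔮 ∈ Zs :=
    fun 𝔮 => hZpfin.mem_toFinset
  obtain ⟨c, hcI, hc⟩ := Dim1.exists_add_not_mem I b₀ b₀' hbb' Z (by
    intro 𝔭 h𝔭 𝔮 h𝔮 hle
    apply hinj
    exact hZ _ ((hZmem 𝔭).mp h𝔭) _ ((hZmem 𝔮).mp h𝔮)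
      (((PrimeSpectrum.le_iff_specializes 𝔭 𝔮).mp hle).map hD.fromSpec.continuous))
  refine ⟨b₀ + c, ?_, fun z hz => ?_⟩
  · have hc0 : (f.app D) c = 0 := hcI
    rw [map_add, hb₀, hc0, add_zero]
  · have hzD := hZD hz
    have hfz : hD.fromSpec (hD.primeIdealOf ⟨z, hzD⟩) = z := hD.fromSpec_primeIdealOf ⟨z, hzD⟩
    rw [← hfz]
    apply (mem_basicOpen_fromSpec hD _ _).mpr
    apply hc
    rw [hZmem, hfz]
    exact hz

/-- Step 0: `L` is trivial over the preimage of a dense open contained in `V`. -/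
theorem exists_dense_trivial (f : X ⟶ Y) [IsFinite f] [NoetherianSpace Y]
    (V : Y.Opens) (hV : Dense (V : Set Y)) (L : X.Modules) (hL : PicF.IsInvertible L) :
    ∃ (V' : Y.Opens) (e : Γ(L, f ⁻¹ᵁ V')), V' ≤ V ∧ (∀ η ∈ genericPoints Y, η ∈ V') ∧
      IsTriv L (f ⁻¹ᵁ V') e := by
  have hfinC : (irreducibleComponents Y).Finite := NoetherianSpace.finite_irreducibleComponents
  have hex : ∀ η : Y, ∃ (V₀ : Y.Opens) (s₀ : Γ(L, f ⁻¹ᵁ V₀)), η ∈ V₀ ∧ IsTriv L (f ⁻¹ᵁ V₀) s₀ := by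
    intro η
    obtain ⟨V₀, hηV₀, h0⟩ := exists_nhd_trivial_preimage_of_isFinite f hL η
    obtain ⟨s₀, hs₀⟩ := (nonempty_iso_unit_iff_exists_isTriv _).mp h0
    exact ⟨V₀, s₀, hηV₀, hs₀⟩
  choose V₀ s₀ hηV₀ hs₀ using hex
  let A : genericPoints Y → Y.Opens := fun η =>
    (⟨Dim1.complOther (η : Y), Dim1.isOpen_complOther hfinC η⟩ ⊓ V) ⊓ V₀ η
  have hηA : ∀ η : genericPoints Y, (η : Y) ∈ A η := fun η =>
    ⟨⟨Dim1.mem_complOther η.2, Dim1.generic_mem_of_dense V.isOpen hV hfinC η.2⟩, hηV₀ η⟩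
  have hdisj : ∀ η η' : genericPoints Y, η ≠ η' → ∀ x : X, x ∉ f ⁻¹ᵁ A η ⊓ f ⁻¹ᵁ A η' := by
    intro η η' hne x hx
    exact hne (Subtype.ext (Dim1.eq_of_mem_complOther hx.1.1.1 hx.2.1.1))
  let V' : Y.Opens := ⨆ η, A η
  have hAV' : ∀ η, f ⁻¹ᵁ A η ≤ f ⁻¹ᵁ V' := fun η => f.preimage_mono (le_iSup A η)
  have hcovV' : f ⁻¹ᵁ V' ≤ ⨆ η, f ⁻¹ᵁ A η := by
    intro x hx
    obtain ⟨η, hη⟩ := Opens.mem_iSup.mp (show f x ∈ V' from hx)
    exact Opens.mem_iSup.mpr ⟨η, hη⟩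
  let sf : ∀ η : genericPoints Y, Γ(L, f ⁻¹ᵁ A η) := fun η =>
    res L (f.preimage_mono (inf_le_right : A η ≤ V₀ η)) (s₀ η)
  obtain ⟨e, he⟩ := exists_gluing L (fun η => f ⁻¹ᵁ A η) (f ⁻¹ᵁ V') hAV' hcovV' sf (by
    intro η η'
    by_cases hne : η = η'
    · subst hne; rfl
    · exact eq_of_forall_not_mem L (hdisj η η' hne) _ _)
  refine ⟨V', e, ?_, ?_, ?_⟩
  · exact iSup_le fun η => inf_le_left.trans inf_le_right
  · intro η hη
    exact Opens.mem_iSup.mpr ⟨⟨η, hη⟩, hηA ⟨η, hη⟩⟩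
  · refine isTriv_of_cover L e (fun η => f ⁻¹ᵁ A η) hAV' hcovV' (fun η => ?_)
    rw [he η]
    exact (hs₀ η).restrict _

end Groth.Agent.Lib.Helper29.Desc
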