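import Groth.Agent.Lib.Helper29.TensorBasis
import Groth.Agent.Lib.Helper29.Twist3
import Groth.Agent.Lib.Helper29.MeroCore4
import Groth.Prelude.Def_RefHull
universe u
open CategoryTheory CategoryTheory.Limits AlgebraicGeometry TopologicalSpace Opposite

/-! # The sheaf Hom: evaluation pairing, and the dual of an invertible module -/

namespace Groth.Agent.Lib.Helper29.QCoh.Dual
open Groth.Agent.Lib.Helper29.QCoh

variable {X : Scheme.{u}} {F G : X.Modules}

/-- Evaluating a section of the sheaf Hom on a section of `F` gives a section of `G`. -/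
theorem exists_ev {U : X.Opens} (φ : Γ(RefHull.homSh F G, U)) (m : Γ(F, U)) :
    ∃ n : Γ(G, U), ∀ (x : X) (hx : x ∈ U),
      φ.1 ⟨x, hx⟩ (F.presheaf.germ U x hx m) = G.presheaf.germ U x hx n := by
  have h := φ.2 U (𝟙 U) m
  choose W hxW j n hn using h
  have hcompat : ∀ a b : U, QCoh.res G (inf_le_left : W a ⊓ W b ≤ W a) (n a) =
      QCoh.res G (inf_le_right : W a ⊓ W b ≤ W b) (n b) := by
    intro a b
    refine section_ext G _ _ fun z hz => ?_
    rw [germ_res, germ_res]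
    have h1 := hn a ⟨z, hz.1⟩
    have h2 := hn b ⟨z, hz.2⟩
    exact h1.symm.trans h2
  obtain ⟨s, hs⟩ := exists_gluing G W U (fun a => (j a).le)
    (fun x hx => Opens.mem_iSup.mpr ⟨⟨x, hx⟩, hxW ⟨x, hx⟩⟩) n hcompat
  refine ⟨s, fun x hx => ?_⟩
  have h1 := hn ⟨x, hx⟩ ⟨x, hxW ⟨x, hx⟩⟩
  rw [← germ_res G (j ⟨x, hx⟩).le x (hxW ⟨x, hx⟩) s, hs]
  exact h1

/-- The evaluation of a section of the sheaf Hom on a section. -/
noncomputable def ev {U : X.Opens} (φ : Γ(RefHull.homSh F G, U)) (m : Γ(F, U)) : Γ(G, U) :=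
  (exists_ev φ m).choose

theorem germ_ev {U : X.Opens} (φ : Γ(RefHull.homSh F G, U)) (m : Γ(F, U)) (x : X) (hx : x ∈ U) :
    G.presheaf.germ U x hx (ev φ m) = φ.1 ⟨x, hx⟩ (F.presheaf.germ U x hx m) :=
  ((exists_ev φ m).choose_spec x hx).symm

theorem ev_eq_of_germ {U : X.Opens} (φ : Γ(RefHull.homSh F G, U)) (m : Γ(F, U)) (n : Γ(G, U))
    (h : ∀ (x : X) (hx : x ∈ U), φ.1 ⟨x, hx⟩ (F.presheaf.germ U x hx m) = G.presheaf.germ U x hx n) :
    ev φ m = n :=
  section_ext G _ _ fun x hx => by rw [germ_ev, h x hx]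

theorem ev_add_left {U : X.Opens} (φ ψ : Γ(RefHull.homSh F G, U)) (m : Γ(F, U)) :
    ev (φ + ψ) m = ev φ m + ev ψ m :=
  ev_eq_of_germ _ _ _ fun x hx => by
    rw [map_add, germ_ev, germ_ev]; rfl

theorem ev_add_right {U : X.Opens} (φ : Γ(RefHull.homSh F G, U)) (m m' : Γ(F, U)) :
    ev φ (m + m') = ev φ m + ev φ m' :=
  ev_eq_of_germ _ _ _ fun x hx => by
    rw [map_add, map_add, map_add, germ_ev, germ_ev]

theorem ev_smul_left {U : X.Opens} (r : Γ(X, U)) (φ : Γ(RefHull.homSh F G, U)) (m : Γ(F, U)) :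
    ev (r • φ) m = r • ev φ m :=
  ev_eq_of_germ _ _ _ fun x hx => by
    rw [germ_smul, germ_ev]; rfl

theorem ev_smul_right {U : X.Opens} (r : Γ(X, U)) (φ : Γ(RefHull.homSh F G, U)) (m : Γ(F, U)) :
    ev φ (r • m) = r • ev φ m :=
  ev_eq_of_germ _ _ _ fun x hx => by
    rw [germ_smul, germ_smul, map_smul, germ_ev]

theorem res_ev {U V : X.Opens} (h : V ≤ U) (φ : Γ(RefHull.homSh F G, U)) (m : Γ(F, U)) :
    QCoh.res G h (ev φ m) = ev (QCoh.res (RefHull.homSh F G) h φ) (QCoh.res F h m) :=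
  (ev_eq_of_germ _ _ _ fun x hx => by
    rw [germ_res, germ_res, germ_ev]; rfl).symm

/-- The evaluation pairing `𝓗om(F, G) × F → G`. -/
noncomputable def evPairing (F G : X.Modules) : Pairing (RefHull.homSh F G) F G where
  b U φ m := ev φ m
  add_left U φ ψ m := ev_add_left φ ψ m
  add_right U φ m m' := ev_add_right φ m m'
  smul_left U r φ m := ev_smul_left r φ m
  smul_right U r φ m := ev_smul_right r φ m
  res h φ m := res_ev h φ m

/-- The evaluation morphism `𝓗om(F, G) ⊗ F ⟶ G`. -/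
noncomputable def evHom (F G : X.Modules) : CohB1.tensorMod (RefHull.homSh F G) F ⟶ G :=
  tensorDesc (evPairing F G)

theorem evHom_tmulSec {U : X.Opens} (φ : Γ(RefHull.homSh F G, U)) (m : Γ(F, U)) :
    (evHom F G).app U (tmulSec (RefHull.homSh F G) F φ m) = ev φ m :=
  tensorDesc_tmulSec (evPairing F G) U φ m

/-- A global section of the sheaf Hom defines a morphism. -/
noncomputable def homOfGlobal (Φ : Γ(RefHull.homSh F G, ⊤)) : F ⟶ G :=
  homOfApp
    (fun W =>
      { toFun := fun m => ev (QCoh.res (RefHull.homSh F G) le_top Φ) m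
        map_zero' := by
          have := ev_smul_right (0 : Γ(X, W)) (QCoh.res (RefHull.homSh F G) le_top Φ) (0 : Γ(F, W))
          rwa [zero_smul, zero_smul] at this
        map_add' := fun a b => ev_add_right _ a b })
    (fun W r m => ev_smul_right r _ m)
    (fun {W W'} h m => by
      change ev _ _ = QCoh.res G h (ev _ _)
      rw [res_ev, res_res])

theorem homOfGlobal_app (Φ : Γ(RefHull.homSh F G, ⊤)) (W : X.Opens) (m : Γ(F, W)) :
    (homOfGlobal Φ).app W m = ev (QCoh.res (RefHull.homSh F G) le_top Φ) m := rfl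

end Groth.Agent.Lib.Helper29.QCoh.Dual
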