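import Groth.Agent.Lib.Helper29.Punct1
universe u
open CategoryTheory AlgebraicGeometry TopologicalSpace

namespace Groth.Agent.Lib.Helper29.Punct

theorem mem_basicOpen_fromSpec {X : Scheme.{u}} {W : X.Opens} (hW : IsAffineOpen W)
    (a : Γ(X, W)) (𝔭 : PrimeSpectrum Γ(X, W)) :
    hW.fromSpec 𝔭 ∈ X.basicOpen a ↔ a ∉ 𝔭.asIdeal := by
  have := hW.fromSpec_preimage_basicOpen a
  change 𝔭 ∈ hW.fromSpec ⁻¹ᵁ X.basicOpen a ↔ _
  rw [this]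
  rfl

/-- If every generization of `x` lying in `D(f)` belongs to the open `G`, then `D(h) ∩ D(f) ⊆ G`
for some `h` not vanishing at `x`. -/
theorem exists_basicOpen_inf_le {X : Scheme.{u}} {W : X.Opens} (hW : IsAffineOpen W)
    (f : Γ(X, W)) (G : X.Opens) (x : X) (hx : x ∈ W)
    (hG : ∀ y ∈ X.basicOpen f, y ⤳ x → y ∈ G) :
    ∃ h : Γ(X, W), x ∈ X.basicOpen h ∧ X.basicOpen h ⊓ X.basicOpen f ≤ G := by
  set 𝔪 := hW.primeIdealOf ⟨x, hx⟩ with h𝔪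
  have hφ𝔪 : hW.fromSpec 𝔪 = x := hW.fromSpec_primeIdealOf ⟨x, hx⟩
  obtain ⟨h, hh, hh'⟩ := exists_not_mem_forall_mem 𝔪 f (hW.fromSpec ⁻¹' (G : Set X))
    (G.isOpen.preimage hW.fromSpec.continuous) (fun 𝔭 hf hle => by
      change hW.fromSpec 𝔭 ∈ G
      apply hG _ ((mem_basicOpen_fromSpec hW f 𝔭).mpr hf)
      rw [← hφ𝔪]
      exact ((PrimeSpectrum.le_iff_specializes 𝔭 𝔪).mp hle).map hW.fromSpec.continuous)
  refine ⟨h, ?_, ?_⟩
  · rw [← hφ𝔪]; exact (mem_basicOpen_fromSpec hW h 𝔪).mpr hh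
  · rintro y ⟨hyh, hyf⟩
    have hyW : y ∈ W := X.basicOpen_le h hyh
    obtain ⟨𝔭, rfl⟩ : y ∈ Set.range hW.fromSpec := by rw [hW.range_fromSpec]; exact hyW
    exact hh' 𝔭 ((mem_basicOpen_fromSpec hW h 𝔭).mp hyh) ((mem_basicOpen_fromSpec hW f 𝔭).mp hyf)

/-- A local equation for the complement of a retrocompact open near an isolated point of the
complement having finitely many generizations. -/
theorem exists_local_equation (X : Scheme.{u}) (U : X.Opens) [QuasiCompact U.ι] (x : X)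
    (hxU : x ∉ U) (O : X.Opens) (hxO : x ∈ O) (hO : ∀ y ∈ O, y ∉ U → y = x)
    (hfin : {y : X | y ⤳ x}.Finite) :
    ∃ (W : X.Opens) (f : Γ(X, W)), IsAffineOpen W ∧ x ∈ W ∧ W ≤ O ∧ X.basicOpen f = W ⊓ U := by
  obtain ⟨W₁, hW₁, hxW₁, hW₁O⟩ := exists_isAffineOpen_mem_and_subset (x := x) (U := O) hxO
  set 𝔪 := hW₁.primeIdealOf ⟨x, hxW₁⟩ with h𝔪
  have hφ𝔪 : hW₁.fromSpec 𝔪 = x := hW₁.fromSpec_primeIdealOf ⟨x, hxW₁⟩
  have hinj : Function.Injective hW₁.fromSpec := hW₁.fromSpec.isOpenEmbedding.injective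
  have hrange : ∀ 𝔭 : PrimeSpectrum Γ(X, W₁), hW₁.fromSpec 𝔭 ∈ W₁ := fun 𝔭 => by
    have : hW₁.fromSpec 𝔭 ∈ Set.range hW₁.fromSpec := ⟨𝔭, rfl⟩
    rw [hW₁.range_fromSpec] at this
    exact this
  have hcomp0 : IsCompact ((W₁ : Set X) ∩ (U : Set X)) := by
    have h1 : IsCompact (U.ι ⁻¹' (W₁ : Set X)) :=
      QuasiCompact.isCompact_preimage (f := U.ι) _ W₁.isOpen hW₁.isCompact
    have h2 := h1.image U.ι.continuous
    rw [Set.image_preimage_eq_inter_range, Scheme.Opens.range_ι] at h2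
    exact h2
  have hpre : hW₁.fromSpec ⁻¹' (U : Set X) = hW₁.fromSpec ⁻¹' ((W₁ : Set X) ∩ (U : Set X)) := by
    ext 𝔭
    simp only [Set.mem_preimage, Set.mem_inter_iff]
    exact ⟨fun h => ⟨hrange 𝔭, h⟩, fun h => h.2⟩
  have hcomp : IsCompact (hW₁.fromSpec ⁻¹' (U : Set X)) := by
    rw [hpre]
    refine (hW₁.fromSpec.isOpenEmbedding.isInducing.isCompact_preimage_iff ?_).mpr hcomp0
    rw [hW₁.range_fromSpec]
    exact Set.inter_subset_left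
  have hfin' : {𝔭 : PrimeSpectrum Γ(X, W₁) | 𝔭 < 𝔪}.Finite := by
    refine (hfin.preimage (f := hW₁.fromSpec) hinj.injOn).subset ?_
    intro 𝔭 h𝔭
    change hW₁.fromSpec 𝔭 ⤳ x
    rw [← hφ𝔪]
    exact ((PrimeSpectrum.le_iff_specializes 𝔭 𝔪).mp (le_of_lt h𝔭)).map hW₁.fromSpec.continuous
  obtain ⟨f, h, hh, hfh⟩ := exists_equation 𝔪 (hW₁.fromSpec ⁻¹' (U : Set X)) hcomp
    (U.isOpen.preimage hW₁.fromSpec.continuous)
    (fun hm => hxU (by rw [← hφ𝔪]; exact hm))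
    (fun 𝔭 h𝔭 => hinj (by rw [hφ𝔪]; exact hO _ (hW₁O (hrange 𝔭)) h𝔭)) hfin'
  have hle : X.basicOpen h ≤ W₁ := X.basicOpen_le h
  refine ⟨X.basicOpen h, X.presheaf.map (homOfLE hle).op f, hW₁.basicOpen h, ?_, hle.trans hW₁O, ?_⟩
  · rw [← hφ𝔪]; exact (mem_basicOpen_fromSpec hW₁ h 𝔪).mpr hh
  · rw [Scheme.basicOpen_res]
    ext y
    simp only [Opens.coe_inf, Set.mem_inter_iff, SetLike.mem_coe]
    constructor
    · rintro ⟨hyh, hyf⟩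
      refine ⟨hyh, ?_⟩
      obtain ⟨𝔭, rfl⟩ : y ∈ Set.range hW₁.fromSpec := by rw [hW₁.range_fromSpec]; exact hle hyh
      exact (hfh 𝔭 ((mem_basicOpen_fromSpec hW₁ h 𝔭).mp hyh)).mp
        ((mem_basicOpen_fromSpec hW₁ f 𝔭).mp hyf)
    · rintro ⟨hyh, hyU⟩
      refine ⟨hyh, ?_⟩
      obtain ⟨𝔭, rfl⟩ : y ∈ Set.range hW₁.fromSpec := by rw [hW₁.range_fromSpec]; exact hle hyh
      exact (mem_basicOpen_fromSpec hW₁ f 𝔭).mpr
        ((hfh 𝔭 ((mem_basicOpen_fromSpec hW₁ h 𝔭).mp hyh)).mpr hyU)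

end Groth.Agent.Lib.Helper29.Punct
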