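import Groth.Agent.Lib.Helper25.BlowUpReg
import Groth.Agent.Lib.Helper10.DivLocal
import Groth.Agent.Lib.Helper29.Punct2
import Mathlib
universe u
open CategoryTheory CategoryTheory.Limits AlgebraicGeometry TopologicalSpace Opposite

/-! # Integral closed subschemes of codimension one with factorial local rings are Cartier -/

namespace Groth.Agent.Lib.Helper29.EffC
open Groth.Agent.Lib.Helper10.DivLocal

variable {X : Scheme.{u}}

/-- Outside its support an ideal sheaf is locally the unit ideal. -/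
theorem exists_principal_of_notMem_support (I : X.IdealSheafData) (w : X)
    (hw : w ∉ I.support) :
    ∃ U : X.affineOpens, w ∈ U.1 ∧
      ∃ f : Γ(X, U.1), f ∈ nonZeroDivisors Γ(X, U.1) ∧ I.ideal U = Ideal.span {f} := by
  obtain ⟨_, ⟨U₀, hU₀, rfl⟩, hwU₀, -⟩ :=
    X.isBasis_affineOpens.exists_subset_of_mem_open (Set.mem_univ w) isOpen_univ
  rw [Scheme.IdealSheafData.mem_support_iff_of_mem (U := ⟨U₀, hU₀⟩) hwU₀,
    Scheme.mem_zeroLocus_iff] at hw
  push Not at hw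
  obtain ⟨g, hgI, hwg⟩ := hw
  refine ⟨X.affineBasicOpen (U := ⟨U₀, hU₀⟩) g, hwg, 1, one_mem _, ?_⟩
  rw [Ideal.span_singleton_one, ← I.map_ideal_basicOpen ⟨U₀, hU₀⟩ g]
  apply Ideal.eq_top_of_isUnit_mem _ (Ideal.mem_map_of_mem _ hgI)
  exact X.toRingedSpace.isUnit_res_basicOpen g

/-- The ideal of an integral closed subscheme on an affine open meeting it is prime. -/
theorem isPrime_ideal_of_isIntegral (𝓘 : X.IdealSheafData) [IsIntegral 𝓘.subscheme]
    (U : X.affineOpens) (x : X) (hxU : x ∈ U.1) (hx : x ∈ 𝓘.support) :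
    (𝓘.ideal U).IsPrime := by
  obtain ⟨z, hz⟩ : x ∈ Set.range 𝓘.subschemeι := by
    rw [𝓘.range_subschemeι]; exact hx
  have hzU : z ∈ 𝓘.subschemeι ⁻¹ᵁ U.1 := by
    show 𝓘.subschemeι z ∈ U.1; rw [hz]; exact hxU
  have hdom : IsDomain Γ(𝓘.subscheme, 𝓘.subschemeι ⁻¹ᵁ U.1) :=
    @IsIntegral.component_integral _ _ (𝓘.subschemeι ⁻¹ᵁ U.1) ⟨⟨z, hzU⟩⟩
  have e := (𝓘.subschemeObjIso U).commRingCatIsoToRingEquiv
  have hdomQ : IsDomain (Γ(X, U.1) ⧸ 𝓘.ideal U) := e.symm.toMulEquiv.isDomain _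
  exact (Ideal.Quotient.isDomain_iff_prime _).mp hdomQ

/-- The prime of the image of the generic point of an integral closed subscheme. -/
theorem primeIdealOf_genericPoint (𝓘 : X.IdealSheafData) [IsIntegral 𝓘.subscheme]
    (U : X.affineOpens) (hP : (𝓘.ideal U).IsPrime)
    (hyU : 𝓘.subschemeι (genericPoint ↥𝓘.subscheme) ∈ U.1) :
    (U.2.primeIdealOf ⟨𝓘.subschemeι (genericPoint ↥𝓘.subscheme), hyU⟩).asIdeal = 𝓘.ideal U := by
  set y := 𝓘.subschemeι (genericPoint ↥𝓘.subscheme) with hy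
  have hysupp : y ∈ 𝓘.support := by
    rw [← SetLike.mem_coe, ← 𝓘.range_subschemeι]; exact ⟨_, rfl⟩
  apply le_antisymm
  · let P : PrimeSpectrum Γ(X, U.1) := ⟨𝓘.ideal U, hP⟩
    let w : X := U.2.fromSpec P
    have hwU : w ∈ U.1 := by
      have : w ∈ Set.range U.2.fromSpec := ⟨_, rfl⟩
      rw [U.2.range_fromSpec] at this
      exact this
    have : IsOpenImmersion U.2.fromSpec := U.2.isOpenImmersion_fromSpec
    have hinj : Function.Injective U.2.fromSpec :=
      (Scheme.Hom.isOpenEmbedding U.2.fromSpec).injective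
    have hpw : U.2.primeIdealOf ⟨w, hwU⟩ = P := hinj (U.2.fromSpec_primeIdealOf ⟨w, hwU⟩)
    have hwsupp : w ∈ 𝓘.support := by
      rw [mem_support_iff_le_primeIdealOf 𝓘 U w hwU, hpw]
    obtain ⟨z, hz⟩ : w ∈ Set.range 𝓘.subschemeι := by
      rw [𝓘.range_subschemeι]; exact hwsupp
    have h1 : genericPoint ↥𝓘.subscheme ⤳ z := (genericPoint_spec _).specializes trivial
    have h2 : y ⤳ w := by
      rw [← hz]
      exact h1.map 𝓘.subschemeι.continuous
    have h3 : U.2.fromSpec (U.2.primeIdealOf ⟨y, hyU⟩) ⤳ U.2.fromSpec P := by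
      rw [U.2.fromSpec_primeIdealOf ⟨y, hyU⟩]
      exact h2
    have h4 : U.2.primeIdealOf ⟨y, hyU⟩ ⤳ P :=
      (Scheme.Hom.isOpenEmbedding U.2.fromSpec).isInducing.specializes_iff.mp h3
    exact (PrimeSpectrum.le_iff_specializes _ _).mpr h4
  · exact (mem_support_iff_le_primeIdealOf 𝓘 U y hyU).mp hysupp

/-- An integral closed subscheme of codimension one all of whose points have factorial local
rings is an effective Cartier divisor. -/
theorem isEffCartierIdeal_of_integral_codim_one_ufd [IsLocallyNoetherian X]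
    (𝓘 : X.IdealSheafData) [IsIntegral 𝓘.subscheme]
    (hcodim : ringKrullDim (X.presheaf.stalk (𝓘.subschemeι (genericPoint ↥𝓘.subscheme))) = 1)
    (hufd : ∀ x : ↥X, x ∈ 𝓘.support →
      IsDomain (X.presheaf.stalk x) ∧ UniqueFactorizationMonoid (X.presheaf.stalk x)) :
    BlowUp.IsEffCartierIdeal 𝓘 := by
  classical
  intro x
  by_cases hx : x ∈ 𝓘.support
  swap
  · exact exists_principal_of_notMem_support 𝓘 x hx
  obtain ⟨_, ⟨U₀, hU₀, rfl⟩, hxU, -⟩ :=
    X.isBasis_affineOpens.exists_subset_of_mem_open (Set.mem_univ x) isOpen_univ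
  obtain ⟨U, hU⟩ : ∃ U : X.affineOpens, U = ⟨U₀, hU₀⟩ := ⟨_, rfl⟩
  have hxU' : x ∈ U.1 := by rw [hU]; exact hxU
  have hA : IsNoetherianRing Γ(X, U.1) := IsLocallyNoetherian.component_noetherian U
  have hP : (𝓘.ideal U).IsPrime := isPrime_ideal_of_isIntegral 𝓘 U x hxU' hx
  -- the generic point lies in `U`
  have hyU : 𝓘.subschemeι (genericPoint ↥𝓘.subscheme) ∈ U.1 := by
    obtain ⟨z, hz⟩ : x ∈ Set.range 𝓘.subschemeι := by
      rw [𝓘.range_subschemeι]; exact hx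
    have hzU : z ∈ 𝓘.subschemeι ⁻¹ᵁ U.1 := by
      show 𝓘.subschemeι z ∈ U.1; rw [hz]; exact hxU'
    have := ((genericPoint_spec ↥𝓘.subscheme).mem_open_set_iff
      (𝓘.subschemeι ⁻¹ᵁ U.1).isOpen).mpr ⟨z, trivial, hzU⟩
    exact this
  have hIh : (𝓘.ideal U).height = 1 := by
    have h1 := ringKrullDim_stalk_eq_height U _ hyU
    rw [hcodim, primeIdealOf_genericPoint 𝓘 U hP hyU] at h1
    exact_mod_cast h1.symm
  -- pass to the local ring at `x`
  set p := (U.2.primeIdealOf ⟨x, hxU'⟩).asIdeal with hp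
  have hIp : 𝓘.ideal U ≤ p := (mem_support_iff_le_primeIdealOf 𝓘 U x hxU').mp hx
  let _ : Algebra Γ(X, U.1) (X.presheaf.stalk x) := (X.presheaf.germ U.1 x hxU').hom.toAlgebra
  have hloc : IsLocalization.AtPrime (X.presheaf.stalk x) p := U.2.isLocalization_stalk ⟨x, hxU'⟩
  obtain ⟨hdomS, hufdS⟩ := hufd x hx
  have hdisj : Disjoint (p.primeCompl : Set Γ(X, U.1)) (𝓘.ideal U : Set Γ(X, U.1)) :=
    Set.disjoint_left.mpr fun a ha haI => ha (hIp haI)
  have hJprime : ((𝓘.ideal U).map (algebraMap Γ(X, U.1) (X.presheaf.stalk x))).IsPrime :=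
    IsLocalization.isPrime_of_isPrime_disjoint p.primeCompl _ _ hP hdisj
  have hJh : ((𝓘.ideal U).map (algebraMap Γ(X, U.1) (X.presheaf.stalk x))).height = 1 :=
    (IsLocalization.height_map_of_disjoint p.primeCompl (𝓘.ideal U) hdisj).trans hIh
  have hJne := Ideal.ne_bot_of_height_eq_one hJh
  obtain ⟨π, hπJ, hπ⟩ := Ideal.IsPrime.exists_mem_prime_of_ne_bot hJprime hJne
  have hJ := Ideal.eq_span_singleton_of_height_eq_one hJh hπJ hπ
  have hπnzd : π ∈ nonZeroDivisors (X.presheaf.stalk x) :=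
    mem_nonZeroDivisors_of_ne_zero hπ.ne_zero
  obtain ⟨h, hhp, a, H⟩ := exists_away_principal_nzd p (𝓘.ideal U) (X.presheaf.stalk x) π hπnzd hJ
  let _ : Algebra Γ(X, U.1) Γ(X, X.basicOpen h) :=
    (X.presheaf.map (homOfLE (X.basicOpen_le h)).op).hom.toAlgebra
  have hlocB : IsLocalization.Away h Γ(X, X.basicOpen h) := U.2.isLocalization_basicOpen h
  obtain ⟨hnzd, hmap⟩ := H Γ(X, X.basicOpen h)
  refine ⟨X.affineBasicOpen h, ?_, algebraMap Γ(X, U.1) Γ(X, X.basicOpen h) a, hnzd, ?_⟩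
  · have h1 := (Groth.Agent.Lib.Helper29.Punct.mem_basicOpen_fromSpec U.2 h
      (U.2.primeIdealOf ⟨x, hxU'⟩)).mpr hhp
    rw [U.2.fromSpec_primeIdealOf ⟨x, hxU'⟩] at h1
    exact h1
  · rw [← 𝓘.map_ideal_basicOpen U h]
    exact hmap

end Groth.Agent.Lib.Helper29.EffC
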