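import Groth.Agent.Lib.Helper29.EffC3
import Groth.Agent.Lib.Helper29.CDivRel
import Mathlib
universe u
open CategoryTheory CategoryTheory.Limits AlgebraicGeometry TopologicalSpace Opposite

/-! # Subtraction of effective Cartier divisors and decomposition into prime divisors -/

namespace Groth.Agent.Lib.Helper29.EffC
open Groth.Agent.Lib.Helper10.DivLocal Groth.Agent.Lib.Helper25.BlowUpUP

section Algebra

/-- The ideal quotient commutes with localisation away from an element, for finitely generated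
denominators. -/
theorem map_colon_away {A B : Type u} [CommRing A] [CommRing B] [Algebra A B] (h : A)
    [IsLocalization.Away h B] (I J : Ideal A) (hJ : J.FG) :
    (Submodule.colon I (J : Set A)).map (algebraMap A B) =
      Submodule.colon (I.map (algebraMap A B)) ((J.map (algebraMap A B) : Ideal B) : Set B) := by
  apply le_antisymm
  · rw [Ideal.map_le_iff_le_comap]
    intro a ha
    rw [Ideal.mem_comap, Submodule.mem_colon]
    intro t ht
    rw [Submodule.mem_colon] at ha
    refine Submodule.span_induction (p := fun t _ => algebraMap A B a • t ∈ I.map (algebraMap A B))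
      ?_ ?_ ?_ ?_ ht
    · rintro _ ⟨j, hj, rfl⟩
      have := ha j hj
      rw [smul_eq_mul, ← map_mul]
      exact Ideal.mem_map_of_mem _ this
    · rw [smul_zero]; exact Submodule.zero_mem _
    · intro x y _ _ hx hy
      rw [smul_add]; exact Submodule.add_mem _ hx hy
    · intro c x _ hx
      rw [smul_comm]; exact Submodule.smul_mem _ c hx
  · intro b hb
    obtain ⟨a, ⟨s, hs⟩, rfl⟩ := IsLocalization.exists_mk'_eq (Submonoid.powers h) b
    have hunit : IsUnit (algebraMap A B s) :=
      IsLocalization.map_units B (⟨s, hs⟩ : Submonoid.powers h)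
    have hspec := IsLocalization.mk'_spec B a (⟨s, hs⟩ : Submonoid.powers h)
    have ha : algebraMap A B a ∈
        Submodule.colon (I.map (algebraMap A B)) ((J.map (algebraMap A B) : Ideal B) : Set B) := by
      rw [← hspec]
      exact Ideal.mul_mem_right _ _ hb
    obtain ⟨T, rfl⟩ := hJ
    have hex : ∀ j ∈ T, ∃ m ∈ Submonoid.powers h, m * (a * j) ∈ I := by
      intro j hj
      rw [Submodule.mem_colon] at ha
      have h1 := ha (algebraMap A B j) (Ideal.mem_map_of_mem _ (Ideal.subset_span hj))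
      rw [smul_eq_mul, ← map_mul, IsLocalization.mem_map_algebraMap_iff (Submonoid.powers h)] at h1
      obtain ⟨⟨⟨i, hi⟩, ⟨m', hm'⟩⟩, h2⟩ := h1
      rw [← map_mul, IsLocalization.eq_iff_exists (Submonoid.powers h)] at h2
      obtain ⟨⟨c, hc⟩, h3⟩ := h2
      refine ⟨c * m', Submonoid.mul_mem _ hc hm', ?_⟩
      have : c * m' * (a * j) = c * i := by
        simp only at h3
        rw [← h3]; ring
      rw [this]
      exact Ideal.mul_mem_left _ _ hi
    choose! m hm hmI using hex
    have hprod : (∏ j ∈ T, m j) ∈ Submonoid.powers h := Submonoid.prod_mem _ hm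
    have hM : (∏ j ∈ T, m j) * a ∈ Submodule.colon I ((Ideal.span (T : Set A) : Ideal A) : Set A) := by
      rw [Submodule.mem_colon]
      intro t ht
      refine Submodule.span_induction (p := fun t _ => ((∏ j ∈ T, m j) * a) • t ∈ I)
        ?_ ?_ ?_ ?_ ht
      · intro j hj
        obtain ⟨c, hc⟩ := Finset.dvd_prod_of_mem m hj
        rw [smul_eq_mul, hc]
        have : m j * c * a * j = c * (m j * (a * j)) := by ring
        rw [this]
        exact Ideal.mul_mem_left _ _ (hmI j hj)
      · rw [smul_zero]; exact Submodule.zero_mem _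
      · intro x y _ _ hx hy
        rw [smul_add]; exact Submodule.add_mem _ hx hy
      · intro c x _ hx
        rw [smul_comm]; exact Submodule.smul_mem _ c hx
    have hMmap := Ideal.mem_map_of_mem (algebraMap A B) hM
    rw [map_mul] at hMmap
    have hunitM : IsUnit (algebraMap A B (∏ j ∈ T, m j)) :=
      IsLocalization.map_units B (⟨_, hprod⟩ : Submonoid.powers h)
    have ha' : algebraMap A B a ∈ (Submodule.colon I
        ((Ideal.span (T : Set A) : Ideal A) : Set A)).map (algebraMap A B) := by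
      have := Ideal.mul_mem_left _ (↑hunitM.unit⁻¹ : B) hMmap
      rwa [← mul_assoc, IsUnit.val_inv_mul, one_mul] at this
    have : IsLocalization.mk' B a (⟨s, hs⟩ : Submonoid.powers h) =
        algebraMap A B a * ↑hunit.unit⁻¹ := by
      rw [← hspec, mul_assoc, IsUnit.mul_val_inv, mul_one]
    rw [this]
    exact Ideal.mul_mem_right _ _ ha'

end Algebra

section Scheme
variable {X : Scheme.{u}}

/-- The ideal quotient `(D : D')` of two ideal sheaves on a locally Noetherian scheme. -/
noncomputable def colonIdeal [IsLocallyNoetherian X] (D D' : X.IdealSheafData) :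
    X.IdealSheafData where
  ideal U := Submodule.colon (D.ideal U) ((D'.ideal U : Ideal Γ(X, U.1)) : Set Γ(X, U.1))
  map_ideal_basicOpen U f := by
    letI : Algebra Γ(X, U.1) Γ(X, X.basicOpen f) :=
      (X.presheaf.map (homOfLE (X.basicOpen_le f)).op).hom.toAlgebra
    haveI : IsLocalization.Away f Γ(X, X.basicOpen f) := U.2.isLocalization_basicOpen f
    have hA : IsNoetherianRing Γ(X, U.1) := IsLocallyNoetherian.component_noetherian U
    have := map_colon_away (B := Γ(X, X.basicOpen f)) f (D.ideal U) (D'.ideal U)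
      (IsNoetherian.noetherian _)
    rw [← D.map_ideal_basicOpen U f, ← D'.map_ideal_basicOpen U f]
    exact this

theorem colonIdeal_ideal [IsLocallyNoetherian X] (D D' : X.IdealSheafData) (U : X.affineOpens) :
    (colonIdeal D D').ideal U =
      Submodule.colon (D.ideal U) ((D'.ideal U : Ideal Γ(X, U.1)) : Set Γ(X, U.1)) := rfl

theorem colon_span_singleton {A : Type u} [CommRing A] (f' g : A) (hf' : f' ∈ nonZeroDivisors A) :
    Submodule.colon (Ideal.span {f' * g}) ((Ideal.span {f'} : Ideal A) : Set A) =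
      Ideal.span {g} := by
  ext a
  rw [Submodule.mem_colon, Ideal.mem_span_singleton]
  constructor
  · intro h
    have h1 := h f' (Ideal.mem_span_singleton_self f')
    rw [smul_eq_mul, Ideal.mem_span_singleton] at h1
    obtain ⟨b, hb⟩ := h1
    have h2 : f' * (a - g * b) = 0 := by
      have : f' * (a - g * b) = a * f' - f' * g * b := by ring
      rw [this, hb, sub_self]
    have h3 := (mem_nonZeroDivisors_iff.mp hf').1 _ h2
    exact ⟨b, by rw [← sub_eq_zero]; exact h3⟩
  · rintro ⟨c, rfl⟩ t ht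
    obtain ⟨s, rfl⟩ := Ideal.mem_span_singleton.mp ht
    rw [smul_eq_mul, Ideal.mem_span_singleton]
    exact ⟨c * s, by ring⟩

/-- Subtraction of effective Cartier divisors. -/
theorem exists_effCartier_mul_eq [IsLocallyNoetherian X] (D D' : X.IdealSheafData)
    (hD : BlowUp.IsEffCartierIdeal D) (hD' : BlowUp.IsEffCartierIdeal D') (hle : D ≤ D') :
    ∃ D'' : X.IdealSheafData, BlowUp.IsEffCartierIdeal D'' ∧ D = D' * D'' := by
  have hloc : ∀ x : X, ∃ V : X.affineOpens, x ∈ V.1 ∧ ∃ f' g : Γ(X, V.1),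
      f' ∈ nonZeroDivisors Γ(X, V.1) ∧ g ∈ nonZeroDivisors Γ(X, V.1) ∧
      D.ideal V = Ideal.span {f' * g} ∧ D'.ideal V = Ideal.span {f'} := by
    intro x
    obtain ⟨U₁, hxU₁, f₁, hf₁, hI₁⟩ := hD x
    obtain ⟨V, f', hxV, hVU₁', hf', hI'⟩ := exists_affine_principal_le D' hD' x U₁.1 hxU₁
    have hVU₁ : V ≤ U₁ := hVU₁'
    obtain ⟨hf, hI⟩ := principal_of_le D hVU₁ f₁ hf₁ hI₁
    have hmem : (X.presheaf.map (homOfLE hVU₁).op).hom f₁ ∈ D'.ideal V := by
      apply hle V
      rw [hI]; exact Ideal.mem_span_singleton_self _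
    rw [hI', Ideal.mem_span_singleton] at hmem
    obtain ⟨g, hg⟩ := hmem
    rw [hg] at hf hI
    exact ⟨V, hxV, f', g, hf', (mul_mem_nonZeroDivisors.mp hf).2, hI, hI'⟩
  choose V hxV f' g hf' hg hI hI' using hloc
  have hcolon : ∀ x, (colonIdeal D D').ideal (V x) = Ideal.span {g x} := by
    intro x
    rw [colonIdeal_ideal, hI x, hI' x]
    exact colon_span_singleton (f' x) (g x) (hf' x)
  refine ⟨colonIdeal D D', fun x => ⟨V x, hxV x, g x, hg x, hcolon x⟩, ?_⟩
  refine Scheme.IdealSheafData.ext_of_iSup_eq_top V ?_ ?_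
  · apply Opens.ext
    rw [Opens.coe_iSup, Opens.coe_top]
    apply Set.eq_univ_of_forall
    intro z
    exact Set.mem_iUnion.mpr ⟨z, hxV z⟩
  · intro x
    rw [Scheme.IdealSheafData.ideal_mul, Pi.mul_apply, hcolon x, hI x, hI' x,
      Ideal.span_singleton_mul_span_singleton]

/-- Ideal sheaves on a Noetherian scheme satisfy the ascending chain condition. -/
theorem wellFoundedGT_idealSheafData [IsNoetherian X] : WellFoundedGT X.IdealSheafData := by
  have hall : ∀ x : X, ∃ U : X.affineOpens, x ∈ U.1 := fun x => by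
    obtain ⟨_, ⟨U₀, hU₀, rfl⟩, hxU, -⟩ :=
      X.isBasis_affineOpens.exists_subset_of_mem_open (Set.mem_univ x) isOpen_univ
    exact ⟨⟨U₀, hU₀⟩, hxU⟩
  choose U hxU using hall
  obtain ⟨T, hT⟩ := CompactSpace.elim_nhds_subcover (fun x => ((U x).1 : Set X))
    (fun x => (U x).1.isOpen.mem_nhds (hxU x))
  let Φ : X.IdealSheafData → (∀ x : T, (Ideal Γ(X, (U x.1).1))ᵒᵈ) :=
    fun I x => OrderDual.toDual (I.ideal (U x.1))
  have hcover : ⨆ x : T, (U x.1).1 = ⊤ := by
    apply Opens.ext
    rw [Opens.coe_iSup, Opens.coe_top]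
    apply Set.eq_univ_of_forall
    intro z
    have hz : z ∈ ⋃ x ∈ T, ((U x).1 : Set X) := by rw [hT]; trivial
    simp only [Set.mem_iUnion, exists_prop] at hz
    obtain ⟨x, hxT, hzx⟩ := hz
    exact Set.mem_iUnion.mpr ⟨⟨x, hxT⟩, hzx⟩
  have hanti : StrictAnti Φ := by
    intro I J hIJ
    have hle : Φ J ≤ Φ I := fun x => OrderDual.toDual_le_toDual.mpr (hIJ.le (U x.1))
    refine lt_of_le_of_ne hle ?_
    intro heq
    apply hIJ.ne
    refine Scheme.IdealSheafData.ext_of_iSup_eq_top (fun x : T => U x.1) hcover ?_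
    intro x
    exact (OrderDual.toDual.injective (congrFun heq x)).symm
  have hN : ∀ x : T, WellFoundedLT (Ideal Γ(X, (U x.1).1))ᵒᵈ := fun x => by
    have : IsNoetherianRing Γ(X, (U x.1).1) := IsLocallyNoetherian.component_noetherian (U x.1)
    infer_instance
  exact hanti.wellFoundedGT

/-- An effective Cartier divisor set-theoretically contained in a union of integral effective
Cartier divisors, if nonempty, contains one of them. -/
theorem exists_le_of_support_subset [IsLocallyNoetherian X] (D : X.IdealSheafData)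
    (hD : BlowUp.IsEffCartierIdeal D) {r : ℕ} (Ds : Fin r → X.IdealSheafData)
    (hDs : ∀ i, BlowUp.IsEffCartierIdeal (Ds i)) (hint : ∀ i, IsIntegral (Ds i).subscheme)
    (hsub : (D.support : Set X) ⊆ ⋃ i, ((Ds i).support : Set X)) (hne : D ≠ ⊤) :
    ∃ i, D ≤ Ds i := by
  have hsupp : D.support ≠ ⊥ := fun h => hne (by simpa using h)
  obtain ⟨x, hx⟩ : ∃ x, x ∈ D.support := by
    by_contra hcon
    push Not at hcon
    apply hsupp
    apply Closeds.ext
    rw [Closeds.coe_bot]
    exact Set.eq_empty_of_forall_notMem hcon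
  obtain ⟨V, hxV, f, hf, hDV⟩ := hD x
  have hA : IsNoetherianRing Γ(X, V.1) := IsLocallyNoetherian.component_noetherian V
  have hItop : D.ideal V ≠ ⊤ := by
    intro htop
    have h1 := (mem_support_iff_le_primeIdealOf D V x hxV).mp hx
    rw [htop, top_le_iff] at h1
    exact (V.2.primeIdealOf ⟨x, hxV⟩).2.ne_top h1
  obtain ⟨⟨q, hq⟩⟩ := Ideal.nonempty_minimalPrimes hItop
  have hqprime : q.IsPrime := hq.isPrime
  have hqh : q.height ≤ 1 := by
    have : (D.ideal V).IsPrincipal := ⟨⟨f, by rw [hDV]⟩⟩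
    exact Ideal.height_le_one_of_isPrincipal_of_mem_minimalPrimes (D.ideal V) q hq
  obtain ⟨ξ, hξV, hξ⟩ := exists_point_of_prime V q
  have hξD : ξ ∈ D.support := by
    rw [mem_support_iff_le_primeIdealOf D V ξ hξV, hξ]; exact hq.1.2
  have hdim : ringKrullDim (X.presheaf.stalk ξ) ≤ 1 := by
    rw [ringKrullDim_stalk_eq_height V ξ hξV, hξ]
    exact_mod_cast hqh
  obtain ⟨i, hξi⟩ := Set.mem_iUnion.mp (hsub hξD)
  refine ⟨i, ?_⟩
  have hξi' : ξ ∈ (Ds i).support := hξi
  haveI := hint i
  obtain ⟨V', fi, hξV', -, hfi, hDiV'⟩ := exists_affine_principal_le (Ds i) (hDs i) ξ ⊤ trivial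
  have hA' : IsNoetherianRing Γ(X, V'.1) := IsLocallyNoetherian.component_noetherian V'
  have hP : ((Ds i).ideal V').IsPrime := isPrime_ideal_of_isIntegral (Ds i) V' ξ hξV' hξi'
  have hPq : (Ds i).ideal V' ≤ (V'.2.primeIdealOf ⟨ξ, hξV'⟩).asIdeal :=
    (mem_support_iff_le_primeIdealOf (Ds i) V' ξ hξV').mp hξi'
  have hq''h : (V'.2.primeIdealOf ⟨ξ, hξV'⟩).asIdeal.height ≤ 1 := by
    have := hdim
    rw [ringKrullDim_stalk_eq_height V' ξ hξV'] at this
    exact_mod_cast this
  have hPeq : (Ds i).ideal V' = (V'.2.primeIdealOf ⟨ξ, hξV'⟩).asIdeal := by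
    by_contra hcon
    have hlt : (Ds i).ideal V' < (V'.2.primeIdealOf ⟨ξ, hξV'⟩).asIdeal := lt_of_le_of_ne hPq hcon
    have hfin : (V'.2.primeIdealOf ⟨ξ, hξV'⟩).asIdeal.FiniteHeight :=
      (Ideal.finiteHeight_iff _).mpr (Or.inr (ne_top_of_le_ne_top (by simp) hq''h))
    have h1 := Ideal.height_strict_mono_of_isPrime_of_isPrime hlt
    have h2 : ((Ds i).ideal V').height = 0 := by
      have := lt_of_lt_of_le h1 hq''h
      exact Order.lt_one_iff.mp this
    have h3 := Ideal.height_eq_zero_iff.mp h2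
    have h4 := Ideal.disjoint_nonZeroDivisors_of_mem_minimalPrimes h3
    have h5 : fi ∈ (Ds i).ideal V' := by rw [hDiV']; exact Ideal.mem_span_singleton_self _
    exact Set.disjoint_left.mp h4 h5 hfi
  -- the generic point of `Ds i`
  set η := (Ds i).subschemeι (genericPoint ↥(Ds i).subscheme) with hη
  have hηspec : ∀ w : X, w ∈ (Ds i).support → η ⤳ w := by
    intro w hw
    obtain ⟨z, rfl⟩ : w ∈ Set.range (Ds i).subschemeι := by
      rw [(Ds i).range_subschemeι]; exact hw
    exact ((genericPoint_spec _).specializes trivial).map (Ds i).subschemeι.continuous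
  have hηV' : η ∈ V'.1 := (hηspec ξ hξi').mem_open V'.1.isOpen hξV'
  have hηξ : η = ξ := by
    have h1 := primeIdealOf_genericPoint (Ds i) V' hP hηV'
    have h2 : V'.2.primeIdealOf ⟨η, hηV'⟩ = V'.2.primeIdealOf ⟨ξ, hξV'⟩ := by
      apply PrimeSpectrum.ext
      rw [h1, hPeq]
    have h3 := V'.2.fromSpec_primeIdealOf ⟨η, hηV'⟩
    rw [h2, V'.2.fromSpec_primeIdealOf ⟨ξ, hξV'⟩] at h3
    exact h3.symm
  intro W
  by_cases hηW : η ∈ W.1
  · have hPW : ((Ds i).ideal W).IsPrime := isPrime_ideal_of_isIntegral (Ds i) W η hηW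
      (by rw [← SetLike.mem_coe, ← (Ds i).range_subschemeι]; exact ⟨_, rfl⟩)
    rw [← primeIdealOf_genericPoint (Ds i) W hPW hηW]
    refine (mem_support_iff_le_primeIdealOf D W η hηW).mp ?_
    rw [hηξ]; exact hξD
  · have hdisj : Disjoint (W.1 : Set X) ((Ds i).support : Set X) := by
      rw [Set.disjoint_left]
      intro w hwW hw
      exact hηW ((hηspec w hw).mem_open W.1.isOpen hwW)
    rw [Groth.Agent.Lib.Helper29.CDivRel.ideal_eq_top_of_disjoint (Ds i) W hdisj]
    exact le_top

/-- Decomposition of an effective Cartier divisor supported on a union of integral ones. -/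
theorem exists_eq_prod_pow [IsNoetherian X] {r : ℕ} (Ds : Fin r → X.IdealSheafData)
    (hDs : ∀ i, BlowUp.IsEffCartierIdeal (Ds i)) (hint : ∀ i, IsIntegral (Ds i).subscheme)
    (D : X.IdealSheafData) :
    BlowUp.IsEffCartierIdeal D → (D.support : Set X) ⊆ ⋃ i, ((Ds i).support : Set X) →
      ∃ a : Fin r → ℕ, D = ∏ i, Ds i ^ a i := by
  haveI := wellFoundedGT_idealSheafData (X := X)
  induction D using WellFoundedGT.induction with
  | ind D ih =>
    intro hD hsub
    by_cases htop : D = ⊤
    · refine ⟨fun _ => 0, ?_⟩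
      simp only [pow_zero, Finset.prod_const_one]
      rw [htop]; rfl
    obtain ⟨i, hle⟩ := exists_le_of_support_subset D hD Ds hDs hint hsub htop
    obtain ⟨D'', hD'', hmul⟩ := exists_effCartier_mul_eq D (Ds i) hD (hDs i) hle
    have hle'' : D ≤ D'' := by
      intro W
      rw [hmul, Scheme.IdealSheafData.ideal_mul, Pi.mul_apply]
      exact (Ideal.mul_le_left : D''.ideal W * (Ds i).ideal W ≤ D''.ideal W) |> (mul_comm ((Ds i).ideal W) (D''.ideal W) ▸ ·)
    have hne'' : D ≠ D'' := by
      intro heq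
      haveI := hint i
      obtain ⟨z⟩ : Nonempty ↥(Ds i).subscheme := inferInstance
      set w := (Ds i).subschemeι z with hw
      have hwi : w ∈ (Ds i).support := by
        rw [← SetLike.mem_coe, ← (Ds i).range_subschemeι]; exact ⟨_, rfl⟩
      have hwD : w ∈ D.support := Scheme.IdealSheafData.support_antitone hle hwi
      obtain ⟨V, hwV, f, hf, hDV⟩ := hD w
      have h1 : D.ideal V = (Ds i).ideal V * D.ideal V := by
        conv_lhs => rw [hmul]
        rw [Scheme.IdealSheafData.ideal_mul, Pi.mul_apply, ← heq]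
      have h2 : f ∈ (Ds i).ideal V * D.ideal V := by
        rw [← h1, hDV]; exact Ideal.mem_span_singleton_self _
      rw [hDV, Ideal.mem_mul_span_singleton] at h2
      obtain ⟨p, hp, hpf⟩ := h2
      have h3 : f * (p - 1) = 0 := by
        have : f * (p - 1) = p * f - f := by ring
        rw [this, hpf, sub_self]
      have h4 := (mem_nonZeroDivisors_iff.mp hf).1 _ h3
      have h5 : p = 1 := sub_eq_zero.mp h4
      have h6 : (Ds i).ideal V = ⊤ := by
        rw [Ideal.eq_top_iff_one, ← h5]; exact hp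
      have h7 := (mem_support_iff_le_primeIdealOf (Ds i) V w hwV).mp hwi
      rw [h6, top_le_iff] at h7
      exact (V.2.primeIdealOf ⟨w, hwV⟩).2.ne_top h7
    have hsub'' : (D''.support : Set X) ⊆ ⋃ i, ((Ds i).support : Set X) :=
      fun w hw => hsub (Scheme.IdealSheafData.support_antitone hle'' hw)
    obtain ⟨a, ha⟩ := ih D'' (lt_of_le_of_ne hle'' hne'') hD'' hsub''
    refine ⟨fun j => a j + if i = j then 1 else 0, ?_⟩
    rw [hmul, ha]
    simp only [pow_add, Finset.prod_mul_distrib]
    rw [mul_comm]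
    congr 1
    rw [Finset.prod_pow_boole]
    simp

end Scheme

end Groth.Agent.Lib.Helper29.EffC
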