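import Groth.Agent.Lib.Helper29.Aut2
import Groth.Agent.Lib.Helper29.Glue1
import Groth.Agent.Lib.Helper29.Desc3
universe u
open CategoryTheory CategoryTheory.Limits AlgebraicGeometry TopologicalSpace Opposite

/-! # Endomorphisms of an invertible module are multiplications by global functions -/

namespace Groth.Agent.Lib.Helper29.EndInv
open Groth.Agent.Lib.Helper29.QCoh Groth.Agent.Lib.Helper29.QCoh.Glue
open Groth.Agent.Lib.Helper29.AutPn Groth.Agent.Lib.Helper29.Desc

variable {X : Scheme.{u}}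

/-- Endomorphisms of an invertible module are multiplication by a global function. -/
theorem exists_eq_smulHom {N : X.Modules} (hN : PicF.IsInvertible N) (ψ : N ⟶ N) :
    ∃ a : Γ(X, ⊤), ψ = smulHom N a := by
  choose U e hxU he using fun x : X => exists_isTriv hN x
  choose a ha using fun x : X => (he x).exists_eq_smul (ψ.app (U x) (e x))
  have hcompat : ∀ x y, rres X (inf_le_left : U x ⊓ U y ≤ U x) (a x) =
      rres X (inf_le_right : U x ⊓ U y ≤ U y) (a y) := by
    intro x y
    have hx := (he x).restrict (inf_le_left : U x ⊓ U y ≤ U x)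
    have hy := (he y).restrict (inf_le_right : U x ⊓ U y ≤ U y)
    obtain ⟨u, -, hu⟩ := IsTriv.exists_isUnit_smul hx hy
    apply hy.smul_left_cancel
    have h1 : ψ.app _ (res N (inf_le_right : U x ⊓ U y ≤ U y) (e y)) =
        rres X (inf_le_right : U x ⊓ U y ≤ U y) (a y) •
          res N (inf_le_right : U x ⊓ U y ≤ U y) (e y) := by
      rw [app_res, ha y, res_smul']
    have h2 : ψ.app _ (res N (inf_le_left : U x ⊓ U y ≤ U x) (e x)) =
        rres X (inf_le_left : U x ⊓ U y ≤ U x) (a x) •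
          res N (inf_le_left : U x ⊓ U y ≤ U x) (e x) := by
      rw [app_res, ha x, res_smul']
    calc rres X (inf_le_left : U x ⊓ U y ≤ U x) (a x) •
          res N (inf_le_right : U x ⊓ U y ≤ U y) (e y)
        = rres X (inf_le_left : U x ⊓ U y ≤ U x) (a x) •
            (u • res N (inf_le_left : U x ⊓ U y ≤ U x) (e x)) := by rw [hu]
      _ = u • (rres X (inf_le_left : U x ⊓ U y ≤ U x) (a x) •
            res N (inf_le_left : U x ⊓ U y ≤ U x) (e x)) := by
          rw [smul_smul, smul_smul, mul_comm]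
      _ = u • ψ.app _ (res N (inf_le_left : U x ⊓ U y ≤ U x) (e x)) := by rw [h2]
      _ = ψ.app _ (u • res N (inf_le_left : U x ⊓ U y ≤ U x) (e x)) := (app_smul' ψ u _).symm
      _ = ψ.app _ (res N (inf_le_right : U x ⊓ U y ≤ U y) (e y)) := by rw [hu]
      _ = _ := h1
  have hcov : (⊤ : X.Opens) ≤ iSup U := fun x _ => Opens.mem_iSup.mpr ⟨x, hxU x⟩
  obtain ⟨A, hA⟩ := exists_glue_fun U ⊤ (fun _ => le_top) hcov a hcompat
  refine ⟨A, ?_⟩
  apply Scheme.Modules.hom_ext
  intro W
  ext σ
  rw [smulHom_app]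
  refine eq_of_res_cover_eq N (fun x => W ⊓ U x) (fun x => inf_le_left)
    (fun z hz => Opens.mem_iSup.mpr ⟨z, ⟨hz, hxU z⟩⟩) _ _ fun x => ?_
  obtain ⟨r, hr⟩ := ((he x).restrict (inf_le_right : W ⊓ U x ≤ U x)).exists_eq_smul
    (res N (inf_le_left : W ⊓ U x ≤ W) σ)
  have h2 : ψ.app _ (res N (inf_le_right : W ⊓ U x ≤ U x) (e x)) =
      rres X (inf_le_right : W ⊓ U x ≤ U x) (a x) •
        res N (inf_le_right : W ⊓ U x ≤ U x) (e x) := by
    rw [app_res, ha x, res_smul']
  have h3 : rres X (inf_le_right : W ⊓ U x ≤ U x) (a x) =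
      rres X (inf_le_left : W ⊓ U x ≤ W) (rres X (le_top : W ≤ ⊤) A) := by
    rw [← hA x]
    rw [map_map_apply, map_map_apply]
  rw [← app_res, res_smul', hr, app_smul', h2, ← h3, smul_smul, smul_smul, mul_comm]

/-- If multiplication by `a` is a monomorphism of an invertible module, `a` is a
nonzerodivisor. -/
theorem mem_nonZeroDivisors_of_mono {N : X.Modules} (hN : PicF.IsInvertible N) (a : Γ(X, ⊤))
    [Mono (smulHom N a)] : a ∈ nonZeroDivisors Γ(X, ⊤) := by
  rw [mem_nonZeroDivisors_iff_right]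
  intro b hb
  have hinj := (mono_iff_app_injective (smulHom N a)).mp inferInstance
  choose U e hxU he using fun x : X => exists_isTriv hN x
  have hcov : (⊤ : X.Opens) ≤ iSup U := fun x _ => Opens.mem_iSup.mpr ⟨x, hxU x⟩
  refine fun_ext_of_cover U ⊤ (fun _ => le_top) hcov b 0 fun x => ?_
  rw [map_zero]
  apply (he x).smul_left_cancel
  rw [zero_smul]
  apply hinj (U x)
  rw [map_zero, smulHom_app, smul_smul, ← map_mul, mul_comm, hb, map_zero, zero_smul]

end Groth.Agent.Lib.Helper29.EndInv
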