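import Groth.Agent.Lib.Helper29.GModTriv2
import Groth.Prelude.Def_W4bk4grossh111Obs
import Groth.Prelude.Def_W4bk4grossh1223Act

/-! Natural families on points over a field glue to global functions; matrix coefficient
functions of a `G`-module (helper29, for S11191). -/

set_option autoImplicit false
universe u
open CategoryTheory MonoidalCategory CartesianMonoidalCategory MonObj AlgebraicGeometry
open TensorProduct VecGrp

namespace Groth.Agent.Lib.Helper29.GModCoef

variable {k : Type u} [Field k]

section Gen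

variable (P : Over (Spec (CommRingCat.of k)))

/-- the `k`-algebra structure on `C` induced by an affine point `Spec C ⟶ P`. -/
@[reducible] noncomputable def algP (C : CommRingCat.{u}) (j : Spec C ⟶ P.left) : Algebra k C :=
  (Spec.preimage (j ≫ P.hom)).hom.toAlgebra

theorem specMap_algP (C : CommRingCat.{u}) (j : Spec C ⟶ P.left) :
    Spec.map (CommRingCat.ofHom (@algebraMap k C _ _ (algP P C j))) = j ≫ P.hom :=
  Spec.map_preimage _

/-- an affine point of `P` as a point over `k`. -/
noncomputable def ptP (C : CommRingCat.{u}) (j : Spec C ⟶ P.left) :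
    @VecGrp.pt k _ C _ (algP P C j) ⟶ P :=
  Over.homMk j (specMap_algP P C j).symm

theorem ptP_left (C : CommRingCat.{u}) (j : Spec C ⟶ P.left) : (ptP P C j).left = j := rfl

variable {P}

/-- the algebra map between induced structures. -/
noncomputable def algHomP {C D : CommRingCat.{u}} (ψ : C ⟶ D) (j : Spec C ⟶ P.left) :
    @AlgHom k C D _ _ _ (algP P C j) (algP P D (Spec.map ψ ≫ j)) :=
  @AlgHom.mk k C D _ _ _ (algP P C j) (algP P D (Spec.map ψ ≫ j)) ψ.hom (fun r => by
      have h : Spec.preimage ((Spec.map ψ ≫ j) ≫ P.hom) = Spec.preimage (j ≫ P.hom) ≫ ψ := by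
        apply Spec.map_injective
        rw [Spec.map_preimage, Spec.map_comp, Spec.map_preimage, Category.assoc]
      change ψ.hom ((Spec.preimage (j ≫ P.hom)).hom r) =
        (Spec.preimage ((Spec.map ψ ≫ j) ≫ P.hom)).hom r
      rw [h]
      rfl)

theorem ptMap_algHomP {C D : CommRingCat.{u}} (ψ : C ⟶ D) (j : Spec C ⟶ P.left) :
    @Eq (@VecGrp.pt k _ D _ (algP P D (Spec.map ψ ≫ j)) ⟶ P)
      (@ptMap k _ C D _ (algP P C j) _ (algP P D (Spec.map ψ ≫ j)) (algHomP ψ j) ≫ ptP P C j)
      (ptP P D (Spec.map ψ ≫ j)) := by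
  apply Over.OverMorphism.ext
  rfl

/-- a natural family of elements on the points of `P` with values in `k`-algebras. -/
structure NatFam (P : Over (Spec (CommRingCat.of k))) where
  c : ∀ (B : Type u) [CommRing B] [Algebra k B] (_ : VecGrp.pt k B ⟶ P), B
  nat : ∀ {B B' : Type u} [CommRing B] [Algebra k B] [CommRing B'] [Algebra k B']
    (φ : B →ₐ[k] B') (g : VecGrp.pt k B ⟶ P), c B' (ptMap φ ≫ g) = φ (c B g)

/-- the associated family on affine points. -/
noncomputable def NatFam.fam (A : NatFam P) : Yon.Fam P.left PUnit.{u+1} where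
  a C j _ := @NatFam.c k _ P A C _ (algP P C j) (ptP P C j)
  nat C D ψ j _ := by
    rw [← ptMap_algHomP ψ j]
    exact @NatFam.nat k _ P A C D _ (algP P C j) _ (algP P D (Spec.map ψ ≫ j)) (algHomP ψ j)
      (ptP P C j)

/-- the global function attached to a natural family. -/
noncomputable def NatFam.sec (A : NatFam P) : Γ(P.left, ⊤) := A.fam.sec PUnit.unit

theorem NatFam.sec_spec (A : NatFam P) (B : Type u) [CommRing B] [hB : Algebra k B]
    (g : VecGrp.pt k B ⟶ P) :
    (Scheme.ΓSpecIso (CommRingCat.of B)).hom.hom (g.left.appTop.hom A.sec) = A.c B g := by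
  let C : CommRingCat.{u} := CommRingCat.of B
  let j : Spec C ⟶ P.left := g.left
  have hpre : Spec.preimage (j ≫ P.hom) = CommRingCat.ofHom (algebraMap k B) := by
    apply Spec.map_injective
    rw [Spec.map_preimage]
    exact Over.w g
  let φ : @AlgHom k B B _ _ _ hB (algP P C j) :=
    @AlgHom.mk k B B _ _ _ hB (algP P C j) (RingHom.id B) (fun r => by
        change @algebraMap k B _ _ hB r = (Spec.preimage (j ≫ P.hom)).hom r
        rw [hpre]
        rfl)
  have hpt : @Eq (@VecGrp.pt k _ B _ (algP P C j) ⟶ P)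
      (@ptMap k _ B B _ hB _ (algP P C j) φ ≫ g) (ptP P C j) := by
    apply Over.OverMorphism.ext
    change Spec.map (CommRingCat.ofHom (RingHom.id B)) ≫ g.left = g.left
    have : CommRingCat.ofHom (RingHom.id B) = 𝟙 (CommRingCat.of B) := rfl
    rw [this, Spec.map_id, Category.id_comp]
  have h1 := A.fam.app_sec C j PUnit.unit
  have h2 : A.fam.a C j PUnit.unit = @NatFam.c k _ P A B _ (algP P C j) (ptP P C j) := rfl
  have h3 := @NatFam.nat k _ P A B B _ hB _ (algP P C j) φ g
  rw [hpt] at h3
  have h4 : (φ : B → B) (A.c B g) = A.c B g := rfl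
  rw [h4] at h3
  rw [h2, h3] at h1
  have h5 := congrArg (Scheme.ΓSpecIso C).hom.hom h1
  change _ = ((Scheme.ΓSpecIso C).inv ≫ (Scheme.ΓSpecIso C).hom).hom _ at h5
  rw [Iso.inv_hom_id] at h5
  exact h5

/-- global functions agreeing on all points over `k`-algebras are equal. -/
theorem sec_ext_pts (s t : Γ(P.left, ⊤))
    (h : ∀ (B : Type u) [CommRing B] [Algebra k B] (g : VecGrp.pt k B ⟶ P),
      g.left.appTop.hom s = g.left.appTop.hom t) : s = t := by
  apply Yon.sec_ext
  intro C j
  exact @h C _ (algP P C j) (ptP P C j)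

end Gen

section Coef

variable {G : Over (Spec (CommRingCat.of k))} [GrpObj G]
  {M : Type u} [AddCommGroup M] [Module k M] (m : VecGrp.GMod G M) (l : M →ₗ[k] k) (a : M)

/-- evaluation of a linear form on the base change. -/
noncomputable def evl (B : Type u) [CommRing B] [Algebra k B] : W k M B →ₗ[k] B :=
  (TensorProduct.rid k B).toLinearMap ∘ₗ l.lTensor B

theorem evl_tmul (B : Type u) [CommRing B] [Algebra k B] (c : B) (y : M) :
    evl l B (c ⊗ₜ[k] y) = l y • c := by
  rw [evl, LinearMap.comp_apply, LinearMap.lTensor_tmul]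
  exact TensorProduct.rid_tmul _ _

theorem evl_Wmap {B B' : Type u} [CommRing B] [Algebra k B] [CommRing B'] [Algebra k B']
    (φ : B →ₐ[k] B') (x : W k M B) : evl l B' (Wmap (M := M) φ x) = φ (evl l B x) := by
  induction x using TensorProduct.induction_on with
  | zero => simp
  | tmul c y => rw [Wmap_tmul, evl_tmul, evl_tmul, map_smul]
  | add x y hx hy => rw [map_add, map_add, hx, hy, map_add, map_add]

/-- the matrix coefficient family `g ↦ l(g · a)`. -/
noncomputable def coefFam : NatFam G where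
  c B _ _ g := evl l B (m.ρ B g ((1 : B) ⊗ₜ[k] a))
  nat φ g := by
    have h := m.naturality φ g ((1 : _) ⊗ₜ[k] a)
    rw [Wmap_tmul, map_one] at h
    rw [← h, evl_Wmap]

/-- the matrix coefficient function `g ↦ l(g · a)` on `G`. -/
noncomputable def coefFn : Γ(G.left, ⊤) := (coefFam m l a).sec

theorem coefFn_spec (B : Type u) [CommRing B] [Algebra k B] (g : VecGrp.pt k B ⟶ G) :
    (Scheme.ΓSpecIso (CommRingCat.of B)).hom.hom (g.left.appTop.hom (coefFn m l a)) =
      evl l B (m.ρ B g ((1 : B) ⊗ₜ[k] a)) :=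
  (coefFam m l a).sec_spec B g

end Coef

section Obs

variable {G H : Over (Spec (CommRingCat.of k))} [GrpObj G] [GrpObj H]
  {M : Type u} [AddCommGroup M] [Module k M] (m : VecGrp.GMod G M)

theorem app_comp {P Q R : Over (Spec (CommRingCat.of k))} (f : P ⟶ Q) (g : Q ⟶ R)
    (s : Γ(R.left, ⊤)) :
    (f ≫ g).left.appTop.hom s = f.left.appTop.hom (g.left.appTop.hom s) := by
  simp only [Over.comp_left, Scheme.Hom.comp_appTop, CommRingCat.comp_apply]

theorem ΓSpecIso_hom_injective (B : Type u) [CommRing B] :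
    Function.Injective (Scheme.ΓSpecIso (CommRingCat.of B)).hom.hom := by
  intro x y h
  have h5 := congrArg (Scheme.ΓSpecIso (CommRingCat.of B)).inv.hom h
  change ((Scheme.ΓSpecIso (CommRingCat.of B)).hom ≫ (Scheme.ΓSpecIso (CommRingCat.of B)).inv).hom _
    = ((Scheme.ΓSpecIso (CommRingCat.of B)).hom ≫ (Scheme.ΓSpecIso (CommRingCat.of B)).inv).hom _
    at h5
  rw [Iso.hom_inv_id] at h5
  exact h5

/-- matrix coefficients of invariant vectors are right-invariant functions. -/
theorem isRTransInv_coefFn (i : H ⟶ G) (l : M →ₗ[k] k) (a : M) (ha : a ∈ m.fixedUnder i) :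
    AGF.IsRTransInv i (coefFn m l a) := by
  apply sec_ext_pts
  intro B _ _ pp
  change pp.left.appTop.hom (((G ◁ i) ≫ μ[G]).left.appTop.hom (coefFn m l a)) =
    pp.left.appTop.hom ((CartesianMonoidalCategory.fst G H).left.appTop.hom (coefFn m l a))
  rw [← app_comp, ← app_comp]
  have h1 : pp ≫ (G ◁ i) ≫ μ[G] = (pp ≫ CartesianMonoidalCategory.fst G H) *
      ((pp ≫ CartesianMonoidalCategory.snd G H) ≫ i) := by
    rw [Hom.mul_def, ← Category.assoc]
    congr 1
    apply CartesianMonoidalCategory.hom_ext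
    · rw [Category.assoc, whiskerLeft_fst, lift_fst]
    · rw [Category.assoc, whiskerLeft_snd, lift_snd, Category.assoc]
  apply ΓSpecIso_hom_injective
  rw [coefFn_spec, coefFn_spec, h1, map_mul, LinearEquiv.mul_apply]
  congr 2
  exact ha B (pp ≫ CartesianMonoidalCategory.snd G H)

theorem evl_eq (l : M →ₗ[k] k) (w : W k M k) :
    evl l k w = l (TensorProduct.lid k M w) := by
  induction w using TensorProduct.induction_on with
  | zero => simp
  | tmul c y =>
    rw [evl_tmul, TensorProduct.lid_tmul, map_smul, smul_eq_mul, smul_eq_mul, mul_comm]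
  | add x y hx hy => rw [map_add, map_add, map_add, hx, hy]

set_option maxHeartbeats 1000000 in
/-- **S11191**: invariant vectors are fixed by the observable hull. -/
theorem fixed_of_rTransInv (i : H ⟶ G) (g : VecGrp.pt k k ⟶ G)
    (hg : ∀ f : Γ(G.left, ⊤), AGF.IsRTransInv i f → AGF.IsRTransInv g f)
    (a : M) (ha : a ∈ m.fixedUnder i) :
    m.ρ k g ((1 : k) ⊗ₜ[k] a) = (1 : k) ⊗ₜ[k] a := by
  have key : ∀ l : M →ₗ[k] k, evl l k (m.ρ k g ((1 : k) ⊗ₜ[k] a)) = evl l k ((1 : k) ⊗ₜ[k] a) := by
    intro l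
    have hF := hg _ (isRTransInv_coefFn m i l a ha)
    let q : VecGrp.pt k k ⟶ G ⊗ VecGrp.pt k k := lift (1 : VecGrp.pt k k ⟶ G) (𝟙 _)
    have h2 := congrArg q.left.appTop.hom hF
    change q.left.appTop.hom (((G ◁ g) ≫ μ[G]).left.appTop.hom (coefFn m l a)) =
      q.left.appTop.hom ((CartesianMonoidalCategory.fst G (VecGrp.pt k k)).left.appTop.hom
        (coefFn m l a)) at h2
    rw [← app_comp, ← app_comp] at h2
    have h3 : q ≫ (G ◁ g) ≫ μ[G] = g := by
      have : q ≫ (G ◁ g) ≫ μ[G] = (1 : VecGrp.pt k k ⟶ G) * g := by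
        rw [Hom.mul_def, ← Category.assoc]
        congr 1
        apply CartesianMonoidalCategory.hom_ext
        · rw [Category.assoc, whiskerLeft_fst, lift_fst, lift_fst]
        · rw [Category.assoc, whiskerLeft_snd, lift_snd, lift_snd_assoc, Category.id_comp]
      rw [this, _root_.one_mul]
    have h4 : q ≫ CartesianMonoidalCategory.fst G (VecGrp.pt k k) = 1 := lift_fst _ _
    rw [h3, h4] at h2
    have h5 := congrArg (Scheme.ΓSpecIso (CommRingCat.of k)).hom.hom h2
    rw [coefFn_spec, coefFn_spec, map_one] at h5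
    exact h5
  have h6 : ∀ l : Module.Dual k M, l (TensorProduct.lid k M (m.ρ k g ((1 : k) ⊗ₜ[k] a)) -
      TensorProduct.lid k M ((1 : k) ⊗ₜ[k] a)) = 0 := by
    intro l
    rw [map_sub, sub_eq_zero, ← evl_eq, ← evl_eq]
    exact key l
  have h7 := (Module.forall_dual_apply_eq_zero_iff k _).1 h6
  exact (TensorProduct.lid k M).injective (sub_eq_zero.1 h7)

end Obs

end Groth.Agent.Lib.Helper29.GModCoef
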