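import Groth.Agent.Lib.Helper21.GaPts
import Groth.Prelude.Def_FrameBundle

/-! Points of `GL_{n,S}` as invertible matrices of global functions (helper29, for S18096). -/

set_option autoImplicit false
universe u
open CategoryTheory CategoryTheory.Limits MonoidalCategory CartesianMonoidalCategory MonObj
  AlgebraicGeometry
open Groth.Agent.Lib.Helper21.GaPts CoordGrp

namespace Groth.Agent.Lib.Helper29.GLPts

section AffineMul

open TensorProduct

variable {Y : Scheme.{u}} (R A : Type u) [CommRing R] [CommRing A] [Bialgebra R A]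

/-- Evaluation of a product of points on an element with a given comultiplication. -/
theorem evalHom_lift_mul_of_sum (a b : Y ⟶ Spec (CommRingCat.of A))
    (h : a ≫ Spec.map (CommRingCat.ofHom (algebraMap R A)) =
      b ≫ Spec.map (CommRingCat.ofHom (algebraMap R A)))
    (z : A) {L : Type*} (s : Finset L) (p q : L → A)
    (hz : Coalgebra.comul (R := R) z = ∑ l ∈ s, p l ⊗ₜ[R] q l) :
    evalHom (pullback.lift a b h ≫
        μ[(Spec (CommRingCat.of A)).asOver (Spec (CommRingCat.of R))].left) z =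
      ∑ l ∈ s, evalHom a (p l) * evalHom b (q l) := by
  rw [evalHom_lift_mul, hz, map_sum]
  exact Finset.sum_congr rfl fun l _ => evalHom_lift_tmul _ _ _ _ _ _ _ _

end AffineMul

variable {S : Scheme.{u}} {n : ℕ}

/-- the projection of a point of `GL_{n,S}` to `GL_{n,ℤ}`. -/
noncomputable def glProj {X : Over S} (x : X ⟶ FrB.GLn n S) :
    X.left ⟶ Spec (CommRingCat.of (CoordGrp.GLn n (ULift.{u} ℤ))) :=
  x.left ≫ pullback.fst _ _

/-- the matrix entries of a point of `GL_{n,S}`. -/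
noncomputable def glFn (i j : Fin n) {X : Over S} (x : X ⟶ FrB.GLn n S) : Γ(X.left, ⊤) :=
  evalHom (glProj x) (GLn.X i j)

theorem glFn_mul (i j : Fin n) {X : Over S} (x y : X ⟶ FrB.GLn n S) :
    glFn i j (x * y) = ∑ l, glFn i l x * glFn l j y := by
  have h := bc_mul_left_fst (specULiftZIsTerminal.from S) (FrB.GLZ n) x y
  refine (congrArg (fun m : X.left ⟶ Spec (CommRingCat.of (CoordGrp.GLn n (ULift.{u} ℤ))) =>
    evalHom m (GLn.X i j)) h).trans ?_
  exact evalHom_lift_mul_of_sum _ _ _ _ _ _ Finset.univ _ _ (GLn.comul_X i j)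

theorem glFn_comp (i j : Fin n) {X X' : Over S} (g : X' ⟶ X) (x : X ⟶ FrB.GLn n S) :
    glFn i j (g ≫ x) = g.left.appTop (glFn i j x) := by
  rw [glFn, glFn, glProj, glProj, Over.comp_left, Category.assoc, evalHom_comp_apply]

theorem glRingHom_ext {B : Type u} [CommRing B] (ψ₁ ψ₂ : CoordGrp.GLn n (ULift.{u} ℤ) →+* B)
    (h : ∀ i j, ψ₁ (GLn.X i j) = ψ₂ (GLn.X i j)) : ψ₁ = ψ₂ := by
  letI : Algebra (ULift.{u} ℤ) B := algZ B
  have hc : ∀ (ψ : CoordGrp.GLn n (ULift.{u} ℤ) →+* B) (r : ULift.{u} ℤ),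
      ψ (algebraMap (ULift.{u} ℤ) (CoordGrp.GLn n (ULift.{u} ℤ)) r) =
        algebraMap (ULift.{u} ℤ) B r := by
    intro ψ r
    have hr : r = ((r.down : ℤ) : ULift.{u} ℤ) := by
      apply ULift.ext; simp
    rw [hr, map_intCast, map_intCast, map_intCast]
  let f₁ : CoordGrp.GLn n (ULift.{u} ℤ) →ₐ[ULift.{u} ℤ] B := { ψ₁ with commutes' := hc ψ₁ }
  let f₂ : CoordGrp.GLn n (ULift.{u} ℤ) →ₐ[ULift.{u} ℤ] B := { ψ₂ with commutes' := hc ψ₂ }
  have hdet : ψ₁ GLn.det = ψ₂ GLn.det := by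
    rw [GLn.det_eq, RingHom.map_det, RingHom.map_det]
    congr 1
    ext i j
    exact h i j
  have hD : ψ₁ GLn.Dinv = ψ₂ GLn.Dinv := by
    have e1 : ψ₁ GLn.det * ψ₁ GLn.Dinv = 1 := by rw [← map_mul, GLn.det_mul_Dinv, map_one]
    have e2 : ψ₂ GLn.det * ψ₂ GLn.Dinv = 1 := by rw [← map_mul, GLn.det_mul_Dinv, map_one]
    calc ψ₁ GLn.Dinv = ψ₁ GLn.Dinv * (ψ₂ GLn.det * ψ₂ GLn.Dinv) := by rw [e2, _root_.mul_one]
      _ = (ψ₁ GLn.det * ψ₁ GLn.Dinv) * ψ₂ GLn.Dinv := by rw [← hdet]; ring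
      _ = ψ₂ GLn.Dinv := by rw [e1, _root_.one_mul]
  have := GLn.algHom_ext (f := f₁) (g := f₂) h hD
  exact RingHom.ext fun z => DFunLike.congr_fun this z

theorem glFn_injective {X : Over S} {x y : X ⟶ FrB.GLn n S}
    (h : ∀ i j, glFn i j x = glFn i j y) : x = y := by
  apply Over.OverMorphism.ext
  apply pullback.hom_ext
  · apply evalHom_injective
    apply glRingHom_ext
    exact h
  · have hx := Over.w x
    have hy := Over.w y
    dsimp at hx hy
    rw [hx, hy]

/-- the ring map attached to an invertible matrix. -/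
noncomputable def ptHom {B : Type u} [CommRing B] (M : Matrix (Fin n) (Fin n) B) (d : B)
    (h : M.det * d = 1) : CoordGrp.GLn n (ULift.{u} ℤ) →+* B :=
  letI : Algebra (ULift.{u} ℤ) B := algZ B
  (GLn.pt n (ULift.{u} ℤ) M d h).toRingHom

theorem ptHom_X {B : Type u} [CommRing B] (M : Matrix (Fin n) (Fin n) B) (d : B)
    (h : M.det * d = 1) (i j : Fin n) : ptHom M d h (GLn.X i j) = M i j := by
  letI : Algebra (ULift.{u} ℤ) B := algZ B
  exact GLn.pt_X M d h i j

/-- the point of `GL_{n,S}` attached to an invertible matrix of global functions. -/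
noncomputable def glPt {X : Over S} (M : Matrix (Fin n) (Fin n) Γ(X.left, ⊤)) (d : Γ(X.left, ⊤))
    (h : M.det * d = 1) : X ⟶ FrB.GLn n S :=
  Over.homMk (pullback.lift (ofRingHom (ptHom M d h)) X.hom (specULiftZIsTerminal.hom_ext _ _))
    (pullback.lift_snd _ _ _)

theorem glFn_glPt {X : Over S} (M : Matrix (Fin n) (Fin n) Γ(X.left, ⊤)) (d : Γ(X.left, ⊤))
    (h : M.det * d = 1) (i j : Fin n) : glFn i j (glPt (S := S) M d h) = M i j := by
  have h' : glProj (glPt (S := S) M d h) = ofRingHom (ptHom M d h) := pullback.lift_fst _ _ _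
  rw [glFn, h', evalHom_ofRingHom, ptHom_X]

/-- the matrix of a point. -/
noncomputable def glMat {X : Over S} (x : X ⟶ FrB.GLn n S) : Matrix (Fin n) (Fin n) Γ(X.left, ⊤) :=
  fun i j => glFn i j x

theorem glMat_mul {X : Over S} (x y : X ⟶ FrB.GLn n S) : glMat (x * y) = glMat x * glMat y := by
  ext i j
  rw [Matrix.mul_apply]
  exact glFn_mul i j x y

theorem isUnit_det_glMat {X : Over S} (x : X ⟶ FrB.GLn n S) : IsUnit (glMat x).det := by
  have h1 : evalHom (glProj x) GLn.det = (glMat x).det := by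
    rw [GLn.det_eq, RingHom.map_det]
    rfl
  have h2 : (glMat x).det * evalHom (glProj x) GLn.Dinv = 1 := by
    rw [← h1, ← map_mul, GLn.det_mul_Dinv, map_one]
  exact IsUnit.of_mul_eq_one _ h2

theorem glMat_one {X : Over S} : glMat (1 : X ⟶ FrB.GLn n S) = 1 := by
  have h1 := glMat_mul (1 : X ⟶ FrB.GLn n S) 1
  rw [_root_.mul_one] at h1
  have h2 : IsUnit (glMat (1 : X ⟶ FrB.GLn n S)) :=
    (Matrix.isUnit_iff_isUnit_det _).2 (isUnit_det_glMat _)
  have h3 : glMat (1 : X ⟶ FrB.GLn n S) * glMat (1 : X ⟶ FrB.GLn n S) =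
      glMat (1 : X ⟶ FrB.GLn n S) * 1 := by rw [← h1, _root_.mul_one]
  exact (IsUnit.mul_right_inj h2).1 h3

theorem glFn_one (i j : Fin n) {X : Over S} :
    glFn i j (1 : X ⟶ FrB.GLn n S) = if i = j then 1 else 0 := by
  have h := congrFun (congrFun (glMat_one (S := S) (n := n) (X := X)) i) j
  rw [Matrix.one_apply] at h
  exact h

end Groth.Agent.Lib.Helper29.GLPts
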