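import Groth.Agent.Lib.Helper29.LinRep5
import Groth.Agent.Lib.Helper29.GLPts

/-! Anti-affine groups and homomorphisms to `GL_n` (helper29, for S18096). -/

set_option autoImplicit false
universe u
open CategoryTheory MonoidalCategory CartesianMonoidalCategory MonObj AlgebraicGeometry Opposite
open TensorProduct

namespace Groth.Agent.Lib.Helper29.LinRep

open Groth.Agent.Lib.Helper29.AffAttr Groth.Agent.Lib.Helper29.Kun
open Groth.Agent.Lib.Helper29.GLPts

variable {k : Type u} [Field k]

attribute [local instance] Groth.Agent.Lib.Helper29.AffAttr.algΓ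

section Conv

variable (G : Over (Spec (CommRingCat.of k))) [GrpObj G] [CompactSpace G.left]
  [QuasiSeparatedSpace G.left] [CompactSpace (G ⊗ G).left] [QuasiSeparatedSpace (G ⊗ G).left]

set_option maxHeartbeats 1000000 in
/-- if all multiplicative matrices of functions on `G` are trivial, then all functions on `G`
are constant. -/
theorem const_of_matrix_trivial
    (hG : ∀ (J : Type u) [Fintype J] [DecidableEq J] (m : J → J → Γ(G.left, ⊤)),
      (∀ i j, (show Γ(Spec (CommRingCat.of k), ⊤) from appAlg η[G] (m i j)) =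
        if i = j then 1 else 0) →
      (∀ i j, appAlg μ[G] (m i j) = ∑ l, appAlg (CartesianMonoidalCategory.fst G G) (m i l) *
        appAlg (CartesianMonoidalCategory.snd G G) (m l j)) →
      ∀ i j, m i j = if i = j then 1 else 0)
    (f : Γ(G.left, ⊤)) :
    ∃ r : Γ(Spec (CommRingCat.of k), ⊤), G.hom.appTop.hom r = f := by
  classical
  obtain ⟨J, _, b, m, hli, hf, hm⟩ := exists_matrix G f
  have h1 := matrix_one G b m hm hli
  have hmul := matrix_mul G b m hm hli
  have hδ := hG J m h1 hmul
  have hb : ∀ j, b j ∈ LinearMap.range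
      (Algebra.linearMap Γ(Spec (CommRingCat.of k), ⊤) Γ(G.left, ⊤)) := by
    intro j
    have h4 := fe_b G b m hm (1 : G ⟶ G) (𝟙 G) j
    rw [_root_.one_mul] at h4
    have h3 : ∀ t : Γ(G.left, ⊤), appAlg (𝟙 G) t = t := fun t => rfl
    simp_rw [h3, hδ] at h4
    rw [Finset.sum_eq_single j] at h4
    · rw [if_pos rfl, _root_.mul_one, Hom.one_def, appAlg_comp, appAlg_toUnit] at h4
      exact ⟨_, h4.symm⟩
    · intro i _ hi
      rw [if_neg hi, mul_zero]
    · intro h
      exact absurd (Finset.mem_univ _) h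
  have h5 : f ∈ LinearMap.range
      (Algebra.linearMap Γ(Spec (CommRingCat.of k), ⊤) Γ(G.left, ⊤)) := by
    refine (Submodule.span_le.2 ?_) hf
    rintro _ ⟨j, rfl⟩
    exact hb j
  obtain ⟨r, hr⟩ := h5
  exact ⟨r, hr⟩

end Conv

section Glin

variable (G : Over (Spec (CommRingCat.of k))) [GrpObj G]

theorem glFn_comp' {n : ℕ} (a c : Fin n) {X X' : Over (Spec (CommRingCat.of k))} (g : X' ⟶ X)
    (x : X ⟶ FrB.GLn n (Spec (CommRingCat.of k))) :
    glFn a c (g ≫ x) = appAlg g (glFn a c x) := glFn_comp a c g x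

set_option maxHeartbeats 2000000 in
/-- a multiplicative matrix of functions is trivial as soon as all homomorphisms to `GL_n` are. -/
theorem matrix_trivial_of_hom_trivial
    (hρ : ∀ (n : ℕ) (ρ : G ⟶ FrB.GLn n (Spec (CommRingCat.of k))), IsMonHom ρ → ρ = 1)
    (J : Type u) [Fintype J] [DecidableEq J] (m : J → J → Γ(G.left, ⊤))
    (h1 : ∀ i j, (show Γ(Spec (CommRingCat.of k), ⊤) from appAlg η[G] (m i j)) =
        if i = j then 1 else 0)
    (hmul : ∀ i j, appAlg μ[G] (m i j) = ∑ l, appAlg (CartesianMonoidalCategory.fst G G) (m i l) *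
        appAlg (CartesianMonoidalCategory.snd G G) (m l j)) (i j : J) :
    m i j = if i = j then 1 else 0 := by
  let n := Fintype.card J
  let e : J ≃ Fin n := Fintype.equivFin J
  let M : Matrix (Fin n) (Fin n) Γ(G.left, ⊤) := fun a b => m (e.symm a) (e.symm b)
  let M' : Matrix (Fin n) (Fin n) Γ(G.left, ⊤) := fun a b =>
    appAlg ι[G] (m (e.symm a) (e.symm b))
  have hpull : ∀ {T : Over (Spec (CommRingCat.of k))} (y z : T ⟶ G) (i j : J),
      appAlg (y * z) (m i j) = ∑ l, appAlg y (m i l) * appAlg z (m l j) := by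
    intro T y z i j
    rw [Hom.mul_def, appAlg_comp, hmul, map_sum]
    exact Finset.sum_congr rfl fun l _ => appAlg_lift_mul y z _ _
  have hone : ∀ {T : Over (Spec (CommRingCat.of k))} (i j : J),
      appAlg (1 : T ⟶ G) (m i j) = if i = j then 1 else 0 := by
    intro T i j
    rw [Hom.one_def, appAlg_comp]
    have := h1 i j
    change appAlg η[G] (m i j) = _ at this
    rw [this]
    split_ifs
    · exact map_one _
    · exact map_zero _
  have hMM' : M * M' = 1 := by
    ext a c
    rw [Matrix.mul_apply, Matrix.one_apply]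
    have h2 := hpull (𝟙 G) ι[G] (e.symm a) (e.symm c)
    have h3 : (𝟙 G) * ι[G] = 1 := by
      rw [GrpObj.inv_eq_inv]
      exact mul_inv_cancel _
    rw [h3, hone] at h2
    have h4 : ∀ t : Γ(G.left, ⊤), appAlg (𝟙 G) t = t := fun t => rfl
    simp_rw [h4] at h2
    change ∑ b, (fun l => m (e.symm a) l * appAlg ι[G] (m l (e.symm c))) (e.symm b) = _
    rw [Equiv.sum_comp e.symm (fun l => m (e.symm a) l * appAlg ι[G] (m l (e.symm c))), ← h2]
    simp only [e.symm.injective.eq_iff]
  have hdet : M.det * M'.det = 1 := by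
    rw [← Matrix.det_mul, hMM', Matrix.det_one]
  let ρ : G ⟶ FrB.GLn n (Spec (CommRingCat.of k)) := glPt M M'.det hdet
  have hρM : ∀ a c, glFn a c ρ = M a c := fun a c => glFn_glPt M M'.det hdet a c
  have hmon : IsMonHom ρ := by
    constructor
    · apply glFn_injective
      intro a c
      have hη : η[FrB.GLn n (Spec (CommRingCat.of k))] = 1 := MonObj.one_eq_one _
      rw [glFn_comp', hρM, hη, glFn_one]
      have := h1 (e.symm a) (e.symm c)
      change appAlg η[G] (m (e.symm a) (e.symm c)) = _ at this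
      change appAlg η[G] (m (e.symm a) (e.symm c)) = _
      rw [this]
      simp only [e.symm.injective.eq_iff]
    · apply glFn_injective
      intro a c
      have h5 : (ρ ⊗ₘ ρ) ≫ μ[FrB.GLn n (Spec (CommRingCat.of k))] =
          (CartesianMonoidalCategory.fst G G ≫ ρ) * (CartesianMonoidalCategory.snd G G ≫ ρ) := by
        rw [Hom.mul_def]
        congr 1
      rw [h5, glFn_mul, glFn_comp', hρM]
      simp_rw [glFn_comp', hρM]
      change appAlg μ[G] (m (e.symm a) (e.symm c)) = _
      rw [hmul]
      exact (Equiv.sum_comp e.symm (fun l => appAlg (CartesianMonoidalCategory.fst G G)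
        (m (e.symm a) l) * appAlg (CartesianMonoidalCategory.snd G G) (m l (e.symm c)))).symm
  have hρ1 := hρ n ρ hmon
  have h6 : M (e i) (e j) = if e i = e j then 1 else 0 := by
    rw [← hρM, hρ1, glFn_one]
  change m (e.symm (e i)) (e.symm (e j)) = _ at h6
  rw [e.symm_apply_apply, e.symm_apply_apply] at h6
  rw [h6]
  simp only [e.injective.eq_iff]

/-- homomorphisms from an anti-affine group to `GL_n` are trivial. -/
theorem hom_trivial_of_bijective
    (hG : Function.Bijective ((Scheme.ΓSpecIso (CommRingCat.of k)).inv ≫ G.hom.appTop).hom)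
    (n : ℕ) (ρ : G ⟶ FrB.GLn n (Spec (CommRingCat.of k))) (hρ : IsMonHom ρ) : ρ = 1 := by
  apply glFn_injective
  intro a c
  obtain ⟨c₀, hc⟩ := hG.2 (glFn a c ρ)
  have hr : G.hom.appTop.hom ((Scheme.ΓSpecIso (CommRingCat.of k)).inv.hom c₀) = glFn a c ρ := hc
  have h2 : appAlg η[G] (glFn a c ρ) = if a = c then 1 else 0 := by
    have hη : η[FrB.GLn n (Spec (CommRingCat.of k))] = 1 := MonObj.one_eq_one _
    rw [← glFn_comp', IsMonHom.one_hom, hη, glFn_one]
  have h3 : ∀ r : Γ(Spec (CommRingCat.of k), ⊤), appAlg η[G] (G.hom.appTop.hom r) = r := by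
    intro r
    exact (appAlg η[G]).commutes r
  rw [← hr, h3] at h2
  rw [← hr, h2, glFn_one]
  split_ifs
  · exact map_one _
  · exact map_zero _

end Glin

end Groth.Agent.Lib.Helper29.LinRep
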