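import Groth.Agent.Lib.Helper29.GModTriv2
import Groth.Agent.Lib.Helper29.LinRep6

/-! The `G`-module attached to a multiplicative matrix of functions (helper29, for S11405). -/

set_option autoImplicit false
universe u
open CategoryTheory MonoidalCategory CartesianMonoidalCategory MonObj AlgebraicGeometry
open TensorProduct VecGrp

namespace Groth.Agent.Lib.Helper29.GModMat

open Groth.Agent.Lib.Helper29.AffAttr

variable {k : Type u} [Field k]

attribute [local instance] Groth.Agent.Lib.Helper29.AffAttr.algΓ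

section Mat

variable (G : Over (Spec (CommRingCat.of k))) [GrpObj G]
  {J : Type u} [Fintype J] [DecidableEq J] (mm : J → J → Γ(G.left, ⊤))

/-- the matrix of a point. -/
noncomputable def N {B : Type u} [CommRing B] [Algebra k B] (g : VecGrp.pt k B ⟶ G) :
    Matrix J J B :=
  fun i j => (Scheme.ΓSpecIso (CommRingCat.of B)).hom.hom (g.left.appTop.hom (mm i j))

variable
  (h1 : ∀ i j, (show Γ(Spec (CommRingCat.of k), ⊤) from appAlg η[G] (mm i j)) =
    if i = j then 1 else 0)
  (hmul : ∀ i j, appAlg μ[G] (mm i j) = ∑ l, appAlg (CartesianMonoidalCategory.fst G G) (mm i l) *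
        appAlg (CartesianMonoidalCategory.snd G G) (mm l j))

include hmul in
theorem N_mul {B : Type u} [CommRing B] [Algebra k B] (g h : VecGrp.pt k B ⟶ G) :
    N G mm (g * h) = N G mm g * N G mm h := by
  ext i j
  rw [Matrix.mul_apply]
  have h2 : appAlg (g * h) (mm i j) = ∑ l, appAlg g (mm i l) * appAlg h (mm l j) := by
    rw [Hom.mul_def, appAlg_comp, hmul, map_sum]
    exact Finset.sum_congr rfl fun l _ => LinRep.appAlg_lift_mul g h _ _
  change (Scheme.ΓSpecIso (CommRingCat.of B)).hom.hom (appAlg (g * h) (mm i j)) = _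
  rw [h2, map_sum]
  refine Finset.sum_congr rfl fun l _ => ?_
  rw [map_mul]
  rfl

include h1 in
theorem N_one {B : Type u} [CommRing B] [Algebra k B] :
    N G mm (1 : VecGrp.pt k B ⟶ G) = 1 := by
  ext i j
  rw [Matrix.one_apply]
  have h2 : appAlg (1 : VecGrp.pt k B ⟶ G) (mm i j) = if i = j then 1 else 0 := by
    rw [Hom.one_def, appAlg_comp]
    have := h1 i j
    change appAlg η[G] (mm i j) = _ at this
    rw [this]
    split_ifs
    · exact map_one _
    · exact map_zero _
  change (Scheme.ΓSpecIso (CommRingCat.of B)).hom.hom (appAlg (1 : VecGrp.pt k B ⟶ G) (mm i j)) = _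
  rw [h2]
  split_ifs
  · exact map_one _
  · exact map_zero _

theorem N_nat {B B' : Type u} [CommRing B] [Algebra k B] [CommRing B'] [Algebra k B']
    (φ : B →ₐ[k] B') (g : VecGrp.pt k B ⟶ G) :
    N G mm (ptMap φ ≫ g) = (N G mm g).map φ := by
  ext i j
  rw [Matrix.map_apply]
  change (Scheme.ΓSpecIso (CommRingCat.of B')).hom.hom
    ((Spec.map (CommRingCat.ofHom φ.toRingHom) ≫ g.left).appTop.hom (mm i j)) =
    φ ((Scheme.ΓSpecIso (CommRingCat.of B)).hom.hom (g.left.appTop.hom (mm i j)))
  rw [Scheme.Hom.comp_appTop]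
  exact congrArg (fun t => t.hom (g.left.appTop.hom (mm i j)))
    (Scheme.ΓSpecIso_naturality (CommRingCat.ofHom φ.toRingHom))

end Mat

section Lin

variable (J : Type u) [Fintype J] [DecidableEq J]
  (B B' : Type u) [CommRing B] [Algebra k B] [CommRing B'] [Algebra k B']

/-- `B ⊗ k^J ≃ B^J`. -/
noncomputable abbrev eB : W k (J → k) B ≃ₗ[B] (J → B) := TensorProduct.piScalarRight k B B J

variable {J B B'}

theorem eB_Wmap (φ : B →ₐ[k] B') (x : W k (J → k) B) :
    eB J B' (Wmap (M := J → k) φ x) = φ ∘ (eB J B x) := by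
  induction x using TensorProduct.induction_on with
  | zero =>
    rw [map_zero, map_zero]
    ext i
    simp
  | tmul c f =>
    rw [Wmap_tmul, TensorProduct.piScalarRight_apply, TensorProduct.piScalarRight_apply,
      TensorProduct.piScalarRightHom_tmul, TensorProduct.piScalarRightHom_tmul]
    ext i
    simp
  | add x y hx hy =>
    rw [map_add, map_add, map_add, hx, hy]
    ext i
    simp

theorem Wmap_eB_symm (φ : B →ₐ[k] B') (v : J → B) :
    Wmap (M := J → k) φ ((eB J B).symm v) = (eB J B').symm (φ ∘ v) := by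
  apply (eB J B').injective
  rw [eB_Wmap, LinearEquiv.apply_symm_apply, LinearEquiv.apply_symm_apply]

end Lin

section Rep

variable (G : Over (Spec (CommRingCat.of k))) [GrpObj G]
  {J : Type u} [Fintype J] [DecidableEq J] (mm : J → J → Γ(G.left, ⊤))
  (h1 : ∀ i j, (show Γ(Spec (CommRingCat.of k), ⊤) from appAlg η[G] (mm i j)) =
    if i = j then 1 else 0)
  (hmul : ∀ i j, appAlg μ[G] (mm i j) = ∑ l, appAlg (CartesianMonoidalCategory.fst G G) (mm i l) *
        appAlg (CartesianMonoidalCategory.snd G G) (mm l j))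

include h1 hmul in
theorem toLin_comp_inv {B : Type u} [CommRing B] [Algebra k B] (g : VecGrp.pt k B ⟶ G) :
    Matrix.toLin' (N G mm g) ∘ₗ Matrix.toLin' (N G mm g⁻¹) = LinearMap.id := by
  rw [← Matrix.toLin'_mul, ← N_mul G mm hmul, mul_inv_cancel, N_one G mm h1, Matrix.toLin'_one]

include h1 hmul in
theorem toLin_inv_comp {B : Type u} [CommRing B] [Algebra k B] (g : VecGrp.pt k B ⟶ G) :
    Matrix.toLin' (N G mm g⁻¹) ∘ₗ Matrix.toLin' (N G mm g) = LinearMap.id := by
  rw [← Matrix.toLin'_mul, ← N_mul G mm hmul, inv_mul_cancel, N_one G mm h1, Matrix.toLin'_one]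

/-- the automorphism of `B^J` attached to a point. -/
noncomputable def linEquiv {B : Type u} [CommRing B] [Algebra k B] (g : VecGrp.pt k B ⟶ G) :
    (J → B) ≃ₗ[B] (J → B) :=
  LinearEquiv.ofLinear (Matrix.toLin' (N G mm g)) (Matrix.toLin' (N G mm g⁻¹))
    (toLin_comp_inv G mm h1 hmul g) (toLin_inv_comp G mm h1 hmul g)

theorem linEquiv_apply {B : Type u} [CommRing B] [Algebra k B] (g : VecGrp.pt k B ⟶ G)
    (v : J → B) : linEquiv G mm h1 hmul g v = (N G mm g).mulVec v := rfl

/-- the `G`-module attached to a multiplicative matrix. -/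
noncomputable def matGMod : VecGrp.GMod G (J → k) where
  ρ B _ _ :=
    { toFun := fun g => ((eB J B).trans (linEquiv G mm h1 hmul g)).trans (eB J B).symm
      map_one' := by
        apply LinearEquiv.ext
        intro x
        change (eB J B).symm ((N G mm 1).mulVec (eB J B x)) = x
        rw [N_one G mm h1, Matrix.one_mulVec, LinearEquiv.symm_apply_apply]
      map_mul' := fun g h => by
        apply LinearEquiv.ext
        intro x
        change (eB J B).symm ((N G mm (g * h)).mulVec (eB J B x)) =
          (eB J B).symm ((N G mm g).mulVec (eB J B ((eB J B).symm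
            ((N G mm h).mulVec (eB J B x)))))
        rw [LinearEquiv.apply_symm_apply, N_mul G mm hmul, Matrix.mulVec_mulVec] }
  naturality := fun {B B'} _ _ _ _ φ g x => by
    change Wmap φ ((eB J B).symm ((N G mm g).mulVec (eB J B x))) =
      (eB J B').symm ((N G mm (ptMap φ ≫ g)).mulVec (eB J B' (Wmap φ x)))
    rw [Wmap_eB_symm, eB_Wmap, N_nat]
    congr 1
    ext i
    exact RingHom.map_mulVec φ.toRingHom (N G mm g) (eB J B x) i

theorem matGMod_apply {B : Type u} [CommRing B] [Algebra k B] (g : VecGrp.pt k B ⟶ G)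
    (x : W k (J → k) B) :
    (matGMod G mm h1 hmul).ρ B g x = (eB J B).symm ((N G mm g).mulVec (eB J B x)) := rfl

include h1 hmul in
/-- if the attached module is trivial then the matrix is the identity on every point. -/
theorem N_eq_one_of_trivial {B : Type u} [CommRing B] [Algebra k B] (g : VecGrp.pt k B ⟶ G)
    (h : (matGMod G mm h1 hmul).ρ B g = 1) : N G mm g = 1 := by
  apply Matrix.toLin'.injective
  rw [Matrix.toLin'_one]
  apply LinearMap.ext
  intro v
  have h2 := congrArg (fun e => e ((eB J B).symm v)) h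
  simp only [matGMod_apply, LinearEquiv.apply_symm_apply] at h2
  have h3 := congrArg (eB J B) h2
  rw [LinearEquiv.apply_symm_apply] at h3
  change (N G mm g).mulVec v = v
  rw [h3]
  exact LinearEquiv.apply_symm_apply _ _

end Rep

section Main

open Groth.Agent.Lib.Helper29.GModTriv

variable (G : Over (Spec (CommRingCat.of k))) [GrpObj G]

set_option maxHeartbeats 1000000 in
/-- if all finite-dimensional `G`-modules are trivial, multiplicative matrices of functions
are trivial. -/
theorem matrix_trivial_of_gmod_trivial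
    (hrep : ∀ (M : Type u) [AddCommGroup M] [Module k M] [Module.Finite k M]
      (m : VecGrp.GMod G M) (B : Type u) [CommRing B] [Algebra k B] (g : VecGrp.pt k B ⟶ G),
      m.ρ B g = 1)
    (J : Type u) [Fintype J] [DecidableEq J] (mm : J → J → Γ(G.left, ⊤))
    (h1 : ∀ i j, (show Γ(Spec (CommRingCat.of k), ⊤) from appAlg η[G] (mm i j)) =
      if i = j then 1 else 0)
    (hmul : ∀ i j, appAlg μ[G] (mm i j) =
      ∑ l, appAlg (CartesianMonoidalCategory.fst G G) (mm i l) *
        appAlg (CartesianMonoidalCategory.snd G G) (mm l j)) (i j : J) :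
    mm i j = if i = j then 1 else 0 := by
  apply Yon.sec_ext
  intro C jj
  letI := algJ G C jj
  have hN := N_eq_one_of_trivial G mm h1 hmul (ptJ G C jj)
    (hrep (J → k) (matGMod G mm h1 hmul) C (ptJ G C jj))
  have h2 : (Scheme.ΓSpecIso C).hom.hom (jj.appTop.hom (mm i j)) = if i = j then 1 else 0 := by
    rw [← Matrix.one_apply]
    exact congrFun (congrFun hN i) j
  have h3 : (Scheme.ΓSpecIso C).hom.hom (jj.appTop.hom (if i = j then 1 else 0)) =
      if i = j then 1 else 0 := by
    split_ifs
    · rw [map_one, map_one]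
    · rw [map_zero, map_zero]
  have h4 := congrArg (Scheme.ΓSpecIso C).inv.hom (h2.trans h3.symm)
  change ((Scheme.ΓSpecIso C).hom ≫ (Scheme.ΓSpecIso C).inv).hom _ =
    ((Scheme.ΓSpecIso C).hom ≫ (Scheme.ΓSpecIso C).inv).hom _ at h4
  rw [Iso.hom_inv_id] at h4
  exact h4

end Main

end Groth.Agent.Lib.Helper29.GModMat
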