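import Groth.Agent.Lib.Helper29.LinRep9
import Groth.Agent.Lib.Helper29.GModMat
import Groth.Agent.Lib.Helper29.GModCoef

/-! Epimorphic subgroups: from modules to matrix representations (helper29, for S11234). -/

set_option autoImplicit false
universe u
open CategoryTheory MonoidalCategory CartesianMonoidalCategory MonObj AlgebraicGeometry Opposite
open TensorProduct VecGrp

namespace Groth.Agent.Lib.Helper29.Epi

open Groth.Agent.Lib.Helper29.AffAttr Groth.Agent.Lib.Helper29.LinRep
open Groth.Agent.Lib.Helper29.GModMat Groth.Agent.Lib.Helper29.GModCoef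

variable {k : Type u} [Field k]

attribute [local instance] Groth.Agent.Lib.Helper29.AffAttr.algΓ

section Pt

variable {G : Over (Spec (CommRingCat.of k))}

/-- evaluation of a global function at a point with values in a `k`-algebra. -/
noncomputable def evB {B : Type u} [CommRing B] [Algebra k B] (g : VecGrp.pt k B ⟶ G) :
    Γ(G.left, ⊤) →+* B :=
  (Scheme.ΓSpecIso (CommRingCat.of B)).hom.hom.comp g.left.appTop.hom

theorem evB_const {B : Type u} [CommRing B] [Algebra k B] (g : VecGrp.pt k B ⟶ G)
    (r : Γ(Spec (CommRingCat.of k), ⊤)) :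
    evB g (algebraMap Γ(Spec (CommRingCat.of k), ⊤) Γ(G.left, ⊤) r) =
      algebraMap k B ((Scheme.ΓSpecIso (CommRingCat.of k)).hom.hom r) := by
  change (Scheme.ΓSpecIso (CommRingCat.of B)).hom.hom (g.left.appTop.hom (G.hom.appTop.hom r)) = _
  have h1 : g.left.appTop.hom (G.hom.appTop.hom r) = (g.left ≫ G.hom).appTop.hom r := by
    rw [Scheme.Hom.comp_appTop]
    rfl
  have h2 : g.left ≫ G.hom = Spec.map (CommRingCat.ofHom (algebraMap k B)) := Over.w g
  rw [h1, h2]
  exact congrArg (fun t => t.hom r) (Scheme.ΓSpecIso_naturality (CommRingCat.ofHom (algebraMap k B)))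

theorem evB_comp {H : Over (Spec (CommRingCat.of k))} {B : Type u} [CommRing B] [Algebra k B]
    (h : VecGrp.pt k B ⟶ H) (i : H ⟶ G) (s : Γ(G.left, ⊤)) :
    evB (h ≫ i) s = evB h (appAlg i s) := by
  change (Scheme.ΓSpecIso (CommRingCat.of B)).hom.hom ((h ≫ i).left.appTop.hom s) = _
  rw [app_comp]
  rfl

theorem evB_injective_all (s t : Γ(G.left, ⊤))
    (h : ∀ (B : Type u) [CommRing B] [Algebra k B] (g : VecGrp.pt k B ⟶ G), evB g s = evB g t) :
    s = t := by
  apply sec_ext_pts
  intro B _ _ g
  exact ΓSpecIso_hom_injective B (h B g)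

end Pt

section ModToMat

variable (G : Over (Spec (CommRingCat.of k))) [GrpObj G]
  {J : Type u} [Fintype J] [DecidableEq J] (mm : J → J → Γ(G.left, ⊤))
  (h1 : ∀ i j, (show Γ(Spec (CommRingCat.of k), ⊤) from appAlg η[G] (mm i j)) =
      if i = j then 1 else 0)
  (hmul : ∀ i j, appAlg μ[G] (mm i j) =
      ∑ l, appAlg (CartesianMonoidalCategory.fst G G) (mm i l) *
      appAlg (CartesianMonoidalCategory.snd G G) (mm l j))
  (c : J → Γ(Spec (CommRingCat.of k), ⊤))

/-- the vector over `k`. -/
noncomputable def vk : J → k := fun j => (Scheme.ΓSpecIso (CommRingCat.of k)).hom.hom (c j)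

theorem evB_wv {B : Type u} [CommRing B] [Algebra k B] (g : VecGrp.pt k B ⟶ G) (j : J) :
    evB g (wv G mm c j) =
      (N G mm g).mulVec (fun l => algebraMap k B (vk c l)) j - algebraMap k B (vk c j) := by
  rw [wv, map_sub, map_sum, evB_const]
  congr 1
  rw [Matrix.mulVec, dotProduct]
  refine Finset.sum_congr rfl fun l _ => ?_
  rw [map_mul, evB_const]
  rfl

theorem eB_one_tmul {B : Type u} [CommRing B] [Algebra k B] (v : J → k) :
    eB J B ((1 : B) ⊗ₜ[k] v) = fun l => algebraMap k B (v l) := by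
  rw [TensorProduct.piScalarRight_apply, TensorProduct.piScalarRightHom_tmul]
  ext l
  rw [Algebra.smul_def, _root_.mul_one]

theorem fixed_iff {B : Type u} [CommRing B] [Algebra k B] (g : VecGrp.pt k B ⟶ G) :
    (matGMod G mm h1 hmul).ρ B g ((1 : B) ⊗ₜ[k] vk c) = (1 : B) ⊗ₜ[k] vk c ↔
      ∀ j, evB g (wv G mm c j) = 0 := by
  rw [matGMod_apply, eB_one_tmul]
  constructor
  · intro h j
    have h2 := congrArg (eB J B) h
    rw [LinearEquiv.apply_symm_apply, eB_one_tmul] at h2
    rw [evB_wv, h2, sub_self]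
  · intro h
    have h2 : (N G mm g).mulVec (fun l => algebraMap k B (vk c l)) =
        fun l => algebraMap k B (vk c l) := by
      ext j
      have := h j
      rw [evB_wv, sub_eq_zero] at this
      exact this
    rw [h2, ← eB_one_tmul, LinearEquiv.symm_apply_apply]

include h1 hmul in
/-- if invariants under `H` and `G` agree in all modules, then `H`-invariant vectors of matrix
representations are `G`-invariant. -/
theorem wv_of_fixed {H : Over (Spec (CommRingCat.of k))} [GrpObj H] (i : H ⟶ G)
    (hc : ∀ (E : Type u) [AddCommGroup E] [Module k E] (ρ : VecGrp.GMod G E),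
      ρ.fixedUnder i = ρ.fixedUnder (𝟙 G))
    (hH : ∀ j, appAlg i (wv G mm c j) = 0) (j : J) : wv G mm c j = 0 := by
  have hv : vk c ∈ (matGMod G mm h1 hmul).fixedUnder i := by
    intro B _ _ h
    rw [fixed_iff]
    intro j
    rw [evB_comp, hH, map_zero]
  rw [hc _ (matGMod G mm h1 hmul)] at hv
  apply evB_injective_all
  intro B _ _ g
  have h2 := hv B g
  rw [Category.comp_id] at h2
  rw [map_zero]
  exact (fixed_iff G mm h1 hmul c g).1 h2 j

end ModToMat

section ConstToMod

variable {G H : Over (Spec (CommRingCat.of k))} [GrpObj G] [GrpObj H] (i : H ⟶ G)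
  {E : Type u} [AddCommGroup E] [Module k E] (ρ : VecGrp.GMod G E)

theorem evl_coord {I : Type u} (b : Module.Basis I k E) (B : Type u) [CommRing B] [Algebra k B]
    (w : W k E B) (p : I) : evl (b.coord p) B w = (b.baseChange B).repr w p := by
  induction w using TensorProduct.induction_on with
  | zero => simp
  | tmul c y =>
    rw [evl_tmul, Module.Basis.baseChange_repr_tmul, Module.Basis.coord_apply]
  | add x y hx hy => rw [map_add, map_add, hx, hy, Finsupp.add_apply]

theorem evl_separates (B : Type u) [CommRing B] [Algebra k B] (w w' : W k E B)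
    (h : ∀ l : E →ₗ[k] k, evl l B w = evl l B w') : w = w' := by
  let b := Module.Free.chooseBasis k E
  apply (b.baseChange B).repr.injective
  ext p
  rw [← evl_coord, ← evl_coord]
  exact h _

/-- if right-`H`-invariant functions are constant, invariants under `H` and `G` agree. -/
theorem fixed_eq_of_const
    (hb : ∀ f : Γ(G.left, ⊤), AGF.IsRTransInv i f →
      ∃ c : k, f = G.hom.appTop ((Scheme.ΓSpecIso (CommRingCat.of k)).inv c)) :
    ρ.fixedUnder i = ρ.fixedUnder (𝟙 G) := by
  apply le_antisymm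
  · intro a ha B _ _ g
    rw [Category.comp_id]
    apply evl_separates
    intro l
    obtain ⟨c0, hc0⟩ := hb _ (isRTransInv_coefFn ρ i l a ha)
    have h2 := coefFn_spec ρ l a B g
    have h3 := coefFn_spec ρ l a B (1 : VecGrp.pt k B ⟶ G)
    rw [map_one, LinearEquiv.coe_one, id_eq] at h3
    rw [← h2, ← h3, hc0]
    have h4 : ∀ g' : VecGrp.pt k B ⟶ G,
        (Scheme.ΓSpecIso (CommRingCat.of B)).hom.hom (g'.left.appTop.hom
          (G.hom.appTop ((Scheme.ΓSpecIso (CommRingCat.of k)).inv c0))) =
        algebraMap k B ((Scheme.ΓSpecIso (CommRingCat.of k)).hom.hom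
          ((Scheme.ΓSpecIso (CommRingCat.of k)).inv c0)) := fun g' =>
      evB_const g' _
    rw [h4, h4]
  · intro a ha B _ _ h
    have := ha B (h ≫ i)
    rwa [Category.comp_id] at this

end ConstToMod

section ConstToEpi

variable {G H : Over (Spec (CommRingCat.of k))} [GrpObj G] [GrpObj H] (i : H ⟶ G)

theorem hom_ext_affine {P Q : Over (Spec (CommRingCat.of k))} [IsAffine Q.left] (a b : P ⟶ Q)
    (h : ∀ u : Γ(Q.left, ⊤), appAlg a u = appAlg b u) : a = b := by
  apply Over.OverMorphism.ext
  apply ext_of_isAffine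
  ext u
  exact h u

set_option maxHeartbeats 1000000 in
/-- if right-`H`-invariant functions are constant, then `H` is epimorphic. -/
theorem epi_of_const
    (hb : ∀ f : Γ(G.left, ⊤), AGF.IsRTransInv i f →
      ∃ c : k, f = G.hom.appTop ((Scheme.ΓSpecIso (CommRingCat.of k)).inv c))
    (G' : Over (Spec (CommRingCat.of k))) [GrpObj G'] [IsAffine G'.left]
    (r s : G ⟶ G') [IsMonHom r] [IsMonHom s] (hrs : i ≫ r = i ≫ s) : r = s := by
  let φ : G ⟶ G' := r * s⁻¹
  have hφinv : ((G ◁ i) ≫ μ[G]) ≫ φ = CartesianMonoidalCategory.fst G H ≫ φ := by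
    have hxy : (G ◁ i) ≫ μ[G] = CartesianMonoidalCategory.fst G H *
        (CartesianMonoidalCategory.snd G H ≫ i) := by
      rw [Hom.mul_def]
      congr 1
    have hy : (CartesianMonoidalCategory.snd G H ≫ i) ≫ r =
        (CartesianMonoidalCategory.snd G H ≫ i) ≫ s := by
      rw [Category.assoc, Category.assoc, hrs]
    rw [hxy, MonObj.comp_mul, GrpObj.comp_inv, MonObj.mul_comp, MonObj.mul_comp,
      MonObj.comp_mul, GrpObj.comp_inv, hy]
    group
  have hηφ : η[G] ≫ φ = η[G'] := by
    rw [MonObj.comp_mul, GrpObj.comp_inv, IsMonHom.one_hom, IsMonHom.one_hom,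
      MonObj.one_eq_one, inv_one, _root_.mul_one]
  have hφ1 : φ = 1 := by
    apply hom_ext_affine
    intro u
    have hinv : AGF.IsRTransInv i (appAlg φ u) := by
      change appAlg ((G ◁ i) ≫ μ[G]) (appAlg φ u) =
        appAlg (CartesianMonoidalCategory.fst G H) (appAlg φ u)
      rw [← appAlg_comp, ← appAlg_comp, hφinv]
    obtain ⟨c0, hc0⟩ := hb _ hinv
    have hc1 : appAlg φ u = algebraMap Γ(Spec (CommRingCat.of k), ⊤) Γ(G.left, ⊤)
        ((Scheme.ΓSpecIso (CommRingCat.of k)).inv.hom c0) := hc0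
    have h2 := congrArg (appAlg η[G]) hc1
    rw [← appAlg_comp, hηφ, (appAlg η[G]).commutes] at h2
    rw [hc1, Hom.one_def, appAlg_comp, h2]
    rfl
  exact mul_inv_eq_one.1 hφ1

end ConstToEpi

end Groth.Agent.Lib.Helper29.Epi
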