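import Groth.Agent.Lib.Helper29.PicUFD2
import Groth.Agent.Lib.Helper29.IntegInv
import Groth.Agent.Lib.Helper29.Twist2
import Groth.Agent.Lib.Helper29.Glue2
import Mathlib
universe u
open CategoryTheory CategoryTheory.Limits AlgebraicGeometry TopologicalSpace Opposite

/-! # Local triviality of invertible modules near factorial points -/

namespace Groth.Agent.Lib.Helper29.ExtUFD
open Groth.Agent.Lib.Helper29.QCoh Groth.Agent.Lib.Helper29.QCoh.Glue
  Groth.Agent.Lib.Helper29.EffC Groth.Agent.Lib.Helper25.BlowUpUP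
  Groth.Agent.Lib.Helper29.AmpDiv Groth.Agent.Lib.Helper10.DivLocal
  Groth.Agent.Lib.Helper25.HypTwist Groth.Agent.Lib.Helper29.PicUFD

variable {X : Scheme.{u}}

/-- An effective Cartier ideal which is generated by `g` on every affine open inside `T` has its
ideal module trivial over `T`. -/
theorem exists_isTriv_idealMod_of_principal [IsLocallyNoetherian X] (D : X.IdealSheafData)
    (hD : BlowUp.IsEffCartierIdeal D) (T : X.Opens) (g : Γ(X, T))
    (hg : ∀ (V : X.affineOpens) (h : V.1 ≤ T), D.ideal V = Ideal.span {rres X h g}) :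
    ∃ t : Γ(ClSub.idealMod D, T), IsTriv (ClSub.idealMod D) T t := by
  obtain ⟨t, ht⟩ := exists_ifun_eq_of_forall_affine D T g (fun W' h => by
    rw [hg W' h]; exact Ideal.mem_span_singleton_self _)
  refine ⟨t, ?_⟩
  apply isTriv_idealMod D t
  · intro W h
    rw [ht, hg W h]
  · intro W h r hr
    rw [ht] at hr
    have key : ∀ x : W, ∃ V' : X.Opens, x.1 ∈ V' ∧ ∃ hV'W : V' ≤ W, rres X hV'W r = 0 := by
      intro x
      obtain ⟨V₁, hxV₁, f, hf, hI⟩ := hD x.1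
      obtain ⟨V', hV'aff, hxV', hV'le⟩ := exists_isAffineOpen_mem_and_subset (x := x.1)
        (U := V₁.1 ⊓ W) ⟨hxV₁, x.2⟩
      obtain ⟨Va, hVa⟩ : ∃ Va : X.affineOpens, Va.1 = V' := ⟨⟨V', hV'aff⟩, rfl⟩
      subst hVa
      have hV'V₁ : Va ≤ V₁ := hV'le.trans inf_le_left
      have hV'W : Va.1 ≤ W := hV'le.trans inf_le_right
      refine ⟨Va.1, hxV', hV'W, ?_⟩
      obtain ⟨hnzd, hIV⟩ := principal_of_le D hV'V₁ f hf hI
      have hgV := hg Va (hV'W.trans h)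
      rw [hIV] at hgV
      obtain ⟨f', hf'⟩ : ∃ f' : Γ(X, Va.1), f' = (X.presheaf.map (homOfLE hV'V₁).op).hom f :=
        ⟨_, rfl⟩
      obtain ⟨g', hg'⟩ : ∃ g' : Γ(X, Va.1), g' = rres X (hV'W.trans h) g := ⟨_, rfl⟩
      have hnzd' : f' ∈ nonZeroDivisors Γ(X, Va.1) := hf' ▸ hnzd
      have hgV' : Ideal.span {f'} = Ideal.span {g'} := by rw [hf', hg']; exact hgV
      have h2 : f' ∈ Ideal.span {g'} := by rw [← hgV']; exact Ideal.mem_span_singleton_self _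
      have h3 : g' ∈ Ideal.span {f'} := by rw [hgV']; exact Ideal.mem_span_singleton_self _
      obtain ⟨c', hc'⟩ := Ideal.mem_span_singleton'.mp h2
      obtain ⟨c, hc⟩ := Ideal.mem_span_singleton'.mp h3
      have hcc : c' * c = 1 := by
        have h4 : (c' * c - 1) * f' = 0 := by
          rw [sub_mul, one_mul, mul_assoc, hc, hc', sub_self]
        exact sub_eq_zero.mp ((mem_nonZeroDivisors_iff.mp hnzd').2 _ h4)
      have hcu : IsUnit c := IsUnit.of_mul_eq_one c' (by rw [mul_comm]; exact hcc)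
      have hg'nzd : g' ∈ nonZeroDivisors Γ(X, Va.1) := by
        rw [← hc]; exact mul_mem hcu.mem_nonZeroDivisors hnzd'
      have h5 := congrArg (rres X hV'W) hr
      rw [map_mul, map_zero, rres_rres] at h5
      rw [← hg'] at h5
      exact (mem_nonZeroDivisors_iff.mp hg'nzd).2 _ h5
    choose V' hxV' hV'W hr0 using key
    apply fun_ext_of_cover V' W hV'W (fun x hx => Opens.mem_iSup.mpr ⟨⟨x, hx⟩, hxV' ⟨x, hx⟩⟩) r 0
    intro x
    rw [map_zero]
    exact hr0 x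

/-- The restriction to `U` of an ideal which is principal on an affine open `W₁` has trivial ideal
module over the part of `U` inside `W₁`. -/
theorem exists_isTriv_idealMod_comap [IsLocallyNoetherian X] (U : X.Opens) (E : X.IdealSheafData)
    (D : (U : Scheme.{u}).IdealSheafData) (hD : BlowUp.IsEffCartierIdeal D)
    (hED : E.comap U.ι = D)
    (W₁ : X.affineOpens) (f : Γ(X, W₁.1)) (hf : f ∈ nonZeroDivisors Γ(X, W₁.1))
    (hI : E.ideal W₁ = Ideal.span {f}) (W : X.Opens) (hW : W ≤ W₁.1) :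
    ∃ t : Γ(ClSub.idealMod D, U.ι ⁻¹ᵁ W), IsTriv (ClSub.idealMod D) (U.ι ⁻¹ᵁ W) t := by
  have hUln : IsLocallyNoetherian (U : Scheme.{u}) := inferInstance
  refine exists_isTriv_idealMod_of_principal D hD (U.ι ⁻¹ᵁ W)
    ((U.ι.app W).hom (rres X hW f)) ?_
  intro V hVT
  rw [← hED, Scheme.IdealSheafData.ideal_comap_of_isOpenImmersion, U.ι_appIso V]
  have hVW : U.ι ''ᵁ V.1 ≤ W := by
    refine (U.ι.image_mono hVT).trans ?_
    rw [Scheme.Hom.image_preimage_eq_opensRange_inf]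
    exact inf_le_right
  have hVW₁ : U.ι ''ᵁ V.1 ≤ W₁.1 := hVW.trans hW
  obtain ⟨-, hIV⟩ := principal_of_le E (U := W₁)
    (V := ⟨U.ι ''ᵁ V.1, V.2.image_of_isOpenImmersion U.ι⟩) hVW₁ f hf hI
  rw [hIV]
  have hel : (X.presheaf.map (homOfLE hVW₁).op).hom f =
      rres (U : Scheme.{u}) hVT ((U.ι.app W).hom (rres X hW f)) := by
    rw [Scheme.Opens.ι_app]
    change _ = (X.presheaf.map _).hom ((X.presheaf.map _).hom ((X.presheaf.map _).hom f))
    rw [← CommRingCat.comp_apply, ← CommRingCat.comp_apply, ← X.presheaf.map_comp,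
      ← X.presheaf.map_comp]
    rfl
  rw [← hel]
  ext z
  exact Iff.rfl

/-- **Local triviality near a factorial point, affine case.** -/
theorem exists_isTriv_near_of_affine [IsAffine X] [IsNoetherian X] (U : X.Opens) (P : X.Modules)
    (hP : ∀ y ∈ U, ∃ (V : X.Opens) (e : Γ(P, V)), y ∈ V ∧ V ≤ U ∧ IsTriv P V e)
    (hufd : ∀ x : X, x ∉ U → UniqueFactorizationMonoid (X.presheaf.stalk x)) (z : X) :
    ∃ (W : X.Opens) (t : Γ(P, W ⊓ U)), z ∈ W ∧ IsTriv P (W ⊓ U) t := by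
  have hN : PicF.IsInvertible (P.restrict U.ι) := isInvertible_restrict_of_isTriv U hP
  have hcU : CompactSpace (U : Scheme.{u}) :=
    isCompact_iff_compactSpace.mp (NoetherianSpace.isCompact (U : Set X))
  have hUn : IsNoetherian (U : Scheme.{u}) := {}
  have hqa : (U : Scheme.{u}).IsQuasiAffine := Scheme.IsQuasiAffine.of_isImmersion U.ι
  have hamp : CohB1.IsAmple (unitM (U : Scheme.{u})) := isQuasiAffine_iff_isAmple_unit.mp hqa
  obtain ⟨D, D', hD, hD', -, -, ⟨φ⟩⟩ := exists_divisors_of_ample hamp hN ∅ Set.finite_empty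
  have hufd' : ∀ x : X, x ∉ U → IsDomain (X.presheaf.stalk x) ∧
      UniqueFactorizationMonoid (X.presheaf.stalk x) := by
    intro x hx
    have h := hufd x hx
    have h1 : IsCancelMulZero (X.presheaf.stalk x) := h.toIsCancelMulZero
    exact ⟨{ }, h⟩
  obtain ⟨E, hE, hEc⟩ := exists_effCartier_extension U D hD hufd'
  obtain ⟨E', hE', hE'c⟩ := exists_effCartier_extension U D' hD' hufd'
  obtain ⟨W₁, hzW₁, f₁, hf₁, hI₁⟩ := hE z
  obtain ⟨W₂, hzW₂, f₂, hf₂, hI₂⟩ := hE' z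
  obtain ⟨W, hWdef⟩ : ∃ W : X.Opens, W = W₁.1 ⊓ W₂.1 := ⟨_, rfl⟩
  have hWW₁ : W ≤ W₁.1 := by rw [hWdef]; exact inf_le_left
  have hWW₂ : W ≤ W₂.1 := by rw [hWdef]; exact inf_le_right
  obtain ⟨t₁, ht₁⟩ := exists_isTriv_idealMod_comap U E D hD hEc W₁ f₁ hf₁ hI₁ W hWW₁
  obtain ⟨t₂, ht₂⟩ := exists_isTriv_idealMod_comap U E' D' hD' hE'c W₂ f₂ hf₂ hI₂ W hWW₂
  obtain ⟨ε₁⟩ := (nonempty_iso_unit_iff_exists_isTriv (U.ι ⁻¹ᵁ W)).mpr ⟨t₁, ht₁⟩
  obtain ⟨ε₂⟩ := (nonempty_iso_unit_iff_exists_isTriv (U.ι ⁻¹ᵁ W)).mpr ⟨t₂, ht₂⟩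
  have hID : PicF.IsInvertible (ClSub.idealMod D) := (Groth.Agent.S8914.result D).mpr hD
  obtain ⟨ρ⟩ := nonempty_restrictTensorIso (U.ι ⁻¹ᵁ W).ι hN hID
  have htriv : Nonempty ((P.restrict U.ι).restrict (U.ι ⁻¹ᵁ W).ι ≅
      unitM ((U.ι ⁻¹ᵁ W : (U : Scheme.{u}).Opens) : Scheme.{u})) :=
    ⟨(tensorUnitR _).symm ≪≫ tensorCongr (Iso.refl _) ε₁.symm ≪≫ ρ.symm ≪≫
      (Scheme.Modules.restrictFunctor (U.ι ⁻¹ᵁ W).ι).mapIso φ ≪≫ ε₂⟩
  obtain ⟨e, he⟩ := (nonempty_iso_unit_iff_exists_isTriv (U.ι ⁻¹ᵁ W)).mp htriv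
  have he' : IsTriv P (U.ι ''ᵁ (U.ι ⁻¹ᵁ W)) e := IsTriv.of_restrict U.ι he
  have hle : W ⊓ U ≤ U.ι ''ᵁ (U.ι ⁻¹ᵁ W) := by
    rw [Scheme.Hom.image_preimage_eq_opensRange_inf, Scheme.Opens.opensRange_ι, inf_comm]
  refine ⟨W, res P hle e, ?_, he'.restrict hle⟩
  rw [hWdef]
  exact ⟨hzW₁, hzW₂⟩

end Groth.Agent.Lib.Helper29.ExtUFD
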