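import Groth.Agent.Lib.Helper29.Glue2
universe u
open CategoryTheory CategoryTheory.Limits AlgebraicGeometry TopologicalSpace Opposite

/-! # Gluing along a family of opens which need not cover -/

namespace Groth.Agent.Lib.Helper29.QCoh.Glue
open Groth.Agent.Lib.Helper29.QCoh

section
variable {X : Scheme.{u}} {ι : Type u} {U : ι → X.Opens} (c : Cocycle U)

/-- The glued module is pushed forward from the union of the family. -/
theorem glue_res_bijective (W : X.Opens) :
    Function.Bijective (res (glue c) (inf_le_left : W ⊓ (⨆ i, U i) ≤ W)) := by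
  have hle : ∀ i, W ⊓ U i ≤ (W ⊓ ⨆ i, U i) ⊓ U i := fun i =>
    le_inf (inf_le_inf_left W (le_iSup U i)) inf_le_right
  constructor
  · intro a b hab
    apply Subtype.ext
    funext i
    have h1 := congrArg (fun s : Γ(glue c, W ⊓ ⨆ i, U i) =>
      rres X (hle i) ((show secs c _ from s).1 i)) hab
    simp only [res_glue_val, rres_rres, rres_self] at h1
    exact h1
  · intro b
    have hsec : IsSec c W (fun i => rres X (hle i) ((show secs c _ from b).1 i)) := by
      intro i j W' hV hi hj
      rw [rres_rres, rres_rres]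
      exact (show secs c _ from b).2 i j W' (le_inf hV (hi.trans (le_iSup U i))) hi hj
    refine ⟨(show Γ(glue c, W) from
      (⟨fun i => rres X (hle i) ((show secs c _ from b).1 i), hsec⟩ : secs c W)), ?_⟩
    apply Subtype.ext
    funext i
    change rres X _ (rres X (hle i) ((show secs c _ from b).1 i)) = _
    rw [rres_rres, rres_self]

end

variable {X : Scheme.{u}} (U : X.Opens) (P : X.Modules) {ι : Type u} (V : ι → X.Opens)
  (s : ∀ i, Γ(P, V i ⊓ U))

/-- **Extension by gluing, without a covering hypothesis**: the glued module lives on `X`, is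
trivial on each `V i`, is pushed forward from `⨆ i, V i`, and agrees with `P` over `U`. -/
theorem exists_extension' (hcovU : ∀ x ∈ U, ∃ i, x ∈ V i)
    (H1 : ∀ i j, i ≠ j → V i ⊓ V j ≤ U) (H2 : ∀ i, IsTriv P (V i ⊓ U) (s i)) :
    ∃ (Q : X.Modules) (e : ∀ i, Γ(Q, V i)), (∀ i, IsTriv Q (V i) (e i)) ∧
      (∀ W : X.Opens, Function.Bijective (res Q (inf_le_left : W ⊓ (⨆ i, V i) ≤ W))) ∧
      Nonempty (Q.restrict U.ι ≅ P.restrict U.ι) := by
  choose g hg1 hg using exists_transition_aux U P V s H1 H2
  let c : Cocycle V :=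
    { g := g
      one := fun i => hg1 i i rfl
      mul := by
        intro i j k W hi hj hk
        by_cases hW : W ≤ U
        · apply (H2 i W (le_inf hi hW)).1
          change (rres X _ (g i j) * rres X _ (g j k)) • res P _ (s i) =
            rres X _ (g i k) • res P _ (s i)
          rw [mul_comm, mul_smul, ← hg i j W hW hi hj, ← hg j k W hW hj hk, ← hg i k W hW hi hk]
        · have hij : i = j := by
            by_contra h
            exact hW ((le_inf hi hj).trans (H1 i j h))
          have hjk : j = k := by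
            by_contra h
            exact hW ((le_inf hj hk).trans (H1 j k h))
          subst hij; subst hjk
          rw [hg1 i i rfl, map_one, one_mul] }
  obtain ⟨L, e, he, htr, hpf⟩ : ∃ (L : X.Modules) (e : ∀ k, Γ(L, V k)),
      (∀ k, IsTriv L (V k) (e k)) ∧
      (∀ j k, res L (inf_le_right : V j ⊓ V k ≤ V k) (e k) =
        c.g j k • res L (inf_le_left : V j ⊓ V k ≤ V j) (e j)) ∧
      (∀ W : X.Opens, Function.Bijective (res L (inf_le_left : W ⊓ (⨆ i, V i) ≤ W))) :=
    ⟨glue c, gen c, isTriv_gen c, gen_transition c, glue_res_bijective c⟩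
  have htr' : ∀ (i j : ι) (W : X.Opens) (hi : W ≤ V i) (hj : W ≤ V j),
      res L hj (e j) = rres X (le_inf hi hj) (g i j) • res L hi (e i) := by
    intro i j W hi hj
    have := congrArg (res L (le_inf hi hj)) (htr i j)
    rw [res_res, res_smul', res_res] at this
    exact this
  refine ⟨L, e, he, hpf, ?_⟩
  let V' : ι → (U : Scheme.{u}).Opens := fun i => U.ι ⁻¹ᵁ V i
  have hV'1 : ∀ i, U.ι ''ᵁ V' i ≤ V i := fun i => by
    rw [Scheme.Hom.image_preimage_eq_opensRange_inf]; exact inf_le_right
  have hV'2 : ∀ i, U.ι ''ᵁ V' i ≤ U := fun i => by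
    rw [Scheme.Hom.image_preimage_eq_opensRange_inf, Scheme.Opens.opensRange_ι]; exact inf_le_left
  have hcov' : ∀ x : (U : Scheme.{u}), ∃ i, x ∈ V' i := fun x => hcovU x.1 x.2
  obtain ⟨φ, -⟩ := exists_iso_of_cocycle (M := L.restrict U.ι) (N := P.restrict U.ι) (U := V')
    (m := fun i => (res L (hV'1 i) (e i) : Γ(L, U.ι ''ᵁ V' i)))
    (n := fun i => (res P (le_inf (hV'1 i) (hV'2 i)) (s i) : Γ(P, U.ι ''ᵁ V' i)))
    hcov'
    (fun i => IsTriv.to_restrict U.ι ((he i).restrict (hV'1 i)))
    (fun i => IsTriv.to_restrict U.ι ((H2 i).restrict (le_inf (hV'1 i) (hV'2 i))))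
    (fun i j => by
      have hZi : U.ι ''ᵁ (V' i ⊓ V' j) ≤ V i := (U.ι.image_mono inf_le_left).trans (hV'1 i)
      have hZj : U.ι ''ᵁ (V' i ⊓ V' j) ≤ V j := (U.ι.image_mono inf_le_right).trans (hV'1 j)
      have hZU : U.ι ''ᵁ (V' i ⊓ V' j) ≤ U := (U.ι.image_mono inf_le_left).trans (hV'2 i)
      refine ⟨(U.ι.appIso (V' i ⊓ V' j)).hom (rres X (le_inf hZj hZi) (g j i)), ?_, ?_⟩
      · change res L (U.ι.image_mono inf_le_left) (res L (hV'1 i) (e i)) =
          HSMul.hSMul (α := Γ((U : Scheme.{u}), V' i ⊓ V' j))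
            (β := Γ(L.restrict U.ι, V' i ⊓ V' j))
            ((U.ι.appIso (V' i ⊓ V' j)).hom (rres X (le_inf hZj hZi) (g j i)))
            (res L (U.ι.image_mono inf_le_right) (res L (hV'1 j) (e j)))
        rw [restrict_smul, res_res, res_res]
        simp only [Iso.hom_inv_id_apply]
        exact htr' j i _ hZj hZi
      · change res P (U.ι.image_mono inf_le_left) (res P (le_inf (hV'1 i) (hV'2 i)) (s i)) =
          HSMul.hSMul (α := Γ((U : Scheme.{u}), V' i ⊓ V' j))
            (β := Γ(P.restrict U.ι, V' i ⊓ V' j))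
            ((U.ι.appIso (V' i ⊓ V' j)).hom (rres X (le_inf hZj hZi) (g j i)))
            (res P (U.ι.image_mono inf_le_right) (res P (le_inf (hV'1 j) (hV'2 j)) (s j)))
        rw [restrict_smul, res_res, res_res]
        simp only [Iso.hom_inv_id_apply]
        exact hg j i _ hZU hZj hZi)
  exact ⟨φ⟩

end Groth.Agent.Lib.Helper29.QCoh.Glue
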