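import Groth.Agent.Lib.Helper29.ExtUFD1
import Groth.Agent.Lib.Helper29.Glue3
import Groth.Agent.Lib.Helper10.Hartogs
import Groth.Agent.Lib.Helper18.SerreNormal
import Mathlib
universe u
open CategoryTheory CategoryTheory.Limits AlgebraicGeometry TopologicalSpace Opposite

/-! # Extension of invertible modules across factorial points -/

namespace Groth.Agent.Lib.Helper29.ExtUFD
open Groth.Agent.Lib.Helper29.QCoh Groth.Agent.Lib.Helper29.QCoh.Glue

variable {X : Scheme.{u}}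

/-- **Local triviality near a factorial point.** -/
theorem exists_isTriv_near [IsLocallyNoetherian X] (U : X.Opens) (P : X.Modules)
    (hP : ∀ y ∈ U, ∃ (V : X.Opens) (e : Γ(P, V)), y ∈ V ∧ V ≤ U ∧ IsTriv P V e)
    (hufd : ∀ x : X, x ∉ U → UniqueFactorizationMonoid (X.presheaf.stalk x)) (z : X) :
    ∃ (W : X.Opens) (t : Γ(P, W ⊓ U)), z ∈ W ∧ IsTriv P (W ⊓ U) t := by
  obtain ⟨W₀, hW₀, hzW₀, -⟩ := exists_isAffineOpen_mem_and_subset (x := z) (U := ⊤) trivial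
  have hYaff : IsAffine (W₀ : Scheme.{u}) := hW₀
  have hYn : IsNoetherian (W₀ : Scheme.{u}) := {}
  have hPY : ∀ y ∈ (W₀.ι ⁻¹ᵁ U : (W₀ : Scheme.{u}).Opens), ∃ (V : (W₀ : Scheme.{u}).Opens)
      (e : Γ(P.restrict W₀.ι, V)), y ∈ V ∧ V ≤ W₀.ι ⁻¹ᵁ U ∧ IsTriv (P.restrict W₀.ι) V e := by
    intro y hy
    obtain ⟨V, e, hyV, hVU, he⟩ := hP (W₀.ι y) hy
    have hle : W₀.ι ''ᵁ (W₀.ι ⁻¹ᵁ V) ≤ V := by
      rw [Scheme.Hom.image_preimage_eq_opensRange_inf]; exact inf_le_right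
    exact ⟨W₀.ι ⁻¹ᵁ V, res P hle e, hyV, W₀.ι.preimage_mono hVU,
      IsTriv.to_restrict W₀.ι (he.restrict hle)⟩
  have hufdY : ∀ x : (W₀ : Scheme.{u}), x ∉ (W₀.ι ⁻¹ᵁ U : (W₀ : Scheme.{u}).Opens) →
      UniqueFactorizationMonoid ((W₀ : Scheme.{u}).presheaf.stalk x) := by
    intro x hx
    have h := hufd (W₀.ι x) hx
    exact (Scheme.Opens.stalkIso W₀ x).commRingCatIsoToRingEquiv.symm.toMulEquiv.uniqueFactorizationMonoid h
  obtain ⟨WY, t, hzWY, ht⟩ := exists_isTriv_near_of_affine (W₀.ι ⁻¹ᵁ U) (P.restrict W₀.ι) hPY hufdY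
    ⟨z, hzW₀⟩
  have ht' : IsTriv P (W₀.ι ''ᵁ (WY ⊓ W₀.ι ⁻¹ᵁ U)) t := IsTriv.of_restrict W₀.ι ht
  have hle : (W₀.ι ''ᵁ WY) ⊓ U ≤ W₀.ι ''ᵁ (WY ⊓ W₀.ι ⁻¹ᵁ U) := by
    rintro x ⟨⟨y, hyWY, rfl⟩, hxU⟩
    exact ⟨y, ⟨hyWY, hxU⟩, rfl⟩
  exact ⟨W₀.ι ''ᵁ WY, res P hle t, ⟨⟨z, hzW₀⟩, hzWY, rfl⟩, ht'.restrict hle⟩

/-- **Hartogs step**: a module pushed forward from an open `X₁` on which it is locally trivial is
invertible when all points outside `X₁` are factorial of dimension at least two. -/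
theorem isInvertible_of_pushed [IsLocallyNoetherian X] (X₁ : X.Opens) (Q : X.Modules)
    (hQ : ∀ y ∈ X₁, ∃ (V : X.Opens) (e : Γ(Q, V)), y ∈ V ∧ V ≤ X₁ ∧ IsTriv Q V e)
    (hpf : ∀ W : X.Opens, Function.Bijective (res Q (inf_le_left : W ⊓ X₁ ≤ W)))
    (hufd : ∀ x : X, x ∉ X₁ → UniqueFactorizationMonoid (X.presheaf.stalk x))
    (hdim : ∀ x : X, x ∉ X₁ → (2 : WithBot ℕ∞) ≤ ringKrullDim (X.presheaf.stalk x)) :
    PicF.IsInvertible Q := by
  have hdepth : ∀ x : X, x ∉ X₁ →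
      (2 : ℕ∞) ≤ LocCoh.depth (X.presheaf.stalk x) (X.presheaf.stalk x) := by
    intro x hx
    have hu := hufd x hx
    have h1 : IsCancelMulZero (X.presheaf.stalk x) := hu.toIsCancelMulZero
    have hdom : IsDomain (X.presheaf.stalk x) := {}
    have hic : IsIntegrallyClosed (X.presheaf.stalk x) := inferInstance
    have h := Groth.Agent.Lib.Helper18.Serre.min_two_dim_le_depth_of_normal (X.presheaf.stalk x)
    rw [min_eq_left (by exact_mod_cast hdim x hx)] at h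
    have h2 : ((2 : ℕ) : WithBot ℕ∞) = (((2 : ℕ∞)) : WithBot ℕ∞) := rfl
    rw [h2] at h
    exact WithBot.coe_le_coe.mp h
  apply isInvertible_of_isTriv'
  intro x
  by_cases hx : x ∈ X₁
  · obtain ⟨V, e, hxV, -, he⟩ := hQ x hx
    exact ⟨V, e, hxV, he⟩
  · obtain ⟨W, t, hxW, ht⟩ := exists_isTriv_near X₁ Q hQ hufd x
    obtain ⟨e, he⟩ := (hpf W).2 t
    refine ⟨W, e, hxW, ?_⟩
    intro W' hW'
    have hb1 := Groth.Agent.Lib.Helper10.Hartogs.ring_res_bijective X₁ hdepth W'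
    have hb2 := hpf W'
    have hb3 := ht (W' ⊓ X₁) (inf_le_inf_right X₁ hW')
    have hcomm : (res Q (inf_le_left : W' ⊓ X₁ ≤ W')) ∘ (fun r : Γ(X, W') => r • res Q hW' e) =
        (fun r : Γ(X, W' ⊓ X₁) => r • res Q (inf_le_inf_right X₁ hW') t) ∘
          (X.presheaf.map (homOfLE (inf_le_left : W' ⊓ X₁ ≤ W')).op) := by
      funext r
      simp only [Function.comp_apply]
      rw [res_smul', res_res, ← he, res_res]
    have hb4 : Function.Bijective ((res Q (inf_le_left : W' ⊓ X₁ ≤ W')) ∘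
        (fun r : Γ(X, W') => r • res Q hW' e)) := by
      rw [hcomm]; exact hb3.comp hb1
    exact (Function.Bijective.of_comp_iff' hb2 _).mp hb4

/-- Locally near `y`, a closed set `C` is the union of the closures of those of its points which
specialise to `y`. -/
theorem exists_open_forall_exists_specializes [IsLocallyNoetherian X] (C : Set X)
    (hC : IsClosed C) (y : X) :
    ∃ O : X.Opens, y ∈ O ∧ ∀ x ∈ O, x ∈ C → ∃ η ∈ C, η ⤳ y ∧ η ⤳ x := by
  obtain ⟨W₀, hW₀, hyW₀, -⟩ := exists_isAffineOpen_mem_and_subset (x := y) (U := ⊤) trivial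
  have : IsNoetherianRing Γ(X, W₀) := IsLocallyNoetherian.component_noetherian ⟨W₀, hW₀⟩
  have hN : NoetherianSpace ↥(W₀ : Set X) := noetherianSpace_of_isAffineOpen W₀ hW₀
  obtain ⟨S, hSfin, hScl, hSirr, hSeq⟩ := NoetherianSpace.exists_finite_set_isClosed_irreducible
    (hC.preimage (continuous_subtype_val : Continuous (Subtype.val : ↥(W₀ : Set X) → X)))
  obtain ⟨B, hBdef⟩ : ∃ B : Set ↥(W₀ : Set X), B = ⋃ k ∈ {k ∈ S | (⟨y, hyW₀⟩ : ↥(W₀ : Set X)) ∉ k}, k := ⟨_, rfl⟩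
  have hBcl : IsClosed B := by
    rw [hBdef]
    exact (hSfin.subset (Set.sep_subset _ _)).isClosed_biUnion (fun k hk => hScl k hk.1)
  have hOopen : IsOpen (Subtype.val '' Bᶜ : Set X) :=
    W₀.isOpen.isOpenMap_subtype_val _ hBcl.isOpen_compl
  refine ⟨⟨Subtype.val '' Bᶜ, hOopen⟩, ⟨⟨y, hyW₀⟩, ?_, rfl⟩, ?_⟩
  · intro hyB
    rw [hBdef] at hyB
    obtain ⟨k, hk, hyk⟩ := Set.mem_iUnion₂.mp hyB
    exact hk.2 hyk
  · rintro x ⟨x', hx'B, rfl⟩ hxC
    have hx'S : x' ∈ ⋃₀ S := by rw [← hSeq]; exact hxC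
    obtain ⟨k, hkS, hx'k⟩ := hx'S
    have hyk : (⟨y, hyW₀⟩ : ↥(W₀ : Set X)) ∈ k := by
      by_contra hyk
      apply hx'B
      rw [hBdef]
      exact Set.mem_iUnion₂.mpr ⟨k, ⟨hkS, hyk⟩, hx'k⟩
    have hirr : IsIrreducible (Subtype.val '' k : Set X) :=
      (hSirr k hkS).image _ continuous_subtype_val.continuousOn
    obtain ⟨η, hη⟩ := QuasiSober.sober hirr.closure isClosed_closure
    have hkC : (Subtype.val '' k : Set X) ⊆ C := by
      rintro _ ⟨w, hw, rfl⟩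
      have : w ∈ ⋃₀ S := ⟨k, hkS, hw⟩
      rw [← hSeq] at this
      exact this
    refine ⟨η, closure_minimal hkC hC hη.mem, ?_, ?_⟩
    · exact hη.specializes (subset_closure ⟨⟨y, hyW₀⟩, hyk, rfl⟩)
    · exact hη.specializes (subset_closure ⟨x', hx'k, rfl⟩)

/-- Generisations of a point whose local ring is a domain of dimension at most one. -/
theorem exists_generic_of_dim_le_one (y : X) [IsDomain (X.presheaf.stalk y)]
    (hdim : ringKrullDim (X.presheaf.stalk y) ≤ 1) :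
    ∃ ξ : X, ξ ⤳ y ∧ ∀ x : X, x ⤳ y → x = ξ ∨ x = y := by
  have hK : Ring.KrullDimLE 1 (X.presheaf.stalk y) := Ring.krullDimLE_iff.mpr hdim
  obtain ⟨b, hb⟩ : ∃ b : PrimeSpectrum (X.presheaf.stalk y), b.asIdeal = ⊥ :=
    ⟨⟨⊥, Ideal.isPrime_bot⟩, rfl⟩
  refine ⟨X.fromSpecStalk y b, ?_, ?_⟩
  · have : X.fromSpecStalk y b ∈ Set.range (X.fromSpecStalk y) := ⟨b, rfl⟩
    rw [Scheme.range_fromSpecStalk] at this
    exact this
  · intro x hx
    have hx' : x ∈ Set.range (X.fromSpecStalk y) := by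
      rw [Scheme.range_fromSpecStalk]; exact hx
    obtain ⟨p, rfl⟩ := hx'
    by_cases hp : (show PrimeSpectrum (X.presheaf.stalk y) from p).asIdeal = ⊥
    · left
      congr 1
      exact PrimeSpectrum.ext (hp.trans hb.symm)
    · right
      have hmax : (show PrimeSpectrum (X.presheaf.stalk y) from p).asIdeal.IsMaximal :=
        Ideal.IsPrime.isMaximal_of_ne_bot (show PrimeSpectrum (X.presheaf.stalk y) from p).isPrime hp
      have hpc : p = IsLocalRing.closedPoint (X.presheaf.stalk y) :=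
        PrimeSpectrum.ext (IsLocalRing.eq_maximalIdeal hmax)
      rw [hpc]
      exact Scheme.fromSpecStalk_closedPoint

/-- A point outside `U` with a one-dimensional integral local ring either lies in the interior
of the complement of `U`, or is the generic point of the complement near itself. -/
theorem exists_open_or [IsLocallyNoetherian X] (U : X.Opens) (y : X)
    [IsDomain (X.presheaf.stalk y)] (hdim : ringKrullDim (X.presheaf.stalk y) ≤ 1) :
    (∃ O : X.Opens, y ∈ O ∧ ∀ x ∈ O, x ∉ U) ∨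
      (∃ O : X.Opens, y ∈ O ∧ ∀ x ∈ O, x ∉ U → y ⤳ x) := by
  obtain ⟨ξ, hξy, hξ⟩ := exists_generic_of_dim_le_one y hdim
  by_cases hξU : ξ ∈ U
  · right
    obtain ⟨O, hyO, hO⟩ := exists_open_forall_exists_specializes (Uᶜ : Set X)
      U.isOpen.isClosed_compl y
    refine ⟨O, hyO, fun x hxO hxU => ?_⟩
    obtain ⟨η, hηU, hηy, hηx⟩ := hO x hxO hxU
    rcases hξ η hηy with h | h
    · exact absurd (h ▸ hξU) hηU
    · exact h ▸ hηx
  · left
    obtain ⟨O, hyO, hO⟩ := exists_open_forall_exists_specializes (Set.univ : Set X)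
      isClosed_univ y
    refine ⟨O, hyO, fun x hxO hxU => ?_⟩
    obtain ⟨η, -, hηy, hηx⟩ := hO x hxO trivial
    have hξx : ξ ⤳ x := by
      rcases hξ η hηy with h | h
      · exact h ▸ hηx
      · exact hξy.trans (h ▸ hηx)
    exact hξU (hξx.mem_open U.isOpen hxU)

theorem isTriv_of_le_bot (P : X.Modules) {V : X.Opens} (hV : V ≤ ⊥) (s : Γ(P, V)) :
    IsTriv P V s := by
  intro W hW
  have hW' : W = ⊥ := le_bot_iff.mp (hW.trans hV)
  subst hW'
  have h1 : Subsingleton Γ(X, ⊥) := inferInstance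
  have h2 : Subsingleton Γ(P, ⊥) := Module.subsingleton Γ(X, ⊥) _
  exact ⟨fun a b _ => Subsingleton.elim a b, fun m => ⟨0, Subsingleton.elim _ _⟩⟩

end Groth.Agent.Lib.Helper29.ExtUFD
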