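import Groth.Agent.Lib.Helper29.ExtUFD2
import Mathlib
universe u
open CategoryTheory CategoryTheory.Limits AlgebraicGeometry TopologicalSpace Opposite

/-! # Extension of invertible modules across factorial points: the main theorem -/

namespace Groth.Agent.Lib.Helper29.ExtUFD
open Groth.Agent.Lib.Helper29.QCoh Groth.Agent.Lib.Helper29.QCoh.Glue

variable {X : Scheme.{u}}

theorem le_one_of_not_two_le (d : WithBot ℕ∞) (h : ¬ (2 : WithBot ℕ∞) ≤ d) : d ≤ 1 := by
  induction d using WithBot.recBotCoe with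
  | bot => exact bot_le
  | coe n =>
    induction n using ENat.recTopCoe with
    | top => exact absurd le_top h
    | coe m =>
      have h' : ¬ (2 : ℕ) ≤ m := by
        intro h2
        apply h
        have h3 : ((2 : ℕ∞) : WithBot ℕ∞) ≤ (((m : ℕ) : ℕ∞) : WithBot ℕ∞) :=
          WithBot.coe_le_coe.mpr (by exact_mod_cast h2)
        exact h3
      have h4 : m ≤ 1 := by omega
      have h5 : (((m : ℕ) : ℕ∞) : WithBot ℕ∞) ≤ ((1 : ℕ∞) : WithBot ℕ∞) :=
        WithBot.coe_le_coe.mpr (by exact_mod_cast h4)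
      exact h5

/-- **Invertible modules extend across points with factorial local rings.** -/
theorem exists_invertible_extension_of_ufd [IsLocallyNoetherian X] (U : X.Opens)
    (L : (U : Scheme.{u}).Modules) (hL : PicF.IsInvertible L)
    (hufd : ∀ x : X, x ∉ U → UniqueFactorizationMonoid (X.presheaf.stalk x)) :
    ∃ L' : X.Modules, PicF.IsInvertible L' ∧ Nonempty (L'.restrict U.ι ≅ L) := by
  classical
  let P : X.Modules := (Scheme.Modules.pushforward U.ι).obj L
  let φ : P.restrict U.ι ≅ L := (Scheme.Modules.restrictFunctorAdjCounitIso U.ι).app L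
  have hP' : PicF.IsInvertible (P.restrict U.ι) := isInvertible_of_iso φ.symm hL
  have hP : ∀ y ∈ U, ∃ (V : X.Opens) (e : Γ(P, V)), y ∈ V ∧ V ≤ U ∧ IsTriv P V e := by
    intro y hy
    obtain ⟨V', e', hyV', he'⟩ := exists_isTriv hP' (⟨y, hy⟩ : (U : Scheme.{u}))
    refine ⟨U.ι ''ᵁ V', e', ⟨⟨y, hy⟩, hyV', rfl⟩, ?_, IsTriv.of_restrict U.ι he'⟩
    have := U.ι.image_le_opensRange V'
    rwa [Scheme.Opens.opensRange_ι] at this
  have hdom : ∀ x : X, x ∉ U → IsDomain (X.presheaf.stalk x) := by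
    intro x hx
    have hu := hufd x hx
    have h1 : IsCancelMulZero (X.presheaf.stalk x) := hu.toIsCancelMulZero
    exact {}
  obtain ⟨Vinf, hVinf⟩ : ∃ Vinf : X.Opens, (Vinf : Set X) = interior ((U : Set X)ᶜ) :=
    ⟨⟨interior ((U : Set X)ᶜ), isOpen_interior⟩, rfl⟩
  have hVinfU : Vinf ⊓ U ≤ ⊥ := by
    rintro x ⟨hx1, hx2⟩
    have : x ∈ interior ((U : Set X)ᶜ) := by rw [← hVinf]; exact hx1
    exact (interior_subset this) hx2
  have hmemVinf : ∀ (O : X.Opens) (x : X), x ∈ O → (∀ y ∈ O, y ∉ U) → x ∈ Vinf := by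
    intro O x hxO hO
    have : x ∈ interior ((U : Set X)ᶜ) := mem_interior.mpr ⟨O, fun y hy => hO y hy, O.isOpen, hxO⟩
    rw [← hVinf] at this
    exact this
  have key : ∀ x : X, ∃ (V : X.Opens) (s : Γ(P, V ⊓ U)), IsTriv P (V ⊓ U) s ∧
      (x ∈ U → x ∈ V ∧ V ≤ U) ∧
      (x ∉ U → ∀ y ∈ V, y ∉ U → x ⤳ y ∧ x ∉ Vinf) ∧
      (x ∉ U → x ∉ Vinf → ringKrullDim (X.presheaf.stalk x) ≤ 1 → x ∈ V) := by
    intro x
    by_cases hxU : x ∈ U
    · obtain ⟨V, e, hxV, hVU, he⟩ := hP x hxU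
      exact ⟨V, res P inf_le_left e, he.restrict inf_le_left, fun _ => ⟨hxV, hVU⟩,
        fun h => absurd hxU h, fun h => absurd hxU h⟩
    · by_cases hx2 : x ∉ Vinf ∧ ringKrullDim (X.presheaf.stalk x) ≤ 1
      · have := hdom x hxU
        rcases exists_open_or U x hx2.2 with ⟨O, hxO, hO⟩ | ⟨O, hxO, hO⟩
        · exact absurd (hmemVinf O x hxO hO) hx2.1
        · obtain ⟨W, t, hxW, ht⟩ := exists_isTriv_near U P hP hufd x
          refine ⟨W ⊓ O, res P (inf_le_inf_right U inf_le_left) t,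
            ht.restrict (inf_le_inf_right U inf_le_left), fun h => absurd h hxU,
            fun _ y hy hyU => ⟨hO y hy.2 hyU, hx2.1⟩, fun _ _ _ => ⟨hxW, hxO⟩⟩
      · refine ⟨⊥, 0, isTriv_of_le_bot P inf_le_left _, fun h => absurd h hxU,
          fun _ y hy => absurd hy (fun h => h), fun _ h2 h3 => absurd ⟨h2, h3⟩ hx2⟩
  choose V s hs hVU hVspec hVmem using key
  let V' : Option X → X.Opens := fun i => i.elim Vinf V
  have s' : ∀ i : Option X, ∃ t : Γ(P, V' i ⊓ U), IsTriv P (V' i ⊓ U) t := by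
    intro i
    cases i with
    | none => exact ⟨0, isTriv_of_le_bot P hVinfU _⟩
    | some x => exact ⟨s x, hs x⟩
  choose t ht using s'
  have hVinf_some : ∀ x : X, Vinf ⊓ V x ≤ U := by
    intro x y hy
    by_cases hxU : x ∈ U
    · exact (hVU x hxU).2 hy.2
    · by_contra hyU
      obtain ⟨hxy, hxV⟩ := hVspec x hxU y hy.2 hyU
      exact hxV (hxy.mem_open Vinf.isOpen hy.1)
  have H1 : ∀ i j : Option X, i ≠ j → V' i ⊓ V' j ≤ U := by
    intro i j hij
    cases i with
    | none =>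
      cases j with
      | none => exact absurd rfl hij
      | some x => exact hVinf_some x
    | some x =>
      cases j with
      | none =>
        intro y hy
        exact hVinf_some x ⟨hy.2, hy.1⟩
      | some x' =>
        intro y hy
        by_contra hyU
        have hx : x ∉ U := fun hx => hyU ((hVU x hx).2 hy.1)
        have hx' : x' ∉ U := fun hx' => hyU ((hVU x' hx').2 hy.2)
        have h1 := (hVspec x hx y hy.1 hyU).1
        have h2 := (hVspec x' hx' y hy.2 hyU).1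
        have h3 : x' ∈ V x := h2.mem_open (V x).isOpen hy.1
        have h4 : x ∈ V x' := h1.mem_open (V x').isOpen hy.2
        have h5 := (hVspec x hx x' h3 hx').1
        have h6 := (hVspec x' hx' x h4 hx).1
        exact hij (congrArg some (h5.antisymm h6).eq)
  have hcovU : ∀ x ∈ U, ∃ i, x ∈ V' i := fun x hx => ⟨some x, (hVU x hx).1⟩
  obtain ⟨Q, e, hQtriv, hpf, ⟨ψ⟩⟩ := exists_extension' U P V' t hcovU H1 ht
  have hUle : U ≤ ⨆ i, V' i := by
    intro x hx
    obtain ⟨i, hi⟩ := hcovU x hx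
    exact Opens.mem_iSup.mpr ⟨i, hi⟩
  have hQinv : PicF.IsInvertible Q := by
    apply isInvertible_of_pushed (⨆ i, V' i) Q
    · intro y hy
      obtain ⟨i, hi⟩ := Opens.mem_iSup.mp hy
      exact ⟨V' i, e i, hi, le_iSup V' i, hQtriv i⟩
    · exact hpf
    · intro x hx
      exact hufd x (fun h => hx (hUle h))
    · intro x hx
      by_contra hd
      have hd' := le_one_of_not_two_le _ hd
      have hxU : x ∉ U := fun h => hx (hUle h)
      have hxV : x ∉ Vinf := fun h => hx (Opens.mem_iSup.mpr ⟨none, h⟩)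
      exact hx (Opens.mem_iSup.mpr ⟨some x, hVmem x hxU hxV hd'⟩)
  exact ⟨Q, hQinv, ⟨ψ ≪≫ φ⟩⟩

end Groth.Agent.Lib.Helper29.ExtUFD
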