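import Mathlib.LinearAlgebra.Basis.VectorSpace
import Mathlib.LinearAlgebra.Dual.Defs
import Mathlib.LinearAlgebra.TensorProduct.Tower
import Mathlib.RingTheory.Finiteness.Basic
import Mathlib.RingTheory.Flat.Localization
import Mathlib.RingTheory.Localization.FractionRing
import Mathlib.RingTheory.Localization.Integer

/-! Extending functionals (up to a nonzero scalar) along injective maps of modules over a domain. -/

set_option autoImplicit false
universe u

namespace Groth.Agent.Lib.Helper29

open TensorProduct

/-- Over a domain, a functional on a submodule of a finite module extends after multiplication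
by a nonzero scalar. -/
theorem exists_extend_smul (R : Type u) [CommRing R] [IsDomain R] {M M' : Type u}
    [AddCommGroup M] [Module R M] [AddCommGroup M'] [Module R M'] [Module.Finite R M']
    (f : M →ₗ[R] M') (hf : Function.Injective f) (l : M →ₗ[R] R) :
    ∃ (c : R) (μ : M' →ₗ[R] R), c ≠ 0 ∧ μ ∘ₗ f = c • l := by
  classical
  let K := FractionRing R
  have hfK : Function.Injective (f.baseChange K) :=
    Module.Flat.lTensor_preserves_injective_linearMap f hf
  obtain ⟨g, hg⟩ := LinearMap.exists_leftInverse_of_injective (f.baseChange K)
    (LinearMap.ker_eq_bot.2 hfK)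
  let ν : K ⊗[R] M' →ₗ[K] K :=
    (TensorProduct.AlgebraTensorModule.rid R K K).toLinearMap ∘ₗ (l.baseChange K) ∘ₗ g
  let μ' : M' →ₗ[R] K := (ν.restrictScalars R) ∘ₗ (TensorProduct.mk R K M' 1)
  have hμ'f : ∀ m, μ' (f m) = algebraMap R K (l m) := by
    intro m
    have h1 : g ((1 : K) ⊗ₜ[R] f m) = (1 : K) ⊗ₜ[R] m := by
      have := LinearMap.congr_fun hg ((1 : K) ⊗ₜ[R] m)
      simpa using this
    simp only [μ', ν, LinearMap.coe_comp, Function.comp_apply, LinearMap.coe_restrictScalars,
      TensorProduct.mk_apply, LinearEquiv.coe_coe, h1, LinearMap.baseChange_tmul,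
      TensorProduct.AlgebraTensorModule.rid_tmul, Algebra.smul_def, mul_one]
  obtain ⟨S, hS⟩ := (Module.finite_def (R := R) (M := M')).1 inferInstance
  obtain ⟨b, hb⟩ := IsLocalization.exist_integer_multiples_of_finset (nonZeroDivisors R)
    (S.image μ')
  have hint : ∀ x : M', IsLocalization.IsInteger R ((b : R) • μ' x) := by
    intro x
    have hx : x ∈ Submodule.span R (S : Set M') := by rw [hS]; trivial
    induction hx using Submodule.span_induction with
    | mem y hy => exact hb _ (Finset.mem_image_of_mem μ' hy)
    | zero => simpa using IsLocalization.isInteger_zero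
    | add y z _ _ hy hz => rw [map_add, smul_add]; exact IsLocalization.isInteger_add hy hz
    | smul r y _ hy => rw [map_smul, smul_comm]; exact IsLocalization.isInteger_smul hy
  have hinj : Function.Injective (algebraMap R K) := IsFractionRing.injective R K
  choose φ hφ using hint
  let μ : M' →ₗ[R] R :=
    { toFun := φ
      map_add' := fun x y => by
        apply hinj
        rw [map_add, hφ, hφ, hφ, map_add, smul_add]
      map_smul' := fun r x => by
        apply hinj
        rw [RingHom.id_apply, smul_eq_mul, map_mul, hφ, hφ, map_smul, smul_comm, Algebra.smul_def r] }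
  refine ⟨b, μ, nonZeroDivisors.coe_ne_zero b, ?_⟩
  ext m
  apply hinj
  show algebraMap R K (φ (f m)) = _
  rw [hφ, hμ'f, LinearMap.smul_apply, smul_eq_mul, map_mul, Algebra.smul_def]

end Groth.Agent.Lib.Helper29
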