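import Mathlib
universe u
open TensorProduct

/-! # Descent of freeness of rank one along a free faithfully flat extension of a semilocal ring -/

namespace Groth.Agent.Lib.Helper29.FBCAlg

/-- rank one at every maximal ideal, given free of rank one after faithfully flat base change -/
theorem finrank_quot_tensor_eq_one {A A' : Type u} [CommRing A] [CommRing A'] [Algebra A A']
    [Module.FaithfullyFlat A A'] {M : Type u} [AddCommGroup M] [Module A M]
    (e : A' ⊗[A] M ≃ₗ[A'] A') (P : Ideal A) [hP : P.IsMaximal] :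
    Module.finrank (A ⧸ P) ((A ⧸ P) ⊗[A] M) = 1 := by
  letI := Ideal.Quotient.field P
  have hne : Ideal.map (algebraMap A A') P ≠ ⊤ := by
    intro h
    have := Ideal.comap_map_eq_self_of_faithfullyFlat (B := A') P
    rw [h, Ideal.comap_top] at this
    exact hP.ne_top this.symm
  obtain ⟨Q, hQ, hPQ⟩ := Ideal.exists_le_maximal _ hne
  letI := Ideal.Quotient.field Q
  have hker : ∀ a ∈ P, algebraMap A (A' ⧸ Q) a = 0 := by
    intro a ha
    rw [IsScalarTower.algebraMap_apply A A' (A' ⧸ Q)]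
    exact Ideal.Quotient.eq_zero_iff_mem.mpr (hPQ (Ideal.mem_map_of_mem _ ha))
  let φ : (A ⧸ P) →+* (A' ⧸ Q) := Ideal.Quotient.lift P (algebraMap A (A' ⧸ Q)) hker
  letI : Algebra (A ⧸ P) (A' ⧸ Q) := φ.toAlgebra
  haveI : IsScalarTower A (A ⧸ P) (A' ⧸ Q) := IsScalarTower.of_algebraMap_eq (fun a => rfl)
  have e1 : (A' ⧸ Q) ⊗[A ⧸ P] ((A ⧸ P) ⊗[A] M) ≃ₗ[A' ⧸ Q] (A' ⧸ Q) ⊗[A] M :=
    AlgebraTensorModule.cancelBaseChange A (A ⧸ P) (A' ⧸ Q) (A' ⧸ Q) M
  have e2 : (A' ⧸ Q) ⊗[A'] (A' ⊗[A] M) ≃ₗ[A' ⧸ Q] (A' ⧸ Q) ⊗[A] M :=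
    AlgebraTensorModule.cancelBaseChange A A' (A' ⧸ Q) (A' ⧸ Q) M
  have e3 : (A' ⧸ Q) ⊗[A'] (A' ⊗[A] M) ≃ₗ[A' ⧸ Q] (A' ⧸ Q) ⊗[A'] A' :=
    AlgebraTensorModule.congr (LinearEquiv.refl (A' ⧸ Q) (A' ⧸ Q)) e
  have e4 : (A' ⧸ Q) ⊗[A'] A' ≃ₗ[A' ⧸ Q] (A' ⧸ Q) := AlgebraTensorModule.rid A' (A' ⧸ Q) (A' ⧸ Q)
  have h1 : Module.finrank (A' ⧸ Q) ((A' ⧸ Q) ⊗[A ⧸ P] ((A ⧸ P) ⊗[A] M)) = 1 := by
    rw [(e1.trans (e2.symm.trans (e3.trans e4))).finrank_eq, Module.finrank_self]
  exact (Module.finrank_baseChange (R := A' ⧸ Q) (S := A ⧸ P) (M' := (A ⧸ P) ⊗[A] M)).symm.trans h1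


theorem exists_generator {A A' : Type u} [CommRing A] [CommRing A'] [Algebra A A']
    [Finite (MaximalSpectrum A)]
    {Λ : Type*} [Nonempty Λ] (β : Λ → A')
    (hβ : Function.Bijective (fun c : Λ →₀ A => c.sum fun l a => algebraMap A A' a * β l))
    {M M' : Type u} [AddCommGroup M] [Module A M] [AddCommGroup M'] [Module A' M']
    (π : M →+ M') (hπ : ∀ (a : A) (m : M), π (a • m) = algebraMap A A' a • π m)
    (hM : Function.Bijective (fun m : Λ →₀ M => m.sum fun l n => β l • π n))
    (t : M') (ht : Function.Bijective (fun a : A' => a • t)) :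
    ∃ s : M, Function.Bijective (fun a : A => a • s) := by
  classical
  by_cases hA : Nontrivial A
  swap
  · rw [not_nontrivial_iff_subsingleton] at hA
    haveI : Subsingleton M := Module.subsingleton A M
    exact ⟨0, fun a b _ => Subsingleton.elim a b, fun m => ⟨0, Subsingleton.elim _ _⟩⟩
  have hβ' : Function.Bijective (Finsupp.linearCombination A β) := by
    convert hβ using 1
    funext c
    rw [Finsupp.linearCombination_apply]
    refine Finsupp.sum_congr fun l _ => ?_
    rw [Algebra.smul_def]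
  let ℬ : Module.Basis Λ A A' :=
    Module.Basis.ofRepr (LinearEquiv.ofBijective (Finsupp.linearCombination A β) hβ').symm
  have hℬ : ∀ l, ℬ l = β l := by
    intro l
    change (LinearEquiv.ofBijective (Finsupp.linearCombination A β) hβ') (Finsupp.single l 1) = _
    rw [LinearEquiv.ofBijective_apply, Finsupp.linearCombination_single, one_smul]
  haveI : Module.Free A A' := Module.Free.of_basis ℬ
  haveI : Nontrivial A' := by
    obtain ⟨l₀⟩ := ‹Nonempty Λ›
    refine ⟨⟨ℬ l₀, 0, ℬ.ne_zero l₀⟩⟩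
  haveI : Module.FaithfullyFlat A A' := inferInstance
  letI : Module A M' := Module.compHom M' (algebraMap A A')
  haveI : IsScalarTower A A' M' := IsScalarTower.of_algebraMap_smul (fun a m => rfl)
  let πl : M →ₗ[A] M' := { toFun := π, map_add' := π.map_add, map_smul' := fun a m => hπ a m }
  let F : A' ⊗[A] M →ₗ[A'] M' := LinearMap.liftBaseChange A' πl
  have hFc : ∀ b : Λ →₀ M, F ((TensorProduct.equivFinsuppOfBasisLeft ℬ).symm b) =
      b.sum fun l n => β l • π n := by
    intro b
    rw [TensorProduct.equivFinsuppOfBasisLeft_symm_apply, map_finsuppSum]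
    refine Finsupp.sum_congr fun l _ => ?_
    rw [LinearMap.liftBaseChange_tmul, hℬ]
    rfl
  have hF : Function.Bijective F := by
    have h1 : (F : A' ⊗[A] M → M') =
        (fun m : Λ →₀ M => m.sum fun l n => β l • π n) ∘
          (TensorProduct.equivFinsuppOfBasisLeft ℬ (N := M)) := by
      funext x
      obtain ⟨b, rfl⟩ := (TensorProduct.equivFinsuppOfBasisLeft ℬ (N := M)).symm.surjective x
      rw [hFc, Function.comp_apply, LinearEquiv.apply_symm_apply]
    rw [h1]
    exact hM.comp (TensorProduct.equivFinsuppOfBasisLeft ℬ (N := M)).bijective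
  let e : A' ⊗[A] M ≃ₗ[A'] A' :=
    (LinearEquiv.ofBijective F hF).trans
      (LinearEquiv.ofBijective (LinearMap.toSpanSingleton A' M' t) ht).symm
  -- projectivity
  have eA : (Λ →₀ M) ≃ₗ[A] A' :=
    (TensorProduct.equivFinsuppOfBasisLeft ℬ (N := M)).symm.trans (e.restrictScalars A)
  haveI : Module.Projective A (Λ →₀ M) := Module.Projective.of_equiv eA.symm
  obtain ⟨l₀⟩ := ‹Nonempty Λ›
  haveI : Module.Projective A M :=
    Module.Projective.of_split (Finsupp.lsingle l₀ : M →ₗ[A] (Λ →₀ M)) (Finsupp.lapply l₀) (by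
      ext m
      simp)
  haveI : Module.Finite A' (A' ⊗[A] M) := Module.Finite.equiv e.symm
  haveI : Module.Finite A M := Module.Finite.of_finite_tensorProduct_of_faithfullyFlat A'
  have rk : ∀ P : MaximalSpectrum A, Module.finrank (A ⧸ P.1) ((A ⧸ P.1) ⊗[A] M) = 1 := by
    intro P
    haveI := P.2
    exact finrank_quot_tensor_eq_one e P.1
  obtain ⟨b⟩ := Module.nonempty_basis_of_flat_of_finrank_eq A M 1 rk
  refine ⟨b 0, ?_, ?_⟩
  · intro a a' h
    have h2 := congrArg (fun m => b.repr m 0) h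
    simpa using h2
  · intro m
    refine ⟨b.repr m 0, ?_⟩
    have := b.sum_repr m
    rw [Fin.sum_univ_one] at this
    exact this


open CategoryTheory CategoryTheory.Limits in
theorem bijective_of_isPushout {A R C P : CommRingCat.{u}} (φ : A ⟶ R) (ψ : A ⟶ C) (inl : R ⟶ P)
    (inr : C ⟶ P) (h : IsPushout φ ψ inl inr) {Λ : Type*} (b : Λ → C)
    (hb : Function.Bijective (fun c : Λ →₀ A => c.sum fun l a => ψ.hom a * b l)) :
    Function.Bijective (fun c : Λ →₀ R => c.sum fun l r => inl.hom r * inr.hom (b l)) := by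
  classical
  letI : Algebra A R := φ.hom.toAlgebra
  letI : Algebra A C := ψ.hom.toAlgebra
  have hT := CommRingCat.isPushout_tensorProduct A R C
  have hT' : IsPushout φ ψ
      (CommRingCat.ofHom (S := R ⊗[A] C) <| Algebra.TensorProduct.includeLeftRingHom)
      (CommRingCat.ofHom (S := R ⊗[A] C) <| Algebra.TensorProduct.includeRight.toRingHom) := hT
  let E : CommRingCat.of (R ⊗[A] C) ≅ P := hT'.isoIsPushout _ _ h
  have hEl : ∀ r : R, E.hom.hom (r ⊗ₜ[A] (1 : C)) = inl.hom r := by
    intro r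
    have := congrArg (fun f : R ⟶ P => f.hom r) (hT'.inl_isoIsPushout_hom _ _ h)
    exact this
  have hEr : ∀ c : C, E.hom.hom ((1 : R) ⊗ₜ[A] c) = inr.hom c := by
    intro c
    have := congrArg (fun f : C ⟶ P => f.hom c) (hT'.inr_isoIsPushout_hom _ _ h)
    exact this
  have hb' : Function.Bijective (Finsupp.linearCombination A b) := by
    convert hb using 1
    funext c
    rw [Finsupp.linearCombination_apply]
    refine Finsupp.sum_congr fun l _ => ?_
    rw [Algebra.smul_def]
    rfl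
  let ℬC : Module.Basis Λ A C :=
    Module.Basis.ofRepr (LinearEquiv.ofBijective (Finsupp.linearCombination A b) hb').symm
  have hℬC : ∀ l, ℬC l = b l := by
    intro l
    change (LinearEquiv.ofBijective (Finsupp.linearCombination A b) hb') (Finsupp.single l 1) = _
    rw [LinearEquiv.ofBijective_apply, Finsupp.linearCombination_single, one_smul]
  let ℬ : Module.Basis Λ R (R ⊗[A] C) := Algebra.TensorProduct.basis R ℬC
  have key : ∀ c : Λ →₀ R, (c.sum fun l r => inl.hom r * inr.hom (b l)) =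
      E.hom.hom (ℬ.repr.symm c) := by
    intro c
    rw [Module.Basis.repr_symm_apply, Finsupp.linearCombination_apply, map_finsuppSum]
    refine Finsupp.sum_congr fun l _ => ?_
    rw [Algebra.TensorProduct.basis_apply, hℬC, TensorProduct.smul_tmul', smul_eq_mul, mul_one,
      ← hEl, ← hEr, ← map_mul, Algebra.TensorProduct.tmul_mul_tmul, mul_one, one_mul]
  rw [show (fun c : Λ →₀ R => c.sum fun l r => inl.hom r * inr.hom (b l)) =
    (E.hom.hom ∘ ℬ.repr.symm) from funext key]
  exact (ConcreteCategory.bijective_of_isIso E.hom).comp ℬ.repr.symm.bijective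

end Groth.Agent.Lib.Helper29.FBCAlg
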