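import Groth.Agent.Lib.Helper29.PicUFD1
import Groth.Agent.Lib.Helper29.EffC2
import Groth.Agent.S8914
import Groth.Prelude.Def_FEt
import Mathlib
universe u
open CategoryTheory CategoryTheory.Limits AlgebraicGeometry TopologicalSpace Opposite

/-! # Factoriality of a local domain from its punctured spectrum -/

namespace Groth.Agent.Lib.Helper29.PicUFD
open Groth.Agent.Lib.Helper29.QCoh Groth.Agent.Lib.Helper29.QCoh.Glue
  Groth.Agent.Lib.Helper29.EffC Groth.Agent.Lib.Helper25.BlowUpUP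
  Groth.Agent.Lib.Helper29.AmpDiv Groth.Agent.Lib.Helper10.DivLocal
  Groth.Agent.Lib.Helper25.HypTwist

variable {X : Scheme.{u}}

theorem mem_vanishingIdeal_ideal_iff (Z : Closeds X) (V : X.affineOpens) (f : Γ(X, V.1)) :
    f ∈ (Scheme.IdealSheafData.vanishingIdeal Z).ideal V ↔
      ∀ y ∈ Z, y ∈ V.1 → y ∉ X.basicOpen f := by
  rw [Scheme.IdealSheafData.vanishingIdeal_ideal, PrimeSpectrum.mem_vanishingIdeal]
  constructor
  · intro h y hyZ hyV hyf
    have h1 := h (V.2.primeIdealOf ⟨y, hyV⟩) (by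
      show V.2.fromSpec _ ∈ Z
      rw [V.2.fromSpec_primeIdealOf ⟨y, hyV⟩]; exact hyZ)
    have h2 := (Groth.Agent.Lib.Helper29.Punct.mem_basicOpen_fromSpec V.2 f
      (V.2.primeIdealOf ⟨y, hyV⟩))
    rw [V.2.fromSpec_primeIdealOf ⟨y, hyV⟩] at h2
    exact h2.mp hyf h1
  · intro h p hp
    by_contra hfp
    have h2 := (Groth.Agent.Lib.Helper29.Punct.mem_basicOpen_fromSpec V.2 f p).mpr hfp
    have hV : V.2.fromSpec p ∈ V.1 := by
      have : V.2.fromSpec p ∈ Set.range V.2.fromSpec := ⟨p, rfl⟩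
      rw [V.2.range_fromSpec] at this; exact this
    exact h _ hp hV h2

theorem isTriv_top_of_iso {L : X.Modules} (ε : unitM X ≅ L) : IsTriv L ⊤ (sval ε.hom ⊤) := by
  intro W hW
  have hb : Function.Bijective (ε.hom.app W) := app_bijective_of_isIso ε.hom W
  have hfun : (fun r : Γ(X, W) => r • QCoh.res L hW (sval ε.hom ⊤)) =
      (fun s => ε.hom.app W s) ∘ toUnit := by
    funext r
    simp only [Function.comp_apply]
    rw [app_eq_smul_sval, res_sval]
  rw [hfun]
  exact hb.comp ⟨fun a b h => h, fun s => ⟨fromUnit s, rfl⟩⟩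

theorem ideal_eq_span_of_isTriv_top (𝓘 : X.IdealSheafData) {t : Γ(ClSub.idealMod 𝓘, ⊤)}
    (ht : IsTriv (ClSub.idealMod 𝓘) ⊤ t) (V : X.affineOpens) :
    𝓘.ideal V = Ideal.span {rres X (le_top : V.1 ≤ ⊤) (ifun 𝓘 t)} := by
  apply le_antisymm
  · intro a ha
    obtain ⟨s, hs⟩ := exists_ifun_eq 𝓘 V a ha
    obtain ⟨r, hr⟩ := (ht V.1 le_top).2 s
    rw [Ideal.mem_span_singleton']
    refine ⟨r, ?_⟩
    rw [← hs, ← hr, ifun_smul, ifun_res]
  · rw [Ideal.span_singleton_le_iff_mem, ← ifun_res]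
    exact ifun_mem 𝓘 V _

theorem exists_integral_vanishingIdeal (ξ' : X) :
    ∃ (Z : Closeds X) (𝓘 : X.IdealSheafData) (_ : IsIntegral 𝓘.subscheme),
      (Z : Set X) = closure {ξ'} ∧ 𝓘 = Scheme.IdealSheafData.vanishingIdeal Z ∧
        𝓘.subschemeι (genericPoint ↥𝓘.subscheme) = ξ' := by
  obtain ⟨hint, hgp⟩ := isIntegral_subscheme_closure ξ'
  exact ⟨_, _, hint, rfl, rfl, hgp⟩

/-- A Noetherian local domain of dimension at least two is factorial as soon as functions extend
over the closed point, the punctured spectrum is locally factorial and has trivial Picard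
group. -/
theorem ufd_of_punctured (A : Type u) [CommRing A] [IsDomain A] [IsNoetherianRing A]
    [IsLocalRing A] (hdim : (2 : WithBot ℕ∞) ≤ ringKrullDim A)
    (hbij : Function.Bijective ((Spec (CommRingCat.of A)).presheaf.map
      (homOfLE (le_top : FEt.puncturedSpec A ≤ ⊤)).op))
    (hufd : ∀ y : ↥(Spec (CommRingCat.of A)), y ∈ FEt.puncturedSpec A →
      UniqueFactorizationMonoid ((Spec (CommRingCat.of A)).presheaf.stalk y))
    (hpic : ∀ L : (FEt.puncturedSpec A : Scheme.{u}).Modules, PicF.IsInvertible L →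
      Nonempty (L ≅ Coh.structureModule (FEt.puncturedSpec A : Scheme.{u}))) :
    UniqueFactorizationMonoid A := by
  classical
  apply UniqueFactorizationMonoid.iff_exists_prime_mem_of_isPrime.mpr
  intro I hI0 hIprime
  obtain ⟨a, haI, ha0⟩ := Submodule.exists_mem_ne_zero_of_ne_bot hI0
  obtain ⟨P, hPmin, hPI⟩ := Ideal.exists_minimalPrimes_le
    (show Ideal.span {a} ≤ I from (Ideal.span_singleton_le_iff_mem _).mpr haI)
  have hPprime : P.IsPrime := hPmin.1.1
  have haP : a ∈ P := hPmin.1.2 (Ideal.mem_span_singleton_self a)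
  have hPh1 : P.height ≤ 1 := by
    have : (Ideal.span {a}).IsPrincipal := ⟨⟨a, rfl⟩⟩
    exact Ideal.height_le_one_of_isPrincipal_of_mem_minimalPrimes (Ideal.span {a}) P hPmin
  have hPh0 : P.height ≠ 0 := by
    rw [Ne, Ideal.height_eq_zero_iff_eq_bot]
    intro h
    rw [h] at haP
    exact ha0 (by simpa using haP)
  have hPh : P.height = 1 := le_antisymm hPh1 (Order.one_le_iff_ne_zero.mpr hPh0)
  suffices hprin : ∃ g : A, P = Ideal.span {g} by
    obtain ⟨g, hg⟩ := hprin
    have hg0 : g ≠ 0 := by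
      rintro rfl
      rw [hg] at haP
      exact ha0 (by simpa using haP)
    refine ⟨g, hPI (hg ▸ Ideal.mem_span_singleton_self g), ?_⟩
    exact (Ideal.span_singleton_prime hg0).mp (hg ▸ hPprime)
  -- notation
  obtain ⟨X, hX⟩ : ∃ X : Scheme.{u}, X = Spec (CommRingCat.of A) := ⟨_, rfl⟩
  obtain ⟨U, hU⟩ : ∃ U : (Spec (CommRingCat.of A)).Opens, U = FEt.puncturedSpec A := ⟨_, rfl⟩
  rw [← hU] at hbij hufd hpic
  let ξ : ↥(Spec (CommRingCat.of A)) := (⟨P, hPprime⟩ : PrimeSpectrum A)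
  have hξU : ξ ∈ U := by
    rw [hU]
    intro h
    have h1 : P = IsLocalRing.maximalIdeal A := congrArg PrimeSpectrum.asIdeal h
    have h2 : (IsLocalRing.maximalIdeal A).height = 1 := h1 ▸ hPh
    have h3 := IsLocalRing.maximalIdeal_height_eq_ringKrullDim (R := A)
    rw [h2] at h3
    rw [← h3] at hdim
    exact absurd hdim (by decide)
  let ξ' : ↥(U : Scheme.{u}) := ⟨ξ, hξU⟩
  obtain ⟨Z, 𝓘, hint, hZ, h𝓘, hgp⟩ := exists_integral_vanishingIdeal (X := (U : Scheme.{u})) ξ'
  have hUln : IsLocallyNoetherian (U : Scheme.{u}) := inferInstance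
  have hiff : ∀ (V : (U : Scheme.{u}).affineOpens) (f : Γ((U : Scheme.{u}), V.1)),
      f ∈ 𝓘.ideal V ↔ ∀ y ∈ Z, y ∈ V.1 → y ∉ (U : Scheme.{u}).basicOpen f := by
    intro V f
    rw [h𝓘]
    exact mem_vanishingIdeal_ideal_iff Z V f
  have hXstalk : ∀ y : ↥(Spec (CommRingCat.of A)),
      IsDomain ((Spec (CommRingCat.of A)).presheaf.stalk y) ∧
      ringKrullDim ((Spec (CommRingCat.of A)).presheaf.stalk y) = y.asIdeal.height := by
    intro y
    let k : Algebra A ((Spec (CommRingCat.of A)).presheaf.stalk y) :=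
      AlgebraicGeometry.StructureSheaf.stalkAlgebra A y
    have hloc : IsLocalization.AtPrime ((Spec (CommRingCat.of A)).presheaf.stalk y) y.asIdeal :=
      AlgebraicGeometry.StructureSheaf.IsLocalization.to_stalk A y
    exact ⟨IsLocalization.isDomain_of_le_nonZeroDivisors _
      (Ideal.primeCompl_le_nonZeroDivisors y.asIdeal),
      IsLocalization.AtPrime.ringKrullDim_eq_height y.asIdeal _⟩
  have hstalk : ∀ y : ↥(U : Scheme.{u}), IsDomain ((U : Scheme.{u}).presheaf.stalk y) ∧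
      UniqueFactorizationMonoid ((U : Scheme.{u}).presheaf.stalk y) := by
    intro y
    let e := (U.stalkIso y).commRingCatIsoToRingEquiv
    have hd := (hXstalk y.1).1
    exact ⟨e.toMulEquiv.isDomain _, e.symm.toMulEquiv.uniqueFactorizationMonoid (hufd y.1 y.2)⟩
  have hcodim : ringKrullDim ((U : Scheme.{u}).presheaf.stalk
      (𝓘.subschemeι (genericPoint ↥𝓘.subscheme))) = 1 := by
    rw [hgp, ringKrullDim_eq_of_ringEquiv (U.stalkIso ξ').commRingCatIsoToRingEquiv]
    have := (hXstalk ξ).2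
    change ringKrullDim ((Spec (CommRingCat.of A)).presheaf.stalk ξ) = 1
    rw [this]
    change ((P.height : ℕ∞) : WithBot ℕ∞) = 1
    rw [hPh]; rfl
  have hD : BlowUp.IsEffCartierIdeal 𝓘 :=
    @isEffCartierIdeal_of_integral_codim_one_ufd (U : Scheme.{u}) _ 𝓘 hint hcodim
      (fun y _ => hstalk y)
  have hinv : PicF.IsInvertible (ClSub.idealMod 𝓘) := (Groth.Agent.S8914.result 𝓘).mpr hD
  obtain ⟨ε⟩ := hpic _ hinv
  have ht := isTriv_top_of_iso ε.symm
  obtain ⟨t, htdef⟩ : ∃ t : Γ(ClSub.idealMod 𝓘, ⊤), t = sval ε.symm.hom ⊤ := ⟨_, rfl⟩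
  rw [← htdef] at ht
  -- the comparison map `A → Γ(U, ⊤)`
  let ρ : A →+* Γ((U : Scheme.{u}), ⊤) :=
    (U.ι.appTop).hom.comp (Scheme.ΓSpecIso (CommRingCat.of A)).inv.hom
  have hρ : Function.Bijective ρ := by
    have h1 : Function.Bijective (Scheme.ΓSpecIso (CommRingCat.of A)).inv.hom :=
      ConcreteCategory.bijective_of_isIso (Scheme.ΓSpecIso (CommRingCat.of A)).inv
    have h2 : Function.Bijective (U.ι.appTop).hom := by
      have e : U.ι ''ᵁ ⊤ = U := U.ι_image_top
      have hcomp : (Spec (CommRingCat.of A)).presheaf.map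
          (homOfLE (le_top : U.ι ''ᵁ ⊤ ≤ ⊤)).op =
          (Spec (CommRingCat.of A)).presheaf.map (homOfLE (le_top : U ≤ ⊤)).op ≫
            (Spec (CommRingCat.of A)).presheaf.map (eqToHom e).op := by
        rw [← Functor.map_comp]; rfl
      show Function.Bijective ((Spec (CommRingCat.of A)).presheaf.map
          (homOfLE (le_top : U.ι ''ᵁ ⊤ ≤ ⊤)).op).hom
      rw [hcomp]
      have h3 : IsIso ((Spec (CommRingCat.of A)).presheaf.map (eqToHom e).op) := by
        rw [eqToHom_op, eqToHom_map]; infer_instance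
      have h4 : Function.Bijective ((Spec (CommRingCat.of A)).presheaf.map (eqToHom e).op) :=
        ConcreteCategory.bijective_of_isIso _
      have := h4.comp hbij
      convert this using 1
      funext z
      simp
    exact h2.comp h1
  -- vanishing of `ρ a'` at a point
  have hvan : ∀ (a' : A) (y : ↥(U : Scheme.{u})),
      y ∈ (U : Scheme.{u}).basicOpen (ρ a') ↔ a' ∉ y.1.asIdeal := by
    intro a' y
    have h1 := Scheme.preimage_basicOpen_top U.ι
      ((Scheme.ΓSpecIso (CommRingCat.of A)).inv.hom a')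
    have h2 : (U : Scheme.{u}).basicOpen (ρ a') =
        U.ι ⁻¹ᵁ (Spec (CommRingCat.of A)).basicOpen
          ((Scheme.ΓSpecIso (CommRingCat.of A)).inv.hom a') := h1.symm
    rw [h2, basicOpen_eq_of_affine]
    exact Iff.rfl
  obtain ⟨g, hg⟩ := hρ.2 (ifun 𝓘 t)
  refine ⟨g, le_antisymm ?_ ?_⟩
  · intro a' ha'
    have hmem : ∀ (V : (U : Scheme.{u}).affineOpens) (h : V.1 ≤ ⊤),
        rres (U : Scheme.{u}) h (ρ a') ∈ 𝓘.ideal V := by
      intro V h
      rw [hiff]
      intro y hyZ hyV hyb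
      have hyb' : y ∈ (U : Scheme.{u}).basicOpen (ρ a') := by
        have := (U : Scheme.{u}).basicOpen_res (ρ a') (homOfLE h).op
        have h5 : y ∈ V.1 ⊓ (U : Scheme.{u}).basicOpen (ρ a') := by
          rw [← this]; exact hyb
        exact h5.2
      rw [hvan] at hyb'
      apply hyb'
      have hspec : ξ' ⤳ y := by
        rw [specializes_iff_mem_closure, ← hZ]
        exact hyZ
      have hspec' : ξ ⤳ y.1 := hspec.map U.ι.continuous
      exact (PrimeSpectrum.le_iff_specializes ξ y.1).mpr hspec' ha'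
    obtain ⟨s, hs⟩ := exists_ifun_eq_of_forall_affine 𝓘 ⊤ (ρ a') hmem
    obtain ⟨r, hr⟩ := (ht ⊤ le_rfl).2 s
    obtain ⟨c, hc⟩ := hρ.2 r
    have hr' : r • t = s := by
      have := hr
      simp only [res_self] at this
      exact this
    have heq : ρ a' = ρ (c * g) := by
      rw [map_mul, hc, hg, ← hs, ← hr', ifun_smul]
    rw [hρ.1 heq]
    exact Ideal.mem_span_singleton'.mpr ⟨c, rfl⟩
  · rw [Ideal.span_singleton_le_iff_mem]
    obtain ⟨V, hV, hξV, -⟩ := AlgebraicGeometry.exists_isAffineOpen_mem_and_subset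
      (show ξ' ∈ (⊤ : (U : Scheme.{u}).Opens) from trivial)
    have h1 : rres (U : Scheme.{u}) (le_top : V ≤ ⊤) (ifun 𝓘 t) ∈ 𝓘.ideal ⟨V, hV⟩ := by
      rw [ideal_eq_span_of_isTriv_top 𝓘 ht ⟨V, hV⟩]
      exact Ideal.mem_span_singleton_self _
    rw [hiff] at h1
    have h2 := h1 ξ' (by
      show ξ' ∈ (Z : Set _)
      rw [hZ]; exact subset_closure rfl) hξV
    by_contra hgP
    apply h2
    have := (U : Scheme.{u}).basicOpen_res (ifun 𝓘 t) (homOfLE (le_top : V ≤ ⊤)).op
    have h3 : ξ' ∈ V ⊓ (U : Scheme.{u}).basicOpen (ifun 𝓘 t) := by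
      refine ⟨hξV, ?_⟩
      rw [← hg]
      exact (hvan g ξ').mpr hgP
    rw [← this] at h3
    exact h3

end Groth.Agent.Lib.Helper29.PicUFD
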