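import Groth.Agent.Lib.Helper29.Thick2
import Groth.Agent.Lib.Helper29.PicUFD2
universe u
open CategoryTheory CategoryTheory.Limits AlgebraicGeometry TopologicalSpace Opposite

/-! # Injectivity of `Pic` under pullback along a morphism with `O_Y = f_* O_X` -/

namespace Groth.Agent.Lib.Helper29.PicFib
open Groth.Agent.Lib.Helper29.QCoh Groth.Agent.Lib.Helper29.QCoh.Glue Groth.Agent.Lib.Helper29.Punct
open Groth.Agent.Lib.Helper29 Groth.Agent.Lib.Helper29.Desc Groth.Agent.Lib.Helper29.Thick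
  Groth.Agent.Lib.Helper29.PicUFD

variable {X Y : Scheme.{u}}

theorem nonempty_iso_unit_of_pullback (f : X ⟶ Y)
    (hf : ∀ V : Y.Opens, Function.Bijective (f.app V)) (L : Y.Modules)
    (hL : PicF.IsInvertible L)
    (h : Nonempty ((Scheme.Modules.pullback f).obj L ≅ unitM X)) : Nonempty (L ≅ unitM Y) := by
  obtain ⟨ε⟩ := h
  set P := (Scheme.Modules.pullback f).obj L with hP
  have ht : IsTriv P ⊤ (sval ε.symm.hom ⊤) := isTriv_top_of_iso ε.symm
  set t := sval ε.symm.hom ⊤ with htdef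
  -- local data
  have hloc : ∀ y : Y, ∃ (V : Y.Opens) (s : Γ(L, V)), y ∈ V ∧ IsTriv L V s ∧
      pullSect f L V s = res P (le_top : f ⁻¹ᵁ V ≤ ⊤) t := by
    intro y
    obtain ⟨V, e, hyV, he⟩ := exists_isTriv hL y
    have h1 : IsTriv P (f ⁻¹ᵁ V) (pullSect f L V e) := he.pullSect f
    have h2 : IsTriv P (f ⁻¹ᵁ V) (res P (le_top : f ⁻¹ᵁ V ≤ ⊤) t) := ht.restrict le_top
    obtain ⟨a, ha, hat⟩ := IsTriv.exists_isUnit_smul h1 h2
    obtain ⟨b, rfl⟩ := (hf V).2 a
    have hb : IsUnit b := by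
      let φ : Γ(Y, V) ≃+* Γ(X, f ⁻¹ᵁ V) := RingEquiv.ofBijective (f.app V).hom (hf V)
      have : IsUnit (φ b) := ha
      exact (isUnit_map_iff φ b).mp this
    refine ⟨V, b • e, hyV, Thick.IsTriv.smul_isUnit he hb, ?_⟩
    rw [pullSect_smul, hat]
  choose V s hyV hs hps using hloc
  have hglue : ∀ i j, res L (inf_le_left : V i ⊓ V j ≤ V i) (s i) =
      res L (inf_le_right : V i ⊓ V j ≤ V j) (s j) := by
    intro i j
    have hj : IsTriv L (V i ⊓ V j) (res L (inf_le_right : V i ⊓ V j ≤ V j) (s j)) :=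
      (hs j).restrict inf_le_right
    obtain ⟨g, hg⟩ := hj.exists_eq_smul (res L (inf_le_left : V i ⊓ V j ≤ V i) (s i))
    have h3 := congrArg (pullSect f L (V i ⊓ V j)) hg
    rw [pullSect_smul, pullSect_res, pullSect_res, hps, hps, res_res, res_res] at h3
    have h4 : IsTriv P (f ⁻¹ᵁ (V i ⊓ V j)) (res P (le_top : f ⁻¹ᵁ (V i ⊓ V j) ≤ ⊤) t) :=
      ht.restrict le_top
    have h5 : f.app (V i ⊓ V j) g = 1 := by
      apply h4.smul_left_cancel
      rw [one_smul]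
      exact h3.symm
    have h6 : g = 1 := (hf (V i ⊓ V j)).1 (by rw [h5, map_one])
    rw [hg, h6, one_smul]
  obtain ⟨σ, hσ⟩ := exists_gluing L V ⊤ (fun _ => le_top)
    (fun y _ => Opens.mem_iSup.mpr ⟨y, hyV y⟩) s hglue
  have hT : IsTriv L ⊤ σ := by
    refine isTriv_of_cover L σ V (fun _ => le_top) (fun y _ => Opens.mem_iSup.mpr ⟨y, hyV y⟩) ?_
    intro y
    rw [hσ y]
    exact hs y
  obtain ⟨φ⟩ := nonempty_iso_unit_of_isTriv_top hT
  exact ⟨φ.symm⟩

end Groth.Agent.Lib.Helper29.PicFib
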