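import Groth.Agent.Lib.Helper29.FBCAlg
import Groth.Agent.Lib.Helper29.PicFib1
import Groth.Agent.Lib.Helper29.CartPull
import Groth.Agent.Helper19.PullUnit
universe u
open CategoryTheory CategoryTheory.Limits AlgebraicGeometry TopologicalSpace Opposite
open scoped TensorProduct

/-! # Base change of sections along a morphism which is "free with a global basis" on affines -/

namespace Groth.Agent.Lib.Helper29.FBCBasis
open Groth.Agent.Lib.Helper29.QCoh Groth.Agent.Lib.Helper29.QCoh.Glue Groth.Agent.Lib.Helper29.Punct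
open Groth.Agent.Lib.Helper29 Groth.Agent.Lib.Helper29.Desc Groth.Agent.Lib.Helper29.Thick
  Groth.Agent.Lib.Helper29.PicUFD

variable {X' X : Scheme.{u}} (g : X' ⟶ X) {Λ : Type*} (β : Λ → Γ(X', ⊤))

/-- restriction of `β` to `g⁻¹V` -/
noncomputable def βr (V : X.Opens) (l : Λ) : Γ(X', g ⁻¹ᵁ V) :=
  X'.presheaf.map (homOfLE (le_top : g ⁻¹ᵁ V ≤ ⊤)).op (β l)

theorem map_βr {V V' : X.Opens} (h : V' ≤ V) (l : Λ) :
    X'.presheaf.map (homOfLE (g.preimage_mono h)).op (βr g β V l) = βr g β V' l := by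
  unfold βr
  exact map_map_apply X' _ _ _

/-- `Γ(X', g⁻¹V)` is free over `Γ(X, V)` with basis `β`. -/
def IsBasisOn (V : X.Opens) : Prop :=
  Function.Bijective (fun c : Λ →₀ Γ(X, V) => c.sum fun l r => g.app V r * βr g β V l)

/-- the comparison map -/
noncomputable def cmap (L : X.Modules) (V : X.Opens) (m : Λ →₀ Γ(L, V)) :
    Γ((Scheme.Modules.pullback g).obj L, g ⁻¹ᵁ V) :=
  m.sum fun l n => βr g β V l • pullSect g L V n

theorem res_cmap (L : X.Modules) {V V' : X.Opens} (h : V' ≤ V) (m : Λ →₀ Γ(L, V)) :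
    res _ (g.preimage_mono h) (cmap g β L V m) =
      cmap g β L V' (m.mapRange (res L h) (map_zero _)) := by
  unfold cmap
  rw [Finsupp.sum_mapRange_index (fun l => by rw [map_zero, smul_zero]), map_finsuppSum]
  refine Finsupp.sum_congr fun l _ => ?_
  rw [res_smul, map_βr g β h, pullSect_res]

set_option maxRecDepth 8000 in
theorem cmap_bijective_of_affine (L : X.Modules) [L.IsQuasicoherent] {V : X.Opens}
    (hV : IsAffineOpen V) (hU : IsAffineOpen (g ⁻¹ᵁ V)) (hB : IsBasisOn g β V) :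
    Function.Bijective (cmap g β L V) := by
  classical
  letI := (g.appLE V (g ⁻¹ᵁ V) le_rfl).hom.toAlgebra
  have hB' : Function.Bijective (Finsupp.linearCombination Γ(X, V) (βr g β V)) := by
    unfold IsBasisOn at hB
    convert hB using 1
    funext c
    rw [Finsupp.linearCombination_apply]
    refine Finsupp.sum_congr fun l _ => ?_
    rw [Algebra.smul_def, Scheme.Hom.app_eq_appLE]
    rfl
  let ℬ : Module.Basis Λ Γ(X, V) Γ(X', g ⁻¹ᵁ V) :=
    Module.Basis.ofRepr (LinearEquiv.ofBijective (Finsupp.linearCombination Γ(X, V) (βr g β V)) hB').symm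
  have hℬ : ∀ l, ℬ l = βr g β V l := by
    intro l
    change (LinearEquiv.ofBijective (Finsupp.linearCombination Γ(X, V) (βr g β V)) hB')
      (Finsupp.single l 1) = _
    rw [LinearEquiv.ofBijective_apply, Finsupp.linearCombination_single, one_smul]
  let E := pullbackSectionsEquiv g L hU hV le_rfl
  let T := TensorProduct.equivFinsuppOfBasisLeft ℬ (N := Γ(L, V))
  have key : ∀ m : Λ →₀ Γ(L, V), E (cmap g β L V m) = T.symm m := by
    intro m
    rw [TensorProduct.equivFinsuppOfBasisLeft_symm_apply]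
    unfold cmap
    rw [map_finsuppSum]
    refine Finsupp.sum_congr fun l _ => ?_
    have k1 := Groth.Agent.Helper19.PullUnit.pullbackSectionsEquiv_pullSect g L hU hV le_rfl (m l)
    rw [res_self] at k1
    rw [map_smul, k1, TensorProduct.smul_tmul', smul_eq_mul, mul_one, hℬ]
  have : cmap g β L V = E.symm ∘ T.symm := by
    funext m
    rw [Function.comp_apply, ← key, LinearEquiv.symm_apply_apply]
  rw [this]
  exact E.symm.bijective.comp T.symm.bijective


/-- the standing hypothesis: affine and free with basis `β` over every affine open -/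
def IsFreeBasis : Prop :=
  ∀ V : X.Opens, IsAffineOpen V → IsAffineOpen (g ⁻¹ᵁ V) ∧ IsBasisOn g β V

theorem cmap_injective (hg : IsFreeBasis g β) (L : X.Modules) [L.IsQuasicoherent] (W : X.Opens) :
    Function.Injective (cmap g β L W) := by
  intro m m' h
  ext l
  refine eq_of_res_cover_eq L (fun k : {V : X.affineOpens // V.1 ≤ W} => k.1.1) (fun k => k.2)
    (Groth.Agent.Lib.Helper29.CartPull.le_iSup_affine W) _ _ (fun k => ?_)
  have h1 := congrArg (res _ (g.preimage_mono k.2)) h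
  rw [res_cmap, res_cmap] at h1
  have h2 := (cmap_bijective_of_affine g β L k.1.2 (hg _ k.1.2).1 (hg _ k.1.2).2).1 h1
  have h3 := DFunLike.congr_fun h2 l
  simpa [Finsupp.mapRange_apply] using h3

theorem cmap_surjective_top [CompactSpace X] (hg : IsFreeBasis g β) (L : X.Modules)
    [L.IsQuasicoherent] : Function.Surjective (cmap g β L ⊤) := by
  classical
  intro t
  obtain ⟨n, V, hVaff, hVle, hcov⟩ :=
    exists_finite_affine_cover (X := X) (U := (⊤ : X.Opens)) (by simpa using isCompact_univ)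
  have hloc : ∀ i, ∃ m : Λ →₀ Γ(L, V i),
      cmap g β L (V i) m = res _ (g.preimage_mono (hVle i)) t := fun i =>
    (cmap_bijective_of_affine g β L (hVaff i) (hg _ (hVaff i)).1 (hg _ (hVaff i)).2).2 _
  choose m hm using hloc
  have hglue : ∀ l i j, res L (inf_le_left : V i ⊓ V j ≤ V i) (m i l) =
      res L (inf_le_right : V i ⊓ V j ≤ V j) (m j l) := by
    intro l i j
    have h1 : cmap g β L (V i ⊓ V j) ((m i).mapRange (res L inf_le_left) (map_zero _)) =
        cmap g β L (V i ⊓ V j) ((m j).mapRange (res L inf_le_right) (map_zero _)) := by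
      rw [← res_cmap, ← res_cmap, hm, hm, res_res, res_res]
    have h2 := cmap_injective g β hg L _ h1
    have h3 := DFunLike.congr_fun h2 l
    simpa [Finsupp.mapRange_apply] using h3
  have hex : ∀ l, ∃ s : Γ(L, ⊤), ∀ i, res L (hVle i) s = m i l := fun l =>
    exists_gluing L V ⊤ hVle hcov (fun i => m i l) (hglue l)
  choose s hs using hex
  let S : Finset Λ := Finset.univ.biUnion (fun i => (m i).support)
  have hS : ∀ l, s l ≠ 0 → l ∈ S := by
    intro l hl
    by_contra hnot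
    apply hl
    refine eq_zero_of_res_cover_eq_zero L V hVle hcov _ (fun i => ?_)
    rw [hs]
    have : l ∉ (m i).support := fun h =>
      hnot (Finset.mem_biUnion.mpr ⟨i, Finset.mem_univ _, h⟩)
    exact Finsupp.notMem_support_iff.mp this
  let M : Λ →₀ Γ(L, ⊤) := Finsupp.onFinset S s hS
  refine ⟨M, ?_⟩
  refine eq_of_res_cover_eq _ (fun i => g ⁻¹ᵁ V i) (fun i => g.preimage_mono (hVle i)) ?_ _ _
    (fun i => ?_)
  · intro x _
    obtain ⟨i, hi⟩ := Opens.mem_iSup.mp (hcov (Opens.mem_top (g.base x)))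
    exact Opens.mem_iSup.mpr ⟨i, hi⟩
  · rw [res_cmap g β L (hVle i), ← hm]
    congr 1
    ext l
    simp [M, hs, Finsupp.mapRange_apply]


theorem fromUnit_zero {Y : Scheme.{u}} {V : Y.Opens} : fromUnit (0 : Γ(unitM Y, V)) = 0 := rfl
theorem toUnit_zero {Y : Scheme.{u}} {V : Y.Opens} : toUnit (0 : Γ(Y, V)) = 0 := rfl

theorem fromUnit_finsuppSum {Y : Scheme.{u}} {V : Y.Opens} {N : Type*} [Zero N] (c : Λ →₀ N)
    (F : Λ → N → Γ(unitM Y, V)) : fromUnit (c.sum F) = c.sum fun l n => fromUnit (F l n) := by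
  classical
  unfold Finsupp.sum
  induction c.support using Finset.induction_on with
  | empty => rfl
  | insert a s ha ih => rw [Finset.sum_insert ha, Finset.sum_insert ha, fromUnit_add, ih]

theorem isBasisOn_top [CompactSpace X] (hg : IsFreeBasis g β) : IsBasisOn g β ⊤ := by
  classical
  unfold IsBasisOn
  have hc : Function.Bijective (cmap g β (unitM X) ⊤) :=
    ⟨cmap_injective g β hg _ ⊤, cmap_surjective_top g β hg _⟩
  have hψ : Function.Bijective ((pullbackUnitIso g).hom.app (g ⁻¹ᵁ ⊤)) :=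
    ConcreteCategory.bijective_of_isIso ((pullbackUnitIso g).hom.app (g ⁻¹ᵁ ⊤))
  have hτ : Function.Bijective (fun c : Λ →₀ Γ(X, ⊤) =>
      c.mapRange (toUnit (X := X) (V := ⊤)) toUnit_zero) := by
    refine ⟨fun c c' h => ?_, fun c => ⟨c.mapRange fromUnit fromUnit_zero, ?_⟩⟩
    · ext l
      have := DFunLike.congr_fun h l
      simpa [Finsupp.mapRange_apply] using congrArg fromUnit this
    · ext l
      simp [Finsupp.mapRange_apply]
  have key : ∀ c : Λ →₀ Γ(X, ⊤), (c.sum fun l r => g.app ⊤ r * βr g β ⊤ l) =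
      fromUnit ((pullbackUnitIso g).hom.app (g ⁻¹ᵁ ⊤)
        (cmap g β (unitM X) ⊤ (c.mapRange (toUnit (X := X) (V := ⊤)) toUnit_zero))) := by
    intro c
    unfold cmap
    rw [Finsupp.sum_mapRange_index (fun l => by rw [map_zero, smul_zero]), map_finsuppSum,
      fromUnit_finsuppSum]
    refine Finsupp.sum_congr fun l _ => ?_
    rw [Scheme.Modules.Hom.app_smul, pullbackUnitIso_hom_pullSect, fromUnit_smul, fromUnit_toUnit,
      mul_comm]
  rw [show (fun c : Λ →₀ Γ(X, ⊤) => c.sum fun l r => g.app ⊤ r * βr g β ⊤ l) =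
    (fromUnit ∘ (pullbackUnitIso g).hom.app (g ⁻¹ᵁ ⊤)) ∘ cmap g β (unitM X) ⊤ ∘
      (fun c : Λ →₀ Γ(X, ⊤) => c.mapRange (toUnit (X := X) (V := ⊤)) toUnit_zero) from funext key]
  refine Function.Bijective.comp ?_ (hc.comp hτ)
  exact Function.Bijective.comp ⟨fun a b h => h, fun a => ⟨a, rfl⟩⟩ hψ


theorem isUnit_of_le_basicOpen {Y : Scheme.{u}} {V : Y.Opens} (f : Γ(Y, V))
    (h : V ≤ Y.basicOpen f) : IsUnit f :=
  RingedSpace.isUnit_of_isUnit_germ Y.toRingedSpace V f
    (fun x hx => (Y.mem_basicOpen f x hx).mp (h hx))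

theorem isUnit_of_isUnit_app [Surjective g] {V : X.Opens} (c : Γ(X, V))
    (h : IsUnit (g.app V c)) : IsUnit c := by
  refine isUnit_of_le_basicOpen c fun y hy => ?_
  obtain ⟨x', rfl⟩ := g.surjective y
  have h1 : x' ∈ X'.basicOpen (g.app V c) := by
    rw [Scheme.basicOpen_of_isUnit X' h]
    exact hy
  rw [← Scheme.preimage_basicOpen] at h1
  exact h1

theorem nonempty_iso_unit [CompactSpace X] [Nonempty Λ] [Surjective g] (hg : IsFreeBasis g β)
    (hfin : Finite (MaximalSpectrum Γ(X, ⊤))) (L : X.Modules) (hL : PicF.IsInvertible L)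
    (h : Nonempty ((Scheme.Modules.pullback g).obj L ≅ unitM X')) : Nonempty (L ≅ unitM X) := by
  classical
  haveI : L.IsQuasicoherent := isQuasicoherent_of_isInvertible hL
  obtain ⟨ε⟩ := h
  set P := (Scheme.Modules.pullback g).obj L with hP
  have ht0 : IsTriv P ⊤ (sval ε.symm.hom ⊤) := isTriv_top_of_iso ε.symm
  have ht : IsTriv P (g ⁻¹ᵁ ⊤) (res P (le_top : g ⁻¹ᵁ ⊤ ≤ ⊤) (sval ε.symm.hom ⊤)) :=
    ht0.restrict le_top
  set t := res P (le_top : g ⁻¹ᵁ ⊤ ≤ ⊤) (sval ε.symm.hom ⊤) with htdef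
  letI : Algebra Γ(X, ⊤) Γ(X', g ⁻¹ᵁ ⊤) := (g.app ⊤).hom.toAlgebra
  have hcb : Function.Bijective (cmap g β L ⊤) :=
    ⟨cmap_injective g β hg L ⊤, cmap_surjective_top g β hg L⟩
  obtain ⟨s, hs⟩ := FBCAlg.exists_generator (A := Γ(X, ⊤)) (A' := Γ(X', g ⁻¹ᵁ ⊤))
    (βr g β ⊤) (isBasisOn_top g β hg) (M := Γ(L, ⊤)) (M' := Γ(P, g ⁻¹ᵁ ⊤))
    (pullSect g L ⊤) (fun a m => pullSect_smul g L ⊤ a m) hcb t ht.bijective
  -- `π s = u • t`
  obtain ⟨u, hu⟩ := ht.exists_eq_smul (pullSect g L ⊤ s)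
  -- `t = v • π s`
  obtain ⟨m, hm⟩ := hcb.2 t
  have ha : ∀ n : Γ(L, ⊤), ∃ a : Γ(X, ⊤), n = a • s := fun n => by
    obtain ⟨a, ha⟩ := hs.2 n
    exact ⟨a, ha.symm⟩
  choose a ha using ha
  have hv : t = (m.sum fun l n => βr g β ⊤ l * g.app ⊤ (a n)) • pullSect g L ⊤ s := by
    rw [← hm]
    unfold cmap Finsupp.sum
    rw [Finset.sum_smul]
    refine Finset.sum_congr rfl fun l _ => ?_
    have e1 : pullSect g L ⊤ (m l) = g.app ⊤ (a (m l)) • pullSect g L ⊤ s := by
      conv_lhs => rw [ha (m l)]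
      exact pullSect_smul g L ⊤ _ _
    show βr g β ⊤ l • pullSect g L ⊤ (m l) = _
    rw [e1, ← mul_smul]
  set v := m.sum fun l n => βr g β ⊤ l * g.app ⊤ (a n) with hvdef
  have huv : v * u = 1 := by
    apply ht.smul_left_cancel
    rw [mul_smul, ← hu, ← hv, one_smul]
  have hunit : IsUnit u := IsUnit.of_mul_eq_one v (by rw [mul_comm]; exact huv)
  have hπs : IsTriv P (g ⁻¹ᵁ ⊤) (pullSect g L ⊤ s) := by
    rw [hu]
    exact Thick.IsTriv.smul_isUnit ht hunit
  -- `s` trivialises `L`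
  have hT : IsTriv L ⊤ s := by
    have hloc : ∀ x : X, ∃ V : X.Opens, x ∈ V ∧ IsTriv L V (res L (le_top : V ≤ ⊤) s) := by
      intro x
      obtain ⟨V, e, hxV, he⟩ := exists_isTriv hL x
      refine ⟨V, hxV, ?_⟩
      obtain ⟨c, hc⟩ := he.exists_eq_smul (res L (le_top : V ≤ ⊤) s)
      have h1 : IsTriv P (g ⁻¹ᵁ V) (pullSect g L V e) := he.pullSect g
      have h2 : IsTriv P (g ⁻¹ᵁ V) (pullSect g L V (res L (le_top : V ≤ ⊤) s)) := by
        rw [pullSect_res]
        exact hπs.restrict _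
      obtain ⟨w, hw, hwe⟩ := IsTriv.exists_isUnit_smul h1 h2
      rw [hc, pullSect_smul] at hwe
      have h3 : g.app V c = w := h1.smul_left_cancel hwe
      have h4 : IsUnit c := isUnit_of_isUnit_app g c (h3 ▸ hw)
      rw [hc]
      exact Thick.IsTriv.smul_isUnit he h4
    choose V hxV hV using hloc
    refine isTriv_of_cover L s V (fun _ => le_top) (fun y _ => Opens.mem_iSup.mpr ⟨y, hxV y⟩) ?_
    intro y
    exact hV y
  obtain ⟨φ⟩ := nonempty_iso_unit_of_isTriv_top hT
  exact ⟨φ.symm⟩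

end Groth.Agent.Lib.Helper29.FBCBasis
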