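import Groth.Agent.Helper19.Gordan
import Groth.Prelude.Def_Magnet4
import Mathlib.RingTheory.Localization.BaseChange
import Mathlib.RingTheory.Localization.FractionRing

/-! Faces of finitely generated submonoids of abelian groups are exposed (helper29, for S18244). -/

set_option autoImplicit false
open TensorProduct

namespace Groth.Agent.Lib.Helper29.FaceExposed

/-- clearing denominators of finitely many nonnegative rationals. -/
theorem exists_clear {α : Type*} [DecidableEq α] (s : Finset α) (t : α → ℚ) (ht : ∀ v ∈ s, 0 ≤ t v) :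
    ∃ d : ℕ, 0 < d ∧ ∀ v ∈ s, ∃ k : ℕ, (d : ℚ) * t v = k := by
  induction s using Finset.induction_on with
  | empty => exact ⟨1, one_pos, by simp⟩
  | insert a s ha ih =>
    obtain ⟨d, hd, hk⟩ := ih (fun v hv => ht v (Finset.mem_insert_of_mem hv))
    refine ⟨d * (t a).den, Nat.mul_pos hd (t a).den_pos, ?_⟩
    intro v hv
    rcases Finset.mem_insert.mp hv with rfl | hv
    · have h0 : 0 ≤ (t v).num := Rat.num_nonneg.2 (ht v (Finset.mem_insert_self _ _))
      refine ⟨d * (t v).num.toNat, ?_⟩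
      have h1 : ((t v).num.toNat : ℚ) = ((t v).num : ℚ) := by
        exact_mod_cast congrArg (fun z : ℤ => (z : ℚ)) (Int.toNat_of_nonneg h0)
      push_cast
      rw [h1, mul_assoc, mul_comm ((t v).den : ℚ), Rat.mul_den_eq_num]
    · obtain ⟨k, hk'⟩ := hk v hv
      refine ⟨(t a).den * k, ?_⟩
      push_cast
      rw [← hk']
      ring

variable {M : Type*} [AddCommGroup M]

theorem mem_closure_iff (F : AddSubmonoid M) (x : M) :
    x ∈ AddSubgroup.closure (F : Set M) ↔ ∃ f₁ ∈ F, ∃ f₂ ∈ F, x + f₂ = f₁ := by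
  constructor
  · intro hx
    induction hx using AddSubgroup.closure_induction with
    | mem x hx => exact ⟨x, hx, 0, F.zero_mem, add_zero x⟩
    | zero => exact ⟨0, F.zero_mem, 0, F.zero_mem, add_zero 0⟩
    | add x y _ _ hx hy =>
      obtain ⟨f₁, h1, f₂, h2, e⟩ := hx
      obtain ⟨g₁, h3, g₂, h4, e'⟩ := hy
      refine ⟨f₁ + g₁, F.add_mem h1 h3, f₂ + g₂, F.add_mem h2 h4, ?_⟩
      rw [← e, ← e']; abel
    | neg x _ hx =>
      obtain ⟨f₁, h1, f₂, h2, e⟩ := hx
      refine ⟨f₂, h2, f₁, h1, ?_⟩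
      rw [← e]; abel
  · rintro ⟨f₁, h1, f₂, h2, e⟩
    have : x = f₁ - f₂ := by rw [← e]; abel
    rw [this]
    exact (AddSubgroup.closure (F : Set M)).sub_mem (AddSubgroup.subset_closure h1)
      (AddSubgroup.subset_closure h2)

variable {N F : AddSubmonoid M}

theorem mem_of_nsmul_mem (hF : Magnet.IsFace N F) {x : M} (hx : x ∈ N) {k : ℕ} (hk : 0 < k)
    (h : k • x ∈ F) : x ∈ F := by
  obtain ⟨k, rfl⟩ : ∃ j, k = j + 1 := ⟨k - 1, by omega⟩
  rw [succ_nsmul] at h
  exact (hF.mem_of_add_mem _ (N.nsmul_mem hx k) _ hx h).2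

set_option maxHeartbeats 1000000 in
/-- **faces of finitely generated submonoids of abelian groups are exposed.** -/
theorem exists_exposing (hN : N.FG) (hF : Magnet.IsFace N F) :
    ∃ ℓ : N →+ ℕ, ∀ n : N, ℓ n = 0 ↔ (n : M) ∈ F := by
  classical
  obtain ⟨s, hs⟩ := hN
  let G : AddSubgroup M := AddSubgroup.closure (F : Set M)
  let w : M →+ ℚ ⊗[ℤ] (M ⧸ G) :=
    ((TensorProduct.mk ℤ ℚ (M ⧸ G) 1).toAddMonoidHom).comp (QuotientAddGroup.mk' G)
  have hsN : ∀ v ∈ s, v ∈ N := fun v hv => hs ▸ AddSubmonoid.subset_closure hv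
  have hwF : ∀ x ∈ F, w x = 0 := by
    intro x hx
    have h1 : (QuotientAddGroup.mk' G) x = 0 :=
      (QuotientAddGroup.eq_zero_iff x).2 (AddSubgroup.subset_closure hx)
    change (TensorProduct.mk ℤ ℚ (M ⧸ G) 1) ((QuotientAddGroup.mk' G) x) = 0
    rw [h1, map_zero]
  have hkey : ∀ y ∈ N, w y = 0 → y ∈ F := by
    intro y hy h0
    have h1 : (TensorProduct.mk ℤ ℚ (M ⧸ G) 1) (QuotientAddGroup.mk' G y) = 0 := h0
    rw [IsLocalizedModule.eq_zero_iff (nonZeroDivisors ℤ)] at h1
    obtain ⟨z, hz⟩ := h1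
    have h2 : (z : ℤ) • y ∈ G := by
      rw [← QuotientAddGroup.eq_zero_iff]
      have : ((z : ℤ) • y : M) = (z : ℤ) • y := rfl
      rw [QuotientAddGroup.mk_zsmul]
      exact hz
    have h3 : ((z : ℤ).natAbs) • y ∈ G := by
      rcases Int.natAbs_eq (z : ℤ) with h | h
      · rw [h, natCast_zsmul] at h2
        exact h2
      · rw [h, neg_smul, natCast_zsmul] at h2
        have := G.neg_mem h2
        rwa [neg_neg] at this
    have hpos : 0 < (z : ℤ).natAbs := Int.natAbs_pos.2 (nonZeroDivisors.ne_zero z.2)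
    obtain ⟨f₁, hf1, f₂, hf2, e⟩ := (mem_closure_iff F _).1 h3
    have h4 : (z : ℤ).natAbs • y ∈ F :=
      (hF.mem_of_add_mem _ (N.nsmul_mem hy _) _ (hF.le hf2) (e ▸ hf1)).1
    exact mem_of_nsmul_mem hF hy hpos h4
  rcases Groth.Agent.Helper19.Gordan.gordan_aux (R := ℚ) (s.filter (fun v => v ∉ F))
      (fun v => w v) with ⟨f, hf⟩ | ⟨t, ht0, ⟨v₀, hv₀, htv₀⟩, hsum⟩
  · -- an exposing functional
    let g : M →+ ℚ := f.toAddMonoidHom.comp w
    have hgF : ∀ x ∈ F, g x = 0 := by
      intro x hx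
      change f (w x) = 0
      rw [hwF x hx, map_zero]
    have hgpos : ∀ v ∈ s, v ∉ F → 0 < g v := fun v hv hvF =>
      hf v (Finset.mem_filter.2 ⟨hv, hvF⟩)
    have hnonneg : ∀ v ∈ s, 0 ≤ g v := by
      intro v hv
      by_cases hvF : v ∈ F
      · rw [hgF v hvF]
      · exact (hgpos v hv hvF).le
    obtain ⟨d, hd, hk⟩ := exists_clear s g hnonneg
    have hnat : ∀ n ∈ N, ∃ k : ℕ, (d : ℚ) * g n = k := by
      intro n hn
      rw [← hs] at hn
      induction hn using AddSubmonoid.closure_induction with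
      | mem v hv => exact hk v hv
      | zero => exact ⟨0, by simp⟩
      | add x y _ _ hx hy =>
        obtain ⟨k, hk⟩ := hx
        obtain ⟨k', hk'⟩ := hy
        exact ⟨k + k', by push_cast; rw [map_add, mul_add, hk, hk']⟩
    have hzero : ∀ n ∈ N, 0 ≤ g n ∧ (g n = 0 → n ∈ F) := by
      intro n hn
      rw [← hs] at hn
      induction hn using AddSubmonoid.closure_induction with
      | mem v hv =>
        refine ⟨hnonneg v hv, fun h0 => ?_⟩
        by_contra hvF
        exact (hgpos v hv hvF).ne' h0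
      | zero => exact ⟨by simp, fun _ => F.zero_mem⟩
      | add x y _ _ hx hy =>
        refine ⟨by rw [map_add]; exact add_nonneg hx.1 hy.1, fun h0 => ?_⟩
        rw [map_add, add_eq_zero_iff_of_nonneg hx.1 hy.1] at h0
        exact F.add_mem (hx.2 h0.1) (hy.2 h0.2)
    choose k hk' using (fun n : N => hnat n.1 n.2)
    refine ⟨{ toFun := k, map_zero' := ?_, map_add' := ?_ }, ?_⟩
    · have h := hk' 0
      apply Nat.cast_injective (R := ℚ)
      rw [← h]
      simp
    · intro x y
      apply Nat.cast_injective (R := ℚ)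
      push_cast
      rw [← hk', ← hk', ← hk']
      change (d : ℚ) * g (x.1 + y.1) = _
      rw [map_add, mul_add]
    · intro n
      change k n = 0 ↔ _
      have hdq : (d : ℚ) ≠ 0 := by exact_mod_cast hd.ne'
      constructor
      · intro h
        have h1 : (d : ℚ) * g n.1 = 0 := by rw [hk', h]; simp
        exact (hzero n.1 n.2).2 ((mul_eq_zero.1 h1).resolve_left hdq)
      · intro h
        apply Nat.cast_injective (R := ℚ)
        rw [← hk', hgF n.1 h]
        simp
  · -- a nonnegative relation is impossible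
    exfalso
    obtain ⟨d, hd, hk⟩ := exists_clear (s.filter (fun v => v ∉ F)) t ht0
    choose! c hc using hk
    have hdq : (0 : ℚ) < d := by exact_mod_cast hd
    have hyN : ∑ v ∈ s.filter (fun v => v ∉ F), c v • v ∈ N :=
      N.sum_mem (fun v hv => N.nsmul_mem (hsN v (Finset.mem_filter.1 hv).1) _)
    have hw : w (∑ v ∈ s.filter (fun v => v ∉ F), c v • v) = 0 := by
      rw [map_sum]
      have h1 : ∀ v ∈ s.filter (fun v => v ∉ F), w (c v • v) = (d : ℚ) • (t v • w v) := by
        intro v hv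
        rw [map_nsmul, ← Nat.cast_smul_eq_nsmul ℚ, ← hc v hv, mul_smul]
      rw [Finset.sum_congr rfl h1, ← Finset.smul_sum, hsum, smul_zero]
    have hyF := hkey _ hyN hw
    rw [← Finset.add_sum_erase _ _ hv₀] at hyF
    have hv₀N : v₀ ∈ N := hsN v₀ (Finset.mem_filter.1 hv₀).1
    have h5 : c v₀ • v₀ ∈ F :=
      (hF.mem_of_add_mem _ (N.nsmul_mem hv₀N _) _
        (N.sum_mem (fun v hv => N.nsmul_mem (hsN v (Finset.mem_filter.1
          (Finset.mem_of_mem_erase hv)).1) _)) hyF).1
    have hcpos : 0 < c v₀ := by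
      have : (0 : ℚ) < c v₀ := by rw [← hc v₀ hv₀]; exact mul_pos hdq htv₀
      exact_mod_cast this
    exact (Finset.mem_filter.1 hv₀).2 (mem_of_nsmul_mem hF hv₀N hcpos h5)

end Groth.Agent.Lib.Helper29.FaceExposed
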