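import Mathlib

/-! # Fibrewise criterion for split injectivity over a local ring, tested on a field extension
of the residue field (helper29) -/

universe u

namespace Groth.Agent.Lib.Helper29.FibMono

open TensorProduct IsLocalRing

/-- Let `R` be a local ring, `l : M → N` linear with `M` finite and `N` finite free, and `R → L` a
local homomorphism to a field.  If `L ⊗ l` is injective then `l` is a split injection. -/
theorem split_of_baseChange_isField_injective {R : Type u} [CommRing R] [IsLocalRing R]
    {M N : Type u} [AddCommGroup M] [AddCommGroup N] [Module R M] [Module R N]
    [Module.Finite R M] [Module.Finite R N] [Module.Free R N] (l : M →ₗ[R] N)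
    (L : Type u) [CommRing L] (hL : IsField L) [Algebra R L] [IsLocalHom (algebraMap R L)]
    (h : Function.Injective (l.baseChange L)) : ∃ l', l' ∘ₗ l = LinearMap.id := by
  rw [IsLocalRing.split_injective_iff_lTensor_residueField_injective]
  haveI : Nontrivial L := hL.nontrivial
  have hker : ∀ a ∈ maximalIdeal R, algebraMap R L a = 0 := by
    intro a ha
    by_contra h0
    obtain ⟨b, hb⟩ := hL.mul_inv_cancel h0
    have hu : IsUnit (algebraMap R L a) := IsUnit.of_mul_eq_one b hb
    exact ha (isUnit_of_map_unit (algebraMap R L) a hu)
  let φ : ResidueField R →+* L := Ideal.Quotient.lift (maximalIdeal R) (algebraMap R L) hker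
  letI : Algebra (ResidueField R) L := φ.toAlgebra
  haveI : IsScalarTower R (ResidueField R) L := IsScalarTower.of_algebraMap_eq fun r => by
    change algebraMap R L r = φ (residue R r)
    rfl
  let eM := TensorProduct.AlgebraTensorModule.cancelBaseChange R (ResidueField R) L L M
  let eN := TensorProduct.AlgebraTensorModule.cancelBaseChange R (ResidueField R) L L N
  have hsq : ∀ x, eN (((l.baseChange (ResidueField R)).lTensor L) x) = (l.baseChange L) (eM x) := by
    intro x
    induction x using TensorProduct.induction_on with
    | zero => simp
    | add x y hx hy => simp only [map_add, hx, hy]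
    | tmul a y =>
      induction y using TensorProduct.induction_on with
      | zero => simp
      | add y z hy hz => simp only [tmul_add, map_add, hy, hz]
      | tmul b m => simp [eM, eN]
  have h1 : Function.Injective ((l.baseChange (ResidueField R)).lTensor L) := by
    intro x y hxy
    apply eM.injective
    apply h
    rw [← hsq, ← hsq, hxy]
  have h2 : Function.Injective (l.baseChange (ResidueField R)) :=
    (Module.FaithfullyFlat.lTensor_injective_iff_injective (ResidueField R) L _).mp h1
  exact h2

end Groth.Agent.Lib.Helper29.FibMono
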