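import Groth.Agent.Lib.Helper29.FibMono1
import Groth.Agent.Lib.Helper28.StalkAdj2
import Groth.Agent.Lib.Helper28.DCohRes15
import Groth.Agent.Lib.Helper29.QCohLocFree
import Groth.Agent.Lib.Helper29.QCohFinite

/-! # Fibrewise criterion for a map of a finite type module into a finite locally free module -/

universe u

open CategoryTheory CategoryTheory.Limits AlgebraicGeometry TopologicalSpace Opposite

namespace Groth.Agent.Lib.Helper29.FibMono

open Groth.Agent.Lib.Helper29.QCoh Groth.Agent.Lib.Helper28.StalkTensor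
  Groth.Agent.Lib.Helper28.DCohRes

variable {S : Scheme.{u}} {U E : S.Modules} (ι : U ⟶ E)

/-- the stalk map of `ι` at `s` is a split injection -/
def SplitAt (s : S) : Prop :=
  ∃ l' : E.presheaf.stalk s →ₗ[S.presheaf.stalk s] U.presheaf.stalk s,
    l' ∘ₗ Algz.stalkMapₗ ι s = LinearMap.id

theorem coe_stalkMapₗ {M N : S.Modules} (φ : M ⟶ N) (s : S) :
    ⇑(Algz.stalkMapₗ φ s) = ⇑(stalkMap φ s) := rfl

theorem coe_stalkFunctor_map {M N : S.Modules} (φ : M ⟶ N) (s : S) :
    ⇑((DerSch.stalkFunctor S s).map φ).hom = ⇑(stalkMap φ s) := rfl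

theorem finite_stalk (M : S.Modules) [M.IsFiniteType] (x : S) :
    Module.Finite (S.presheaf.stalk x) (M.presheaf.stalk x) := by
  obtain ⟨V, -, hxV, n, s, hs⟩ := exists_affine_sections_span_eq_top M x
  rw [Module.finite_def, ← hs x hxV]
  exact Submodule.fg_span (Set.finite_range _)

/-- stalkwise split injective implies universally injective -/
theorem mono_pullback_of_splitAt (h : ∀ s, SplitAt ι s) {T : Scheme.{u}} (f : T ⟶ S) :
    Mono ((Scheme.Modules.pullback f).map ι) := by
  rw [mono_iff_stalkMap_injective]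
  intro t
  obtain ⟨l', hl'⟩ := h (f.base t)
  let a := (DerSch.stalkFunctor S (f.base t)).map ι
  let b : (DerSch.stalkFunctor S (f.base t)).obj E ⟶ (DerSch.stalkFunctor S (f.base t)).obj U :=
    ModuleCat.ofHom l'
  have hsplit : a ≫ b = 𝟙 ((DerSch.stalkFunctor S (f.base t)).obj U) := by
    ext x
    exact LinearMap.congr_fun hl' x
  have hF : (esStalk f t).map a ≫ (esStalk f t).map b =
      𝟙 ((esStalk f t).obj ((DerSch.stalkFunctor S (f.base t)).obj U)) := by
    rw [← (esStalk f t).map_comp, hsplit, (esStalk f t).map_id]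
  haveI : Mono ((esStalk f t).map a) := by
    haveI : Mono ((esStalk f t).map a ≫ (esStalk f t).map b) := by rw [hF]; infer_instance
    exact mono_of_mono _ ((esStalk f t).map b)
  have hnat := (pullStalkNatIso f t).hom.naturality ι
  have h2 : (DerSch.stalkFunctor T t).map ((Scheme.Modules.pullback f).map ι) ≫
      (pullStalkNatIso f t).hom.app E =
      (pullStalkNatIso f t).hom.app U ≫ (esStalk f t).map a := hnat
  have hmono : Mono ((DerSch.stalkFunctor T t).map ((Scheme.Modules.pullback f).map ι)) := by
    haveI : Mono ((DerSch.stalkFunctor T t).map ((Scheme.Modules.pullback f).map ι) ≫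
        (pullStalkNatIso f t).hom.app E) := by
      rw [h2]
      haveI h3 : Mono ((pullStalkNatIso f t).hom.app U) := IsIso.mono_of_iso _
      exact mono_comp _ _
    exact mono_of_mono _ ((pullStalkNatIso f t).hom.app E)
  exact (ModuleCat.mono_iff_injective
    ((DerSch.stalkFunctor T t).map ((Scheme.Modules.pullback f).map ι))).mp hmono

/-- the stalk of the spectrum of a field is a field -/
theorem isField_stalk_Spec (K : CommRingCat.{u}) (hK : IsField K) (t : Spec K) :
    IsField ((Spec K).presheaf.stalk t) := by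
  have H : t.asIdeal.primeCompl ≤ IsUnit.submonoid K := by
    intro x hx
    have hx0 : x ≠ 0 := fun h0 => hx (h0 ▸ t.asIdeal.zero_mem)
    obtain ⟨b, hb⟩ := hK.mul_inv_cancel hx0
    exact IsUnit.of_mul_eq_one b hb
  let e := IsLocalization.atUnits K t.asIdeal.primeCompl
    (S := (Spec.structureSheaf K).presheaf.stalk t) H
  exact e.symm.toMulEquiv.isField hK

/-- fibrewise injectivity implies stalkwise split injectivity -/
theorem splitAt_of_mono_fibre [U.IsFiniteType] (hE : FlatMod.IsFinLocFree E) (s : S)
    (h : Mono ((Scheme.Modules.pullback (S.fromSpecResidueField s)).map ι)) : SplitAt ι s := by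
  let f := S.fromSpecResidueField s
  let t : Spec (S.residueField s) := IsLocalRing.closedPoint (S.residueField s)
  have hft : f.base t = s := Scheme.fromSpecResidueField_apply s t
  suffices hs : SplitAt ι (f.base t) by rw [hft] at hs; exact hs
  have hinj := (mono_iff_stalkMap_injective _).mp h t
  let a := (DerSch.stalkFunctor S (f.base t)).map ι
  have hmono : Mono ((DerSch.stalkFunctor _ t).map ((Scheme.Modules.pullback f).map ι)) :=
    (ModuleCat.mono_iff_injective _).mpr hinj
  have hnat := (pullStalkNatIso f t).hom.naturality ι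
  have h2 : (DerSch.stalkFunctor _ t).map ((Scheme.Modules.pullback f).map ι) ≫
      (pullStalkNatIso f t).hom.app E =
      (pullStalkNatIso f t).hom.app U ≫ (esStalk f t).map a := hnat
  have hmonoF : Mono ((esStalk f t).map a) := by
    haveI : Mono ((pullStalkNatIso f t).hom.app U ≫ (esStalk f t).map a) := by
      rw [← h2]
      haveI h3 : Mono ((pullStalkNatIso f t).hom.app E) := IsIso.mono_of_iso _
      exact mono_comp _ _
    have h4 : (esStalk f t).map a =
        (pullStalkNatIso f t).inv.app U ≫ (pullStalkNatIso f t).hom.app U ≫ (esStalk f t).map a := by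
      rw [Iso.inv_hom_id_app_assoc]
    rw [h4]
    haveI h5 : Mono ((pullStalkNatIso f t).inv.app U) := IsIso.mono_of_iso _
    exact mono_comp _ _
  have hinjF : Function.Injective ((esStalk f t).map a).hom :=
    (ModuleCat.mono_iff_injective _).mp hmonoF
  haveI : Module.Finite (S.presheaf.stalk (f.base t)) (U.presheaf.stalk (f.base t)) :=
    finite_stalk U _
  haveI : Module.Free (S.presheaf.stalk (f.base t)) (E.presheaf.stalk (f.base t)) :=
    free_stalk_of_isFinLocFree hE _
  haveI : E.IsFinitePresentation := isFinitePresentation_of_isFinLocFree hE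
  haveI : Module.FinitePresentation (S.presheaf.stalk (f.base t)) (E.presheaf.stalk (f.base t)) :=
    finitePresentation_stalk E _
  haveI : Module.Finite (S.presheaf.stalk (f.base t)) (E.presheaf.stalk (f.base t)) :=
    inferInstance
  letI : Algebra (S.presheaf.stalk (f.base t)) ((Spec (S.residueField s)).presheaf.stalk t) :=
    ((algebraMap ((Spec (S.residueField s)).presheaf.stalk t) _).comp (f.stalkMap t).hom).toAlgebra
  haveI : IsLocalHom (algebraMap (S.presheaf.stalk (f.base t))
      ((Spec (S.residueField s)).presheaf.stalk t)) :=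
    inferInstanceAs (IsLocalHom (f.stalkMap t).hom)
  exact split_of_baseChange_isField_injective (Algz.stalkMapₗ ι (f.base t))
    ((Spec (S.residueField s)).presheaf.stalk t)
    (isField_stalk_Spec (S.residueField s) (Field.toIsField _) t) hinjF

/-- the stalk sequence of the cokernel -/
theorem stalk_exact_cokernel (s : S) :
    Function.Exact (Algz.stalkMapₗ ι s) (Algz.stalkMapₗ (cokernel.π ι) s) ∧
      Function.Surjective (Algz.stalkMapₗ (cokernel.π ι) s) := by
  have hS : (ShortComplex.mk ι (cokernel.π ι) (cokernel.condition ι)).Exact :=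
    ShortComplex.exact_cokernel ι
  refine ⟨(exact_iff_stalk_function_exact _).mp hS s, ?_⟩
  exact (epi_iff_stalkMap_surjective (cokernel.π ι)).mp inferInstance s

theorem splitAt_of_mono_of_isFinLocFree_cokernel [Mono ι]
    (hC : FlatMod.IsFinLocFree (cokernel ι)) (s : S) : SplitAt ι s := by
  obtain ⟨hex, hsurj⟩ := stalk_exact_cokernel ι s
  have hinj : Function.Injective (Algz.stalkMapₗ ι s) :=
    (mono_iff_stalkMap_injective ι).mp inferInstance s
  haveI : Module.Free (S.presheaf.stalk s) ((cokernel ι).presheaf.stalk s) :=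
    free_stalk_of_isFinLocFree hC s
  have htfae := (Function.Exact.split_tfae hex hinj hsurj).out 0 1
  exact htfae.mp (Module.projective_lifting_property _ LinearMap.id hsurj)

theorem injective_of_splitAt (s : S) (h : SplitAt ι s) :
    Function.Injective (Algz.stalkMapₗ ι s) := by
  obtain ⟨l', hl'⟩ := h
  intro x y hxy
  have h1 := congrArg l' hxy
  have h2 : ∀ z, l' (Algz.stalkMapₗ ι s z) = z := fun z => LinearMap.congr_fun hl' z
  rwa [h2, h2] at h1

theorem flat_stalk_cokernel_of_splitAt (hE : FlatMod.IsFinLocFree E) (s : S) (h : SplitAt ι s) :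
    Module.Flat (S.presheaf.stalk s) ((cokernel ι).presheaf.stalk s) := by
  obtain ⟨hex, hsurj⟩ := stalk_exact_cokernel ι s
  have hinj := injective_of_splitAt ι s h
  obtain ⟨σ, hσ⟩ := ((Function.Exact.split_tfae hex hinj hsurj).out 1 0).mp h
  haveI : Module.Free (S.presheaf.stalk s) (E.presheaf.stalk s) := free_stalk_of_isFinLocFree hE s
  haveI : Module.Projective (S.presheaf.stalk s) ((cokernel ι).presheaf.stalk s) :=
    Module.Projective.of_split σ (Algz.stalkMapₗ (cokernel.π ι) s) hσ
  infer_instance

theorem isFinitePresentation_cokernel_of_isFiniteType [U.IsFiniteType]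
    (hE : FlatMod.IsFinLocFree E) : (cokernel ι).IsFinitePresentation := by
  refine isFinitePresentation_of_locally_cokernel (cokernel ι) fun x => ?_
  obtain ⟨V, hxV, P, π, hP, hπ⟩ := exists_epi_of_isFiniteType U x
  refine ⟨V, V.ι, inferInstance, ?_, P, (Scheme.Modules.restrictFunctor V.ι).obj E,
    π ≫ (Scheme.Modules.restrictFunctor V.ι).map ι, hP, isFinLocFree_restrict V.ι hE, ⟨?_⟩⟩
  · rw [Scheme.Opens.range_ι]; exact hxV
  · exact cokernelEpiComp π _ ≪≫
      (PreservesCokernel.iso (Scheme.Modules.restrictFunctor V.ι) ι).symm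

/-- stalkwise split injective implies mono with finite locally free cokernel -/
theorem mono_and_isFinLocFree_cokernel_of_splitAt [U.IsFiniteType] (hE : FlatMod.IsFinLocFree E)
    (h : ∀ s, SplitAt ι s) : Mono ι ∧ FlatMod.IsFinLocFree (cokernel ι) := by
  refine ⟨(mono_iff_stalkMap_injective ι).mpr fun s => injective_of_splitAt ι s (h s), ?_⟩
  rw [isFinLocFree_iff_flat]
  exact ⟨isFinitePresentation_cokernel_of_isFiniteType ι hE,
    fun s => flat_stalk_cokernel_of_splitAt ι hE s (h s)⟩

/-- The fibrewise criterion. -/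
theorem main [U.IsFiniteType] (hE : FlatMod.IsFinLocFree E) :
    ((Mono ι ∧ FlatMod.IsFinLocFree (cokernel ι)) ↔
        ∀ (T : Scheme.{u}) (f : T ⟶ S), Mono ((Scheme.Modules.pullback f).map ι)) ∧
      ((∀ (T : Scheme.{u}) (f : T ⟶ S), Mono ((Scheme.Modules.pullback f).map ι)) ↔
        ∀ s : S, Mono ((Scheme.Modules.pullback (S.fromSpecResidueField s)).map ι)) := by
  have h12 : (Mono ι ∧ FlatMod.IsFinLocFree (cokernel ι)) →
      ∀ (T : Scheme.{u}) (f : T ⟶ S), Mono ((Scheme.Modules.pullback f).map ι) := by
    rintro ⟨hm, hC⟩ T f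
    exact mono_pullback_of_splitAt ι (fun s => splitAt_of_mono_of_isFinLocFree_cokernel ι hC s) f
  have h23 : (∀ (T : Scheme.{u}) (f : T ⟶ S), Mono ((Scheme.Modules.pullback f).map ι)) →
      ∀ s : S, Mono ((Scheme.Modules.pullback (S.fromSpecResidueField s)).map ι) :=
    fun h s => h _ _
  have h31 : (∀ s : S, Mono ((Scheme.Modules.pullback (S.fromSpecResidueField s)).map ι)) →
      (Mono ι ∧ FlatMod.IsFinLocFree (cokernel ι)) := fun h =>
    mono_and_isFinLocFree_cokernel_of_splitAt ι hE fun s => splitAt_of_mono_fibre ι hE s (h s)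
  exact ⟨⟨h12, fun h => h31 (h23 h)⟩, ⟨h23, fun h => h12 (h31 h)⟩⟩

end Groth.Agent.Lib.Helper29.FibMono
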