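import Groth.Agent.Lib.Helper29.FibMono2

/-! # Pointwise behaviour of stalkwise split injectivity under pullback -/

universe u

open CategoryTheory CategoryTheory.Limits AlgebraicGeometry TopologicalSpace Opposite

namespace Groth.Agent.Lib.Helper29.FibMono

open TensorProduct IsLocalRing

/-- If `B ⊗ l` is a split injection for a local homomorphism of local rings `R → B`, then `l` is
a split injection (`M` finite, `N` finite free). -/
theorem split_of_baseChange_split {R : Type u} [CommRing R] [IsLocalRing R]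
    {M N : Type u} [AddCommGroup M] [AddCommGroup N] [Module R M] [Module R N]
    [Module.Finite R M] [Module.Finite R N] [Module.Free R N] (l : M →ₗ[R] N)
    (B : Type u) [CommRing B] [IsLocalRing B] [Algebra R B] [IsLocalHom (algebraMap R B)]
    (h : ∃ r : B ⊗[R] N →ₗ[B] B ⊗[R] M, r ∘ₗ l.baseChange B = LinearMap.id) :
    ∃ l', l' ∘ₗ l = LinearMap.id := by
  obtain ⟨r, hr⟩ := h
  haveI : IsLocalHom (algebraMap R (ResidueField B)) := by
    rw [IsScalarTower.algebraMap_eq R B (ResidueField B)]
    haveI : IsLocalHom (algebraMap B (ResidueField B)) :=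
      inferInstanceAs (IsLocalHom (IsLocalRing.residue B))
    exact RingHom.isLocalHom_comp _ _
  refine split_of_baseChange_isField_injective l (ResidueField B) (Field.toIsField _) ?_
  let eM := TensorProduct.AlgebraTensorModule.cancelBaseChange R B (ResidueField B)
    (ResidueField B) M
  let eN := TensorProduct.AlgebraTensorModule.cancelBaseChange R B (ResidueField B)
    (ResidueField B) N
  have hsq : ∀ x, eN (((l.baseChange B).lTensor (ResidueField B)) x) =
      (l.baseChange (ResidueField B)) (eM x) := by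
    intro x
    induction x using TensorProduct.induction_on with
    | zero => simp
    | add x y hx hy => simp only [map_add, hx, hy]
    | tmul a y =>
      induction y using TensorProduct.induction_on with
      | zero => simp
      | add y z hy hz => simp only [tmul_add, map_add, hy, hz]
      | tmul b m => simp [eM, eN]
  have h1 : Function.Injective ((l.baseChange B).lTensor (ResidueField B)) := by
    have h2 : (r.lTensor (ResidueField B)) ∘ₗ ((l.baseChange B).lTensor (ResidueField B)) =
        LinearMap.id := by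
      rw [← LinearMap.lTensor_comp, hr, LinearMap.lTensor_id]
    exact Function.LeftInverse.injective (g := r.lTensor (ResidueField B))
      (fun x => LinearMap.congr_fun h2 x)
  intro x y hxy
  apply eM.symm.injective
  apply h1
  apply eN.injective
  rw [hsq, hsq, LinearEquiv.apply_symm_apply, LinearEquiv.apply_symm_apply, hxy]

open Groth.Agent.Lib.Helper29.QCoh Groth.Agent.Lib.Helper28.StalkTensor
  Groth.Agent.Lib.Helper28.DCohRes

variable {S : Scheme.{u}} {U E : S.Modules} (ι : U ⟶ E)

/-- split injectivity of the stalk map passes to pullbacks, pointwise -/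
theorem splitAt_pullback {T : Scheme.{u}} (f : T ⟶ S) (t : T) (h : SplitAt ι (f.base t)) :
    SplitAt ((Scheme.Modules.pullback f).map ι) t := by
  obtain ⟨l', hl'⟩ := h
  let a := (DerSch.stalkFunctor S (f.base t)).map ι
  let b : (DerSch.stalkFunctor S (f.base t)).obj E ⟶ (DerSch.stalkFunctor S (f.base t)).obj U :=
    ModuleCat.ofHom l'
  have hsplit : a ≫ b = 𝟙 ((DerSch.stalkFunctor S (f.base t)).obj U) := by
    ext x
    exact LinearMap.congr_fun hl' x
  have hF : (esStalk f t).map a ≫ (esStalk f t).map b =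
      𝟙 ((esStalk f t).obj ((DerSch.stalkFunctor S (f.base t)).obj U)) := by
    rw [← (esStalk f t).map_comp, hsplit, (esStalk f t).map_id]
  have h2 : (DerSch.stalkFunctor T t).map ((Scheme.Modules.pullback f).map ι) ≫
      (pullStalkNatIso f t).hom.app E =
      (pullStalkNatIso f t).hom.app U ≫ (esStalk f t).map a :=
    (pullStalkNatIso f t).hom.naturality ι
  let r : (DerSch.stalkFunctor T t).obj ((Scheme.Modules.pullback f).obj E) ⟶
      (DerSch.stalkFunctor T t).obj ((Scheme.Modules.pullback f).obj U) :=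
    (pullStalkNatIso f t).hom.app E ≫ (esStalk f t).map b ≫ (pullStalkNatIso f t).inv.app U
  have hr : (DerSch.stalkFunctor T t).map ((Scheme.Modules.pullback f).map ι) ≫ r =
      𝟙 ((DerSch.stalkFunctor T t).obj ((Scheme.Modules.pullback f).obj U)) := by
    change (DerSch.stalkFunctor T t).map ((Scheme.Modules.pullback f).map ι) ≫
      (pullStalkNatIso f t).hom.app E ≫ (esStalk f t).map b ≫ (pullStalkNatIso f t).inv.app U = _
    rw [← Category.assoc, h2, Category.assoc, ← Category.assoc ((esStalk f t).map a), hF,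
      Category.id_comp]
    exact Iso.hom_inv_id_app (pullStalkNatIso f t) U
  refine ⟨r.hom, ?_⟩
  ext x
  exact congrArg (fun g => g.hom x) hr

/-- split injectivity of the stalk map descends from pullbacks, pointwise -/
theorem splitAt_of_splitAt_pullback [U.IsFiniteType] (hE : FlatMod.IsFinLocFree E)
    {T : Scheme.{u}} (f : T ⟶ S) (t : T)
    (h : SplitAt ((Scheme.Modules.pullback f).map ι) t) : SplitAt ι (f.base t) := by
  obtain ⟨l', hl'⟩ := h
  let a := (DerSch.stalkFunctor S (f.base t)).map ι
  let c := (DerSch.stalkFunctor T t).map ((Scheme.Modules.pullback f).map ι)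
  let d : (DerSch.stalkFunctor T t).obj ((Scheme.Modules.pullback f).obj E) ⟶
      (DerSch.stalkFunctor T t).obj ((Scheme.Modules.pullback f).obj U) := ModuleCat.ofHom l'
  have hcd : c ≫ d = 𝟙 ((DerSch.stalkFunctor T t).obj ((Scheme.Modules.pullback f).obj U)) := by
    ext x
    exact LinearMap.congr_fun hl' x
  have h2 : c ≫ (pullStalkNatIso f t).hom.app E =
      (pullStalkNatIso f t).hom.app U ≫ (esStalk f t).map a :=
    (pullStalkNatIso f t).hom.naturality ι
  let r : (esStalk f t).obj ((DerSch.stalkFunctor S (f.base t)).obj E) ⟶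
      (esStalk f t).obj ((DerSch.stalkFunctor S (f.base t)).obj U) :=
    (pullStalkNatIso f t).inv.app E ≫ d ≫ (pullStalkNatIso f t).hom.app U
  have h3 : (esStalk f t).map a ≫ (pullStalkNatIso f t).inv.app E =
      (pullStalkNatIso f t).inv.app U ≫ c := by
    have := (pullStalkNatIso f t).inv.naturality ι
    exact this
  have hr : (esStalk f t).map a ≫ r =
      𝟙 ((esStalk f t).obj ((DerSch.stalkFunctor S (f.base t)).obj U)) := by
    change (esStalk f t).map a ≫ (pullStalkNatIso f t).inv.app E ≫ d ≫
      (pullStalkNatIso f t).hom.app U = _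
    rw [← Category.assoc, h3, Category.assoc, ← Category.assoc c, hcd, Category.id_comp]
    exact Iso.inv_hom_id_app (pullStalkNatIso f t) U
  haveI : Module.Finite (S.presheaf.stalk (f.base t)) (U.presheaf.stalk (f.base t)) :=
    finite_stalk U _
  haveI : Module.Free (S.presheaf.stalk (f.base t)) (E.presheaf.stalk (f.base t)) :=
    free_stalk_of_isFinLocFree hE _
  haveI : E.IsFinitePresentation := isFinitePresentation_of_isFinLocFree hE
  haveI : Module.FinitePresentation (S.presheaf.stalk (f.base t)) (E.presheaf.stalk (f.base t)) :=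
    finitePresentation_stalk E _
  haveI : Module.Finite (S.presheaf.stalk (f.base t)) (E.presheaf.stalk (f.base t)) :=
    inferInstance
  letI : Algebra (S.presheaf.stalk (f.base t)) (T.presheaf.stalk t) :=
    ((algebraMap (T.presheaf.stalk t) _).comp (f.stalkMap t).hom).toAlgebra
  haveI : IsLocalHom (algebraMap (S.presheaf.stalk (f.base t)) (T.presheaf.stalk t)) :=
    inferInstanceAs (IsLocalHom (f.stalkMap t).hom)
  refine split_of_baseChange_split (Algz.stalkMapₗ ι (f.base t)) (T.presheaf.stalk t) ⟨r.hom, ?_⟩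
  exact LinearMap.ext fun x => congrArg (fun g => g.hom x) hr

section LocSplit

variable {X : Scheme.{u}} {F V : X.Modules} (u : F ⟶ V)

/-- `u` is a locally split monomorphism -/
def LocSplit : Prop :=
  ∀ x : X, ∃ W : X.Opens, x ∈ W ∧
    ∃ r : (Scheme.Modules.pullback W.ι).obj V ⟶ (Scheme.Modules.pullback W.ι).obj F,
      (Scheme.Modules.pullback W.ι).map u ≫ r = 𝟙 _

theorem unitM_hom_ext {N : X.Modules} (a b : unitM X ⟶ N)
    (h : a.app ⊤ (toUnit 1) = b.app ⊤ (toUnit 1)) : a = b := by
  apply Scheme.Modules.hom_ext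
  intro W
  ext s
  obtain ⟨r, rfl⟩ := toUnit_surjective s
  rw [toUnit_eq_smul_one, Scheme.Modules.Hom.app_smul, Scheme.Modules.Hom.app_smul,
    ← res_toUnit_one (le_top : W ≤ ⊤), QCoh.app_res, QCoh.app_res, h]

theorem splitAt_of_locSplit [F.IsFiniteType] (hV : FlatMod.IsFinLocFree V) (h : LocSplit u)
    (x : X) : SplitAt u x := by
  obtain ⟨W, hxW, r, hr⟩ := h x
  let y : (W : Scheme.{u}) := ⟨x, hxW⟩
  have h1 : SplitAt ((Scheme.Modules.pullback W.ι).map u) y := by
    refine ⟨Algz.stalkMapₗ r y, ?_⟩
    have h2 : (DerSch.stalkFunctor _ y).map ((Scheme.Modules.pullback W.ι).map u) ≫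
        (DerSch.stalkFunctor _ y).map r = 𝟙 _ := by
      rw [← (DerSch.stalkFunctor _ y).map_comp, hr, (DerSch.stalkFunctor _ y).map_id]
    exact LinearMap.ext fun z => congrArg (fun g => g.hom z) h2
  exact splitAt_of_splitAt_pullback u hV W.ι y h1

/-- on an affine scheme, a monomorphism into a quasi-coherent module with free cokernel splits -/
theorem exists_retraction_of_cokernel_free {Y : Scheme.{u}} [IsAffine Y] {F' V' : Y.Modules}
    (u' : F' ⟶ V') [Mono u'] [V'.IsQuasicoherent] (n : ℕ)
    (e : cokernel u' ≅ FlatMod.freeMod Y n) : ∃ r : V' ⟶ F', u' ≫ r = 𝟙 F' := by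
  let e' : cokernel u' ≅ freeM Y (ULift.{u} (Fin n)) := e ≪≫ freeModIso Y n
  haveI : (cokernel u').IsQuasicoherent :=
    isQuasicoherent_of_isFinLocFree (isFinLocFree_of_iso e.symm (isFinLocFree_freeMod Y n))
  have hsurj := app_surjective_of_epi (cokernel.π u') (isAffineOpen_top Y)
  choose v hv using fun i : ULift.{u} (Fin n) =>
    hsurj ((e'.inv).app ⊤ ((ιFreeM Y i).app ⊤ (toUnit 1)))
  let τ := homOfSections V' v
  have hτ : τ ≫ cokernel.π u' = e'.inv := by
    apply Cofan.IsColimit.hom_ext (SheafOfModules.isColimitFreeCofan (R := Y.ringCatSheaf) _)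
    intro i
    change ιFreeM Y i ≫ τ ≫ cokernel.π u' = ιFreeM Y i ≫ e'.inv
    apply unitM_hom_ext
    rw [← Category.assoc, ι_homOfSections]
    change (cokernel.π u').app ⊤ ((homOfSection V' (v i)).app ⊤ (toUnit 1)) = _
    rw [homOfSection_app_one, hv]
    rfl
  let σ := e'.hom ≫ τ
  have hσ : σ ≫ cokernel.π u' = 𝟙 _ := by
    change (e'.hom ≫ τ) ≫ cokernel.π u' = _
    rw [Category.assoc, hτ, Iso.hom_inv_id]
  let Sx := ShortComplex.mk u' (cokernel.π u') (cokernel.condition u')
  have hex : Sx.Exact := ShortComplex.exact_cokernel u'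
  let sp := ShortComplex.Splitting.ofExactOfSection Sx hex σ hσ (inferInstanceAs (Mono u'))
  exact ⟨sp.r, sp.f_r⟩

theorem locSplit_of_splitAt [F.IsFiniteType] (hV : FlatMod.IsFinLocFree V)
    (h : ∀ x, SplitAt u x) : LocSplit u := by
  obtain ⟨hmono, hC⟩ := mono_and_isFinLocFree_cokernel_of_splitAt u hV h
  intro x
  rw [isFinLocFree_iff_isFreeAlong] at hC
  obtain ⟨W₀, n, hxW₀, hfree₀⟩ := hC x
  obtain ⟨W, hW, hxW, hWW₀⟩ :=
    AlgebraicGeometry.exists_isAffineOpen_mem_and_subset (x := x) (U := W₀) hxW₀
  have hfree : IsFreeAlong (cokernel u) W.ι n := hfree₀.of_range_subset W.ι (by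
    rw [Scheme.Opens.range_ι, Scheme.Opens.range_ι]; exact hWW₀)
  refine ⟨W, hxW, ?_⟩
  obtain ⟨e⟩ := hfree
  haveI : IsAffine (W : Scheme.{u}) := hW
  haveI : Mono ((Scheme.Modules.pullback W.ι).map u) := mono_pullback_of_splitAt u h W.ι
  haveI : ((Scheme.Modules.pullback W.ι).obj V).IsQuasicoherent :=
    isQuasicoherent_of_isFinLocFree (isFinLocFree_pullback W.ι hV)
  exact exists_retraction_of_cokernel_free ((Scheme.Modules.pullback W.ι).map u) n
    ((PreservesCokernel.iso (Scheme.Modules.pullback W.ι) u).symm ≪≫ e)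

theorem locSplit_iff_splitAt [F.IsFiniteType] (hV : FlatMod.IsFinLocFree V) :
    LocSplit u ↔ ∀ x, SplitAt u x :=
  ⟨splitAt_of_locSplit u hV, locSplit_of_splitAt u hV⟩

/-- for a morphism `p : Y → X`, `p^*u` is locally split iff `u` is stalkwise split on the image -/
theorem locSplit_pullback_iff [F.IsQuasicoherent] [F.IsFiniteType] (hV : FlatMod.IsFinLocFree V)
    {Y : Scheme.{u}} (p : Y ⟶ X) :
    LocSplit ((Scheme.Modules.pullback p).map u) ↔ ∀ y : Y, SplitAt u (p.base y) := by
  haveI : ((Scheme.Modules.pullback p).obj F).IsFiniteType := inferInstance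
  rw [locSplit_iff_splitAt _ (isFinLocFree_pullback p hV)]
  exact forall_congr' fun y =>
    ⟨splitAt_of_splitAt_pullback u hV p y, splitAt_pullback u p y⟩

/-- a family of morphisms whose images cover `X` detects locally split monomorphisms -/
theorem forall_locSplit_pullback_iff [F.IsQuasicoherent] [F.IsFiniteType]
    (hV : FlatMod.IsFinLocFree V) {σ : Type*} {Y : σ → Scheme.{u}} (p : ∀ s, Y s ⟶ X)
    (hp : ∀ x : X, ∃ s, x ∈ Set.range (p s).base) :
    (∀ s, LocSplit ((Scheme.Modules.pullback (p s)).map u)) ↔ ∀ x, SplitAt u x := by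
  constructor
  · intro h x
    obtain ⟨s, y, rfl⟩ := hp x
    exact (locSplit_pullback_iff u hV (p s)).mp (h s) y
  · intro h s
    exact (locSplit_pullback_iff u hV (p s)).mpr fun y => h _

end LocSplit

end Groth.Agent.Lib.Helper29.FibMono
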