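import Groth.Agent.Lib.Helper29.QCohCrit
import Groth.Agent.Lib.Helper29.QCohLocFree
import Groth.Agent.Lib.Helper29.GenLocus
import Groth.Agent.Lib.Helper29.IsoCover
import Groth.Prelude.Def_FinCov
universe u
open CategoryTheory CategoryTheory.Limits AlgebraicGeometry TopologicalSpace Opposite

namespace Groth.Agent.Lib.Helper29.QCoh

section QCAlg
variable {X : Scheme.{u}} (A : RelSpec.QCAlg X)

/-- Sections of `A.toModule` are the sections of the algebra. -/
abbrev asRing {U : X.Opens} (a : Γ(A.toModule, U)) : A.presheaf.obj (op U) := a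

abbrev ofRing {U : X.Opens} (a : A.presheaf.obj (op U)) : Γ(A.toModule, U) := a

theorem toModule_smul_def {U : X.Opens} (r : Γ(X, U)) (a : Γ(A.toModule, U)) :
    r • a = ofRing A ((A.str.app (op U)).hom r * asRing A a) := rfl

theorem toModule_res_def {U V : X.Opens} (h : V ≤ U) (a : Γ(A.toModule, U)) :
    res A.toModule h a = ofRing A ((A.presheaf.map (homOfLE h).op).hom (asRing A a)) := rfl

instance isQuasicoherent_toModule : A.toModule.IsQuasicoherent := by
  refine isQuasicoherent_of_localizing A.toModule (fun U : X.affineOpens => (U : X.Opens))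
    (isOpenCover_affineOpens X) (fun U => U.2) ?_ ?_
  · intro U f s
    letI := (A.presheaf.map (homOfLE (X.basicOpen_le f)).op).hom.toAlgebra
    have hloc : IsLocalization.Away ((A.str.app (op (U : X.Opens))).hom f)
        (A.presheaf.obj (op (X.basicOpen f))) := A.isQC U U.2 f
    obtain ⟨⟨m, ⟨_, n, rfl⟩⟩, hm⟩ := IsLocalization.surj
      (Submonoid.powers ((A.str.app (op (U : X.Opens))).hom f)) (asRing A s)
    refine ⟨n, ofRing A m, ?_⟩
    have h := congr_arg (fun ψ => ψ.hom f) (A.str.naturality (homOfLE (X.basicOpen_le f)).op)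
    have key : (A.str.app (op (X.basicOpen f))).hom
        ((X.presheaf.map (homOfLE (X.basicOpen_le f)).op).hom f ^ n) =
        algebraMap (A.presheaf.obj (op (U : X.Opens))) (A.presheaf.obj (op (X.basicOpen f)))
          ((A.str.app (op (U : X.Opens))).hom f ^ n) := by
      rw [map_pow, map_pow]
      exact congrArg (· ^ n) h
    rw [toModule_res_def, toModule_smul_def]
    change ofRing A ((A.str.app (op (X.basicOpen f))).hom
        ((X.presheaf.map (homOfLE (X.basicOpen_le f)).op).hom f ^ n) * asRing A s) =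
      algebraMap (A.presheaf.obj (op (U : X.Opens)))
      (A.presheaf.obj (op (X.basicOpen f))) m
    rw [key, ← hm, mul_comm]
  · intro U f m hm
    letI := (A.presheaf.map (homOfLE (X.basicOpen_le f)).op).hom.toAlgebra
    have hloc : IsLocalization.Away ((A.str.app (op (U : X.Opens))).hom f)
        (A.presheaf.obj (op (X.basicOpen f))) := A.isQC U U.2 f
    have h0 : algebraMap (A.presheaf.obj (op (U : X.Opens))) (A.presheaf.obj (op (X.basicOpen f)))
        (asRing A m) = algebraMap (A.presheaf.obj (op (U : X.Opens)))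
          (A.presheaf.obj (op (X.basicOpen f))) 0 := by
      rw [map_zero]
      exact hm
    obtain ⟨⟨_, n, rfl⟩, hc⟩ := (IsLocalization.eq_iff_exists
      (Submonoid.powers ((A.str.app (op (U : X.Opens))).hom f))
      (A.presheaf.obj (op (X.basicOpen f)))).mp h0
    refine ⟨n, ?_⟩
    rw [mul_zero] at hc
    rw [toModule_smul_def, map_pow]
    exact hc


/-- The sections `1` and `b` give a linear map `R² → A(V)`. -/
noncomputable def twoMap {V : X.Opens} (b : Γ(A.toModule, V)) :
    (Fin 2 → Γ(X, V)) →ₗ[Γ(X, V)] Γ(A.toModule, V) where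
  toFun c := c 0 • ofRing A (1 : A.presheaf.obj (op V)) + c 1 • b
  map_add' c c' := by
    simp only [Pi.add_apply, add_smul]
    abel
  map_smul' r c := by
    simp only [Pi.smul_apply, smul_eq_mul, mul_smul, RingHom.id_apply, smul_add]

theorem twoMap_bijective_of_isDblAlg {L : X.Modules}
    {m : CohB1.tensorMod L L ⟶ Coh.structureModule X} {j : L ⟶ A.toModule}
    (h : FinCov.IsDblAlg L m A j) {V : X.Opens} {e : Γ(L, V)} (he : IsTriv L V e) :
    Function.Bijective (twoMap A (j.app V e)) := by
  have h1 := h.1 V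
  have h2 : Function.Bijective (fun c : Fin 2 → Γ(X, V) => ((c 0, c 1 • e) : Γ(X, V) × Γ(L, V))) := by
    constructor
    · intro c c' hcc'
      simp only [Prod.mk.injEq] at hcc'
      funext i
      fin_cases i
      · exact hcc'.1
      · exact he.smul_left_cancel hcc'.2
    · rintro ⟨s, l⟩
      obtain ⟨a, ha⟩ := he.exists_eq_smul l
      exact ⟨![s, a], by simp [ha]⟩
  have e3 : (twoMap A (j.app V e) : (Fin 2 → Γ(X, V)) → Γ(A.toModule, V)) =
      (fun p : Γ(X, V) × L.val.obj (op V) =>
        (A.str.app (op V)).hom p.1 + FinCov.toSec A ((j.val.app (op V)).hom p.2)) ∘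
      (fun c : Fin 2 → Γ(X, V) => ((c 0, c 1 • e) : Γ(X, V) × Γ(L, V))) := by
    funext c
    simp only [Function.comp_apply]
    change c 0 • ofRing A (1 : A.presheaf.obj (op V)) + c 1 • j.app V e = _
    rw [← app_smul', toModule_smul_def]
    change ofRing A ((A.str.app (op V)).hom (c 0) * 1) + _ = _
    rw [mul_one]
    rfl
  rw [e3]
  exact h1.comp h2

theorem isFinLocFreeOfRank_two_of_isDblAlg {L : X.Modules} (hL : PicF.IsInvertible L)
    {m : CohB1.tensorMod L L ⟶ Coh.structureModule X} {j : L ⟶ A.toModule}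
    (h : FinCov.IsDblAlg L m A j) : FlatMod.IsFinLocFreeOfRank 2 A.toModule := by
  rw [isFinLocFreeOfRank_iff_exists_affine]
  intro x
  obtain ⟨V, e, hV, hxV, -, he⟩ := exists_affine_isTriv hL x (W := ⊤) trivial
  refine ⟨V, hV, hxV, ⟨?_⟩⟩
  exact (LinearEquiv.ofBijective (twoMap A (j.app V e))
    (twoMap_bijective_of_isDblAlg A h he)).symm ≪≫ₗ
    (Finsupp.linearEquivFunOnFinite Γ(X, V) Γ(X, V) (Fin 2)).symm

end QCAlg

end Groth.Agent.Lib.Helper29.QCoh
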