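import Groth.Agent.Lib.Helper29.FinCov9
import Groth.Prelude.Def_Fitting
universe u
open CategoryTheory CategoryTheory.Limits AlgebraicGeometry TopologicalSpace Opposite

namespace Groth.Agent.Lib.Helper29.QCoh

section Alg

/-- A basis and the norm pass to the localization away from an element. -/
theorem norm_away {R S R' S' : Type*} [CommRing R] [CommRing S] [CommRing R'] [CommRing S']
    [Algebra R S] [Algebra R' S'] (φ : R →+* R') (ψ : S →+* S')
    (hcomm : ∀ r, ψ (algebraMap R S r) = algebraMap R' S' (φ r)) (f : R)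
    (hR : letI := φ.toAlgebra; IsLocalization.Away f R')
    (hS : letI := ψ.toAlgebra; IsLocalization.Away (algebraMap R S f) S')
    {ι : Type*} [Finite ι] (b : Module.Basis ι R S) :
    Nonempty (Module.Basis ι R' S') ∧ ∀ a, Algebra.norm R' (ψ a) = φ (Algebra.norm R a) := by
  letI := φ.toAlgebra
  letI := ψ.toAlgebra
  letI : Algebra R S' := (ψ.comp (algebraMap R S)).toAlgebra
  haveI : IsScalarTower R S S' := IsScalarTower.of_algebraMap_eq' rfl
  haveI : IsScalarTower R R' S' := IsScalarTower.of_algebraMap_eq fun r => hcomm r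
  haveI : IsLocalization (Submonoid.powers f) R' := hR
  haveI : IsLocalization (Algebra.algebraMapSubmonoid S (Submonoid.powers f)) S' := by
    rw [Algebra.algebraMapSubmonoid_powers]
    exact hS
  haveI : Module.Free R S := Module.Free.of_basis b
  haveI : Module.Finite R S := Module.Finite.of_basis b
  exact ⟨⟨b.localizationLocalization R' (Submonoid.powers f) S'⟩,
    fun a => Algebra.norm_localization R (Submonoid.powers f) a⟩

open Polynomial in
/-- The norm of `b` is a multiple of `b`. -/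
theorem exists_mul_eq_algebraMap_norm {R S : Type*} [CommRing R] [CommRing S] [Algebra R S]
    {ι : Type*} [Fintype ι] [DecidableEq ι] (bs : Module.Basis ι R S) (b : S) :
    ∃ c : S, algebraMap R S (Algebra.norm R b) = c * b := by
  set M := Algebra.leftMulMatrix bs b with hM
  have h1 := Matrix.aeval_self_charpoly M
  have h2 : Algebra.leftMulMatrix bs (aeval b M.charpoly) = 0 := by
    rw [← h1, hM, aeval_algHom_apply]
  have h3 : aeval b M.charpoly = 0 :=
    Algebra.leftMulMatrix_injective bs (h2.trans (map_zero _).symm)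
  have h4 : M.charpoly = divX M.charpoly * X + C (M.charpoly.coeff 0) :=
    (divX_mul_X_add M.charpoly).symm
  rw [h4, map_add, map_mul, aeval_X, aeval_C] at h3
  have h5 : Algebra.norm R b = (-1) ^ Fintype.card ι * M.charpoly.coeff 0 := by
    rw [Algebra.norm_eq_matrix_det bs b]
    exact Matrix.det_eq_sign_charpoly_coeff M
  refine ⟨-((-1) ^ Fintype.card ι * aeval b (divX M.charpoly)), ?_⟩
  rw [h5, map_mul, map_pow, map_neg, map_one]
  linear_combination ((-1 : S) ^ Fintype.card ι) * h3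

end Alg

end Groth.Agent.Lib.Helper29.QCoh

namespace Groth.Agent.Lib.Helper29.QCoh

section Norm
variable {X : Scheme.{u}} (A : RelSpec.QCAlg X) (d : ℕ)

/-- Affine opens over which `A` is free of rank `d`. -/
def IsGoodD (V : X.Opens) : Prop :=
  IsAffineOpen V ∧
    (letI := algSect A V
     Nonempty (Module.Basis (Fin d) Γ(X, V) (A.presheaf.obj (op V))))

/-- The norm of the regular representation over `V` (meaningful when `V` is good). -/
noncomputable def normAt (V : X.Opens) (a : A.presheaf.obj (op V)) : Γ(X, V) :=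
  letI := algSect A V
  Algebra.norm Γ(X, V) a

/-- restriction of sections of `A` -/
noncomputable abbrev resA {U V : X.Opens} (h : V ≤ U) :
    A.presheaf.obj (op U) →+* A.presheaf.obj (op V) :=
  (A.presheaf.map (homOfLE h).op).hom

/-- restriction of functions -/
noncomputable abbrev resO {U V : X.Opens} (h : V ≤ U) : Γ(X, U) →+* Γ(X, V) :=
  (X.presheaf.map (homOfLE h).op).hom

theorem resA_resA {U V W : X.Opens} (h : V ≤ U) (h' : W ≤ V) (a : A.presheaf.obj (op U)) :
    resA A h' (resA A h a) = resA A (h'.trans h) a := by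
  change (A.presheaf.map (homOfLE h).op ≫ A.presheaf.map (homOfLE h').op).hom a = _
  rw [← Functor.map_comp]
  rfl

theorem resA_self {U : X.Opens} (a : A.presheaf.obj (op U)) : resA A (le_refl U) a = a := by
  change (A.presheaf.map (𝟙 (op U))).hom a = a
  rw [A.presheaf.map_id]
  rfl

theorem isGoodD_basicOpen {V : X.Opens} (hV : IsGoodD A d V) (f : Γ(X, V)) {D : X.Opens}
    (hD : D = X.basicOpen f) :
    IsGoodD A d D ∧ ∀ a : A.presheaf.obj (op V),
      normAt A D (resA A (hD.le.trans (X.basicOpen_le f)) a) =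
        resO (hD.le.trans (X.basicOpen_le f)) (normAt A V a) := by
  subst hD
  obtain ⟨hVa, ⟨b⟩⟩ := hV
  letI := algSect A V
  letI := algSect A (X.basicOpen f)
  have hR : letI := (X.presheaf.map (homOfLE (X.basicOpen_le f)).op).hom.toAlgebra
      IsLocalization.Away f Γ(X, X.basicOpen f) := hVa.isLocalization_basicOpen f
  have hS := A.isQC V hVa f
  have hcomm : ∀ r : Γ(X, V), (A.presheaf.map (homOfLE (X.basicOpen_le f)).op).hom
      (algebraMap Γ(X, V) (A.presheaf.obj (op V)) r) =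
      algebraMap Γ(X, X.basicOpen f) (A.presheaf.obj (op (X.basicOpen f)))
        ((X.presheaf.map (homOfLE (X.basicOpen_le f)).op).hom r) := fun r =>
    (congr_arg (fun ψ => ψ.hom r) (A.str.naturality (homOfLE (X.basicOpen_le f)).op)).symm
  obtain ⟨h1, h2⟩ := norm_away (X.presheaf.map (homOfLE (X.basicOpen_le f)).op).hom
    (A.presheaf.map (homOfLE (X.basicOpen_le f)).op).hom hcomm f hR hS b
  exact ⟨⟨hVa.basicOpen f, h1⟩, fun a => h2 a⟩

theorem normAt_compat {V V' W : X.Opens} (hV : IsGoodD A d V) (hV' : IsGoodD A d V')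
    (hVW : V ≤ W) (hV'W : V' ≤ W) (a : A.presheaf.obj (op W)) :
    resO (inf_le_left : V ⊓ V' ≤ V) (normAt A V (resA A hVW a)) =
      resO (inf_le_right : V ⊓ V' ≤ V') (normAt A V' (resA A hV'W a)) := by
  choose f g hfg hxf using fun x : (V ⊓ V' : X.Opens) =>
    exists_basicOpen_le_affine_inter hV.1 hV'.1 x.1 x.2
  have hD : ∀ x, X.basicOpen (f x) ≤ V ⊓ V' := fun x =>
    le_inf (X.basicOpen_le (f x)) ((hfg x).le.trans (X.basicOpen_le (g x)))
  refine eq_of_res_cover_eq (unitM X) (fun x => X.basicOpen (f x)) hD ?_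
    (toUnit (resO (inf_le_left : V ⊓ V' ≤ V) (normAt A V (resA A hVW a))))
    (toUnit (resO (inf_le_right : V ⊓ V' ≤ V') (normAt A V' (resA A hV'W a)))) ?_
  · intro x hx
    exact Opens.mem_iSup.mpr ⟨⟨x, hx⟩, hxf ⟨x, hx⟩⟩
  · intro x
    have h1 := (isGoodD_basicOpen A d hV (f x) rfl).2 (resA A hVW a)
    have h2 := (isGoodD_basicOpen A d hV' (g x) (hfg x)).2 (resA A hV'W a)
    rw [resA_resA] at h1 h2
    have e1 := res_res (unitM X) (inf_le_left : V ⊓ V' ≤ V) (hD x)
      (toUnit (normAt A V (resA A hVW a)))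
    have e2 := res_res (unitM X) (inf_le_right : V ⊓ V' ≤ V') (hD x)
      (toUnit (normAt A V' (resA A hV'W a)))
    exact e1.trans ((congrArg toUnit (h1.symm.trans h2)).trans e2.symm)

end Norm

end Groth.Agent.Lib.Helper29.QCoh

namespace Groth.Agent.Lib.Helper29.QCoh

section Norm2
variable {X : Scheme.{u}} (A : RelSpec.QCAlg X) (d : ℕ)
  (hcov : ∀ (W : X.Opens) (x : X), x ∈ W → ∃ V, IsGoodD A d V ∧ x ∈ V ∧ V ≤ W)
include hcov

theorem eq_of_resO_isGoodD_eq {W : X.Opens} (s t : Γ(X, W))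
    (h : ∀ (V : X.Opens) (_ : IsGoodD A d V) (hVW : V ≤ W), resO hVW s = resO hVW t) : s = t := by
  refine eq_of_res_cover_eq (unitM X) (fun V : {V : X.Opens // IsGoodD A d V ∧ V ≤ W} => V.1)
    (fun V => V.2.2) ?_ (toUnit s) (toUnit t) (fun V => congrArg toUnit (h V.1 V.2.1 V.2.2))
  intro x hx
  obtain ⟨V, hV, hxV, hVW⟩ := hcov W x hx
  exact Opens.mem_iSup.mpr ⟨⟨V, hV, hVW⟩, hxV⟩

theorem exists_norm_section (W : X.Opens) (a : A.presheaf.obj (op W)) :
    ∃ s : Γ(X, W), ∀ (V : X.Opens) (_ : IsGoodD A d V) (hVW : V ≤ W),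
      resO hVW s = normAt A V (resA A hVW a) := by
  obtain ⟨s, hs⟩ := exists_gluing (unitM X)
    (fun V : {V : X.Opens // IsGoodD A d V ∧ V ≤ W} => V.1) W (fun V => V.2.2) (by
      intro x hx
      obtain ⟨V, hV, hxV, hVW⟩ := hcov W x hx
      exact Opens.mem_iSup.mpr ⟨⟨V, hV, hVW⟩, hxV⟩)
    (fun V => toUnit (normAt A V.1 (resA A V.2.2 a)))
    (fun V V' => congrArg toUnit (normAt_compat A d V.2.1 V'.2.1 V.2.2 V'.2.2 a))
  exact ⟨fromUnit s, fun V hV hVW => congrArg fromUnit (hs ⟨V, hV, hVW⟩)⟩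

/-- The glued norm on sections. -/
noncomputable def nrmSect (W : X.Opens) (a : A.presheaf.obj (op W)) : Γ(X, W) :=
  (exists_norm_section A d hcov W a).choose

theorem res_nrmSect {W V : X.Opens} (a : A.presheaf.obj (op W)) (hV : IsGoodD A d V)
    (hVW : V ≤ W) : resO hVW (nrmSect A d hcov W a) = normAt A V (resA A hVW a) :=
  (exists_norm_section A d hcov W a).choose_spec V hV hVW

theorem nrmSect_one (W : X.Opens) : nrmSect A d hcov W 1 = 1 := by
  refine eq_of_resO_isGoodD_eq A d hcov _ _ fun V hV hVW => ?_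
  rw [res_nrmSect A d hcov _ hV, map_one, map_one]
  letI := algSect A V
  exact map_one (Algebra.norm Γ(X, V))

theorem nrmSect_mul (W : X.Opens) (a b : A.presheaf.obj (op W)) :
    nrmSect A d hcov W (a * b) = nrmSect A d hcov W a * nrmSect A d hcov W b := by
  refine eq_of_resO_isGoodD_eq A d hcov _ _ fun V hV hVW => ?_
  rw [map_mul, res_nrmSect A d hcov _ hV, res_nrmSect A d hcov _ hV, res_nrmSect A d hcov _ hV,
    map_mul]
  letI := algSect A V
  exact map_mul (Algebra.norm Γ(X, V)) _ _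

theorem nrmSect_res {W W' : X.Opens} (h : W' ≤ W) (a : A.presheaf.obj (op W)) :
    nrmSect A d hcov W' (resA A h a) = resO h (nrmSect A d hcov W a) := by
  refine eq_of_resO_isGoodD_eq A d hcov _ _ fun V hV hVW => ?_
  rw [res_nrmSect A d hcov _ hV, resA_resA]
  have : resO hVW (resO h (nrmSect A d hcov W a)) = resO (hVW.trans h) (nrmSect A d hcov W a) :=
    map_map_apply X h hVW _
  rw [this, res_nrmSect A d hcov _ hV]

theorem nrmSect_str (W : X.Opens) (g : Γ(X, W)) :
    nrmSect A d hcov W ((A.str.app (op W)).hom g) = g ^ d := by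
  refine eq_of_resO_isGoodD_eq A d hcov _ _ fun V hV hVW => ?_
  rw [res_nrmSect A d hcov _ hV, map_pow]
  have h1 : resA A hVW ((A.str.app (op W)).hom g) = (A.str.app (op V)).hom (resO hVW g) :=
    (congr_arg (fun ψ => ψ.hom g) (A.str.naturality (homOfLE hVW).op)).symm
  rw [h1]
  obtain ⟨-, ⟨b⟩⟩ := hV
  letI := algSect A V
  have := Algebra.norm_algebraMap_of_basis b (resO hVW g)
  rw [Fintype.card_fin] at this
  exact this

theorem nrmSect_eq_normAt {V : X.Opens} (hV : IsGoodD A d V) (a : A.presheaf.obj (op V)) :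
    nrmSect A d hcov V a = normAt A V a := by
  have h := res_nrmSect A d hcov a hV le_rfl
  rw [resA_self] at h
  have h2 : resO (le_refl V) (nrmSect A d hcov V a) = nrmSect A d hcov V a := by
    change (X.presheaf.map (𝟙 (op V))).hom _ = _
    rw [X.presheaf.map_id]
    rfl
  rw [← h2, h]

end Norm2

end Groth.Agent.Lib.Helper29.QCoh

namespace Groth.Agent.Lib.Helper29.QCoh

section Mor
variable {X Y : Scheme.{u}} (π : X ⟶ Y)

open Groth.Agent.Lib.Helper26.FinLocFreeMor in
theorem directImage_hcov [IsAffineHom π] {d : ℕ}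
    (hM : FlatMod.IsFinLocFreeOfRank d ((Scheme.Modules.pushforward π).obj (unitM X))) :
    ∀ (W : Y.Opens) (y : Y), y ∈ W →
      ∃ V, IsGoodD (RelSpec.QCAlg.directImage π) d V ∧ y ∈ V ∧ V ≤ W := by
  intro W y hy
  obtain ⟨V, hV, hyV, hVW, ⟨e⟩⟩ := exists_affine_le_linearEquiv_of_isFinLocFreeOfRank hM y hy
  refine ⟨V, ⟨hV, ?_⟩, hyV, hVW⟩
  letI alg : Algebra Γ(Y, V) Γ(X, π ⁻¹ᵁ V) := (π.app V).hom.toAlgebra
  have b : Module.Basis (Fin d) Γ(Y, V) Γ(X, π ⁻¹ᵁ V) :=
    Module.Basis.ofRepr ((sectionsEquiv π V).symm ≪≫ₗ e)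
  exact ⟨b⟩

theorem germ_norm_mem [IsAffineHom π] {d : ℕ} {V : Y.Opens}
    (hV : IsGoodD (RelSpec.QCAlg.directImage π) d V) (b : Γ(X, π ⁻¹ᵁ V)) (x : X)
    (hx : π.base x ∈ V)
    (hb : X.presheaf.germ (π ⁻¹ᵁ V) x hx b ∈ IsLocalRing.maximalIdeal (X.presheaf.stalk x)) :
    Y.presheaf.germ V (π.base x) hx (normAt (RelSpec.QCAlg.directImage π) V b) ∈
      IsLocalRing.maximalIdeal (Y.presheaf.stalk (π.base x)) := by
  classical
  letI := algSect (RelSpec.QCAlg.directImage π) V
  obtain ⟨-, ⟨bs⟩⟩ := hV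
  obtain ⟨c, hc⟩ := exists_mul_eq_algebraMap_norm bs
    (b : (RelSpec.QCAlg.directImage π).presheaf.obj (op V))
  obtain ⟨c', hcc'⟩ : ∃ c' : Γ(X, π ⁻¹ᵁ V), c' = c := ⟨c, rfl⟩
  have hc' : (π.app V).hom (normAt (RelSpec.QCAlg.directImage π) V b) = c' * b := by
    rw [hcc']
    exact hc
  rw [IsLocalRing.mem_maximalIdeal, mem_nonunits_iff]
  intro hu
  have h1 := hu.map (π.stalkMap x).hom
  have h2 : (π.stalkMap x).hom (Y.presheaf.germ V (π.base x) hx
      (normAt (RelSpec.QCAlg.directImage π) V b)) =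
      X.presheaf.germ (π ⁻¹ᵁ V) x hx ((π.app V).hom
        (normAt (RelSpec.QCAlg.directImage π) V b)) :=
    Scheme.Hom.germ_stalkMap_apply π V x hx _
  rw [h2, hc', map_mul] at h1
  have h3 : X.presheaf.germ (π ⁻¹ᵁ V) x hx c' * X.presheaf.germ (π ⁻¹ᵁ V) x hx b ∈
      IsLocalRing.maximalIdeal (X.presheaf.stalk x) := Ideal.mul_mem_left _ _ hb
  rw [IsLocalRing.mem_maximalIdeal, mem_nonunits_iff] at h3
  exact h3 h1

end Mor

end Groth.Agent.Lib.Helper29.QCoh

namespace Groth.Agent.Lib.Helper29.QCoh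

theorem hasNorm_of_isFinLocFreeOfDeg {X Y : Scheme.{u}} (π : X ⟶ Y) (d : ℕ) (hd : 1 ≤ d)
    (hπ : Mor2.IsFinLocFreeOfDeg d π) : Nrm.HasNorm π d := by
  obtain ⟨haff, hM⟩ := (isCover_iff π d).mp hπ
  haveI := haff
  have hcov := directImage_hcov π hM
  refine ⟨{ one_le := hd
            norm := fun U =>
              { toFun := fun s => nrmSect (RelSpec.QCAlg.directImage π) d hcov U s
                map_one' := nrmSect_one (RelSpec.QCAlg.directImage π) d hcov U
                map_mul' := nrmSect_mul (RelSpec.QCAlg.directImage π) d hcov U }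
            norm_res := ?_
            norm_app := ?_
            norm_mem := ?_ }⟩
  · intro U V i s
    have hi : i = homOfLE (leOfHom i) := rfl
    rw [hi]
    exact (nrmSect_res (RelSpec.QCAlg.directImage π) d hcov (leOfHom i) s).symm
  · intro U g
    exact nrmSect_str (RelSpec.QCAlg.directImage π) d hcov U g
  · intro U s x hx hs
    obtain ⟨V, hV, hxV, hVU⟩ := hcov U (π.base x) hx
    change Y.presheaf.germ U (π.base x) hx
      (nrmSect (RelSpec.QCAlg.directImage π) d hcov U s) ∈ _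
    have h1 : Y.presheaf.germ U (π.base x) hx
        (nrmSect (RelSpec.QCAlg.directImage π) d hcov U s) =
        Y.presheaf.germ V (π.base x) hxV
          (resO hVU (nrmSect (RelSpec.QCAlg.directImage π) d hcov U s)) :=
      (TopCat.Presheaf.germ_res_apply Y.presheaf (homOfLE hVU) (π.base x) hxV _).symm
    rw [h1, res_nrmSect (RelSpec.QCAlg.directImage π) d hcov s hV hVU]
    refine germ_norm_mem π hV _ x hxV ?_
    have h2 : X.presheaf.germ (π ⁻¹ᵁ V) x hxV
        (resA (RelSpec.QCAlg.directImage π) hVU s) = X.presheaf.germ (π ⁻¹ᵁ U) x hx s :=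
      TopCat.Presheaf.germ_res_apply X.presheaf (homOfLE (π.preimage_mono hVU)) x hxV s
    rw [h2]
    exact hs

end Groth.Agent.Lib.Helper29.QCoh
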