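import Groth.Agent.Lib.Helper29.FinCov1
import Groth.Agent.Lib.Helper29.Cocycle
universe u
open CategoryTheory CategoryTheory.Limits AlgebraicGeometry TopologicalSpace Opposite

namespace Groth.Agent.Lib.Helper29.QCoh

section
variable {X : Scheme.{u}}

theorem nsmul_app_apply {M N : X.Modules} (φ : M ⟶ N) (d : ℕ) (U : X.Opens) (m : Γ(M, U)) :
    (d • φ).app U m = d • φ.app U m := by
  induction d with
  | zero => simp
  | succ n ih =>
    rw [succ_nsmul, succ_nsmul, Scheme.Modules.Hom.add_app]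
    change (n • φ).app U m + φ.app U m = _
    rw [ih]

theorem exists_affine_le_linearEquiv_of_isFinLocFreeOfRank {n : ℕ} {M : X.Modules}
    (h : FlatMod.IsFinLocFreeOfRank n M) {W : X.Opens}
    (x : X) (hxW : x ∈ W) : ∃ (V : X.Opens), IsAffineOpen V ∧ x ∈ V ∧ V ≤ W ∧
      Nonempty (Γ(M, V) ≃ₗ[Γ(X, V)] (Fin n →₀ Γ(X, V))) := by
  rw [isFinLocFreeOfRank_iff_isFreeAlong] at h
  obtain ⟨U, hx, hfree⟩ := h x
  obtain ⟨V, hV, hxV, hVU⟩ := exists_isAffineOpen_mem_and_subset (x := x) (U := U ⊓ W) ⟨hx, hxW⟩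
  refine ⟨V, hV, hxV, fun y hy => (hVU hy).2, nonempty_linearEquiv_of_isFreeAlong_fromSpec M hV n
    (hfree.of_range_subset _ ?_)⟩
  rw [hV.range_fromSpec, Scheme.Opens.range_ι]
  exact fun y hy => (hVU hy).1

variable (A : RelSpec.QCAlg X)

/-- The trace on an affine open where `A` is free of rank `d`. -/
theorem trace_apply_of_linearEquiv {τ : A.toModule ⟶ Coh.structureModule X}
    (hτ : FinCov.IsTrace A τ) {V : X.Opens} (hV : IsAffineOpen V) {ι : Type*} [Finite ι]
    (e : Γ(A.toModule, V) ≃ₗ[Γ(X, V)] (ι →₀ Γ(X, V))) (a : Γ(A.toModule, V)) :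
    letI : Algebra Γ(X, V) (A.presheaf.obj (op V)) := (A.str.app (op V)).hom.toAlgebra
    τ.app V a = Algebra.trace Γ(X, V) (A.presheaf.obj (op V)) (asRing A a) := by
  letI : Algebra Γ(X, V) (A.presheaf.obj (op V)) := (A.str.app (op V)).hom.toAlgebra
  have e' : (A.presheaf.obj (op V)) ≃ₗ[Γ(X, V)] (ι →₀ Γ(X, V)) := e
  have hfree : Module.Free Γ(X, V) (A.presheaf.obj (op V)) := Module.Free.of_equiv e'.symm
  have hfin : Module.Finite Γ(X, V) (A.presheaf.obj (op V)) := Module.Finite.equiv e'.symm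
  exact hτ V hV hfree hfin a

theorem strMod_comp_trace {d : ℕ} (hA : FlatMod.IsFinLocFreeOfRank d A.toModule)
    {τ : A.toModule ⟶ Coh.structureModule X} (hτ : FinCov.IsTrace A τ) :
    FinCov.strMod A ≫ τ = d • 𝟙 (Coh.structureModule X) := by
  apply Scheme.Modules.hom_ext
  intro W
  ext r
  change (FinCov.strMod A ≫ τ).app W r = (d • 𝟙 (Coh.structureModule X)).app W r
  rw [nsmul_app_apply]
  change τ.app W ((FinCov.strMod A).app W r) = d • r
  choose V hV hxV hVW hVe using fun x : W =>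
    exists_affine_le_linearEquiv_of_isFinLocFreeOfRank hA x.1 x.2
  refine eq_of_res_cover_eq (unitM X) V hVW ?_ _ _ ?_
  · intro x hx
    exact Opens.mem_iSup.mpr ⟨⟨x, hx⟩, hxV ⟨x, hx⟩⟩
  · intro x
    obtain ⟨e⟩ := hVe x
    rw [← app_res, ← app_res]
    have h1 := trace_apply_of_linearEquiv A hτ (hV x) e
      ((FinCov.strMod A).app (V x) (res (unitM X) (hVW x) r))
    erw [h1]
    letI : Algebra Γ(X, V x) (A.presheaf.obj (op (V x))) := (A.str.app (op (V x))).hom.toAlgebra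
    have e' : (A.presheaf.obj (op (V x))) ≃ₗ[Γ(X, V x)] (Fin d →₀ Γ(X, V x)) := e
    have h2 := Algebra.trace_algebraMap_of_basis (Module.Basis.ofRepr e')
      ((X.presheaf.map (homOfLE (hVW x)).op).hom r)
    rw [Fintype.card_fin] at h2
    refine h2.trans ?_
    exact (map_nsmul (X.presheaf.map (homOfLE (hVW x)).op).hom d r).symm

end

end Groth.Agent.Lib.Helper29.QCoh
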