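import Groth.Agent.Lib.Helper29.FinCov2
universe u
open CategoryTheory CategoryTheory.Limits AlgebraicGeometry TopologicalSpace Opposite

namespace Groth.Agent.Lib.Helper29.QCoh

section Alg
variable {R S : Type*} [CommRing R] [CommRing S] [Algebra R S]

/-- In a rank-two algebra with basis `1, β` and `β² ∈ R`, the trace of `β` vanishes. -/
theorem trace_eq_zero_of_sq_mem {β : S} {μ : R} (hβ : β * β = algebraMap R S μ)
    (hbij : Function.Bijective (fun c : Fin 2 → R => c 0 • (1 : S) + c 1 • β)) :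
    Algebra.trace R S β = 0 := by
  let T : (Fin 2 → R) →ₗ[R] S :=
    { toFun := fun c => c 0 • (1 : S) + c 1 • β
      map_add' := fun c c' => by
        simp only [Pi.add_apply, add_smul]
        abel
      map_smul' := fun r c => by
        simp only [Pi.smul_apply, smul_eq_mul, mul_smul, RingHom.id_apply, smul_add] }
  let E : S ≃ₗ[R] (Fin 2 → R) := (LinearEquiv.ofBijective T hbij).symm
  let b : Module.Basis (Fin 2) R S := Module.Basis.ofEquivFun E
  have hE : ∀ c : Fin 2 → R, E (c 0 • (1 : S) + c 1 • β) = c := fun c =>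
    (LinearEquiv.ofBijective T hbij).symm_apply_apply c
  have hb0 : b 0 = 1 := by
    rw [show b = Module.Basis.ofEquivFun E from rfl, Module.Basis.coe_ofEquivFun]
    change T (Pi.single 0 1) = 1
    change (Pi.single (0 : Fin 2) (1 : R) : Fin 2 → R) 0 • (1 : S) +
      (Pi.single (0 : Fin 2) (1 : R) : Fin 2 → R) 1 • β = 1
    simp
  have hb1 : b 1 = β := by
    rw [show b = Module.Basis.ofEquivFun E from rfl, Module.Basis.coe_ofEquivFun]
    change T (Pi.single 1 1) = β
    change (Pi.single (1 : Fin 2) (1 : R) : Fin 2 → R) 0 • (1 : S) +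
      (Pi.single (1 : Fin 2) (1 : R) : Fin 2 → R) 1 • β = β
    simp
  rw [Algebra.trace_eq_matrix_trace b, Matrix.trace]
  simp only [Matrix.diag_apply, Algebra.leftMulMatrix_eq_repr_mul, Fin.sum_univ_two]
  rw [hb0, hb1, mul_one, hβ]
  have h1 : b.repr β 0 = 0 := by
    change E β 0 = 0
    have := hE ![0, 1]
    simp only [Matrix.cons_val_zero, Matrix.cons_val_one, zero_smul, one_smul, zero_add] at this
    rw [this]
    rfl
  have h2 : b.repr (algebraMap R S μ) 1 = 0 := by
    change E (algebraMap R S μ) 1 = 0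
    have := hE ![μ, 0]
    simp only [Matrix.cons_val_zero, Matrix.cons_val_one, zero_smul, add_zero] at this
    rw [Algebra.algebraMap_eq_smul_one, this]
    rfl
  rw [h1, h2, add_zero]

end Alg

end Groth.Agent.Lib.Helper29.QCoh

namespace Groth.Agent.Lib.Helper29.QCoh

section Sheaf
variable {X : Scheme.{u}} (A : RelSpec.QCAlg X)

theorem trace_j_eq_zero {L : X.Modules} (hL : PicF.IsInvertible L)
    {m : CohB1.tensorMod L L ⟶ Coh.structureModule X} {j : L ⟶ A.toModule}
    (h : FinCov.IsDblAlg L m A j)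
    {τ : A.toModule ⟶ Coh.structureModule X} (hτ : FinCov.IsTrace A τ)
    (U : X.Opens) (l : Γ(L, U)) : τ.app U (j.app U l) = 0 := by
  choose V e hV hxV hVU he using fun x : U => exists_affine_isTriv hL x.1 x.2
  refine eq_of_res_cover_eq (unitM X) V hVU ?_ _ _ ?_
  · intro x hx
    exact Opens.mem_iSup.mpr ⟨⟨x, hx⟩, hxV ⟨x, hx⟩⟩
  · intro x
    rw [← app_res, ← app_res, map_zero]
    obtain ⟨c, hc⟩ := (he x).exists_eq_smul (res L (hVU x) l)
    rw [hc, app_smul', app_smul']
    have hbij := twoMap_bijective_of_isDblAlg A h (he x)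
    have h1 := trace_apply_of_linearEquiv A hτ (hV x)
      ((LinearEquiv.ofBijective (twoMap A (j.app (V x) (e x))) hbij).symm ≪≫ₗ
        (Finsupp.linearEquivFunOnFinite Γ(X, V x) Γ(X, V x) (Fin 2)).symm) (j.app (V x) (e x))
    have h2 : τ.app (V x) (j.app (V x) (e x)) = 0 := by
      erw [h1]
      letI : Algebra Γ(X, V x) (A.presheaf.obj (op (V x))) :=
        (A.str.app (op (V x))).hom.toAlgebra
      exact trace_eq_zero_of_sq_mem (R := Γ(X, V x)) (S := A.presheaf.obj (op (V x)))
        (μ := (m.val.app (op (V x))).hom (SecTwist.tmul L L (V x) (e x) (e x)))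
        (h.2 (V x) (e x) (e x)) hbij
    rw [h2]
    exact smul_zero c

end Sheaf

end Groth.Agent.Lib.Helper29.QCoh

namespace Groth.Agent.Lib.Helper29.QCoh

section Sheaf2
variable {X : Scheme.{u}} (A : RelSpec.QCAlg X)

theorem trace_str_add_j {L : X.Modules} (hL : PicF.IsInvertible L)
    {m : CohB1.tensorMod L L ⟶ Coh.structureModule X} {j : L ⟶ A.toModule}
    (h : FinCov.IsDblAlg L m A j)
    {τ : A.toModule ⟶ Coh.structureModule X} (hτ : FinCov.IsTrace A τ)
    (U : X.Opens) (s : Γ(X, U)) (l : Γ(L, U)) :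
    τ.app U (ofRing A ((A.str.app (op U)).hom s) + j.app U l) = toUnit (2 * s) := by
  rw [map_add, trace_j_eq_zero A hL h hτ, add_zero]
  have h1 := strMod_comp_trace A (isFinLocFreeOfRank_two_of_isDblAlg A hL h) hτ
  have h2 : (FinCov.strMod A ≫ τ).app U (toUnit s) =
      (2 • 𝟙 (Coh.structureModule X)).app U (toUnit s) := by rw [h1]
  rw [nsmul_app_apply] at h2
  refine h2.trans ?_
  change (2 : ℕ) • (s : Γ(X, U)) = 2 * s
  rw [nsmul_eq_mul]
  rfl

theorem trace_eq_zero_iff_mem_range {L : X.Modules} (hL : PicF.IsInvertible L)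
    {m : CohB1.tensorMod L L ⟶ Coh.structureModule X} {j : L ⟶ A.toModule}
    (h : FinCov.IsDblAlg L m A j) (h2 : IsUnit (2 : Γ(X, ⊤)))
    {τ : A.toModule ⟶ Coh.structureModule X} (hτ : FinCov.IsTrace A τ)
    (U : X.Opens) (a : A.toModule.val.obj (op U)) :
    (τ.val.app (op U)).hom a = 0 ↔ a ∈ Set.range (j.val.app (op U)).hom := by
  constructor
  · intro ha
    obtain ⟨⟨s, l⟩, rfl⟩ := (h.1 U).2 a
    have h3 := trace_str_add_j A hL h hτ U s l
    have h4 : (2 : Γ(X, U)) * s = 0 := by
      have : toUnit ((2 : Γ(X, U)) * s) = 0 := h3.symm.trans ha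
      exact this
    have h5 : IsUnit (2 : Γ(X, U)) := by
      have := h2.map (X.presheaf.map (homOfLE (le_top : U ≤ ⊤)).op).hom
      rwa [map_ofNat] at this
    have h6 : s = 0 := by
      rw [← h5.mul_right_inj, h4, mul_zero]
    refine ⟨l, ?_⟩
    simp only [h6, map_zero, zero_add]
  · rintro ⟨l, rfl⟩
    exact trace_j_eq_zero A hL h hτ U l

end Sheaf2

end Groth.Agent.Lib.Helper29.QCoh
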