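import Groth.Agent.Lib.Helper29.FinCov3
import Groth.Agent.Lib.Helper29.QCohGen
import Groth.Agent.Lib.Helper29.SerreA
universe u
open CategoryTheory CategoryTheory.Limits AlgebraicGeometry TopologicalSpace Opposite

namespace Groth.Agent.Lib.Helper29.QCoh

section
variable {X : Scheme.{u}}

/-- Two modules, one locally free of rank `n` and one finite locally free, are simultaneously
free on small affine opens. -/
theorem exists_affine_linearEquiv₂ {n : ℕ} {M K : X.Modules}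
    (h : FlatMod.IsFinLocFreeOfRank n M) (hK : FlatMod.IsFinLocFree K)
    (x : X) : ∃ (V : X.Opens) (k : ℕ), IsAffineOpen V ∧ x ∈ V ∧
      Nonempty (Γ(M, V) ≃ₗ[Γ(X, V)] (Fin n →₀ Γ(X, V))) ∧
      Nonempty (Γ(K, V) ≃ₗ[Γ(X, V)] (Fin k →₀ Γ(X, V))) := by
  rw [isFinLocFreeOfRank_iff_isFreeAlong] at h
  rw [isFinLocFree_iff_isFreeAlong] at hK
  obtain ⟨U, hx, hfree⟩ := h x
  obtain ⟨U', k, hx', hfree'⟩ := hK x
  obtain ⟨V, hV, hxV, hVU⟩ := exists_isAffineOpen_mem_and_subset (x := x) (U := U ⊓ U') ⟨hx, hx'⟩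
  refine ⟨V, k, hV, hxV, nonempty_linearEquiv_of_isFreeAlong_fromSpec M hV n
    (hfree.of_range_subset _ ?_), nonempty_linearEquiv_of_isFreeAlong_fromSpec K hV k
    (hfree'.of_range_subset _ ?_)⟩
  · rw [hV.range_fromSpec, Scheme.Opens.range_ι]
    exact fun y hy => (hVU hy).1
  · rw [hV.range_fromSpec, Scheme.Opens.range_ι]
    exact fun y hy => (hVU hy).2

/-- A complement of a line in a locally free module of rank `d` is locally free of rank `d - 1`. -/
theorem isFinLocFreeOfRank_pred_of_split {d : ℕ} {M K : X.Modules}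
    (hM : FlatMod.IsFinLocFreeOfRank d M)
    (i : K ⟶ M) (r : M ⟶ K) (τ : M ⟶ unitM X) (σ : unitM X ⟶ M)
    (hir : i ≫ r = 𝟙 K) (hστ : σ ≫ τ = 𝟙 _) (hiτ : i ≫ τ = 0) (hσr : σ ≫ r = 0)
    (hsum : r ≫ i + τ ≫ σ = 𝟙 M) :
    FlatMod.IsFinLocFreeOfRank (d - 1) K := by
  have hK : FlatMod.IsFinLocFree K :=
    isFinLocFree_of_retract i r hir (isFinLocFree_of_isFinLocFreeOfRank hM)
  haveI := isQuasicoherent_of_isFinLocFree hK
  rw [isFinLocFreeOfRank_iff_exists_affine]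
  intro x
  obtain ⟨V, k, hV, hxV, ⟨e⟩, ⟨e'⟩⟩ := exists_affine_linearEquiv₂ hM hK x
  refine ⟨V, hV, hxV, ?_⟩
  have happ : ∀ {P Q : X.Modules} (φ ψ : P ⟶ Q) (p : Γ(P, V)), φ = ψ → φ.app V p = ψ.app V p :=
    fun φ ψ p h => by rw [h]
  let E : Γ(M, V) ≃ₗ[Γ(X, V)] (Γ(X, V) × Γ(K, V)) :=
    { toFun := fun a => (fromUnit (τ.app V a), r.app V a)
      map_add' := fun a b => by simp only [map_add]; rfl
      map_smul' := fun c a => by
        simp only [app_smul', RingHom.id_apply]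
        rfl
      invFun := fun p => σ.app V (toUnit p.1) + i.app V p.2
      left_inv := fun a => by
        have := happ _ _ a hsum
        simp only [Scheme.Modules.Hom.add_app] at this
        change σ.app V (τ.app V a) + i.app V (r.app V a) = a
        rw [add_comm]
        exact this
      right_inv := fun p => by
        obtain ⟨s, l⟩ := p
        have h1 := happ _ _ (toUnit s) hστ
        have h2 := happ _ _ l hiτ
        have h3 := happ _ _ (toUnit s) hσr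
        have h4 := happ _ _ l hir
        simp only [map_add]
        refine Prod.ext ?_ ?_
        · change fromUnit (τ.app V (σ.app V (toUnit s)) + τ.app V (i.app V l)) = s
          erw [h1, h2]
          change s + 0 = s
          rw [add_zero]
        · change r.app V (σ.app V (toUnit s)) + r.app V (i.app V l) = l
          erw [h3, h4]
          change 0 + l = l
          rw [zero_add] }
  haveI : Nontrivial Γ(X, V) := nontrivial_sections_of_mem hxV
  have e1 : (Fin d →₀ Γ(X, V)) ≃ₗ[Γ(X, V)] (Fin (k + 1) →₀ Γ(X, V)) :=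
    e.symm ≪≫ₗ E ≪≫ₗ (LinearEquiv.prodCongr (LinearEquiv.refl _ _) e') ≪≫ₗ
      (LinearEquiv.prodCongr (Finsupp.uniqueLinearEquiv Γ(X, V) Γ(X, V) (0 : Fin 1)).symm
        (LinearEquiv.refl _ _)) ≪≫ₗ
      (Finsupp.sumFinsuppLEquivProdFinsupp Γ(X, V)).symm ≪≫ₗ
      Finsupp.domLCongr (finSumFinEquiv.trans (finCongr (add_comm 1 k)))
  have hdk : d = k + 1 := by
    have := LinearEquiv.finrank_eq e1
    simpa using this
  have hk : d - 1 = k := by omega
  rw [hk]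
  exact ⟨e'⟩

end

end Groth.Agent.Lib.Helper29.QCoh

namespace Groth.Agent.Lib.Helper29.QCoh

section
variable {X : Scheme.{u}} (A : RelSpec.QCAlg X)

theorem trace_splitting {d : ℕ} (hA : FlatMod.IsFinLocFreeOfRank d A.toModule)
    {τ : A.toModule ⟶ Coh.structureModule X} (hτ : FinCov.IsTrace A τ)
    (hd : IsUnit ((d : Γ(X, ⊤)))) :
    ∃ σ : Coh.structureModule X ⟶ A.toModule, σ ≫ τ = 𝟙 _ := by
  obtain ⟨u, hu⟩ := hd
  refine ⟨homOfSection A.toModule (ofRing A ((A.str.app (op ⊤)).hom ((u⁻¹ : Γ(X, ⊤)ˣ) : Γ(X, ⊤)))), ?_⟩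
  apply hom_ext_of_sval
  rw [sval_comp]
  have h0 : sval (homOfSection A.toModule
      (ofRing A ((A.str.app (op ⊤)).hom ((u⁻¹ : Γ(X, ⊤)ˣ) : Γ(X, ⊤))))) ⊤ =
      ofRing A ((A.str.app (op ⊤)).hom ((u⁻¹ : Γ(X, ⊤)ˣ) : Γ(X, ⊤))) :=
    homOfSection_app_one _ _
  rw [h0]
  have h1 := strMod_comp_trace A hA hτ
  have h2 : (FinCov.strMod A ≫ τ).app ⊤ (toUnit ((u⁻¹ : Γ(X, ⊤)ˣ) : Γ(X, ⊤))) =
      (d • 𝟙 (Coh.structureModule X)).app ⊤ (toUnit ((u⁻¹ : Γ(X, ⊤)ˣ) : Γ(X, ⊤))) := by rw [h1]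
  rw [nsmul_app_apply] at h2
  refine h2.trans ?_
  change (d : ℕ) • (((u⁻¹ : Γ(X, ⊤)ˣ) : Γ(X, ⊤))) = 1
  rw [nsmul_eq_mul, ← hu]
  exact u.mul_inv

theorem isSplitEpi_trace_and_kernel {d : ℕ} (hA : FlatMod.IsFinLocFreeOfRank d A.toModule)
    {τ : A.toModule ⟶ Coh.structureModule X} (hτ : FinCov.IsTrace A τ)
    (hd : IsUnit ((d : Γ(X, ⊤)))) :
    IsSplitEpi τ ∧ FlatMod.IsFinLocFreeOfRank (d - 1) (kernel τ) := by
  obtain ⟨σ, hσ⟩ := trace_splitting A hA hτ hd
  refine ⟨IsSplitEpi.mk' ⟨σ, hσ⟩, ?_⟩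
  have hz : (𝟙 A.toModule - τ ≫ σ) ≫ τ = 0 := by
    rw [Preadditive.sub_comp, Category.assoc, hσ, Category.id_comp, Category.comp_id, sub_self]
  have hri : kernel.lift τ (𝟙 A.toModule - τ ≫ σ) hz ≫ kernel.ι τ = 𝟙 A.toModule - τ ≫ σ :=
    kernel.lift_ι _ _ _
  refine isFinLocFreeOfRank_pred_of_split hA (kernel.ι τ)
    (kernel.lift τ (𝟙 A.toModule - τ ≫ σ) hz) τ σ ?_ hσ (kernel.condition τ) ?_ ?_
  · rw [← cancel_mono (kernel.ι τ), Category.assoc, hri, Preadditive.comp_sub, Category.comp_id,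
      ← Category.assoc, kernel.condition, zero_comp, sub_zero, Category.id_comp]
  · rw [← cancel_mono (kernel.ι τ), Category.assoc, hri, Preadditive.comp_sub, Category.comp_id,
      ← Category.assoc, hσ, Category.id_comp, sub_self, zero_comp]
  · rw [hri, sub_add_cancel]

end

end Groth.Agent.Lib.Helper29.QCoh
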