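import Groth.Agent.Lib.Helper29.FinCov4
import Mathlib.RingTheory.Localization.NormTrace
universe u
open CategoryTheory CategoryTheory.Limits AlgebraicGeometry TopologicalSpace Opposite

namespace Groth.Agent.Lib.Helper29.QCoh

section Alg

/-- Finite freeness and the trace pass to the localization away from an element. -/
theorem trace_away {R S R' S' : Type*} [CommRing R] [CommRing S] [CommRing R'] [CommRing S']
    [Algebra R S] [Algebra R' S'] (φ : R →+* R') (ψ : S →+* S')
    (hcomm : ∀ r, ψ (algebraMap R S r) = algebraMap R' S' (φ r)) (f : R)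
    (hR : letI := φ.toAlgebra; IsLocalization.Away f R')
    (hS : letI := ψ.toAlgebra; IsLocalization.Away (algebraMap R S f) S')
    [Module.Free R S] [Module.Finite R S] :
    Module.Free R' S' ∧ Module.Finite R' S' ∧
      ∀ a, Algebra.trace R' S' (ψ a) = φ (Algebra.trace R S a) := by
  letI := φ.toAlgebra
  letI := ψ.toAlgebra
  letI : Algebra R S' := (ψ.comp (algebraMap R S)).toAlgebra
  haveI : IsScalarTower R S S' := IsScalarTower.of_algebraMap_eq' rfl
  haveI : IsScalarTower R R' S' := IsScalarTower.of_algebraMap_eq fun r => hcomm r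
  haveI : IsLocalization (Submonoid.powers f) R' := hR
  haveI : IsLocalization (Algebra.algebraMapSubmonoid S (Submonoid.powers f)) S' := by
    rw [Algebra.algebraMapSubmonoid_powers]
    exact hS
  refine ⟨?_, Module.Finite.of_isLocalization R S (Submonoid.powers f), fun a => ?_⟩
  · exact Module.Free.of_basis
      ((Module.Free.chooseBasis R S).localizationLocalization R' (Submonoid.powers f) S')
  · exact Algebra.trace_localization R (Submonoid.powers f) a

end Alg

end Groth.Agent.Lib.Helper29.QCoh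

namespace Groth.Agent.Lib.Helper29.QCoh

section Trace
variable {X : Scheme.{u}} (A : RelSpec.QCAlg X)

/-- The algebra structure on sections of `A`. -/
abbrev algSect (V : X.Opens) : Algebra Γ(X, V) (A.presheaf.obj (op V)) :=
  (A.str.app (op V)).hom.toAlgebra

/-- Affine opens over which `A` is finite free. -/
def IsGood (V : X.Opens) : Prop :=
  IsAffineOpen V ∧
    (letI := algSect A V
     Module.Free Γ(X, V) (A.presheaf.obj (op V)) ∧ Module.Finite Γ(X, V) (A.presheaf.obj (op V)))

/-- The trace of the regular representation over `V` (meaningful when `V` is good). -/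
noncomputable def traceAt (V : X.Opens) (a : Γ(A.toModule, V)) : Γ(unitM X, V) :=
  letI := algSect A V
  toUnit (Algebra.trace Γ(X, V) (A.presheaf.obj (op V)) (asRing A a))

theorem traceAt_add (V : X.Opens) (a b : Γ(A.toModule, V)) :
    traceAt A V (a + b) = traceAt A V a + traceAt A V b := by
  letI := algSect A V
  exact map_add (Algebra.trace Γ(X, V) (A.presheaf.obj (op V))) (asRing A a) (asRing A b)

theorem traceAt_smul (V : X.Opens) (r : Γ(X, V)) (a : Γ(A.toModule, V)) :
    traceAt A V (r • a) = r • traceAt A V a := by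
  letI := algSect A V
  exact map_smul (Algebra.trace Γ(X, V) (A.presheaf.obj (op V))) r (asRing A a)

theorem isGood_basicOpen {V : X.Opens} (hV : IsGood A V) (f : Γ(X, V)) {D : X.Opens}
    (hD : D = X.basicOpen f) :
    IsGood A D ∧ ∀ a : Γ(A.toModule, V),
      traceAt A D (res A.toModule (hD.le.trans (X.basicOpen_le f)) a) =
        res (unitM X) (hD.le.trans (X.basicOpen_le f)) (traceAt A V a) := by
  subst hD
  obtain ⟨hVa, hfree, hfin⟩ := hV
  letI := algSect A V
  letI := algSect A (X.basicOpen f)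
  have hR : letI := (X.presheaf.map (homOfLE (X.basicOpen_le f)).op).hom.toAlgebra
      IsLocalization.Away f Γ(X, X.basicOpen f) := hVa.isLocalization_basicOpen f
  have hS := A.isQC V hVa f
  have hcomm : ∀ r : Γ(X, V), (A.presheaf.map (homOfLE (X.basicOpen_le f)).op).hom
      (algebraMap Γ(X, V) (A.presheaf.obj (op V)) r) =
      algebraMap Γ(X, X.basicOpen f) (A.presheaf.obj (op (X.basicOpen f)))
        ((X.presheaf.map (homOfLE (X.basicOpen_le f)).op).hom r) := fun r =>
    (congr_arg (fun ψ => ψ.hom r) (A.str.naturality (homOfLE (X.basicOpen_le f)).op)).symm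
  obtain ⟨h1, h2, h3⟩ := trace_away (X.presheaf.map (homOfLE (X.basicOpen_le f)).op).hom
    (A.presheaf.map (homOfLE (X.basicOpen_le f)).op).hom hcomm f hR hS
  exact ⟨⟨hVa.basicOpen f, h1, h2⟩, fun a => h3 (asRing A a)⟩

end Trace

end Groth.Agent.Lib.Helper29.QCoh

namespace Groth.Agent.Lib.Helper29.QCoh

section Trace2
variable {X : Scheme.{u}} (A : RelSpec.QCAlg X)

theorem traceAt_compat {V V' W : X.Opens} (hV : IsGood A V) (hV' : IsGood A V')
    (hVW : V ≤ W) (hV'W : V' ≤ W) (a : Γ(A.toModule, W)) :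
    res (unitM X) (inf_le_left : V ⊓ V' ≤ V) (traceAt A V (res A.toModule hVW a)) =
      res (unitM X) (inf_le_right : V ⊓ V' ≤ V') (traceAt A V' (res A.toModule hV'W a)) := by
  choose f g hfg hxf using fun x : (V ⊓ V' : X.Opens) =>
    exists_basicOpen_le_affine_inter hV.1 hV'.1 x.1 x.2
  have hD : ∀ x, X.basicOpen (f x) ≤ V ⊓ V' := fun x =>
    le_inf (X.basicOpen_le (f x)) ((hfg x).le.trans (X.basicOpen_le (g x)))
  refine eq_of_res_cover_eq (unitM X) (fun x => X.basicOpen (f x)) hD ?_ _ _ ?_
  · intro x hx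
    exact Opens.mem_iSup.mpr ⟨⟨x, hx⟩, hxf ⟨x, hx⟩⟩
  · intro x
    rw [res_res, res_res]
    have h1 := (isGood_basicOpen A hV (f x) rfl).2 (res A.toModule hVW a)
    have h2 := (isGood_basicOpen A hV' (g x) (hfg x)).2 (res A.toModule hV'W a)
    rw [res_res] at h1 h2
    exact h1.symm.trans h2

/-- Good opens form a basis when `A` is finite locally free. -/
theorem exists_isGood_le (hA : FlatMod.IsFinLocFree A.toModule) {W : X.Opens} (x : X)
    (hxW : x ∈ W) : ∃ V : X.Opens, IsGood A V ∧ x ∈ V ∧ V ≤ W := by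
  rw [isFinLocFree_iff_isFreeAlong] at hA
  obtain ⟨U, n, hx, hfree⟩ := hA x
  obtain ⟨V, hV, hxV, hVU⟩ := exists_isAffineOpen_mem_and_subset (x := x) (U := U ⊓ W) ⟨hx, hxW⟩
  obtain ⟨e⟩ := nonempty_linearEquiv_of_isFreeAlong_fromSpec A.toModule hV n
    (hfree.of_range_subset _ (by
      rw [hV.range_fromSpec, Scheme.Opens.range_ι]
      exact fun y hy => (hVU hy).1))
  refine ⟨V, ⟨hV, ?_⟩, hxV, fun y hy => (hVU hy).2⟩
  letI := algSect A V
  have e' : (A.presheaf.obj (op V)) ≃ₗ[Γ(X, V)] (Fin n →₀ Γ(X, V)) := e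
  exact ⟨Module.Free.of_equiv e'.symm, Module.Finite.equiv e'.symm⟩

end Trace2

end Groth.Agent.Lib.Helper29.QCoh

namespace Groth.Agent.Lib.Helper29.QCoh

section Trace3
variable {X : Scheme.{u}} (A : RelSpec.QCAlg X)

theorem eq_of_res_isGood_eq (hA : FlatMod.IsFinLocFree A.toModule) {W : X.Opens}
    (s t : Γ(unitM X, W))
    (h : ∀ (V : X.Opens) (_ : IsGood A V) (hVW : V ≤ W),
      res (unitM X) hVW s = res (unitM X) hVW t) : s = t := by
  refine eq_of_res_cover_eq (unitM X) (fun V : {V : X.Opens // IsGood A V ∧ V ≤ W} => V.1)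
    (fun V => V.2.2) ?_ s t (fun V => h V.1 V.2.1 V.2.2)
  intro x hx
  obtain ⟨V, hV, hxV, hVW⟩ := exists_isGood_le A hA x hx
  exact Opens.mem_iSup.mpr ⟨⟨V, hV, hVW⟩, hxV⟩

theorem exists_trace_section (hA : FlatMod.IsFinLocFree A.toModule) (W : X.Opens)
    (a : Γ(A.toModule, W)) :
    ∃ s : Γ(unitM X, W), ∀ (V : X.Opens) (_ : IsGood A V) (hVW : V ≤ W),
      res (unitM X) hVW s = traceAt A V (res A.toModule hVW a) := by
  obtain ⟨s, hs⟩ := exists_gluing (unitM X)
    (fun V : {V : X.Opens // IsGood A V ∧ V ≤ W} => V.1) W (fun V => V.2.2) (by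
      intro x hx
      obtain ⟨V, hV, hxV, hVW⟩ := exists_isGood_le A hA x hx
      exact Opens.mem_iSup.mpr ⟨⟨V, hV, hVW⟩, hxV⟩)
    (fun V => traceAt A V.1 (res A.toModule V.2.2 a))
    (fun V V' => traceAt_compat A V.2.1 V'.2.1 V.2.2 V'.2.2 a)
  exact ⟨s, fun V hV hVW => hs ⟨V, hV, hVW⟩⟩

/-- The glued trace on sections. -/
noncomputable def trSect (hA : FlatMod.IsFinLocFree A.toModule) (W : X.Opens)
    (a : Γ(A.toModule, W)) : Γ(unitM X, W) :=
  (exists_trace_section A hA W a).choose

theorem res_trSect (hA : FlatMod.IsFinLocFree A.toModule) {W V : X.Opens}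
    (a : Γ(A.toModule, W)) (hV : IsGood A V) (hVW : V ≤ W) :
    res (unitM X) hVW (trSect A hA W a) = traceAt A V (res A.toModule hVW a) :=
  (exists_trace_section A hA W a).choose_spec V hV hVW

theorem trSect_add (hA : FlatMod.IsFinLocFree A.toModule) (W : X.Opens)
    (a b : Γ(A.toModule, W)) : trSect A hA W (a + b) = trSect A hA W a + trSect A hA W b := by
  refine eq_of_res_isGood_eq A hA _ _ fun V hV hVW => ?_
  rw [map_add, res_trSect A hA _ hV, res_trSect A hA _ hV, res_trSect A hA _ hV, map_add,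
    traceAt_add]

theorem trSect_smul (hA : FlatMod.IsFinLocFree A.toModule) (W : X.Opens) (r : Γ(X, W))
    (a : Γ(A.toModule, W)) : trSect A hA W (r • a) = r • trSect A hA W a := by
  refine eq_of_res_isGood_eq A hA _ _ fun V hV hVW => ?_
  rw [res_smul, res_trSect A hA _ hV, res_trSect A hA _ hV, res_smul, traceAt_smul]

theorem trSect_res (hA : FlatMod.IsFinLocFree A.toModule) {W W' : X.Opens} (h : W' ≤ W)
    (a : Γ(A.toModule, W)) :
    trSect A hA W' (res A.toModule h a) = res (unitM X) h (trSect A hA W a) := by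
  refine eq_of_res_isGood_eq A hA _ _ fun V hV hVW => ?_
  rw [res_res, res_trSect A hA _ hV, res_trSect A hA _ hV, res_res]

/-- The trace morphism. -/
noncomputable def traceHom (hA : FlatMod.IsFinLocFree A.toModule) :
    A.toModule ⟶ Coh.structureModule X :=
  homOfApp (N := unitM X) (fun W => AddMonoidHom.mk' (trSect A hA W) (trSect_add A hA W))
    (fun W r a => trSect_smul A hA W r a) (fun h a => trSect_res A hA h a)

theorem traceHom_app (hA : FlatMod.IsFinLocFree A.toModule) (W : X.Opens)
    (a : Γ(A.toModule, W)) : (traceHom A hA).app W a = trSect A hA W a := rfl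

theorem isTrace_traceHom (hA : FlatMod.IsFinLocFree A.toModule) :
    FinCov.IsTrace A (traceHom A hA) := by
  intro U hU hfree hfin a
  have h := res_trSect A hA (W := U) a ⟨hU, hfree, hfin⟩ le_rfl
  rw [res_self, res_self] at h
  exact h

theorem isTrace_unique (hA : FlatMod.IsFinLocFree A.toModule)
    {τ τ' : A.toModule ⟶ Coh.structureModule X} (hτ : FinCov.IsTrace A τ)
    (hτ' : FinCov.IsTrace A τ') : τ = τ' := by
  apply Scheme.Modules.hom_ext
  intro W
  ext a
  refine eq_of_res_isGood_eq A hA _ _ fun V hV hVW => ?_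
  change res (unitM X) hVW (τ.app W a) = res (unitM X) hVW (τ'.app W a)
  rw [← app_res, ← app_res]
  exact (hτ V hV.1 hV.2.1 hV.2.2 _).trans (hτ' V hV.1 hV.2.1 hV.2.2 _).symm

theorem existsUnique_isTrace (hA : FlatMod.IsFinLocFree A.toModule) :
    ∃! τ : A.toModule ⟶ Coh.structureModule X, FinCov.IsTrace A τ :=
  ⟨traceHom A hA, isTrace_traceHom A hA, fun _ h => isTrace_unique A hA h (isTrace_traceHom A hA)⟩

end Trace3

end Groth.Agent.Lib.Helper29.QCoh
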