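import Groth.Agent.Lib.Helper29.FinCov6
universe u
open CategoryTheory CategoryTheory.Limits AlgebraicGeometry TopologicalSpace Opposite

namespace Groth.Agent.Lib.Helper29.QCoh

namespace Dbl

section Pairing
variable {X : Scheme.{u}} (L : X.Modules) (m : CohB1.tensorMod L L ⟶ Coh.structureModule X)

/-- The pairing on sections. -/
noncomputable def mu {U : X.Opens} (l l' : Γ(L, U)) : Γ(X, U) :=
  fromUnit (m.app U (tmulSec L L l l'))

theorem mu_add_left {U : X.Opens} (l l' n : Γ(L, U)) :
    mu L m (l + l') n = mu L m l n + mu L m l' n := by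
  unfold mu
  rw [tmulSec_add_left, map_add]
  rfl

theorem mu_add_right {U : X.Opens} (l n n' : Γ(L, U)) :
    mu L m l (n + n') = mu L m l n + mu L m l n' := by
  unfold mu
  rw [tmulSec_add_right, map_add]
  rfl

theorem mu_smul_left {U : X.Opens} (r : Γ(X, U)) (l n : Γ(L, U)) :
    mu L m (r • l) n = r * mu L m l n := by
  unfold mu
  rw [tmulSec_smul_left, app_smul']
  rfl

theorem mu_smul_right {U : X.Opens} (r : Γ(X, U)) (l n : Γ(L, U)) :
    mu L m l (r • n) = r * mu L m l n := by
  unfold mu
  rw [tmulSec_smul_right, app_smul']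
  rfl

theorem mu_zero_left {U : X.Opens} (n : Γ(L, U)) : mu L m 0 n = 0 := by
  unfold mu
  rw [tmulSec_zero_left, map_zero]
  rfl

theorem mu_zero_right {U : X.Opens} (l : Γ(L, U)) : mu L m l 0 = 0 := by
  unfold mu
  rw [tmulSec_zero_right, map_zero]
  rfl

theorem res_mu {U V : X.Opens} (h : V ≤ U) (l n : Γ(L, U)) :
    (X.presheaf.map (homOfLE h).op).hom (mu L m l n) = mu L m (res L h l) (res L h n) := by
  unfold mu
  rw [← res_tmulSec, app_res]
  rfl

variable {L}

theorem mu_comm (hL : PicF.IsInvertible L) {U : X.Opens} (l n : Γ(L, U)) :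
    mu L m l n = mu L m n l := by
  choose V e hV hxV hVU he using fun x : U => exists_affine_isTriv hL x.1 x.2
  refine eq_of_res_cover_eq (unitM X) V hVU ?_ (toUnit (mu L m l n)) (toUnit (mu L m n l)) ?_
  · intro x hx
    exact Opens.mem_iSup.mpr ⟨⟨x, hx⟩, hxV ⟨x, hx⟩⟩
  · intro x
    change toUnit ((X.presheaf.map (homOfLE (hVU x)).op).hom (mu L m l n)) =
      toUnit ((X.presheaf.map (homOfLE (hVU x)).op).hom (mu L m n l))
    rw [res_mu, res_mu]
    obtain ⟨a, ha⟩ := (he x).exists_eq_smul (res L (hVU x) l)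
    obtain ⟨b, hb⟩ := (he x).exists_eq_smul (res L (hVU x) n)
    rw [ha, hb, mu_smul_left, mu_smul_right, mu_smul_left, mu_smul_right, mul_left_comm]

theorem mu_smul_assoc (hL : PicF.IsInvertible L) {U : X.Opens} (l n p : Γ(L, U)) :
    mu L m l n • p = mu L m n p • l := by
  choose V e hV hxV hVU he using fun x : U => exists_affine_isTriv hL x.1 x.2
  refine eq_of_res_cover_eq L V hVU ?_ _ _ ?_
  · intro x hx
    exact Opens.mem_iSup.mpr ⟨⟨x, hx⟩, hxV ⟨x, hx⟩⟩
  · intro x
    rw [res_smul, res_smul]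
    change (X.presheaf.map (homOfLE (hVU x)).op).hom (mu L m l n) • _ =
      (X.presheaf.map (homOfLE (hVU x)).op).hom (mu L m n p) • _
    rw [res_mu, res_mu]
    obtain ⟨a, ha⟩ := (he x).exists_eq_smul (res L (hVU x) l)
    obtain ⟨b, hb⟩ := (he x).exists_eq_smul (res L (hVU x) n)
    obtain ⟨c, hc⟩ := (he x).exists_eq_smul (res L (hVU x) p)
    rw [ha, hb, hc, mu_smul_left, mu_smul_right, mu_smul_left, mu_smul_right, smul_smul, smul_smul]
    congr 1
    ring

end Pairing

section Ring
variable {X : Scheme.{u}}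

/-- Sections of `O ⊕ L` over `U`, with the product defined by `m`. -/
@[nolint unusedArguments]
def DSec (L : X.Modules) (_hL : PicF.IsInvertible L)
    (_m : CohB1.tensorMod L L ⟶ Coh.structureModule X) (U : X.Opens) : Type u :=
  Γ(X, U) × Γ(L, U)

variable {L : X.Modules} {hL : PicF.IsInvertible L}
  {m : CohB1.tensorMod L L ⟶ Coh.structureModule X} {U : X.Opens}

noncomputable instance : AddCommGroup (DSec L hL m U) :=
  inferInstanceAs (AddCommGroup (Γ(X, U) × Γ(L, U)))

/-- Constructor. -/
noncomputable def DSec.mk (s : Γ(X, U)) (l : Γ(L, U)) : DSec L hL m U := (s, l)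
/-- First component. -/
noncomputable def DSec.fst (x : DSec L hL m U) : Γ(X, U) := Prod.fst x
/-- Second component. -/
noncomputable def DSec.snd (x : DSec L hL m U) : Γ(L, U) := Prod.snd x

theorem DSec.ext {x y : DSec L hL m U} (h1 : x.fst = y.fst) (h2 : x.snd = y.snd) : x = y :=
  Prod.ext h1 h2

@[simp] theorem DSec.fst_mk (s : Γ(X, U)) (l : Γ(L, U)) : (DSec.mk s l : DSec L hL m U).fst = s := rfl
@[simp] theorem DSec.snd_mk (s : Γ(X, U)) (l : Γ(L, U)) : (DSec.mk s l : DSec L hL m U).snd = l := rfl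
@[simp] theorem DSec.fst_add (x y : DSec L hL m U) : (x + y).fst = x.fst + y.fst := rfl
@[simp] theorem DSec.snd_add (x y : DSec L hL m U) : (x + y).snd = x.snd + y.snd := rfl
@[simp] theorem DSec.fst_zero : (0 : DSec L hL m U).fst = 0 := rfl
@[simp] theorem DSec.snd_zero : (0 : DSec L hL m U).snd = 0 := rfl

noncomputable instance : Mul (DSec L hL m U) :=
  ⟨fun x y => DSec.mk (x.fst * y.fst + mu L m x.snd y.snd) (x.fst • y.snd + y.fst • x.snd)⟩

noncomputable instance : One (DSec L hL m U) := ⟨DSec.mk 1 0⟩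

@[simp] theorem DSec.fst_mul (x y : DSec L hL m U) :
    (x * y).fst = x.fst * y.fst + mu L m x.snd y.snd := rfl
@[simp] theorem DSec.snd_mul (x y : DSec L hL m U) :
    (x * y).snd = x.fst • y.snd + y.fst • x.snd := rfl
@[simp] theorem DSec.fst_one : (1 : DSec L hL m U).fst = 1 := rfl
@[simp] theorem DSec.snd_one : (1 : DSec L hL m U).snd = 0 := rfl

noncomputable instance : CommRing (DSec L hL m U) :=
  { (inferInstance : AddCommGroup (DSec L hL m U)) with
    mul := (· * ·)
    one := 1
    left_distrib := fun x y z => by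
      refine DSec.ext ?_ ?_
      · simp only [DSec.fst_mul, DSec.fst_add, DSec.snd_add, mu_add_right]
        ring
      · simp only [DSec.snd_mul, DSec.fst_add, DSec.snd_add, smul_add, add_smul]
        abel
    right_distrib := fun x y z => by
      refine DSec.ext ?_ ?_
      · simp only [DSec.fst_mul, DSec.fst_add, DSec.snd_add, mu_add_left]
        ring
      · simp only [DSec.snd_mul, DSec.fst_add, DSec.snd_add, smul_add, add_smul]
        abel
    zero_mul := fun x => by
      refine DSec.ext ?_ ?_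
      · simp only [DSec.fst_mul, DSec.fst_zero, DSec.snd_zero, mu_zero_left, zero_mul, add_zero]
      · simp only [DSec.snd_mul, DSec.fst_zero, DSec.snd_zero, zero_smul, smul_zero, add_zero]
    mul_zero := fun x => by
      refine DSec.ext ?_ ?_
      · simp only [DSec.fst_mul, DSec.fst_zero, DSec.snd_zero, mu_zero_right, mul_zero, add_zero]
      · simp only [DSec.snd_mul, DSec.fst_zero, DSec.snd_zero, zero_smul, smul_zero, add_zero]
    mul_assoc := fun x y z => by
      refine DSec.ext ?_ ?_
      · simp only [DSec.fst_mul, DSec.snd_mul, mu_add_left, mu_add_right, mu_smul_left,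
          mu_smul_right]
        ring
      · simp only [DSec.fst_mul, DSec.snd_mul, smul_add, add_smul, smul_smul]
        rw [mu_smul_assoc m hL x.snd y.snd z.snd]
        simp only [mul_comm]
        abel
    one_mul := fun x => by
      refine DSec.ext ?_ ?_
      · simp only [DSec.fst_mul, DSec.fst_one, DSec.snd_one, mu_zero_left, one_mul, add_zero]
      · simp only [DSec.snd_mul, DSec.fst_one, DSec.snd_one, one_smul, smul_zero, add_zero]
    mul_one := fun x => by
      refine DSec.ext ?_ ?_
      · simp only [DSec.fst_mul, DSec.fst_one, DSec.snd_one, mu_zero_right, mul_one, add_zero]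
      · simp only [DSec.snd_mul, DSec.fst_one, DSec.snd_one, one_smul, smul_zero, zero_add]
    mul_comm := fun x y => by
      refine DSec.ext ?_ ?_
      · simp only [DSec.fst_mul]
        rw [mu_comm m hL x.snd y.snd, mul_comm]
      · simp only [DSec.snd_mul]
        rw [add_comm] }

/-- Restriction of sections, as a ring homomorphism. -/
noncomputable def resHom (hL : PicF.IsInvertible L)
    (m : CohB1.tensorMod L L ⟶ Coh.structureModule X) {U V : X.Opens} (h : V ≤ U) :
    DSec L hL m U →+* DSec L hL m V where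
  toFun x := DSec.mk ((X.presheaf.map (homOfLE h).op).hom x.fst) (res L h x.snd)
  map_one' := DSec.ext (map_one _) (map_zero _)
  map_zero' := DSec.ext (map_zero _) (map_zero _)
  map_add' x y := DSec.ext (map_add _ _ _) (map_add _ _ _)
  map_mul' x y := by
    refine DSec.ext ?_ ?_
    · simp only [DSec.fst_mk, DSec.fst_mul, DSec.snd_mk, map_add, map_mul, res_mu]
    · simp only [DSec.snd_mk, DSec.snd_mul, DSec.fst_mk, map_add, res_smul]

@[simp] theorem resHom_fst {U V : X.Opens} (h : V ≤ U) (x : DSec L hL m U) :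
    (resHom hL m h x).fst = (X.presheaf.map (homOfLE h).op).hom x.fst := rfl
@[simp] theorem resHom_snd {U V : X.Opens} (h : V ≤ U) (x : DSec L hL m U) :
    (resHom hL m h x).snd = res L h x.snd := rfl

/-- The structure map on sections. -/
noncomputable def strHom (hL : PicF.IsInvertible L)
    (m : CohB1.tensorMod L L ⟶ Coh.structureModule X) (U : X.Opens) :
    Γ(X, U) →+* DSec L hL m U where
  toFun s := DSec.mk s 0
  map_one' := rfl
  map_zero' := rfl
  map_add' s t := DSec.ext rfl (add_zero _).symm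
  map_mul' s t := by
    refine DSec.ext ?_ ?_
    · simp only [DSec.fst_mk, DSec.fst_mul, DSec.snd_mk, mu_zero_left, add_zero]
    · simp only [DSec.snd_mk, DSec.snd_mul, smul_zero, add_zero]

@[simp] theorem strHom_fst (s : Γ(X, U)) : (strHom hL m U s).fst = s := rfl
@[simp] theorem strHom_snd (s : Γ(X, U)) : (strHom hL m U s).snd = 0 := rfl

theorem strHom_mul (s : Γ(X, U)) (x : DSec L hL m U) :
    strHom hL m U s * x = DSec.mk (s * x.fst) (s • x.snd) := by
  refine DSec.ext ?_ ?_
  · simp only [DSec.fst_mul, strHom_fst, strHom_snd, mu_zero_left, add_zero, DSec.fst_mk]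
  · simp only [DSec.snd_mul, strHom_fst, strHom_snd, smul_zero, add_zero, DSec.snd_mk]

/-- The presheaf of rings `O ⊕ L`. -/
noncomputable def presheaf (hL : PicF.IsInvertible L)
    (m : CohB1.tensorMod L L ⟶ Coh.structureModule X) :
    TopCat.Presheaf CommRingCat.{u} X.carrier where
  obj T := CommRingCat.of (DSec L hL m T.unop)
  map {T T'} i := CommRingCat.ofHom (resHom hL m (leOfHom i.unop))
  map_id T := by
    ext x
    refine DSec.ext (hL := hL) (m := m) ?_ ?_
    · change (X.presheaf.map (𝟙 T)).hom x.fst = x.fst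
      rw [X.presheaf.map_id]
      rfl
    · exact res_self L x.snd
  map_comp {T₁ T₂ T₃} i j := by
    ext x
    refine DSec.ext (hL := hL) (m := m) ?_ ?_
    · change (X.presheaf.map (i ≫ j)).hom x.fst =
        (X.presheaf.map j).hom ((X.presheaf.map i).hom x.fst)
      rw [X.presheaf.map_comp]
      rfl
    · exact (res_res L (leOfHom i.unop) (leOfHom j.unop) x.snd).symm

/-- The structure map of `O ⊕ L`. -/
noncomputable def str (hL : PicF.IsInvertible L)
    (m : CohB1.tensorMod L L ⟶ Coh.structureModule X) : X.presheaf ⟶ presheaf hL m where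
  app T := CommRingCat.ofHom (strHom hL m T.unop)
  naturality T T' i := by
    ext r
    refine DSec.ext (hL := hL) (m := m) ?_ ?_
    · rfl
    · exact (map_zero (res L (leOfHom i.unop))).symm

theorem isSheaf (hL : PicF.IsInvertible L)
    (m : CohB1.tensorMod L L ⟶ Coh.structureModule X) : (presheaf hL m).IsSheaf := by
  rw [TopCat.Presheaf.isSheaf_iff_isSheafUniqueGluing]
  intro ι U sf hsf
  let sf' : ∀ i, DSec L hL m (U i) := sf
  have h1 : ∀ i j, res (unitM X) (inf_le_left : U i ⊓ U j ≤ U i) (toUnit (sf' i).fst) =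
      res (unitM X) (inf_le_right : U i ⊓ U j ≤ U j) (toUnit (sf' j).fst) :=
    fun i j => congrArg (DSec.fst (hL := hL) (m := m)) (hsf i j)
  have h2 : ∀ i j, res L (inf_le_left : U i ⊓ U j ≤ U i) (sf' i).snd =
      res L (inf_le_right : U i ⊓ U j ≤ U j) (sf' j).snd :=
    fun i j => congrArg (DSec.snd (hL := hL) (m := m)) (hsf i j)
  obtain ⟨a, ha⟩ := exists_gluing (unitM X) U (iSup U) (le_iSup U) le_rfl
    (fun i => toUnit (sf' i).fst) h1
  obtain ⟨l, hl⟩ := exists_gluing L U (iSup U) (le_iSup U) le_rfl (fun i => (sf' i).snd) h2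
  refine ⟨(DSec.mk (fromUnit a) l : DSec L hL m (iSup U)),
    fun i => DSec.ext (hL := hL) (m := m) (ha i) (hl i), fun t ht => ?_⟩
  let t' : DSec L hL m (iSup U) := t
  refine DSec.ext (hL := hL) (m := m) (x := t') ?_ ?_
  · exact eq_of_res_cover_eq (unitM X) U (le_iSup U) le_rfl (toUnit t'.fst) a
      (fun i => (congrArg (DSec.fst (hL := hL) (m := m)) (ht i)).trans (ha i).symm)
  · exact eq_of_res_cover_eq L U (le_iSup U) le_rfl t'.snd l
      (fun i => (congrArg (DSec.snd (hL := hL) (m := m)) (ht i)).trans (hl i).symm)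

theorem strHom_pow_mul (s : Γ(X, U)) (n : ℕ) (x : DSec L hL m U) :
    strHom hL m U s ^ n * x = DSec.mk (s ^ n * x.fst) (s ^ n • x.snd) := by
  rw [← map_pow, strHom_mul]

theorem resHom_strHom {U V : X.Opens} (h : V ≤ U) (r : Γ(X, U)) :
    resHom hL m h (strHom hL m U r) = strHom hL m V ((X.presheaf.map (homOfLE h).op).hom r) :=
  DSec.ext rfl (map_zero _)

theorem isQC (hL : PicF.IsInvertible L)
    (m : CohB1.tensorMod L L ⟶ Coh.structureModule X) :
    RelSpec.IsQC (presheaf hL m) (str hL m) := by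
  haveI : L.IsQuasicoherent := isQuasicoherent_of_isFinLocFree
    (isFinLocFree_of_isFinLocFreeOfRank ((isInvertible_iff_isFinLocFreeOfRank_one L).mp hL))
  intro U hU f
  letI alg : Algebra (DSec L hL m U) (DSec L hL m (X.basicOpen f)) :=
    (resHom hL m (X.basicOpen_le f)).toAlgebra
  change @IsLocalization (DSec L hL m U) _ (Submonoid.powers (strHom hL m U f))
    (DSec L hL m (X.basicOpen f)) _ alg
  have halg : ∀ x : DSec L hL m U,
      algebraMap (DSec L hL m U) (DSec L hL m (X.basicOpen f)) x =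
        resHom hL m (X.basicOpen_le f) x := fun x => rfl
  have hunit : IsUnit (algebraMap (DSec L hL m U) (DSec L hL m (X.basicOpen f))
      (strHom hL m U f)) := by
    rw [halg, resHom_strHom]
    exact (RingedSpace.isUnit_res_basicOpen X.toRingedSpace f).map _
  refine (isLocalization_iff _ _).mpr ⟨?_, ?_, ?_⟩
  · rintro ⟨_, n, rfl⟩
    rw [map_pow]
    exact hunit.pow n
  · intro z
    obtain ⟨n₁, a, ha⟩ := exists_pow_smul_eq_res (unitM X) hU f (toUnit z.fst)
    obtain ⟨n₂, k, hk⟩ := exists_pow_smul_eq_res L hU f z.snd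
    refine ⟨⟨DSec.mk (f ^ n₂ * fromUnit a) (f ^ n₁ • k), ⟨_, n₁ + n₂, rfl⟩⟩, ?_⟩
    change z * algebraMap (DSec L hL m U) (DSec L hL m (X.basicOpen f))
      (strHom hL m U f ^ (n₁ + n₂)) = algebraMap (DSec L hL m U) (DSec L hL m (X.basicOpen f))
        (DSec.mk (f ^ n₂ * fromUnit a) (f ^ n₁ • k))
    rw [halg, halg, map_pow, resHom_strHom, mul_comm, strHom_pow_mul]
    have ha' : (X.presheaf.map (homOfLE (X.basicOpen_le f)).op).hom f ^ n₁ * z.fst =
        (X.presheaf.map (homOfLE (X.basicOpen_le f)).op).hom (fromUnit a) := ha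
    refine DSec.ext ?_ ?_
    · simp only [DSec.fst_mk, resHom_fst, map_mul, map_pow]
      rw [← ha', pow_add]
      ring
    · simp only [DSec.snd_mk, resHom_snd, res_smul, map_pow]
      rw [← hk, smul_smul, pow_add]
  · intro x y hxy
    rw [halg, halg] at hxy
    have h1 : res (unitM X) (X.basicOpen_le f) (toUnit (x.fst - y.fst)) = 0 := by
      have := congrArg (DSec.fst (hL := hL) (m := m)) hxy
      simp only [resHom_fst] at this
      change (X.presheaf.map (homOfLE (X.basicOpen_le f)).op).hom (x.fst - y.fst) = 0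
      rw [map_sub, this, sub_self]
    have h2 : res L (X.basicOpen_le f) (x.snd - y.snd) = 0 := by
      have := congrArg (DSec.snd (hL := hL) (m := m)) hxy
      simp only [resHom_snd] at this
      rw [map_sub, this, sub_self]
    obtain ⟨n₁, hn₁⟩ := exists_pow_smul_eq_zero (unitM X) hU f _ h1
    obtain ⟨n₂, hn₂⟩ := exists_pow_smul_eq_zero L hU f _ h2
    refine ⟨⟨_, n₁ + n₂, rfl⟩, ?_⟩
    change strHom hL m U f ^ (n₁ + n₂) * x = strHom hL m U f ^ (n₁ + n₂) * y
    rw [strHom_pow_mul, strHom_pow_mul]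
    have hn₁' : f ^ n₁ * (x.fst - y.fst) = 0 := hn₁
    refine DSec.ext ?_ ?_
    · simp only [DSec.fst_mk]
      rw [← sub_eq_zero, ← mul_sub, pow_add, mul_comm (f ^ n₁), mul_assoc, hn₁', mul_zero]
    · simp only [DSec.snd_mk]
      rw [← sub_eq_zero, ← smul_sub, pow_add, mul_smul, hn₂, smul_zero]

/-- The quasi-coherent algebra `O ⊕ L`. -/
noncomputable def alg (hL : PicF.IsInvertible L)
    (m : CohB1.tensorMod L L ⟶ Coh.structureModule X) : RelSpec.QCAlg X where
  presheaf := presheaf hL m
  isSheaf := isSheaf hL m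
  str := str hL m
  isQC := isQC hL m

/-- The inclusion of `L`. -/
noncomputable def jHom (hL : PicF.IsInvertible L)
    (m : CohB1.tensorMod L L ⟶ Coh.structureModule X) : L ⟶ (alg hL m).toModule :=
  homOfApp (N := (alg hL m).toModule)
    (fun W => AddMonoidHom.mk' (fun l : Γ(L, W) => (DSec.mk 0 l : DSec L hL m W))
      (fun l l' => DSec.ext (hL := hL) (m := m) (add_zero _).symm rfl))
    (fun W r l => by
      change (DSec.mk 0 (r • l) : DSec L hL m W) = strHom hL m W r * (DSec.mk 0 l : DSec L hL m W)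
      rw [strHom_mul]
      exact DSec.ext (mul_zero _).symm rfl)
    (fun {W W'} h l => DSec.ext (hL := hL) (m := m) (map_zero _).symm rfl)

theorem isDblAlg (hL : PicF.IsInvertible L)
    (m : CohB1.tensorMod L L ⟶ Coh.structureModule X) :
    FinCov.IsDblAlg L m (alg hL m) (jHom hL m) := by
  refine ⟨fun U => ?_, fun U l l' => ?_⟩
  · have : (fun p : Γ(X, U) × L.val.obj (op U) =>
        ((alg hL m).str.app (op U)).hom p.1 +
          FinCov.toSec (alg hL m) (((jHom hL m).val.app (op U)).hom p.2)) =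
        fun p => (DSec.mk p.1 p.2 : DSec L hL m U) := by
      funext p
      change strHom hL m U p.1 + (DSec.mk 0 p.2 : DSec L hL m U) = _
      exact DSec.ext (hL := hL) (m := m) (add_zero _) (zero_add _)
    rw [this]
    exact Function.bijective_id
  · change (DSec.mk 0 l : DSec L hL m U) * (DSec.mk 0 l' : DSec L hL m U) =
      strHom hL m U (mu L m l l')
    refine DSec.ext ?_ ?_
    · simp only [DSec.fst_mul, DSec.fst_mk, DSec.snd_mk, mul_zero, zero_add, strHom_fst]
    · simp only [DSec.snd_mul, DSec.fst_mk, DSec.snd_mk, zero_smul, add_zero, strHom_snd]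

theorem exists_isDblAlg (hL : PicF.IsInvertible L)
    (m : CohB1.tensorMod L L ⟶ Coh.structureModule X) :
    ∃ (A : RelSpec.QCAlg X) (j : L ⟶ A.toModule), FinCov.IsDblAlg L m A j :=
  ⟨alg hL m, jHom hL m, isDblAlg hL m⟩

end Ring

end Dbl

end Groth.Agent.Lib.Helper29.QCoh
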