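import Groth.Agent.Lib.Helper29.FinCov8
import Groth.Agent.Lib.Helper3.QCAlgLift
universe u
open CategoryTheory CategoryTheory.Limits AlgebraicGeometry TopologicalSpace Opposite

namespace Groth.Agent.Lib.Helper29.QCoh

section
variable {X : Scheme.{u}} (A : RelSpec.QCAlg X)

open Groth.Agent.Lib.Helper26.FinLocFreeMor in
/-- Sections of `π_* O_{Spec A}` over an affine open are the sections of `A`. -/
noncomputable def pushSpecSectionsEquiv {V : X.Opens} (hV : IsAffineOpen V) :
    Γ((Scheme.Modules.pushforward A.π).obj (unitM A.spec), V) ≃ₗ[Γ(X, V)] Γ(A.toModule, V) :=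
  letI alg : Algebra Γ(X, V) Γ(A.spec, A.π ⁻¹ᵁ V) := (A.π.app V).hom.toAlgebra
  haveI := Groth.Agent.Lib.Helper3.isIso_gammaAff A V hV
  (sectionsEquiv A.π V) ≪≫ₗ
    { toFun := fun s => ofRing A ((A.gammaAff V hV).hom s)
      map_add' := fun s t => map_add (A.gammaAff V hV).hom s t
      map_smul' := fun r s => by
        change ofRing A ((A.gammaAff V hV).hom ((A.π.app V).hom r * s)) =
          ofRing A ((A.str.app (op V)).hom r * (A.gammaAff V hV).hom s)
        rw [map_mul]
        congr 2
        exact congr_arg (fun ψ => ψ.hom r) (A.π_app_gammaAff V hV)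
      invFun := fun a => (inv (A.gammaAff V hV)).hom (asRing A a)
      left_inv := fun s => by
        change (A.gammaAff V hV ≫ inv (A.gammaAff V hV)).hom s = s
        rw [IsIso.hom_inv_id]
        rfl
      right_inv := fun a => by
        change ofRing A ((inv (A.gammaAff V hV) ≫ A.gammaAff V hV).hom (asRing A a)) = a
        rw [IsIso.inv_hom_id]
        rfl }

theorem isCover_π {d : ℕ} (hA : FlatMod.IsFinLocFreeOfRank d A.toModule) :
    FinCov.IsCover A.π d := by
  rw [isCover_iff]
  refine ⟨inferInstance, ?_⟩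
  haveI := isQuasicoherent_pushforward_of_isAffineHom A.π (unitM A.spec)
  rw [isFinLocFreeOfRank_iff_exists_affine]
  intro x
  obtain ⟨V, hV, hxV, ⟨e⟩⟩ := exists_affine_linearEquiv_of_isFinLocFreeOfRank hA x
  exact ⟨V, hV, hxV, ⟨pushSpecSectionsEquiv A hV ≪≫ₗ e⟩⟩

end

end Groth.Agent.Lib.Helper29.QCoh
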