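import Groth.Agent.Lib.Helper29.MeroExt
set_option autoImplicit false
universe u
open CategoryTheory CategoryTheory.Limits AlgebraicGeometry TopologicalSpace Opposite

namespace Groth.Agent.Lib.Helper29.QCoh.MeroK
open Groth.Agent.Lib.Helper26

variable {X : Scheme.{u}}

/-- Gluing functions over pairwise disjoint opens. -/
theorem exists_glue_disjoint {I : Type*} (V : I → X.Opens)
    (hdisj : ∀ (i j : I) (p : X), p ∈ V i → p ∈ V j → i = j) (U : X.Opens)
    (hU : U ≤ ⨆ i, V i) (h : ∀ i, Γ(X, U ⊓ V i)) :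
    ∃ g : Γ(X, U), ∀ i, X.presheaf.map (homOfLE (inf_le_left : U ⊓ V i ≤ U)).op g = h i := by
  have hcompat : TopCat.Presheaf.IsCompatible X.sheaf.1 (fun i => U ⊓ V i) h := by
    intro i j
    apply TopCat.Presheaf.section_ext X.sheaf
    intro p hp
    have hpi : p ∈ U ⊓ V i := hp.1
    have hpj : p ∈ U ⊓ V j := hp.2
    obtain rfl := hdisj i j p hpi.2 hpj.2
    exact (X.presheaf.germ_res_apply (Opens.infLELeft _ _) p hp (h i)).trans
      (X.presheaf.germ_res_apply (Opens.infLERight _ _) p hp (h i)).symm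
  obtain ⟨g, hg, -⟩ := X.sheaf.existsUnique_gluing' (fun i => U ⊓ V i) U
    (fun i => homOfLE inf_le_left) (fun y hy => by
      obtain ⟨i, hi⟩ := Opens.mem_iSup.mp (hU hy)
      exact Opens.mem_iSup.mpr ⟨i, hy, hi⟩) h hcompat
  exact ⟨g, hg⟩

/-- An open containing all weakly associated points of `O_X` is schematically dense. -/
theorem injective_res_of_weakAss_subset (V : X.Opens)
    (hS : ∀ z : X, Curv2.IsWeakAssPoint (unitM X) z → z ∈ V) (W : X.Opens) :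
    Function.Injective ⇑(X.presheaf.map (homOfLE (inf_le_left : W ⊓ V ≤ W)).op) := by
  rw [injective_iff_map_eq_zero]
  intro r hr
  exact eq_zero_of_res_eq_zero_of_weakAss_subset (unitM X) (inf_le_left : W ⊓ V ≤ W)
    (fun x hxW hx => ⟨hxW, hS x hx⟩) (toUnit r) hr

/-- Existence of a regular function on an affine `W` invertible only inside `V`, when `V` contains
the finitely many weakly associated points of `W`. -/
theorem exists_regular_basicOpen_le_of_finite {W V : X.Opens} (hW : IsAffineOpen W)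
    (hfin : {z : X | z ∈ W ∧ Curv2.IsWeakAssPoint (unitM X) z}.Finite)
    (hS : ∀ z : X, z ∈ W → Curv2.IsWeakAssPoint (unitM X) z → z ∈ V) :
    ∃ b ∈ Mero.regSub X W, X.basicOpen b ≤ V := by
  obtain ⟨b, hbI, hbn⟩ := exists_nonZeroDivisor_of_not_le hW hfin (idealIn W V) (by
    intro z hz hzass hle
    obtain ⟨a, haV, hza⟩ := hW.exists_basicOpen_le (V := W ⊓ V) ⟨z, hz, hS z hz hzass⟩ hz
    have hza' : z ∈ X.basicOpen a := hza
    have ha : a ∈ idealIn W V := (mem_idealIn a).mpr (haV.trans inf_le_right)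
    exact (mem_basicOpen_iff_notMem_primeIdealOf hW z hz a).mp hza' (hle ha))
  exact ⟨b, mem_regSub_of_mem_nonZeroDivisors hW b hbn, hbI⟩

end Groth.Agent.Lib.Helper29.QCoh.MeroK

namespace Groth.Agent.Lib.Helper29.QCoh.MeroK
open Groth.Agent.Lib.Helper26

variable {X : Scheme.{u}}

section Core
variable {L : X.Modules} {I : Type*} (V : I → X.Opens) (ε : ∀ i, Γ(L, V i))

/-- `q` is a denominator function for `(W,e)`: on each `W ⊓ V i`, `ε i = q • e`. -/
def IsDen (W : X.Opens) (e : Γ(L, W)) (q : Γ(Mero.kmod X, W)) : Prop :=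
  ∀ (i : I) (h : Γ(X, W ⊓ V i)),
    res L (inf_le_right : W ⊓ V i ≤ V i) (ε i) = h • res L (inf_le_left : W ⊓ V i ≤ W) e →
    resK (inf_le_left : W ⊓ V i ≤ W) q = Mero.toK X (W ⊓ V i) h

variable (hε : ∀ i, IsTriv L (V i) (ε i))
  (hdisj : ∀ (i j : I) (p : X), p ∈ V i → p ∈ V j → i = j)
  (hS : ∀ z : X, Curv2.IsWeakAssPoint (unitM X) z → ∃ i, z ∈ V i)

include hε hdisj hS in
theorem exists_isDen {W : X.Opens} (hW : IsAffineOpen W) (e : Γ(L, W)) (he : IsTriv L W e)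
    (hfin : {z : X | z ∈ W ∧ Curv2.IsWeakAssPoint (unitM X) z}.Finite) :
    ∃ q : (Γ(Mero.kmod X, W))ˣ, IsDen V ε W e (q : Γ(Mero.kmod X, W)) := by
  have hh : ∀ i, ∃ h : Γ(X, W ⊓ V i),
      h • res L (inf_le_left : W ⊓ V i ≤ W) e = res L (inf_le_right : W ⊓ V i ≤ V i) (ε i) :=
    fun i => (he (W ⊓ V i) inf_le_left).2 _
  have hh' : ∀ i, ∃ h' : Γ(X, W ⊓ V i),
      h' • res L (inf_le_right : W ⊓ V i ≤ V i) (ε i) = res L (inf_le_left : W ⊓ V i ≤ W) e :=
    fun i => (hε i (W ⊓ V i) inf_le_right).2 _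
  choose h hh using hh
  choose h' hh' using hh'
  have hmul : ∀ i, h' i * h i = 1 := by
    intro i
    apply (he (W ⊓ V i) inf_le_left).1
    change (h' i * h i) • res L inf_le_left e = (1 : Γ(X, W ⊓ V i)) • res L inf_le_left e
    rw [mul_smul, hh i, hh' i, one_smul]
  set Vtot : X.Opens := ⨆ i, V i with hVtot
  have hSV : ∀ z : X, Curv2.IsWeakAssPoint (unitM X) z → z ∈ Vtot := fun z hz => by
    obtain ⟨i, hi⟩ := hS z hz
    exact Opens.mem_iSup.mpr ⟨i, hi⟩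
  have hle : ∀ i, (W ⊓ Vtot) ⊓ V i ≤ W ⊓ V i := fun i p hp => ⟨hp.1.1, hp.2⟩
  obtain ⟨g, hg⟩ := exists_glue_disjoint V hdisj (W ⊓ Vtot) inf_le_right
    (fun i => X.presheaf.map (homOfLE (hle i)).op (h i))
  obtain ⟨g', hg'⟩ := exists_glue_disjoint V hdisj (W ⊓ Vtot) inf_le_right
    (fun i => X.presheaf.map (homOfLE (hle i)).op (h' i))
  -- germs of the glued functions
  have hgerm : ∀ (i : I) (p : X) (hpW : p ∈ W) (hpi : p ∈ V i),
      X.presheaf.germ (W ⊓ Vtot) p ⟨hpW, Opens.mem_iSup.mpr ⟨i, hpi⟩⟩ g =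
        X.presheaf.germ (W ⊓ V i) p ⟨hpW, hpi⟩ (h i) := by
    intro i p hpW hpi
    have hp3 : p ∈ (W ⊓ Vtot) ⊓ V i := ⟨⟨hpW, Opens.mem_iSup.mpr ⟨i, hpi⟩⟩, hpi⟩
    have h1 := congrArg (X.presheaf.germ ((W ⊓ Vtot) ⊓ V i) p hp3) (hg i)
    rw [X.presheaf.germ_res_apply, X.presheaf.germ_res_apply] at h1
    exact h1
  have hgerm' : ∀ (i : I) (p : X) (hpW : p ∈ W) (hpi : p ∈ V i),
      X.presheaf.germ (W ⊓ Vtot) p ⟨hpW, Opens.mem_iSup.mpr ⟨i, hpi⟩⟩ g' =
        X.presheaf.germ (W ⊓ V i) p ⟨hpW, hpi⟩ (h' i) := by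
    intro i p hpW hpi
    have hp3 : p ∈ (W ⊓ Vtot) ⊓ V i := ⟨⟨hpW, Opens.mem_iSup.mpr ⟨i, hpi⟩⟩, hpi⟩
    have h1 := congrArg (X.presheaf.germ ((W ⊓ Vtot) ⊓ V i) p hp3) (hg' i)
    rw [X.presheaf.germ_res_apply, X.presheaf.germ_res_apply] at h1
    exact h1
  have hgg' : g' * g = 1 := by
    apply TopCat.Presheaf.section_ext X.sheaf
    intro p hp
    obtain ⟨i, hpi⟩ := Opens.mem_iSup.mp hp.2
    have e1 := hgerm i p hp.1 hpi
    have e2 := hgerm' i p hp.1 hpi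
    have e3 := congrArg (X.presheaf.germ (W ⊓ V i) p ⟨hp.1, hpi⟩) (hmul i)
    rw [map_mul, map_one] at e3
    refine (map_mul (X.presheaf.germ (W ⊓ Vtot) p hp).hom g' g).trans ?_
    refine Eq.trans ?_ (map_one (X.presheaf.germ (W ⊓ Vtot) p hp).hom).symm
    exact (congrArg₂ (· * ·) e2 e1).trans e3
  obtain ⟨b, hb, hbV⟩ := exists_regular_basicOpen_le_of_finite (V := Vtot) hW hfin
    (fun z _ hz => hSV z hz)
  obtain ⟨q₀, hq₀⟩ := exists_local_extension hW b hb hbV g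
  obtain ⟨q₀', hq₀'⟩ := exists_local_extension hW b hb hbV g'
  have hdense : ∀ W' : X.Opens, W' ≤ W → Function.Injective
      ⇑(X.presheaf.map (homOfLE (inf_le_left : W' ⊓ (W ⊓ Vtot) ≤ W')).op) := by
    intro W' hW'
    have h1 := injective_res_of_weakAss_subset Vtot hSV W'
    have hle2 : W' ⊓ Vtot ≤ W' ⊓ (W ⊓ Vtot) := fun p hp => ⟨hp.1, hW' hp.1, hp.2⟩
    intro r r' hrr
    apply h1
    have := congrArg (X.presheaf.map (homOfLE hle2).op) hrr
    simp only [← CommRingCat.comp_apply, ← Functor.map_comp] at this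
    exact this
  have hunit : q₀' * q₀ = 1 := by
    apply resK_injective_of_dense (inf_le_left : W ⊓ Vtot ≤ W) hdense
    rw [map_mul, hq₀, hq₀', ← map_mul, hgg', map_one, map_one]
  refine ⟨⟨q₀, q₀', by rw [mul_comm]; exact hunit, hunit⟩, ?_⟩
  intro i h₁ hh₁
  have hh₁' : h₁ = h i := by
    apply (he (W ⊓ V i) inf_le_left).1
    change h₁ • res L inf_le_left e = h i • res L inf_le_left e
    rw [← hh₁, hh i]
  subst hh₁'
  apply kmod_ext
  intro y
  rw [resK_apply, Mero.toK_apply]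
  have hyV : y.1 ∈ Vtot := Opens.mem_iSup.mpr ⟨i, y.2.2⟩
  have h1 := congrArg (fun t : Γ(Mero.kmod X, W ⊓ Vtot) => t.1 ⟨y.1, y.2.1, hyV⟩) hq₀
  simp only [resK_apply, Mero.toK_apply] at h1
  refine h1.trans (Mero.mk_congr ?_ rfl)
  exact hgerm i y.1 y.2.1 y.2.2

end Core

end Groth.Agent.Lib.Helper29.QCoh.MeroK
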