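import Groth.Agent.Lib.Helper29.Epi1
import Groth.Agent.Lib.Helper10.KPts2
import Groth.Agent.Lib.Helper14.ReducedEtale

/-! Global functions on a reduced scheme locally of finite type over an algebraically closed field
are determined by their values at rational points (helper29, for S11188). -/

set_option autoImplicit false
universe u
open CategoryTheory MonoidalCategory CartesianMonoidalCategory MonObj AlgebraicGeometry
open TensorProduct VecGrp

namespace Groth.Agent.Lib.Helper29.ObsK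

open Groth.Agent.Lib.Helper10.KPts

variable {k : Type u} [Field k] [IsAlgClosed k]

theorem sec_ext_kpts (P : Over (Spec (CommRingCat.of k))) [LocallyOfFiniteType P.hom]
    [AlgebraicGeometry.IsReduced P.left] (s t : Γ(P.left, ⊤))
    (h : ∀ g : VecGrp.pt k k ⟶ P, g.left.appTop.hom s = g.left.appTop.hom t) : s = t := by
  rw [← sub_eq_zero, ← AlgebraicGeometry.basicOpen_eq_bot_iff]
  by_contra hne
  have hne' : ((P.left.basicOpen (s - t) : Set P.left)).Nonempty := by
    rw [Set.nonempty_iff_ne_empty]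
    intro h0
    apply hne
    ext x
    simp [h0]
  obtain ⟨y, hy⟩ := exists_kpoint_mem_of_isOpen (k := k) (K := k) _
    (P.left.basicOpen (s - t)).isOpen hne'
  have h1 : y.left.appTop.hom s = y.left.appTop.hom t := h y
  have h2 : Groth.Agent.Lib.Helper10.KPts.pt k ∈ (y.left ⁻¹ᵁ P.left.basicOpen (s - t)) := hy
  rw [Scheme.preimage_basicOpen_top] at h2
  have h3 : y.left.appTop (s - t) = 0 := by
    change y.left.appTop.hom (s - t) = 0
    rw [map_sub, h1, sub_self]
  rw [h3, Scheme.basicOpen_zero] at h2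
  exact h2

open Groth.Agent.Lib.Helper29.AffAttr Groth.Agent.Lib.Helper29.GModCoef
  Groth.Agent.Lib.Helper29.Epi

attribute [local instance] Groth.Agent.Lib.Helper29.AffAttr.algΓ

section Stab

variable {G H : Over (Spec (CommRingCat.of k))} [GrpObj G] [GrpObj H] (i : H ⟶ G)
  [LocallyOfFiniteType H.hom] [AlgebraicGeometry.IsReduced H.left]
  {E : Type u} [AddCommGroup E] [Module k E] (ρ : VecGrp.GMod G E)

/-- a vector fixed by the rational points of a reduced group is fixed scheme-theoretically. -/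
theorem mem_fixedUnder_of_kpts (v : E)
    (hv : ∀ h : VecGrp.pt k k ⟶ H, ρ.ρ k (h ≫ i) ((1 : k) ⊗ₜ[k] v) = (1 : k) ⊗ₜ[k] v) :
    v ∈ ρ.fixedUnder i := by
  intro B _ _ h
  apply evl_separates
  intro l
  have hinv : (Scheme.ΓSpecIso (CommRingCat.of k)).hom.hom
      ((Scheme.ΓSpecIso (CommRingCat.of k)).inv.hom (l v)) = l v := by
    change ((Scheme.ΓSpecIso (CommRingCat.of k)).inv ≫ (Scheme.ΓSpecIso (CommRingCat.of k)).hom).hom
      (l v) = l v
    rw [Iso.inv_hom_id]
    rfl
  have hconst : appAlg i (coefFn ρ l v) =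
      algebraMap Γ(Spec (CommRingCat.of k), ⊤) Γ(H.left, ⊤)
        ((Scheme.ΓSpecIso (CommRingCat.of k)).inv.hom (l v)) := by
    apply sec_ext_kpts
    intro h'
    apply ΓSpecIso_hom_injective
    change evB h' (appAlg i (coefFn ρ l v)) = evB h' (algebraMap _ _ _)
    rw [← evB_comp, evB_const]
    change (Scheme.ΓSpecIso (CommRingCat.of k)).hom.hom ((h' ≫ i).left.appTop.hom (coefFn ρ l v)) = _
    rw [coefFn_spec, hv h', evl_tmul, hinv]
    rw [Algebra.smul_def, _root_.mul_one]
  have h2 := coefFn_spec ρ l v B (h ≫ i)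
  rw [← h2]
  change evB (h ≫ i) (coefFn ρ l v) = _
  rw [evB_comp, hconst, evB_const, evl_tmul, hinv, Algebra.smul_def, _root_.mul_one]

theorem separates_of_stab [Module.Finite k E] (v : E) (hst : AGF.IsStabOnPts k i ρ v) :
    ∃ s : Finset Γ(G.left, ⊤), (∀ f ∈ s, AGF.IsRTransInv i f) ∧
        ∀ g g' : VecGrp.pt k k ⟶ G, (∀ f ∈ s, g.left.appTop f = g'.left.appTop f) →
          ∃ h : VecGrp.pt k k ⟶ H, g' = g * (h ≫ i) := by
  classical
  have hfix : v ∈ ρ.fixedUnder i := mem_fixedUnder_of_kpts i ρ v (fun h => (hst _).2 ⟨h, rfl⟩)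
  let b := Module.Free.chooseBasis k E
  refine ⟨Finset.univ.image (fun p => coefFn ρ (b.coord p) v), ?_, ?_⟩
  · intro f hf
    obtain ⟨p, -, rfl⟩ := Finset.mem_image.1 hf
    exact isRTransInv_coefFn ρ i _ v hfix
  · intro g g' hgg
    have h1 : ρ.ρ k g ((1 : k) ⊗ₜ[k] v) = ρ.ρ k g' ((1 : k) ⊗ₜ[k] v) := by
      apply (b.baseChange k).repr.injective
      ext p
      rw [← evl_coord, ← evl_coord, ← coefFn_spec, ← coefFn_spec]
      congr 1
      exact hgg _ (Finset.mem_image.2 ⟨p, Finset.mem_univ _, rfl⟩)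
    have h2 : ρ.ρ k (g⁻¹ * g') ((1 : k) ⊗ₜ[k] v) = (1 : k) ⊗ₜ[k] v := by
      rw [map_mul, LinearEquiv.mul_apply, ← h1, ← LinearEquiv.mul_apply, ← map_mul,
        inv_mul_cancel, map_one]
      rfl
    obtain ⟨h, hh⟩ := (hst _).1 h2
    exact ⟨h, by rw [hh, mul_inv_cancel_left]⟩

end Stab

end Groth.Agent.Lib.Helper29.ObsK
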