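import Groth.Agent.Lib.Helper29.ObsV
import Groth.Agent.Lib.Helper29.ObsK
import Groth.Agent.Lib.Helper29.MeroCore1

/-! Extension by zero of functions from an open and closed subgroup (helper29, for S11193). -/

set_option autoImplicit false
universe u
open CategoryTheory MonoidalCategory CartesianMonoidalCategory MonObj AlgebraicGeometry Opposite
open TensorProduct TopologicalSpace

namespace Groth.Agent.Lib.Helper29.FinIdx

open Groth.Agent.Lib.Helper29.AffAttr Groth.Agent.Lib.Helper29.RTrans

variable {k : Type u} [Field k]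

attribute [local instance] Groth.Agent.Lib.Helper29.AffAttr.algΓ

section Ext

variable {G H : Over (Spec (CommRingCat.of k))} (i : H ⟶ G) [IsOpenImmersion i.left]
  [IsClosedImmersion i.left]

/-- a rational point whose image lies in the image of an open immersion factors through it. -/
theorem exists_lift_of_mem (x : VecGrp.pt k k ⟶ G)
    (hx : ∀ y : (VecGrp.pt k k).left, x.left y ∈ Set.range i.left) :
    ∃ x' : VecGrp.pt k k ⟶ H, x' ≫ i = x := by
  have hr : Set.range x.left ⊆ Set.range i.left := by
    rintro _ ⟨y, rfl⟩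
    exact hx y
  refine ⟨Over.homMk (IsOpenImmersion.lift i.left x.left hr) ?_, ?_⟩
  · have e1 : H.hom = i.left ≫ G.hom := (Over.w i).symm
    rw [e1, ← Category.assoc, IsOpenImmersion.lift_fac]
    exact Over.w x
  · apply Over.OverMorphism.ext
    exact IsOpenImmersion.lift_fac i.left x.left hr

/-- **extension by zero** along an open and closed immersion. -/
theorem exists_extZ (f : Γ(H.left, ⊤)) :
    ∃ F : Γ(G.left, ⊤), appAlg i F = f ∧
      ∀ x : VecGrp.pt k k ⟶ G, (¬ ∃ x' : VecGrp.pt k k ⟶ H, x' ≫ i = x) → appAlg x F = 0 := by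
  let U : G.left.Opens := i.left ''ᵁ ⊤
  have hUr : (U : Set G.left) = Set.range i.left := by
    change i.left '' (Set.univ) = _
    exact Set.image_univ
  let C : G.left.Opens := ⟨(Set.range i.left)ᶜ, i.left.isClosedEmbedding.isClosed_range.isOpen_compl⟩
  let V : Bool → G.left.Opens := fun b => if b then U else C
  have hdisj : ∀ (a b : Bool) (p : G.left), p ∈ V a → p ∈ V b → a = b := by
    intro a b p ha hb
    cases a <;> cases b
    · rfl
    · exact absurd (hUr ▸ hb : p ∈ Set.range i.left) ha
    · exact absurd (hUr ▸ ha : p ∈ Set.range i.left) hb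
    · rfl
  have hcov : (⊤ : G.left.Opens) ≤ ⨆ b, V b := by
    intro p _
    by_cases hp : p ∈ Set.range i.left
    · exact Opens.mem_iSup.mpr ⟨true, (hUr ▸ hp : p ∈ (U : Set G.left))⟩
    · exact Opens.mem_iSup.mpr ⟨false, hp⟩
  let fU : Γ(G.left, U) := (i.left.appIso ⊤).inv.hom f
  obtain ⟨F, hF⟩ := Groth.Agent.Lib.Helper29.QCoh.MeroK.exists_glue_disjoint V hdisj ⊤ hcov
    (fun b => match b with
      | true => G.left.presheaf.map (homOfLE (inf_le_right : (⊤ : G.left.Opens) ⊓ U ≤ U)).op fU
      | false => 0)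
  refine ⟨F, ?_, ?_⟩
  · have h1 := hF true
    have h2 : G.left.presheaf.map (homOfLE (le_top : U ≤ ⊤)).op F = fU := by
      have h3 := congrArg (G.left.presheaf.map (homOfLE (le_inf le_top le_rfl :
        U ≤ (⊤ : G.left.Opens) ⊓ U)).op) h1
      change (G.left.presheaf.map _ ≫ G.left.presheaf.map _).hom F =
        (G.left.presheaf.map _ ≫ G.left.presheaf.map _).hom fU at h3
      rw [← Functor.map_comp, ← Functor.map_comp] at h3
      have e : (homOfLE (inf_le_right : (⊤ : G.left.Opens) ⊓ U ≤ U)).op ≫
          (homOfLE (le_inf le_top le_rfl : U ≤ (⊤ : G.left.Opens) ⊓ U)).op = 𝟙 _ := rfl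
      rw [e, CategoryTheory.Functor.map_id] at h3
      exact h3
    change i.left.appTop.hom F = f
    have h4 : i.left.appTop = G.left.presheaf.map (homOfLE (le_top : U ≤ ⊤)).op ≫
        (i.left.appIso ⊤).hom := by
      rw [Scheme.Hom.appIso_hom', Scheme.Hom.map_appLE]
      exact Scheme.Hom.app_eq_appLE _
    rw [h4]
    change (i.left.appIso ⊤).hom.hom (G.left.presheaf.map (homOfLE (le_top : U ≤ ⊤)).op F) = f
    rw [h2]
    change ((i.left.appIso ⊤).inv ≫ (i.left.appIso ⊤).hom).hom f = f
    rw [Iso.inv_hom_id]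
    rfl
  · intro x hx
    have hxC : ∀ y : (VecGrp.pt k k).left, x.left y ∈ C := by
      intro y hy
      apply hx
      apply exists_lift_of_mem i x
      intro y'
      have : y' = y := Subsingleton.elim (α := PrimeSpectrum k) y' y
      rw [this]
      exact hy
    have h1 := hF false
    have h2 : G.left.presheaf.map (homOfLE (le_top : C ≤ ⊤)).op F = 0 := by
      have h3 := congrArg (G.left.presheaf.map (homOfLE (le_inf le_top le_rfl :
        C ≤ (⊤ : G.left.Opens) ⊓ C)).op) h1
      change (G.left.presheaf.map _ ≫ G.left.presheaf.map _).hom F = _ at h3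
      rw [← Functor.map_comp, map_zero] at h3
      exact h3
    change x.left.appTop.hom F = 0
    have e : (⊤ : (VecGrp.pt k k).left.Opens) ≤ x.left ⁻¹ᵁ C := fun y _ => hxC y
    have h4 : x.left.appTop = G.left.presheaf.map (homOfLE (le_top : C ≤ ⊤)).op ≫
        x.left.appLE C ⊤ e := by
      rw [Scheme.Hom.map_appLE]
      exact Scheme.Hom.app_eq_appLE _
    rw [h4]
    change (x.left.appLE C ⊤ e).hom (G.left.presheaf.map (homOfLE (le_top : C ≤ ⊤)).op F) = 0
    rw [h2, map_zero]

end Ext

end Groth.Agent.Lib.Helper29.FinIdx
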