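import Groth.Agent.Lib.Helper29.LinRep2
import Groth.Prelude.Def_W4bk4grossh111Obs

/-! Right translation invariance by rational points, in coordinates (helper29, for S11199). -/

set_option autoImplicit false
universe u
open CategoryTheory MonoidalCategory CartesianMonoidalCategory MonObj AlgebraicGeometry Opposite
open TensorProduct

namespace Groth.Agent.Lib.Helper29.RTrans

open Groth.Agent.Lib.Helper29.AffAttr Groth.Agent.Lib.Helper29.Kun Groth.Agent.Lib.Helper29.LinRep

variable {k : Type u} [Field k]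

attribute [local instance] Groth.Agent.Lib.Helper29.AffAttr.algΓ

section Pt

variable (G : Over (Spec (CommRingCat.of k)))

/-- the structure map to the rational point object. -/
noncomputable def tG : G ⟶ VecGrp.pt k k :=
  Over.homMk G.hom (by
    change G.hom ≫ Spec.map (CommRingCat.ofHom (algebraMap k k)) = G.hom
    have : CommRingCat.ofHom (algebraMap k k) = 𝟙 (CommRingCat.of k) := rfl
    rw [this, Spec.map_id, Category.comp_id])

variable {G}

theorem pt_ext {T : Over (Spec (CommRingCat.of k))} (a b : T ⟶ VecGrp.pt k k) : a = b := by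
  apply Over.OverMorphism.ext
  have ha := Over.w a
  have hb := Over.w b
  change a.left ≫ Spec.map (CommRingCat.ofHom (algebraMap k k)) = T.hom at ha
  change b.left ≫ Spec.map (CommRingCat.ofHom (algebraMap k k)) = T.hom at hb
  have : CommRingCat.ofHom (algebraMap k k) = 𝟙 (CommRingCat.of k) := rfl
  rw [this, Spec.map_id] at ha hb
  exact ((Category.comp_id _).symm.trans ha).trans ((Category.comp_id _).symm.trans hb).symm

theorem appAlg_tG (r : Γ(Spec (CommRingCat.of k), ⊤)) :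
    appAlg (tG G) r = algebraMap Γ(Spec (CommRingCat.of k), ⊤) Γ(G.left, ⊤) r := rfl

end Pt

section Trans

variable {G : Over (Spec (CommRingCat.of k))} [GrpObj G]

/-- right translation by a rational point. -/
noncomputable def rg (g : VecGrp.pt k k ⟶ G) : G ⟶ G := (𝟙 G) * (tG G ≫ g)

theorem rg_one : rg (1 : VecGrp.pt k k ⟶ G) = 𝟙 G := by
  rw [rg, MonObj.comp_one, _root_.mul_one]

theorem isRTransInv_iff (g : VecGrp.pt k k ⟶ G) (f : Γ(G.left, ⊤)) :
    AGF.IsRTransInv g f ↔ appAlg (rg g) f = f := by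
  let s : G ⟶ G ⊗ VecGrp.pt k k := lift (𝟙 G) (tG G)
  have hs1 : s ≫ (G ◁ g) ≫ μ[G] = rg g := by
    rw [rg, Hom.mul_def, ← Category.assoc]
    congr 1
    apply CartesianMonoidalCategory.hom_ext
    · rw [Category.assoc, whiskerLeft_fst, lift_fst, lift_fst]
    · rw [Category.assoc, whiskerLeft_snd, lift_snd, lift_snd_assoc]
  have hs2 : s ≫ CartesianMonoidalCategory.fst G (VecGrp.pt k k) = 𝟙 G := lift_fst _ _
  have hs3 : CartesianMonoidalCategory.fst G (VecGrp.pt k k) ≫ s = 𝟙 _ := by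
    apply CartesianMonoidalCategory.hom_ext
    · rw [Category.assoc, hs2, Category.comp_id, Category.id_comp]
    · exact pt_ext _ _
  constructor
  · intro h
    have h2 := congrArg (appAlg s) h
    change appAlg s (appAlg ((G ◁ g) ≫ μ[G]) f) =
      appAlg s (appAlg (CartesianMonoidalCategory.fst G (VecGrp.pt k k)) f) at h2
    rw [← appAlg_comp, ← appAlg_comp, hs1, hs2] at h2
    exact h2
  · intro h
    change appAlg ((G ◁ g) ≫ μ[G]) f = appAlg (CartesianMonoidalCategory.fst G (VecGrp.pt k k)) f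
    have h3 : (G ◁ g) ≫ μ[G] = CartesianMonoidalCategory.fst G (VecGrp.pt k k) ≫ rg g := by
      rw [← hs1, ← Category.assoc, hs3, Category.id_comp]
    rw [h3, appAlg_comp, h]

/-- evaluation of a function at a rational point. -/
noncomputable def ev (g : VecGrp.pt k k ⟶ G) :
    Γ(G.left, ⊤) →+* Γ(Spec (CommRingCat.of k), ⊤) := (appAlg g).toRingHom

theorem pt_hom : (VecGrp.pt k k).hom = 𝟙 (Spec (CommRingCat.of k)) := by
  change Spec.map (CommRingCat.ofHom (algebraMap k k)) = _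
  have : CommRingCat.ofHom (algebraMap k k) = 𝟙 (CommRingCat.of k) := rfl
  rw [this, Spec.map_id]

theorem ev_algebraMap (g : VecGrp.pt k k ⟶ G) (r : Γ(Spec (CommRingCat.of k), ⊤)) :
    ev g (algebraMap Γ(Spec (CommRingCat.of k), ⊤) Γ(G.left, ⊤) r) = r := by
  have h := (appAlg g).commutes r
  change ev g _ = (VecGrp.pt k k).hom.appTop.hom r at h
  rw [h, pt_hom]
  simp

theorem ev_smul (g : VecGrp.pt k k ⟶ G) (r : Γ(Spec (CommRingCat.of k), ⊤)) (ψ : Γ(G.left, ⊤)) :
    ev g (r • ψ) = r * ev g ψ := by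
  rw [Algebra.smul_def, map_mul, ev_algebraMap]

theorem appAlg_tG_comp (g : VecGrp.pt k k ⟶ G) (ψ : Γ(G.left, ⊤)) :
    appAlg (tG G ≫ g) ψ = algebraMap Γ(Spec (CommRingCat.of k), ⊤) Γ(G.left, ⊤) (ev g ψ) := by
  rw [appAlg_comp]
  rfl

end Trans

section Expand

variable (G : Over (Spec (CommRingCat.of k))) [GrpObj G] [CompactSpace G.left]
  [QuasiSeparatedSpace G.left]

set_option maxHeartbeats 1000000 in
/-- right invariance under a rational point is cut out by finitely many evaluation conditions. -/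
theorem exists_conditions (f : Γ(G.left, ⊤)) :
    ∃ Ψ : Finset Γ(G.left, ⊤), ∀ g : VecGrp.pt k k ⟶ G,
      AGF.IsRTransInv g f ↔ ∀ ψ ∈ Ψ, ev g ψ = ev (1 : VecGrp.pt k k ⟶ G) ψ := by
  classical
  obtain ⟨Λ, ⟨e⟩⟩ := AffAttrAlg.exists_basis_of_isField (isField_Γ_Spec k) Γ(G.left, ⊤)
  let F : Finset Λ := (co G e f).support
  let a : F → Γ(G.left, ⊤) := fun l => co G e f l
  -- expansion of translates
  have hexp : ∀ g : VecGrp.pt k k ⟶ G, appAlg (rg g) f = ∑ l : F, ev g (e l) • a l := by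
    intro g
    rw [rg, fe G e, Finsupp.sum, ← Finset.sum_coe_sort]
    refine Finset.sum_congr rfl fun l _ => ?_
    rw [appAlg_tG_comp, Algebra.smul_def, _root_.mul_comm]
    rfl
  have hf : f = ∑ l : F, ev (1 : VecGrp.pt k k ⟶ G) (e l) • a l := by
    rw [← hexp, rg_one]
    rfl
  obtain ⟨J, ι₀, hinj, hspan, hli⟩ := exists_indep_sub (isField_Γ_Spec k) a
  haveI : Finite J := Finite.of_injective ι₀ hinj
  haveI : Fintype J := Fintype.ofFinite J
  have hs : ∀ l, ∃ s : J → Γ(Spec (CommRingCat.of k), ⊤), ∑ j, s j • (a ∘ ι₀) j = a l := fun l =>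
    (Submodule.mem_span_range_iff_exists_fun _).1 (by
      rw [hspan]
      exact Submodule.subset_span ⟨l, rfl⟩)
  choose s hs using hs
  let ψ : J → Γ(G.left, ⊤) := fun j => ∑ l : F, s l j • e l
  have hψ : ∀ (g : VecGrp.pt k k ⟶ G) (j : J), ev g (ψ j) = ∑ l : F, ev g (e l) * s l j := by
    intro g j
    rw [map_sum]
    refine Finset.sum_congr rfl fun l _ => ?_
    rw [ev_smul, _root_.mul_comm]
  have hcomb : ∀ c : F → Γ(Spec (CommRingCat.of k), ⊤),
      ∑ l : F, c l • a l = ∑ j, (∑ l : F, c l * s l j) • (a ∘ ι₀) j := by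
    intro c
    calc ∑ l : F, c l • a l = ∑ l : F, ∑ j, (c l * s l j) • (a ∘ ι₀) j := by
          refine Finset.sum_congr rfl fun l _ => ?_
          rw [← hs l, Finset.smul_sum]
          refine Finset.sum_congr rfl fun j _ => ?_
          rw [smul_smul]
      _ = ∑ j, ∑ l : F, (c l * s l j) • (a ∘ ι₀) j := Finset.sum_comm
      _ = _ := by
          refine Finset.sum_congr rfl fun j _ => ?_
          rw [Finset.sum_smul]
  refine ⟨Finset.univ.image ψ, fun g => ?_⟩
  rw [isRTransInv_iff, hexp]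
  constructor
  · intro h ψ' hψ'
    obtain ⟨j, -, rfl⟩ := Finset.mem_image.1 hψ'
    have h2 : ∑ l : F, (ev g (e l) - ev (1 : VecGrp.pt k k ⟶ G) (e l)) • a l = 0 := by
      simp_rw [sub_smul]
      rw [Finset.sum_sub_distrib, h, ← hf, sub_self]
    rw [hcomb] at h2
    have h3 := Fintype.linearIndependent_iff.1 hli _ h2 j
    rw [hψ, hψ, ← sub_eq_zero, ← Finset.sum_sub_distrib]
    rw [← h3]
    refine Finset.sum_congr rfl fun l _ => ?_
    rw [sub_mul]
  · intro h
    have h2 : ∑ l : F, (ev g (e l) - ev (1 : VecGrp.pt k k ⟶ G) (e l)) • a l = 0 := by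
      rw [hcomb]
      refine Finset.sum_eq_zero fun j _ => ?_
      have h3 := h (ψ j) (Finset.mem_image.2 ⟨j, Finset.mem_univ _, rfl⟩)
      rw [hψ, hψ, ← sub_eq_zero, ← Finset.sum_sub_distrib] at h3
      have h4 : ∑ l : F, (ev g (e l) - ev (1 : VecGrp.pt k k ⟶ G) (e l)) * s l j = 0 := by
        rw [← h3]
        refine Finset.sum_congr rfl fun l _ => ?_
        rw [sub_mul]
      rw [h4, zero_smul]
    simp_rw [sub_smul] at h2
    rw [Finset.sum_sub_distrib, sub_eq_zero] at h2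
    rw [h2, ← hf]

end Expand

section Main

variable (G : Over (Spec (CommRingCat.of k))) [GrpObj G] [CompactSpace G.left]
  [QuasiSeparatedSpace G.left] [IsNoetherianRing Γ(G.left, ⊤)]
  {H : Over (Spec (CommRingCat.of k))} [GrpObj H] (i : H ⟶ G)

set_option maxHeartbeats 1000000 in
/-- **S11199**: finitely many right-`H`-invariant functions cut out the observable hull on
rational points. -/
theorem exists_finset_determines :
    ∃ s : Finset Γ(G.left, ⊤), (∀ f ∈ s, AGF.IsRTransInv i f) ∧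
      ∀ g : VecGrp.pt k k ⟶ G, (∀ f ∈ s, AGF.IsRTransInv g f) →
        ∀ f : Γ(G.left, ⊤), AGF.IsRTransInv i f → AGF.IsRTransInv g f := by
  classical
  choose Ψ hΨ using exists_conditions G
  let gen : Γ(G.left, ⊤) → Γ(G.left, ⊤) := fun ψ =>
    ψ - algebraMap Γ(Spec (CommRingCat.of k), ⊤) Γ(G.left, ⊤) (ev (1 : VecGrp.pt k k ⟶ G) ψ)
  let S : Set Γ(G.left, ⊤) := {d | ∃ f, AGF.IsRTransInv i f ∧ ∃ ψ ∈ Ψ f, d = gen ψ}
  have hfg : (Submodule.span Γ(G.left, ⊤) S).FG := IsNoetherian.noetherian _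
  obtain ⟨S', hS'sub, hS'span⟩ := (Submodule.fg_span_iff_fg_span_finset_subset S).1 hfg
  have hch : ∀ d : S', ∃ f, AGF.IsRTransInv i f ∧ ∃ ψ ∈ Ψ f, (d : Γ(G.left, ⊤)) = gen ψ :=
    fun d => hS'sub d.2
  choose fd hfd1 hfd2 using hch
  refine ⟨Finset.univ.image fd, ?_, ?_⟩
  · intro f hf
    obtain ⟨d, -, rfl⟩ := Finset.mem_image.1 hf
    exact hfd1 d
  · intro g hg f hf
    rw [hΨ f g]
    intro ψ hψ
    have hker : Submodule.span Γ(G.left, ⊤) (S' : Set Γ(G.left, ⊤)) ≤ RingHom.ker (ev g) := by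
      rw [Submodule.span_le]
      intro d hd
      obtain ⟨ψ', hψ', hdψ⟩ := hfd2 ⟨d, hd⟩
      have h1 := (hΨ (fd ⟨d, hd⟩) g).1
        (hg _ (Finset.mem_image.2 ⟨⟨d, hd⟩, Finset.mem_univ _, rfl⟩)) ψ' hψ'
      rw [SetLike.mem_coe, RingHom.mem_ker]
      have hdψ' : d = gen ψ' := hdψ
      change ev g d = 0
      rw [hdψ']
      change ev g (ψ' - algebraMap _ _ (ev (1 : VecGrp.pt k k ⟶ G) ψ')) = 0
      rw [map_sub, ev_algebraMap, h1, sub_self]
    have hmem : gen ψ ∈ Submodule.span Γ(G.left, ⊤) S :=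
      Submodule.subset_span ⟨f, hf, ψ, hψ, rfl⟩
    rw [hS'span] at hmem
    have h2 := hker hmem
    rw [RingHom.mem_ker] at h2
    change ev g (ψ - algebraMap _ _ (ev (1 : VecGrp.pt k k ⟶ G) ψ)) = 0 at h2
    rw [map_sub, ev_algebraMap, sub_eq_zero] at h2
    exact h2

end Main

end Groth.Agent.Lib.Helper29.RTrans
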