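import Groth.Agent.Lib.Helper29.ObsK
import Groth.Agent.Lib.Helper29.RTrans
import Groth.Agent.Lib.Helper10.RigidAA8
import Groth.Prelude.Def_AGF

/-! Descent of invariant functions to a quotient; invariants under a subgroup with proper
irreducible quotient (helper29, for S11198). -/

set_option autoImplicit false
universe u
open CategoryTheory MonoidalCategory CartesianMonoidalCategory MonObj AlgebraicGeometry
open TensorProduct

namespace Groth.Agent.Lib.Helper29.QDesc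

open Groth.Agent.Lib.Helper29.AffAttr Groth.Agent.Lib.Helper29.RTrans

/-- descent of global functions along a quasi-compact flat surjective morphism. -/
theorem exists_descent {Y' Y : Scheme.{u}} (p : Y' ⟶ Y) [QuasiCompact p] [Surjective p] [Flat p]
    (ψ : Γ(Y', ⊤))
    (h : ∀ (Z : Scheme.{u}) (g₁ g₂ : Z ⟶ Y'), g₁ ≫ p = g₂ ≫ p → g₁.appTop ψ = g₂.appTop ψ) :
    ∃ ψ' : Γ(Y, ⊤), p.appTop ψ' = ψ := by
  let m : Y' ⟶ Spec (CommRingCat.of (MvPolynomial PUnit.{u+1} (ULift.{u} ℤ))) :=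
    (AffineSpace.toSpecMvPolyIntEquiv PUnit.{u+1}).symm (fun _ => ψ)
  have hm : ∀ {Z : Scheme.{u}} (g₁ g₂ : Z ⟶ Y'), g₁ ≫ p = g₂ ≫ p → g₁ ≫ m = g₂ ≫ m := by
    intro Z g₁ g₂ hg
    apply (AffineSpace.toSpecMvPolyIntEquiv PUnit.{u+1}).injective
    ext q
    rw [AffineSpace.toSpecMvPolyIntEquiv_comp, AffineSpace.toSpecMvPolyIntEquiv_comp,
      Equiv.apply_symm_apply]
    exact h Z g₁ g₂ hg
  refine ⟨AffineSpace.toSpecMvPolyIntEquiv PUnit.{u+1} (EffectiveEpi.desc p m hm) PUnit.unit, ?_⟩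
  rw [← AffineSpace.toSpecMvPolyIntEquiv_comp, EffectiveEpi.fac, Equiv.apply_symm_apply]

variable {k : Type u} [Field k]

section Quot

variable {H₂ H₁ X : Over (Spec (CommRingCat.of k))} [GrpObj H₂] [GrpObj H₁] (i₁ : H₁ ⟶ H₂)
  (a : AlgGrp.Action H₂ X) (o : 𝟙_ (Over (Spec (CommRingCat.of k))) ⟶ X)

theorem exists_descent_quot (hX : AGF.IsQuotient i₁ X a o) [QuasiCompact (a.orbitMap o).left]
    (ψ : Γ(H₂.left, ⊤)) (hψ : AGF.IsRTransInv i₁ ψ) :
    ∃ ψ' : Γ(X.left, ⊤), (a.orbitMap o).left.appTop ψ' = ψ := by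
  obtain ⟨-, hfl, hsu, hpb⟩ := hX
  haveI := hfl
  haveI := hsu
  apply exists_descent
  intro Z g₁ g₂ hg
  have hpb' : IsPullback (CartesianMonoidalCategory.fst H₂ H₁).left ((H₂ ◁ i₁) ≫ μ[H₂]).left
      (a.orbitMap o).left (a.orbitMap o).left := hpb.map (Over.forget _)
  obtain ⟨c, e1, e2⟩ : ∃ c : Z ⟶ (H₂ ⊗ H₁).left,
      c ≫ (CartesianMonoidalCategory.fst H₂ H₁).left = g₁ ∧
      c ≫ ((H₂ ◁ i₁) ≫ μ[H₂]).left = g₂ :=
    ⟨hpb'.lift g₁ g₂ hg, hpb'.lift_fst _ _ _, hpb'.lift_snd _ _ _⟩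
  subst e1 e2
  rw [Scheme.Hom.comp_appTop, Scheme.Hom.comp_appTop, CommRingCat.comp_apply,
    CommRingCat.comp_apply]
  exact congrArg _ hψ.symm

end Quot

attribute [local instance] Groth.Agent.Lib.Helper29.AffAttr.algΓ

section Main

variable {G H₂ H₁ X : Over (Spec (CommRingCat.of k))} [GrpObj G] [GrpObj H₂] [GrpObj H₁]
  (i₂ : H₂ ⟶ G) [IsMonHom i₂] (i₁ : H₁ ⟶ H₂)

/-- the translate `h ↦ x · i₂(h)`. -/
noncomputable def mx (x : VecGrp.pt k k ⟶ G) : H₂ ⟶ G := (tG H₂ ≫ x) * i₂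

theorem comp_mx {T : Over (Spec (CommRingCat.of k))} (u : T ⟶ H₂) (x : VecGrp.pt k k ⟶ G) :
    u ≫ mx i₂ x = (tG T ≫ x) * (u ≫ i₂) := by
  rw [mx, MonObj.comp_mul, ← Category.assoc, pt_ext (u ≫ tG H₂) (tG T)]

theorem rmul_eq {P Q : Over (Spec (CommRingCat.of k))} [GrpObj P] (j : Q ⟶ P) :
    (P ◁ j) ≫ μ[P] = CartesianMonoidalCategory.fst P Q * (CartesianMonoidalCategory.snd P Q ≫ j) := by
  rw [Hom.mul_def]
  congr 1

theorem isRTransInv_mx (x : VecGrp.pt k k ⟶ G) (f : Γ(G.left, ⊤))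
    (hf : AGF.IsRTransInv (i₁ ≫ i₂) f) : AGF.IsRTransInv i₁ (appAlg (mx i₂ x) f) := by
  change appAlg ((H₂ ◁ i₁) ≫ μ[H₂]) (appAlg (mx i₂ x) f) =
    appAlg (CartesianMonoidalCategory.fst H₂ H₁) (appAlg (mx i₂ x) f)
  rw [← appAlg_comp, ← appAlg_comp]
  have hf' : appAlg ((G ◁ (i₁ ≫ i₂)) ≫ μ[G]) f =
    appAlg (CartesianMonoidalCategory.fst G H₁) f := hf
  have h1 : ((H₂ ◁ i₁) ≫ μ[H₂]) ≫ mx i₂ x = (mx i₂ x ▷ H₁) ≫ (G ◁ (i₁ ≫ i₂)) ≫ μ[G] := by
    rw [rmul_eq, rmul_eq, comp_mx, MonObj.comp_mul, MonObj.mul_comp, ← Category.assoc,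
      whiskerRight_fst, ← Category.assoc, whiskerRight_snd, Category.assoc, comp_mx,
      _root_.mul_assoc]
  have h2 : CartesianMonoidalCategory.fst H₂ H₁ ≫ mx i₂ x =
      (mx i₂ x ▷ H₁) ≫ CartesianMonoidalCategory.fst G H₁ := (whiskerRight_fst _ _).symm
  rw [h1, h2, appAlg_comp, hf', ← appAlg_comp]

end Main

section Final

variable [IsAlgClosed k]
  {G H₂ H₁ X : Over (Spec (CommRingCat.of k))} [GrpObj G] [GrpObj H₂] [GrpObj H₁]
  (i₂ : H₂ ⟶ G) [IsMonHom i₂] (i₁ : H₁ ⟶ H₂)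
  (a : AlgGrp.Action H₂ X) (o : 𝟙_ (Over (Spec (CommRingCat.of k))) ⟶ X)

theorem const_of_isRTransInv (hX : AGF.IsQuotient i₁ X a o) [IsProper X.hom]
    [IrreducibleSpace X.left] [IsAffine H₂.left] [AlgebraicGeometry.IsReduced H₂.left]
    (ψ : Γ(H₂.left, ⊤)) (hψ : AGF.IsRTransInv i₁ ψ) :
    ∃ c : Γ(Spec (CommRingCat.of k), ⊤),
      ψ = algebraMap Γ(Spec (CommRingCat.of k), ⊤) Γ(H₂.left, ⊤) c := by
  haveI : QuasiSeparatedSpace X.left := by
    haveI : QuasiSeparated X.hom := inferInstance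
    exact quasiSeparatedSpace_of_quasiSeparated X.hom
  haveI : QuasiCompact (a.orbitMap o).left := inferInstance
  obtain ⟨ψ', hψ'⟩ := exists_descent_quot i₁ a o hX ψ hψ
  haveI : Flat (a.orbitMap o).left := hX.2.1
  haveI : Surjective (a.orbitMap o).left := hX.2.2.1
  haveI : AlgebraicGeometry.IsReduced X.left :=
    Groth.Agent.Lib.Helper14.isReduced_of_flat_surjective (a.orbitMap o).left
  obtain ⟨c, hc⟩ := (Groth.Agent.Lib.Helper10.RigidAA.bijective_of_universallyClosed X).2 ψ'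
  refine ⟨(Scheme.ΓSpecIso (CommRingCat.of k)).inv.hom c, ?_⟩
  rw [← hψ', ← hc]
  change (a.orbitMap o).left.appTop.hom (X.hom.appTop.hom _) = H₂.hom.appTop.hom _
  rw [← CommRingCat.comp_apply, ← Scheme.Hom.comp_appTop, Over.w]
  rfl

theorem isRTransInv_comp' {G H T : Over (Spec (CommRingCat.of k))} [GrpObj G] (h : T ⟶ H)
    (i : H ⟶ G) (f : Γ(G.left, ⊤)) (hf : AGF.IsRTransInv i f) : AGF.IsRTransInv (h ≫ i) f := by
  change appAlg ((G ◁ (h ≫ i)) ≫ μ[G]) f = appAlg (CartesianMonoidalCategory.fst G T) f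
  have hf' : appAlg ((G ◁ i) ≫ μ[G]) f = appAlg (CartesianMonoidalCategory.fst G H) f := hf
  have h1 : (G ◁ (h ≫ i)) ≫ μ[G] = (G ◁ h) ≫ (G ◁ i) ≫ μ[G] := by
    rw [MonoidalCategory.whiskerLeft_comp, Category.assoc]
  have h2 : CartesianMonoidalCategory.fst G T = (G ◁ h) ≫ CartesianMonoidalCategory.fst G H := by
    rw [whiskerLeft_fst]
  rw [h1, appAlg_comp, hf', ← appAlg_comp, ← h2]

set_option maxHeartbeats 1000000 in
theorem rTransInv_eq (hX : AGF.IsQuotient i₁ X a o) [IsProper X.hom]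
    [IrreducibleSpace X.left] [IsAffine H₂.left] [AlgebraicGeometry.IsReduced H₂.left]
    [LocallyOfFiniteType (G ⊗ H₂).hom] [AlgebraicGeometry.IsReduced (G ⊗ H₂).left] :
    AGF.rTransInv (i₁ ≫ i₂) = AGF.rTransInv i₂ := by
  ext f
  rw [AGF.mem_rTransInv_iff, AGF.mem_rTransInv_iff]
  constructor
  · intro hf
    apply Groth.Agent.Lib.Helper29.ObsK.sec_ext_kpts
    intro y
    change appAlg y (appAlg ((G ◁ i₂) ≫ μ[G]) f) =
      appAlg y (appAlg (CartesianMonoidalCategory.fst G H₂) f)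
    rw [← appAlg_comp, ← appAlg_comp]
    have e1 : y ≫ (G ◁ i₂) ≫ μ[G] =
        (y ≫ CartesianMonoidalCategory.snd G H₂) ≫
          mx i₂ (y ≫ CartesianMonoidalCategory.fst G H₂) := by
      rw [rmul_eq, MonObj.comp_mul, comp_mx, pt_ext (tG (VecGrp.pt k k)) (𝟙 _), Category.id_comp,
        ← Category.assoc]
    have e2 : y ≫ CartesianMonoidalCategory.fst G H₂ =
        (1 : VecGrp.pt k k ⟶ H₂) ≫ mx i₂ (y ≫ CartesianMonoidalCategory.fst G H₂) := by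
      rw [comp_mx, pt_ext (tG (VecGrp.pt k k)) (𝟙 _), Category.id_comp, MonObj.one_comp,
        _root_.mul_one]
    obtain ⟨c, hc⟩ := const_of_isRTransInv i₁ a o hX _
      (isRTransInv_mx i₂ i₁ (y ≫ CartesianMonoidalCategory.fst G H₂) f hf)
    have l1 : appAlg (y ≫ (G ◁ i₂) ≫ μ[G]) f =
        algebraMap Γ(Spec (CommRingCat.of k), ⊤) Γ((VecGrp.pt k k).left, ⊤) c := by
      rw [e1, appAlg_comp, hc, AlgHom.commutes]
    have l2 : appAlg (y ≫ CartesianMonoidalCategory.fst G H₂) f =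
        algebraMap Γ(Spec (CommRingCat.of k), ⊤) Γ((VecGrp.pt k k).left, ⊤) c := by
      have l3 : appAlg (y ≫ CartesianMonoidalCategory.fst G H₂) f =
          appAlg ((1 : VecGrp.pt k k ⟶ H₂) ≫ mx i₂ (y ≫ CartesianMonoidalCategory.fst G H₂)) f :=
        congrArg (fun t => appAlg t f) e2
      rw [l3, appAlg_comp, hc, AlgHom.commutes]
    rw [l1, l2]
  · intro hf
    exact isRTransInv_comp' i₁ i₂ f hf

end Final

end Groth.Agent.Lib.Helper29.QDesc
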