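import Groth.Agent.Lib.Helper29.FinIdx1
import Groth.Agent.Lib.Helper29.QuotDesc1

/-! Matrix coefficients of a module over an open and closed subgroup, extended by zero
(helper29, for S11193). -/

set_option autoImplicit false
universe u
open CategoryTheory MonoidalCategory CartesianMonoidalCategory MonObj AlgebraicGeometry Opposite
open TensorProduct TopologicalSpace

namespace Groth.Agent.Lib.Helper29.FinIdx

open Groth.Agent.Lib.Helper29.AffAttr Groth.Agent.Lib.Helper29.RTrans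
  Groth.Agent.Lib.Helper29.GModCoef Groth.Agent.Lib.Helper29.Epi VecGrp

variable {k : Type u} [Field k]

attribute [local instance] Groth.Agent.Lib.Helper29.AffAttr.algΓ

section Coef

variable {H : Over (Spec (CommRingCat.of k))} [GrpObj H]
  {V : Type u} [AddCommGroup V] [Module k V] (σ : VecGrp.GMod H V)
  {I : Type u} [Fintype I] (bV : Module.Basis I k V)

/-- the matrix coefficients of a module in a basis. -/
noncomputable def sc (p q : I) : Γ(H.left, ⊤) := coefFn σ (bV.coord p) (bV q)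

theorem evB_sc {B : Type u} [CommRing B] [Algebra k B] (g : VecGrp.pt k B ⟶ H) (p q : I) :
    evB g (sc σ bV p q) = (bV.baseChange B).repr (σ.ρ B g ((1 : B) ⊗ₜ[k] bV q)) p := by
  change (Scheme.ΓSpecIso (CommRingCat.of B)).hom.hom (g.left.appTop.hom (sc σ bV p q)) = _
  rw [sc, coefFn_spec, evl_coord]

theorem rho_one_tmul {B : Type u} [CommRing B] [Algebra k B] (g : VecGrp.pt k B ⟶ H) (q : I) :
    σ.ρ B g ((1 : B) ⊗ₜ[k] bV q) = ∑ r, evB g (sc σ bV r q) • ((1 : B) ⊗ₜ[k] bV r) := by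
  have h := (bV.baseChange B).sum_repr (σ.ρ B g ((1 : B) ⊗ₜ[k] bV q))
  rw [← h]
  refine Finset.sum_congr rfl fun r _ => ?_
  rw [evB_sc, Module.Basis.baseChange_apply]

theorem evB_sc_mul {B : Type u} [CommRing B] [Algebra k B] (x y : VecGrp.pt k B ⟶ H) (p q : I) :
    evB (x * y) (sc σ bV p q) = ∑ r, evB x (sc σ bV p r) * evB y (sc σ bV r q) := by
  rw [evB_sc, map_mul, LinearEquiv.mul_apply, rho_one_tmul σ bV y q, map_sum, map_sum,
    Finsupp.finsetSum_apply]
  refine Finset.sum_congr rfl fun r _ => ?_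
  rw [map_smul, map_smul, Finsupp.smul_apply, evB_sc, smul_eq_mul, _root_.mul_comm, evB_sc]

theorem evB_sc_one {B : Type u} [CommRing B] [Algebra k B] [DecidableEq I] (p q : I) :
    evB (1 : VecGrp.pt k B ⟶ H) (sc σ bV p q) = if p = q then 1 else 0 := by
  rw [evB_sc, map_one]
  change ((Module.Basis.baseChange B bV).repr ((1 : B) ⊗ₜ[k] bV q)) p = _
  rw [Module.Basis.baseChange_repr_tmul,
    Module.Basis.repr_self, Finsupp.single_apply]
  split_ifs with h1 h2 h2
  · simp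
  · exact absurd h1.symm h2
  · exact absurd h2.symm h1
  · simp

end Coef

section Trans

variable [IsAlgClosed k] {G H : Over (Spec (CommRingCat.of k))} [GrpObj G] [GrpObj H]
  (i : H ⟶ G) [IsMonHom i]
  [LocallyOfFiniteType G.hom] [AlgebraicGeometry.IsReduced G.left]
  {V : Type u} [AddCommGroup V] [Module k V] (σ : VecGrp.GMod H V)
  {I : Type u} [Fintype I] (bV : Module.Basis I k V)
  (F : I → I → Γ(G.left, ⊤))
  (hF1 : ∀ p q, appAlg i (F p q) = sc σ bV p q)
  (hF2 : ∀ (p q : I) (x : VecGrp.pt k k ⟶ G),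
    (¬ ∃ x' : VecGrp.pt k k ⟶ H, x' ≫ i = x) → appAlg x (F p q) = 0)

theorem appAlg_sc_mul (x y : VecGrp.pt k k ⟶ H) (p q : I) :
    appAlg (x * y) (sc σ bV p q) = ∑ r, appAlg x (sc σ bV p r) * appAlg y (sc σ bV r q) := by
  apply ΓSpecIso_hom_injective k
  have h := evB_sc_mul σ bV x y p q
  rw [map_sum]
  simp_rw [map_mul]
  exact h

include hF1 hF2 in
theorem rg_F (h : VecGrp.pt k k ⟶ H) (p q : I) :
    appAlg (rg (h ≫ i)) (F p q) = ∑ r, ev h (sc σ bV r q) • F p r := by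
  apply Groth.Agent.Lib.Helper29.ObsK.sec_ext_kpts
  intro x
  change ev x (appAlg (rg (h ≫ i)) (F p q)) = ev x (∑ r, ev h (sc σ bV r q) • F p r)
  have hxg : x ≫ rg (h ≫ i) = x * (h ≫ i) := by
    rw [rg, MonObj.comp_mul, Category.comp_id, ← Category.assoc, pt_ext (x ≫ tG G) (𝟙 _),
      Category.id_comp]
  have e0 : ev x (appAlg (rg (h ≫ i)) (F p q)) = ev (x * (h ≫ i)) (F p q) := by
    change appAlg x (appAlg (rg (h ≫ i)) (F p q)) = appAlg (x * (h ≫ i)) (F p q)
    rw [← appAlg_comp, hxg]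
  rw [e0, map_sum]
  simp_rw [ev_smul]
  by_cases hx : ∃ x' : VecGrp.pt k k ⟶ H, x' ≫ i = x
  · obtain ⟨x', rfl⟩ := hx
    have e1 : ev ((x' ≫ i) * (h ≫ i)) (F p q) = appAlg (x' * h) (sc σ bV p q) := by
      change appAlg ((x' ≫ i) * (h ≫ i)) (F p q) = _
      rw [← MonObj.mul_comp, appAlg_comp, hF1]
    rw [e1, appAlg_sc_mul]
    refine Finset.sum_congr rfl fun r _ => ?_
    have e2 : ev (x' ≫ i) (F p r) = appAlg x' (sc σ bV p r) := by
      change appAlg (x' ≫ i) (F p r) = _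
      rw [appAlg_comp, hF1]
    rw [e2, _root_.mul_comm]
    rfl
  · have h0 : ev (x * (h ≫ i)) (F p q) = 0 := by
      apply hF2
      rintro ⟨y', hy'⟩
      apply hx
      refine ⟨y' * h⁻¹, ?_⟩
      rw [MonObj.mul_comp, hy', GrpObj.inv_comp, mul_inv_cancel_right]
    rw [h0]
    symm
    refine Finset.sum_eq_zero fun r _ => ?_
    have h1 : ev x (F p r) = 0 := hF2 p r x hx
    rw [h1, mul_zero]

end Trans

section Coefs

open Groth.Agent.Lib.Helper29.LinRep

variable [IsAlgClosed k] {G H : Over (Spec (CommRingCat.of k))} [GrpObj G] [GrpObj H]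
  (i : H ⟶ G) [IsMonHom i]
  [LocallyOfFiniteType G.hom] [AlgebraicGeometry.IsReduced G.left]
  [LocallyOfFiniteType H.hom] [AlgebraicGeometry.IsReduced H.left]
  [CompactSpace G.left] [QuasiSeparatedSpace G.left] [CompactSpace (G ⊗ G).left]
  [QuasiSeparatedSpace (G ⊗ G).left]
  {V : Type u} [AddCommGroup V] [Module k V] (σ : VecGrp.GMod H V)
  {I : Type u} [Fintype I] (bV : Module.Basis I k V)
  (F : I → I → Γ(G.left, ⊤))
  (hF1 : ∀ p q, appAlg i (F p q) = sc σ bV p q)
  (hF2 : ∀ (p q : I) (x : VecGrp.pt k k ⟶ G),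
    (¬ ∃ x' : VecGrp.pt k k ⟶ H, x' ≫ i = x) → appAlg x (F p q) = 0)
  {J : Type u} [Fintype J] (bJ : J → Γ(G.left, ⊤)) (m : J → J → Γ(G.left, ⊤))
  (hm : ∀ j, appAlg μ[G] (bJ j) = ∑ l, appAlg (CartesianMonoidalCategory.fst G G) (bJ l) *
        appAlg (CartesianMonoidalCategory.snd G G) (m l j))
  (hli : LinearIndependent Γ(Spec (CommRingCat.of k), ⊤) bJ)
  (c : I → I → J → Γ(Spec (CommRingCat.of k), ⊤))
  (hc : ∀ p q, ∑ j, c p q j • bJ j = F p q)

include hm in
theorem rg_bJ (g : VecGrp.pt k k ⟶ G) (j : J) :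
    appAlg (rg g) (bJ j) = ∑ l, ev g (m l j) • bJ l := by
  rw [rg, fe_b G bJ m hm]
  refine Finset.sum_congr rfl fun l _ => ?_
  rw [appAlg_tG_comp, Algebra.smul_def, _root_.mul_comm]
  rfl

include hF1 hF2 hm hli hc in
theorem coef_identity_pt (h : VecGrp.pt k k ⟶ H) (p q : I) (j : J) :
    ∑ j', c p q j' * ev (h ≫ i) (m j j') = ∑ r, ev h (sc σ bV r q) * c p r j := by
  have h1 := rg_F i σ bV F hF1 hF2 h p q
  have h2 : appAlg (rg (h ≫ i)) (F p q) =
      ∑ l, (∑ j', c p q j' * ev (h ≫ i) (m l j')) • bJ l := by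
    rw [← hc p q, map_sum]
    simp_rw [map_smul, rg_bJ bJ m hm, Finset.smul_sum, smul_smul]
    rw [Finset.sum_comm]
    refine Finset.sum_congr rfl fun l _ => ?_
    rw [Finset.sum_smul]
  have h3 : ∑ r, ev h (sc σ bV r q) • F p r =
      ∑ l, (∑ r, ev h (sc σ bV r q) * c p r l) • bJ l := by
    simp_rw [← hc p, Finset.smul_sum, smul_smul]
    rw [Finset.sum_comm]
    refine Finset.sum_congr rfl fun l _ => ?_
    rw [Finset.sum_smul]
  rw [h2, h3] at h1
  have h4 : ∑ l, ((∑ j', c p q j' * ev (h ≫ i) (m l j')) -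
      (∑ r, ev h (sc σ bV r q) * c p r l)) • bJ l = 0 := by
    simp_rw [sub_smul]
    rw [Finset.sum_sub_distrib, h1, sub_self]
  exact sub_eq_zero.mp (Fintype.linearIndependent_iff.1 hli _ h4 j)

include hF1 hF2 hm hli hc in
theorem coef_identity (p q : I) (j : J) :
    ∑ j', c p q j' • appAlg i (m j j') = ∑ r, c p r j • sc σ bV r q := by
  apply Groth.Agent.Lib.Helper29.ObsK.sec_ext_kpts
  intro h
  change ev h (∑ j', c p q j' • appAlg i (m j j')) = ev h (∑ r, c p r j • sc σ bV r q)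
  rw [map_sum, map_sum]
  simp_rw [ev_smul]
  have h1 := coef_identity_pt i σ bV F hF1 hF2 bJ m hm hli c hc h p q j
  have e1 : ∀ j', ev h (appAlg i (m j j')) = ev (h ≫ i) (m j j') := fun j' => by
    change appAlg h (appAlg i (m j j')) = appAlg (h ≫ i) (m j j')
    rw [appAlg_comp]
  simp_rw [e1]
  rw [h1]
  refine Finset.sum_congr rfl fun r _ => ?_
  rw [_root_.mul_comm]

end Coefs

end Groth.Agent.Lib.Helper29.FinIdx
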