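import Groth.Agent.Lib.Helper29.FinIdx2
import Groth.Agent.Lib.Helper14.ReducedEtale

/-! Modules over an open and closed subgroup extend to the whole group (helper29, S11193). -/

set_option autoImplicit false
universe u
open CategoryTheory MonoidalCategory CartesianMonoidalCategory MonObj AlgebraicGeometry Opposite
open TensorProduct TopologicalSpace

namespace Groth.Agent.Lib.Helper29.FinIdx

open Groth.Agent.Lib.Helper29.AffAttr Groth.Agent.Lib.Helper29.RTrans
  Groth.Agent.Lib.Helper29.GModCoef Groth.Agent.Lib.Helper29.Epi VecGrp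
  Groth.Agent.Lib.Helper29.LinRep Groth.Agent.Lib.Helper29.GModMat Groth.Agent.Lib.Helper29.ObsV

variable {k : Type u} [Field k]

attribute [local instance] Groth.Agent.Lib.Helper29.AffAttr.algΓ

theorem evB_smul' {G : Over (Spec (CommRingCat.of k))} {B : Type u} [CommRing B] [Algebra k B]
    (g : VecGrp.pt k B ⟶ G) (r : Γ(Spec (CommRingCat.of k), ⊤)) (f : Γ(G.left, ⊤)) :
    evB g (r • f) = algebraMap k B ((Scheme.ΓSpecIso (CommRingCat.of k)).hom.hom r) * evB g f := by
  rw [Algebra.smul_def, map_mul, evB_const]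

set_option maxHeartbeats 2000000 in
theorem extendsAlong_of_open_closed [IsAlgClosed k]
    {G H : Over (Spec (CommRingCat.of k))} [GrpObj G] [GrpObj H] [IsAffine G.left] [Smooth G.hom]
    [Smooth H.hom] (i : H ⟶ G) [IsMonHom i] [IsClosedImmersion i.left] [IsOpenImmersion i.left]
    {V : Type u} [AddCommGroup V] [Module k V] [Module.Finite k V] (σ : VecGrp.GMod H V) :
    σ.ExtendsAlong i := by
  classical
  haveI : LocallyOfFiniteType G.hom := inferInstance
  haveI : CompactSpace G.left := inferInstance
  haveI : QuasiSeparatedSpace G.left := inferInstance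
  haveI : QuasiCompact G.hom := inferInstance
  haveI : QuasiCompact (G ⊗ G).hom := Groth.Agent.Lib.Helper29.LinRep.qc_tensor G G
  haveI : LocallyOfFiniteType (G ⊗ G).hom := Groth.Agent.Lib.Helper29.LinRep.lft_tensor G G
  haveI : CompactSpace (G ⊗ G).left := Groth.Agent.Lib.Helper29.LinRep.compact_left (G ⊗ G)
  haveI : QuasiSeparatedSpace (G ⊗ G).left := Groth.Agent.Lib.Helper29.LinRep.qs_left (G ⊗ G)
  haveI : LocallyOfFiniteType H.hom := inferInstance
  haveI : AlgebraicGeometry.IsReduced H.left :=
    Groth.Agent.Lib.Helper14.isReduced_of_smooth_scheme H.hom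
  haveI : AlgebraicGeometry.IsReduced G.left :=
    Groth.Agent.Lib.Helper14.isReduced_of_smooth_scheme G.hom
  let I := Module.Free.ChooseBasisIndex k V
  let bV : Module.Basis I k V := Module.Free.chooseBasis k V
  have hE := fun p q : I => exists_extZ i (sc σ bV p q)
  choose F hF1 hF2 using hE
  obtain ⟨J, _, bJ, m, hli, hmem, hm⟩ := exists_matrix_fam G (fun pq : I × I => F pq.1 pq.2)
  have hc : ∀ pq : I × I, ∃ c : J → Γ(Spec (CommRingCat.of k), ⊤),
      ∑ j, c j • bJ j = F pq.1 pq.2 := fun pq =>
    (Submodule.mem_span_range_iff_exists_fun _).1 (hmem pq)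
  choose c0 hc0 using hc
  let c : I → I → J → Γ(Spec (CommRingCat.of k), ⊤) := fun p q => c0 (p, q)
  have hcc : ∀ p q, ∑ j, c p q j • bJ j = F p q := fun p q => hc0 (p, q)
  have h1 := matrix_one G bJ m hm hli
  have hmul := matrix_mul G bJ m hm hli
  let φ : V →ₗ[k] (I × J → k) :=
    bV.constr k (fun q => vk (fun y : I × J => c y.1 q y.2))
  have hφ : ∀ q, φ (bV q) = vk (fun y : I × J => c y.1 q y.2) := fun q =>
    bV.constr_basis k _ q
  have hid := coef_identity i σ bV F hF1 hF2 bJ m hm hli c hcc
  refine ⟨I × J → k, inferInstance, inferInstance, inferInstance,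
    matGMod G (blk G m I) (blk_one G m h1) (blk_mul G m hmul), φ, ?_, ?_⟩
  · -- injectivity
    rw [← LinearMap.ker_eq_bot, LinearMap.ker_eq_bot']
    intro v hv
    apply bV.repr.injective
    rw [map_zero]
    ext p
    rw [Finsupp.zero_apply]
    have hv1 : ∑ q, bV.repr v q • vk (fun y : I × J => c y.1 q y.2) = 0 := by
      rw [← hv]
      conv_rhs => rw [← bV.sum_repr v]
      rw [map_sum]
      refine Finset.sum_congr rfl fun q _ => ?_
      rw [map_smul, hφ]
    -- coordinates in `K`
    let a' : I → Γ(Spec (CommRingCat.of k), ⊤) :=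
      fun q => (Scheme.ΓSpecIso (CommRingCat.of k)).inv.hom (bV.repr v q)
    have ha' : ∀ q, (Scheme.ΓSpecIso (CommRingCat.of k)).hom.hom (a' q) = bV.repr v q := by
      intro q
      change ((Scheme.ΓSpecIso (CommRingCat.of k)).inv ≫
        (Scheme.ΓSpecIso (CommRingCat.of k)).hom).hom (bV.repr v q) = _
      rw [Iso.inv_hom_id]
      rfl
    have hz : ∀ j : J, ∑ q, a' q * c p q j = 0 := by
      intro j
      apply ΓSpecIso_hom_injective k
      rw [map_sum, map_zero]
      have hthis : ∑ q, (bV.repr v q • vk (fun y : I × J => c y.1 q y.2)) (p, j) = 0 := by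
        have := congrFun hv1 (p, j)
        rwa [Finset.sum_apply] at this
      refine Eq.trans (Finset.sum_congr rfl fun q _ => ?_) hthis
      rw [map_mul, ha']
      rfl
    have hF0 : ∑ q, a' q • F p q = 0 := by
      simp_rw [← hcc p, Finset.smul_sum, smul_smul]
      rw [Finset.sum_comm]
      refine Finset.sum_eq_zero fun j _ => ?_
      rw [← Finset.sum_smul, hz j, zero_smul]
    have h2 := congrArg (evB ((1 : VecGrp.pt k k ⟶ H) ≫ i)) hF0
    rw [map_sum, map_zero] at h2
    simp_rw [evB_smul', evB_comp, hF1, evB_sc_one, ha'] at h2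
    rw [← h2]
    simp
  · -- equivariance
    intro B _ _ h x
    have hL : (φ.baseChange B) ∘ₗ ((σ.ρ B h : _ ≃ₗ[B] _) : _ →ₗ[B] _) =
        (((matGMod G (blk G m I) (blk_one G m h1) (blk_mul G m hmul)).ρ B (h ≫ i) :
          _ ≃ₗ[B] _) : _ →ₗ[B] _) ∘ₗ (φ.baseChange B) := by
      apply (bV.baseChange B).ext
      intro q
      rw [Module.Basis.baseChange_apply, LinearMap.comp_apply, LinearMap.comp_apply,
        LinearMap.baseChange_tmul, hφ]
      change φ.baseChange B (σ.ρ B h ((1 : B) ⊗ₜ[k] bV q)) = _
      rw [rho_one_tmul σ bV h q, map_sum]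
      simp_rw [map_smul, LinearMap.baseChange_tmul, hφ]
      change _ = (matGMod G (blk G m I) (blk_one G m h1) (blk_mul G m hmul)).ρ B (h ≫ i) _
      rw [matGMod_apply, eB_one_tmul]
      apply (eB (I × J) B).injective
      rw [LinearEquiv.apply_symm_apply, map_sum]
      simp_rw [map_smul, eB_one_tmul]
      ext ⟨p, j⟩
      rw [Finset.sum_apply]
      simp_rw [Pi.smul_apply, smul_eq_mul]
      have hR : ∀ w : I × J → B, (N G (blk G m I) (h ≫ i)).mulVec w (p, j) =
          ∑ j', evB (h ≫ i) (m j j') * w (p, j') := by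
        intro w
        rw [Matrix.mulVec, dotProduct, Fintype.sum_prod_type, Finset.sum_eq_single p]
        · refine Finset.sum_congr rfl fun j' _ => ?_
          congr 1
          change evB (h ≫ i) (blk G m I (p, j) (p, j')) = _
          unfold blk
          rw [if_pos rfl]
        · intro p' _ hp'
          refine Finset.sum_eq_zero fun j' _ => ?_
          have e2 : N G (blk G m I) (h ≫ i) (p, j) (p', j') = 0 := by
            change evB (h ≫ i) (blk G m I (p, j) (p', j')) = _
            unfold blk
            rw [if_neg (Ne.symm hp'), map_zero]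
          rw [e2, zero_mul]
        · intro hp
          exact absurd (Finset.mem_univ _) hp
      rw [hR]
      have h3 := congrArg (evB h) (hid p q j)
      rw [map_sum, map_sum] at h3
      simp_rw [evB_smul', ← evB_comp] at h3
      refine ((Finset.sum_congr rfl fun r _ => ?_).trans h3.symm).trans
        (Finset.sum_congr rfl fun j' _ => ?_)
      · rw [_root_.mul_comm]
        rfl
      · rw [_root_.mul_comm]
        rfl
    exact LinearMap.congr_fun hL x

end Groth.Agent.Lib.Helper29.FinIdx
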