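import Mathlib
universe u
open CategoryTheory CategoryTheory.Limits AlgebraicGeometry TopologicalSpace Opposite

/-! # Schemes with finitely many points: `Spec O_{X,x} ⟶ X` is an open immersion -/

namespace Groth.Agent.Lib.Helper29.FinSpec

/-- Over a ring with finite spectrum, every localisation at a prime is a localisation away from
one element. -/
theorem exists_isLocalization_away {A : Type*} [CommRing A] [Finite (PrimeSpectrum A)]
    (p : Ideal A) [hp : p.IsPrime] (B : Type*) [CommRing B] [Algebra A B]
    [IsLocalization.AtPrime B p] : ∃ g : A, IsLocalization.Away g B := by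
  classical
  let P : PrimeSpectrum A := ⟨p, hp⟩
  have hW : IsOpen (nhdsKer {P}) := isOpen_nhdsKer
  have hPW : P ∈ nhdsKer {P} := subset_nhdsKer rfl
  obtain ⟨_, ⟨g, rfl⟩, hPg, hgW⟩ :=
    PrimeSpectrum.isTopologicalBasis_basic_opens.exists_subset_of_mem_open hPW hW
  refine ⟨g, ?_⟩
  have hunit : ∀ s ∈ p.primeCompl, IsUnit (algebraMap A (Localization.Away g) s) := by
    intro s hs
    have hrad : g ∈ (Ideal.span {s}).radical := by
      rw [Ideal.radical_eq_sInf, Ideal.mem_sInf]
      rintro q ⟨hsq, hq⟩
      by_contra hgq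
      have h1 : (⟨q, hq⟩ : PrimeSpectrum A) ∈ nhdsKer {P} := hgW hgq
      rw [mem_nhdsKer_singleton, ← PrimeSpectrum.le_iff_specializes] at h1
      exact hs (h1 (hsq (Ideal.mem_span_singleton_self s)))
    obtain ⟨n, hn⟩ := hrad
    obtain ⟨t, ht⟩ := Ideal.mem_span_singleton'.mp hn
    have h2 : IsUnit (algebraMap A (Localization.Away g) (g ^ n)) := by
      rw [map_pow]; exact (IsLocalization.Away.algebraMap_isUnit g).pow n
    rw [← ht, map_mul] at h2
    exact isUnit_of_mul_isUnit_right h2
  have hle : Submonoid.powers g ≤ p.primeCompl := by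
    rw [Submonoid.powers_le]
    exact hPg
  haveI : IsLocalization p.primeCompl (Localization.Away g) :=
    IsLocalization.of_le (M := Submonoid.powers g) _ hle hunit
  exact IsLocalization.isLocalization_of_algEquiv (Submonoid.powers g)
    (IsLocalization.algEquiv p.primeCompl (Localization.Away g) B)

variable {X : Scheme.{u}}

/-- If `x` has an affine open neighbourhood with finitely many points, `Spec O_{X,x} ⟶ X` is an
open immersion. -/
theorem isOpenImmersion_fromSpecStalk_of_finite {U : X.Opens} (hU : IsAffineOpen U)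
    (hfin : (U : Set X).Finite) (x : X) (hx : x ∈ U) : IsOpenImmersion (X.fromSpecStalk x) := by
  rw [← hU.fromSpecStalk_eq_fromSpecStalk hx]
  dsimp [IsAffineOpen.fromSpecStalk]
  haveI : Finite (PrimeSpectrum Γ(X, U)) := by
    haveI : Finite (U : Set X) := hfin
    have hr : ∀ y : PrimeSpectrum Γ(X, U), hU.fromSpec y ∈ (U : Set X) := fun y => by
      rw [← hU.range_fromSpec]; exact ⟨y, rfl⟩
    refine Finite.of_injective (fun y : PrimeSpectrum Γ(X, U) =>
      (⟨hU.fromSpec y, hr y⟩ : (U : Set X))) ?_
    intro y y' h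
    exact hU.fromSpec.isOpenEmbedding.injective (congrArg Subtype.val h)
  have : IsOpenImmersion (Spec.map (X.presheaf.germ U x hx)) := by
    letI : Algebra Γ(X, U) (X.presheaf.stalk x) := (X.presheaf.germ U x hx).hom.toAlgebra
    haveI := hU.isLocalization_stalk ⟨x, hx⟩
    obtain ⟨g, hg⟩ := exists_isLocalization_away (hU.primeIdealOf ⟨x, hx⟩).asIdeal
      (X.presheaf.stalk x)
    exact IsOpenImmersion.of_isLocalization (R := Γ(X, U)) (S := X.presheaf.stalk x) g
  infer_instance

/-- Locally quasi-finite, locally of finite type over a scheme with finitely many points: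
`Spec O_{X,x} ⟶ X` is an open immersion. -/
theorem isOpenImmersion_fromSpecStalk_of_locallyQuasiFinite {S : Scheme.{u}} [Finite S]
    (f : X ⟶ S) [LocallyQuasiFinite f] [IsAffine S] (x : X) :
    IsOpenImmersion (X.fromSpecStalk x) := by
  obtain ⟨U, hU, hxU, -⟩ := exists_isAffineOpen_mem_and_subset (x := x) (U := ⊤) trivial
  haveI : IsAffine (U : Scheme.{u}) := hU
  have h1 := Scheme.Hom.finite_preimage (U.ι ≫ f) (s := Set.univ) Set.finite_univ
  rw [Set.preimage_univ] at h1
  have h2 : (U : Set X).Finite := by
    have h3 : (Set.range U.ι).Finite := by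
      rw [← Set.image_univ]; exact h1.image _
    rwa [Scheme.Opens.range_ι] at h3
  exact isOpenImmersion_fromSpecStalk_of_finite hU h2 x hxU

end Groth.Agent.Lib.Helper29.FinSpec
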