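import Groth.Prelude.Def_Magnet3
import Mathlib.AlgebraicGeometry.Morphisms.Separated

/-! Fixed points of one-dimensional group actions via degeneration along the affine line:
the abstract equivariance argument (helper29, for S15592). -/

set_option autoImplicit false
universe u
open CategoryTheory CategoryTheory.Limits MonoidalCategory CartesianMonoidalCategory MonObj
  AlgebraicGeometry

namespace Groth.Agent.Lib.Helper29.FixPt

variable {S : Scheme.{u}} {G X : Over S} [GrpObj G]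

theorem fixed_of_data [IsSeparated X.hom] (a : AlgGrp.Action G X)
    (B V A W W' : Over S) (j : V ⟶ B) (lam : V ⟶ G) (sig : A ⟶ G) (zero : 𝟙_ (Over S) ⟶ B)
    (phi : B ⟶ X) (x₀ : 𝟙_ (Over S) ⟶ X)
    (hphi : j ≫ phi = lift lam (toUnit V ≫ x₀) ≫ a.act)
    (prA : W ⟶ A) (prB : W ⟶ B) (m : W ⟶ B) (i0 : A ⟶ W)
    (h1 : i0 ≫ prA = 𝟙 A) (h2 : i0 ≫ prB = toUnit A ≫ zero) (h3 : i0 ≫ m = toUnit A ≫ zero)
    (d : W' ⟶ W) [IsReduced W.left] [IsDominant d.left]
    (prB' : W' ⟶ V) (m' : W' ⟶ V) (h4 : prB' ≫ j = d ≫ prB) (h5 : m' ≫ j = d ≫ m)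
    (h6 : m' ≫ lam = (d ≫ prA ≫ sig) * (prB' ≫ lam))
    (hlift : ∀ (T : Over S) (g : T ⟶ G), ∃ g' : T ⟶ A, g' ≫ sig = g) :
    a.IsFixedPt (zero ≫ phi) := by
  let b := Magnet.MonAct.ofAction a
  have hb : b.act = a.act := rfl
  have key : lift (prA ≫ sig) (prB ≫ phi) ≫ a.act = m ≫ phi := by
    apply Over.OverMorphism.ext
    refine ext_of_isDominant_of_isSeparated X.hom ?_ d.left ?_
    · rw [Over.w, Over.w]
    · rw [← Over.comp_left, ← Over.comp_left]
      congr 1
      have hV : ∀ q : W' ⟶ V, q ≫ j ≫ phi = lift (q ≫ lam) (toUnit W' ≫ x₀) ≫ a.act := by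
        intro q
        rw [hphi, ← Category.assoc, comp_lift, ← Category.assoc q (toUnit V),
          toUnit_unique (q ≫ toUnit V) (toUnit W')]
      have hL : d ≫ (lift (prA ≫ sig) (prB ≫ phi) ≫ a.act) =
          lift ((d ≫ prA ≫ sig) * (prB' ≫ lam)) (toUnit W' ≫ x₀) ≫ a.act := by
        have h7 := b.lift_mul_act (d ≫ prA ≫ sig) (prB' ≫ lam) (toUnit W' ≫ x₀)
        rw [hb] at h7
        rw [h7, ← hV prB', ← Category.assoc prB', h4, ← Category.assoc, comp_lift, Category.assoc]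
      have hR : d ≫ m ≫ phi = lift (m' ≫ lam) (toUnit W' ≫ x₀) ≫ a.act := by
        rw [← hV m', ← Category.assoc m', h5, Category.assoc]
      rw [hL, hR, h6]
  intro T g
  obtain ⟨g', rfl⟩ := hlift T g
  have e1 : (g' ≫ i0) ≫ (lift (prA ≫ sig) (prB ≫ phi) ≫ a.act) =
      lift (g' ≫ sig) (toUnit T ≫ zero ≫ phi) ≫ a.act := by
    rw [← Category.assoc, comp_lift, Category.assoc g', ← Category.assoc i0, h1, Category.id_comp,
      Category.assoc g', ← Category.assoc i0 prB, h2, Category.assoc, ← Category.assoc g',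
      toUnit_unique (g' ≫ toUnit A) (toUnit T)]
  have e2 : (g' ≫ i0) ≫ m ≫ phi = toUnit T ≫ zero ≫ phi := by
    rw [Category.assoc, ← Category.assoc i0, h3, Category.assoc, ← Category.assoc g',
      toUnit_unique (g' ≫ toUnit A) (toUnit T)]
  rw [← e1, key, e2]

end Groth.Agent.Lib.Helper29.FixPt
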