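import Groth.Agent.Lib.Helper21.RatExt
import Mathlib.RingTheory.DedekindDomain.Dvr
import Mathlib.RingTheory.DedekindDomain.PID
import Mathlib.AlgebraicGeometry.Morphisms.Proper

/-! Extending a morphism from the punctured affine line over a field to a proper scheme
(helper29, for S15592). -/

set_option autoImplicit false
universe u
open CategoryTheory CategoryTheory.Limits AlgebraicGeometry TopologicalSpace

namespace Groth.Agent.Lib.Helper29.FixPt

open Polynomial

variable (k : Type u) [Field k]

/-- the stalks of the affine line at nonzero primes are valuation rings. -/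
theorem stalk_valuationRing (y : ↥(Spec (CommRingCat.of k[X])))
    (hy : (y : PrimeSpectrum k[X]).asIdeal ≠ ⊥) :
    ∃ _ : IsDomain ((Spec (CommRingCat.of k[X])).presheaf.stalk y),
      ValuationRing ((Spec (CommRingCat.of k[X])).presheaf.stalk y) := by
  letI : Algebra k[X] ((Spec (CommRingCat.of k[X])).presheaf.stalk y) :=
    StructureSheaf.stalkAlgebra (R := k[X]) y
  haveI hloc : IsLocalization.AtPrime ((Spec (CommRingCat.of k[X])).presheaf.stalk y)
      (y : PrimeSpectrum k[X]).asIdeal := StructureSheaf.IsLocalization.to_stalk (R := k[X]) y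
  haveI hd : IsDomain ((Spec (CommRingCat.of k[X])).presheaf.stalk y) :=
    IsLocalization.isDomain_of_atPrime _ (y : PrimeSpectrum k[X]).asIdeal
  haveI := IsLocalization.AtPrime.isDiscreteValuationRing_of_dedekind_domain k[X] hy
    ((Spec (CommRingCat.of k[X])).presheaf.stalk y)
  exact ⟨hd, inferInstance⟩

set_option maxHeartbeats 1000000 in
/-- a morphism from the punctured affine line to a proper `k`-scheme extends to the line. -/
theorem exists_extension {Y : Scheme.{u}} (p : Y ⟶ Spec (CommRingCat.of k)) [IsProper p]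
    (o : Spec (CommRingCat.of (Localization.Away (X : k[X]))) ⟶ Y)
    (ho : o ≫ p = Spec.map (CommRingCat.ofHom (algebraMap k (Localization.Away (X : k[X]))))) :
    ∃ φ : Spec (CommRingCat.of k[X]) ⟶ Y,
      φ ≫ p = Spec.map (CommRingCat.ofHom (algebraMap k k[X])) ∧
      Spec.map (CommRingCat.ofHom (algebraMap k[X] (Localization.Away (X : k[X])))) ≫ φ = o := by
  let B : Scheme.{u} := Spec (CommRingCat.of k[X])
  let c : B ⟶ Spec (CommRingCat.of k) := Spec.map (CommRingCat.ofHom (algebraMap k k[X]))
  let q : pullback p c ⟶ B := pullback.snd p c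
  let Vo : B.Opens := PrimeSpectrum.basicOpen (X : k[X])
  let e := basicOpenIsoSpecAway (R := CommRingCat.of k[X]) (X : k[X])
  have he : e.hom ≫ Spec.map (CommRingCat.ofHom (algebraMap k[X] (Localization.Away (X : k[X])))) =
      Vo.ι := basicOpenIsoSpecAway_hom_SpecMap (R := CommRingCat.of k[X]) (X : k[X])
  haveI : IrreducibleSpace ↥B := inferInstanceAs (IrreducibleSpace (PrimeSpectrum k[X]))
  have hne : (Vo : Set B).Nonempty := by
    refine ⟨(⟨⊥, Ideal.isPrime_bot⟩ : PrimeSpectrum k[X]), ?_⟩
    change (X : k[X]) ∉ (⊥ : Ideal k[X])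
    rw [Ideal.mem_bot]
    exact X_ne_zero
  have hV : Dense (Vo : Set B) := Vo.isOpen.dense hne
  have halg : algebraMap k (Localization.Away (X : k[X])) =
      (algebraMap k[X] (Localization.Away (X : k[X]))).comp (algebraMap k k[X]) :=
    IsScalarTower.algebraMap_eq k k[X] (Localization.Away (X : k[X]))
  let s : (Vo : Scheme.{u}) ⟶ pullback p c := pullback.lift (e.hom ≫ o) Vo.ι (by
    rw [Category.assoc, ho, halg, CommRingCat.ofHom_comp, Spec.map_comp, ← Category.assoc, he])
  have hs : s ≫ q = Vo.ι := pullback.lift_snd _ _ _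
  have hq : IsClosedMap q := q.isClosedMap
  obtain ⟨U, hVU, s', hs', hs's, hU⟩ := Groth.Agent.Lib.Helper21.RatExt.exists_extension_of_forall_local
    q Vo hV s hs (fun y => y ∉ Vo) (by
      intro y hy
      have hy' : (y : PrimeSpectrum k[X]).asIdeal ≠ ⊥ := by
        intro h0
        apply hy
        change (X : k[X]) ∉ (y : PrimeSpectrum k[X]).asIdeal
        rw [h0, Ideal.mem_bot]
        exact X_ne_zero
      obtain ⟨hd, hv⟩ := stalk_valuationRing k y hy'
      exact Groth.Agent.Lib.Helper21.RatExt.exists_local_extension q hq Vo hV s hs y)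
  have hUtop : U = ⊤ := by
    rw [eq_top_iff]
    intro y _
    by_cases hy : y ∈ Vo
    · exact hVU hy
    · exact hU y hy
  subst hUtop
  refine ⟨B.topIso.inv ≫ s' ≫ pullback.fst p c, ?_, ?_⟩
  · rw [Category.assoc, Category.assoc, pullback.condition, ← Category.assoc s', hs',
      Scheme.toIso_inv_ι_assoc]
  · have h1 : Spec.map (CommRingCat.ofHom (algebraMap k[X] (Localization.Away (X : k[X])))) =
        e.inv ≫ B.homOfLE hVU ≫ (⊤ : B.Opens).ι := by
      rw [Scheme.homOfLE_ι, ← he, Iso.inv_hom_id_assoc]
    rw [h1, Category.assoc, Category.assoc, Scheme.ι_toIso_inv_assoc, ← Category.assoc (B.homOfLE hVU),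
      hs's, pullback.lift_fst, Iso.inv_hom_id_assoc]

end Groth.Agent.Lib.Helper29.FixPt
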