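import Groth.Agent.Lib.Helper21.DSPts
import Groth.Agent.Lib.Helper21.GaPts
import Groth.Agent.Lib.Helper29.AffLine

/-! `k`-algebras as schemes over `Spec k`, and their points in `𝔾_m`, `𝔾_a`
(helper29, for S15592). -/

set_option autoImplicit false
universe u
open CategoryTheory CategoryTheory.Limits MonoidalCategory CartesianMonoidalCategory MonObj
  AlgebraicGeometry
open Groth.Agent.Lib.Helper21.GaPts Groth.Agent.Lib.Helper29.AffLine

namespace Groth.Agent.Lib.Helper29.FixPt

variable (k : Type u) [Field k]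

section Sp

variable (R R' R'' : Type u) [CommRing R] [CommRing R'] [CommRing R''] [Algebra k R] [Algebra k R']
  [Algebra k R'']

/-- a `k`-algebra as a scheme over `Spec k`. -/
noncomputable def sp : Over (Spec (CommRingCat.of k)) :=
  Over.mk (Spec.map (CommRingCat.ofHom (algebraMap k R)))

variable {R R' R''}

/-- a `k`-algebra map as a morphism over `Spec k`. -/
noncomputable def spMap (f : R →ₐ[k] R') : sp k R' ⟶ sp k R :=
  Over.homMk (Spec.map (CommRingCat.ofHom f.toRingHom)) (by
    change Spec.map _ ≫ Spec.map _ = Spec.map _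
    rw [← Spec.map_comp, ← CommRingCat.ofHom_comp]
    exact congrArg (fun t => Spec.map (CommRingCat.ofHom t)) f.comp_algebraMap)

theorem spMap_left (f : R →ₐ[k] R') :
    (spMap k f).left = Spec.map (CommRingCat.ofHom f.toRingHom) := rfl

theorem spMap_comp (f : R →ₐ[k] R') (g : R' →ₐ[k] R'') :
    spMap k g ≫ spMap k f = spMap k (g.comp f) := by
  ext : 1
  change Spec.map _ ≫ Spec.map _ = Spec.map _
  rw [← Spec.map_comp, ← CommRingCat.ofHom_comp]
  rfl

theorem spMap_id : spMap k (AlgHom.id k R) = 𝟙 (sp k R) := by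
  ext : 1
  exact Spec.map_id _

variable (R)

/-- elements as global functions. -/
noncomputable def fnHom : R →+* Γ((sp k R).left, ⊤) :=
  (Scheme.ΓSpecIso (CommRingCat.of R)).inv.hom

variable {R}

theorem spMap_fn (f : R →ₐ[k] R') (r : R) :
    (spMap k f).left.appTop.hom (fnHom k R r) = fnHom k R' (f r) := by
  have h := Scheme.ΓSpecIso_inv_naturality (CommRingCat.ofHom f.toRingHom)
  exact (congrArg (fun t => t.hom r) h).symm

theorem spMap_ext {T : Over (Spec (CommRingCat.of k))} (a b : T ⟶ sp k R)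
    (h : ∀ r : R, a.left.appTop.hom (fnHom k R r) = b.left.appTop.hom (fnHom k R r)) : a = b := by
  ext : 1
  apply evalHom_injective
  ext r
  exact h r

end Sp

section Pts

variable {R R' : Type u} [CommRing R] [CommRing R'] [Algebra k R] [Algebra k R']

/-- a morphism to `sp k R` from a ring map to global functions. -/
noncomputable def toSp {T : Over (Spec (CommRingCat.of k))} (ψ : R →+* Γ(T.left, ⊤))
    (hψ : ψ.comp (algebraMap k R) = evalHom T.hom) : T ⟶ sp k R :=
  Over.homMk (ofRingHom ψ) (by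
    apply evalHom_injective
    change evalHom (ofRingHom ψ ≫ Spec.map (CommRingCat.ofHom (algebraMap k R))) = _
    rw [evalHom_specMap, evalHom_ofRingHom, hψ])

theorem toSp_fn {T : Over (Spec (CommRingCat.of k))} (ψ : R →+* Γ(T.left, ⊤))
    (hψ : ψ.comp (algebraMap k R) = evalHom T.hom) (r : R) :
    (toSp k ψ hψ).left.appTop.hom (fnHom k R r) = ψ r := by
  have h := evalHom_ofRingHom (Y := T.left) ψ
  exact congrArg (fun t => t r) h

theorem gm_ext {T : Over (Spec (CommRingCat.of k))}
    (x y : T ⟶ Red.Gm (Spec (CommRingCat.of k)))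
    (h : dsFn (1 : ℤ) x =
      dsFn (1 : ℤ) y) : x = y := by
  have h1 : dsChar x = dsChar y :=
    MonoidHom.ext_mint h
  rw [← dsPt_dsChar x, h1,
    dsPt_dsChar]

/-- the `𝔾_m`-point of a unit. -/
noncomputable def gmPt (v : Rˣ) : sp k R ⟶ Red.Gm (Spec (CommRingCat.of k)) :=
  dsPt (chiG (Units.map (fnHom k R).toMonoidHom v))

theorem dsFn_gmPt (v : Rˣ) :
    dsFn (1 : ℤ) (gmPt k v) = fnHom k R (v : R) := by
  rw [gmPt, dsFn_dsPt]
  change ((Units.map (fnHom k R).toMonoidHom v ^ (1 : ℤ) : Γ((sp k R).left, ⊤)ˣ) :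
    Γ((sp k R).left, ⊤)) = _
  rw [zpow_one]
  rfl

theorem spMap_gmPt (f : R →ₐ[k] R') (v : Rˣ) :
    spMap k f ≫ gmPt k v = gmPt k (Units.map f.toRingHom.toMonoidHom v) := by
  apply gm_ext
  rw [dsFn_comp, dsFn_gmPt, dsFn_gmPt]
  exact spMap_fn k f _

theorem gmPt_mul (v w : Rˣ) : gmPt k (v * w) = gmPt k v * gmPt k w := by
  apply gm_ext
  rw [dsFn_mul, dsFn_gmPt, dsFn_gmPt, dsFn_gmPt, Units.val_mul,
    map_mul]

/-- the `𝔾_a`-point of an element. -/
noncomputable def gaPtR (r : R) : sp k R ⟶ Red.Ga (Spec (CommRingCat.of k)) :=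
  gaPt (fnHom k R r)

theorem spMap_gaPtR (f : R →ₐ[k] R') (r : R) :
    spMap k f ≫ gaPtR k r = gaPtR k (f r) := by
  rw [gaPtR, gaPt_comp, gaPtR]
  congr 1
  exact spMap_fn k f r

theorem gaPtR_add (r r' : R) : gaPtR k (r + r') = gaPtR k r * gaPtR k r' := by
  rw [gaPtR, map_add, gaPt_add]
  rfl

end Pts

section Lift

open Polynomial

/-- the unit `X` of `k[X, X⁻¹]`. -/
noncomputable def unitX : (Localization.Away (X : k[X]))ˣ :=
  (IsLocalization.map_units (Localization.Away (X : k[X]))
    (⟨X, Submonoid.mem_powers X⟩ : Submonoid.powers (X : k[X]))).unit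

theorem unitX_val :
    ((unitX k : (Localization.Away (X : k[X]))ˣ) : Localization.Away (X : k[X])) =
      algebraMap k[X] (Localization.Away (X : k[X])) X := rfl

theorem exists_lift_gm (T : Over (Spec (CommRingCat.of k)))
    (g : T ⟶ Red.Gm (Spec (CommRingCat.of k))) :
    ∃ g' : T ⟶ sp k (Localization.Away (X : k[X])), g' ≫ gmPt k (unitX k) = g := by
  have hv : IsUnit (dsFn (1 : ℤ) g) := isUnit_dsFn 1 g
  let ψ₀ : k[X] →+* Γ(T.left, ⊤) := eval₂RingHom (evalHom T.hom) (dsFn (1 : ℤ) g)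
  have hψ₀X : ψ₀ X = dsFn (1 : ℤ) g := by
    change eval₂ _ _ X = _
    rw [eval₂_X]
  have hψ₀C : ∀ c : k, ψ₀ (C c) = evalHom T.hom c := by
    intro c
    change eval₂ _ _ (C c) = _
    rw [eval₂_C]
  have hψ₀ : IsUnit (ψ₀ X) := by rw [hψ₀X]; exact hv
  let ψ : Localization.Away (X : k[X]) →+* Γ(T.left, ⊤) := IsLocalization.Away.lift (X : k[X]) hψ₀
  have hψ : ψ.comp (algebraMap k (Localization.Away (X : k[X]))) = evalHom T.hom := by
    ext c
    rw [RingHom.comp_apply, IsScalarTower.algebraMap_apply k k[X] (Localization.Away (X : k[X])),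
      IsLocalization.Away.lift_eq]
    exact hψ₀C c
  refine ⟨toSp k ψ hψ, ?_⟩
  apply gm_ext
  rw [dsFn_comp, dsFn_gmPt]
  change (toSp k ψ hψ).left.appTop.hom _ = _
  rw [toSp_fn, unitX_val, IsLocalization.Away.lift_eq, hψ₀X]

theorem exists_lift_ga (T : Over (Spec (CommRingCat.of k)))
    (g : T ⟶ Red.Ga (Spec (CommRingCat.of k))) :
    ∃ g' : T ⟶ sp k k[X], g' ≫ gaPtR k (X : k[X]) = g := by
  let ψ : k[X] →+* Γ(T.left, ⊤) := eval₂RingHom (evalHom T.hom) (Red.gaFn g)
  have hψX : ψ X = Red.gaFn g := by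
    change eval₂ _ _ X = _
    rw [eval₂_X]
  have hψ : ψ.comp (algebraMap k k[X]) = evalHom T.hom := by
    ext c
    change eval₂ _ _ (C c) = _
    rw [eval₂_C]
  refine ⟨toSp k ψ hψ, ?_⟩
  apply gaFn_injective
  rw [gaFn_comp, gaPtR, gaFn_gaPt]
  change (toSp k ψ hψ).left.appTop.hom _ = _
  rw [toSp_fn, hψX]

end Lift

section Dom

variable {R R' : Type u} [CommRing R] [CommRing R'] [Algebra k R] [Algebra k R']

theorem isDominant_spMap (f : R →ₐ[k] R') (hf : Function.Injective f) :
    IsDominant (spMap k f).left := by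
  constructor
  change DenseRange (PrimeSpectrum.comap f.toRingHom)
  rw [PrimeSpectrum.denseRange_comap_iff_ker_le_nilRadical]
  rw [(RingHom.injective_iff_ker_eq_bot f.toRingHom).1 hf]
  exact bot_le

/-- the zero section of the affine line. -/
noncomputable def zeroPt : 𝟙_ (Over (Spec (CommRingCat.of k))) ⟶ sp k (Polynomial k) :=
  Over.homMk (Spec.map (CommRingCat.ofHom (Polynomial.evalRingHom (0 : k)))) (by
    change Spec.map _ ≫ Spec.map _ = 𝟙 _
    rw [← Spec.map_comp, ← CommRingCat.ofHom_comp]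
    have : (Polynomial.evalRingHom (0 : k)).comp (algebraMap k (Polynomial k)) = RingHom.id k := by
      ext c
      simp
    rw [this]
    exact Spec.map_id _)

/-- a morphism to the affine line which kills the coordinate is the zero section. -/
theorem eq_zeroPt (f : Polynomial k →ₐ[k] R) (hf : f Polynomial.X = 0) :
    spMap k f = toUnit (sp k R) ≫ zeroPt k := by
  ext : 1
  change Spec.map _ = Spec.map _ ≫ Spec.map _
  rw [← Spec.map_comp, ← CommRingCat.ofHom_comp]
  congr 2
  apply Polynomial.ringHom_ext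
  · intro c
    change f (Polynomial.C c) = algebraMap k R (Polynomial.eval 0 (Polynomial.C c))
    rw [Polynomial.eval_C]
    exact f.commutes c
  · change f Polynomial.X = algebraMap k R (Polynomial.eval 0 Polynomial.X)
    rw [hf, Polynomial.eval_X, map_zero]

end Dom

end Groth.Agent.Lib.Helper29.FixPt
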