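import Groth.Agent.Lib.Helper29.FixPt1
import Groth.Agent.Lib.Helper29.FixPt2
import Groth.Agent.Lib.Helper29.FixPt3

/-! The multiplicative group acting on a proper scheme over a field with a rational point has a
fixed rational point (helper29, for S15592). -/

set_option autoImplicit false
universe u
open CategoryTheory CategoryTheory.Limits MonoidalCategory CartesianMonoidalCategory MonObj
  AlgebraicGeometry
open Groth.Agent.Lib.Helper21.GaPts Groth.Agent.Lib.Helper29.AffLine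

namespace Groth.Agent.Lib.Helper29.FixPt

open Polynomial

variable (k : Type u) [Field k]

/-- `k[X, X⁻¹]`. -/
abbrev K1 : Type u := Localization.Away (X : k[X])

instance : IsDomain (K1 k) :=
  IsLocalization.isDomain_localization
    (powers_le_nonZeroDivisors_of_noZeroDivisors (X_ne_zero : (X : k[X]) ≠ 0))

section AwayLift

variable {R' : Type u} [CommRing R'] [Algebra k R']

/-- the `k`-algebra map `k[X, X⁻¹] → R'` of a unit. -/
noncomputable def awayLift (r : R') (hr : IsUnit r) : K1 k →ₐ[k] R' :=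
  IsLocalization.liftAlgHom (M := Submonoid.powers (X : k[X])) (f := aeval r) (by
    rintro ⟨y, n, rfl⟩
    change IsUnit (aeval r ((X : k[X]) ^ n))
    rw [map_pow, aeval_X]
    exact hr.pow n)

theorem awayLift_algebraMap (r : R') (hr : IsUnit r) (p : k[X]) :
    awayLift k r hr (algebraMap k[X] (K1 k) p) = aeval r p :=
  IsLocalization.lift_eq _ _

theorem awayLift_unitX (r : R') (hr : IsUnit r) :
    awayLift k r hr ((unitX k : (K1 k)ˣ) : K1 k) = r := by
  rw [unitX_val, awayLift_algebraMap, aeval_X]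

theorem awayLift_comp (r : R') (hr : IsUnit r) :
    (awayLift k r hr).comp (IsScalarTower.toAlgHom k k[X] (K1 k)) = aeval r := by
  apply Polynomial.algHom_ext
  change awayLift k r hr (algebraMap k[X] (K1 k) X) = _
  rw [awayLift_algebraMap]

end AwayLift

section Gm

/-- `k[X, X⁻¹][Y]`. -/
abbrev P1 : Type u := Polynomial (K1 k)

/-- `k[X, X⁻¹][Y, Y⁻¹]`. -/
abbrev K2 : Type u := Localization.Away (X : P1 k)

noncomputable def jAlg : k[X] →ₐ[k] K1 k := IsScalarTower.toAlgHom k k[X] (K1 k)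

noncomputable def prAAlg : K1 k →ₐ[k] P1 k := IsScalarTower.toAlgHom k (K1 k) (P1 k)

noncomputable def prBAlg : k[X] →ₐ[k] P1 k := aeval (X : P1 k)

noncomputable def mAlg : k[X] →ₐ[k] P1 k := aeval (C ((unitX k : (K1 k)ˣ) : K1 k) * X : P1 k)

noncomputable def i0Alg : P1 k →ₐ[k] K1 k := (aeval (0 : K1 k) : P1 k →ₐ[K1 k] K1 k).restrictScalars k

noncomputable def dAlg : P1 k →ₐ[k] K2 k := IsScalarTower.toAlgHom k (P1 k) (K2 k)

theorem isUnit_dAlg_X : IsUnit (dAlg k (X : P1 k)) :=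
  IsLocalization.map_units (K2 k) (⟨X, Submonoid.mem_powers X⟩ : Submonoid.powers (X : P1 k))

theorem isUnit_dAlg_C : IsUnit (dAlg k (C ((unitX k : (K1 k)ˣ) : K1 k))) :=
  ((unitX k).isUnit.map (C : K1 k →+* P1 k)).map (dAlg k)

theorem isUnit_dAlg_m : IsUnit (dAlg k (C ((unitX k : (K1 k)ˣ) : K1 k) * X : P1 k)) := by
  rw [map_mul]
  exact (isUnit_dAlg_C k).mul (isUnit_dAlg_X k)

noncomputable def prB'Alg : K1 k →ₐ[k] K2 k := awayLift k _ (isUnit_dAlg_X k)

noncomputable def m'Alg : K1 k →ₐ[k] K2 k := awayLift k _ (isUnit_dAlg_m k)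

theorem h1Alg : (i0Alg k).comp (prAAlg k) = AlgHom.id k (K1 k) := by
  refine AlgHom.ext fun r => ?_
  change aeval (0 : K1 k) (C r : P1 k) = r
  rw [aeval_C]
  rfl

theorem h2Alg : ((i0Alg k).comp (prBAlg k)) X = 0 := by
  change aeval (0 : K1 k) (aeval (X : P1 k) (X : k[X])) = 0
  rw [aeval_X, aeval_X]

theorem h3Alg : ((i0Alg k).comp (mAlg k)) X = 0 := by
  change aeval (0 : K1 k) (aeval (C ((unitX k : (K1 k)ˣ) : K1 k) * X : P1 k) (X : k[X])) = 0
  rw [aeval_X, map_mul, aeval_X, mul_zero]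

theorem h4Alg : (prB'Alg k).comp (jAlg k) = (dAlg k).comp (prBAlg k) := by
  rw [prB'Alg, jAlg, awayLift_comp, prBAlg, ← Polynomial.aeval_algHom]

theorem h5Alg : (m'Alg k).comp (jAlg k) = (dAlg k).comp (mAlg k) := by
  rw [m'Alg, jAlg, awayLift_comp, mAlg, ← Polynomial.aeval_algHom]

theorem h6Units :
    Units.map (m'Alg k).toRingHom.toMonoidHom (unitX k) =
      Units.map ((dAlg k).comp (prAAlg k)).toRingHom.toMonoidHom (unitX k) *
        Units.map (prB'Alg k).toRingHom.toMonoidHom (unitX k) := by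
  apply Units.ext
  change m'Alg k ((unitX k : (K1 k)ˣ) : K1 k) =
    dAlg k (prAAlg k ((unitX k : (K1 k)ˣ) : K1 k)) * prB'Alg k ((unitX k : (K1 k)ˣ) : K1 k)
  rw [m'Alg, awayLift_unitX, prB'Alg, awayLift_unitX, map_mul]
  rfl

theorem dAlg_injective : Function.Injective (dAlg k) :=
  IsLocalization.injective (K2 k)
    (powers_le_nonZeroDivisors_of_noZeroDivisors (X_ne_zero : (X : P1 k) ≠ 0))

end Gm

section GmMain

variable {k}

set_option maxHeartbeats 1000000 in
theorem fixed_of_gm {G X : Over (Spec (CommRingCat.of k))} [GrpObj G] [IsProper X.hom]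
    (a : AlgGrp.Action G X) (x₀ : 𝟙_ (Over (Spec (CommRingCat.of k))) ⟶ X)
    (inc : Red.Gm (Spec (CommRingCat.of k)) ⟶ G) [IsMonHom inc]
    (π : G ⟶ Red.Gm (Spec (CommRingCat.of k))) (hπ : π ≫ inc = 𝟙 G) :
    ∃ x : 𝟙_ (Over (Spec (CommRingCat.of k))) ⟶ X, a.IsFixedPt x := by
  let V := sp k (K1 k)
  let lam : V ⟶ G := gmPt k (unitX k) ≫ inc
  let o : V ⟶ X := lift lam (toUnit V ≫ x₀) ≫ a.act
  obtain ⟨φ₀, hφ₀p, hφ₀o⟩ := exists_extension k X.hom o.left (Over.w o)
  let φ : sp k k[X] ⟶ X := Over.homMk φ₀ hφ₀p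
  have hphi : spMap k (jAlg k) ≫ φ = o := by
    ext : 1
    exact hφ₀o
  refine ⟨zeroPt k ≫ φ, ?_⟩
  haveI : IsReduced (sp k (P1 k)).left :=
    inferInstanceAs (IsReduced (Spec (CommRingCat.of (P1 k))))
  haveI : IsDominant (spMap k (dAlg k)).left := isDominant_spMap k _ (dAlg_injective k)
  refine fixed_of_data a (sp k k[X]) V V (sp k (P1 k)) (sp k (K2 k)) (spMap k (jAlg k)) lam lam
    (zeroPt k) φ x₀ hphi
    (spMap k (prAAlg k)) (spMap k (prBAlg k)) (spMap k (mAlg k)) (spMap k (i0Alg k))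
    ?_ ?_ ?_ (spMap k (dAlg k)) (spMap k (prB'Alg k)) (spMap k (m'Alg k)) ?_ ?_ ?_ ?_
  · rw [spMap_comp, h1Alg, spMap_id]
  · rw [spMap_comp]
    exact eq_zeroPt k _ (h2Alg k)
  · rw [spMap_comp]
    exact eq_zeroPt k _ (h3Alg k)
  · rw [spMap_comp, spMap_comp, h4Alg]
  · rw [spMap_comp, spMap_comp, h5Alg]
  · change spMap k (m'Alg k) ≫ gmPt k (unitX k) ≫ inc =
      (spMap k (dAlg k) ≫ spMap k (prAAlg k) ≫ gmPt k (unitX k) ≫ inc) *
        (spMap k (prB'Alg k) ≫ gmPt k (unitX k) ≫ inc)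
    rw [← Category.assoc, spMap_gmPt, ← Category.assoc (spMap k (prAAlg k)),
      ← Category.assoc (spMap k (dAlg k)), ← Category.assoc (spMap k (dAlg k)), spMap_comp,
      spMap_gmPt, ← Category.assoc (spMap k (prB'Alg k)), spMap_gmPt, ← MonObj.mul_comp,
      ← gmPt_mul, h6Units]
  · intro T g
    obtain ⟨g', hg'⟩ := exists_lift_gm k T (g ≫ π)
    refine ⟨g', ?_⟩
    change g' ≫ gmPt k (unitX k) ≫ inc = g
    rw [← Category.assoc, hg', Category.assoc, hπ, Category.comp_id]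

end GmMain

end Groth.Agent.Lib.Helper29.FixPt
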