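import Groth.Agent.Lib.Helper29.FixPt4

/-! The additive group acting on a proper scheme over a field with a rational point has a
fixed rational point (helper29, for S15592). -/

set_option autoImplicit false
universe u
open CategoryTheory CategoryTheory.Limits MonoidalCategory CartesianMonoidalCategory MonObj
  AlgebraicGeometry
open Groth.Agent.Lib.Helper21.GaPts Groth.Agent.Lib.Helper29.AffLine

namespace Groth.Agent.Lib.Helper29.FixPt

open Polynomial

variable (k : Type u) [Field k]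

namespace GaCase

/-- `k[s][u]`. -/
abbrev P2 : Type u := Polynomial (Polynomial k)

/-- `1 + s u`. -/
noncomputable def f₀ : P2 k := 1 + C (X : k[X]) * X

theorem f₀_ne_zero : f₀ k ≠ 0 := by
  intro h
  have h1 := congrArg (fun p : P2 k => p.coeff 0) h
  simp [f₀] at h1

/-- `k[s][u]` localised at `1 + s u`. -/
abbrev RW : Type u := Localization.Away (f₀ k)

instance : IsDomain (RW k) :=
  IsLocalization.isDomain_localization
    (powers_le_nonZeroDivisors_of_noZeroDivisors (f₀_ne_zero k))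

/-- the unit `1 + s u`. -/
noncomputable def unitF : (RW k)ˣ :=
  (IsLocalization.map_units (RW k)
    (⟨f₀ k, Submonoid.mem_powers (f₀ k)⟩ : Submonoid.powers (f₀ k))).unit

theorem unitF_val : ((unitF k : (RW k)ˣ) : RW k) = algebraMap (P2 k) (RW k) (f₀ k) := rfl

/-- the coordinate `u` in `RW`. -/
noncomputable def uW : RW k := algebraMap (P2 k) (RW k) X

/-- the coordinate `s` in `RW`. -/
noncomputable def sW : RW k := algebraMap (P2 k) (RW k) (C X)

theorem uW_ne_zero : uW k ≠ 0 := by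
  intro h
  have hinj : Function.Injective (algebraMap (P2 k) (RW k)) :=
    IsLocalization.injective (RW k) (powers_le_nonZeroDivisors_of_noZeroDivisors (f₀_ne_zero k))
  rw [uW, ← map_zero (algebraMap (P2 k) (RW k))] at h
  exact X_ne_zero (hinj h)

theorem unitF_eq : ((unitF k : (RW k)ˣ) : RW k) = 1 + sW k * uW k := by
  rw [unitF_val]
  unfold f₀
  rw [RingHom.map_add, RingHom.map_one, RingHom.map_mul]
  rfl

/-- `RW` localised at `u`. -/
abbrev RW' : Type u := Localization.Away (uW k)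

noncomputable def prAAlg : k[X] →ₐ[k] RW k :=
  (IsScalarTower.toAlgHom k (P2 k) (RW k)).comp (IsScalarTower.toAlgHom k k[X] (P2 k))

theorem prAAlg_X : prAAlg k X = sW k := rfl

noncomputable def prBAlg : k[X] →ₐ[k] RW k := aeval (uW k)

noncomputable def mAlg : k[X] →ₐ[k] RW k := aeval (uW k * ((unitF k)⁻¹ : (RW k)ˣ))

/-- `u ↦ 0`. -/
noncomputable def e0 : P2 k →ₐ[k] k[X] :=
  (aeval (0 : k[X]) : P2 k →ₐ[k[X]] k[X]).restrictScalars k

theorem e0_X : e0 k X = 0 := by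
  change aeval (0 : k[X]) (X : P2 k) = 0
  rw [aeval_X]

theorem e0_C (p : k[X]) : e0 k (C p) = p := by
  change aeval (0 : k[X]) (C p : P2 k) = p
  rw [aeval_C]
  rfl

theorem e0_f₀ : e0 k (f₀ k) = 1 := by
  rw [f₀, map_add, map_one, map_mul, e0_X, mul_zero, add_zero]

noncomputable def i0Alg : RW k →ₐ[k] k[X] :=
  IsLocalization.liftAlgHom (M := Submonoid.powers (f₀ k)) (f := e0 k) (by
    rintro ⟨y, n, rfl⟩
    change IsUnit (e0 k (f₀ k ^ n))
    rw [map_pow, e0_f₀, one_pow]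
    exact isUnit_one)

theorem i0Alg_algebraMap (p : P2 k) : i0Alg k (algebraMap (P2 k) (RW k) p) = e0 k p :=
  IsLocalization.lift_eq _ _

noncomputable def dAlg : RW k →ₐ[k] RW' k := IsScalarTower.toAlgHom k (RW k) (RW' k)

theorem dAlg_injective : Function.Injective (dAlg k) :=
  IsLocalization.injective (RW' k)
    (powers_le_nonZeroDivisors_of_noZeroDivisors (uW_ne_zero k))

theorem isUnit_dAlg_u : IsUnit (dAlg k (uW k)) :=
  IsLocalization.map_units (RW' k) (⟨uW k, Submonoid.mem_powers (uW k)⟩ : Submonoid.powers (uW k))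

theorem isUnit_dAlg_m : IsUnit (dAlg k (uW k * ((unitF k)⁻¹ : (RW k)ˣ))) := by
  rw [map_mul]
  exact (isUnit_dAlg_u k).mul (((unitF k)⁻¹).isUnit.map (dAlg k))

noncomputable def prB'Alg : K1 k →ₐ[k] RW' k := awayLift k _ (isUnit_dAlg_u k)

noncomputable def m'Alg : K1 k →ₐ[k] RW' k := awayLift k _ (isUnit_dAlg_m k)

theorem h1Alg : (i0Alg k).comp (prAAlg k) = AlgHom.id k k[X] := by
  apply Polynomial.algHom_ext
  change i0Alg k (algebraMap (P2 k) (RW k) (C X)) = X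
  rw [i0Alg_algebraMap, e0_C]

theorem h2Alg : ((i0Alg k).comp (prBAlg k)) X = 0 := by
  change i0Alg k (aeval (uW k) (X : k[X])) = 0
  rw [aeval_X, uW, i0Alg_algebraMap, e0_X]

theorem h3Alg : ((i0Alg k).comp (mAlg k)) X = 0 := by
  change i0Alg k (aeval (uW k * ((unitF k)⁻¹ : (RW k)ˣ)) (X : k[X])) = 0
  rw [aeval_X, map_mul, uW, i0Alg_algebraMap, e0_X, zero_mul]

theorem h4Alg : (prB'Alg k).comp (jAlg k) = (dAlg k).comp (prBAlg k) := by
  rw [prB'Alg, jAlg, awayLift_comp, prBAlg, ← Polynomial.aeval_algHom]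

theorem h5Alg : (m'Alg k).comp (jAlg k) = (dAlg k).comp (mAlg k) := by
  rw [m'Alg, jAlg, awayLift_comp, mAlg, ← Polynomial.aeval_algHom]

/-- the key identity `(u / (1 + s u))⁻¹ = s + u⁻¹`. -/
theorem h6Elt :
    m'Alg k (((unitX k)⁻¹ : (K1 k)ˣ) : K1 k) =
      dAlg k (prAAlg k X) + prB'Alg k (((unitX k)⁻¹ : (K1 k)ˣ) : K1 k) := by
  have hz : m'Alg k (((unitX k)⁻¹ : (K1 k)ˣ) : K1 k) *
      (dAlg k (uW k) * dAlg k (((unitF k)⁻¹ : (RW k)ˣ) : RW k)) = 1 := by
    rw [← map_mul (dAlg k), ← awayLift_unitX k _ (isUnit_dAlg_m k), ← m'Alg, ← map_mul,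
      Units.inv_mul, map_one]
  have hb : prB'Alg k (((unitX k)⁻¹ : (K1 k)ˣ) : K1 k) * dAlg k (uW k) = 1 := by
    rw [← awayLift_unitX k _ (isUnit_dAlg_u k), ← prB'Alg, ← map_mul, Units.inv_mul, map_one]
  have hF : dAlg k (((unitF k)⁻¹ : (RW k)ˣ) : RW k) * (1 + dAlg k (sW k) * dAlg k (uW k)) = 1 := by
    rw [← map_mul (dAlg k) (sW k), ← map_one (dAlg k), ← map_add, ← unitF_eq, ← map_mul,
      Units.inv_mul, map_one]
  rw [prAAlg_X]
  linear_combination
    (dAlg k (sW k) + prB'Alg k (((unitX k)⁻¹ : (K1 k)ˣ) : K1 k)) * hz -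
      m'Alg k (((unitX k)⁻¹ : (K1 k)ˣ) : K1 k) *
        (dAlg k (((unitF k)⁻¹ : (RW k)ˣ) : RW k) * hb + hF)

variable {k}

set_option maxHeartbeats 1000000 in
theorem fixed_of_ga {G X : Over (Spec (CommRingCat.of k))} [GrpObj G] [IsProper X.hom]
    (a : AlgGrp.Action G X) (x₀ : 𝟙_ (Over (Spec (CommRingCat.of k))) ⟶ X)
    (inc : Red.Ga (Spec (CommRingCat.of k)) ⟶ G) [IsMonHom inc]
    (π : G ⟶ Red.Ga (Spec (CommRingCat.of k))) (hπ : π ≫ inc = 𝟙 G) :
    ∃ x : 𝟙_ (Over (Spec (CommRingCat.of k))) ⟶ X, a.IsFixedPt x := by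
  let V := sp k (K1 k)
  let lam : V ⟶ G := gaPtR k (((unitX k)⁻¹ : (K1 k)ˣ) : K1 k) ≫ inc
  let sig : sp k k[X] ⟶ G := gaPtR k (Polynomial.X : k[X]) ≫ inc
  let o : V ⟶ X := lift lam (toUnit V ≫ x₀) ≫ a.act
  obtain ⟨φ₀, hφ₀p, hφ₀o⟩ := exists_extension k X.hom o.left (Over.w o)
  let φ : sp k k[X] ⟶ X := Over.homMk φ₀ hφ₀p
  have hphi : spMap k (jAlg k) ≫ φ = o := by
    ext : 1
    exact hφ₀o
  refine ⟨zeroPt k ≫ φ, ?_⟩
  haveI : IsReduced (sp k (RW k)).left :=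
    inferInstanceAs (IsReduced (Spec (CommRingCat.of (RW k))))
  haveI : IsDominant (spMap k (dAlg k)).left := isDominant_spMap k _ (dAlg_injective k)
  refine fixed_of_data a (sp k k[X]) V (sp k k[X]) (sp k (RW k)) (sp k (RW' k))
    (spMap k (jAlg k)) lam sig
    (zeroPt k) φ x₀ hphi
    (spMap k (prAAlg k)) (spMap k (prBAlg k)) (spMap k (mAlg k)) (spMap k (i0Alg k))
    ?_ ?_ ?_ (spMap k (dAlg k)) (spMap k (prB'Alg k)) (spMap k (m'Alg k)) ?_ ?_ ?_ ?_
  · rw [spMap_comp, h1Alg, spMap_id]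
  · rw [spMap_comp]
    exact eq_zeroPt k _ (h2Alg k)
  · rw [spMap_comp]
    exact eq_zeroPt k _ (h3Alg k)
  · rw [spMap_comp, spMap_comp, h4Alg]
  · rw [spMap_comp, spMap_comp, h5Alg]
  · change spMap k (m'Alg k) ≫ gaPtR k (((unitX k)⁻¹ : (K1 k)ˣ) : K1 k) ≫ inc =
      (spMap k (dAlg k) ≫ spMap k (prAAlg k) ≫ gaPtR k (Polynomial.X : k[X]) ≫ inc) *
        (spMap k (prB'Alg k) ≫ gaPtR k (((unitX k)⁻¹ : (K1 k)ˣ) : K1 k) ≫ inc)
    rw [← Category.assoc, spMap_gaPtR, ← Category.assoc (spMap k (prAAlg k)),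
      ← Category.assoc (spMap k (dAlg k)), ← Category.assoc (spMap k (dAlg k)), spMap_comp,
      spMap_gaPtR, ← Category.assoc (spMap k (prB'Alg k)), spMap_gaPtR, ← MonObj.mul_comp,
      ← gaPtR_add, h6Elt]
    rfl
  · intro T g
    obtain ⟨g', hg'⟩ := exists_lift_ga k T (g ≫ π)
    refine ⟨g', ?_⟩
    change g' ≫ gaPtR k (Polynomial.X : k[X]) ≫ inc = g
    rw [← Category.assoc, hg', Category.assoc, hπ, Category.comp_id]

end GaCase

end Groth.Agent.Lib.Helper29.FixPt
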