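import Mathlib
import Groth.Agent.Lib.Helper29.FBCAlg
universe u
open scoped TensorProduct

/-! # Algebra for flat base change of sections: Mayer–Vietoris with a flat tensor, pushout
cancellation, descent of a generator along a faithfully flat map of a semilocal ring -/

namespace Groth.Agent.Lib.Helper29.FlatAlg

section MV
variable {R : Type*} [CommRing R] {S : Type*} [CommRing S] [Algebra R S]
variable {M M1 M2 M12 : Type*} [AddCommGroup M] [AddCommGroup M1] [AddCommGroup M2]
  [AddCommGroup M12] [Module R M] [Module R M1] [Module R M2] [Module R M12]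
variable (r1 : M →ₗ[R] M1) (r2 : M →ₗ[R] M2) (s1 : M1 →ₗ[R] M12) (s2 : M2 →ₗ[R] M12)

theorem prod_decomp (y : S ⊗[R] (M1 × M2)) :
    y = (LinearMap.inl R M1 M2).lTensor S ((LinearMap.fst R M1 M2).lTensor S y) +
      (LinearMap.inr R M1 M2).lTensor S ((LinearMap.snd R M1 M2).lTensor S y) := by
  rw [← LinearMap.comp_apply, ← LinearMap.comp_apply, ← LinearMap.lTensor_comp,
    ← LinearMap.lTensor_comp, ← LinearMap.add_apply, ← LinearMap.lTensor_add]
  have : (LinearMap.inl R M1 M2) ∘ₗ (LinearMap.fst R M1 M2) +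
      (LinearMap.inr R M1 M2) ∘ₗ (LinearMap.snd R M1 M2) =
      (LinearMap.id : M1 × M2 →ₗ[R] M1 × M2) := by
    apply LinearMap.ext
    rintro ⟨a, b⟩
    simp
  rw [this, LinearMap.lTensor_id, LinearMap.id_apply]

variable [Module.Flat R S]

theorem lTensor_sep (hsep : ∀ m, r1 m = 0 → r2 m = 0 → m = 0) (x : S ⊗[R] M)
    (h1 : r1.lTensor S x = 0) (h2 : r2.lTensor S x = 0) : x = 0 := by
  have hρ : Function.Injective (r1.prod r2) := by
    rw [injective_iff_map_eq_zero]
    intro m h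
    have h' := Prod.ext_iff.mp h
    exact hsep m h'.1 h'.2
  have hinj := Module.Flat.lTensor_preserves_injective_linearMap (M := S) (r1.prod r2) hρ
  apply hinj
  rw [map_zero, prod_decomp ((r1.prod r2).lTensor S x)]
  have e1 : (LinearMap.fst R M1 M2).lTensor S ((r1.prod r2).lTensor S x) = r1.lTensor S x := by
    rw [← LinearMap.comp_apply, ← LinearMap.lTensor_comp, LinearMap.fst_prod]
  have e2 : (LinearMap.snd R M1 M2).lTensor S ((r1.prod r2).lTensor S x) = r2.lTensor S x := by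
    rw [← LinearMap.comp_apply, ← LinearMap.lTensor_comp, LinearMap.snd_prod]
  rw [e1, e2, h1, h2, map_zero, map_zero, add_zero]

theorem lTensor_glue (hglue : ∀ m1 m2, s1 m1 = s2 m2 → ∃ m, r1 m = m1 ∧ r2 m = m2)
    (hcomp : ∀ m, s1 (r1 m) = s2 (r2 m)) (x1 : S ⊗[R] M1) (x2 : S ⊗[R] M2)
    (h : s1.lTensor S x1 = s2.lTensor S x2) :
    ∃ x : S ⊗[R] M, r1.lTensor S x = x1 ∧ r2.lTensor S x = x2 := by
  let δ : M1 × M2 →ₗ[R] M12 := s1 ∘ₗ LinearMap.fst R M1 M2 - s2 ∘ₗ LinearMap.snd R M1 M2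
  let ρ : M →ₗ[R] M1 × M2 := r1.prod r2
  have hex : Function.Exact ρ δ := by
    intro y
    constructor
    · intro hy
      obtain ⟨m1, m2⟩ := y
      have : s1 m1 = s2 m2 := by
        have : s1 m1 - s2 m2 = 0 := hy
        exact sub_eq_zero.mp this
      obtain ⟨m, hm1, hm2⟩ := hglue m1 m2 this
      exact ⟨m, Prod.ext hm1 hm2⟩
    · rintro ⟨m, rfl⟩
      change s1 (r1 m) - s2 (r2 m) = 0
      rw [hcomp, sub_self]
  have hex' := Module.Flat.lTensor_exact S hex
  let y : S ⊗[R] (M1 × M2) :=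
    (LinearMap.inl R M1 M2).lTensor S x1 + (LinearMap.inr R M1 M2).lTensor S x2
  have hδinl : δ ∘ₗ LinearMap.inl R M1 M2 = s1 := by
    ext m; simp [δ]
  have hδinr : δ ∘ₗ LinearMap.inr R M1 M2 = -s2 := by
    ext m; simp [δ]
  have hy : δ.lTensor S y = 0 := by
    change δ.lTensor S ((LinearMap.inl R M1 M2).lTensor S x1 +
      (LinearMap.inr R M1 M2).lTensor S x2) = 0
    rw [map_add, ← LinearMap.comp_apply, ← LinearMap.comp_apply, ← LinearMap.lTensor_comp,
      ← LinearMap.lTensor_comp, hδinl, hδinr, LinearMap.lTensor_neg, LinearMap.neg_apply, h,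
      add_neg_cancel]
  obtain ⟨x, hx⟩ := (hex' y).mp hy
  refine ⟨x, ?_, ?_⟩
  · have : r1.lTensor S x = (LinearMap.fst R M1 M2).lTensor S (ρ.lTensor S x) := by
      rw [← LinearMap.comp_apply, ← LinearMap.lTensor_comp, LinearMap.fst_prod]
    rw [this, hx]
    change (LinearMap.fst R M1 M2).lTensor S ((LinearMap.inl R M1 M2).lTensor S x1 +
      (LinearMap.inr R M1 M2).lTensor S x2) = x1
    rw [map_add, ← LinearMap.comp_apply, ← LinearMap.comp_apply, ← LinearMap.lTensor_comp,
      ← LinearMap.lTensor_comp, LinearMap.fst_comp_inl, LinearMap.fst_comp_inr,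
      LinearMap.lTensor_id, LinearMap.lTensor_zero, LinearMap.id_apply, LinearMap.zero_apply,
      add_zero]
  · have : r2.lTensor S x = (LinearMap.snd R M1 M2).lTensor S (ρ.lTensor S x) := by
      rw [← LinearMap.comp_apply, ← LinearMap.lTensor_comp, LinearMap.snd_prod]
    rw [this, hx]
    change (LinearMap.snd R M1 M2).lTensor S ((LinearMap.inl R M1 M2).lTensor S x1 +
      (LinearMap.inr R M1 M2).lTensor S x2) = x2
    rw [map_add, ← LinearMap.comp_apply, ← LinearMap.comp_apply, ← LinearMap.lTensor_comp,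
      ← LinearMap.lTensor_comp, LinearMap.snd_comp_inl, LinearMap.snd_comp_inr,
      LinearMap.lTensor_id, LinearMap.lTensor_zero, LinearMap.id_apply, LinearMap.zero_apply,
      zero_add]

variable {M' M1' M2' M12' : Type*} [AddCommGroup M'] [AddCommGroup M1'] [AddCommGroup M2']
  [AddCommGroup M12']

theorem mv_injective (hsep : ∀ m, r1 m = 0 → r2 m = 0 → m = 0)
    (r1' : M' →+ M1') (r2' : M' →+ M2')
    (c : S ⊗[R] M →+ M') (c1 : S ⊗[R] M1 →+ M1') (c2 : S ⊗[R] M2 →+ M2')
    (sq1 : ∀ x, r1' (c x) = c1 (r1.lTensor S x)) (sq2 : ∀ x, r2' (c x) = c2 (r2.lTensor S x))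
    (h1 : Function.Injective c1) (h2 : Function.Injective c2) : Function.Injective c := by
  rw [injective_iff_map_eq_zero]
  intro x hx
  apply lTensor_sep r1 r2 hsep
  · apply h1
    rw [← sq1, hx, map_zero, map_zero]
  · apply h2
    rw [← sq2, hx, map_zero, map_zero]

theorem mv_bijective (hsep : ∀ m, r1 m = 0 → r2 m = 0 → m = 0)
    (hglue : ∀ m1 m2, s1 m1 = s2 m2 → ∃ m, r1 m = m1 ∧ r2 m = m2)
    (hcomp : ∀ m, s1 (r1 m) = s2 (r2 m))
    (r1' : M' →+ M1') (r2' : M' →+ M2') (s1' : M1' →+ M12') (s2' : M2' →+ M12')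
    (hsep' : ∀ m, r1' m = 0 → r2' m = 0 → m = 0)
    (hcomp' : ∀ m, s1' (r1' m) = s2' (r2' m))
    (c : S ⊗[R] M →+ M') (c1 : S ⊗[R] M1 →+ M1') (c2 : S ⊗[R] M2 →+ M2')
    (c12 : S ⊗[R] M12 →+ M12')
    (sq1 : ∀ x, r1' (c x) = c1 (r1.lTensor S x)) (sq2 : ∀ x, r2' (c x) = c2 (r2.lTensor S x))
    (sq1' : ∀ x, s1' (c1 x) = c12 (s1.lTensor S x))
    (sq2' : ∀ x, s2' (c2 x) = c12 (s2.lTensor S x))
    (h1 : Function.Bijective c1) (h2 : Function.Bijective c2) (h12 : Function.Injective c12) :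
    Function.Bijective c := by
  refine ⟨mv_injective r1 r2 hsep r1' r2' c c1 c2 sq1 sq2 h1.1 h2.1, fun m' => ?_⟩
  obtain ⟨x1, hx1⟩ := h1.2 (r1' m')
  obtain ⟨x2, hx2⟩ := h2.2 (r2' m')
  have h : s1.lTensor S x1 = s2.lTensor S x2 := by
    apply h12
    rw [← sq1', ← sq2', hx1, hx2, hcomp']
  obtain ⟨x, hxa, hxb⟩ := lTensor_glue r1 r2 s1 s2 hglue hcomp x1 x2 h
  refine ⟨x, ?_⟩
  rw [← sub_eq_zero]
  apply hsep'
  · rw [map_sub, sq1, hxa, hx1, sub_self]
  · rw [map_sub, sq2, hxb, hx2, sub_self]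

end MV

section Affine

theorem affine_bijective (R S A B : Type*) [CommRing R] [CommRing S] [CommRing A] [CommRing B]
    [Algebra R S] [Algebra R A] [Algebra A B] [Algebra S B] [Algebra R B]
    [IsScalarTower R A B] [IsScalarTower R S B] [Algebra.IsPushout R S A B]
    (M : Type*) [AddCommGroup M] [Module R M] [Module A M] [IsScalarTower R A M]
    {P : Type*} [AddCommGroup P] [Module B P] (E : P ≃ₗ[B] B ⊗[A] M) (π : M →+ P)
    (hπ : ∀ m, E (π m) = 1 ⊗ₜ m)
    (c : S ⊗[R] M →+ P) (hc : ∀ s m, c (s ⊗ₜ m) = algebraMap S B s • π m) :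
    Function.Bijective c := by
  have key : ∀ x, E (c x) = (Algebra.IsPushout.cancelBaseChange R S A B M).symm x := by
    intro x
    induction x using TensorProduct.induction_on with
    | zero => simp
    | add x y hx hy => rw [map_add, map_add, map_add, hx, hy]
    | tmul s m =>
      rw [hc, map_smul, hπ, Algebra.IsPushout.cancelBaseChange_symm_tmul,
        TensorProduct.smul_tmul', smul_eq_mul, mul_one]
  have : (c : S ⊗[R] M → P) = E.symm ∘ (Algebra.IsPushout.cancelBaseChange R S A B M).symm := by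
    funext x
    rw [Function.comp_apply, ← key, LinearEquiv.symm_apply_apply]
  rw [this]
  exact E.symm.bijective.comp (Algebra.IsPushout.cancelBaseChange R S A B M).symm.bijective

end Affine

section Gen

theorem exists_generator_ff {A A' : Type u} [CommRing A] [CommRing A'] [Algebra A A']
    [Module.FaithfullyFlat A A'] [Finite (MaximalSpectrum A)]
    {M : Type u} [AddCommGroup M] [Module A M] (e : A' ⊗[A] M ≃ₗ[A'] A') :
    ∃ s : M, Function.Bijective (fun a : A => a • s) := by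
  haveI : Module.Flat A' (A' ⊗[A] M) := Module.Flat.of_linearEquiv e
  haveI : Module.Flat A M := Module.Flat.of_flat_tensorProduct A M A'
  haveI : Module.Finite A' (A' ⊗[A] M) := Module.Finite.equiv e.symm
  haveI : Module.Finite A M := Module.Finite.of_finite_tensorProduct_of_faithfullyFlat A'
  have rk : ∀ P : MaximalSpectrum A, Module.finrank (A ⧸ P.1) ((A ⧸ P.1) ⊗[A] M) = 1 := by
    intro P
    haveI := P.2
    exact FBCAlg.finrank_quot_tensor_eq_one e P.1
  obtain ⟨b⟩ := Module.nonempty_basis_of_flat_of_finrank_eq A M 1 rk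
  refine ⟨b 0, ?_, ?_⟩
  · intro a a' h
    have h2 := congrArg (fun m => b.repr m 0) h
    simpa using h2
  · intro m
    refine ⟨b.repr m 0, ?_⟩
    have := b.sum_repr m
    rw [Fin.sum_univ_one] at this
    exact this

theorem exists_generator_ff' {A A' : Type u} [CommRing A] [CommRing A'] [Algebra A A']
    [Module.FaithfullyFlat A A'] [Finite (MaximalSpectrum A)]
    {M : Type u} [AddCommGroup M] [Module A M] {N : Type u} [AddCommGroup N] [Module A' N]
    (c : A' ⊗[A] M →+ N) (hc : Function.Bijective c)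
    (hlin : ∀ (a' : A') (x : A' ⊗[A] M), c (a' • x) = a' • c x)
    (t : N) (ht : Function.Bijective (fun a' : A' => a' • t)) :
    ∃ s : M, Function.Bijective (fun a : A => a • s) := by
  let cl : A' ⊗[A] M →ₗ[A'] N := { toFun := c, map_add' := c.map_add, map_smul' := hlin }
  let ce : A' ⊗[A] M ≃ₗ[A'] N := LinearEquiv.ofBijective cl hc
  let θ : A' ≃ₗ[A'] N := LinearEquiv.ofBijective (LinearMap.toSpanSingleton A' N t) ht
  exact exists_generator_ff (ce.trans θ.symm)

end Gen

end Groth.Agent.Lib.Helper29.FlatAlg
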