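import Groth.Agent.Lib.Helper29.PolyKrull

/-! Morphisms out of `Spec C[X]` determined by their formal germs along `X = 0` (helper29). -/

set_option autoImplicit false
universe u
open CategoryTheory CategoryTheory.Limits AlgebraicGeometry Polynomial

namespace Groth.Agent.Lib.Helper29.SpecPoly

/-- two morphisms agreeing on a jointly surjective flat family are equal. -/
theorem eq_of_flat_family {T₀ Z : Scheme.{u}} (a b : T₀ ⟶ Z) {ι : Type u} (V : ι → Scheme.{u})
    (π : ∀ i, V i ⟶ T₀) [∀ i, Flat (π i)]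
    (hsurj : ∀ t : T₀, ∃ (i : ι) (z : V i), (π i) z = t)
    (h : ∀ i, π i ≫ a = π i ≫ b) : a = b := by
  haveI : Surjective (Sigma.desc π) := ⟨fun t => by
    obtain ⟨i, z, hz⟩ := hsurj t
    refine ⟨(Sigma.ι V i) z, ?_⟩
    rw [← Scheme.Hom.comp_apply, Sigma.ι_desc]
    exact hz⟩
  haveI : Epi (Sigma.desc π) := Flat.epi_of_flat_of_surjective _
  rw [← cancel_epi (Sigma.desc π)]
  apply Sigma.hom_ext
  intro i
  rw [Sigma.ι_desc_assoc, Sigma.ι_desc_assoc]
  exact h i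

variable {C : Type u} [CommRing C] {X₀ : Scheme.{u}}

set_option maxHeartbeats 1000000 in
/-- local equality near the zero section. -/
theorem exists_away (ω₁ ω₂ : Spec (CommRingCat.of C[X]) ⟶ X₀)
    (H : ∀ (B : Type u) [CommRing B] (χ : C[X] →+* B) (e : ℕ), (χ X) ^ (e + 1) = 0 →
      Spec.map (CommRingCat.ofHom χ) ≫ ω₁ = Spec.map (CommRingCat.ofHom χ) ≫ ω₂)
    (𝔭 : PrimeSpectrum C) :
    ∃ g : C[X], g ∉ Ideal.map (Polynomial.C : C →+* C[X]) 𝔭.asIdeal ∧
      Spec.map (CommRingCat.ofHom (algebraMap C[X] (Localization.Away g))) ≫ ω₁ =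
      Spec.map (CommRingCat.ofHom (algebraMap C[X] (Localization.Away g))) ≫ ω₂ := by
  classical
  let ev₀ : C[X] →+* C := Polynomial.constantCoeff
  have h0 := H C ev₀ 0 (by simp [ev₀])
  let 𝔮₀ : Spec (CommRingCat.of C[X]) := (Spec.map (CommRingCat.ofHom ev₀)) 𝔭
  have hx : ω₁ 𝔮₀ = ω₂ 𝔮₀ := by
    change (Spec.map (CommRingCat.ofHom ev₀) ≫ ω₁) 𝔭 = (Spec.map (CommRingCat.ofHom ev₀) ≫ ω₂) 𝔭
    rw [h0]
  obtain ⟨_, ⟨Uo0, hUaff0, rfl⟩, hxU, -⟩ := (X₀.isBasis_affineOpens).exists_subset_of_mem_open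
    (Set.mem_univ (ω₁ 𝔮₀)) isOpen_univ
  let Uo : X₀.Opens := Uo0
  have hUaff : IsAffineOpen Uo := hUaff0
  have hxU : ω₁ 𝔮₀ ∈ Uo := hxU
  let O : (Spec (CommRingCat.of C[X])).Opens := ω₁ ⁻¹ᵁ Uo ⊓ ω₂ ⁻¹ᵁ Uo
  have h𝔮O : 𝔮₀ ∈ O := ⟨hxU, by change ω₂ 𝔮₀ ∈ Uo; rw [← hx]; exact hxU⟩
  let Os : Set (PrimeSpectrum C[X]) := (O : Set (Spec (CommRingCat.of C[X])))
  have hOs : IsOpen Os := O.2
  have h𝔮Os : (𝔮₀ : PrimeSpectrum C[X]) ∈ Os := h𝔮O
  obtain ⟨f, hf𝔮, hfO⟩ : ∃ f : C[X], (𝔮₀ : PrimeSpectrum C[X]) ∈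
      (PrimeSpectrum.basicOpen f : Set (PrimeSpectrum C[X])) ∧
      (PrimeSpectrum.basicOpen f : Set (PrimeSpectrum C[X])) ⊆ Os := by
    obtain ⟨_, ⟨f, rfl⟩, h1, h2⟩ :=
      PrimeSpectrum.isTopologicalBasis_basic_opens.exists_subset_of_mem_open h𝔮Os hOs
    exact ⟨f, h1, h2⟩
  set f₀ := f.coeff 0 with hf₀def
  have hf₀ : f₀ ∉ 𝔭.asIdeal := by
    intro hmem
    apply hf𝔮
    change ev₀ f ∈ 𝔭.asIdeal
    rw [show ev₀ f = f.coeff 0 from Polynomial.constantCoeff_apply f]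
    exact hmem
  let g : C[X] := f * Polynomial.C f₀
  have hg : g ∉ Ideal.map (Polynomial.C : C →+* C[X]) 𝔭.asIdeal := by
    intro hmem
    have h1 := (Ideal.mem_map_C_iff.mp hmem) 0
    rw [Polynomial.mul_coeff_zero, Polynomial.coeff_C_zero] at h1
    exact hf₀ ((𝔭.isPrime.mem_or_mem h1).elim id id)
  refine ⟨g, hg, ?_⟩
  let R := Localization.Away g
  let χR : C[X] →+* R := algebraMap C[X] R
  let j : Spec (CommRingCat.of R) ⟶ Spec (CommRingCat.of C[X]) := Spec.map (CommRingCat.ofHom χR)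
  have hjO : ∀ z : Spec (CommRingCat.of R), j z ∈ O := by
    intro z
    apply hfO
    have h1 : j z ∈ Set.range (PrimeSpectrum.comap (algebraMap C[X] R)) := ⟨z, rfl⟩
    rw [PrimeSpectrum.localization_away_comap_range R g] at h1
    have h2 : PrimeSpectrum.basicOpen g ≤ PrimeSpectrum.basicOpen f := by
      rw [PrimeSpectrum.basicOpen_mul]
      exact inf_le_left
    exact h2 h1
  have hr₁ : Set.range (j ≫ ω₁) ⊆ Set.range Uo.ι := by
    rw [Scheme.Opens.range_ι]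
    rintro _ ⟨z, rfl⟩
    exact (hjO z).1
  have hr₂ : Set.range (j ≫ ω₂) ⊆ Set.range Uo.ι := by
    rw [Scheme.Opens.range_ι]
    rintro _ ⟨z, rfl⟩
    exact (hjO z).2
  let v₁ := IsOpenImmersion.lift Uo.ι (j ≫ ω₁) hr₁
  let v₂ := IsOpenImmersion.lift Uo.ι (j ≫ ω₂) hr₂
  have hv₁ : v₁ ≫ Uo.ι = j ≫ ω₁ := IsOpenImmersion.lift_fac _ _ _
  have hv₂ : v₂ ≫ Uo.ι = j ≫ ω₂ := IsOpenImmersion.lift_fac _ _ _
  haveI : IsAffine Uo.toScheme := hUaff
  have hv : v₁ = v₂ := by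
    apply ext_of_isAffine
    ext s
    have key : (Scheme.ΓSpecIso (CommRingCat.of R)).hom.hom
        (v₁.appTop.hom s - v₂.appTop.hom s) = 0 := by
      apply PolyKrull.eq_zero_of_forall_mem f R
      intro n
      let I : Ideal R := Ideal.span {algebraMap C[X] R (X ^ (n + 1))}
      let mk : R →+* R ⧸ I := Ideal.Quotient.mk I
      have hχ : ((mk.comp χR) X) ^ (n + 1) = 0 := by
        rw [← map_pow]
        exact Ideal.Quotient.eq_zero_iff_mem.mpr (Ideal.subset_span rfl)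
      have h1 := H (R ⧸ I) (mk.comp χR) n hχ
      rw [CommRingCat.ofHom_comp, Spec.map_comp, Category.assoc, Category.assoc] at h1
      change Spec.map (CommRingCat.ofHom mk) ≫ j ≫ ω₁ = Spec.map (CommRingCat.ofHom mk) ≫ j ≫ ω₂ at h1
      rw [← hv₁, ← hv₂, ← Category.assoc, ← Category.assoc, cancel_mono] at h1
      have h2 := congrArg (fun t => t.appTop.hom s) h1
      simp only [Scheme.Hom.comp_appTop, CommRingCat.comp_apply] at h2
      have h3 : (Spec.map (CommRingCat.ofHom mk)).appTop.hom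
          (v₁.appTop.hom s - v₂.appTop.hom s) = 0 := by
        rw [map_sub, h2, sub_self]
      have h4 := congrArg (fun t => t.hom (v₁.appTop.hom s - v₂.appTop.hom s))
        (Scheme.ΓSpecIso_naturality (CommRingCat.ofHom mk))
      have h4' : (Scheme.ΓSpecIso (CommRingCat.of (R ⧸ I))).hom.hom
          ((Spec.map (CommRingCat.ofHom mk)).appTop.hom
            (v₁.appTop.hom s - v₂.appTop.hom s)) =
          mk ((Scheme.ΓSpecIso (CommRingCat.of R)).hom.hom
            (v₁.appTop.hom s - v₂.appTop.hom s)) := h4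
      rw [h3, map_zero] at h4'
      exact Ideal.Quotient.eq_zero_iff_mem.mp h4'.symm
    have hinj : Function.Injective (Scheme.ΓSpecIso (CommRingCat.of R)).hom.hom :=
      (ConcreteCategory.bijective_of_isIso (Scheme.ΓSpecIso (CommRingCat.of R)).hom).1
    have := hinj (key.trans (map_zero _).symm)
    exact sub_eq_zero.mp this
  change j ≫ ω₁ = j ≫ ω₂
  rw [← hv₁, ← hv₂, hv]

/-- the localization map away from `g * X` -/
noncomputable def chi (g : C[X]) : C[X] →+* Localization.Away (g * X) := algebraMap _ _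

set_option maxHeartbeats 1000000 in
/-- **Formal-germ principle**: if `ω₁ ω₂ : Spec C[X] ⟶ X₀` agree on all nilpotent thickenings of
`X = 0`, and equality of `ω₁, ω₂` on a locus where `X` is invertible forces equality of `a, b`
there, then `a = b`. -/
theorem eq_of_formal {Z₀ : Scheme.{u}} (ω₁ ω₂ : Spec (CommRingCat.of C[X]) ⟶ X₀)
    (H : ∀ (B : Type u) [CommRing B] (χ : C[X] →+* B) (e : ℕ), (χ X) ^ (e + 1) = 0 →
      Spec.map (CommRingCat.ofHom χ) ≫ ω₁ = Spec.map (CommRingCat.ofHom χ) ≫ ω₂)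
    (a b : Spec (CommRingCat.of C) ⟶ Z₀)
    (E : ∀ (B : Type u) [CommRing B] (χ : C[X] →+* B), IsUnit (χ X) →
      Spec.map (CommRingCat.ofHom χ) ≫ ω₁ = Spec.map (CommRingCat.ofHom χ) ≫ ω₂ →
      Spec.map (CommRingCat.ofHom (χ.comp Polynomial.C)) ≫ a =
        Spec.map (CommRingCat.ofHom (χ.comp Polynomial.C)) ≫ b) : a = b := by
  classical
  choose g hg hgω using exists_away ω₁ ω₂ H
  let R' : PrimeSpectrum C → Type u := fun 𝔭 => Localization.Away (g 𝔭 * X)
  have hflat : ∀ 𝔭 : PrimeSpectrum C,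
      Flat (Spec.map (CommRingCat.ofHom ((chi (g 𝔭)).comp Polynomial.C))) := by
    intro 𝔭
    rw [Flat.SpecMap_iff]
    change ((chi (g 𝔭)).comp (Polynomial.C : C →+* C[X])).Flat
    apply RingHom.Flat.comp
    · have : (Polynomial.C : C →+* C[X]) = algebraMap C C[X] := rfl
      rw [this, RingHom.flat_algebraMap_iff]
      infer_instance
    · change (algebraMap C[X] (Localization.Away (g 𝔭 * X))).Flat
      rw [RingHom.flat_algebraMap_iff]
      exact IsLocalization.flat _ (Submonoid.powers (g 𝔭 * X))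
  haveI := hflat
  refine eq_of_flat_family a b (fun 𝔭 : PrimeSpectrum C =>
      Spec (CommRingCat.of (Localization.Away (g 𝔭 * X))))
    (fun 𝔭 => Spec.map (CommRingCat.ofHom ((chi (g 𝔭)).comp Polynomial.C))) ?_ ?_
  · intro t
    let 𝔭 : PrimeSpectrum C := t
    let 𝔓 : PrimeSpectrum C[X] := ⟨Ideal.map (Polynomial.C : C →+* C[X]) 𝔭.asIdeal, inferInstance⟩
    have hX : (X : C[X]) ∉ 𝔓.asIdeal := by
      intro hmem
      have h1 := (Ideal.mem_map_C_iff.mp hmem) 1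
      rw [Polynomial.coeff_X_one] at h1
      exact 𝔭.isPrime.ne_top ((Ideal.eq_top_iff_one _).mpr h1)
    have hgX : g 𝔭 * X ∉ 𝔓.asIdeal := by
      intro hmem
      rcases 𝔓.isPrime.mem_or_mem hmem with h1 | h1
      · exact hg 𝔭 h1
      · exact hX h1
    have hmem : 𝔓 ∈ Set.range (PrimeSpectrum.comap (algebraMap C[X] (Localization.Away (g 𝔭 * X)))) := by
      rw [PrimeSpectrum.localization_away_comap_range _ (g 𝔭 * X)]
      exact hgX
    obtain ⟨𝔯, h𝔯⟩ := hmem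
    refine ⟨𝔭, 𝔯, ?_⟩
    change PrimeSpectrum.comap ((chi (g 𝔭)).comp Polynomial.C) 𝔯 = 𝔭
    rw [PrimeSpectrum.comap_comp_apply]
    change PrimeSpectrum.comap Polynomial.C
      (PrimeSpectrum.comap (algebraMap C[X] (Localization.Away (g 𝔭 * X))) 𝔯) = 𝔭
    rw [h𝔯]
    apply PrimeSpectrum.ext
    ext c
    change Polynomial.C c ∈ Ideal.map (Polynomial.C : C →+* C[X]) 𝔭.asIdeal ↔ c ∈ 𝔭.asIdeal
    rw [Ideal.mem_map_C_iff]
    constructor
    · intro h
      have := h 0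
      rwa [Polynomial.coeff_C_zero] at this
    · intro h n
      rw [Polynomial.coeff_C]
      split_ifs
      · exact h
      · exact Ideal.zero_mem _
  · intro 𝔭
    have hunit : IsUnit ((chi (g 𝔭)) (g 𝔭 * X)) := IsLocalization.Away.algebraMap_isUnit (g 𝔭 * X)
    rw [map_mul] at hunit
    have hunitX : IsUnit ((chi (g 𝔭)) X) := isUnit_of_mul_isUnit_right hunit
    have hunitg : IsUnit ((chi (g 𝔭)) (g 𝔭)) := isUnit_of_mul_isUnit_left hunit
    apply E _ (chi (g 𝔭)) hunitX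
    have hl' : ∀ p : C[X], (IsLocalization.Away.lift (S := Localization.Away (g 𝔭)) (g 𝔭)
        (g := chi (g 𝔭)) hunitg) (algebraMap C[X] (Localization.Away (g 𝔭)) p) = chi (g 𝔭) p :=
      fun p => IsLocalization.Away.lift_eq (g 𝔭) hunitg p
    have hl : (IsLocalization.Away.lift (S := Localization.Away (g 𝔭)) (g 𝔭)
        (g := chi (g 𝔭)) hunitg).comp (algebraMap C[X] (Localization.Away (g 𝔭))) = chi (g 𝔭) :=
      RingHom.ext fun p => by rw [RingHom.comp_apply]; exact hl' p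
    rw [← hl, CommRingCat.ofHom_comp, Spec.map_comp, Category.assoc, Category.assoc, hgω 𝔭]

end Groth.Agent.Lib.Helper29.SpecPoly
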