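import Groth.Agent.Lib.Helper29.AffLine
import Groth.Agent.Lib.Helper29.SpecPoly

/-! Injectivity of the attractor of the affine line into its formal completion (S18963, helper29). -/

set_option autoImplicit false
universe u
open CategoryTheory MonoidalCategory CartesianMonoidalCategory MonObj AlgebraicGeometry Opposite
open Magnet

namespace Groth.Agent.Lib.Helper29.FormalInj

open Groth.Agent.Lib.Helper10.AMonPts Groth.Agent.Lib.Helper29.AffLine

variable {S : Scheme.{u}} {X Y : Over S}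

/-- the point `(c·m, y)` -/
noncomputable def Wpt {T : Over S} (q : T ⟶ AMonS S NN ⊗ Y) (c : Γ(T.left, ⊤)) :
    T ⟶ AMonS S NN ⊗ Y :=
  lift (ptA c * (q ≫ fst _ _)) (q ≫ snd _ _)

theorem comp_Wpt {T T' : Over S} (g : T' ⟶ T) (q : T ⟶ AMonS S NN ⊗ Y) (c : Γ(T.left, ⊤)) :
    g ≫ Wpt q c = Wpt (g ≫ q) (g.left.appTop.hom c) := by
  unfold Wpt
  rw [comp_lift, MonObj.comp_mul, ptA_comp, Category.assoc, Category.assoc]

variable (a : Magnet.MonAct (AMonS S ℤ) X)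

/-- equivariance at an invertible scalar -/
theorem Wpt_unit (gm : (Magnet.attr a NN).obj (op Y)) {T : Over S} (q : T ⟶ AMonS S NN ⊗ Y)
    (v : Γ(T.left, ⊤)ˣ) :
    Wpt q (v : Γ(T.left, ⊤)) ≫ gm.1 = lift (ptG v) (q ≫ gm.1) ≫ a.act := by
  have h := (Magnet.MonAct.mem_eqvHom_iff gm.1).mp gm.2 T (ptG v) (q ≫ fst _ _) (q ≫ snd _ _)
  have h1 : lift (ptG v) (q ≫ fst _ _) ≫ (Magnet.subAct S ℤ NN).act =
      ptA (v : Γ(T.left, ⊤)) * (q ≫ fst _ _) := by
    rw [Magnet.subAct, Magnet.MonAct.lift_restrict_act, Magnet.MonAct.lift_regular_act, ptG_map]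
  rw [h1, lift_comp_fst_snd] at h
  exact h

/-- cancelling the action of an invertible scalar -/
theorem act_cancel {T : Over S} (v : Γ(T.left, ⊤)ˣ) (x₁ x₂ : T ⟶ X)
    (h : lift (ptG v) x₁ ≫ a.act = lift (ptG v) x₂ ≫ a.act) : x₁ = x₂ := by
  have e : ∀ x : T ⟶ X, x = lift (ptG v⁻¹) (lift (ptG v) x ≫ a.act) ≫ a.act := by
    intro x
    rw [← a.lift_mul_act, ptG_inv_mul, a.lift_one_act]
  rw [e x₁, e x₂, h]

open Polynomial in
set_option maxHeartbeats 2000000 in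
theorem key (gm₁ gm₂ : (Magnet.attr a NN).obj (op Y))
    (h : ∀ (T : Over S) (m : T ⟶ Magnet.AMonS S NN) (t : T ⟶ Y),
      (∃ n : ℕ, ∀ m' : T ⟶ Magnet.AMonS S NN, m ^ (n + 1) * m' = m ^ (n + 1)) →
      CartesianMonoidalCategory.lift m t ≫ gm₁.1 = CartesianMonoidalCategory.lift m t ≫ gm₂.1)
    (C : Type u) [CommRing C] (q₀ : Spec (CommRingCat.of C) ⟶ (AMonS S NN ⊗ Y).left) :
    q₀ ≫ gm₁.1.left = q₀ ≫ gm₂.1.left := by
  let P : Over S := AMonS S NN ⊗ Y
  let TC : Over S := Over.mk (q₀ ≫ P.hom)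
  let qC : TC ⟶ P := Over.homMk q₀ rfl
  let L : Over S := Over.mk (Spec.map (CommRingCat.ofHom (Polynomial.C : C →+* C[X])) ≫ TC.hom)
  let pr : L ⟶ TC := Over.homMk (Spec.map (CommRingCat.ofHom (Polynomial.C : C →+* C[X]))) rfl
  let xL : Γ(L.left, ⊤) := (Scheme.ΓSpecIso (CommRingCat.of C[X])).inv.hom (Polynomial.X : C[X])
  let w : L ⟶ P := Wpt (pr ≫ qC) xL
  -- pullback of the coordinate
  have hx : ∀ (B : Type u) [CommRing B] (χ : C[X] →+* B),
      (Spec.map (CommRingCat.ofHom χ)).appTop.hom xL =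
        (Scheme.ΓSpecIso (CommRingCat.of B)).inv.hom (χ Polynomial.X) := by
    intro B _ χ
    have h1 := congrArg (fun t => t.hom (Polynomial.X : C[X]))
      (Scheme.ΓSpecIso_inv_naturality (CommRingCat.ofHom χ))
    exact h1.symm
  refine SpecPoly.eq_of_formal (w ≫ gm₁.1).left (w ≫ gm₂.1).left ?_ (q₀ ≫ gm₁.1.left)
    (q₀ ≫ gm₂.1.left) ?_
  · intro B _ χ e hχ
    let TB : Over S := Over.mk (Spec.map (CommRingCat.ofHom χ) ≫ L.hom)
    let gB : TB ⟶ L := Over.homMk (Spec.map (CommRingCat.ofHom χ)) rfl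
    have hc : (gB.left.appTop.hom xL) ^ (e + 1) = 0 := by
      change ((Spec.map (CommRingCat.ofHom χ)).appTop.hom xL) ^ (e + 1) = 0
      rw [hx B χ, ← map_pow, hχ, map_zero]
    have h2 := h TB (ptA (gB.left.appTop.hom xL) * ((gB ≫ pr ≫ qC) ≫ fst _ _))
      ((gB ≫ pr ≫ qC) ≫ snd _ _) ⟨e, absorbing_of_nilpotent _ _ e hc⟩
    have h3 : gB ≫ w ≫ gm₁.1 = gB ≫ w ≫ gm₂.1 := by
      rw [← Category.assoc, ← Category.assoc, comp_Wpt]
      exact h2
    exact congrArg (fun t => t.left) h3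
  · intro B _ χ hu heq
    let TB : Over S := Over.mk (Spec.map (CommRingCat.ofHom χ) ≫ L.hom)
    let gB : TB ⟶ L := Over.homMk (Spec.map (CommRingCat.ofHom χ)) rfl
    have hu' : IsUnit (gB.left.appTop.hom xL) := by
      change IsUnit ((Spec.map (CommRingCat.ofHom χ)).appTop.hom xL)
      rw [hx B χ]
      exact hu.map _
    have h3 : gB ≫ w ≫ gm₁.1 = gB ≫ w ≫ gm₂.1 := Over.OverMorphism.ext heq
    rw [← Category.assoc, ← Category.assoc, comp_Wpt] at h3
    have hv : gB.left.appTop.hom xL = (hu'.unit : Γ(TB.left, ⊤)) := hu'.unit_spec.symm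
    rw [hv, Wpt_unit a gm₁, Wpt_unit a gm₂] at h3
    have h4 := act_cancel a hu'.unit _ _ h3
    have h5 := congrArg (fun t => t.left) h4
    rw [CommRingCat.ofHom_comp, Spec.map_comp, Category.assoc]
    exact h5

/-- **S18963** in general form. -/
theorem formal_inj (gm₁ gm₂ : (Magnet.attr a NN).obj (op Y))
    (h : ∀ (T : Over S) (m : T ⟶ Magnet.AMonS S NN) (t : T ⟶ Y),
      (∃ n : ℕ, ∀ m' : T ⟶ Magnet.AMonS S NN, m ^ (n + 1) * m' = m ^ (n + 1)) →
      CartesianMonoidalCategory.lift m t ≫ gm₁.1 = CartesianMonoidalCategory.lift m t ≫ gm₂.1) :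
    gm₁ = gm₂ := by
  apply Subtype.ext
  apply Over.OverMorphism.ext
  apply ((AMonS S NN ⊗ Y).left.affineCover).hom_ext
  intro j
  exact key a gm₁ gm₂ h _ _

end Groth.Agent.Lib.Helper29.FormalInj
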