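import Mathlib
import Groth.Prelude.Def_FrameBundle

/-! `GL_n` is smooth and affine (helper29, for S11234). -/

set_option autoImplicit false
universe u
open CategoryTheory CategoryTheory.Limits AlgebraicGeometry
open CoordGrp

namespace Groth.Agent.Lib.Helper29.GLnSmooth

theorem formallySmooth_GLn (n : ℕ) (R : Type u) [CommRing R] :
    Algebra.FormallySmooth R (CoordGrp.GLn n R) := by
  apply Algebra.FormallySmooth.of_comp_surjective
  intro B _ _ I hI f
  choose lift hlift using Ideal.Quotient.mk_surjective (I := I)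
  let M : Matrix (Fin n) (Fin n) B := fun i j => lift (f (GLn.X i j))
  have hM : (Ideal.Quotient.mk I) M.det = f GLn.det := by
    rw [RingHom.map_det, GLn.det_eq, AlgHom.map_det]
    congr 1
    ext i j
    exact hlift _
  have e2 : f GLn.det * f GLn.Dinv = 1 := by rw [← map_mul, GLn.det_mul_Dinv, map_one]
  have hunit : IsUnit M.det := by
    have h1 : IsUnit (Ideal.Quotient.mk I M.det) := by
      rw [hM]
      exact IsUnit.of_mul_eq_one _ e2
    exact (IsNilpotent.isUnit_quotient_mk_iff ⟨2, hI⟩).1 h1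
  obtain ⟨v, hv⟩ := hunit
  have hd : M.det * (↑v⁻¹ : B) = 1 := by
    rw [← hv]
    exact v.mul_inv
  refine ⟨GLn.pt n R M (↑v⁻¹ : B) hd, ?_⟩
  apply GLn.algHom_ext
  · intro i j
    change (Ideal.Quotient.mk I) (GLn.pt n R M (↑v⁻¹ : B) hd (GLn.X i j)) = f (GLn.X i j)
    rw [GLn.pt_X]
    exact hlift _
  · change (Ideal.Quotient.mk I) (GLn.pt n R M (↑v⁻¹ : B) hd GLn.Dinv) = f GLn.Dinv
    rw [GLn.pt_Dinv]
    have e1 : (Ideal.Quotient.mk I) M.det * (Ideal.Quotient.mk I) (↑v⁻¹ : B) = 1 := by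
      rw [← map_mul, hd, map_one]
    calc (Ideal.Quotient.mk I) (↑v⁻¹ : B)
        = (Ideal.Quotient.mk I) (↑v⁻¹ : B) * (f GLn.det * f GLn.Dinv) := by rw [e2, mul_one]
      _ = ((Ideal.Quotient.mk I) M.det * (Ideal.Quotient.mk I) (↑v⁻¹ : B)) * f GLn.Dinv := by
          rw [← hM]; ring
      _ = f GLn.Dinv := by rw [e1, one_mul]

theorem finitePresentation_GLn (n : ℕ) (R : Type u) [CommRing R] :
    Algebra.FinitePresentation R (CoordGrp.GLn n R) := by
  haveI : Algebra.FinitePresentation R (CoordGrp.GLb n R) :=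
    inferInstanceAs (Algebra.FinitePresentation R (MvPolynomial (GLPoly.Idx n) R))
  change Algebra.FinitePresentation R (CoordGrp.GLb n R ⧸ CoordGrp.GLb.relIdeal n R)
  exact Algebra.FinitePresentation.quotient ⟨{CoordGrp.GLb.rel n R}, by
    rw [Finset.coe_singleton]; rfl⟩

theorem smooth_GLn (n : ℕ) (R : Type u) [CommRing R] : Algebra.Smooth R (CoordGrp.GLn n R) where
  formallySmooth := formallySmooth_GLn n R
  finitePresentation := finitePresentation_GLn n R

instance smooth_GLZ (n : ℕ) : Smooth (FrB.GLZ.{u} n).hom := by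
  change Smooth (Spec.map (CommRingCat.ofHom
    (algebraMap (ULift.{u} ℤ) (CoordGrp.GLn n (ULift.{u} ℤ)))))
  rw [HasRingHomProperty.Spec_iff (P := @Smooth)]
  change (algebraMap (ULift.{u} ℤ) (CoordGrp.GLn n (ULift.{u} ℤ))).Smooth
  rw [RingHom.smooth_algebraMap]
  exact smooth_GLn n _

instance smooth_GLn_hom (n : ℕ) (S : Scheme.{u}) : Smooth (FrB.GLn n S).hom :=
  inferInstanceAs (Smooth (pullback.snd (FrB.GLZ.{u} n).hom (specULiftZIsTerminal.from S)))

instance isAffine_GLn (n : ℕ) (R : CommRingCat.{u}) : IsAffine (FrB.GLn n (Spec R)).left := by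
  haveI : IsAffine (FrB.GLZ.{u} n).left :=
    inferInstanceAs (IsAffine (Spec (CommRingCat.of (CoordGrp.GLn n (ULift.{u} ℤ)))))
  exact inferInstanceAs
    (IsAffine (pullback (FrB.GLZ.{u} n).hom (specULiftZIsTerminal.from (Spec R))))

end Groth.Agent.Lib.Helper29.GLnSmooth
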