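import Mathlib
import Groth.Prelude.Def_W4bk4grossh1223Act

/-! Sub-modules and tensor products of rational modules (helper29, for S11207). -/

set_option autoImplicit false
universe u
open CategoryTheory MonObj AlgebraicGeometry
open scoped TensorProduct

namespace Groth.Agent.Lib.Helper29.GModOps

open VecGrp

variable {k : Type u} [Field k] {G : Over (Spec (CommRingCat.of k))} [GrpObj G]

section Restrict

variable {M W : Type u} [AddCommGroup M] [Module k M] [AddCommGroup W] [Module k W]
  (ρ : VecGrp.GMod G M) (inc : W →ₗ[k] M)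

/-- the map `B ⊗ W → B ⊗ M`. -/
noncomputable def incl (B : Type u) [CommRing B] [Algebra k B] : B ⊗[k] W →ₗ[B] B ⊗[k] M :=
  inc.baseChange B

theorem incl_tmul (B : Type u) [CommRing B] [Algebra k B] (b : B) (w : W) :
    incl inc B (b ⊗ₜ[k] w) = b ⊗ₜ[k] inc w := rfl

theorem incl_injective (hinc : Function.Injective inc) (B : Type u) [CommRing B] [Algebra k B] :
    Function.Injective (incl inc B) := by
  have h := Module.Flat.lTensor_preserves_injective_linearMap (R := k) (M := B) inc hinc
  exact h

theorem incl_Wmap {B B' : Type u} [CommRing B] [Algebra k B] [CommRing B'] [Algebra k B']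
    (φ : B →ₐ[k] B') (z : B ⊗[k] W) :
    incl inc B' (Wmap (M := W) φ z) = Wmap (M := M) φ (incl inc B z) := by
  induction z using TensorProduct.induction_on with
  | zero => simp
  | tmul b w => rfl
  | add x y hx hy => rw [map_add, map_add, map_add, map_add, hx, hy]

variable (hinc : Function.Injective inc)
  (hW : ∀ (B : Type u) [CommRing B] [Algebra k B] (g : VecGrp.pt k B ⟶ G) (w : W),
    ρ.ρ B g ((1 : B) ⊗ₜ[k] inc w) ∈ LinearMap.range (incl inc B))

include hW in
theorem rho_mem_range (B : Type u) [CommRing B] [Algebra k B] (g : VecGrp.pt k B ⟶ G)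
    (z : B ⊗[k] W) : ρ.ρ B g (incl inc B z) ∈ LinearMap.range (incl inc B) := by
  induction z using TensorProduct.induction_on with
  | zero => rw [map_zero, map_zero]; exact Submodule.zero_mem _
  | tmul b w =>
    have h1 : incl inc B (b ⊗ₜ[k] w) = b • ((1 : B) ⊗ₜ[k] inc w) := by
      rw [incl_tmul, TensorProduct.smul_tmul', smul_eq_mul, _root_.mul_one]
    rw [h1, map_smul]
    exact Submodule.smul_mem _ _ (hW B g w)
  | add x y hx hy =>
    rw [map_add, map_add]
    exact Submodule.add_mem _ hx hy

/-- the restricted action, as a linear map. -/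
noncomputable def resLin (B : Type u) [CommRing B] [Algebra k B] (g : VecGrp.pt k B ⟶ G) :
    B ⊗[k] W →ₗ[B] B ⊗[k] W :=
  ((LinearEquiv.ofInjective (incl inc B) (incl_injective inc hinc B)).symm : _ →ₗ[B] _) ∘ₗ
    LinearMap.codRestrict (LinearMap.range (incl inc B))
      (((ρ.ρ B g : _ ≃ₗ[B] _) : _ →ₗ[B] _) ∘ₗ incl inc B) (fun z => rho_mem_range ρ inc hW B g z)

theorem incl_resLin (B : Type u) [CommRing B] [Algebra k B] (g : VecGrp.pt k B ⟶ G)
    (z : B ⊗[k] W) : incl inc B (resLin ρ inc hinc hW B g z) = ρ.ρ B g (incl inc B z) := by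
  unfold resLin
  rw [LinearMap.comp_apply]
  exact congrArg Subtype.val
    (LinearEquiv.apply_symm_apply (LinearEquiv.ofInjective (incl inc B) (incl_injective inc hinc B)) _)

/-- **the sub-module** of a rational module along an injective map with stable image. -/
noncomputable def restrict : VecGrp.GMod G W where
  ρ B _ _ :=
    { toFun := fun g =>
        { toFun := resLin ρ inc hinc hW B g
          invFun := resLin ρ inc hinc hW B g⁻¹
          map_add' := map_add _
          map_smul' := map_smul _
          left_inv := fun z => by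
            apply incl_injective inc hinc B
            rw [incl_resLin, incl_resLin, ← LinearEquiv.mul_apply, ← map_mul, inv_mul_cancel,
              map_one]
            rfl
          right_inv := fun z => by
            apply incl_injective inc hinc B
            rw [incl_resLin, incl_resLin, ← LinearEquiv.mul_apply, ← map_mul, mul_inv_cancel,
              map_one]
            rfl }
      map_one' := by
        ext z
        apply incl_injective inc hinc B
        change incl inc B (resLin ρ inc hinc hW B 1 z) = incl inc B z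
        rw [incl_resLin, map_one]
        rfl
      map_mul' := fun g h => by
        ext z
        apply incl_injective inc hinc B
        change incl inc B (resLin ρ inc hinc hW B (g * h) z) =
          incl inc B (resLin ρ inc hinc hW B g (resLin ρ inc hinc hW B h z))
        rw [incl_resLin, incl_resLin, incl_resLin, map_mul]
        rfl }
  naturality {B B'} _ _ _ _ φ g x := by
    apply incl_injective inc hinc B'
    change incl inc B' (Wmap φ (resLin ρ inc hinc hW B g x)) =
      incl inc B' (resLin ρ inc hinc hW B' (ptMap φ ≫ g) (Wmap φ x))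
    rw [incl_Wmap, incl_resLin, incl_resLin, incl_Wmap, ρ.naturality]

theorem incl_restrict (B : Type u) [CommRing B] [Algebra k B] (g : VecGrp.pt k B ⟶ G)
    (z : B ⊗[k] W) : incl inc B ((restrict ρ inc hinc hW).ρ B g z) = ρ.ρ B g (incl inc B z) :=
  incl_resLin ρ inc hinc hW B g z

end Restrict

section RestrictAlg

variable {A S : Type u} [CommRing A] [Algebra k A] [CommRing S] [Algebra k S]
  (ρ : VecGrp.GMod G A) (inc : S →ₐ[k] A) (hinc : Function.Injective inc)
  (hW : ∀ (B : Type u) [CommRing B] [Algebra k B] (g : VecGrp.pt k B ⟶ G) (w : S),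
    ρ.ρ B g ((1 : B) ⊗ₜ[k] inc w) ∈ LinearMap.range (incl inc.toLinearMap B))

theorem incl_mul (B : Type u) [CommRing B] [Algebra k B] (z z' : B ⊗[k] S) :
    incl inc.toLinearMap B (z * z') = incl inc.toLinearMap B z * incl inc.toLinearMap B z' :=
  map_mul (Algebra.TensorProduct.map (AlgHom.id B B) inc) z z'

theorem incl_one (B : Type u) [CommRing B] [Algebra k B] :
    incl inc.toLinearMap B (1 : B ⊗[k] S) = 1 :=
  map_one (Algebra.TensorProduct.map (AlgHom.id B B) inc)

theorem restrict_isMult (hρ : ρ.IsMult) : (restrict ρ inc.toLinearMap hinc hW).IsMult := by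
  intro B _ _ g
  constructor
  · intro x y
    apply incl_injective inc.toLinearMap hinc B
    rw [incl_restrict, incl_mul, (hρ B g).1, incl_mul, incl_restrict, incl_restrict]
  · apply incl_injective inc.toLinearMap hinc B
    rw [incl_restrict, incl_one, (hρ B g).2]

end RestrictAlg


section Tensor

open TensorProduct.AlgebraTensorModule

variable {M₁ M₂ : Type u} [AddCommGroup M₁] [Module k M₁] [AddCommGroup M₂] [Module k M₂]
  (ρ₁ : VecGrp.GMod G M₁) (ρ₂ : VecGrp.GMod G M₂)

/-- `B ⊗ (M₁ ⊗ M₂) ≃ (B ⊗ M₁) ⊗_B (B ⊗ M₂)`. -/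
noncomputable abbrev dB (B : Type u) [CommRing B] [Algebra k B] :
    B ⊗[k] (M₁ ⊗[k] M₂) ≃ₗ[B] (B ⊗[k] M₁) ⊗[B] (B ⊗[k] M₂) :=
  distribBaseChange k B M₁ M₂

theorem dB_Wmap {B B' : Type u} [CommRing B] [Algebra k B] [CommRing B'] [Algebra k B']
    (φ : B →ₐ[k] B') (x : B ⊗[k] M₁) (y : B ⊗[k] M₂) :
    Wmap (M := M₁ ⊗[k] M₂) φ ((dB (M₁ := M₁) (M₂ := M₂) B).symm (x ⊗ₜ[B] y)) =
      (dB (M₁ := M₁) (M₂ := M₂) B').symm (Wmap (M := M₁) φ x ⊗ₜ[B'] Wmap (M := M₂) φ y) := by
  induction x using TensorProduct.induction_on with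
  | zero => simp
  | tmul b m =>
    induction y using TensorProduct.induction_on with
    | zero => simp
    | tmul b' m' =>
      rw [distribBaseChange_symm_tmul, Wmap_tmul, Wmap_tmul, Wmap_tmul,
        distribBaseChange_symm_tmul, map_mul]
    | add y y' hy hy' =>
      rw [TensorProduct.tmul_add, map_add, map_add, hy, hy', map_add, TensorProduct.tmul_add,
        map_add]
  | add x x' hx hx' =>
    rw [TensorProduct.add_tmul, map_add, map_add, hx, hx', map_add, TensorProduct.add_tmul,
      map_add]

/-- **the tensor product** of two rational modules. -/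
noncomputable def tensor : VecGrp.GMod G (M₁ ⊗[k] M₂) where
  ρ B _ _ :=
    { toFun := fun g => ((dB B).trans (TensorProduct.congr (ρ₁.ρ B g) (ρ₂.ρ B g))).trans (dB B).symm
      map_one' := by
        apply LinearEquiv.ext
        intro z
        simp only [map_one, LinearEquiv.trans_apply]
        have h : ∀ w : (B ⊗[k] M₁) ⊗[B] (B ⊗[k] M₂),
            TensorProduct.congr (1 : _ ≃ₗ[B] _) (1 : _ ≃ₗ[B] _) w = w := by
          intro w
          induction w using TensorProduct.induction_on with
          | zero => simp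
          | tmul x y => simp
          | add x y hx hy => rw [map_add, hx, hy]
        rw [h, LinearEquiv.symm_apply_apply]
        rfl
      map_mul' := fun g h => by
        apply LinearEquiv.ext
        intro z
        simp only [map_mul, LinearEquiv.trans_apply, LinearEquiv.mul_apply,
          LinearEquiv.apply_symm_apply]
        congr 1
        generalize (dB B) z = w
        induction w using TensorProduct.induction_on with
        | zero => simp
        | tmul x y => simp
        | add x y hx hy => rw [map_add, map_add, map_add, hx, hy] }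
  naturality {B B'} _ _ _ _ φ g x := by
    simp only [MonoidHom.coe_mk, OneHom.coe_mk, LinearEquiv.trans_apply]
    induction x using TensorProduct.induction_on with
    | zero => simp
    | tmul b m =>
      induction m using TensorProduct.induction_on with
      | zero => simp
      | tmul m₁ m₂ =>
        rw [distribBaseChange_tmul, TensorProduct.congr_tmul, dB_Wmap, ρ₁.naturality,
          ρ₂.naturality]
        simp only [Wmap_tmul, distribBaseChange_tmul, TensorProduct.congr_tmul, map_one]
      | add m m' hm hm' =>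
        rw [TensorProduct.tmul_add, map_add, map_add, map_add, map_add, hm, hm', map_add,
          map_add, map_add, map_add]
    | add x y hx hy =>
      rw [map_add, map_add, map_add, map_add, hx, hy, map_add, map_add, map_add, map_add]

theorem tensor_apply (B : Type u) [CommRing B] [Algebra k B] (g : VecGrp.pt k B ⟶ G)
    (z : B ⊗[k] (M₁ ⊗[k] M₂)) :
    (tensor ρ₁ ρ₂).ρ B g z =
      (dB B).symm (TensorProduct.congr (ρ₁.ρ B g) (ρ₂.ρ B g) (dB B z)) := rfl

theorem tensor_one_tmul (B : Type u) [CommRing B] [Algebra k B] (g : VecGrp.pt k B ⟶ G)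
    (m₁ : M₁) (m₂ : M₂) :
    (tensor ρ₁ ρ₂).ρ B g ((1 : B) ⊗ₜ[k] (m₁ ⊗ₜ[k] m₂)) =
      (dB B).symm (ρ₁.ρ B g ((1 : B) ⊗ₜ[k] m₁) ⊗ₜ[B] ρ₂.ρ B g ((1 : B) ⊗ₜ[k] m₂)) := by
  rw [tensor_apply, distribBaseChange_tmul, TensorProduct.congr_tmul]

end Tensor

section TensorAlg

open TensorProduct.AlgebraTensorModule

variable {A₁ A₂ : Type u} [CommRing A₁] [Algebra k A₁] [CommRing A₂] [Algebra k A₂]
  (ρ₁ : VecGrp.GMod G A₁) (ρ₂ : VecGrp.GMod G A₂)

theorem dBsymm_mul (B : Type u) [CommRing B] [Algebra k B] (x x' : B ⊗[k] A₁) (y y' : B ⊗[k] A₂) :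
    (dB (M₁ := A₁) (M₂ := A₂) B).symm (x ⊗ₜ[B] y) * (dB (M₁ := A₁) (M₂ := A₂) B).symm (x' ⊗ₜ[B] y') =
      (dB (M₁ := A₁) (M₂ := A₂) B).symm ((x * x') ⊗ₜ[B] (y * y')) := by
  induction x using TensorProduct.induction_on with
  | zero => simp
  | add x₁ x₂ h₁ h₂ => simp only [TensorProduct.add_tmul, map_add, add_mul, h₁, h₂]
  | tmul b a₁ =>
    induction x' using TensorProduct.induction_on with
    | zero => simp
    | add x₁ x₂ h₁ h₂ => simp only [TensorProduct.add_tmul, map_add, mul_add, h₁, h₂]
    | tmul b' a₁' =>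
      induction y using TensorProduct.induction_on with
      | zero => simp
      | add y₁ y₂ h₁ h₂ =>
        simp only [TensorProduct.tmul_add, map_add, add_mul, h₁, h₂]
      | tmul c a₂ =>
        induction y' using TensorProduct.induction_on with
        | zero => simp
        | add y₁ y₂ h₁ h₂ =>
          simp only [TensorProduct.tmul_add, map_add, mul_add, h₁, h₂]
        | tmul c' a₂' =>
          rw [distribBaseChange_symm_tmul, distribBaseChange_symm_tmul,
            Algebra.TensorProduct.tmul_mul_tmul, Algebra.TensorProduct.tmul_mul_tmul,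
            Algebra.TensorProduct.tmul_mul_tmul, Algebra.TensorProduct.tmul_mul_tmul,
            distribBaseChange_symm_tmul, _root_.mul_mul_mul_comm]

theorem tensor_symm_apply (B : Type u) [CommRing B] [Algebra k B] (g : VecGrp.pt k B ⟶ G)
    (x : B ⊗[k] A₁) (y : B ⊗[k] A₂) :
    (tensor ρ₁ ρ₂).ρ B g ((dB B).symm (x ⊗ₜ[B] y)) =
      (dB B).symm (ρ₁.ρ B g x ⊗ₜ[B] ρ₂.ρ B g y) := by
  rw [tensor_apply, LinearEquiv.apply_symm_apply, TensorProduct.congr_tmul]

theorem tensor_isMult (h₁ : ρ₁.IsMult) (h₂ : ρ₂.IsMult) : (tensor ρ₁ ρ₂).IsMult := by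
  intro B _ _ g
  constructor
  · intro z z'
    obtain ⟨w, rfl⟩ := (dB (M₁ := A₁) (M₂ := A₂) B).symm.surjective z
    obtain ⟨w', rfl⟩ := (dB (M₁ := A₁) (M₂ := A₂) B).symm.surjective z'
    induction w using TensorProduct.induction_on with
    | zero => simp
    | add w₁ w₂ hw₁ hw₂ => simp only [map_add, add_mul, hw₁, hw₂]
    | tmul x y =>
      induction w' using TensorProduct.induction_on with
      | zero => simp
      | add w₁ w₂ hw₁ hw₂ => simp only [map_add, mul_add, hw₁, hw₂]
      | tmul x' y' =>
        rw [dBsymm_mul, tensor_symm_apply, tensor_symm_apply, tensor_symm_apply, (h₁ B g).1,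
          (h₂ B g).1, ← dBsymm_mul]
  · have e : (1 : W k (A₁ ⊗[k] A₂) B) =
        (dB (M₁ := A₁) (M₂ := A₂) B).symm (((1 : B) ⊗ₜ[k] (1 : A₁)) ⊗ₜ[B] ((1 : B) ⊗ₜ[k] (1 : A₂))) := by
      rw [distribBaseChange_symm_tmul, _root_.mul_one]
      rfl
    rw [e, tensor_symm_apply]
    have e1 : ((1 : B) ⊗ₜ[k] (1 : A₁)) = (1 : W k A₁ B) := rfl
    have e2 : ((1 : B) ⊗ₜ[k] (1 : A₂)) = (1 : W k A₂ B) := rfl
    rw [e1, e2, (h₁ B g).2, (h₂ B g).2]

end TensorAlg

end Groth.Agent.Lib.Helper29.GModOps
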