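import Groth.Agent.Lib.Helper29.GModOps1

/-! Compatibility of tensor products and sub-modules of rational modules (helper29, for S11207). -/

set_option autoImplicit false
universe u
open CategoryTheory MonObj AlgebraicGeometry
open scoped TensorProduct

namespace Groth.Agent.Lib.Helper29.GModOps

open VecGrp TensorProduct.AlgebraTensorModule

variable {k : Type u} [Field k] {G : Over (Spec (CommRingCat.of k))} [GrpObj G]

section TensorMod

variable {M₁ M₂ : Type u} [AddCommGroup M₁] [Module k M₁] [AddCommGroup M₂] [Module k M₂]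
  (ρ₁ : VecGrp.GMod G M₁) (ρ₂ : VecGrp.GMod G M₂)

theorem tensor_symm_apply' (B : Type u) [CommRing B] [Algebra k B] (g : VecGrp.pt k B ⟶ G)
    (x : B ⊗[k] M₁) (y : B ⊗[k] M₂) :
    (tensor ρ₁ ρ₂).ρ B g ((dB B).symm (x ⊗ₜ[B] y)) =
      (dB B).symm (ρ₁.ρ B g x ⊗ₜ[B] ρ₂.ρ B g y) := by
  rw [tensor_apply, LinearEquiv.apply_symm_apply, TensorProduct.congr_tmul]

end TensorMod

section TensorRestrict

variable {M₁ M₂ W : Type u} [AddCommGroup M₁] [Module k M₁] [AddCommGroup M₂] [Module k M₂]
  [AddCommGroup W] [Module k W]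
  (ρ₁ : VecGrp.GMod G M₁) (ρ₂ : VecGrp.GMod G M₂) (inc : W →ₗ[k] M₁)

theorem baseChange_rTensor_dBsymm (B : Type u) [CommRing B] [Algebra k B]
    (x : B ⊗[k] W) (y : B ⊗[k] M₂) :
    (inc.rTensor M₂).baseChange B ((dB (M₁ := W) (M₂ := M₂) B).symm (x ⊗ₜ[B] y)) =
      (dB (M₁ := M₁) (M₂ := M₂) B).symm (incl inc B x ⊗ₜ[B] y) := by
  induction x using TensorProduct.induction_on with
  | zero => simp
  | tmul b w =>
    induction y using TensorProduct.induction_on with
    | zero => simp
    | tmul b' m =>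
      rw [distribBaseChange_symm_tmul, LinearMap.baseChange_tmul, LinearMap.rTensor_tmul,
        incl_tmul, distribBaseChange_symm_tmul]
    | add y y' hy hy' =>
      rw [TensorProduct.tmul_add, map_add, map_add, hy, hy', TensorProduct.tmul_add, map_add]
  | add x x' hx hx' =>
    rw [TensorProduct.add_tmul, map_add, map_add, hx, hx', map_add, TensorProduct.add_tmul,
      map_add]

variable (hinc : Function.Injective inc)
  (hW : ∀ (B : Type u) [CommRing B] [Algebra k B] (g : VecGrp.pt k B ⟶ G) (w : W),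
    ρ₁.ρ B g ((1 : B) ⊗ₜ[k] inc w) ∈ LinearMap.range (incl inc B))

theorem tensor_restrict_compat (B : Type u) [CommRing B] [Algebra k B] (g : VecGrp.pt k B ⟶ G)
    (z : B ⊗[k] (W ⊗[k] M₂)) :
    (inc.rTensor M₂).baseChange B ((tensor (restrict ρ₁ inc hinc hW) ρ₂).ρ B g z) =
      (tensor ρ₁ ρ₂).ρ B g ((inc.rTensor M₂).baseChange B z) := by
  obtain ⟨u, rfl⟩ := (dB (M₁ := W) (M₂ := M₂) B).symm.surjective z
  induction u using TensorProduct.induction_on with
  | zero => simp
  | tmul x y =>
    rw [tensor_symm_apply', baseChange_rTensor_dBsymm, baseChange_rTensor_dBsymm,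
      tensor_symm_apply', incl_restrict]
  | add u u' hu hu' => simp only [map_add, hu, hu']

end TensorRestrict

end Groth.Agent.Lib.Helper29.GModOps
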