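import Mathlib

/-! Natural families of elements on affine points of a scheme come from global functions
(helper29, for S11405). -/

set_option autoImplicit false
universe u
open CategoryTheory CategoryTheory.Limits AlgebraicGeometry

namespace Groth.Agent.Lib.Helper29.Yon

variable {X : Scheme.{u}} {n : Type u}

/-- a natural family of tuples of elements on the affine points of `X`. -/
structure Fam (X : Scheme.{u}) (n : Type u) where
  a : ∀ (C : CommRingCat.{u}) (_ : Spec C ⟶ X), n → C
  nat : ∀ (C D : CommRingCat.{u}) (ψ : C ⟶ D) (j : Spec C ⟶ X) (p : n),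
    a D (Spec.map ψ ≫ j) p = ψ.hom (a C j p)

namespace Fam

variable (A : Fam X n)

/-- the morphism to affine space attached to an affine point. -/
noncomputable def F (C : CommRingCat.{u}) (j : Spec C ⟶ X) :
    Spec C ⟶ Spec (CommRingCat.of (MvPolynomial n (ULift.{u} ℤ))) :=
  (AffineSpace.toSpecMvPolyIntEquiv n).symm fun p => (Scheme.ΓSpecIso C).inv (A.a C j p)

theorem F_apply (C : CommRingCat.{u}) (j : Spec C ⟶ X) (p : n) :
    AffineSpace.toSpecMvPolyIntEquiv n (A.F C j) p = (Scheme.ΓSpecIso C).inv (A.a C j p) := by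
  rw [F, Equiv.apply_symm_apply]

theorem F_nat (C D : CommRingCat.{u}) (ψ : C ⟶ D) (j : Spec C ⟶ X) :
    Spec.map ψ ≫ A.F C j = A.F D (Spec.map ψ ≫ j) := by
  apply (AffineSpace.toSpecMvPolyIntEquiv n).injective
  ext p
  rw [AffineSpace.toSpecMvPolyIntEquiv_comp, F_apply, F_apply, A.nat]
  exact (congrArg (fun t => t.hom (A.a C j p)) (Scheme.ΓSpecIso_inv_naturality ψ)).symm

theorem key {Y : Scheme.{u}} {C C' : CommRingCat.{u}} (u : Y ⟶ Spec C) (u' : Y ⟶ Spec C')
    (j : Spec C ⟶ X) (j' : Spec C' ⟶ X) (h : u ≫ j = u' ≫ j') :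
    u ≫ A.F C j = u' ≫ A.F C' j' := by
  apply Y.affineOpenCover.openCover.hom_ext
  intro i
  let v : Spec (Y.affineOpenCover.X i) ⟶ Y := Y.affineOpenCover.f i
  change v ≫ u ≫ A.F C j = v ≫ u' ≫ A.F C' j'
  have h1 : v ≫ u = Spec.map (Spec.preimage (v ≫ u)) := (Spec.map_preimage _).symm
  have h2 : v ≫ u' = Spec.map (Spec.preimage (v ≫ u')) := (Spec.map_preimage _).symm
  rw [← Category.assoc, ← Category.assoc, h1, h2, F_nat, F_nat, ← h1, ← h2, Category.assoc,
    Category.assoc, h]

/-- the glued morphism to affine space. -/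
noncomputable def glued : X ⟶ Spec (CommRingCat.of (MvPolynomial n (ULift.{u} ℤ))) :=
  X.affineOpenCover.openCover.glueMorphisms
    (fun i => A.F (X.affineOpenCover.X i) (X.affineOpenCover.f i))
    (fun i i' => A.key _ _ _ _ pullback.condition)

theorem comp_glued (C : CommRingCat.{u}) (j : Spec C ⟶ X) : j ≫ A.glued = A.F C j := by
  apply (X.affineOpenCover.openCover.pullback₁ j).hom_ext
  intro i
  change pullback.fst j (X.affineOpenCover.f i) ≫ j ≫ A.glued = pullback.fst _ _ ≫ A.F C j
  rw [pullback.condition_assoc]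
  have h := X.affineOpenCover.openCover.ι_glueMorphisms
    (fun i => A.F (X.affineOpenCover.X i) (X.affineOpenCover.f i))
    (fun i i' => A.key _ _ _ _ pullback.condition) i
  change X.affineOpenCover.f i ≫ A.glued = _ at h
  rw [h]
  exact (A.key _ _ _ _ pullback.condition).symm

/-- the global functions attached to a natural family. -/
noncomputable def sec (p : n) : Γ(X, ⊤) := AffineSpace.toSpecMvPolyIntEquiv n A.glued p

theorem app_sec (C : CommRingCat.{u}) (j : Spec C ⟶ X) (p : n) :
    j.appTop (A.sec p) = (Scheme.ΓSpecIso C).inv (A.a C j p) := by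
  rw [sec, ← AffineSpace.toSpecMvPolyIntEquiv_comp, comp_glued, F_apply]

end Fam

/-- a global function is determined by its pullbacks to affine points. -/
theorem sec_ext (s t : Γ(X, ⊤))
    (h : ∀ (C : CommRingCat.{u}) (j : Spec C ⟶ X), j.appTop s = j.appTop t) : s = t := by
  have h1 : (AffineSpace.toSpecMvPolyIntEquiv PUnit.{u+1}).symm (fun _ => s) =
      (AffineSpace.toSpecMvPolyIntEquiv PUnit.{u+1}).symm (fun _ => t) := by
    apply X.affineOpenCover.openCover.hom_ext
    intro i
    apply (AffineSpace.toSpecMvPolyIntEquiv PUnit.{u+1}).injective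
    ext p
    change AffineSpace.toSpecMvPolyIntEquiv PUnit.{u+1} (X.affineOpenCover.f i ≫ _) p =
      AffineSpace.toSpecMvPolyIntEquiv PUnit.{u+1} (X.affineOpenCover.f i ≫ _) p
    rw [AffineSpace.toSpecMvPolyIntEquiv_comp, AffineSpace.toSpecMvPolyIntEquiv_comp,
      Equiv.apply_symm_apply, Equiv.apply_symm_apply]
    exact h _ _
  have h2 := (AffineSpace.toSpecMvPolyIntEquiv PUnit.{u+1}).symm.injective h1
  exact congrFun h2 PUnit.unit

end Groth.Agent.Lib.Helper29.Yon
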