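import Groth.Prelude.Def_VecGrp
import Groth.Agent.Lib.Helper29.Yon

/-! Matrix coefficients of a `G`-module on affine points, and their naturality
(helper29, for S11405). -/

set_option autoImplicit false
universe u
open CategoryTheory MonoidalCategory CartesianMonoidalCategory MonObj AlgebraicGeometry
open TensorProduct VecGrp

namespace Groth.Agent.Lib.Helper29.GModTriv

variable {k : Type u} [Field k] {G : Over (Spec (CommRingCat.of k))} [GrpObj G]
  {M : Type u} [AddCommGroup M] [Module k M] (m : VecGrp.GMod G M)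
  {I : Type u} (b : Module.Basis I k M)

section Coef

variable {C D : Type u} [CommRing C] [Algebra k C] [CommRing D] [Algebra k D]

/-- the matrix coefficients of a point acting on the base-changed module. -/
noncomputable def coef (g : VecGrp.pt k C ⟶ G) (p q : I) : C :=
  (b.baseChange C).repr (m.ρ C g ((1 : C) ⊗ₜ[k] b q)) p

theorem repr_Wmap (φ : C →ₐ[k] D) (x : W k M C) (p : I) :
    (b.baseChange D).repr (Wmap (M := M) φ x) p = φ ((b.baseChange C).repr x p) := by
  induction x using TensorProduct.induction_on with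
  | zero => simp
  | tmul c y =>
    rw [Wmap_tmul, Module.Basis.baseChange_repr_tmul, Module.Basis.baseChange_repr_tmul, map_smul]
  | add x y hx hy =>
    rw [map_add, map_add, Finsupp.add_apply, hx, hy, map_add, Finsupp.add_apply, map_add]

theorem coef_nat (φ : C →ₐ[k] D) (g : VecGrp.pt k C ⟶ G) (p q : I) :
    coef m b (ptMap φ ≫ g) p q = φ (coef m b g p q) := by
  have h := m.naturality φ g ((1 : C) ⊗ₜ[k] b q)
  rw [Wmap_tmul, map_one] at h
  rw [coef, ← h, repr_Wmap, coef]

theorem rho_eq_one_of_coef (g : VecGrp.pt k C ⟶ G) [DecidableEq I]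
    (h : ∀ p q, coef m b g p q = if p = q then 1 else 0) : m.ρ C g = 1 := by
  apply (b.baseChange C).ext'
  intro q
  rw [Module.Basis.baseChange_apply]
  apply (b.baseChange C).repr.injective
  ext p
  have h1 := h p q
  rw [coef] at h1
  rw [h1]
  change _ = (b.baseChange C).repr ((1 : C) ⊗ₜ[k] b q) p
  rw [← Module.Basis.baseChange_apply, Module.Basis.repr_self, Finsupp.single_apply]
  simp only [eq_comm]

theorem coef_one [DecidableEq I] (p q : I) :
    coef m b (1 : VecGrp.pt k C ⟶ G) p q = if p = q then 1 else 0 := by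
  rw [coef, map_one]
  change (b.baseChange C).repr ((1 : C) ⊗ₜ[k] b q) p = _
  rw [← Module.Basis.baseChange_apply, Module.Basis.repr_self, Finsupp.single_apply]
  simp only [eq_comm]

end Coef

section FamJ

variable (G)

/-- the `k`-algebra structure on `C` induced by an affine point `Spec C ⟶ G`. -/
@[reducible] noncomputable def algJ (C : CommRingCat.{u}) (j : Spec C ⟶ G.left) : Algebra k C :=
  (Spec.preimage (j ≫ G.hom)).hom.toAlgebra

theorem specMap_algJ (C : CommRingCat.{u}) (j : Spec C ⟶ G.left) :
    Spec.map (CommRingCat.ofHom (@algebraMap k C _ _ (algJ G C j))) = j ≫ G.hom :=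
  Spec.map_preimage _

/-- an affine point of `G` as a point over `k`. -/
noncomputable def ptJ (C : CommRingCat.{u}) (j : Spec C ⟶ G.left) :
    @VecGrp.pt k _ C _ (algJ G C j) ⟶ G :=
  Over.homMk j (specMap_algJ G C j).symm

theorem ptJ_left (C : CommRingCat.{u}) (j : Spec C ⟶ G.left) : (ptJ G C j).left = j := rfl

variable {G}

/-- the algebra map between induced structures. -/
noncomputable def algHomJ {C D : CommRingCat.{u}} (ψ : C ⟶ D) (j : Spec C ⟶ G.left) :
    @AlgHom k C D _ _ _ (algJ G C j) (algJ G D (Spec.map ψ ≫ j)) :=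
  letI := algJ G C j
  letI := algJ G D (Spec.map ψ ≫ j)
  { ψ.hom with
    commutes' := fun r => by
      have h : Spec.preimage ((Spec.map ψ ≫ j) ≫ G.hom) = Spec.preimage (j ≫ G.hom) ≫ ψ := by
        apply Spec.map_injective
        rw [Spec.map_preimage, Spec.map_comp, Spec.map_preimage, Category.assoc]
      change ψ.hom ((Spec.preimage (j ≫ G.hom)).hom r) =
        (Spec.preimage ((Spec.map ψ ≫ j) ≫ G.hom)).hom r
      rw [h]
      rfl }

theorem ptMap_algHomJ {C D : CommRingCat.{u}} (ψ : C ⟶ D) (j : Spec C ⟶ G.left) :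
    letI := algJ G C j
    letI := algJ G D (Spec.map ψ ≫ j)
    ptMap (algHomJ ψ j) ≫ ptJ G C j = ptJ G D (Spec.map ψ ≫ j) := by
  letI := algJ G C j
  letI := algJ G D (Spec.map ψ ≫ j)
  apply Over.OverMorphism.ext
  rfl

/-- the natural family of matrix coefficients. -/
noncomputable def fam : Yon.Fam G.left (I × I) where
  a C j pq :=
    letI := algJ G C j
    coef m b (ptJ G C j) pq.1 pq.2
  nat C D ψ j pq := by
    letI := algJ G C j
    letI := algJ G D (Spec.map ψ ≫ j)
    change coef m b (ptJ G D (Spec.map ψ ≫ j)) pq.1 pq.2 = ψ.hom (coef m b (ptJ G C j) pq.1 pq.2)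
    rw [← ptMap_algHomJ ψ j, coef_nat]
    rfl

end FamJ

end Groth.Agent.Lib.Helper29.GModTriv
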