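import Groth.Agent.Lib.Helper29.GModTriv1

/-! Representations of anti-affine groups are trivial (helper29, for S11405). -/

set_option autoImplicit false
universe u
open CategoryTheory MonoidalCategory CartesianMonoidalCategory MonObj AlgebraicGeometry
open TensorProduct VecGrp

namespace Groth.Agent.Lib.Helper29.GModTriv

variable {k : Type u} [Field k] {G : Over (Spec (CommRingCat.of k))} [GrpObj G]
  {M : Type u} [AddCommGroup M] [Module k M] (m : VecGrp.GMod G M)

theorem appTop_comp_const (C : CommRingCat.{u}) (j : Spec C ⟶ G.left) (c : k) :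
    j.appTop.hom (G.hom.appTop.hom ((Scheme.ΓSpecIso (CommRingCat.of k)).inv.hom c)) =
      (Scheme.ΓSpecIso C).inv.hom ((Spec.preimage (j ≫ G.hom)).hom c) := by
  have aux : ∀ (φ : CommRingCat.of k ⟶ C), (Spec.map φ).appTop.hom
      ((Scheme.ΓSpecIso (CommRingCat.of k)).inv.hom c) = (Scheme.ΓSpecIso C).inv.hom (φ.hom c) :=
    fun φ => congrArg (fun t => t.hom c) (Scheme.ΓSpecIso_inv_naturality φ).symm
  have h := aux (Spec.preimage (j ≫ G.hom))
  rw [Spec.map_preimage] at h
  exact h

theorem ptJ_eq_one (C : CommRingCat.{u}) (j : Spec C ⟶ G.left)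
    (hj : j = (j ≫ G.hom) ≫ η[G].left) :
    @Eq (@VecGrp.pt k _ C _ (algJ G C j) ⟶ G) (ptJ G C j) 1 := by
  letI := algJ G C j
  rw [Hom.one_def]
  apply Over.OverMorphism.ext
  change j = (VecGrp.pt k C).hom ≫ η[G].left
  have h := specMap_algJ G C j
  change (VecGrp.pt k C).hom = _ at h
  rw [h]
  exact hj

theorem fam_a_of_one {I : Type u} [DecidableEq I] (b : Module.Basis I k M)
    (C : CommRingCat.{u}) (j : Spec C ⟶ G.left)
    (hj : j = (j ≫ G.hom) ≫ η[G].left) (p q : I) :
    (fam m b).a C j (p, q) = if p = q then 1 else 0 := by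
  letI := algJ G C j
  change coef m b (ptJ G C j) p q = _
  rw [ptJ_eq_one C j hj, coef_one]

set_option maxHeartbeats 1000000 in
/-- every finite-dimensional representation of an anti-affine group is trivial. -/
theorem rho_eq_one_of_bijective [Module.Finite k M]
    (hG : Function.Bijective ((Scheme.ΓSpecIso (CommRingCat.of k)).inv ≫ G.hom.appTop).hom)
    (B : Type u) [CommRing B] [hB : Algebra k B] (g : VecGrp.pt k B ⟶ G) : m.ρ B g = 1 := by
  classical
  let b := Module.Free.chooseBasis k M
  let A := fam m b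
  have hc : ∀ pq, ∃ c : k, G.hom.appTop.hom ((Scheme.ΓSpecIso (CommRingCat.of k)).inv.hom c) =
      A.sec pq := fun pq => hG.2 _
  choose c hc using hc
  have key : ∀ (C : CommRingCat.{u}) (j : Spec C ⟶ G.left) pq,
      A.a C j pq = (Spec.preimage (j ≫ G.hom)).hom (c pq) := by
    intro C j pq
    have h1 := A.app_sec C j pq
    rw [← hc pq] at h1
    have h2 := (appTop_comp_const C j (c pq)).symm.trans h1
    have h3 := congrArg (Scheme.ΓSpecIso C).hom.hom h2
    change ((Scheme.ΓSpecIso C).inv ≫ (Scheme.ΓSpecIso C).hom).hom _ =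
      ((Scheme.ΓSpecIso C).inv ≫ (Scheme.ΓSpecIso C).hom).hom _ at h3
    rw [Iso.inv_hom_id] at h3
    exact h3.symm
  have hcδ : ∀ p q, c (p, q) = if p = q then 1 else 0 := by
    intro p q
    let j₀ : Spec (CommRingCat.of k) ⟶ G.left := η[G].left
    have hj₀ : j₀ ≫ G.hom = 𝟙 _ := Over.w η[G]
    have h1 := key (CommRingCat.of k) j₀ (p, q)
    have h2 : Spec.preimage (j₀ ≫ G.hom) = 𝟙 _ := by
      apply Spec.map_injective
      rw [Spec.map_preimage, hj₀, Spec.map_id]
    rw [h2] at h1
    change A.a (CommRingCat.of k) j₀ (p, q) = c (p, q) at h1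
    rw [← h1]
    apply fam_a_of_one m b (CommRingCat.of k) j₀
    rw [hj₀, Category.id_comp]
  let C : CommRingCat.{u} := CommRingCat.of B
  let j : Spec C ⟶ G.left := g.left
  have hpre : Spec.preimage (j ≫ G.hom) = CommRingCat.ofHom (algebraMap k B) := by
    apply Spec.map_injective
    rw [Spec.map_preimage]
    exact Over.w g
  let φ : @AlgHom k B B _ _ _ hB (algJ G C j) :=
    @AlgHom.mk k B B _ _ _ hB (algJ G C j) (RingHom.id B) (fun r => by
        change @algebraMap k B _ _ hB r = (Spec.preimage (j ≫ G.hom)).hom r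
        rw [hpre]
        rfl)
  have hpt : @Eq (@VecGrp.pt k _ B _ (algJ G C j) ⟶ G)
      (@ptMap k _ B B _ hB _ (algJ G C j) φ ≫ g) (ptJ G C j) := by
    apply Over.OverMorphism.ext
    change Spec.map (CommRingCat.ofHom (RingHom.id B)) ≫ g.left = g.left
    have : CommRingCat.ofHom (RingHom.id B) = 𝟙 (CommRingCat.of B) := rfl
    rw [this, Spec.map_id, Category.id_comp]
  apply rho_eq_one_of_coef m b g
  intro p q
  have h5 := @coef_nat k _ G _ M _ _ m _ b B B _ hB _ (algJ G C j) φ g p q
  have h6 : A.a C j (p, q) = @coef k _ G _ M _ _ m _ b B _ (algJ G C j) (ptJ G C j) p q := rfl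
  have h7 := key C j (p, q)
  rw [hcδ] at h7
  have h8 : (φ : B → B) (coef m b g p q) = coef m b g p q := rfl
  rw [h8] at h5
  rw [← h5, hpt, ← h6, h7]
  split_ifs
  · exact map_one _
  · exact map_zero _

end Groth.Agent.Lib.Helper29.GModTriv
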