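import Groth.Agent.Lib.Helper29.TwistPeriod
universe u
open CategoryTheory CategoryTheory.Limits AlgebraicGeometry Opposite TopologicalSpace DirectSum

namespace Groth.Agent.Lib.Helper29.QCoh

section Weighted
variable {R A : Type u} [CommRing R] [CommRing A] [Algebra R A] (𝒜 : ℕ → Submodule R A) [GradedAlgebra 𝒜]

/-- If `A` is generated over `R` by a set of homogeneous elements, these elements cover
`Proj`. -/
theorem exists_mem_basicOpen_of_adjoin_homogeneous (s : Set A) (hs : Algebra.adjoin R s = ⊤)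
    (hs1 : ∀ f ∈ s, ∃ d, f ∈ 𝒜 d) (x : Proj 𝒜) : ∃ f ∈ s, x ∈ Proj.basicOpen 𝒜 f := by
  by_contra hcon
  push Not at hcon
  have hmem : ∀ f ∈ s, f ∈ x.asHomogeneousIdeal := by
    intro f hf
    by_contra h
    exact hcon f hf ((ProjectiveSpectrum.mem_basicOpen 𝒜 f x).mpr h)
  have key := homogeneous_induction 𝒜 s hs
    (fun k a => 0 < k → a ∈ x.asHomogeneousIdeal)
    (fun k _ => Ideal.zero_mem _)
    (fun k a b _ _ hPa hPb hk => Ideal.add_mem _ (hPa hk) (hPb hk))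
    (by
      intro k l a b _ _ hPa hPb hkl
      rcases Nat.eq_zero_or_pos k with hk | hk
      · have hl : 0 < l := by omega
        exact Ideal.mul_mem_left _ _ (hPb hl)
      · exact Ideal.mul_mem_right _ _ (hPa hk))
    (fun r h => absurd h (lt_irrefl 0))
    (fun f hf => by
      obtain ⟨d, hd⟩ := hs1 f hf
      exact ⟨d, hd, fun _ => hmem f hf⟩)
  apply x.not_irrelevant_le
  intro a ha
  classical
  rw [← sum_support_decompose 𝒜 a]
  refine Ideal.sum_mem _ fun k _ => ?_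
  rcases Nat.eq_zero_or_pos k with hk | hk
  · subst hk
    have : (decompose 𝒜 a 0 : A) = 0 := by
      have := (HomogeneousIdeal.mem_irrelevant_iff 𝒜 a).mp ha
      simpa [GradedRing.proj_apply] using this
    rw [this]
    exact Ideal.zero_mem _
  · exact key k _ (Submodule.coe_mem _) hk

theorem span_germ_globalOf_eq_top_period {n : ℕ}
    (hcov : ∀ x : Proj 𝒜, ∃ g : 𝒜 n, x ∈ Proj.basicOpen 𝒜 g.1) (x : Proj 𝒜) :
    Submodule.span ((Proj 𝒜).presheaf.stalk x)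
      (Set.range fun b : 𝒜 n => ((Twist.twist 𝒜 (n : ℤ)).presheaf.germ ⊤ x trivial).hom
        (Twist.globalOf 𝒜 b : (Twist.twist 𝒜 (n : ℤ)).presheaf.obj (op ⊤))) = ⊤ := by
  obtain ⟨g, hx⟩ := hcov x
  have h1 : (n : ℤ) = ((1 : ℕ) : ℤ) * (n : ℕ) := by simp
  rw [eq_top_iff, ← span_germ_gSec_eq_top 1 g (n : ℤ) h1 x hx]
  apply Submodule.span_mono
  rintro _ rfl
  have hmem : g.1 ^ 1 ∈ 𝒜 n := by
    rw [pow_one]; exact g.2
  refine ⟨⟨g.1 ^ 1, hmem⟩, ?_⟩
  congr 1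

/-- Weighted projective-type `Proj`: if `A` is generated by finitely many homogeneous elements
of positive degrees `d_i` and `n` is a positive multiple of all the `d_i`, then `O(n)` is ample and
generated by the sections `b / 1`, `b ∈ A_n`. -/
theorem isAmple_and_generated_twist_of_dvd {s : ℕ} (f : Fin s → A) (deg : Fin s → ℕ)
    (hdeg : ∀ i, 0 < deg i) (hf : ∀ i, f i ∈ 𝒜 (deg i))
    (hgen : Algebra.adjoin R (Set.range f) = ⊤) (n : ℕ) (hn : 0 < n) (hdvd : ∀ i, deg i ∣ n) :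
    CohB1.IsAmple (Twist.twist 𝒜 (n : ℤ)) ∧
      ∀ x : Proj 𝒜, Submodule.span ((Proj 𝒜).presheaf.stalk x)
        (Set.range fun b : 𝒜 n => ((Twist.twist 𝒜 (n : ℤ)).presheaf.germ ⊤ x trivial).hom
          (Twist.globalOf 𝒜 b : (Twist.twist 𝒜 (n : ℤ)).presheaf.obj (op ⊤))) = ⊤ := by
  have hcov1 : ∀ x : Proj 𝒜, ∃ i, x ∈ Proj.basicOpen 𝒜 (f i) := by
    intro x
    obtain ⟨_, ⟨i, rfl⟩, hx⟩ := exists_mem_basicOpen_of_adjoin_homogeneous 𝒜 (Set.range f) hgen
      (by rintro _ ⟨i, rfl⟩; exact ⟨deg i, hf i⟩) x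
    exact ⟨i, hx⟩
  have hcov : ∀ x : Proj 𝒜, ∃ g : 𝒜 n, x ∈ Proj.basicOpen 𝒜 g.1 := by
    intro x
    obtain ⟨i, hx⟩ := hcov1 x
    obtain ⟨k, hk⟩ := hdvd i
    have hkpos : 0 < k := by
      rcases Nat.eq_zero_or_pos k with h0 | h0
      · rw [h0, mul_zero] at hk; omega
      · exact h0
    have hmem : f i ^ k ∈ 𝒜 n := by
      have := SetLike.pow_mem_graded k (hf i)
      rwa [smul_eq_mul, mul_comm, ← hk] at this
    refine ⟨⟨_, hmem⟩, ?_⟩
    change x ∈ Proj.basicOpen 𝒜 (f i ^ k)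
    rw [Proj.basicOpen_pow 𝒜 _ k hkpos]
    exact hx
  have hcpt : CompactSpace (Proj 𝒜) := by
    rw [← isCompact_univ_iff]
    have : (Set.univ : Set (Proj 𝒜)) = ⋃ i : Fin s, (Proj.basicOpen 𝒜 (f i) : Set (Proj 𝒜)) := by
      ext x
      simp only [Set.mem_univ, Set.mem_iUnion, true_iff]
      exact hcov1 x
    rw [this]
    exact isCompact_iUnion fun i =>
      (Proj.isAffineOpen_basicOpen 𝒜 (f i) (hf i) (hdeg i)).isCompact
  exact ⟨isAmple_twist_period hn hcov, span_germ_globalOf_eq_top_period 𝒜 hcov⟩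

end Weighted

end Groth.Agent.Lib.Helper29.QCoh
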