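import Mathlib
universe u
open DirectSum

namespace Groth.Agent.Lib.Helper29.QCoh

section GrSub
variable {R A : Type u} [CommRing R] [CommRing A] [Algebra R A] (𝒜 : ℕ → Submodule R A) [GradedAlgebra 𝒜]
variable {M : Type u} [AddCommGroup M] [Module R M] [Module A M] [IsScalarTower R A M]
  (ℳ : ℕ → Submodule R M)
variable (P : Submodule A M)

/-- The grading induced on a submodule. -/
def subGrading (k : ℕ) : Submodule R P := (ℳ k).comap ((P.subtype).restrictScalars R)

theorem mem_subGrading (k : ℕ) (p : P) : p ∈ subGrading ℳ P k ↔ p.1 ∈ ℳ k := Iff.rfl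

instance subGrading_gradedSMul [SetLike.GradedSMul 𝒜 ℳ] :
    SetLike.GradedSMul 𝒜 (subGrading ℳ P) where
  smul_mem := by
    intro i j a p ha hp
    exact SetLike.GradedSMul.smul_mem (A := 𝒜) (B := ℳ) ha hp

theorem iSupIndep_subGrading [DirectSum.Decomposition ℳ] : iSupIndep (subGrading ℳ P) := by
  have hM : iSupIndep ℳ := (DirectSum.Decomposition.isInternal ℳ).submodule_iSupIndep
  intro i
  rw [Submodule.disjoint_def]
  intro x hx hx'
  have h1 : x.1 ∈ ℳ i := hx
  have h2 : x.1 ∈ ⨆ j, ⨆ (_ : j ≠ i), ℳ j := by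
    have : (P.subtype.restrictScalars R) x ∈
        (⨆ j, ⨆ (_ : j ≠ i), subGrading ℳ P j).map (P.subtype.restrictScalars R) :=
      Submodule.mem_map_of_mem hx'
    simp only [Submodule.map_iSup] at this
    have hle : (⨆ j, ⨆ (_ : j ≠ i), (subGrading ℳ P j).map (P.subtype.restrictScalars R)) ≤
        ⨆ j, ⨆ (_ : j ≠ i), ℳ j :=
      iSup_mono fun j => iSup_mono fun _ => Submodule.map_comap_le _ _
    exact hle this
  exact Subtype.ext ((Submodule.disjoint_def.mp (hM i)) x.1 h1 h2)

theorem iSup_subGrading_eq_top [DirectSum.Decomposition ℳ] [SetLike.GradedSMul 𝒜 ℳ]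
    (T : Set M) (hT : ∀ t ∈ T, ∃ k, t ∈ ℳ k) :
    ⨆ k, subGrading ℳ (Submodule.span A T) k = ⊤ := by
  rw [eq_top_iff]
  rintro ⟨p, hp⟩ -
  -- stability of the supremum under homogeneous scalars
  have hsm : ∀ (i : ℕ) (a : A), a ∈ 𝒜 i → ∀ q : Submodule.span A T,
      q ∈ ⨆ k, subGrading ℳ (Submodule.span A T) k →
      a • q ∈ ⨆ k, subGrading ℳ (Submodule.span A T) k := by
    intro i a ha q hq
    induction hq using Submodule.iSup_induction' with
    | mem j x hx =>
      exact Submodule.mem_iSup_of_mem (i + j)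
        (SetLike.GradedSMul.smul_mem (A := 𝒜) (B := subGrading ℳ (Submodule.span A T)) ha hx)
    | zero => rw [smul_zero]; exact Submodule.zero_mem _
    | add x y _ _ hx hy => rw [smul_add]; exact Submodule.add_mem _ hx hy
  have hsm' : ∀ (a : A) (q : Submodule.span A T),
      q ∈ ⨆ k, subGrading ℳ (Submodule.span A T) k →
      a • q ∈ ⨆ k, subGrading ℳ (Submodule.span A T) k := by
    intro a q hq
    classical
    rw [← DirectSum.sum_support_decompose 𝒜 a, Finset.sum_smul]
    exact Submodule.sum_mem _ fun i _ => hsm i _ (SetLike.coe_mem _) q hq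
  induction hp using Submodule.span_induction with
  | mem t ht =>
    obtain ⟨k, hk⟩ := hT t ht
    exact Submodule.mem_iSup_of_mem k hk
  | zero => exact Submodule.zero_mem _
  | add x y hx hy ihx ihy =>
    exact Submodule.add_mem _ ihx ihy
  | smul a x hx ihx =>
    exact hsm' a ⟨x, hx⟩ ihx

/-- The decomposition of a submodule generated by homogeneous elements. -/
@[instance_reducible]
noncomputable def subDecomposition [DirectSum.Decomposition ℳ] [SetLike.GradedSMul 𝒜 ℳ]
    (T : Set M) (hT : ∀ t ∈ T, ∃ k, t ∈ ℳ k) :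
    DirectSum.Decomposition (subGrading ℳ (Submodule.span A T)) :=
  (DirectSum.isInternal_submodule_of_iSupIndep_of_iSup_eq_top
    (iSupIndep_subGrading ℳ _) (iSup_subGrading_eq_top 𝒜 ℳ T hT)).chooseDecomposition

end GrSub

end Groth.Agent.Lib.Helper29.QCoh
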