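import Groth.Agent.Lib.Helper29.GrT3
universe u
open CategoryTheory CategoryTheory.Limits AlgebraicGeometry Opposite TopologicalSpace DirectSum

namespace Groth.Agent.Lib.Helper29.QCoh

section TildeMap
variable {R A : Type u} [CommRing R] [CommRing A] [Algebra R A] (𝒜 : ℕ → Submodule R A) [GradedAlgebra 𝒜]
variable {N : Type u} [AddCommGroup N] [Module R N] [Module A N] (𝒩 : ℕ → Submodule R N)
  [SetLike.GradedSMul 𝒜 𝒩]
variable {M : Type u} [AddCommGroup M] [Module R M] [Module A M] (ℳ : ℕ → Submodule R M)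
  [SetLike.GradedSMul 𝒜 ℳ]
variable (φ : N →ₗ[A] M)

/-- The localization of a linear map at a point of `Proj`. -/
noncomputable def locMap (x : ProjectiveSpectrum 𝒜) :
    GrTilde.LocMod 𝒜 (M := N) x →ₗ[A] GrTilde.LocMod 𝒜 (M := M) x :=
  IsLocalizedModule.map x.asHomogeneousIdeal.toIdeal.primeCompl
    (LocalizedModule.mkLinearMap _ N) (LocalizedModule.mkLinearMap _ M) φ

theorem locMap_mk (x : ProjectiveSpectrum 𝒜) (n : N)
    (s : x.asHomogeneousIdeal.toIdeal.primeCompl) :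
    locMap 𝒜 φ x (LocalizedModule.mk n s) = LocalizedModule.mk (φ n) s :=
  IsLocalizedModule.map_LocalizedModules _ φ n s

theorem locMap_smul (x : ProjectiveSpectrum 𝒜) (c : Twist.Loc 𝒜 x)
    (q : GrTilde.LocMod 𝒜 (M := N) x) :
    locMap 𝒜 φ x (c • q) = c • locMap 𝒜 φ x q := by
  induction c using Localization.induction_on with
  | H p =>
    induction q using LocalizedModule.induction_on with
    | h m s =>
      rw [locMap_mk, LocalizedModule.mk_smul_mk, LocalizedModule.mk_smul_mk, locMap_mk, map_smul]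

theorem locMap_injective (hφ : Function.Injective φ) (x : ProjectiveSpectrum 𝒜) :
    Function.Injective (locMap 𝒜 φ x) :=
  IsLocalizedModule.map_injective _ _ _ φ hφ

variable (hφ : ∀ k, ∀ n ∈ 𝒩 k, φ n ∈ ℳ k)

/-- The action of `tildeMap` on sections. -/
noncomputable def tildeMapFun (n : ℤ) (W : (Proj 𝒜).Opens) (σ : Γ(GrTilde.tilde 𝒜 𝒩 n, W)) :
    Γ(GrTilde.tilde 𝒜 ℳ n, W) :=
  (⟨fun x => ⟨locMap 𝒜 φ x.1 (gfun 𝒜 𝒩 σ x), by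
      obtain ⟨V, hxV, hVU, i, j, m, s, hs, hdeg, hw⟩ := exists_gfun_eq_mk 𝒜 𝒩 σ x
      have h1 := hw ⟨x.1, hxV⟩
      change gfun 𝒜 𝒩 σ x = _ at h1
      rw [h1, locMap_mk]
      rcases hdeg with hdeg | hdeg
      · exact Submodule.subset_span ⟨i, j, ⟨φ m.1, hφ i _ m.2⟩, s, hs ⟨x.1, hxV⟩, hdeg, rfl⟩
      · rw [hdeg, map_zero, LocalizedModule.zero_mk]
        exact Submodule.zero_mem _⟩,
    fun x => by
      obtain ⟨V, hxV, hVU, i, j, m, s, hs, hdeg, hw⟩ := exists_gfun_eq_mk 𝒜 𝒩 σ x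
      refine ⟨V, hxV, homOfLE hVU, i, j, ⟨φ m.1, hφ i _ m.2⟩, s, hs,
        hdeg.imp id (fun h => by change φ m.1 = 0; rw [h, map_zero]), fun y => ?_⟩
      change locMap 𝒜 φ y.1 (gfun 𝒜 𝒩 σ ⟨y.1, hVU y.2⟩) = _
      rw [hw y, locMap_mk]⟩ : GrTilde.sect 𝒜 ℳ n (op W))

theorem gfun_tildeMapFun (n : ℤ) (W : (Proj 𝒜).Opens) (σ : Γ(GrTilde.tilde 𝒜 𝒩 n, W)) (x : W) :
    gfun 𝒜 ℳ (tildeMapFun 𝒜 𝒩 ℳ φ hφ n W σ) x = locMap 𝒜 φ x.1 (gfun 𝒜 𝒩 σ x) := rfl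

/-- Functoriality of `M ↦ M(n)~` in graded linear maps. -/
noncomputable def tildeMap (n : ℤ) : GrTilde.tilde 𝒜 𝒩 n ⟶ GrTilde.tilde 𝒜 ℳ n :=
  homOfApp
    (fun W => AddMonoidHom.mk' (tildeMapFun 𝒜 𝒩 ℳ φ hφ n W) (fun σ σ' => by
      apply gfun_ext
      intro x
      rw [gfun_add, gfun_tildeMapFun, gfun_tildeMapFun, gfun_tildeMapFun, gfun_add, map_add]))
    (fun W r σ => by
      apply gfun_ext
      intro x
      change gfun 𝒜 ℳ (tildeMapFun 𝒜 𝒩 ℳ φ hφ n W (r • σ)) x =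
        gfun 𝒜 ℳ (r • tildeMapFun 𝒜 𝒩 ℳ φ hφ n W σ) x
      rw [gfun_smul, gfun_tildeMapFun, gfun_tildeMapFun, gfun_smul, locMap_smul])
    (fun {W W'} h σ => rfl)

theorem gfun_tildeMap (n : ℤ) (W : (Proj 𝒜).Opens) (σ : Γ(GrTilde.tilde 𝒜 𝒩 n, W)) (x : W) :
    gfun 𝒜 ℳ ((tildeMap 𝒜 𝒩 ℳ φ hφ n).app W σ) x = locMap 𝒜 φ x.1 (gfun 𝒜 𝒩 σ x) := rfl

theorem tildeMap_app_injective (hinj : Function.Injective φ) (n : ℤ) (W : (Proj 𝒜).Opens) :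
    Function.Injective ((tildeMap 𝒜 𝒩 ℳ φ hφ n).app W) := by
  intro σ σ' h
  apply gfun_ext
  intro x
  apply locMap_injective 𝒜 φ hinj x.1
  rw [← gfun_tildeMap 𝒜 𝒩 ℳ φ hφ, ← gfun_tildeMap 𝒜 𝒩 ℳ φ hφ, h]

theorem tildeMap_mkG (n : ℤ) (W : (Proj 𝒜).Opens) {i j : ℕ} (m : 𝒩 i) (s : 𝒜 j)
    (hs : ∀ x : W, s.1 ∉ x.1.asHomogeneousIdeal) (hdeg : (i : ℤ) = j + n) :
    (tildeMap 𝒜 𝒩 ℳ φ hφ n).app W (mkG 𝒜 𝒩 n W m s hs hdeg) =
      mkG 𝒜 ℳ n W (⟨φ m.1, hφ i _ m.2⟩ : ℳ i) s hs hdeg := by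
  apply gfun_ext
  intro x
  rw [gfun_tildeMap, gfun_mkG, gfun_mkG, locMap_mk]

end TildeMap

end Groth.Agent.Lib.Helper29.QCoh
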