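import Groth.Agent.Lib.Helper29.GSIso8
import Groth.Agent.Lib.Helper29.GrSub
import Groth.Agent.Lib.Helper29.TildeMap
universe u
open CategoryTheory CategoryTheory.Limits AlgebraicGeometry Opposite TopologicalSpace DirectSum

namespace Groth.Agent.Lib.Helper29.QCoh

section GSFin
variable {R A : Type u} [CommRing R] [CommRing A] [Algebra R A] {𝒜 : ℕ → Submodule R A} [GradedAlgebra 𝒜]
variable {I : Type u} {f : I → 𝒜 1} {F : (Proj 𝒜).Modules}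

theorem tildeToF_mkG (hcov : ∀ x : Proj 𝒜, ∃ i, x ∈ Dp 𝒜 f i) (i₀ : I) (N : ℕ)
    (y : GStarSub 𝒜 f F N) (hm : gsOf 𝒜 f F N y ∈ gsDeg 𝒜 f F N)
    (ht : ∀ x : Dp 𝒜 f i₀, (f i₀).1 ^ N ∉ x.1.asHomogeneousIdeal) (hdeg : (N : ℤ) = N + 0) :
    (tildeToF (F := F) hcov).app (Dp 𝒜 f i₀)
      (mkG 𝒜 (gsDeg 𝒜 f F) 0 (Dp 𝒜 f i₀) (⟨gsOf 𝒜 f F N y, hm⟩ : gsDeg 𝒜 f F N)
        (⟨(f i₀).1 ^ N, pow_mem_deg 𝒜 f i₀ N⟩ : 𝒜 N) ht hdeg) = y.1 i₀ := by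
  apply Rel.unique hcov (rel_tildeToF hcov _ _)
  intro x i hxi k m' hm' t' ht' h
  refine rel_at_of_one x i₀ (gsOf 𝒜 f F N y) hm (⟨(f i₀).1 ^ N, pow_mem_deg 𝒜 f i₀ N⟩ : 𝒜 N)
    (ht x) (gfun_mkG _ _ _ _ _ _ _ _ _) (Dp 𝒜 f i₀) x.2 le_rfl le_rfl
    ht ?_ i hxi k m' hm' t' ht' h
  unfold locSec fracT
  rw [mkO_self, one_smul, res_self, coord_gsOf, res_self]

/-- For `F` quasi-coherent of finite type, a finitely generated graded submodule of `Γ_*(F)`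
already gives `F`. -/
theorem exists_fg_sub_isIso [Finite I] [F.IsQuasicoherent] [F.IsFiniteType]
    (hcov : ∀ x : Proj 𝒜, ∃ i, x ∈ Dp 𝒜 f i) :
    ∃ (T : Finset (GS 𝒜 f F)) (_ : ∀ t ∈ (T : Set (GS 𝒜 f F)), ∃ k, t ∈ gsDeg 𝒜 f F k),
      IsIso (tildeMap 𝒜 (subGrading (gsDeg 𝒜 f F) (Submodule.span A (T : Set (GS 𝒜 f F))))
        (gsDeg 𝒜 f F) (Submodule.span A (T : Set (GS 𝒜 f F))).subtype (fun k n hn => hn) 0 ≫
        tildeToF (F := F) hcov) := by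
  classical
  haveI := Fintype.ofFinite I
  have hfin : ∀ i, ∃ S : Finset Γ(F, Dp 𝒜 f i),
      Submodule.span Γ(Proj 𝒜, Dp 𝒜 f i) (S : Set Γ(F, Dp 𝒜 f i)) = ⊤ :=
    fun i => (module_finite_of_isFiniteType F (isAffineOpen_Dp 𝒜 f i)).fg_top
  choose S hS using hfin
  have hext := fun (i : I) (τ : Γ(F, Dp 𝒜 f i)) => exists_gstar_extension 𝒜 f F i τ
  choose N y hy using hext
  let T : Finset (GS 𝒜 f F) :=
    Finset.univ.biUnion fun i => (S i).image fun τ => gsOf 𝒜 f F (N i τ) (y i τ)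
  have hT : ∀ t ∈ (T : Set (GS 𝒜 f F)), ∃ k, t ∈ gsDeg 𝒜 f F k := by
    intro t ht
    obtain ⟨i, -, ht⟩ := Finset.mem_biUnion.mp ht
    obtain ⟨τ, -, rfl⟩ := Finset.mem_image.mp ht
    exact ⟨N i τ, ⟨_, rfl⟩⟩
  refine ⟨T, hT, ?_⟩
  letI := subDecomposition 𝒜 (gsDeg 𝒜 f F) (T : Set (GS 𝒜 f F)) hT
  have hq := tilde_isQuasicoherent 𝒜
    (subGrading (gsDeg 𝒜 f F) (Submodule.span A (T : Set (GS 𝒜 f F)))) 0
  apply isIso_of_app_bijective_of_affine_cover _ (Dp 𝒜 f) (isAffineOpen_Dp 𝒜 f) hcov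
  intro i₀
  constructor
  · intro σ σ' h
    rw [app_comp, app_comp] at h
    exact tildeMap_app_injective 𝒜 _ _ _ _ Subtype.val_injective 0 _
      (tildeToF_app_injective hcov i₀ h)
  · intro τ
    have hτ : τ ∈ Submodule.span Γ(Proj 𝒜, Dp 𝒜 f i₀) (S i₀ : Set Γ(F, Dp 𝒜 f i₀)) := by
      rw [hS i₀]; trivial
    induction hτ using Submodule.span_induction with
    | mem τ' hτ' =>
      have hmem : gsOf 𝒜 f F (N i₀ τ') (y i₀ τ') ∈ Submodule.span A (T : Set (GS 𝒜 f F)) :=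
        Submodule.subset_span (Finset.mem_biUnion.mpr
          ⟨i₀, Finset.mem_univ _, Finset.mem_image.mpr ⟨τ', hτ', rfl⟩⟩)
      have hdeg : gsOf 𝒜 f F (N i₀ τ') (y i₀ τ') ∈ gsDeg 𝒜 f F (N i₀ τ') := ⟨_, rfl⟩
      refine ⟨mkG 𝒜 (subGrading (gsDeg 𝒜 f F) (Submodule.span A (T : Set (GS 𝒜 f F)))) 0
        (Dp 𝒜 f i₀) (⟨⟨_, hmem⟩, hdeg⟩ : subGrading (gsDeg 𝒜 f F) _ (N i₀ τ'))
        (⟨(f i₀).1 ^ (N i₀ τ'), pow_mem_deg 𝒜 f i₀ _⟩ : 𝒜 (N i₀ τ'))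
        (fun x => pow_not_mem_of_not_mem x.2 _) (by simp), ?_⟩
      rw [app_comp, tildeMap_mkG]
      exact (tildeToF_mkG hcov i₀ _ _ hdeg _ _).trans (hy i₀ τ')
    | zero => exact ⟨0, map_zero _⟩
    | add a b _ _ ha hb =>
      obtain ⟨σa, ha⟩ := ha
      obtain ⟨σb, hb⟩ := hb
      exact ⟨σa + σb, by rw [map_add, ha, hb]⟩
    | smul r a _ ha =>
      obtain ⟨σa, ha⟩ := ha
      exact ⟨r • σa, by rw [app_smul', ha]⟩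

end GSFin

end Groth.Agent.Lib.Helper29.QCoh
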