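import Groth.Agent.Lib.Helper29.GrT4
import Groth.Agent.S3549
universe u
open CategoryTheory CategoryTheory.Limits AlgebraicGeometry Opposite TopologicalSpace DirectSum

/-! # The comparison `Γ_*(F)~ ⟶ F`: pointwise data -/

namespace Groth.Agent.Lib.Helper29.QCoh

section GSIso
variable {R A : Type u} [CommRing R] [CommRing A] [Algebra R A] (𝒜 : ℕ → Submodule R A) [GradedAlgebra 𝒜]
variable {I : Type u} (f : I → 𝒜 1) (F : (Proj 𝒜).Modules)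

theorem pow_mem_deg (i : I) (k : ℕ) : (f i).1 ^ k ∈ 𝒜 k := by
  have := SetLike.pow_mem_graded k (f i).2
  rwa [smul_eq_mul, mul_one] at this

/-- The fraction `f_i^k / t` on an open where `t` (of degree `k`) does not vanish. -/
noncomputable def fracT (i : I) (V : (Proj 𝒜).Opens) {k : ℕ} (t : 𝒜 k)
    (ht : ∀ x : V, t.1 ∉ x.1.asHomogeneousIdeal) : Γ(Proj 𝒜, V) :=
  mkO 𝒜 V (⟨(f i).1 ^ k, pow_mem_deg 𝒜 f i k⟩ : 𝒜 k) t ht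

theorem ofun_fracT (i : I) (V : (Proj 𝒜).Opens) {k : ℕ} (t : 𝒜 k)
    (ht : ∀ x : V, t.1 ∉ x.1.asHomogeneousIdeal) (x : V) :
    ofun 𝒜 (fracT 𝒜 f i V t ht) x = Localization.mk ((f i).1 ^ k) ⟨t.1, ht x⟩ := rfl

theorem rres_fracT (i : I) {V V' : (Proj 𝒜).Opens} (h : V' ≤ V) {k : ℕ} (t : 𝒜 k)
    (ht : ∀ x : V, t.1 ∉ x.1.asHomogeneousIdeal) :
    rres (Proj 𝒜) h (fracT 𝒜 f i V t ht) = fracT 𝒜 f i V' t (fun x => ht ⟨x.1, h x.2⟩) := rfl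

theorem coord_smul (i : I) {l k : ℕ} (a : A) (ha : a ∈ 𝒜 l) (m : GS 𝒜 f F)
    (hm : m ∈ gsDeg 𝒜 f F k) :
    coord 𝒜 f F i (a • m) = frac 𝒜 f i _ le_rfl (⟨a, ha⟩ : 𝒜 l) • coord 𝒜 f F i m := by
  obtain ⟨y, rfl⟩ := hm
  rw [smul_gsOf 𝒜 f F a ha y, coord_gsOf, coord_gsOf, act_val]

/-- Cocycle relation for the coordinates of a homogeneous element. -/
theorem res_coord_eq (i j : I) {k : ℕ} (m : GS 𝒜 f F) (hm : m ∈ gsDeg 𝒜 f F k) :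
    QCoh.res F (inf_le_left : Dp 𝒜 f i ⊓ Dp 𝒜 f j ≤ Dp 𝒜 f i) (coord 𝒜 f F i m) =
      trans 𝒜 f k i j •
        QCoh.res F (inf_le_right : Dp 𝒜 f i ⊓ Dp 𝒜 f j ≤ Dp 𝒜 f j) (coord 𝒜 f F j m) := by
  obtain ⟨y, rfl⟩ := hm
  rw [coord_gsOf, coord_gsOf]
  exact y.2 i j

/-- The local section `(f_i^k / t) • m_i` of `F` attached to the fraction `m / t`. -/
noncomputable def locSec (i : I) (V : (Proj 𝒜).Opens) (hVi : V ≤ Dp 𝒜 f i) (m : GS 𝒜 f F)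
    {k : ℕ} (t : 𝒜 k) (ht : ∀ x : V, t.1 ∉ x.1.asHomogeneousIdeal) : Γ(F, V) :=
  fracT 𝒜 f i V t ht • QCoh.res F hVi (coord 𝒜 f F i m)

theorem res_locSec (i : I) {V V' : (Proj 𝒜).Opens} (h : V' ≤ V) (hVi : V ≤ Dp 𝒜 f i)
    (m : GS 𝒜 f F) {k : ℕ} (t : 𝒜 k) (ht : ∀ x : V, t.1 ∉ x.1.asHomogeneousIdeal) :
    QCoh.res F h (locSec 𝒜 f F i V hVi m t ht) =
      locSec 𝒜 f F i V' (h.trans hVi) m t (fun x => ht ⟨x.1, h x.2⟩) := by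
  unfold locSec
  rw [res_smul', res_res, rres_fracT]

/-- Independence of the chart. -/
theorem locSec_chart (i j : I) (V : (Proj 𝒜).Opens) (hVi : V ≤ Dp 𝒜 f i) (hVj : V ≤ Dp 𝒜 f j)
    (m : GS 𝒜 f F) {k : ℕ} (hm : m ∈ gsDeg 𝒜 f F k) (t : 𝒜 k)
    (ht : ∀ x : V, t.1 ∉ x.1.asHomogeneousIdeal) :
    locSec 𝒜 f F i V hVi m t ht = locSec 𝒜 f F j V hVj m t ht := by
  unfold locSec
  have hV : V ≤ Dp 𝒜 f i ⊓ Dp 𝒜 f j := le_inf hVi hVj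
  have h1 : QCoh.res F hVi (coord 𝒜 f F i m) =
      rres (Proj 𝒜) hV (trans 𝒜 f k i j) • QCoh.res F hVj (coord 𝒜 f F j m) := by
    have := congrArg (QCoh.res F hV) (res_coord_eq 𝒜 f F i j m hm)
    rwa [res_res, res_smul', res_res] at this
  rw [h1, smul_smul]
  congr 1
  apply ofun_ext
  intro x
  unfold trans
  rw [ofun_mul, ofun_fracT, ofun_fracT, rres_frac, ofun_frac, Localization.mk_mul]
  apply mk_eq_mk_of_mul_eq
  simp only [Submonoid.coe_mul]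
  ring

end GSIso

end Groth.Agent.Lib.Helper29.QCoh
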