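import Groth.Agent.Lib.Helper29.GSIso1
universe u
open CategoryTheory CategoryTheory.Limits AlgebraicGeometry Opposite TopologicalSpace DirectSum

namespace Groth.Agent.Lib.Helper29.QCoh

section GSIso
variable {R A : Type u} [CommRing R] [CommRing A] [Algebra R A] (𝒜 : ℕ → Submodule R A) [GradedAlgebra 𝒜]
variable {I : Type u} (f : I → 𝒜 1) (F : (Proj 𝒜).Modules)

theorem exists_proj_not_mem (x : ProjectiveSpectrum 𝒜) (u : A) (hu : u ∉ x.asHomogeneousIdeal) :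
    ∃ j : ℕ, (decompose 𝒜 u j : A) ∉ x.asHomogeneousIdeal := by
  classical
  by_contra hcon
  push Not at hcon
  apply hu
  rw [← sum_support_decompose 𝒜 u]
  exact Ideal.sum_mem _ fun j _ => hcon j

/-- **Well-definedness**: two fractions which agree in `M_x` give local sections of `F` agreeing
near `x`. -/
theorem exists_locSec_eq (i : I) (x : Proj 𝒜) (hxi : x ∈ Dp 𝒜 f i) {k k' : ℕ}
    (m m' : GS 𝒜 f F) (hm : m ∈ gsDeg 𝒜 f F k) (hm' : m' ∈ gsDeg 𝒜 f F k')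
    (t : 𝒜 k) (t' : 𝒜 k') (ht : t.1 ∉ x.asHomogeneousIdeal) (ht' : t'.1 ∉ x.asHomogeneousIdeal)
    (h : (LocalizedModule.mk m ⟨t.1, ht⟩ : GrTilde.LocMod 𝒜 (M := GS 𝒜 f F) x) =
      LocalizedModule.mk m' ⟨t'.1, ht'⟩) :
    ∃ (V : (Proj 𝒜).Opens) (_ : x ∈ V) (hVi : V ≤ Dp 𝒜 f i)
      (hVt : ∀ y : V, t.1 ∉ y.1.asHomogeneousIdeal) (hVt' : ∀ y : V, t'.1 ∉ y.1.asHomogeneousIdeal),
      locSec 𝒜 f F i V hVi m t hVt = locSec 𝒜 f F i V hVi m' t' hVt' := by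
  obtain ⟨u, hu⟩ := LocalizedModule.mk_eq.mp h
  have hu' : u.1 • (t'.1 • m) = u.1 • (t.1 • m') := hu
  have hz1 : t'.1 • m ∈ gsDeg 𝒜 f F (k' + k) := SetLike.GradedSMul.smul_mem t'.2 hm
  have hz2 : t.1 • m' ∈ gsDeg 𝒜 f F (k' + k) := by
    have : t.1 • m' ∈ gsDeg 𝒜 f F (k + k') := SetLike.GradedSMul.smul_mem t.2 hm'
    rwa [add_comm] at this
  have hz : t'.1 • m - t.1 • m' ∈ gsDeg 𝒜 f F (k' + k) := Submodule.sub_mem _ hz1 hz2
  have huz : u.1 • (t'.1 • m - t.1 • m') = 0 := by rw [smul_sub, hu', sub_self]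
  obtain ⟨j, hj⟩ := exists_proj_not_mem 𝒜 x u.1 u.2
  have hj0 := Groth.Agent.S3549.proj_smul_eq_zero 𝒜 (gsDeg 𝒜 f F) hz u.1 huz j
  rw [GradedRing.proj_apply, smul_sub, sub_eq_zero] at hj0
  set w : 𝒜 j := decompose 𝒜 u.1 j with hw
  -- apply the coordinate
  have E := congrArg (coord 𝒜 f F i) hj0
  rw [coord_smul 𝒜 f F i _ w.2 _ hz1, coord_smul 𝒜 f F i _ w.2 _ hz2,
    coord_smul 𝒜 f F i _ t'.2 _ hm, coord_smul 𝒜 f F i _ t.2 _ hm'] at E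
  -- the neighbourhood
  let V : (Proj 𝒜).Opens := ((Dp 𝒜 f i ⊓ Proj.basicOpen 𝒜 t.1) ⊓ Proj.basicOpen 𝒜 t'.1) ⊓
    Proj.basicOpen 𝒜 w.1
  have hxV : x ∈ V := ⟨⟨⟨hxi, ht⟩, ht'⟩, hj⟩
  have hVi : V ≤ Dp 𝒜 f i := inf_le_left.trans (inf_le_left.trans inf_le_left)
  have hVt : ∀ y : V, t.1 ∉ y.1.asHomogeneousIdeal := fun y => y.2.1.1.2
  have hVt' : ∀ y : V, t'.1 ∉ y.1.asHomogeneousIdeal := fun y => y.2.1.2
  have hVw : ∀ y : V, w.1 ∉ y.1.asHomogeneousIdeal := fun y => y.2.2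
  refine ⟨V, hxV, hVi, hVt, hVt', ?_⟩
  have hden : ∀ y : V, w.1 * t.1 * t'.1 ∉ y.1.asHomogeneousIdeal := fun y hh =>
    (y.1.isPrime.mem_or_mem hh).elim
      (fun h2 => (y.1.isPrime.mem_or_mem h2).elim (hVw y) (hVt y)) (hVt' y)
  let c : Γ(Proj 𝒜, V) := mkO 𝒜 V
    (⟨(f i).1 ^ (j + k + k'), pow_mem_deg 𝒜 f i _⟩ : 𝒜 (j + k + k'))
    ⟨w.1 * t.1 * t'.1, SetLike.mul_mem_graded (SetLike.mul_mem_graded w.2 t.2) t'.2⟩ hden
  have E' := congrArg (fun σ => c • QCoh.res F hVi σ) E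
  simp only [res_smul', smul_smul] at E'
  unfold locSec
  have e1 : fracT 𝒜 f i V t hVt =
      c * rres (Proj 𝒜) hVi (frac 𝒜 f i (Dp 𝒜 f i) le_rfl w) *
        rres (Proj 𝒜) hVi (frac 𝒜 f i (Dp 𝒜 f i) le_rfl t') := by
    apply ofun_ext
    intro y
    rw [ofun_mul, ofun_mul, ofun_fracT, rres_frac, rres_frac, ofun_frac, ofun_frac, ofun_mkO,
      Localization.mk_mul, Localization.mk_mul]
    apply mk_eq_mk_of_mul_eq
    simp only [Submonoid.coe_mul]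
    ring
  have e2 : fracT 𝒜 f i V t' hVt' =
      c * rres (Proj 𝒜) hVi (frac 𝒜 f i (Dp 𝒜 f i) le_rfl w) *
        rres (Proj 𝒜) hVi (frac 𝒜 f i (Dp 𝒜 f i) le_rfl t) := by
    apply ofun_ext
    intro y
    rw [ofun_mul, ofun_mul, ofun_fracT, rres_frac, rres_frac, ofun_frac, ofun_frac, ofun_mkO,
      Localization.mk_mul, Localization.mk_mul]
    apply mk_eq_mk_of_mul_eq
    simp only [Submonoid.coe_mul]
    ring
  rw [e1, e2, mul_assoc, mul_assoc, ← map_mul, ← map_mul]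
  exact E'

end GSIso

end Groth.Agent.Lib.Helper29.QCoh
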