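import Groth.Agent.Lib.Helper29.GSIso2
universe u
open CategoryTheory CategoryTheory.Limits AlgebraicGeometry Opposite TopologicalSpace DirectSum

namespace Groth.Agent.Lib.Helper29.QCoh

section OLocal
variable {R A : Type u} [CommRing R] [CommRing A] [Algebra R A] (𝒜 : ℕ → Submodule R A) [GradedAlgebra 𝒜]

/-- Functions on `Proj` are locally fractions. -/
theorem exists_ofun_eq_mk_local {W : (Proj 𝒜).Opens} (r : Γ(Proj 𝒜, W)) (x : W) :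
    ∃ (V : (Proj 𝒜).Opens) (_ : x.1 ∈ V) (hVW : V ≤ W) (l : ℕ) (a b : 𝒜 l)
      (hb : ∀ y : V, b.1 ∉ y.1.asHomogeneousIdeal),
      rres (Proj 𝒜) hVW r = mkO 𝒜 V a b hb := by
  obtain ⟨V, hxV, ι, l, a, b, hb, hw⟩ := (show Twist.O (𝒜 := 𝒜) (op W) from r).2 x
  refine ⟨V, hxV, leOfHom ι, l, a, b, hb, ofun_ext 𝒜 _ _ fun y => ?_⟩
  rw [ofun_res, ofun_mkO]
  exact congrArg HomogeneousLocalization.val (hw y)

end OLocal

section GSIso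
variable {R A : Type u} [CommRing R] [CommRing A] [Algebra R A] (𝒜 : ℕ → Submodule R A) [GradedAlgebra 𝒜]
variable {I : Type u} (f : I → 𝒜 1) (F : (Proj 𝒜).Modules)

/-- Normal form: a section of `Γ_*(F)~` is locally `m / t` with `m`, `t` homogeneous of the same
degree. -/
theorem exists_normal_form {W : (Proj 𝒜).Opens}
    (σ : Γ(GrTilde.tilde 𝒜 (gsDeg 𝒜 f F) 0, W)) (x : W) :
    ∃ (V : (Proj 𝒜).Opens) (_ : x.1 ∈ V) (hVW : V ≤ W) (k : ℕ) (m : GS 𝒜 f F)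
      (_ : m ∈ gsDeg 𝒜 f F k) (t : 𝒜 k) (ht : ∀ y : V, t.1 ∉ y.1.asHomogeneousIdeal),
      ∀ y : V, gfun 𝒜 (gsDeg 𝒜 f F) σ ⟨y.1, hVW y.2⟩ = LocalizedModule.mk m ⟨t.1, ht y⟩ := by
  obtain ⟨V, hxV, hVW, i', j, m, s, hs, hdeg, hw⟩ := exists_gfun_eq_mk 𝒜 (gsDeg 𝒜 f F) σ x
  rcases hdeg with hdeg | hdeg
  · have hij : i' = j := by
      have : (i' : ℤ) = j := by rw [hdeg, add_zero]
      exact_mod_cast this
    subst hij
    exact ⟨V, hxV, hVW, i', m.1, m.2, s, hs, hw⟩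
  · refine ⟨V, hxV, hVW, j, 0, Submodule.zero_mem _, s, hs, fun y => ?_⟩
    rw [hw y, hdeg]

/-- Additivity of the local sections. -/
theorem locSec_add (i : I) (V : (Proj 𝒜).Opens) (hVi : V ≤ Dp 𝒜 f i) {k₁ k₂ : ℕ}
    (m₁ m₂ : GS 𝒜 f F) (hm₁ : m₁ ∈ gsDeg 𝒜 f F k₁) (hm₂ : m₂ ∈ gsDeg 𝒜 f F k₂)
    (t₁ : 𝒜 k₁) (t₂ : 𝒜 k₂) (ht₁ : ∀ y : V, t₁.1 ∉ y.1.asHomogeneousIdeal)
    (ht₂ : ∀ y : V, t₂.1 ∉ y.1.asHomogeneousIdeal) :
    locSec 𝒜 f F i V hVi (t₂.1 • m₁ + t₁.1 • m₂)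
      (⟨t₁.1 * t₂.1, SetLike.mul_mem_graded t₁.2 t₂.2⟩ : 𝒜 (k₁ + k₂))
      (fun y h => (y.1.isPrime.mem_or_mem h).elim (ht₁ y) (ht₂ y)) =
    locSec 𝒜 f F i V hVi m₁ t₁ ht₁ + locSec 𝒜 f F i V hVi m₂ t₂ ht₂ := by
  unfold locSec
  rw [map_add, coord_smul 𝒜 f F i _ t₂.2 _ hm₁, coord_smul 𝒜 f F i _ t₁.2 _ hm₂, map_add,
    res_smul', res_smul', smul_add, smul_smul, smul_smul]
  congr 2
  · apply ofun_ext
    intro y
    rw [ofun_mul, ofun_fracT, ofun_fracT, rres_frac, ofun_frac, Localization.mk_mul]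
    apply mk_eq_mk_of_mul_eq
    simp only [Submonoid.coe_mul]
    ring
  · apply ofun_ext
    intro y
    rw [ofun_mul, ofun_fracT, ofun_fracT, rres_frac, ofun_frac, Localization.mk_mul]
    apply mk_eq_mk_of_mul_eq
    simp only [Submonoid.coe_mul]
    ring

/-- Compatibility of the local sections with multiplication by fractions. -/
theorem locSec_smul (i : I) (V : (Proj 𝒜).Opens) (hVi : V ≤ Dp 𝒜 f i) {l k : ℕ}
    (a b : 𝒜 l) (hb : ∀ y : V, b.1 ∉ y.1.asHomogeneousIdeal)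
    (m : GS 𝒜 f F) (hm : m ∈ gsDeg 𝒜 f F k) (t : 𝒜 k)
    (ht : ∀ y : V, t.1 ∉ y.1.asHomogeneousIdeal) :
    locSec 𝒜 f F i V hVi (a.1 • m)
      (⟨b.1 * t.1, SetLike.mul_mem_graded b.2 t.2⟩ : 𝒜 (l + k))
      (fun y h => (y.1.isPrime.mem_or_mem h).elim (hb y) (ht y)) =
    mkO 𝒜 V a b hb • locSec 𝒜 f F i V hVi m t ht := by
  unfold locSec
  rw [coord_smul 𝒜 f F i _ a.2 _ hm, res_smul', smul_smul, smul_smul]
  congr 1
  apply ofun_ext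
  intro y
  rw [ofun_mul, ofun_mul, ofun_fracT, ofun_fracT, rres_frac, ofun_frac, ofun_mkO,
    Localization.mk_mul, Localization.mk_mul]
  apply mk_eq_mk_of_mul_eq
  simp only [Submonoid.coe_mul]
  ring

end GSIso

end Groth.Agent.Lib.Helper29.QCoh
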