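import Groth.Agent.Lib.Helper29.GSIso3
universe u
open CategoryTheory CategoryTheory.Limits AlgebraicGeometry Opposite TopologicalSpace DirectSum

namespace Groth.Agent.Lib.Helper29.QCoh

section GSIso
variable {R A : Type u} [CommRing R] [CommRing A] [Algebra R A] (𝒜 : ℕ → Submodule R A) [GradedAlgebra 𝒜]
variable {I : Type u} (f : I → 𝒜 1) (F : (Proj 𝒜).Modules)

/-- `τ` is the image of `σ` under the comparison map: near every point, for every way of writing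
`σ` as a fraction `m / t` at the point and every chart, `τ` is the corresponding local section. -/
def Rel (W : (Proj 𝒜).Opens) (σ : Γ(GrTilde.tilde 𝒜 (gsDeg 𝒜 f F) 0, W)) (τ : Γ(F, W)) : Prop :=
  ∀ (x : W) (i : I) (_ : x.1 ∈ Dp 𝒜 f i) (k : ℕ) (m : GS 𝒜 f F) (_ : m ∈ gsDeg 𝒜 f F k)
    (t : 𝒜 k) (ht : t.1 ∉ x.1.asHomogeneousIdeal),
    gfun 𝒜 (gsDeg 𝒜 f F) σ x = LocalizedModule.mk m ⟨t.1, ht⟩ →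
    ∃ (V : (Proj 𝒜).Opens) (_ : x.1 ∈ V) (hVW : V ≤ W) (hVi : V ≤ Dp 𝒜 f i)
      (hVt : ∀ y : V, t.1 ∉ y.1.asHomogeneousIdeal),
      QCoh.res F hVW τ = locSec 𝒜 f F i V hVi m t hVt

variable {𝒜 f F}

/-- If the defining equation of `Rel` holds at `x` for one fraction and one chart, it holds for
all. -/
theorem rel_at_of_one {W : (Proj 𝒜).Opens} {σ : Γ(GrTilde.tilde 𝒜 (gsDeg 𝒜 f F) 0, W)}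
    {τ : Γ(F, W)} (x : W) (i₀ : I) {k₀ : ℕ} (m₀ : GS 𝒜 f F)
    (hm₀ : m₀ ∈ gsDeg 𝒜 f F k₀) (t₀ : 𝒜 k₀) (ht₀ : t₀.1 ∉ x.1.asHomogeneousIdeal)
    (h0 : gfun 𝒜 (gsDeg 𝒜 f F) σ x = LocalizedModule.mk m₀ ⟨t₀.1, ht₀⟩)
    (V₀ : (Proj 𝒜).Opens) (hxV₀ : x.1 ∈ V₀) (hV₀W : V₀ ≤ W) (hV₀i : V₀ ≤ Dp 𝒜 f i₀)
    (hV₀t : ∀ y : V₀, t₀.1 ∉ y.1.asHomogeneousIdeal)
    (hτ : QCoh.res F hV₀W τ = locSec 𝒜 f F i₀ V₀ hV₀i m₀ t₀ hV₀t)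
    (i : I) (hxi : x.1 ∈ Dp 𝒜 f i) (k : ℕ) (m : GS 𝒜 f F) (hm : m ∈ gsDeg 𝒜 f F k)
    (t : 𝒜 k) (ht : t.1 ∉ x.1.asHomogeneousIdeal)
    (h : gfun 𝒜 (gsDeg 𝒜 f F) σ x = LocalizedModule.mk m ⟨t.1, ht⟩) :
    ∃ (V : (Proj 𝒜).Opens) (_ : x.1 ∈ V) (hVW : V ≤ W) (hVi : V ≤ Dp 𝒜 f i)
      (hVt : ∀ y : V, t.1 ∉ y.1.asHomogeneousIdeal),
      QCoh.res F hVW τ = locSec 𝒜 f F i V hVi m t hVt := by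
  obtain ⟨V₁, hxV₁, hV₁i, hV₁t, hV₁t₀, e1⟩ := exists_locSec_eq 𝒜 f F i x.1 hxi m m₀ hm hm₀ t t₀ ht ht₀
    (h.symm.trans h0)
  refine ⟨V₀ ⊓ V₁, ⟨hxV₀, hxV₁⟩, inf_le_left.trans hV₀W, inf_le_right.trans hV₁i,
    fun y => hV₁t ⟨y.1, y.2.2⟩, ?_⟩
  have e2 := congrArg (QCoh.res F (inf_le_left : V₀ ⊓ V₁ ≤ V₀)) hτ
  rw [res_res, res_locSec] at e2
  have e3 := congrArg (QCoh.res F (inf_le_right : V₀ ⊓ V₁ ≤ V₁)) e1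
  rw [res_locSec, res_locSec] at e3
  rw [e2, e3]
  exact locSec_chart 𝒜 f F i₀ i _ _ _ m₀ hm₀ t₀ _

theorem Rel.unique (hcov : ∀ x : Proj 𝒜, ∃ i, x ∈ Dp 𝒜 f i) {W : (Proj 𝒜).Opens}
    {σ : Γ(GrTilde.tilde 𝒜 (gsDeg 𝒜 f F) 0, W)} {τ τ' : Γ(F, W)}
    (h : Rel 𝒜 f F W σ τ) (h' : Rel 𝒜 f F W σ τ') : τ = τ' := by
  have key : ∀ x : W, ∃ (V : (Proj 𝒜).Opens) (_ : x.1 ∈ V) (hVW : V ≤ W),
      QCoh.res F hVW τ = QCoh.res F hVW τ' := by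
    intro x
    obtain ⟨V, hxV, hVW, k, m, hm, t, ht, hval⟩ := exists_normal_form 𝒜 f F σ x
    obtain ⟨i, hxi⟩ := hcov x.1
    obtain ⟨V₁, hxV₁, hV₁W, hV₁i, hV₁t, e1⟩ := h x i hxi k m hm t (ht ⟨x.1, hxV⟩) (hval ⟨x.1, hxV⟩)
    obtain ⟨V₂, hxV₂, hV₂W, hV₂i, hV₂t, e2⟩ := h' x i hxi k m hm t (ht ⟨x.1, hxV⟩) (hval ⟨x.1, hxV⟩)
    refine ⟨V₁ ⊓ V₂, ⟨hxV₁, hxV₂⟩, inf_le_left.trans hV₁W, ?_⟩
    have e3 := congrArg (QCoh.res F (inf_le_left : V₁ ⊓ V₂ ≤ V₁)) e1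
    have e4 := congrArg (QCoh.res F (inf_le_right : V₁ ⊓ V₂ ≤ V₂)) e2
    rw [res_res, res_locSec] at e3 e4
    rw [e3, e4]
  choose V hxV hVW hV using key
  exact eq_of_res_cover_eq F V hVW (fun x hx => Opens.mem_iSup.mpr ⟨⟨x, hx⟩, hxV ⟨x, hx⟩⟩) τ τ' hV

end GSIso

end Groth.Agent.Lib.Helper29.QCoh
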