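import Groth.Agent.Lib.Helper29.GSIso4
universe u
open CategoryTheory CategoryTheory.Limits AlgebraicGeometry Opposite TopologicalSpace DirectSum

namespace Groth.Agent.Lib.Helper29.QCoh

section GSIso
variable {R A : Type u} [CommRing R] [CommRing A] [Algebra R A] {𝒜 : ℕ → Submodule R A} [GradedAlgebra 𝒜]
variable {I : Type u} {f : I → 𝒜 1} {F : (Proj 𝒜).Modules}

theorem Rel.exists (hcov : ∀ x : Proj 𝒜, ∃ i, x ∈ Dp 𝒜 f i) {W : (Proj 𝒜).Opens}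
    (σ : Γ(GrTilde.tilde 𝒜 (gsDeg 𝒜 f F) 0, W)) : ∃ τ : Γ(F, W), Rel 𝒜 f F W σ τ := by
  have hnf := fun x : W => exists_normal_form 𝒜 f F σ x
  choose V hxV hVW k m hm t ht hval using hnf
  have hch := fun x : W => hcov x.1
  choose i hxi using hch
  let U : W → (Proj 𝒜).Opens := fun x => V x ⊓ Dp 𝒜 f (i x)
  have hUW : ∀ x, U x ≤ W := fun x => inf_le_left.trans (hVW x)
  let piece : ∀ x : W, Γ(F, U x) := fun x =>
    locSec 𝒜 f F (i x) (U x) inf_le_right (m x) (t x) (fun y => ht x ⟨y.1, y.2.1⟩)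
  have hcompat : ∀ x x' : W, QCoh.res F (inf_le_left : U x ⊓ U x' ≤ U x) (piece x) =
      QCoh.res F (inf_le_right : U x ⊓ U x' ≤ U x') (piece x') := by
    intro x x'
    have key : ∀ z : (U x ⊓ U x' : (Proj 𝒜).Opens), ∃ (V₁ : (Proj 𝒜).Opens) (_ : z.1 ∈ V₁)
        (hV₁ : V₁ ≤ U x ⊓ U x'),
        QCoh.res F hV₁ (QCoh.res F (inf_le_left : U x ⊓ U x' ≤ U x) (piece x)) =
        QCoh.res F hV₁ (QCoh.res F (inf_le_right : U x ⊓ U x' ≤ U x') (piece x')) := by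
      intro z
      have hzV : z.1 ∈ V x := z.2.1.1
      have hzV' : z.1 ∈ V x' := z.2.2.1
      have hzi' : z.1 ∈ Dp 𝒜 f (i x') := z.2.2.2
      have h1 := hval x ⟨z.1, hzV⟩
      have h2 := hval x' ⟨z.1, hzV'⟩
      obtain ⟨V₁, hzV₁, hV₁i, hV₁t, hV₁t', e1⟩ := exists_locSec_eq 𝒜 f F (i x') z.1 hzi'
        (m x) (m x') (hm x) (hm x') (t x) (t x') (ht x ⟨z.1, hzV⟩) (ht x' ⟨z.1, hzV'⟩)
        (h1.symm.trans h2)
      refine ⟨(U x ⊓ U x') ⊓ V₁, ⟨z.2, hzV₁⟩, inf_le_left, ?_⟩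
      have e2 := congrArg (QCoh.res F (inf_le_right : (U x ⊓ U x') ⊓ V₁ ≤ V₁)) e1
      rw [res_locSec, res_locSec] at e2
      simp only [piece]
      rw [res_res, res_res, res_locSec, res_locSec, ← e2]
      exact locSec_chart 𝒜 f F (i x) (i x') _ _ _ (m x) (hm x) (t x) _
    choose V₁ hzV₁ hV₁ hV₁e using key
    exact eq_of_res_cover_eq F V₁ hV₁
      (fun z hz => Opens.mem_iSup.mpr ⟨⟨z, hz⟩, hzV₁ ⟨z, hz⟩⟩) _ _ hV₁e
  obtain ⟨τ, hτ⟩ := exists_gluing F U W hUW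
    (fun x hx => Opens.mem_iSup.mpr ⟨⟨x, hx⟩, ⟨hxV ⟨x, hx⟩, hxi ⟨x, hx⟩⟩⟩) piece hcompat
  refine ⟨τ, fun x i' hxi' k' m' hm' t' ht' h => ?_⟩
  exact rel_at_of_one x (i x) (m x) (hm x) (t x) (ht x ⟨x.1, hxV x⟩) (hval x ⟨x.1, hxV x⟩)
    (U x) ⟨hxV x, hxi x⟩ (hUW x) inf_le_right _ (hτ x) i' hxi' k' m' hm' t' ht' h

end GSIso

end Groth.Agent.Lib.Helper29.QCoh
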