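import Groth.Agent.Lib.Helper29.GSIso5
universe u
open CategoryTheory CategoryTheory.Limits AlgebraicGeometry Opposite TopologicalSpace DirectSum

namespace Groth.Agent.Lib.Helper29.QCoh

section GSIso
variable {R A : Type u} [CommRing R] [CommRing A] [Algebra R A] {𝒜 : ℕ → Submodule R A} [GradedAlgebra 𝒜]
variable {I : Type u} {f : I → 𝒜 1} {F : (Proj 𝒜).Modules}

theorem Rel.res {W W' : (Proj 𝒜).Opens} (hW : W' ≤ W)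
    {σ : Γ(GrTilde.tilde 𝒜 (gsDeg 𝒜 f F) 0, W)} {τ : Γ(F, W)} (h : Rel 𝒜 f F W σ τ) :
    Rel 𝒜 f F W' (QCoh.res _ hW σ) (QCoh.res F hW τ) := by
  intro x i hxi k m hm t ht hx
  obtain ⟨V, hxV, hVW, hVi, hVt, e⟩ := h ⟨x.1, hW x.2⟩ i hxi k m hm t ht hx
  refine ⟨V ⊓ W', ⟨hxV, x.2⟩, inf_le_right, inf_le_left.trans hVi,
    fun y => hVt ⟨y.1, y.2.1⟩, ?_⟩
  have e2 := congrArg (QCoh.res F (inf_le_left : V ⊓ W' ≤ V)) e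
  rw [res_res, res_locSec] at e2
  rw [res_res]
  exact e2

theorem Rel.add {W : (Proj 𝒜).Opens}
    {σ σ' : Γ(GrTilde.tilde 𝒜 (gsDeg 𝒜 f F) 0, W)} {τ τ' : Γ(F, W)}
    (h : Rel 𝒜 f F W σ τ) (h' : Rel 𝒜 f F W σ' τ') : Rel 𝒜 f F W (σ + σ') (τ + τ') := by
  intro x i hxi k m hm t ht hx
  obtain ⟨V₁, hxV₁, hV₁W, k₁, m₁, hm₁, t₁, ht₁, hval₁⟩ := exists_normal_form 𝒜 f F σ x
  obtain ⟨V₂, hxV₂, hV₂W, k₂, m₂, hm₂, t₂, ht₂, hval₂⟩ := exists_normal_form 𝒜 f F σ' x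
  have hx₁ := hval₁ ⟨x.1, hxV₁⟩
  have hx₂ := hval₂ ⟨x.1, hxV₂⟩
  obtain ⟨V₁', hxV₁', hV₁'W, hV₁'i, hV₁'t, e1⟩ := h x i hxi k₁ m₁ hm₁ t₁ (ht₁ ⟨x.1, hxV₁⟩) hx₁
  obtain ⟨V₂', hxV₂', hV₂'W, hV₂'i, hV₂'t, e2⟩ := h' x i hxi k₂ m₂ hm₂ t₂ (ht₂ ⟨x.1, hxV₂⟩) hx₂
  have hm₃ : t₂.1 • m₁ + t₁.1 • m₂ ∈ gsDeg 𝒜 f F (k₁ + k₂) := by
    refine Submodule.add_mem _ ?_ (SetLike.GradedSMul.smul_mem t₁.2 hm₂)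
    have : t₂.1 • m₁ ∈ gsDeg 𝒜 f F (k₂ + k₁) := SetLike.GradedSMul.smul_mem t₂.2 hm₁
    rwa [add_comm] at this
  have ht₃ : t₁.1 * t₂.1 ∉ x.1.asHomogeneousIdeal := fun hh =>
    (x.1.isPrime.mem_or_mem hh).elim (ht₁ ⟨x.1, hxV₁⟩) (ht₂ ⟨x.1, hxV₂⟩)
  refine rel_at_of_one x i (t₂.1 • m₁ + t₁.1 • m₂) hm₃
    (⟨t₁.1 * t₂.1, SetLike.mul_mem_graded t₁.2 t₂.2⟩ : 𝒜 (k₁ + k₂)) ht₃ ?_
    (V₁' ⊓ V₂') ⟨hxV₁', hxV₂'⟩ (inf_le_left.trans hV₁'W) (inf_le_left.trans hV₁'i)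
    (fun y hh => (y.1.isPrime.mem_or_mem hh).elim (hV₁'t ⟨y.1, y.2.1⟩) (hV₂'t ⟨y.1, y.2.2⟩)) ?_
    i hxi k m hm t ht hx
  · rw [gfun_add]
    erw [hx₁, hx₂]
    rw [LocalizedModule.mk_add_mk]
    rfl
  · have e3 := congrArg (QCoh.res F (inf_le_left : V₁' ⊓ V₂' ≤ V₁')) e1
    have e4 := congrArg (QCoh.res F (inf_le_right : V₁' ⊓ V₂' ≤ V₂')) e2
    rw [res_res, res_locSec] at e3 e4
    rw [map_add, e3, e4]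
    exact (locSec_add 𝒜 f F i _ _ m₁ m₂ hm₁ hm₂ t₁ t₂ _ _).symm

theorem Rel.smul {W : (Proj 𝒜).Opens}
    {σ : Γ(GrTilde.tilde 𝒜 (gsDeg 𝒜 f F) 0, W)} {τ : Γ(F, W)}
    (h : Rel 𝒜 f F W σ τ) (r : Γ(Proj 𝒜, W)) : Rel 𝒜 f F W (r • σ) (r • τ) := by
  intro x i hxi k m hm t ht hx
  obtain ⟨V₁, hxV₁, hV₁W, k₁, m₁, hm₁, t₁, ht₁, hval₁⟩ := exists_normal_form 𝒜 f F σ x
  have hx₁ := hval₁ ⟨x.1, hxV₁⟩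
  obtain ⟨V₁', hxV₁', hV₁'W, hV₁'i, hV₁'t, e1⟩ := h x i hxi k₁ m₁ hm₁ t₁ (ht₁ ⟨x.1, hxV₁⟩) hx₁
  obtain ⟨Vr, hxVr, hVrW, l, a, b, hb, er⟩ := exists_ofun_eq_mk_local 𝒜 r x
  have hm₃ : a.1 • m₁ ∈ gsDeg 𝒜 f F (l + k₁) := SetLike.GradedSMul.smul_mem a.2 hm₁
  have ht₃ : b.1 * t₁.1 ∉ x.1.asHomogeneousIdeal := fun hh =>
    (x.1.isPrime.mem_or_mem hh).elim (hb ⟨x.1, hxVr⟩) (ht₁ ⟨x.1, hxV₁⟩)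
  refine rel_at_of_one x i (a.1 • m₁) hm₃
    (⟨b.1 * t₁.1, SetLike.mul_mem_graded b.2 t₁.2⟩ : 𝒜 (l + k₁)) ht₃ ?_
    (V₁' ⊓ Vr) ⟨hxV₁', hxVr⟩ (inf_le_left.trans hV₁'W) (inf_le_left.trans hV₁'i)
    (fun y hh => (y.1.isPrime.mem_or_mem hh).elim (hb ⟨y.1, y.2.2⟩) (hV₁'t ⟨y.1, y.2.1⟩)) ?_
    i hxi k m hm t ht hx
  · have hr : ofun 𝒜 r x = Localization.mk a.1 ⟨b.1, hb ⟨x.1, hxVr⟩⟩ := by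
      have := congrArg (fun ρ => ofun 𝒜 ρ ⟨x.1, hxVr⟩) er
      simpa only [ofun_res, ofun_mkO] using this
    rw [gfun_smul, hr]
    erw [hx₁]
    rw [LocalizedModule.mk_smul_mk]
    rfl
  · have e3 := congrArg (QCoh.res F (inf_le_left : V₁' ⊓ Vr ≤ V₁')) e1
    rw [res_res, res_locSec] at e3
    have e4 := congrArg (rres (Proj 𝒜) (inf_le_right : V₁' ⊓ Vr ≤ Vr)) er
    rw [rres_rres, rres_mkO] at e4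
    rw [res_smul', e3, e4]
    exact (locSec_smul 𝒜 f F i _ _ a b _ m₁ hm₁ t₁ _).symm

end GSIso

end Groth.Agent.Lib.Helper29.QCoh
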