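import Groth.Agent.Lib.Helper29.GSIso6
universe u
open CategoryTheory CategoryTheory.Limits AlgebraicGeometry Opposite TopologicalSpace DirectSum

namespace Groth.Agent.Lib.Helper29.QCoh

section GSIso
variable {R A : Type u} [CommRing R] [CommRing A] [Algebra R A] {𝒜 : ℕ → Submodule R A} [GradedAlgebra 𝒜]
variable {I : Type u} {f : I → 𝒜 1} {F : (Proj 𝒜).Modules}

/-- The comparison map `Γ_*(F)~ ⟶ F`. -/
noncomputable def tildeToF (hcov : ∀ x : Proj 𝒜, ∃ i, x ∈ Dp 𝒜 f i) :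
    GrTilde.tilde 𝒜 (gsDeg 𝒜 f F) 0 ⟶ F :=
  homOfApp
    (fun W => AddMonoidHom.mk' (fun σ => (Rel.exists hcov (F := F) σ).choose) (fun σ σ' =>
      Rel.unique hcov (Rel.exists hcov (σ + σ')).choose_spec
        (Rel.add (Rel.exists hcov σ).choose_spec (Rel.exists hcov σ').choose_spec)))
    (fun W r σ => Rel.unique hcov (Rel.exists hcov (r • σ)).choose_spec
        (Rel.smul (Rel.exists hcov σ).choose_spec r))
    (fun {W W'} h σ => Rel.unique hcov (Rel.exists hcov _).choose_spec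
        (Rel.res h (Rel.exists hcov σ).choose_spec))

theorem rel_tildeToF (hcov : ∀ x : Proj 𝒜, ∃ i, x ∈ Dp 𝒜 f i) (W : (Proj 𝒜).Opens)
    (σ : Γ(GrTilde.tilde 𝒜 (gsDeg 𝒜 f F) 0, W)) :
    Rel 𝒜 f F W σ ((tildeToF (F := F) hcov).app W σ) :=
  (Rel.exists hcov σ).choose_spec

end GSIso

end Groth.Agent.Lib.Helper29.QCoh
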