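import Groth.Agent.Lib.Helper29.GSIso7
import Groth.Agent.Lib.Helper29.IsoCover
universe u
open CategoryTheory CategoryTheory.Limits AlgebraicGeometry Opposite TopologicalSpace DirectSum

namespace Groth.Agent.Lib.Helper29.QCoh

section GSIso
variable {R A : Type u} [CommRing R] [CommRing A] [Algebra R A] {𝒜 : ℕ → Submodule R A} [GradedAlgebra 𝒜]
variable {I : Type u} {f : I → 𝒜 1} {F : (Proj 𝒜).Modules}

theorem frac_pow' (i j : I) (U : (Proj 𝒜).Opens) (hU : U ≤ Dp 𝒜 f i) (n : ℕ) :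
    frac 𝒜 f i U hU (⟨(f j).1 ^ n, pow_mem_deg 𝒜 f j n⟩ : 𝒜 n) =
      (frac 𝒜 f i U hU (f j)) ^ n := by
  apply ofun_ext
  intro x
  rw [ofun_pow, ofun_frac, ofun_frac, Localization.mk_pow]
  apply mk_eq_mk_of_mul_eq
  simp only [SubmonoidClass.coe_pow, pow_one]

theorem tildeToF_app_surjective [Finite I] [F.IsQuasicoherent]
    (hcov : ∀ x : Proj 𝒜, ∃ i, x ∈ Dp 𝒜 f i) (i₀ : I) :
    Function.Surjective ((tildeToF (F := F) hcov).app (Dp 𝒜 f i₀)) := by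
  intro τ
  obtain ⟨N, y, hy⟩ := exists_gstar_extension 𝒜 f F i₀ τ
  obtain ⟨m, hmy⟩ : ∃ m : GS 𝒜 f F, m = gsOf 𝒜 f F N y := ⟨_, rfl⟩
  have hm : m ∈ gsDeg 𝒜 f F N := ⟨y, hmy.symm⟩
  obtain ⟨t, ht0⟩ : ∃ t : 𝒜 N, t = ⟨(f i₀).1 ^ N, pow_mem_deg 𝒜 f i₀ N⟩ := ⟨_, rfl⟩
  have ht : ∀ x : Dp 𝒜 f i₀, t.1 ∉ x.1.asHomogeneousIdeal := fun x => by
    rw [ht0]; exact pow_not_mem_of_not_mem x.2 N
  refine ⟨mkG 𝒜 (gsDeg 𝒜 f F) 0 (Dp 𝒜 f i₀) (⟨m, hm⟩ : gsDeg 𝒜 f F N) t ht (by simp), ?_⟩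
  apply Rel.unique hcov (rel_tildeToF hcov _ _)
  intro x i hxi k m' hm' t' ht' h
  refine rel_at_of_one x i₀ m hm t (ht x) (gfun_mkG _ _ _ _ _ _ _ _ _) (Dp 𝒜 f i₀) x.2 le_rfl le_rfl
    ht ?_ i hxi k m' hm' t' ht' h
  unfold locSec fracT
  subst ht0
  rw [mkO_self, one_smul, res_self, hmy, coord_gsOf, hy, res_self]

theorem tildeToF_app_injective [Finite I] [F.IsQuasicoherent]
    (hcov : ∀ x : Proj 𝒜, ∃ i, x ∈ Dp 𝒜 f i) (i₀ : I) :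
    Function.Injective ((tildeToF (F := F) hcov).app (Dp 𝒜 f i₀)) := by
  rw [injective_iff_map_eq_zero]
  intro σ hσ
  have hrel : Rel 𝒜 f F (Dp 𝒜 f i₀) σ 0 := hσ ▸ rel_tildeToF hcov _ σ
  obtain ⟨k, i, μ, hdeg, hval⟩ := exists_gfun_eq_mk_basicOpen 𝒜 (gsDeg 𝒜 f F) 0 one_pos (f i₀) σ
  have hik : i = k := by
    have : (i : ℤ) = k := by rw [hdeg]; simp
    exact_mod_cast this
  subst hik
  obtain ⟨t, ht0⟩ : ∃ t : 𝒜 i, t = ⟨(f i₀).1 ^ i, pow_mem_deg 𝒜 f i₀ i⟩ := ⟨_, rfl⟩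
  have hc : coord 𝒜 f F i₀ μ.1 = 0 := by
    have key : ∀ x : Dp 𝒜 f i₀, ∃ (V : (Proj 𝒜).Opens) (_ : x.1 ∈ V) (hV : V ≤ Dp 𝒜 f i₀),
        QCoh.res F hV (coord 𝒜 f F i₀ μ.1) = 0 := by
      intro x
      obtain ⟨V, hxV, hVW, hVi, hVt, e⟩ := hrel x i₀ x.2 i μ.1 μ.2 t
        (by rw [ht0]; exact pow_not_mem_of_not_mem x.2 i) (by subst ht0; exact hval x)
      refine ⟨V, hxV, hVi, ?_⟩
      unfold locSec fracT at e
      subst ht0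
      rw [mkO_self, one_smul, map_zero] at e
      exact e.symm
    choose V hxV hV hV0 using key
    exact eq_zero_of_res_cover_eq_zero F V hV
      (fun x hx => Opens.mem_iSup.mpr ⟨⟨x, hx⟩, hxV ⟨x, hx⟩⟩) _ hV0
  obtain ⟨y, hy⟩ := μ.2
  have hy0 : y.1 i₀ = 0 := by rw [← coord_gsOf, hy]; exact hc
  obtain ⟨N, hN⟩ := exists_pow_smul_eq_zero_of_gstar 𝒜 f F i₀ y hy0
  have hz : (f i₀).1 ^ N • μ.1 = 0 := by
    rw [← hy, smul_gsOf 𝒜 f F _ (pow_mem_deg 𝒜 f i₀ N) y]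
    have : act 𝒜 f F ⟨_, pow_mem_deg 𝒜 f i₀ N⟩ y = 0 := by
      apply Subtype.ext
      funext j
      rw [act_val, frac_pow']
      exact hN j
    rw [this, map_zero]
  apply gfun_ext
  intro x
  rw [hval x, gfun_zero, locMod_mk_eq_zero_iff]
  exact ⟨⟨(f i₀).1 ^ N, pow_not_mem_of_not_mem x.2 N⟩, hz⟩

/-- **Every quasi-coherent module on `Proj` is `Γ_*(F)~`** (finitely many degree-one charts). -/
theorem isIso_tildeToF [Finite I] [F.IsQuasicoherent]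
    (hcov : ∀ x : Proj 𝒜, ∃ i, x ∈ Dp 𝒜 f i) : IsIso (tildeToF (F := F) hcov) := by
  haveI := tilde_isQuasicoherent 𝒜 (gsDeg 𝒜 f F) 0
  exact isIso_of_app_bijective_of_affine_cover _ (Dp 𝒜 f) (isAffineOpen_Dp 𝒜 f) hcov
    (fun i => ⟨tildeToF_app_injective hcov i, tildeToF_app_surjective hcov i⟩)

end GSIso

end Groth.Agent.Lib.Helper29.QCoh
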