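import Groth.Agent.Lib.Helper29.MkO
universe u
open CategoryTheory CategoryTheory.Limits AlgebraicGeometry Opposite TopologicalSpace DirectSum

namespace Groth.Agent.Lib.Helper29.QCoh

section GStar
variable {R A : Type u} [CommRing R] [CommRing A] [Algebra R A] (𝒜 : ℕ → Submodule R A) [GradedAlgebra 𝒜]
variable {I : Type u} (f : I → 𝒜 1) (F : (Proj 𝒜).Modules)

/-- The chart `D_+(f_i)`. -/
abbrev Dp (i : I) : (Proj 𝒜).Opens := Proj.basicOpen 𝒜 (f i).1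

theorem pow_not_mem_Dp (i : I) (n : ℕ) (U : (Proj 𝒜).Opens) (hU : U ≤ Dp 𝒜 f i) (x : U) :
    (f i).1 ^ n ∉ x.1.asHomogeneousIdeal := pow_not_mem_of_not_mem (hU x.2) n

/-- The fraction `a / f_i^k` on an open inside `D_+(f_i)`, for `a` of degree `k`. -/
noncomputable def frac (i : I) (U : (Proj 𝒜).Opens) (hU : U ≤ Dp 𝒜 f i) {k : ℕ} (a : 𝒜 k) :
    Γ(Proj 𝒜, U) :=
  mkO 𝒜 U (⟨a.1, by rw [smul_eq_mul, mul_one]; exact a.2⟩ : 𝒜 (k • 1))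
    ⟨(f i).1 ^ k, SetLike.pow_mem_graded k (f i).2⟩ (pow_not_mem_Dp 𝒜 f i k U hU)

theorem ofun_frac (i : I) (U : (Proj 𝒜).Opens) (hU : U ≤ Dp 𝒜 f i) {k : ℕ} (a : 𝒜 k) (x : U) :
    ofun 𝒜 (frac 𝒜 f i U hU a) x =
      Localization.mk a.1 ⟨(f i).1 ^ k, pow_not_mem_Dp 𝒜 f i k U hU x⟩ := rfl

theorem rres_frac (i : I) {U V : (Proj 𝒜).Opens} (hU : U ≤ Dp 𝒜 f i) (h : V ≤ U) {k : ℕ}
    (a : 𝒜 k) : rres (Proj 𝒜) h (frac 𝒜 f i U hU a) = frac 𝒜 f i V (h.trans hU) a := rfl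

theorem frac_mul (i : I) (U : (Proj 𝒜).Opens) (hU : U ≤ Dp 𝒜 f i) {k l : ℕ} (a : 𝒜 k) (b : 𝒜 l) :
    frac 𝒜 f i U hU (⟨a.1 * b.1, SetLike.mul_mem_graded a.2 b.2⟩ : 𝒜 (k + l)) =
      frac 𝒜 f i U hU a * frac 𝒜 f i U hU b := by
  apply ofun_ext
  intro x
  rw [ofun_mul, ofun_frac, ofun_frac, ofun_frac, Localization.mk_mul]
  apply mk_eq_mk_of_mul_eq
  simp only [Submonoid.coe_mul]
  rw [pow_add]

theorem frac_add (i : I) (U : (Proj 𝒜).Opens) (hU : U ≤ Dp 𝒜 f i) {k : ℕ} (a b : 𝒜 k) :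
    frac 𝒜 f i U hU (a + b) = frac 𝒜 f i U hU a + frac 𝒜 f i U hU b := by
  apply ofun_ext
  intro x
  rw [ofun_add, ofun_frac, ofun_frac, ofun_frac, Localization.add_mk_self]
  rfl

theorem frac_zero (i : I) (U : (Proj 𝒜).Opens) (hU : U ≤ Dp 𝒜 f i) {k : ℕ} :
    frac 𝒜 f i U hU (0 : 𝒜 k) = 0 := by
  apply ofun_ext
  intro x
  rw [ofun_zero, ofun_frac]
  exact Localization.mk_zero _

theorem frac_one (i : I) (U : (Proj 𝒜).Opens) (hU : U ≤ Dp 𝒜 f i) :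
    frac 𝒜 f i U hU (⟨1, SetLike.GradedOne.one_mem⟩ : 𝒜 0) = 1 := by
  apply ofun_ext
  intro x
  rw [ofun_one, ofun_frac]
  apply (mk_eq_mk_of_mul_eq _ _ _ _ _).trans (Localization.mk_self (1 : x.1.asHomogeneousIdeal.toIdeal.primeCompl))
  simp

theorem frac_self_pow (i : I) (U : (Proj 𝒜).Opens) (hU : U ≤ Dp 𝒜 f i) (k : ℕ) :
    frac 𝒜 f i U hU (⟨(f i).1 ^ k, SetLike.pow_mem_graded k (f i).2⟩ : 𝒜 (k • 1)) = 1 := by
  apply ofun_ext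
  intro x
  rw [ofun_one, ofun_frac]
  apply (mk_eq_mk_of_mul_eq _ _ _ _ _).trans (Localization.mk_self (1 : x.1.asHomogeneousIdeal.toIdeal.primeCompl))
  simp only [smul_eq_mul, mul_one, OneMemClass.coe_one, one_mul]

/-- Change of chart for fractions: `a / f_i^k = (f_j / f_i)^k * (a / f_j^k)`. -/
theorem frac_eq_frac_mul (i j : I) (U : (Proj 𝒜).Opens) (hi : U ≤ Dp 𝒜 f i) (hj : U ≤ Dp 𝒜 f j)
    {k : ℕ} (a : 𝒜 k) :
    frac 𝒜 f i U hi a =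
      frac 𝒜 f i U hi (⟨(f j).1 ^ k, SetLike.pow_mem_graded k (f j).2⟩ : 𝒜 (k • 1)) *
        frac 𝒜 f j U hj a := by
  apply ofun_ext
  intro x
  rw [ofun_mul, ofun_frac, ofun_frac, ofun_frac, Localization.mk_mul]
  apply mk_eq_mk_of_mul_eq
  simp only [Submonoid.coe_mul, smul_eq_mul, mul_one]
  ring

end GStar

end Groth.Agent.Lib.Helper29.QCoh
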