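import Groth.Agent.Lib.Helper29.GStar1
import Mathlib.Algebra.Module.GradedModule
universe u
open CategoryTheory CategoryTheory.Limits AlgebraicGeometry Opposite TopologicalSpace DirectSum

namespace Groth.Agent.Lib.Helper29.QCoh

section GStar
variable {R A : Type u} [CommRing R] [CommRing A] [Algebra R A] (𝒜 : ℕ → Submodule R A) [GradedAlgebra 𝒜]
variable {I : Type u} (f : I → 𝒜 1) (F : (Proj 𝒜).Modules)

/-- The transition function `(f_j / f_i)^n` on `D_+(f_i) ⊓ D_+(f_j)`. -/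
noncomputable def trans (n : ℕ) (i j : I) : Γ(Proj 𝒜, Dp 𝒜 f i ⊓ Dp 𝒜 f j) :=
  frac 𝒜 f i _ inf_le_left (⟨(f j).1 ^ n, SetLike.pow_mem_graded n (f j).2⟩ : 𝒜 (n • 1))

theorem trans_add (k n : ℕ) (i j : I) :
    trans 𝒜 f (k + n) i j = trans 𝒜 f k i j * trans 𝒜 f n i j := by
  apply ofun_ext
  intro x
  unfold trans
  rw [ofun_mul, ofun_frac, ofun_frac, ofun_frac, Localization.mk_mul]
  apply mk_eq_mk_of_mul_eq
  simp only [Submonoid.coe_mul, smul_eq_mul, mul_one]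
  ring

/-- The sections of `F(n)` described by cocycles: families `m_i ∈ F(D_+(f_i))` with
`m_i = (f_j / f_i)^n m_j` on the overlaps. -/
def GStarSub (n : ℕ) : AddSubgroup (∀ i, Γ(F, Dp 𝒜 f i)) where
  carrier := {m | ∀ i j, QCoh.res F (inf_le_left : Dp 𝒜 f i ⊓ Dp 𝒜 f j ≤ Dp 𝒜 f i) (m i) =
    trans 𝒜 f n i j • QCoh.res F (inf_le_right : Dp 𝒜 f i ⊓ Dp 𝒜 f j ≤ Dp 𝒜 f j) (m j)}
  zero_mem' := by
    intro i j
    simp only [Pi.zero_apply, map_zero, smul_zero]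
  add_mem' := by
    intro a b ha hb i j
    simp only [Pi.add_apply, map_add, smul_add]
    rw [ha i j, hb i j]
  neg_mem' := by
    intro a ha i j
    simp only [Pi.neg_apply, map_neg, smul_neg]
    rw [ha i j]

theorem mem_GStarSub (n : ℕ) (m : ∀ i, Γ(F, Dp 𝒜 f i)) :
    m ∈ GStarSub 𝒜 f F n ↔
      ∀ i j, QCoh.res F (inf_le_left : Dp 𝒜 f i ⊓ Dp 𝒜 f j ≤ Dp 𝒜 f i) (m i) =
        trans 𝒜 f n i j • QCoh.res F (inf_le_right : Dp 𝒜 f i ⊓ Dp 𝒜 f j ≤ Dp 𝒜 f j) (m j) :=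
  Iff.rfl

/-- The action of a homogeneous element of degree `k`: `(a • m)_i = (a / f_i^k) • m_i`. -/
noncomputable def act {k n : ℕ} (a : 𝒜 k) (m : GStarSub 𝒜 f F n) : GStarSub 𝒜 f F (k + n) :=
  ⟨fun i => frac 𝒜 f i _ le_rfl a • m.1 i, by
    intro i j
    simp only
    rw [res_smul, res_smul, m.2 i j, smul_smul, smul_smul, trans_add]
    congr 1
    change rres (Proj 𝒜) _ (frac 𝒜 f i _ le_rfl a) * _ = _ * rres (Proj 𝒜) _ (frac 𝒜 f j _ le_rfl a)
    rw [rres_frac, rres_frac, frac_eq_frac_mul 𝒜 f i j _ _ inf_le_right a]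
    unfold trans
    ring⟩

theorem act_val {k n : ℕ} (a : 𝒜 k) (m : GStarSub 𝒜 f F n) (i : I) :
    (act 𝒜 f F a m).1 i = frac 𝒜 f i _ le_rfl a • m.1 i := rfl

noncomputable instance gstarGmodule :
    DirectSum.Gmodule (fun k => 𝒜 k) (fun n => GStarSub 𝒜 f F n) where
  smul a m := act 𝒜 f F a m
  one_smul := by
    rintro ⟨n, m⟩
    refine Sigma.subtype_ext (zero_add n) ?_
    funext i
    change frac 𝒜 f i _ le_rfl (⟨1, SetLike.GradedOne.one_mem⟩ : 𝒜 0) • m.1 i = m.1 i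
    rw [frac_one, one_smul]
  mul_smul := by
    rintro ⟨k, a⟩ ⟨l, b⟩ ⟨n, m⟩
    refine Sigma.subtype_ext (add_assoc k l n) ?_
    funext i
    change frac 𝒜 f i _ le_rfl (⟨a.1 * b.1, SetLike.mul_mem_graded a.2 b.2⟩ : 𝒜 (k + l)) • m.1 i =
      frac 𝒜 f i _ le_rfl a • (frac 𝒜 f i _ le_rfl b • m.1 i)
    rw [frac_mul, mul_smul]
  smul_add := by
    intro k n a m m'
    apply Subtype.ext
    funext i
    change frac 𝒜 f i _ le_rfl a • (m.1 i + m'.1 i) = _
    rw [smul_add]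
    rfl
  smul_zero := by
    intro k n a
    apply Subtype.ext
    funext i
    change frac 𝒜 f i _ le_rfl a • (0 : Γ(F, Dp 𝒜 f i)) = 0
    rw [smul_zero]
  add_smul := by
    intro k n a a' m
    apply Subtype.ext
    funext i
    change frac 𝒜 f i _ le_rfl (a + a') • m.1 i = _
    rw [frac_add, add_smul]
    rfl
  zero_smul := by
    intro k n m
    apply Subtype.ext
    funext i
    change frac 𝒜 f i _ le_rfl (0 : 𝒜 k) • m.1 i = 0
    rw [frac_zero, zero_smul]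

end GStar

end Groth.Agent.Lib.Helper29.QCoh
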