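import Groth.Agent.Lib.Helper29.GStar2
universe u
open CategoryTheory CategoryTheory.Limits AlgebraicGeometry Opposite TopologicalSpace DirectSum

namespace Groth.Agent.Lib.Helper29.QCoh

section GS
variable {R A : Type u} [CommRing R] [CommRing A] [Algebra R A] (𝒜 : ℕ → Submodule R A) [GradedAlgebra 𝒜]
variable {I : Type u} (f : I → 𝒜 1) (F : (Proj 𝒜).Modules)

/-- The graded module `Γ_*(F) = ⨁ₙ Γ(X, F(n))`, described by cocycles. -/
def GS : Type u := ⨁ n, GStarSub 𝒜 f F n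

noncomputable instance : AddCommGroup (GS 𝒜 f F) :=
  inferInstanceAs (AddCommGroup (⨁ n, GStarSub 𝒜 f F n))

noncomputable instance gsModuleDS : Module (⨁ k, 𝒜 k) (GS 𝒜 f F) :=
  inferInstanceAs (Module (⨁ k, 𝒜 k) (⨁ n, GStarSub 𝒜 f F n))

noncomputable instance gsModuleA : Module A (GS 𝒜 f F) :=
  Module.compHom (GS 𝒜 f F) (DirectSum.decomposeRingEquiv 𝒜 : A ≃+* ⨁ i, 𝒜 i).toRingHom

noncomputable instance gsModuleR : Module R (GS 𝒜 f F) :=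
  Module.compHom (GS 𝒜 f F) (algebraMap R A)

instance : IsScalarTower R A (GS 𝒜 f F) where
  smul_assoc r a m := by
    change (r • a) • m = algebraMap R A r • (a • m)
    rw [Algebra.smul_def, mul_smul]

/-- The inclusion of the degree `n` part. -/
noncomputable def gsOf (n : ℕ) : GStarSub 𝒜 f F n →+ GS 𝒜 f F :=
  DirectSum.of (fun n => GStarSub 𝒜 f F n) n

theorem smul_gsOf {k n : ℕ} (a : A) (ha : a ∈ 𝒜 k) (y : GStarSub 𝒜 f F n) :
    a • gsOf 𝒜 f F n y = gsOf 𝒜 f F (k + n) (act 𝒜 f F ⟨a, ha⟩ y) := by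
  change (DirectSum.decompose 𝒜 a) • (DirectSum.of (fun n => GStarSub 𝒜 f F n) n y) = _
  rw [DirectSum.decompose_of_mem 𝒜 ha]
  exact DirectSum.Gmodule.of_smul_of _ _ _ _

/-- The `i`-th coordinate, summed over all degrees. -/
noncomputable def coord (i : I) : GS 𝒜 f F →+ Γ(F, Dp 𝒜 f i) :=
  DirectSum.toAddMonoid fun n =>
    ((Pi.evalAddMonoidHom (fun i => Γ(F, Dp 𝒜 f i)) i).comp (GStarSub 𝒜 f F n).subtype)

theorem coord_gsOf (i : I) (n : ℕ) (y : GStarSub 𝒜 f F n) :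
    coord 𝒜 f F i (gsOf 𝒜 f F n y) = y.1 i := by
  unfold coord gsOf
  exact DirectSum.toAddMonoid_of _ _ _

theorem gsOf_injective (n : ℕ) : Function.Injective (gsOf 𝒜 f F n) :=
  DirectSum.of_injective n

/-- The homogeneous part of degree `n`. -/
noncomputable def gsDeg (n : ℕ) : Submodule R (GS 𝒜 f F) where
  carrier := Set.range (gsOf 𝒜 f F n)
  zero_mem' := ⟨0, map_zero _⟩
  add_mem' := by
    rintro _ _ ⟨y, rfl⟩ ⟨y', rfl⟩
    exact ⟨y + y', map_add _ _ _⟩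
  smul_mem' := by
    rintro r _ ⟨y, rfl⟩
    change algebraMap R A r • gsOf 𝒜 f F n y ∈ _
    rw [smul_gsOf 𝒜 f F (algebraMap R A r) (SetLike.algebraMap_mem_graded 𝒜 r) y]
    have h0 : 0 + n = n := zero_add n
    refine ⟨⟨(act 𝒜 f F ⟨algebraMap R A r, SetLike.algebraMap_mem_graded 𝒜 r⟩ y).1, ?_⟩, ?_⟩
    · have key : ∀ (v : ∀ i, Γ(F, Dp 𝒜 f i)) (n' : ℕ), n' = n → v ∈ GStarSub 𝒜 f F n' →
          v ∈ GStarSub 𝒜 f F n := by
        intro v n' h hv; subst h; exact hv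
      exact key _ _ h0 (act 𝒜 f F ⟨algebraMap R A r, SetLike.algebraMap_mem_graded 𝒜 r⟩ y).2
    · apply DirectSum.of_eq_of_gradedMonoid_eq
      exact Sigma.subtype_ext h0.symm rfl

theorem mem_gsDeg (n : ℕ) (m : GS 𝒜 f F) : m ∈ gsDeg 𝒜 f F n ↔ ∃ y, gsOf 𝒜 f F n y = m := Iff.rfl

instance : SetLike.GradedSMul 𝒜 (gsDeg 𝒜 f F) where
  smul_mem := by
    rintro k n a _ ha ⟨y, rfl⟩
    rw [smul_gsOf 𝒜 f F a ha y]
    exact ⟨_, rfl⟩

noncomputable instance : DirectSum.Decomposition (gsDeg 𝒜 f F) :=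
  DirectSum.Decomposition.ofAddHom (gsDeg 𝒜 f F)
    (DirectSum.toAddMonoid fun n =>
      (DirectSum.of (fun n => gsDeg 𝒜 f F n) n).comp
        ((gsOf 𝒜 f F n).codRestrict (gsDeg 𝒜 f F n).toAddSubmonoid (fun y => ⟨y, rfl⟩)))
    (by
      apply DirectSum.addHom_ext
      intro n y
      change (DirectSum.coeAddMonoidHom (gsDeg 𝒜 f F)) ((toAddMonoid fun n =>
          (of (fun n => ↥(gsDeg 𝒜 f F n)) n).comp ((gsOf 𝒜 f F n).codRestrict
            (gsDeg 𝒜 f F n).toAddSubmonoid (fun y => ⟨y, rfl⟩)))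
          ((of (fun i => ↥(GStarSub 𝒜 f F i)) n) y)) = (of (fun i => ↥(GStarSub 𝒜 f F i)) n) y
      have h1 : (toAddMonoid fun n =>
          (of (fun n => ↥(gsDeg 𝒜 f F n)) n).comp ((gsOf 𝒜 f F n).codRestrict
            (gsDeg 𝒜 f F n).toAddSubmonoid (fun y => ⟨y, rfl⟩)))
          ((of (fun i => ↥(GStarSub 𝒜 f F i)) n) y) =
          of (fun n => ↥(gsDeg 𝒜 f F n)) n ⟨gsOf 𝒜 f F n y, ⟨y, rfl⟩⟩ :=
        DirectSum.toAddMonoid_of _ _ _
      rw [h1]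
      exact DirectSum.coeAddMonoidHom_of _ _ _)
    (by
      apply DirectSum.addHom_ext
      rintro n ⟨_, ⟨y, rfl⟩⟩
      change (toAddMonoid fun n =>
          (of (fun n => ↥(gsDeg 𝒜 f F n)) n).comp ((gsOf 𝒜 f F n).codRestrict
            (gsDeg 𝒜 f F n).toAddSubmonoid (fun y => ⟨y, rfl⟩)))
          ((DirectSum.coeAddMonoidHom (gsDeg 𝒜 f F))
          ((of (fun i => ↥(gsDeg 𝒜 f F i)) n) ⟨(gsOf 𝒜 f F n) y, ⟨y, rfl⟩⟩)) =
          (of (fun i => ↥(gsDeg 𝒜 f F i)) n) ⟨(gsOf 𝒜 f F n) y, ⟨y, rfl⟩⟩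
      have h2 : (DirectSum.coeAddMonoidHom (gsDeg 𝒜 f F))
          ((of (fun i => ↥(gsDeg 𝒜 f F i)) n) ⟨(gsOf 𝒜 f F n) y, ⟨y, rfl⟩⟩) = gsOf 𝒜 f F n y :=
        DirectSum.coeAddMonoidHom_of _ _ _
      rw [h2]
      exact DirectSum.toAddMonoid_of _ _ _)

end GS

end Groth.Agent.Lib.Helper29.QCoh
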