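import Groth.Agent.Lib.Helper29.GStar3
universe u
open CategoryTheory CategoryTheory.Limits AlgebraicGeometry Opposite TopologicalSpace DirectSum

namespace Groth.Agent.Lib.Helper29.QCoh

section QCohWrap
variable {X : Scheme.{u}}

theorem exists_pow_smul_eq_res' (M : X.Modules) [M.IsQuasicoherent] {U V : X.Opens}
    (hU : IsAffineOpen U) (f : Γ(X, U)) (hV : V = X.basicOpen f) (hVU : V ≤ U) (s : Γ(M, V)) :
    ∃ (n : ℕ) (m : Γ(M, U)), (rres X hVU f) ^ n • s = QCoh.res M hVU m := by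
  subst hV
  exact exists_pow_smul_eq_res M hU f s

theorem exists_pow_smul_eq_zero' (M : X.Modules) [M.IsQuasicoherent] {U V : X.Opens}
    (hU : IsAffineOpen U) (f : Γ(X, U)) (hV : V = X.basicOpen f) (hVU : V ≤ U) (m : Γ(M, U))
    (hm : QCoh.res M hVU m = 0) : ∃ n : ℕ, f ^ n • m = 0 := by
  subst hV
  exact exists_pow_smul_eq_zero M hU f m hm

end QCohWrap

section FracMore
variable {R A : Type u} [CommRing R] [CommRing A] [Algebra R A] (𝒜 : ℕ → Submodule R A) [GradedAlgebra 𝒜]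
variable {I : Type u} (f : I → 𝒜 1)

theorem frac_self (i : I) (U : (Proj 𝒜).Opens) (hU : U ≤ Dp 𝒜 f i) :
    frac 𝒜 f i U hU (f i) = 1 := by
  apply ofun_ext
  intro x
  rw [ofun_one, ofun_frac]
  apply (mk_eq_mk_of_mul_eq _ _ _ _ _).trans
    (Localization.mk_self (1 : x.1.asHomogeneousIdeal.toIdeal.primeCompl))
  simp only [pow_one, OneMemClass.coe_one, one_mul, mul_one]

theorem frac_pow (i j : I) (U : (Proj 𝒜).Opens) (hU : U ≤ Dp 𝒜 f i) (n : ℕ) :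
    (frac 𝒜 f i U hU (f j)) ^ n =
      frac 𝒜 f i U hU (⟨(f j).1 ^ n, SetLike.pow_mem_graded n (f j).2⟩ : 𝒜 (n • 1)) := by
  apply ofun_ext
  intro x
  rw [ofun_pow, ofun_frac, ofun_frac, Localization.mk_pow]
  apply mk_eq_mk_of_mul_eq
  simp only [SubmonoidClass.coe_pow, pow_one, smul_eq_mul, mul_one]

theorem trans_eq_pow (n : ℕ) (i j : I) :
    trans 𝒜 f n i j = (frac 𝒜 f i _ inf_le_left (f j)) ^ n := by
  rw [frac_pow]; rfl

theorem basicOpen_frac (i : I) (U : (Proj 𝒜).Opens) (hU : U ≤ Dp 𝒜 f i) {k : ℕ} (a : 𝒜 k) :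
    (Proj 𝒜).basicOpen (frac 𝒜 f i U hU a) = U ⊓ Proj.basicOpen 𝒜 a.1 :=
  basicOpen_mkO 𝒜 U _ _ _

theorem isAffineOpen_Dp (i : I) : IsAffineOpen (Dp 𝒜 f i) :=
  Proj.isAffineOpen_basicOpen 𝒜 (f i).1 (f i).2 one_pos

theorem isAffineOpen_Dp_inf (i j : I) : IsAffineOpen (Dp 𝒜 f i ⊓ Dp 𝒜 f j) := by
  have := Proj.isAffineOpen_basicOpen 𝒜 ((f i).1 * (f j).1)
    (SetLike.mul_mem_graded (f i).2 (f j).2) (by norm_num : 0 < 1 + 1)
  rwa [Proj.basicOpen_mul] at this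

/-- `f_l / f_i = (f_j / f_i) * (f_l / f_j)`. -/
theorem frac_eq_frac_mul_one (i j l : I) (U : (Proj 𝒜).Opens) (hi : U ≤ Dp 𝒜 f i)
    (hj : U ≤ Dp 𝒜 f j) :
    frac 𝒜 f i U hi (f l) = frac 𝒜 f i U hi (f j) * frac 𝒜 f j U hj (f l) := by
  apply ofun_ext
  intro x
  rw [ofun_mul, ofun_frac, ofun_frac, ofun_frac, Localization.mk_mul]
  apply mk_eq_mk_of_mul_eq
  simp only [Submonoid.coe_mul, pow_one]
  ring

end FracMore

end Groth.Agent.Lib.Helper29.QCoh
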