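import Groth.Agent.Lib.Helper29.GStar4
universe u
open CategoryTheory CategoryTheory.Limits AlgebraicGeometry Opposite TopologicalSpace DirectSum

namespace Groth.Agent.Lib.Helper29.QCoh

section Extension
variable {R A : Type u} [CommRing R] [CommRing A] [Algebra R A] (𝒜 : ℕ → Submodule R A) [GradedAlgebra 𝒜]
variable {I : Type u} (f : I → 𝒜 1) (F : (Proj 𝒜).Modules)

/-- **Extension of sections after twisting**: for quasi-coherent `F` and a finite family of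
degree-one charts, every section of `F` over one chart is the component of a cocycle family of
some weight. -/
theorem exists_gstar_extension [Finite I] [F.IsQuasicoherent] (i₀ : I)
    (τ : Γ(F, Dp 𝒜 f i₀)) :
    ∃ (N : ℕ) (m : GStarSub 𝒜 f F N), m.1 i₀ = τ := by
  classical
  haveI := Fintype.ofFinite I
  -- step 1: extend over each chart
  have h1 : ∀ j, ∃ (n : ℕ) (m : Γ(F, Dp 𝒜 f j)),
      (frac 𝒜 f j (Dp 𝒜 f j ⊓ Dp 𝒜 f i₀) inf_le_left (f i₀)) ^ n •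
        QCoh.res F (inf_le_right : Dp 𝒜 f j ⊓ Dp 𝒜 f i₀ ≤ Dp 𝒜 f i₀) τ =
      QCoh.res F (inf_le_left : Dp 𝒜 f j ⊓ Dp 𝒜 f i₀ ≤ Dp 𝒜 f j) m := by
    intro j
    have hb : Dp 𝒜 f j ⊓ Dp 𝒜 f i₀ =
        (Proj 𝒜).basicOpen (frac 𝒜 f j (Dp 𝒜 f j) le_rfl (f i₀)) :=
      (basicOpen_frac 𝒜 f j _ le_rfl (f i₀)).symm
    exact exists_pow_smul_eq_res' F (isAffineOpen_Dp 𝒜 f j) (frac 𝒜 f j _ le_rfl (f i₀)) hb
      inf_le_left (QCoh.res F inf_le_right τ)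
  choose n₁ m₁ hm₁ using h1
  set N := Finset.univ.sup n₁ with hN
  obtain ⟨m₂, hm₂⟩ : ∃ m₂ : ∀ j, Γ(F, Dp 𝒜 f j),
      ∀ j, QCoh.res F (inf_le_left : Dp 𝒜 f j ⊓ Dp 𝒜 f i₀ ≤ Dp 𝒜 f j) (m₂ j) =
      (frac 𝒜 f j (Dp 𝒜 f j ⊓ Dp 𝒜 f i₀) inf_le_left (f i₀)) ^ N •
        QCoh.res F (inf_le_right : Dp 𝒜 f j ⊓ Dp 𝒜 f i₀ ≤ Dp 𝒜 f i₀) τ := by
    refine ⟨fun j => (frac 𝒜 f j (Dp 𝒜 f j) le_rfl (f i₀)) ^ (N - n₁ j) • m₁ j, fun j => ?_⟩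
    simp only
    rw [res_smul', map_pow, rres_frac, ← hm₁ j, smul_smul, ← pow_add,
      Nat.sub_add_cancel (Finset.le_sup (Finset.mem_univ j))]
  -- step 2: the defect of the cocycle condition is killed by a power
  have h2 : ∀ j k, ∃ n : ℕ,
      (frac 𝒜 f j (Dp 𝒜 f j ⊓ Dp 𝒜 f k) inf_le_left (f i₀)) ^ n •
        (QCoh.res F (inf_le_left : Dp 𝒜 f j ⊓ Dp 𝒜 f k ≤ Dp 𝒜 f j) (m₂ j) -
          trans 𝒜 f N j k •
            QCoh.res F (inf_le_right : Dp 𝒜 f j ⊓ Dp 𝒜 f k ≤ Dp 𝒜 f k) (m₂ k)) = 0 := by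
    intro j k
    have hb : (Dp 𝒜 f j ⊓ Dp 𝒜 f k) ⊓ Dp 𝒜 f i₀ =
        (Proj 𝒜).basicOpen (frac 𝒜 f j (Dp 𝒜 f j ⊓ Dp 𝒜 f k) inf_le_left (f i₀)) :=
      (basicOpen_frac 𝒜 f j _ inf_le_left (f i₀)).symm
    apply exists_pow_smul_eq_zero' F (isAffineOpen_Dp_inf 𝒜 f j k) _ hb inf_le_left
    have hTj : (Dp 𝒜 f j ⊓ Dp 𝒜 f k) ⊓ Dp 𝒜 f i₀ ≤ Dp 𝒜 f j ⊓ Dp 𝒜 f i₀ :=
      inf_le_inf_right _ inf_le_left
    have hTk : (Dp 𝒜 f j ⊓ Dp 𝒜 f k) ⊓ Dp 𝒜 f i₀ ≤ Dp 𝒜 f k ⊓ Dp 𝒜 f i₀ :=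
      inf_le_inf_right _ inf_le_right
    have e1 : QCoh.res F (inf_le_left : (Dp 𝒜 f j ⊓ Dp 𝒜 f k) ⊓ Dp 𝒜 f i₀ ≤ _)
        (QCoh.res F (inf_le_left : Dp 𝒜 f j ⊓ Dp 𝒜 f k ≤ Dp 𝒜 f j) (m₂ j)) =
        QCoh.res F hTj (QCoh.res F inf_le_left (m₂ j)) := by
      rw [res_res, res_res]
    have e2 : QCoh.res F (inf_le_left : (Dp 𝒜 f j ⊓ Dp 𝒜 f k) ⊓ Dp 𝒜 f i₀ ≤ _)
        (QCoh.res F (inf_le_right : Dp 𝒜 f j ⊓ Dp 𝒜 f k ≤ Dp 𝒜 f k) (m₂ k)) =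
        QCoh.res F hTk (QCoh.res F inf_le_left (m₂ k)) := by
      rw [res_res, res_res]
    rw [map_sub, sub_eq_zero, res_smul', e1, e2, hm₂ j, hm₂ k, res_smul', res_smul', res_res,
      res_res, smul_smul]
    congr 1
    rw [map_pow, map_pow, rres_frac, rres_frac, trans_eq_pow, map_pow, rres_frac, ← mul_pow,
      frac_eq_frac_mul_one 𝒜 f j k i₀ _ _ (inf_le_left.trans inf_le_right)]
  choose n₂ hn₂ using h2
  set N' := Finset.univ.sup (fun p : I × I => n₂ p.1 p.2) with hN'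
  have hn₂' : ∀ j k, (frac 𝒜 f j (Dp 𝒜 f j ⊓ Dp 𝒜 f k) inf_le_left (f i₀)) ^ N' •
        (QCoh.res F (inf_le_left : Dp 𝒜 f j ⊓ Dp 𝒜 f k ≤ Dp 𝒜 f j) (m₂ j) -
          trans 𝒜 f N j k •
            QCoh.res F (inf_le_right : Dp 𝒜 f j ⊓ Dp 𝒜 f k ≤ Dp 𝒜 f k) (m₂ k)) = 0 := by
    intro j k
    have hle : n₂ j k ≤ N' := Finset.le_sup (f := fun p : I × I => n₂ p.1 p.2)
      (Finset.mem_univ (j, k))
    rw [← Nat.sub_add_cancel hle, pow_add, mul_smul, hn₂ j k, smul_zero]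
  -- step 3: the corrected family
  have hm₃ : (fun j => (frac 𝒜 f j (Dp 𝒜 f j) le_rfl (f i₀)) ^ N' • m₂ j) ∈
      GStarSub 𝒜 f F (N' + N) := by
    intro j k
    simp only
    have h := hn₂' j k
    rw [smul_sub, sub_eq_zero] at h
    rw [res_smul', res_smul', map_pow, map_pow, rres_frac, rres_frac, h, smul_smul, smul_smul,
      trans_add]
    congr 1
    rw [trans_eq_pow 𝒜 f N' j k,
      frac_eq_frac_mul_one 𝒜 f j k i₀ _ inf_le_left inf_le_right, mul_pow]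
    ring
  refine ⟨N' + N, ⟨_, hm₃⟩, ?_⟩
  change (frac 𝒜 f i₀ (Dp 𝒜 f i₀) le_rfl (f i₀)) ^ N' • m₂ i₀ = τ
  rw [frac_self, one_pow, one_smul]
  have h := hm₂ i₀
  rw [frac_self, one_pow, one_smul] at h
  have hinj := res_injective_of_eq F (inf_idem (Dp 𝒜 f i₀))
  exact hinj h

end Extension

end Groth.Agent.Lib.Helper29.QCoh
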