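import Groth.Agent.Lib.Helper29.GStar5
universe u
open CategoryTheory CategoryTheory.Limits AlgebraicGeometry Opposite TopologicalSpace DirectSum

namespace Groth.Agent.Lib.Helper29.QCoh

section Shift
variable {R A : Type u} [CommRing R] [CommRing A] [Algebra R A] (𝒜 : ℕ → Submodule R A) [GradedAlgebra 𝒜]
variable {I : Type u} (f : I → 𝒜 1) (F : (Proj 𝒜).Modules)

/-- Transport along an equality of weights. -/
def GStarSub.cast {n n' : ℕ} (h : n = n') (m : GStarSub 𝒜 f F n) : GStarSub 𝒜 f F n' :=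
  ⟨m.1, h ▸ m.2⟩

theorem GStarSub.cast_val {n n' : ℕ} (h : n = n') (m : GStarSub 𝒜 f F n) :
    (GStarSub.cast 𝒜 f F h m).1 = m.1 := rfl

theorem exists_gstar_extension_ge [Finite I] [F.IsQuasicoherent] (i₀ : I)
    (τ : Γ(F, Dp 𝒜 f i₀)) :
    ∃ N : ℕ, ∀ n : ℕ, N ≤ n → ∃ m : GStarSub 𝒜 f F n, m.1 i₀ = τ := by
  obtain ⟨N, m, hm⟩ := exists_gstar_extension 𝒜 f F i₀ τ
  refine ⟨N, fun n hn => ?_⟩
  have hmem : (f i₀).1 ^ (n - N) ∈ 𝒜 ((n - N) • 1) := SetLike.pow_mem_graded (n - N) (f i₀).2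
  have hidx : (n - N) • 1 + N = n := by rw [smul_eq_mul, mul_one]; omega
  refine ⟨GStarSub.cast 𝒜 f F hidx (act 𝒜 f F ⟨_, hmem⟩ m), ?_⟩
  rw [GStarSub.cast_val, act_val, frac_self_pow, one_smul, hm]

/-- A cocycle family whose component on one chart vanishes is killed chartwise by a power of the
corresponding coordinate. -/
theorem exists_pow_smul_eq_zero_of_gstar [Finite I] [F.IsQuasicoherent] (i₀ : I) {n : ℕ}
    (m : GStarSub 𝒜 f F n) (hm : m.1 i₀ = 0) :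
    ∃ N : ℕ, ∀ j, (frac 𝒜 f j (Dp 𝒜 f j) le_rfl (f i₀)) ^ N • m.1 j = 0 := by
  classical
  haveI := Fintype.ofFinite I
  have h1 : ∀ j, ∃ N : ℕ, (frac 𝒜 f j (Dp 𝒜 f j) le_rfl (f i₀)) ^ N • m.1 j = 0 := by
    intro j
    have hb : Dp 𝒜 f j ⊓ Dp 𝒜 f i₀ =
        (Proj 𝒜).basicOpen (frac 𝒜 f j (Dp 𝒜 f j) le_rfl (f i₀)) :=
      (basicOpen_frac 𝒜 f j _ le_rfl (f i₀)).symm
    apply exists_pow_smul_eq_zero' F (isAffineOpen_Dp 𝒜 f j) _ hb inf_le_left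
    rw [m.2 j i₀, hm, map_zero, smul_zero]
  choose N₁ hN₁ using h1
  refine ⟨Finset.univ.sup N₁, fun j => ?_⟩
  rw [← Nat.sub_add_cancel (Finset.le_sup (f := N₁) (Finset.mem_univ j)), pow_add, mul_smul,
    hN₁ j, smul_zero]

end Shift

end Groth.Agent.Lib.Helper29.QCoh
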