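import Groth.Agent.Lib.Helper29.GStar7
universe u
open CategoryTheory CategoryTheory.Limits AlgebraicGeometry Opposite TopologicalSpace DirectSum

/-! # Cocycle description of sections of `F(nd)` for charts of a common degree `d` -/

namespace Groth.Agent.Lib.Helper29.QCoh

section GStarD
variable {R A : Type u} [CommRing R] [CommRing A] [Algebra R A] (𝒜 : ℕ → Submodule R A) [GradedAlgebra 𝒜]
variable {I : Type u} {d : ℕ} (f : I → 𝒜 d) (F : (Proj 𝒜).Modules)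

/-- The chart `D_+(f_i)`. -/
abbrev DpD (i : I) : (Proj 𝒜).Opens := Proj.basicOpen 𝒜 (f i).1

/-- The fraction `f_l / f_i` on an open inside `D_+(f_i)`. -/
noncomputable def fr (i l : I) (U : (Proj 𝒜).Opens) (hU : U ≤ DpD 𝒜 f i) : Γ(Proj 𝒜, U) :=
  mkO 𝒜 U (f l) (f i) (fun x => hU x.2)

theorem ofun_fr (i l : I) (U : (Proj 𝒜).Opens) (hU : U ≤ DpD 𝒜 f i) (x : U) :
    ofun 𝒜 (fr 𝒜 f i l U hU) x = Localization.mk (f l).1 ⟨(f i).1, hU x.2⟩ := rfl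

theorem rres_fr (i l : I) {U V : (Proj 𝒜).Opens} (hU : U ≤ DpD 𝒜 f i) (h : V ≤ U) :
    rres (Proj 𝒜) h (fr 𝒜 f i l U hU) = fr 𝒜 f i l V (h.trans hU) := rfl

theorem fr_self (i : I) (U : (Proj 𝒜).Opens) (hU : U ≤ DpD 𝒜 f i) : fr 𝒜 f i i U hU = 1 :=
  mkO_self 𝒜 U (f i) _

theorem fr_mul_fr (i j l : I) (U : (Proj 𝒜).Opens) (hi : U ≤ DpD 𝒜 f i) (hj : U ≤ DpD 𝒜 f j) :
    fr 𝒜 f i l U hi = fr 𝒜 f i j U hi * fr 𝒜 f j l U hj := by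
  apply ofun_ext
  intro x
  rw [ofun_mul, ofun_fr, ofun_fr, ofun_fr, Localization.mk_mul]
  apply mk_eq_mk_of_mul_eq
  simp only [Submonoid.coe_mul]
  ring

theorem basicOpen_fr (i l : I) (U : (Proj 𝒜).Opens) (hU : U ≤ DpD 𝒜 f i) :
    (Proj 𝒜).basicOpen (fr 𝒜 f i l U hU) = U ⊓ DpD 𝒜 f l :=
  basicOpen_mkO 𝒜 U _ _ _

theorem isAffineOpen_DpD (hd : 0 < d) (i : I) : IsAffineOpen (DpD 𝒜 f i) :=
  Proj.isAffineOpen_basicOpen 𝒜 (f i).1 (f i).2 hd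

theorem isAffineOpen_DpD_inf (hd : 0 < d) (i j : I) : IsAffineOpen (DpD 𝒜 f i ⊓ DpD 𝒜 f j) := by
  have := Proj.isAffineOpen_basicOpen 𝒜 ((f i).1 * (f j).1)
    (SetLike.mul_mem_graded (f i).2 (f j).2) (by omega : 0 < d + d)
  rwa [Proj.basicOpen_mul] at this

/-- Cocycle families of weight `n`: `m_i = (f_j / f_i)^n m_j` on the overlaps. -/
def GStarSubD (n : ℕ) : AddSubgroup (∀ i, Γ(F, DpD 𝒜 f i)) where
  carrier := {m | ∀ i j, QCoh.res F (inf_le_left : DpD 𝒜 f i ⊓ DpD 𝒜 f j ≤ DpD 𝒜 f i) (m i) =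
    (fr 𝒜 f i j (DpD 𝒜 f i ⊓ DpD 𝒜 f j) inf_le_left) ^ n •
      QCoh.res F (inf_le_right : DpD 𝒜 f i ⊓ DpD 𝒜 f j ≤ DpD 𝒜 f j) (m j)}
  zero_mem' := by
    intro i j
    simp only [Pi.zero_apply, map_zero, smul_zero]
  add_mem' := by
    intro a b ha hb i j
    simp only [Pi.add_apply, map_add, smul_add]
    rw [ha i j, hb i j]
  neg_mem' := by
    intro a ha i j
    simp only [Pi.neg_apply, map_neg, smul_neg]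
    rw [ha i j]

/-- Multiplication by `f_{i₀}^e` raises the weight by `e`. -/
noncomputable def shiftD (i₀ : I) (e : ℕ) {n : ℕ} (m : GStarSubD 𝒜 f F n) :
    GStarSubD 𝒜 f F (e + n) :=
  ⟨fun j => (fr 𝒜 f j i₀ _ le_rfl) ^ e • m.1 j, by
    intro j k
    simp only
    rw [res_smul', res_smul', m.2 j k, smul_smul, smul_smul, map_pow, map_pow, rres_fr, rres_fr,
      pow_add]
    congr 1
    rw [fr_mul_fr 𝒜 f j k i₀ _ inf_le_left inf_le_right, mul_pow]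
    ring⟩

theorem shiftD_val (i₀ : I) (e : ℕ) {n : ℕ} (m : GStarSubD 𝒜 f F n) (j : I) :
    (shiftD 𝒜 f F i₀ e m).1 j = (fr 𝒜 f j i₀ _ le_rfl) ^ e • m.1 j := rfl

def GStarSubD.cast {n n' : ℕ} (h : n = n') (m : GStarSubD 𝒜 f F n) : GStarSubD 𝒜 f F n' :=
  ⟨m.1, h ▸ m.2⟩

theorem exists_gstar_extensionD (hd : 0 < d) [Finite I] [F.IsQuasicoherent] (i₀ : I)
    (τ : Γ(F, DpD 𝒜 f i₀)) :
    ∃ (N : ℕ) (m : GStarSubD 𝒜 f F N), m.1 i₀ = τ := by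
  classical
  have := Fintype.ofFinite I
  have h1 : ∀ j, ∃ (n : ℕ) (m : Γ(F, DpD 𝒜 f j)),
      (fr 𝒜 f j i₀ (DpD 𝒜 f j ⊓ DpD 𝒜 f i₀) inf_le_left) ^ n •
        QCoh.res F (inf_le_right : DpD 𝒜 f j ⊓ DpD 𝒜 f i₀ ≤ DpD 𝒜 f i₀) τ =
      QCoh.res F (inf_le_left : DpD 𝒜 f j ⊓ DpD 𝒜 f i₀ ≤ DpD 𝒜 f j) m := by
    intro j
    have hb : DpD 𝒜 f j ⊓ DpD 𝒜 f i₀ =
        (Proj 𝒜).basicOpen (fr 𝒜 f j i₀ (DpD 𝒜 f j) le_rfl) :=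
      (basicOpen_fr 𝒜 f j i₀ _ le_rfl).symm
    exact exists_pow_smul_eq_res' F (isAffineOpen_DpD 𝒜 f hd j) (fr 𝒜 f j i₀ _ le_rfl) hb
      inf_le_left (QCoh.res F inf_le_right τ)
  choose n₁ m₁ hm₁ using h1
  set N := Finset.univ.sup n₁ with hN
  obtain ⟨m₂, hm₂⟩ : ∃ m₂ : ∀ j, Γ(F, DpD 𝒜 f j),
      ∀ j, QCoh.res F (inf_le_left : DpD 𝒜 f j ⊓ DpD 𝒜 f i₀ ≤ DpD 𝒜 f j) (m₂ j) =
      (fr 𝒜 f j i₀ (DpD 𝒜 f j ⊓ DpD 𝒜 f i₀) inf_le_left) ^ N •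
        QCoh.res F (inf_le_right : DpD 𝒜 f j ⊓ DpD 𝒜 f i₀ ≤ DpD 𝒜 f i₀) τ := by
    refine ⟨fun j => (fr 𝒜 f j i₀ (DpD 𝒜 f j) le_rfl) ^ (N - n₁ j) • m₁ j, fun j => ?_⟩
    simp only
    rw [res_smul', map_pow, rres_fr, ← hm₁ j, smul_smul, ← pow_add,
      Nat.sub_add_cancel (Finset.le_sup (Finset.mem_univ j))]
  have h2 : ∀ j k, ∃ n : ℕ,
      (fr 𝒜 f j i₀ (DpD 𝒜 f j ⊓ DpD 𝒜 f k) inf_le_left) ^ n •
        (QCoh.res F (inf_le_left : DpD 𝒜 f j ⊓ DpD 𝒜 f k ≤ DpD 𝒜 f j) (m₂ j) -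
          (fr 𝒜 f j k (DpD 𝒜 f j ⊓ DpD 𝒜 f k) inf_le_left) ^ N •
            QCoh.res F (inf_le_right : DpD 𝒜 f j ⊓ DpD 𝒜 f k ≤ DpD 𝒜 f k) (m₂ k)) = 0 := by
    intro j k
    have hb : (DpD 𝒜 f j ⊓ DpD 𝒜 f k) ⊓ DpD 𝒜 f i₀ =
        (Proj 𝒜).basicOpen (fr 𝒜 f j i₀ (DpD 𝒜 f j ⊓ DpD 𝒜 f k) inf_le_left) :=
      (basicOpen_fr 𝒜 f j i₀ _ inf_le_left).symm
    apply exists_pow_smul_eq_zero' F (isAffineOpen_DpD_inf 𝒜 f hd j k) _ hb inf_le_left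
    have hTj : (DpD 𝒜 f j ⊓ DpD 𝒜 f k) ⊓ DpD 𝒜 f i₀ ≤ DpD 𝒜 f j ⊓ DpD 𝒜 f i₀ :=
      inf_le_inf_right _ inf_le_left
    have hTk : (DpD 𝒜 f j ⊓ DpD 𝒜 f k) ⊓ DpD 𝒜 f i₀ ≤ DpD 𝒜 f k ⊓ DpD 𝒜 f i₀ :=
      inf_le_inf_right _ inf_le_right
    have e1 : QCoh.res F (inf_le_left : (DpD 𝒜 f j ⊓ DpD 𝒜 f k) ⊓ DpD 𝒜 f i₀ ≤ _)
        (QCoh.res F (inf_le_left : DpD 𝒜 f j ⊓ DpD 𝒜 f k ≤ DpD 𝒜 f j) (m₂ j)) =
        QCoh.res F hTj (QCoh.res F inf_le_left (m₂ j)) := by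
      rw [res_res, res_res]
    have e2 : QCoh.res F (inf_le_left : (DpD 𝒜 f j ⊓ DpD 𝒜 f k) ⊓ DpD 𝒜 f i₀ ≤ _)
        (QCoh.res F (inf_le_right : DpD 𝒜 f j ⊓ DpD 𝒜 f k ≤ DpD 𝒜 f k) (m₂ k)) =
        QCoh.res F hTk (QCoh.res F inf_le_left (m₂ k)) := by
      rw [res_res, res_res]
    rw [map_sub, sub_eq_zero, res_smul', e1, e2, hm₂ j, hm₂ k, res_smul', res_smul', res_res,
      res_res, smul_smul]
    congr 1
    rw [map_pow, map_pow, map_pow, rres_fr, rres_fr, rres_fr, ← mul_pow,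
      fr_mul_fr 𝒜 f j k i₀ _ _ (inf_le_left.trans inf_le_right)]
  choose n₂ hn₂ using h2
  set N' := Finset.univ.sup (fun p : I × I => n₂ p.1 p.2) with hN'
  have hn₂' : ∀ j k, (fr 𝒜 f j i₀ (DpD 𝒜 f j ⊓ DpD 𝒜 f k) inf_le_left) ^ N' •
        (QCoh.res F (inf_le_left : DpD 𝒜 f j ⊓ DpD 𝒜 f k ≤ DpD 𝒜 f j) (m₂ j) -
          (fr 𝒜 f j k (DpD 𝒜 f j ⊓ DpD 𝒜 f k) inf_le_left) ^ N •
            QCoh.res F (inf_le_right : DpD 𝒜 f j ⊓ DpD 𝒜 f k ≤ DpD 𝒜 f k) (m₂ k)) = 0 := by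
    intro j k
    have hle : n₂ j k ≤ N' := Finset.le_sup (f := fun p : I × I => n₂ p.1 p.2)
      (Finset.mem_univ (j, k))
    rw [← Nat.sub_add_cancel hle, pow_add, mul_smul, hn₂ j k, smul_zero]
  have hm₃ : (fun j => (fr 𝒜 f j i₀ (DpD 𝒜 f j) le_rfl) ^ N' • m₂ j) ∈
      GStarSubD 𝒜 f F (N' + N) := by
    intro j k
    simp only
    have h := hn₂' j k
    rw [smul_sub, sub_eq_zero] at h
    rw [res_smul', res_smul', map_pow, map_pow, rres_fr, rres_fr, h, smul_smul, smul_smul,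
      pow_add]
    congr 1
    rw [fr_mul_fr 𝒜 f j k i₀ _ inf_le_left inf_le_right, mul_pow]
    ring
  refine ⟨N' + N, ⟨_, hm₃⟩, ?_⟩
  change (fr 𝒜 f i₀ i₀ (DpD 𝒜 f i₀) le_rfl) ^ N' • m₂ i₀ = τ
  rw [fr_self, one_pow, one_smul]
  have h := hm₂ i₀
  rw [fr_self, one_pow, one_smul] at h
  have hinj := res_injective_of_eq F (inf_idem (DpD 𝒜 f i₀))
  exact hinj h

theorem exists_gstar_extension_geD (hd : 0 < d) [Finite I] [F.IsQuasicoherent] (i₀ : I)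
    (τ : Γ(F, DpD 𝒜 f i₀)) :
    ∃ N : ℕ, ∀ n : ℕ, N ≤ n → ∃ m : GStarSubD 𝒜 f F n, m.1 i₀ = τ := by
  obtain ⟨N, m, hm⟩ := exists_gstar_extensionD 𝒜 f F hd i₀ τ
  refine ⟨N, fun n hn => ?_⟩
  have hidx : (n - N) + N = n := by omega
  refine ⟨GStarSubD.cast 𝒜 f F hidx (shiftD 𝒜 f F i₀ (n - N) m), ?_⟩
  change (shiftD 𝒜 f F i₀ (n - N) m).1 i₀ = τ
  rw [shiftD_val, fr_self, one_pow, one_smul, hm]

theorem negTwistD_hE (n : ℕ) : (-(n : ℤ)) * d = (((0 : ℕ) : ℤ) - n) * (d : ℕ) := by simp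

theorem cSec_zero_eq_fr_pow (n : ℕ) (i j : I) :
    cSec (f i) (f j) 0 n (DpD 𝒜 f i ⊓ DpD 𝒜 f j) le_rfl =
      (fr 𝒜 f i j (DpD 𝒜 f i ⊓ DpD 𝒜 f j) inf_le_left) ^ n := by
  apply ofun_ext
  intro x
  rw [ofun_cSec, ofun_pow, ofun_fr, Localization.mk_pow]
  apply mk_eq_mk_of_mul_eq
  simp only [pow_zero, one_mul, mul_one, SubmonoidClass.coe_pow]

/-- **Morphisms `O(-nd) ⟶ F` from cocycle families of weight `n`.** -/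
theorem exists_hom_negTwistD (hcov : ∀ x : Proj 𝒜, ∃ i, x ∈ DpD 𝒜 f i) {n : ℕ}
    (m : GStarSubD 𝒜 f F n) :
    ∃ φ : Twist.twist 𝒜 (-(n : ℤ) * d) ⟶ F, ∀ j,
      φ.app (DpD 𝒜 f j) (eSec (-(n : ℤ) * d) (f j) 0 n (negTwistD_hE n) _ le_rfl) = m.1 j := by
  refine exists_hom_of_cocycle (U := fun j => DpD 𝒜 f j)
    (m := fun j => eSec (-(n : ℤ) * d) (f j) 0 n (negTwistD_hE n) _ le_rfl) (n := fun j => m.1 j)
    hcov (fun j => isTriv_eSec _ (f j) 0 n (negTwistD_hE n) _ le_rfl) (fun i j => ?_)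
  refine ⟨(fr 𝒜 f i j (DpD 𝒜 f i ⊓ DpD 𝒜 f j) inf_le_left) ^ n, ?_, m.2 i j⟩
  rw [res_eSec, res_eSec,
    eSec_eq_cSec_smul (-(n : ℤ) * d) (f i) (f j) 0 n (negTwistD_hE n) _ le_rfl,
    cSec_zero_eq_fr_pow]

/-- Quasi-coherent modules of finite type on `Proj`, covered by finitely many charts of one
positive degree `d`, are quotients of finite sums of `O(-nd)` for all large `n`. -/
theorem exists_epi_coprod_negTwistD (hd : 0 < d) [Finite I]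
    (hcov : ∀ x : Proj 𝒜, ∃ i, x ∈ DpD 𝒜 f i) [F.IsQuasicoherent] [F.IsFiniteType] :
    ∃ n₀ : ℕ, ∀ n : ℕ, n₀ ≤ n →
      ∃ (k : ℕ) (p : (∐ fun _ : Fin k => Twist.twist 𝒜 (-(n : ℤ) * d)) ⟶ F), Epi p := by
  classical
  have := Fintype.ofFinite I
  have hgen : ∀ i : I, ∃ (r : ℕ) (t : Fin r → Γ(F, DpD 𝒜 f i)),
      ∀ (y : Proj 𝒜) (hy : y ∈ DpD 𝒜 f i),
      Submodule.span ((Proj 𝒜).presheaf.stalk y)
        (Set.range fun a => F.presheaf.germ (DpD 𝒜 f i) y hy (t a)) = ⊤ :=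
    fun i => exists_fin_sections_span_germ_eq_top F (isAffineOpen_DpD 𝒜 f hd i)
  choose r t ht using hgen
  let K := Σ i : I, Fin (r i)
  have hext : ∀ c : K, ∃ N : ℕ, ∀ n : ℕ, N ≤ n →
      ∃ m : GStarSubD 𝒜 f F n, m.1 c.1 = t c.1 c.2 :=
    fun c => exists_gstar_extension_geD 𝒜 f F hd c.1 (t c.1 c.2)
  choose N₁ hN₁ using hext
  refine ⟨Finset.univ.sup N₁, fun n hn => ?_⟩
  have hm : ∀ c : K, ∃ m : GStarSubD 𝒜 f F n, m.1 c.1 = t c.1 c.2 := fun c =>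
    hN₁ c n ((Finset.le_sup (f := N₁) (Finset.mem_univ c)).trans hn)
  choose m hm using hm
  have hφ : ∀ c : K, ∃ φ : Twist.twist 𝒜 (-(n : ℤ) * d) ⟶ F, ∀ j,
      φ.app (DpD 𝒜 f j) (eSec (-(n : ℤ) * d) (f j) 0 n (negTwistD_hE n) _ le_rfl) = (m c).1 j :=
    fun c => exists_hom_negTwistD 𝒜 f F hcov (m c)
  choose φ hφ using hφ
  let e : Fin (Fintype.card K) ≃ K := (Fintype.equivFin K).symm
  refine ⟨Fintype.card K, Sigma.desc (fun a => φ (e a)), ?_⟩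
  apply epi_of_forall_stalkMapRange_eq_top
  intro x
  obtain ⟨i, hxi⟩ := hcov x
  rw [eq_top_iff, ← ht i x hxi, Submodule.span_le]
  rintro _ ⟨a, rfl⟩
  have hle := stalkMapRange_comp_le
    (Sigma.ι (fun _ : Fin (Fintype.card K) => Twist.twist 𝒜 (-(n : ℤ) * d)) (e.symm ⟨i, a⟩))
    (Sigma.desc (fun a => φ (e a))) x
  apply hle
  rw [Sigma.ι_desc, Equiv.apply_symm_apply]
  refine ⟨(Twist.twist 𝒜 (-(n : ℤ) * d)).presheaf.germ (DpD 𝒜 f i) x hxi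
    (eSec (-(n : ℤ) * d) (f i) 0 n (negTwistD_hE n) _ le_rfl), ?_⟩
  refine (stalkMap_germ (φ ⟨i, a⟩) x (DpD 𝒜 f i) hxi _).trans ?_
  rw [hφ ⟨i, a⟩ i, hm ⟨i, a⟩]

end GStarD

end Groth.Agent.Lib.Helper29.QCoh
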