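import Mathlib.RingTheory.PowerSeries.Substitution
import Mathlib.RingTheory.PowerSeries.Exp
import Mathlib.Data.Nat.Choose.Sum

/-!
# Characters of the additive group: coefficient form of `χ(X+Y) = χ(X) χ(Y)`
-/

set_option autoImplicit false

namespace Groth.Agent.Lib.Helper29.GaChar

open Finsupp

variable {A : Type*} [CommRing A]

lemma fin2_eq (e : Fin 2 →₀ ℕ) : single 0 (e 0) + single 1 (e 1) = e := by
  ext i
  fin_cases i <;> simp

lemma fin2_eq_iff (e : Fin 2 →₀ ℕ) (m k : ℕ) :
    e = single 0 m + single 1 k ↔ e 0 = m ∧ e 1 = k := by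
  constructor
  · rintro rfl
    simp
  · rintro ⟨rfl, rfl⟩
    exact (fin2_eq e).symm

/-- coefficients of `(X₀ + X₁)^d`. -/
lemma coeff_add_pow (e : Fin 2 →₀ ℕ) (d : ℕ) :
    MvPowerSeries.coeff e ((MvPowerSeries.X 0 + MvPowerSeries.X 1 : MvPowerSeries (Fin 2) A) ^ d)
      = if d = e 0 + e 1 then ((d.choose (e 0) : ℕ) : A) else 0 := by
  classical
  rw [add_pow, map_sum]
  have hterm : ∀ m ∈ Finset.range (d + 1),
      MvPowerSeries.coeff e ((MvPowerSeries.X 0 : MvPowerSeries (Fin 2) A) ^ m *
        (MvPowerSeries.X 1) ^ (d - m) * ((d.choose m : ℕ) : MvPowerSeries (Fin 2) A))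
      = if e 0 = m ∧ e 1 = d - m then ((d.choose m : ℕ) : A) else 0 := by
    intro m _
    rw [MvPowerSeries.X_pow_eq, MvPowerSeries.X_pow_eq, MvPowerSeries.monomial_mul_monomial,
      mul_one, ← map_natCast (MvPowerSeries.C (σ := Fin 2) (R := A)), mul_comm,
      ← MvPowerSeries.smul_eq_C_mul, MvPowerSeries.coeff_smul, MvPowerSeries.coeff_monomial]
    simp only [fin2_eq_iff, mul_ite, mul_one, mul_zero]
  rw [Finset.sum_congr rfl hterm]
  by_cases hd : d = e 0 + e 1
  · rw [if_pos hd, Finset.sum_eq_single (e 0)]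
    · rw [if_pos ⟨rfl, by omega⟩]
    · intro m _ hm
      rw [if_neg]
      rintro ⟨h1, _⟩
      exact hm h1.symm
    · intro h
      exfalso
      apply h
      rw [Finset.mem_range]
      omega
  · rw [if_neg hd]
    apply Finset.sum_eq_zero
    intro m hm
    rw [if_neg]
    rintro ⟨h1, h2⟩
    rw [Finset.mem_range] at hm
    omega

/-- coefficients of `χ(X₀ + X₁)`. -/
lemma coeff_subst_add (χ : PowerSeries A) (e : Fin 2 →₀ ℕ) :
    MvPowerSeries.coeff e
      (PowerSeries.subst (MvPowerSeries.X 0 + MvPowerSeries.X 1 : MvPowerSeries (Fin 2) A) χ)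
      = (((e 0 + e 1).choose (e 0) : ℕ) : A) * PowerSeries.coeff (e 0 + e 1) χ := by
  rw [PowerSeries.coeff_subst ((PowerSeries.HasSubst.X 0).add (PowerSeries.HasSubst.X 1)),
    finsum_eq_single _ (e 0 + e 1)]
  · rw [coeff_add_pow, if_pos rfl, smul_eq_mul, mul_comm]
  · intro d hd
    rw [coeff_add_pow, if_neg hd, smul_zero]

/-- coefficients of `χ(X₀) χ(X₁)`. -/
lemma coeff_subst_mul (χ : PowerSeries A) (e : Fin 2 →₀ ℕ) :
    MvPowerSeries.coeff e
      (PowerSeries.subst (MvPowerSeries.X 0 : MvPowerSeries (Fin 2) A) χ *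
        PowerSeries.subst (MvPowerSeries.X 1 : MvPowerSeries (Fin 2) A) χ)
      = PowerSeries.coeff (e 0) χ * PowerSeries.coeff (e 1) χ := by
  classical
  rw [MvPowerSeries.coeff_mul]
  rw [Finset.sum_eq_single (single 0 (e 0), single 1 (e 1))]
  · rw [PowerSeries.coeff_subst_single, PowerSeries.coeff_subst_single]
    simp
  · rintro ⟨p, q⟩ hpq hne
    rw [Finset.mem_antidiagonal] at hpq
    simp only at hpq
    rw [PowerSeries.coeff_subst_single, PowerSeries.coeff_subst_single]
    by_cases hp : p = single 0 (p 0)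
    · by_cases hq : q = single 1 (q 1)
      · exfalso
        apply hne
        have h0 : e 0 = p 0 := by
          rw [← hpq, Finsupp.add_apply, hq]; simp
        have h1 : e 1 = q 1 := by
          rw [← hpq, Finsupp.add_apply, hp]; simp
        rw [h0, h1, ← hp, ← hq]
      · rw [if_neg hq, mul_zero]
    · rw [if_neg hp, zero_mul]
  · intro h
    exfalso
    apply h
    rw [Finset.mem_antidiagonal]
    exact fin2_eq e

/-- The functional equation of a formal character in coefficient form. -/
theorem char_iff (χ : PowerSeries A) :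
    PowerSeries.subst (MvPowerSeries.X 0 + MvPowerSeries.X 1 : MvPowerSeries (Fin 2) A) χ =
        PowerSeries.subst (MvPowerSeries.X 0 : MvPowerSeries (Fin 2) A) χ *
          PowerSeries.subst (MvPowerSeries.X 1 : MvPowerSeries (Fin 2) A) χ ↔
      ∀ i j : ℕ, (((i + j).choose i : ℕ) : A) * PowerSeries.coeff (i + j) χ
        = PowerSeries.coeff i χ * PowerSeries.coeff j χ := by
  constructor
  · intro h i j
    have := congrArg (MvPowerSeries.coeff (single 0 i + single 1 j)) h
    rw [coeff_subst_add, coeff_subst_mul] at this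
    simpa using this
  · intro h
    ext e
    rw [coeff_subst_add, coeff_subst_mul]
    exact h (e 0) (e 1)

end Groth.Agent.Lib.Helper29.GaChar
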