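import Mathlib.FieldTheory.KrullTopology
import Mathlib.FieldTheory.Galois.Profinite
import Mathlib.FieldTheory.IsSepClosed
import Mathlib.Topology.LocallyConstant.Basic
import Mathlib.Topology.Algebra.OpenSubgroup
import Mathlib.LinearAlgebra.LinearIndependent.Basic
import Mathlib.GroupTheory.GroupAction.Quotient

/-!
# Hilbert 90 (multiplicative and additive) for locally constant 1-cocycles of an infinite
Galois group (Krull topology).
-/

set_option autoImplicit false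

namespace Groth.Agent.Lib.Helper29.GalCoh

variable {K L : Type*} [Field K] [Field L] [Algebra K L]

section coset

variable (E : IntermediateField K L)

/-- A function on the Galois group which is right-invariant under `Gal(L/E)` can be evaluated on
any representative. -/
lemma out_eq (F : (L ≃ₐ[K] L) → L)
    (hF : ∀ σ, ∀ h ∈ E.fixingSubgroup, F (σ * h) = F σ) (σ : L ≃ₐ[K] L) :
    F ((QuotientGroup.mk σ : (L ≃ₐ[K] L) ⧸ E.fixingSubgroup).out) = F σ := by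
  obtain ⟨h, hh⟩ := QuotientGroup.mk_out_eq_mul E.fixingSubgroup σ
  rw [hh, hF σ h h.2]

lemma sum_out_mul [Fintype ((L ≃ₐ[K] L) ⧸ E.fixingSubgroup)] (F : (L ≃ₐ[K] L) → L)
    (hF : ∀ σ, ∀ h ∈ E.fixingSubgroup, F (σ * h) = F σ) (σ : L ≃ₐ[K] L) :
    ∑ q : (L ≃ₐ[K] L) ⧸ E.fixingSubgroup, F (σ * q.out)
      = ∑ q : (L ≃ₐ[K] L) ⧸ E.fixingSubgroup, F q.out := by
  have h1 : ∀ q : (L ≃ₐ[K] L) ⧸ E.fixingSubgroup, F (σ * q.out) = F ((σ • q).out) := by
    intro q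
    have h2 : σ • q = QuotientGroup.mk (σ * q.out) := by
      conv_lhs => rw [← QuotientGroup.out_eq' q]
      rfl
    rw [h2, out_eq E F hF]
  simp_rw [h1]
  exact Equiv.sum_comp (MulAction.toPerm σ)
    (fun q : (L ≃ₐ[K] L) ⧸ E.fixingSubgroup => F q.out)

/-- Dedekind independence for coset representatives restricted to `E`. -/
lemma exists_sum_ne_zero [Fintype ((L ≃ₐ[K] L) ⧸ E.fixingSubgroup)]
    (c : (L ≃ₐ[K] L) ⧸ E.fixingSubgroup → L) (q₀ : (L ≃ₐ[K] L) ⧸ E.fixingSubgroup)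
    (hc : c q₀ ≠ 0) :
    ∃ θ ∈ E, ∑ q : (L ≃ₐ[K] L) ⧸ E.fixingSubgroup, c q * q.out θ ≠ 0 := by
  classical
  by_contra hall
  push Not at hall
  let χ : ((L ≃ₐ[K] L) ⧸ E.fixingSubgroup) → (E →* L) := fun q =>
    { toFun := fun θ => q.out (θ : L)
      map_one' := by simp
      map_mul' := by intro x y; simp }
  have hinj : Function.Injective χ := by
    intro q q' h
    have h1 : ∀ θ : E, q.out (θ : L) = q'.out (θ : L) := fun θ => DFunLike.congr_fun h θ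
    have h2 : q.out⁻¹ * q'.out ∈ E.fixingSubgroup := by
      rw [IntermediateField.mem_fixingSubgroup_iff]
      intro x hx
      rw [AlgEquiv.mul_apply, ← h1 ⟨x, hx⟩]
      exact q.out.symm_apply_apply x
    rw [← QuotientGroup.out_eq' q, ← QuotientGroup.out_eq' q']
    exact QuotientGroup.eq.mpr h2
  have hli : LinearIndependent L (fun q => (χ q : E → L)) :=
    (linearIndependent_monoidHom E L).comp χ hinj
  rw [Fintype.linearIndependent_iff] at hli
  apply hc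
  refine hli c ?_ q₀
  funext θ
  simpa [χ] using hall θ θ.2

end coset

/-- Multiplicative Hilbert 90 for locally constant cocycles on an infinite Galois group. -/
theorem mul_coboundary [IsGalois K L] (a : (L ≃ₐ[K] L) → Lˣ)
    (ha : ∀ σ τ : L ≃ₐ[K] L, a (σ * τ) = a σ * σ • a τ) (hlc : IsLocallyConstant a) :
    ∃ c : Lˣ, ∀ σ : L ≃ₐ[K] L, a σ = c⁻¹ * σ • c := by
  classical
  have ha1 : a 1 = 1 := by
    have := ha 1 1
    rw [one_smul, mul_one] at this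
    exact (mul_eq_left.mp this.symm)
  -- cocycle condition in `L`
  have haL : ∀ σ τ : L ≃ₐ[K] L, ((a (σ * τ) : Lˣ) : L) = (a σ : L) * σ (a τ : L) := by
    intro σ τ
    rw [ha σ τ, Units.val_mul, AlgEquiv.smul_units_def]
    rfl
  have hnhds : a ⁻¹' {a 1} ∈ nhds (1 : L ≃ₐ[K] L) :=
    (hlc.isOpen_fiber (a 1)).mem_nhds rfl
  obtain ⟨E, hEfin, hE⟩ := (krullTopology_mem_nhds_one_iff K L _).mp hnhds
  have haH : ∀ h ∈ E.fixingSubgroup, a h = 1 := fun h hh => (hE hh).trans ha1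
  have hfin : Finite ((L ≃ₐ[K] L) ⧸ E.fixingSubgroup) :=
    Subgroup.quotient_finite_of_isOpen _ E.fixingSubgroup_isOpen
  have := Fintype.ofFinite ((L ≃ₐ[K] L) ⧸ E.fixingSubgroup)
  obtain ⟨θ, hθ, hb⟩ := exists_sum_ne_zero E (fun q => ((a q.out : Lˣ) : L))
    (QuotientGroup.mk 1) (Units.ne_zero _)
  set b : L := ∑ q : (L ≃ₐ[K] L) ⧸ E.fixingSubgroup, ((a q.out : Lˣ) : L) * q.out θ with hbdef
  have hF : ∀ σ : L ≃ₐ[K] L, ∀ h ∈ E.fixingSubgroup,
      (fun τ : L ≃ₐ[K] L => ((a τ : Lˣ) : L) * τ θ) (σ * h)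
        = (fun τ : L ≃ₐ[K] L => ((a τ : Lˣ) : L) * τ θ) σ := by
    intro σ h hh
    simp only
    rw [haL, haH h hh, Units.val_one, map_one, mul_one, AlgEquiv.mul_apply,
      (IntermediateField.mem_fixingSubgroup_iff E h).mp hh θ hθ]
  have key : ∀ σ : L ≃ₐ[K] L, (a σ : L) * σ b = b := by
    intro σ
    rw [hbdef, map_sum, Finset.mul_sum]
    rw [← sum_out_mul E (fun τ : L ≃ₐ[K] L => ((a τ : Lˣ) : L) * τ θ) hF σ]
    refine Finset.sum_congr rfl fun q _ => ?_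
    rw [haL, map_mul, AlgEquiv.mul_apply, mul_assoc]
  refine ⟨(Units.mk0 b hb)⁻¹, fun σ => ?_⟩
  ext
  rw [inv_inv, Units.val_mul, AlgEquiv.smul_units_def, Units.coe_map, Units.val_mk0]
  have hσb : σ b ≠ 0 := by
    intro h0
    apply hb
    rw [← key σ, h0, mul_zero]
  have h1 : (((Units.mk0 b hb)⁻¹ : Lˣ) : L) = b⁻¹ := by
    rw [Units.val_inv_eq_inv_val, Units.val_mk0]
  change (a σ : L) = b * σ ((((Units.mk0 b hb)⁻¹ : Lˣ) : L))
  rw [h1, map_inv₀, eq_mul_inv_iff_mul_eq₀ hσb]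
  exact key σ

/-- Additive Hilbert 90 for locally constant cocycles on an infinite Galois group. -/
theorem add_coboundary [IsGalois K L] (a : (L ≃ₐ[K] L) → L)
    (ha : ∀ σ τ : L ≃ₐ[K] L, a (σ * τ) = a σ + σ (a τ)) (hlc : IsLocallyConstant a) :
    ∃ y : L, ∀ σ : L ≃ₐ[K] L, a σ = σ y - y := by
  classical
  have ha1 : a 1 = 0 := by
    have := ha 1 1
    rw [AlgEquiv.one_apply, mul_one] at this
    exact (add_eq_left.mp this.symm)
  have hnhds : a ⁻¹' {a 1} ∈ nhds (1 : L ≃ₐ[K] L) :=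
    (hlc.isOpen_fiber (a 1)).mem_nhds rfl
  obtain ⟨E, hEfin, hE⟩ := (krullTopology_mem_nhds_one_iff K L _).mp hnhds
  have haH : ∀ h ∈ E.fixingSubgroup, a h = 0 := fun h hh => (hE hh).trans ha1
  have hfin : Finite ((L ≃ₐ[K] L) ⧸ E.fixingSubgroup) :=
    Subgroup.quotient_finite_of_isOpen _ E.fixingSubgroup_isOpen
  have := Fintype.ofFinite ((L ≃ₐ[K] L) ⧸ E.fixingSubgroup)
  obtain ⟨θ, hθ, hu⟩ := exists_sum_ne_zero E (fun _ => (1 : L))
    (QuotientGroup.mk 1) one_ne_zero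
  simp only [one_mul] at hu
  set u : L := ∑ q : (L ≃ₐ[K] L) ⧸ E.fixingSubgroup, q.out θ with hudef
  set b : L := ∑ q : (L ≃ₐ[K] L) ⧸ E.fixingSubgroup, a q.out * q.out θ with hbdef
  have hθH : ∀ h ∈ E.fixingSubgroup, h θ = θ := fun h hh =>
    (IntermediateField.mem_fixingSubgroup_iff E h).mp hh θ hθ
  have hF' : ∀ σ : L ≃ₐ[K] L, ∀ h ∈ E.fixingSubgroup,
      (fun τ : L ≃ₐ[K] L => τ θ) (σ * h) = (fun τ : L ≃ₐ[K] L => τ θ) σ := by
    intro σ h hh
    simp only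
    rw [AlgEquiv.mul_apply, hθH h hh]
  have hF : ∀ σ : L ≃ₐ[K] L, ∀ h ∈ E.fixingSubgroup,
      (fun τ : L ≃ₐ[K] L => a τ * τ θ) (σ * h) = (fun τ : L ≃ₐ[K] L => a τ * τ θ) σ := by
    intro σ h hh
    simp only
    rw [ha, haH h hh, map_zero, add_zero, AlgEquiv.mul_apply, hθH h hh]
  have hσu : ∀ σ : L ≃ₐ[K] L, σ u = u := by
    intro σ
    rw [hudef, map_sum, ← sum_out_mul E (fun τ : L ≃ₐ[K] L => τ θ) hF' σ]
    rfl
  have hσb : ∀ σ : L ≃ₐ[K] L, σ b = b - a σ * u := by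
    intro σ
    rw [hbdef, map_sum, ← sum_out_mul E (fun τ : L ≃ₐ[K] L => a τ * τ θ) hF σ, hudef,
      ← sum_out_mul E (fun τ : L ≃ₐ[K] L => τ θ) hF' σ, Finset.mul_sum, ← Finset.sum_sub_distrib]
    refine Finset.sum_congr rfl fun q _ => ?_
    rw [map_mul, ha σ q.out, AlgEquiv.mul_apply]
    ring
  refine ⟨-b / u, fun σ => ?_⟩
  rw [map_div₀, map_neg, hσu, hσb]
  field_simp
  ring

end Groth.Agent.Lib.Helper29.GalCoh
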