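import Mathlib
universe u
open LaurentPolynomial Polynomial TensorProduct

/-! # Units of Laurent polynomial rings -/

namespace Groth.Agent.Lib.Helper29.GmUniq

theorem poly_eq_of_mul_eq_X_pow {D : Type*} [CommRing D] [IsDomain D] (p q : D[X]) (m : ℕ)
    (h : p * q = X ^ m) : ∃ (c : D) (i : ℕ), IsUnit c ∧ p = Polynomial.C c * X ^ i := by
  have hdvd : p ∣ X ^ m := ⟨q, h.symm⟩
  obtain ⟨i, -, hi⟩ := (dvd_prime_pow Polynomial.prime_X m).mp hdvd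
  obtain ⟨w, hw⟩ := hi.symm
  obtain ⟨c, hc, hcw⟩ := Polynomial.isUnit_iff.mp w.isUnit
  refine ⟨c, i, hc, ?_⟩
  rw [← hw, ← hcw, mul_comm]

theorem laurent_unit {D : Type*} [CommRing D] [IsDomain D] (u : D[T;T⁻¹]) (hu : IsUnit u) :
    ∃ (c : D) (n : ℤ), IsUnit c ∧ u = LaurentPolynomial.C c * T n := by
  obtain ⟨v, huv⟩ := hu.exists_right_inv
  obtain ⟨a, p, hp⟩ := LaurentPolynomial.exists_T_pow u
  obtain ⟨b, q, hq⟩ := LaurentPolynomial.exists_T_pow v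
  have h1 : toLaurent (p * q) = toLaurent (X ^ (a + b) : D[X]) := by
    rw [map_mul, hp, hq, Polynomial.toLaurent_X_pow]
    calc u * T a * (v * T b) = (u * v) * (T a * T b) := by ring
      _ = T (a + b : ℕ) := by rw [huv, one_mul, ← T_add]; push_cast; rfl
  have h2 := Polynomial.toLaurent_injective h1
  obtain ⟨c, i, hc, hpc⟩ := poly_eq_of_mul_eq_X_pow p q _ h2
  refine ⟨c, (i : ℤ) - a, hc, ?_⟩
  have h3 : u = toLaurent p * T (-(a : ℤ)) := by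
    rw [hp, mul_assoc, ← T_add, add_neg_cancel, T_zero, mul_one]
  rw [h3, hpc, map_mul, Polynomial.toLaurent_C, Polynomial.toLaurent_X_pow, mul_assoc, ← T_add,
    sub_eq_add_neg]

theorem monomial_eq_T_one {k : Type*} [Field k] (a : k) (j : ℤ)
    (h : (LaurentPolynomial.C a * T j : k[T;T⁻¹]) = T 1) : a = 1 ∧ j = 1 := by
  rw [← LaurentPolynomial.single_eq_C_mul_T] at h
  have h2 : (AddMonoidAlgebra.single j a : k[T;T⁻¹]) = AddMonoidAlgebra.single 1 1 := h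
  rcases AddMonoidAlgebra.single_inj.mp h2 with ⟨h3, h4⟩ | ⟨-, h4⟩
  · exact ⟨h4, h3⟩
  · exact absurd h4 one_ne_zero

theorem tensor_unit (k : Type u) [Field k] (u : k[T;T⁻¹] ⊗[k] k[T;T⁻¹]) (hu : IsUnit u) :
    ∃ (a : k) (j n : ℤ), a ≠ 0 ∧ u = (LaurentPolynomial.C a * T j) ⊗ₜ[k] (T n) := by
  let Φ := AddMonoidAlgebra.scalarTensorEquiv (M := ℤ) k (k[T;T⁻¹])
  have h1 : IsUnit (Φ u) := hu.map Φ
  obtain ⟨c, n, hc, hcn⟩ := laurent_unit (D := k[T;T⁻¹]) (Φ u) h1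
  obtain ⟨a, j, ha, haj⟩ := laurent_unit c hc
  refine ⟨a, j, n, ha.ne_zero, ?_⟩
  apply Φ.injective
  rw [hcn, haj]
  rw [AddMonoidAlgebra.scalarTensorEquiv_tmul]
  have h5 : (AddMonoidAlgebra.mapAlgHom ℤ (Algebra.ofId k k[T;T⁻¹])) (T n) =
      (T n : (k[T;T⁻¹])[T;T⁻¹]) := by
    change (AddMonoidAlgebra.mapAlgHom ℤ (Algebra.ofId k k[T;T⁻¹]))
      (AddMonoidAlgebra.single n 1) = AddMonoidAlgebra.single n 1
    rw [AddMonoidAlgebra.mapAlgHom_single, map_one]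
  rw [h5, LaurentPolynomial.smul_eq_C_mul]

end Groth.Agent.Lib.Helper29.GmUniq
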