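import Groth.Agent.Lib.Helper29.GmAlg
universe u
open CategoryTheory Limits MonoidalCategory CartesianMonoidalCategory MonObj AlgebraicGeometry
open LaurentPolynomial TensorProduct

/-! # The only group structure on `Spec k[T,T⁻¹]` with unit `T = 1` is `𝔾_m` -/

namespace Groth.Agent.Lib.Helper29.GmUniq

variable (k : Type u) [Field k]

/-- The coordinate ring hom of a morphism to `Spec k[T,T⁻¹]`. -/
noncomputable def coord {Z : Scheme.{u}}
    (q : Z ⟶ Spec (CommRingCat.of (LaurentPolynomial k))) : LaurentPolynomial k →+* Γ(Z, ⊤) :=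
  q.appTop.hom.comp (Scheme.ΓSpecIso (CommRingCat.of (LaurentPolynomial k))).inv.hom

theorem coord_comp {Z' Z : Scheme.{u}} (r : Z' ⟶ Z)
    (q : Z ⟶ Spec (CommRingCat.of (LaurentPolynomial k))) (b : LaurentPolynomial k) :
    coord k (r ≫ q) b = r.appTop.hom (coord k q b) := by
  simp only [coord, Scheme.Hom.comp_appTop, CommRingCat.hom_comp, RingHom.comp_apply]

theorem coord_specMap {Z : Scheme.{u}} {R : CommRingCat.{u}} (r : Z ⟶ Spec R)
    (f : CommRingCat.of (LaurentPolynomial k) ⟶ R) (b : LaurentPolynomial k) :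
    coord k (r ≫ Spec.map f) b = r.appTop.hom ((Scheme.ΓSpecIso R).inv.hom (f.hom b)) := by
  rw [coord_comp]
  congr 1
  have h := Scheme.ΓSpecIso_inv_naturality f
  exact (congrArg (fun φ => φ.hom b) h).symm

theorem coord_T_eq_one {Z : Scheme.{u}} (q : Z ⟶ Spec (CommRingCat.of (LaurentPolynomial k)))
    (h : coord k q (T 1) = 1) (n : ℤ) : coord k q (T n) = 1 := by
  have hnat : ∀ m : ℕ, coord k q (T (m : ℤ)) = 1 := by
    intro m
    have : (T (m : ℤ) : LaurentPolynomial k) = T 1 ^ m := by rw [T_pow, _root_.mul_one]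
    rw [this, map_pow, h, one_pow]
  obtain ⟨m, rfl | rfl⟩ := Int.eq_nat_or_neg n
  · exact hnat m
  · have h1 : (T (-(m : ℤ)) : LaurentPolynomial k) * T (m : ℤ) = 1 := by
      rw [← T_add, neg_add_cancel, T_zero]
    have h2 := congrArg (coord k q) h1
    rw [map_mul, hnat m, _root_.mul_one, map_one] at h2
    exact h2

theorem coord_injective_of_iso {Z : Scheme.{u}}
    (e : Z ≅ Spec (CommRingCat.of (LaurentPolynomial k))) : Function.Injective (coord k e.hom) := by
  have h1 : Function.Bijective (Scheme.ΓSpecIso (CommRingCat.of (LaurentPolynomial k))).inv.hom :=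
    ConcreteCategory.bijective_of_isIso (Scheme.ΓSpecIso (CommRingCat.of (LaurentPolynomial k))).inv
  have h2 : Function.Bijective e.hom.appTop.hom := by
    haveI : IsIso e.hom.appTop := by change IsIso (e.hom.app ⊤); infer_instance
    exact ConcreteCategory.bijective_of_isIso e.hom.appTop
  exact h2.1.comp h1.1

theorem main (G : Over (Spec (CommRingCat.of k))) [GrpObj G]
    (e : G.left ≅ Spec (CommRingCat.of (LaurentPolynomial k)))
    (he : e.hom ≫ Spec.map (CommRingCat.ofHom (algebraMap k (LaurentPolynomial k))) = G.hom)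
    (hunit : coord k ((η[G]).left ≫ e.hom) (T 1) = 1) :
    coord k ((μ[G]).left ≫ e.hom) (T 1) =
      coord k ((fst G G).left ≫ e.hom) (T 1) * coord k ((snd G G).left ≫ e.hom) (T 1) := by
  set π := Spec.map (CommRingCat.ofHom (algebraMap k (LaurentPolynomial k))) with hπ
  set q₁ := (fst G G).left ≫ e.hom with hq₁
  set q₂ := (snd G G).left ≫ e.hom with hq₂
  have hpb : IsPullback q₁ q₂ π π := by
    have h0 : IsPullback (fst G G).left (snd G G).left G.hom G.hom :=
      IsPullback.of_hasPullback G.hom G.hom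
    refine h0.of_iso (Iso.refl _) e e (Iso.refl _) ?_ ?_ ?_ ?_
    · simp [hq₁]
    · simp [hq₂]
    · simp [he]
    · simp [he]
  have htens : IsPullback
      (Spec.map (CommRingCat.ofHom (S := LaurentPolynomial k ⊗[k] LaurentPolynomial k)
        Algebra.TensorProduct.includeLeftRingHom))
      (Spec.map (CommRingCat.ofHom (S := LaurentPolynomial k ⊗[k] LaurentPolynomial k)
        Algebra.TensorProduct.includeRight.toRingHom)) π π :=
    isPullback_SpecMap_of_isPushout _ _ _ _
      (CommRingCat.isPushout_tensorProduct k (LaurentPolynomial k) (LaurentPolynomial k))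
  let Θ := hpb.isoIsPullback _ _ htens
  have hΘ1 : Θ.hom ≫ Spec.map (CommRingCat.ofHom
      (S := LaurentPolynomial k ⊗[k] LaurentPolynomial k)
        Algebra.TensorProduct.includeLeftRingHom) = q₁ := hpb.isoIsPullback_hom_fst _ _ htens
  have hΘ2 : Θ.hom ≫ Spec.map (CommRingCat.ofHom
      (S := LaurentPolynomial k ⊗[k] LaurentPolynomial k)
        Algebra.TensorProduct.includeRight.toRingHom) = q₂ := hpb.isoIsPullback_hom_snd _ _ htens
  let ξ : LaurentPolynomial k ⊗[k] LaurentPolynomial k →+* Γ((G ⊗ G).left, ⊤) :=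
    Θ.hom.appTop.hom.comp (Scheme.ΓSpecIso
      (CommRingCat.of (LaurentPolynomial k ⊗[k] LaurentPolynomial k))).inv.hom
  have hξ : Function.Bijective ξ := by
    have h1 : Function.Bijective (Scheme.ΓSpecIso
        (CommRingCat.of (LaurentPolynomial k ⊗[k] LaurentPolynomial k))).inv.hom :=
      ConcreteCategory.bijective_of_isIso (Scheme.ΓSpecIso _).inv
    have h2 : Function.Bijective Θ.hom.appTop.hom := by
      haveI : IsIso Θ.hom.appTop := by change IsIso (Θ.hom.app ⊤); infer_instance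
      exact ConcreteCategory.bijective_of_isIso Θ.hom.appTop
    exact h2.comp h1
  have hξ1 : ∀ b, ξ (b ⊗ₜ 1) = coord k q₁ b := by
    intro b
    rw [← hΘ1, coord_specMap]
    rfl
  have hξ2 : ∀ b, ξ (1 ⊗ₜ b) = coord k q₂ b := by
    intro b
    rw [← hΘ2, coord_specMap]
    rfl
  set m := coord k ((μ[G]).left ≫ e.hom) (T 1) with hm
  have hmu : IsUnit m := (isUnit_T 1).map _
  obtain ⟨w, hw⟩ := hξ.2 m
  have hwu : IsUnit w := by
    let φ : LaurentPolynomial k ⊗[k] LaurentPolynomial k ≃+* Γ((G ⊗ G).left, ⊤) :=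
      RingEquiv.ofBijective ξ hξ
    have : IsUnit (φ w) := by rw [show φ w = m from hw]; exact hmu
    exact (isUnit_map_iff φ w).mp this
  obtain ⟨a, j, n, ha, hajn⟩ := tensor_unit k w hwu
  have hm2 : m = coord k q₁ (LaurentPolynomial.C a * T j) * coord k q₂ (T n) := by
    rw [← hw, hajn, ← hξ1, ← hξ2, ← map_mul, Algebra.TensorProduct.tmul_mul_tmul, _root_.mul_one, _root_.one_mul]
  -- the unit sections
  have h1T : ∀ n : ℤ, coord k ((1 : G ⟶ G).left ≫ e.hom) (T n) = 1 := by
    intro n
    apply coord_T_eq_one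
    have : (1 : G ⟶ G).left ≫ e.hom = (toUnit G).left ≫ ((η[G]).left ≫ e.hom) := by
      rw [Hom.one_def, Over.comp_left, Category.assoc]
    rw [this, coord_comp, hunit, map_one]
  -- evaluate at ι₁
  let ι₁ : G ⟶ G ⊗ G := lift (𝟙 G) 1
  let ι₂ : G ⟶ G ⊗ G := lift 1 (𝟙 G)
  have hι₁μ : ι₁ ≫ μ[G] = 𝟙 G := by
    have : ι₁ ≫ μ[G] = 𝟙 G * 1 := (Hom.mul_def _ _).symm
    rw [this, _root_.mul_one]
  have hι₂μ : ι₂ ≫ μ[G] = 𝟙 G := by
    have : ι₂ ≫ μ[G] = 1 * 𝟙 G := (Hom.mul_def _ _).symm
    rw [this, _root_.one_mul]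
  have e1 := congrArg ι₁.left.appTop.hom hm2
  rw [map_mul, hm, ← coord_comp, ← coord_comp, ← coord_comp, hq₁, hq₂, ← Category.assoc,
    ← Category.assoc, ← Category.assoc, ← Over.comp_left, ← Over.comp_left, ← Over.comp_left,
    hι₁μ, lift_fst, lift_snd, h1T, _root_.mul_one, Over.id_left, Category.id_comp] at e1
  have e1' := coord_injective_of_iso k e e1
  obtain ⟨ha1, hj1⟩ := monomial_eq_T_one a j e1'.symm
  subst ha1 hj1
  have e2 := congrArg ι₂.left.appTop.hom hm2
  rw [map_mul, hm, ← coord_comp, ← coord_comp, ← coord_comp, hq₁, hq₂, ← Category.assoc,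
    ← Category.assoc, ← Category.assoc, ← Over.comp_left, ← Over.comp_left, ← Over.comp_left,
    hι₂μ, lift_fst, lift_snd, map_one, _root_.one_mul, h1T, _root_.one_mul, Over.id_left, Category.id_comp] at e2
  have e2' := coord_injective_of_iso k e e2
  have e2'' : (LaurentPolynomial.C (1 : k) * T n : LaurentPolynomial k) = T 1 := by
    rw [map_one, _root_.one_mul]; exact e2'.symm
  obtain ⟨-, hn1⟩ := monomial_eq_T_one (1 : k) n e2''
  subst hn1
  rw [hm2, map_one, _root_.one_mul]

theorem main' (G : Over (Spec (CommRingCat.of k))) [GrpObj G]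
    (e : G.left ≅ Spec (CommRingCat.of (LaurentPolynomial k)))
    (he : e.hom ≫ Spec.map (CommRingCat.ofHom (algebraMap k (LaurentPolynomial k))) = G.hom)
    (hunit : coord k ((η[G]).left ≫ e.hom) (T 1) = 1)
    (S : Over (Spec (CommRingCat.of k))) (g h : S ⟶ G) :
    coord k ((g * h).left ≫ e.hom) (T 1) =
      coord k (g.left ≫ e.hom) (T 1) * coord k (h.left ≫ e.hom) (T 1) := by
  have hmain := main k G e he hunit
  have e1 := congrArg (CartesianMonoidalCategory.lift g h).left.appTop.hom hmain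
  rw [map_mul, ← coord_comp, ← coord_comp, ← coord_comp, ← Category.assoc, ← Category.assoc,
    ← Category.assoc, ← Over.comp_left, ← Over.comp_left, ← Over.comp_left, lift_fst, lift_snd,
    ← Hom.mul_def] at e1
  exact e1

end Groth.Agent.Lib.Helper29.GmUniq
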