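import Groth.Agent.Lib.Helper29.GrT3
import Mathlib

universe u
open CategoryTheory AlgebraicGeometry Opposite TopologicalSpace DirectSum

namespace Groth.Agent.Lib.Helper29.GrFT
open Groth.Agent.Lib.Helper29.QCoh

section Alg
variable {R A : Type u} [CommRing R] [CommRing A] [Algebra R A]
  (𝒜 : ℕ → Submodule R A) [GradedAlgebra 𝒜]

/-- weighted degree -/
def wdeg {ι : Type*} [Fintype ι] (dx : ι → ℕ) (α : ι → ℕ) : ℕ := ∑ i, α i * dx i

/-- monomials of weighted degree `t` -/
def Mon {ι : Type*} [Fintype ι] (x : ι → A) (dx : ι → ℕ) (t : ℕ) : Set A :=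
  {y | ∃ α : ι → ℕ, wdeg dx α = t ∧ y = ∏ i, x i ^ α i}

theorem monomial_mem {ι : Type*} [Fintype ι] (x : ι → A) (dx : ι → ℕ)
    (hx : ∀ i, x i ∈ 𝒜 (dx i)) (α : ι → ℕ) : (∏ i, x i ^ α i) ∈ 𝒜 (wdeg dx α) := by
  unfold wdeg
  have := SetLike.prod_pow_mem_graded 𝒜 dx x α (F := Finset.univ) fun i _ => hx i
  simpa [smul_eq_mul] using this

/-- If the `x i` (homogeneous, positive degrees) generate the irrelevant ideal, every homogeneous
element of degree `t` is an `𝒜 0`-combination of monomials of weighted degree `t`. -/
theorem mem_span_mon {ι : Type*} [Fintype ι] (x : ι → A) (dx : ι → ℕ)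
    (hx : ∀ i, x i ∈ 𝒜 (dx i)) (hpos : ∀ i, 0 < dx i)
    (hgen : (HomogeneousIdeal.irrelevant 𝒜).toIdeal ≤ Ideal.span (Set.range x)) :
    ∀ (t : ℕ) (b : A), b ∈ 𝒜 t →
      b ∈ Submodule.span (𝒜 0) (Mon x dx t) := by
  classical
  intro t
  induction t using Nat.strong_induction_on with
  | _ t ih =>
    intro b hb
    rcases Nat.eq_zero_or_pos t with ht | ht
    · subst ht
      have h1 : (1 : A) ∈ Mon x dx 0 := ⟨fun _ => 0, by simp [wdeg], by simp⟩
      have : b = (⟨b, hb⟩ : 𝒜 0) • (1 : A) := by
        rw [Algebra.smul_def, mul_one]; rfl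
      rw [this]
      exact Submodule.smul_mem _ _ (Submodule.subset_span h1)
    · have hb' : b ∈ Ideal.span (Set.range x) :=
        hgen (HomogeneousIdeal.mem_irrelevant_of_mem 𝒜 ht hb)
      obtain ⟨c, hc⟩ := (Ideal.mem_span_range_iff_exists_fun).mp hb'
      have hbt : b = ∑ i, (DirectSum.decompose 𝒜 (c i * x i) t : A) := by
        conv_lhs => rw [← DirectSum.decompose_of_mem_same 𝒜 hb, ← hc]
        rw [DirectSum.decompose_sum, DFinsupp.finsetSum_apply, AddSubmonoidClass.coe_finsetSum]
      rw [hbt]
      refine Submodule.sum_mem _ fun i _ => ?_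
      by_cases hle : dx i ≤ t
      · rw [DirectSum.coe_decompose_mul_of_right_mem_of_le 𝒜 (hx i) hle]
        have hlt : t - dx i < t := by have := hpos i; omega
        have h2 := ih (t - dx i) hlt _ (DirectSum.decompose 𝒜 (c i) (t - dx i)).2
        -- multiply by x i
        refine Submodule.span_induction (p := fun y _ => y * x i ∈ Submodule.span (𝒜 0) (Mon x dx t))
          ?_ ?_ ?_ ?_ h2
        · rintro y ⟨α, hα, rfl⟩
          refine Submodule.subset_span ⟨Function.update α i (α i + 1), ?_, ?_⟩
          · unfold wdeg at hα ⊢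
            have e1 : ∀ j, Function.update α i (α i + 1) j * dx j =
                α j * dx j + (if j = i then dx i else 0) := by
              intro j
              by_cases hj : j = i
              · subst hj; simp; ring
              · simp [hj]
            simp only [e1, Finset.sum_add_distrib, Finset.sum_ite_eq', Finset.mem_univ, if_true]
            omega
          · have e2 : ∀ j, x j ^ Function.update α i (α i + 1) j =
                x j ^ α j * (if j = i then x i else 1) := by
              intro j
              by_cases hj : j = i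
              · subst hj; simp [pow_succ]
              · simp [hj]
            simp only [e2, Finset.prod_mul_distrib, Finset.prod_ite_eq', Finset.mem_univ, if_true]
        · simp
        · intro y z _ _ hy hz; rw [add_mul]; exact Submodule.add_mem _ hy hz
        · intro r y _ hy
          rw [smul_mul_assoc]; exact Submodule.smul_mem _ _ hy
      · rw [DirectSum.coe_decompose_mul_of_right_mem_of_not_le 𝒜 (hx i) hle]
        exact Submodule.zero_mem _

end Alg

end Groth.Agent.Lib.Helper29.GrFT
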