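import Groth.Agent.Lib.Helper29.GrFT1

universe u
open CategoryTheory AlgebraicGeometry Opposite TopologicalSpace DirectSum

namespace Groth.Agent.Lib.Helper29.GrFT
open Groth.Agent.Lib.Helper29.QCoh

section Mod
variable {R A : Type u} [CommRing R] [CommRing A] [Algebra R A]
  (𝒜 : ℕ → Submodule R A) [GradedAlgebra 𝒜]
variable {M : Type u} [AddCommGroup M] [Module R M] [Module A M]
  (ℳ : ℕ → Submodule R M) [DirectSum.Decomposition ℳ] [SetLike.GradedSMul 𝒜 ℳ]

/-- the degree `T` component of `a • m` for homogeneous `m` -/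
theorem coe_decompose_smul_of_mem {i : ℕ} (a : A) {m : M} (hm : m ∈ ℳ i) (T : ℕ) :
    (DirectSum.decompose ℳ (a • m) T : M) =
      if i ≤ T then (DirectSum.decompose 𝒜 a (T - i) : A) • m else 0 := by
  classical
  have hk : ∀ k, (DirectSum.decompose 𝒜 a k : A) • m ∈ ℳ (k + i) := fun k =>
    SetLike.GradedSMul.smul_mem (DirectSum.decompose 𝒜 a k).2 hm
  conv_lhs => rw [← DirectSum.sum_support_decompose 𝒜 a, Finset.sum_smul,
    DirectSum.decompose_sum, DFinsupp.finsetSum_apply, AddSubmonoidClass.coe_finsetSum]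
  split_ifs with h
  · rw [Finset.sum_eq_single (T - i)]
    · rw [DirectSum.decompose_of_mem_same ℳ (by
        have := hk (T - i); rwa [Nat.sub_add_cancel h] at this)]
    · intro k _ hne
      rw [DirectSum.decompose_of_mem_ne ℳ (hk k) (by omega)]
    · intro hns
      have : (DirectSum.decompose 𝒜 a (T - i) : A) = 0 := by
        simpa using hns
      rw [this, zero_smul, DirectSum.decompose_zero]; rfl
  · apply Finset.sum_eq_zero
    intro k _
    rw [DirectSum.decompose_of_mem_ne ℳ (hk k) (by omega)]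

/-- homogeneous elements of the span of homogeneous generators have homogeneous coefficients -/
theorem exists_homogeneous_coeff {κ : Type*} [Fintype κ] (ν : κ → M) (m : κ → ℕ)
    (hν : ∀ j, ν j ∈ ℳ (m j)) {T : ℕ} {μ : M} (hμ : μ ∈ ℳ T)
    (hspan : μ ∈ Submodule.span A (Set.range ν)) :
    ∃ b : κ → A, (∀ j, m j ≤ T → b j ∈ 𝒜 (T - m j)) ∧ (∀ j, ¬ m j ≤ T → b j = 0) ∧
      μ = ∑ j, b j • ν j := by
  classical
  obtain ⟨a, ha⟩ := (Submodule.mem_span_range_iff_exists_fun A).mp hspan
  refine ⟨fun j => if m j ≤ T then (DirectSum.decompose 𝒜 (a j) (T - m j) : A) else 0,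
    ?_, ?_, ?_⟩
  · intro j hj; simp only [hj, if_true]; exact Submodule.coe_mem _
  · intro j hj; simp only [hj, if_false]
  · conv_lhs => rw [← DirectSum.decompose_of_mem_same ℳ hμ, ← ha, DirectSum.decompose_sum,
      DFinsupp.finsetSum_apply, AddSubmonoidClass.coe_finsetSum]
    refine Finset.sum_congr rfl fun j _ => ?_
    rw [coe_decompose_smul_of_mem 𝒜 ℳ (a j) (hν j) T]
    by_cases h : m j ≤ T
    · simp only [h, if_true]
    · simp only [h, if_false, zero_smul]

end Mod

end Groth.Agent.Lib.Helper29.GrFT
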