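import Groth.Agent.Lib.Helper29.GrFT2

universe u
open CategoryTheory AlgebraicGeometry Opposite TopologicalSpace DirectSum

namespace Groth.Agent.Lib.Helper29.GrFT
open Groth.Agent.Lib.Helper29.QCoh

section Sec
variable {R A : Type u} [CommRing R] [CommRing A] [Algebra R A]
  (𝒜 : ℕ → Submodule R A) [GradedAlgebra 𝒜]
variable {M : Type u} [AddCommGroup M] [Module R M] [Module A M]
  (ℳ : ℕ → Submodule R M) [SetLike.GradedSMul 𝒜 ℳ]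
variable {e : ℕ} (g : 𝒜 e)

theorem pow_mem' (k : ℕ) : g.1 ^ k ∈ 𝒜 (k * e) := by
  have := SetLike.pow_mem_graded k g.2
  rwa [smul_eq_mul] at this

/-- the section `μ / g^k` of `M~` over `D_+(g)` -/
def fr (k : ℕ) (μ : M) (hμ : μ ∈ ℳ (k * e)) :
    Γ(GrTilde.tilde 𝒜 ℳ 0, Proj.basicOpen 𝒜 g.1) :=
  mkG 𝒜 ℳ 0 (Proj.basicOpen 𝒜 g.1) (⟨μ, hμ⟩ : ℳ (k * e))
    (⟨g.1 ^ k, pow_mem' 𝒜 g k⟩ : 𝒜 (k * e))
    (fun x => pow_not_mem_of_not_mem x.2 k) (by simp)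

theorem gfun_fr (k : ℕ) (μ : M) (hμ : μ ∈ ℳ (k * e)) (x : Proj.basicOpen 𝒜 g.1) :
    gfun 𝒜 ℳ (fr 𝒜 ℳ g k μ hμ) x =
      LocalizedModule.mk μ ⟨g.1 ^ k, pow_not_mem_of_not_mem x.2 k⟩ := rfl

/-- the function `b / g^k` on `D_+(g)` -/
def frO (k : ℕ) (b : A) (hb : b ∈ 𝒜 (k * e)) : Γ(Proj 𝒜, Proj.basicOpen 𝒜 g.1) :=
  mkO 𝒜 (Proj.basicOpen 𝒜 g.1) (⟨b, hb⟩ : 𝒜 (k * e)) ⟨g.1 ^ k, pow_mem' 𝒜 g k⟩
    (fun x => pow_not_mem_of_not_mem x.2 k)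

theorem ofun_frO (k : ℕ) (b : A) (hb : b ∈ 𝒜 (k * e)) (x : Proj.basicOpen 𝒜 g.1) :
    ofun 𝒜 (frO 𝒜 g k b hb) x =
      Localization.mk b ⟨g.1 ^ k, pow_not_mem_of_not_mem x.2 k⟩ := rfl

theorem frO_smul_fr (q k' k'' : ℕ) (hk : k'' = q + k') (B : A) (hB : B ∈ 𝒜 (q * e))
    (μ : M) (hμ : μ ∈ ℳ (k' * e)) (h'' : B • μ ∈ ℳ (k'' * e)) :
    frO 𝒜 g q B hB • fr 𝒜 ℳ g k' μ hμ = fr 𝒜 ℳ g k'' (B • μ) h'' := by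
  subst hk
  apply gfun_ext
  intro x
  rw [gfun_smul, ofun_frO, gfun_fr, gfun_fr, LocalizedModule.mk_smul_mk]
  congr 1
  exact Subtype.ext (pow_add _ _ _).symm

theorem fr_add (k : ℕ) (μ μ' : M) (hμ : μ ∈ ℳ (k * e)) (hμ' : μ' ∈ ℳ (k * e)) :
    fr 𝒜 ℳ g k (μ + μ') (Submodule.add_mem _ hμ hμ') =
      fr 𝒜 ℳ g k μ hμ + fr 𝒜 ℳ g k μ' hμ' := by
  apply gfun_ext
  intro x
  rw [gfun_add, gfun_fr, gfun_fr, gfun_fr, LocalizedModule.mk_add_mk, ← smul_add,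
    LocalizedModule.mk_cancel_common_left]

theorem fr_zero (k : ℕ) : fr 𝒜 ℳ g k 0 (Submodule.zero_mem _) = 0 := by
  apply gfun_ext
  intro x
  rw [gfun_fr, gfun_zero, LocalizedModule.zero_mk]

theorem fr_cancel (c k k'' : ℕ) (hk : k'' = c + k) (μ : M) (hμ : μ ∈ ℳ (k * e))
    (h'' : g.1 ^ c • μ ∈ ℳ (k'' * e)) :
    fr 𝒜 ℳ g k'' (g.1 ^ c • μ) h'' = fr 𝒜 ℳ g k μ hμ := by
  subst hk
  apply gfun_ext
  intro x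
  rw [gfun_fr, gfun_fr]
  have := LocalizedModule.mk_cancel_common_left
    (⟨g.1 ^ c, pow_not_mem_of_not_mem x.2 c⟩ : x.1.asHomogeneousIdeal.toIdeal.primeCompl)
    ⟨g.1 ^ k, pow_not_mem_of_not_mem x.2 k⟩ μ
  rw [← this]
  congr 1
  exact Subtype.ext (pow_add _ _ _)

end Sec

end Groth.Agent.Lib.Helper29.GrFT
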