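import Groth.Agent.Lib.Helper29.GrFT3

universe u
open CategoryTheory AlgebraicGeometry Opposite TopologicalSpace DirectSum

namespace Groth.Agent.Lib.Helper29.GrFT
open Groth.Agent.Lib.Helper29.QCoh

section Fin
variable {R A : Type u} [CommRing R] [CommRing A] [Algebra R A]
  (𝒜 : ℕ → Submodule R A) [GradedAlgebra 𝒜]
variable {M : Type u} [AddCommGroup M] [Module R M] [Module A M]
  (ℳ : ℕ → Submodule R M) [DirectSum.Decomposition ℳ] [SetLike.GradedSMul 𝒜 ℳ]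
variable {e : ℕ} (g : 𝒜 e)
variable {ι κ : Type u} [Fintype ι] [Fintype κ] (x : ι → A) (dx : ι → ℕ) (ν : κ → M) (m : κ → ℕ)

/-- the monomial `x^α` -/
def mono (α : ι → ℕ) : A := ∏ i, x i ^ α i

omit [Fintype κ] in
theorem mono_smul_mem (hx : ∀ i, x i ∈ 𝒜 (dx i)) (hν : ∀ j, ν j ∈ ℳ (m j)) (α : ι → ℕ) (j : κ) :
    mono x α • ν j ∈ ℳ (wdeg dx α + m j) :=
  SetLike.GradedSMul.smul_mem (monomial_mem 𝒜 x dx hx α) (hν j)

open Classical in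
/-- the finitely many generating sections -/
noncomputable def gen (hx : ∀ i, x i ∈ 𝒜 (dx i)) (hν : ∀ j, ν j ∈ ℳ (m j))
    (p : κ × (ι → Fin e)) : Γ(GrTilde.tilde 𝒜 ℳ 0, Proj.basicOpen 𝒜 g.1) :=
  if h : ∃ c, wdeg dx (fun i => (p.2 i : ℕ)) + m p.1 = c * e then
    fr 𝒜 ℳ g h.choose (mono x (fun i => (p.2 i : ℕ)) • ν p.1)
      (h.choose_spec ▸ mono_smul_mem 𝒜 ℳ x dx ν m hx hν _ _)
  else 0

theorem fr_congr (k : ℕ) {μ μ' : M} (h : μ = μ') (hμ : μ ∈ ℳ (k * e)) (hμ' : μ' ∈ ℳ (k * e)) :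
    fr 𝒜 ℳ g k μ hμ = fr 𝒜 ℳ g k μ' hμ' := by
  subst h; rfl

/-- key: a monomial times `ν j` over `g^K` lies in the span of the `gen` -/
theorem fr_mono_mem_span (he : 0 < e) (hx : ∀ i, x i ∈ 𝒜 (dx i)) (hν : ∀ j, ν j ∈ ℳ (m j))
    (α : ι → ℕ) (j : κ) (K : ℕ)
    (hK : wdeg dx α + m j = K * e) (hmem : mono x α • ν j ∈ ℳ (K * e)) :
    fr 𝒜 ℳ g K (mono x α • ν j) hmem ∈
      Submodule.span Γ(Proj 𝒜, Proj.basicOpen 𝒜 g.1)
        (Set.range (gen 𝒜 ℳ g x dx ν m hx hν)) := by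
  classical
  obtain ⟨q, hq⟩ : ∃ q : ι → ℕ, q = fun i => α i / e := ⟨_, rfl⟩
  obtain ⟨ρ, hρ⟩ : ∃ ρ : ι → Fin e, ρ = fun i => ⟨α i % e, Nat.mod_lt _ he⟩ := ⟨_, rfl⟩
  have hα : ∀ i, α i = e * q i + (ρ i : ℕ) := fun i => by
    rw [hq, hρ]; exact (Nat.div_add_mod (α i) e).symm
  have hmono : mono x α = mono x (fun i => e * q i) * mono x (fun i => (ρ i : ℕ)) := by
    unfold mono
    rw [← Finset.prod_mul_distrib]
    refine Finset.prod_congr rfl fun i _ => ?_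
    rw [← pow_add, ← hα i]
  have hw : wdeg dx α = wdeg dx q * e + wdeg dx (fun i => (ρ i : ℕ)) := by
    unfold wdeg
    rw [Finset.sum_mul, ← Finset.sum_add_distrib]
    refine Finset.sum_congr rfl fun i _ => ?_
    conv_lhs => rw [hα i]
    ring
  have hwq : wdeg dx (fun i => e * q i) = wdeg dx q * e := by
    unfold wdeg
    rw [Finset.sum_mul]
    refine Finset.sum_congr rfl fun i _ => ?_
    ring
  have hB : mono x (fun i => e * q i) ∈ 𝒜 (wdeg dx q * e) :=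
    hwq ▸ monomial_mem 𝒜 x dx hx _
  have hex : ∃ c, wdeg dx (fun i => (ρ i : ℕ)) + m j = c * e :=
    ⟨K - wdeg dx q, by rw [Nat.sub_mul]; omega⟩
  have hgen : gen 𝒜 ℳ g x dx ν m hx hν (j, ρ) =
      fr 𝒜 ℳ g hex.choose (mono x (fun i => (ρ i : ℕ)) • ν j)
        (hex.choose_spec ▸ mono_smul_mem 𝒜 ℳ x dx ν m hx hν _ _) := dif_pos hex
  have hc := hex.choose_spec
  have hKc : K = wdeg dx q + hex.choose := by
    have : K * e = (wdeg dx q + hex.choose) * e := by rw [add_mul]; omega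
    exact Nat.eq_of_mul_eq_mul_right he this
  have hmem2 : mono x (fun i => e * q i) • (mono x (fun i => (ρ i : ℕ)) • ν j) ∈ ℳ (K * e) := by
    rw [smul_smul, ← hmono]; exact hmem
  have h3 := frO_smul_fr 𝒜 ℳ g (wdeg dx q) hex.choose K hKc (mono x (fun i => e * q i)) hB
    (mono x (fun i => (ρ i : ℕ)) • ν j)
    (hex.choose_spec ▸ mono_smul_mem 𝒜 ℳ x dx ν m hx hν _ _) hmem2
  have heq : fr 𝒜 ℳ g K (mono x α • ν j) hmem =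
      frO 𝒜 g (wdeg dx q) (mono x (fun i => e * q i)) hB •
        gen 𝒜 ℳ g x dx ν m hx hν (j, ρ) := by
    rw [hgen, h3]
    exact fr_congr 𝒜 ℳ g K (by rw [smul_smul, ← hmono]) _ _
  rw [heq]
  exact Submodule.smul_mem _ _ (Submodule.subset_span ⟨(j, ρ), rfl⟩)

/-- Under (TF) and finite generation of the irrelevant ideal, the sections of `M~` over `D_+(g)`
form a finitely generated module. -/
theorem finite_sections [IsScalarTower R A M] (he : 0 < e) (hx : ∀ i, x i ∈ 𝒜 (dx i)) (hpos : ∀ i, 0 < dx i)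
    (hgenI : (HomogeneousIdeal.irrelevant 𝒜).toIdeal ≤ Ideal.span (Set.range x))
    (hν : ∀ j, ν j ∈ ℳ (m j)) (n₀ : ℕ)
    (hN : ∀ k, n₀ ≤ k → ∀ μ ∈ ℳ k, μ ∈ Submodule.span A (Set.range ν)) :
    Module.Finite Γ(Proj 𝒜, Proj.basicOpen 𝒜 g.1)
      Γ(GrTilde.tilde 𝒜 ℳ 0, Proj.basicOpen 𝒜 g.1) := by
  classical
  refine ⟨(Submodule.fg_def).mpr ⟨Set.range (gen 𝒜 ℳ g x dx ν m hx hν), Set.finite_range _, ?_⟩⟩
  rw [eq_top_iff]
  intro σ _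
  obtain ⟨Sp, hSp⟩ : ∃ Sp : Submodule Γ(Proj 𝒜, Proj.basicOpen 𝒜 g.1)
      Γ(GrTilde.tilde 𝒜 ℳ 0, Proj.basicOpen 𝒜 g.1),
      Sp = Submodule.span _ (Set.range (gen 𝒜 ℳ g x dx ν m hx hν)) := ⟨_, rfl⟩
  rw [← hSp]
  have hQ0 : ∀ K, ∃ h : (0 : M) ∈ ℳ (K * e), fr 𝒜 ℳ g K 0 h ∈ Sp := fun K =>
    ⟨Submodule.zero_mem _, by rw [fr_zero]; exact Submodule.zero_mem _⟩
  have hQadd : ∀ K (μ μ' : M), (∃ h : μ ∈ ℳ (K * e), fr 𝒜 ℳ g K μ h ∈ Sp) →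
      (∃ h : μ' ∈ ℳ (K * e), fr 𝒜 ℳ g K μ' h ∈ Sp) →
      ∃ h : μ + μ' ∈ ℳ (K * e), fr 𝒜 ℳ g K (μ + μ') h ∈ Sp := by
    rintro K μ μ' ⟨h, hh⟩ ⟨h', hh'⟩
    exact ⟨Submodule.add_mem _ h h', by rw [fr_add 𝒜 ℳ g K μ μ' h h']; exact Submodule.add_mem _ hh hh'⟩
  have hQsum : ∀ K (s : Finset κ) (f : κ → M),
      (∀ j ∈ s, ∃ h : f j ∈ ℳ (K * e), fr 𝒜 ℳ g K (f j) h ∈ Sp) →
      ∃ h : ∑ j ∈ s, f j ∈ ℳ (K * e), fr 𝒜 ℳ g K (∑ j ∈ s, f j) h ∈ Sp := by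
    intro K s f
    induction s using Finset.induction_on with
    | empty => intro _; simpa using hQ0 K
    | insert a s ha ih =>
      intro hf
      rw [Finset.sum_insert ha]
      exact hQadd K _ _ (hf a (Finset.mem_insert_self _ _))
        (ih fun j hj => hf j (Finset.mem_insert_of_mem hj))
  have hQsmul0 : ∀ K (c₀ : A) (hc₀ : c₀ ∈ 𝒜 0) (μ : M),
      (∃ h : μ ∈ ℳ (K * e), fr 𝒜 ℳ g K μ h ∈ Sp) →
      ∃ h : c₀ • μ ∈ ℳ (K * e), fr 𝒜 ℳ g K (c₀ • μ) h ∈ Sp := by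
    rintro K c₀ hc₀ μ ⟨h, hh⟩
    have hmem : c₀ • μ ∈ ℳ (K * e) := by
      have := SetLike.GradedSMul.smul_mem (A := 𝒜) (B := ℳ) hc₀ h
      rwa [vadd_eq_add, zero_add] at this
    refine ⟨hmem, ?_⟩
    have hc₀' : c₀ ∈ 𝒜 (0 * e) := by rw [zero_mul]; exact hc₀
    rw [← frO_smul_fr 𝒜 ℳ g 0 K K (zero_add K).symm c₀ hc₀' μ h hmem]
    exact Submodule.smul_mem _ _ hh
  -- the section is a fraction
  obtain ⟨k, i, μ, hi, hσ⟩ := exists_gfun_eq_mk_basicOpen 𝒜 ℳ 0 he g σ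
  have hi' : i = k * e := by
    have : (i : ℤ) = ((k * e : ℕ) : ℤ) := by rw [hi]; push_cast; ring
    exact_mod_cast this
  subst hi'
  have hσ' : σ = fr 𝒜 ℳ g k μ.1 μ.2 := gfun_ext 𝒜 ℳ _ _ fun y => by rw [hσ y, gfun_fr]
  have hμ' : g.1 ^ n₀ • μ.1 ∈ ℳ ((n₀ + k) * e) := by
    have := SetLike.GradedSMul.smul_mem (A := 𝒜) (B := ℳ) (pow_mem' 𝒜 g n₀) μ.2
    rwa [vadd_eq_add, ← add_mul] at this
  have hσ'' : σ = fr 𝒜 ℳ g (n₀ + k) (g.1 ^ n₀ • μ.1) hμ' := by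
    rw [hσ', fr_cancel 𝒜 ℳ g n₀ k (n₀ + k) rfl μ.1 μ.2 hμ']
  have hspan : g.1 ^ n₀ • μ.1 ∈ Submodule.span A (Set.range ν) :=
    hN _ (by nlinarith) _ hμ'
  obtain ⟨b, hb1, hb2, hb3⟩ := exists_homogeneous_coeff 𝒜 ℳ ν m hν hμ' hspan
  have key : ∃ h : g.1 ^ n₀ • μ.1 ∈ ℳ ((n₀ + k) * e),
      fr 𝒜 ℳ g (n₀ + k) (g.1 ^ n₀ • μ.1) h ∈ Sp := by
    rw [hb3]
    apply hQsum
    intro j _
    by_cases hj : m j ≤ (n₀ + k) * e
    · have h1 := mem_span_mon 𝒜 x dx hx hpos hgenI ((n₀ + k) * e - m j) (b j) (hb1 j hj)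
      refine Submodule.span_induction
        (p := fun b _ => ∃ h : b • ν j ∈ ℳ ((n₀ + k) * e), fr 𝒜 ℳ g (n₀ + k) (b • ν j) h ∈ Sp)
        ?_ ?_ ?_ ?_ h1
      · rintro y ⟨α, hα, rfl⟩
        have hK : wdeg dx α + m j = (n₀ + k) * e := by omega
        have hmem : mono x α • ν j ∈ ℳ ((n₀ + k) * e) :=
          hK ▸ mono_smul_mem 𝒜 ℳ x dx ν m hx hν α j
        exact ⟨hmem, hSp ▸ fr_mono_mem_span 𝒜 ℳ g x dx ν m he hx hν α j _ hK hmem⟩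
      · rw [zero_smul]; exact hQ0 _
      · intro y z _ _ hy hz; rw [add_smul]; exact hQadd _ _ _ hy hz
      · intro c₀ y _ hy
        have : (c₀ • y) • ν j = c₀.1 • (y • ν j) := by
          rw [Algebra.smul_def, mul_smul]; rfl
        rw [this]
        exact hQsmul0 _ c₀.1 c₀.2 _ hy
    · rw [hb2 j hj, zero_smul]; exact hQ0 _
  obtain ⟨h, hh⟩ := key
  rw [hσ'']
  exact hh

end Fin

end Groth.Agent.Lib.Helper29.GrFT
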