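import Groth.Agent.Lib.Helper29.GrFT4

universe u
open CategoryTheory AlgebraicGeometry Opposite TopologicalSpace DirectSum

namespace Groth.Agent.Lib.Helper29.GrFT
open Groth.Agent.Lib.Helper29.QCoh

section Main
variable {R A : Type u} [CommRing R] [CommRing A] [Algebra R A]
  (𝒜 : ℕ → Submodule R A) [GradedAlgebra 𝒜]
variable {M : Type u} [AddCommGroup M] [Module R M] [Module A M] [IsScalarTower R A M]
  (ℳ : ℕ → Submodule R M) [DirectSum.Decomposition ℳ] [SetLike.GradedSMul 𝒜 ℳ]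

theorem isFT_tilde (hfg : (HomogeneousIdeal.irrelevant 𝒜).toIdeal.FG)
    (hTF : ∃ n : ℕ, (Submodule.span A (⋃ k ∈ Set.Ici n, (ℳ k : Set M))).FG) :
    (GrTilde.tilde 𝒜 ℳ 0).IsFiniteType := by
  classical
  obtain ⟨T, hT⟩ := hfg
  -- homogeneous generators of the irrelevant ideal
  let S : Finset (Σ _ : A, ℕ) := T.sigma fun t => (decompose 𝒜 t).support.filter (0 < ·)
  let x : ↥S → A := fun p => (decompose 𝒜 p.1.1 p.1.2 : A)
  let dx : ↥S → ℕ := fun p => p.1.2
  have hx : ∀ p, x p ∈ 𝒜 (dx p) := fun p => Submodule.coe_mem _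
  have hpos : ∀ p, 0 < dx p := fun p => by
    have := p.2
    simp only [S, Finset.mem_sigma, Finset.mem_filter] at this
    exact this.2.2
  have hgenI : (HomogeneousIdeal.irrelevant 𝒜).toIdeal ≤ Ideal.span (Set.range x) := by
    rw [← hT, Ideal.span_le]
    intro t ht
    have ht' : t ∈ (HomogeneousIdeal.irrelevant 𝒜).toIdeal := by
      rw [← hT]; exact Ideal.subset_span ht
    change t ∈ Ideal.span (Set.range x)
    rw [← sum_support_decompose 𝒜 t]
    refine Ideal.sum_mem _ fun k hk => ?_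
    rcases Nat.eq_zero_or_pos k with h0 | h0
    · subst h0
      have : (decompose 𝒜 t 0 : A) = 0 := by
        have := (HomogeneousIdeal.mem_irrelevant_iff 𝒜 t).mp ht'
        simpa [GradedRing.proj_apply] using this
      rw [this]
      exact Ideal.zero_mem _
    · refine Ideal.subset_span ⟨⟨⟨t, k⟩, ?_⟩, rfl⟩
      simp only [S, Finset.mem_sigma, Finset.mem_filter]
      exact ⟨ht, hk, h0⟩
  -- generators of the module
  obtain ⟨n₀, hN⟩ := hTF
  obtain ⟨S', hS's, hS'⟩ := (Submodule.fg_span_iff_fg_span_finset_subset _).mp hN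
  have hmem : ∀ j : ↥S', ∃ k, n₀ ≤ k ∧ j.1 ∈ ℳ k := fun j => by
    have := hS's j.2
    simp only [Set.mem_iUnion, Set.mem_Ici, SetLike.mem_coe, exists_prop] at this
    exact this
  choose m hm1 hm2 using hmem
  have hrange : Set.range (fun j : ↥S' => j.1) = (↑S' : Set M) := Subtype.range_coe
  have hN' : ∀ k, n₀ ≤ k → ∀ μ ∈ ℳ k, μ ∈ Submodule.span A (Set.range fun j : ↥S' => j.1) := by
    intro k hk μ hμ
    rw [hrange, ← hS']
    refine Submodule.subset_span ?_
    simp only [Set.mem_iUnion, Set.mem_Ici, SetLike.mem_coe, exists_prop]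
    exact ⟨k, hk, hμ⟩
  have hqc : (GrTilde.tilde 𝒜 ℳ 0).IsQuasicoherent := tilde_isQuasicoherent 𝒜 ℳ 0
  refine isFiniteType_of_module_finite (GrTilde.tilde 𝒜 ℳ 0)
    (fun p : ↥S => Proj.basicOpen 𝒜 (x p)) ?_
    (fun p => Proj.isAffineOpen_basicOpen 𝒜 _ (hx p) (hpos p)) ?_
  · apply IsOpenCover.mk
    rw [eq_top_iff]
    intro y _
    rw [Opens.mem_iSup]
    by_contra hcon
    push Not at hcon
    apply y.not_irrelevant_le
    change (HomogeneousIdeal.irrelevant 𝒜).toIdeal ≤ y.asHomogeneousIdeal.toIdeal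
    refine le_trans hgenI (Ideal.span_le.mpr ?_)
    rintro _ ⟨p, rfl⟩
    by_contra hmem
    exact hcon p ((Proj.mem_basicOpen 𝒜 _ y).mpr hmem)
  · intro p
    exact finite_sections 𝒜 ℳ (⟨x p, hx p⟩ : 𝒜 (dx p)) x dx (fun j : ↥S' => j.1) m (hpos p) hx hpos
      hgenI hm2 n₀ hN'

end Main

end Groth.Agent.Lib.Helper29.GrFT
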