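import Mathlib
universe u
open DirectSum

namespace Groth.Agent.Lib.Helper29.QCoh

section GrQuot
variable {R A : Type u} [CommRing R] [CommRing A] [Algebra R A] (𝒜 : ℕ → Submodule R A) [GradedAlgebra 𝒜]
  (I : Ideal A)

/-- the image grading on `A ⧸ I` -/
def quotGrading (n : ℕ) : Submodule R (A ⧸ I) :=
  (𝒜 n).map (Ideal.Quotient.mkₐ R I).toLinearMap

theorem mem_quotGrading {n : ℕ} {b : A ⧸ I} :
    b ∈ quotGrading 𝒜 I n ↔ ∃ a ∈ 𝒜 n, Ideal.Quotient.mk I a = b := by
  unfold quotGrading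
  rw [Submodule.mem_map]
  rfl

theorem mk_mem_quotGrading {n : ℕ} {a : A} (ha : a ∈ 𝒜 n) :
    Ideal.Quotient.mk I a ∈ quotGrading 𝒜 I n :=
  (mem_quotGrading 𝒜 I).2 ⟨a, ha, rfl⟩

instance quotGrading_gradedMonoid : SetLike.GradedMonoid (quotGrading 𝒜 I) where
  one_mem := (mem_quotGrading 𝒜 I).2 ⟨1, SetLike.one_mem_graded 𝒜, map_one _⟩
  mul_mem := by
    rintro i j _ _ hx hy
    obtain ⟨a, ha, rfl⟩ := (mem_quotGrading 𝒜 I).1 hx
    obtain ⟨b, hb, rfl⟩ := (mem_quotGrading 𝒜 I).1 hy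
    rw [← map_mul]
    exact mk_mem_quotGrading 𝒜 I (SetLike.mul_mem_graded ha hb)

/-- component maps -/
def quotComp (n : ℕ) : 𝒜 n →+ quotGrading 𝒜 I n where
  toFun a := ⟨Ideal.Quotient.mk I a.1, mk_mem_quotGrading 𝒜 I a.2⟩
  map_zero' := by ext; simp
  map_add' a b := by ext; simp

theorem quotComp_surjective (n : ℕ) : Function.Surjective (quotComp 𝒜 I n) := by
  rintro ⟨b, hb⟩
  obtain ⟨a, ha, rfl⟩ := (mem_quotGrading 𝒜 I).1 hb
  exact ⟨⟨a, ha⟩, rfl⟩

theorem coe_map_quotComp (y : ⨁ n, 𝒜 n) :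
    DirectSum.coeAddMonoidHom (quotGrading 𝒜 I) (DirectSum.map (quotComp 𝒜 I) y) =
      Ideal.Quotient.mk I (DirectSum.coeAddMonoidHom 𝒜 y) := by
  induction y using DirectSum.induction_on with
  | zero => simp
  | of i x =>
    rw [DirectSum.map_of, DirectSum.coeAddMonoidHom_of, DirectSum.coeAddMonoidHom_of]
    rfl
  | add x y hx hy => rw [map_add, map_add, map_add, map_add, hx, hy]

theorem quot_isInternal (hI : I.IsHomogeneous 𝒜) : DirectSum.IsInternal (quotGrading 𝒜 I) := by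
  constructor
  · rw [injective_iff_map_eq_zero]
    intro x hx
    obtain ⟨y, rfl⟩ :=
      (DirectSum.map_surjective (f := quotComp 𝒜 I)).2 (quotComp_surjective 𝒜 I) x
    rw [coe_map_quotComp, Ideal.Quotient.eq_zero_iff_mem] at hx
    ext n
    rw [DirectSum.map_apply]
    have h1 : (DirectSum.decompose 𝒜 (DirectSum.coeAddMonoidHom 𝒜 y) n : A) ∈ I := hI n hx
    have h2 : DirectSum.decompose 𝒜 (DirectSum.coeAddMonoidHom 𝒜 y) = y :=
      (DirectSum.decompose 𝒜).apply_symm_apply y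
    rw [h2] at h1
    have : quotComp 𝒜 I n (y n) = 0 := Subtype.ext (Ideal.Quotient.eq_zero_iff_mem.2 h1)
    rw [this]
    rfl
  · intro b
    obtain ⟨a, rfl⟩ := Ideal.Quotient.mk_surjective b
    refine ⟨DirectSum.map (quotComp 𝒜 I) (DirectSum.decompose 𝒜 a), ?_⟩
    rw [coe_map_quotComp]
    congr 1
    exact (DirectSum.decompose 𝒜).symm_apply_apply a

/-- the graded algebra structure on the quotient by a homogeneous ideal -/
@[reducible] noncomputable def quotGradedAlgebra (hI : I.IsHomogeneous 𝒜) : GradedAlgebra (quotGrading 𝒜 I) :=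
  { quotGrading_gradedMonoid 𝒜 I with
    toDecomposition := (quot_isInternal 𝒜 I hI).chooseDecomposition }

/-- the quotient map as a graded ring hom -/
def quotGradedHom : 𝒜 →+*ᵍ quotGrading 𝒜 I where
  toRingHom := Ideal.Quotient.mk I
  map_mem := fun hx => mk_mem_quotGrading 𝒜 I hx

theorem quotGradedHom_apply (a : A) : quotGradedHom 𝒜 I a = Ideal.Quotient.mk I a := rfl

theorem quotGradedHom_surjective : Function.Surjective (quotGradedHom 𝒜 I) :=
  Ideal.Quotient.mk_surjective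

theorem irrelevant_le_map_quotGradedHom (hI : I.IsHomogeneous 𝒜) :
    letI := quotGradedAlgebra 𝒜 I hI
    HomogeneousIdeal.irrelevant (quotGrading 𝒜 I) ≤
      (HomogeneousIdeal.irrelevant 𝒜).map (quotGradedHom 𝒜 I) := by
  letI := quotGradedAlgebra 𝒜 I hI
  rw [HomogeneousIdeal.irrelevant_le]
  intro i hi b hb
  obtain ⟨a, ha, rfl⟩ := (mem_quotGrading 𝒜 I).1 hb
  exact Ideal.mem_map_of_mem _ (HomogeneousIdeal.mem_irrelevant_of_mem 𝒜 hi ha)

end GrQuot

end Groth.Agent.Lib.Helper29.QCoh
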