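import Groth.Agent.Lib.Helper29.GStarD2
import Groth.Prelude.Def_GrMod2
universe u
open CategoryTheory CategoryTheory.Limits AlgebraicGeometry Opposite TopologicalSpace DirectSum

/-! # Basic API for the modules `M(n)~` on `Proj` -/

namespace Groth.Agent.Lib.Helper29.QCoh

section GrT
variable {R A : Type u} [CommRing R] [CommRing A] [Algebra R A] (𝒜 : ℕ → Submodule R A) [GradedAlgebra 𝒜]
variable {M : Type u} [AddCommGroup M] [Module R M] [Module A M] (ℳ : ℕ → Submodule R M)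
  [SetLike.GradedSMul 𝒜 ℳ]

/-- view a section of `M(n)~` as a dependent function into the localized modules -/
def gfun {n : ℤ} {U : (Proj 𝒜).Opens} (σ : Γ(GrTilde.tilde 𝒜 ℳ n, U)) :
    ∀ x : U, GrTilde.LocMod 𝒜 (M := M) x.1 :=
  fun x => ((show GrTilde.sect 𝒜 ℳ n (op U) from σ).1 x).1

theorem gfun_ext {n : ℤ} {U : (Proj 𝒜).Opens} (σ τ : Γ(GrTilde.tilde 𝒜 ℳ n, U))
    (h : ∀ x, gfun 𝒜 ℳ σ x = gfun 𝒜 ℳ τ x) : σ = τ := by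
  apply Subtype.ext
  funext x
  exact Subtype.ext (h x)

theorem gfun_res {n : ℤ} {U V : (Proj 𝒜).Opens} (h : V ≤ U) (σ : Γ(GrTilde.tilde 𝒜 ℳ n, U))
    (x : V) :
    gfun 𝒜 ℳ (QCoh.res (GrTilde.tilde 𝒜 ℳ n) h σ) x = gfun 𝒜 ℳ σ ⟨x.1, h x.2⟩ := rfl

theorem gfun_add {n : ℤ} {U : (Proj 𝒜).Opens} (σ τ : Γ(GrTilde.tilde 𝒜 ℳ n, U)) (x : U) :
    gfun 𝒜 ℳ (σ + τ) x = gfun 𝒜 ℳ σ x + gfun 𝒜 ℳ τ x := rfl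

theorem gfun_zero {n : ℤ} {U : (Proj 𝒜).Opens} (x : U) :
    gfun 𝒜 ℳ (0 : Γ(GrTilde.tilde 𝒜 ℳ n, U)) x = 0 := rfl

theorem gfun_smul {n : ℤ} {U : (Proj 𝒜).Opens} (r : Γ(Proj 𝒜, U))
    (σ : Γ(GrTilde.tilde 𝒜 ℳ n, U)) (x : U) :
    gfun 𝒜 ℳ (r • σ) x = ofun 𝒜 r x • gfun 𝒜 ℳ σ x :=
  GrTilde.coe_smul_val n x.1 _ _

/-- The section `m / s` of `M(n)~` over an open where `s` does not vanish. -/
def mkG (n : ℤ) (U : (Proj 𝒜).Opens) {i j : ℕ} (m : ℳ i) (s : 𝒜 j)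
    (hs : ∀ x : U, s.1 ∉ x.1.asHomogeneousIdeal) (hdeg : (i : ℤ) = j + n) :
    Γ(GrTilde.tilde 𝒜 ℳ n, U) :=
  (⟨fun x => ⟨LocalizedModule.mk m.1 ⟨s.1, hs x⟩,
      Submodule.subset_span ⟨i, j, m, s, hs x, hdeg, rfl⟩⟩,
    fun x => ⟨U, x.2, 𝟙 _, i, j, m, s, hs, Or.inl hdeg, fun _ => rfl⟩⟩ :
    GrTilde.sect 𝒜 ℳ n (op U))

theorem gfun_mkG (n : ℤ) (U : (Proj 𝒜).Opens) {i j : ℕ} (m : ℳ i) (s : 𝒜 j)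
    (hs : ∀ x : U, s.1 ∉ x.1.asHomogeneousIdeal) (hdeg : (i : ℤ) = j + n) (x : U) :
    gfun 𝒜 ℳ (mkG 𝒜 ℳ n U m s hs hdeg) x = LocalizedModule.mk m.1 ⟨s.1, hs x⟩ := rfl

/-- Sections are locally fractions. -/
theorem exists_gfun_eq_mk {n : ℤ} {U : (Proj 𝒜).Opens} (σ : Γ(GrTilde.tilde 𝒜 ℳ n, U)) (x : U) :
    ∃ (V : (Proj 𝒜).Opens) (_ : x.1 ∈ V) (hVU : V ≤ U) (i j : ℕ) (m : ℳ i) (s : 𝒜 j)
      (hs : ∀ y : V, s.1 ∉ y.1.asHomogeneousIdeal), ((i : ℤ) = j + n ∨ m.1 = 0) ∧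
      ∀ y : V, gfun 𝒜 ℳ σ ⟨y.1, hVU y.2⟩ = LocalizedModule.mk m.1 ⟨s.1, hs y⟩ := by
  obtain ⟨V, hxV, ι, i, j, m, s, hs, hdeg, hw⟩ := (show GrTilde.sect 𝒜 ℳ n (op U) from σ).2 x
  exact ⟨V, hxV, leOfHom ι, i, j, m, s, hs, hdeg, fun y => hw y⟩

end GrT

end Groth.Agent.Lib.Helper29.QCoh
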