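import Groth.Agent.Lib.Helper29.GrT1
import Groth.Agent.S3586
import Groth.Agent.S3587
universe u
open CategoryTheory CategoryTheory.Limits AlgebraicGeometry Opposite TopologicalSpace DirectSum

namespace Groth.Agent.Lib.Helper29.QCoh

section GrTQC
variable {R A : Type u} [CommRing R] [CommRing A] [Algebra R A] (𝒜 : ℕ → Submodule R A) [GradedAlgebra 𝒜]
variable {M : Type u} [AddCommGroup M] [Module R M] [Module A M] [IsScalarTower R A M]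
  (ℳ : ℕ → Submodule R M) [DirectSum.Decomposition ℳ] [SetLike.GradedSMul 𝒜 ℳ]

theorem locMod_mk_eq_zero_iff (x : ProjectiveSpectrum 𝒜) (μ : M)
    (s : x.asHomogeneousIdeal.toIdeal.primeCompl) :
    (LocalizedModule.mk μ s : GrTilde.LocMod 𝒜 (M := M) x) = 0 ↔
      ∃ u : x.asHomogeneousIdeal.toIdeal.primeCompl, u • μ = 0 := by
  rw [← LocalizedModule.zero_mk (1 : x.asHomogeneousIdeal.toIdeal.primeCompl),
    LocalizedModule.mk_eq]
  constructor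
  · rintro ⟨u, hu⟩
    refine ⟨u, ?_⟩
    rw [one_smul, smul_zero, smul_zero] at hu
    exact hu
  · rintro ⟨u, hu⟩
    exact ⟨u, by rw [one_smul, smul_zero, smul_zero, hu]⟩

/-- Every section of `M(n)~` over `D_+(g)`, `deg g > 0`, is one fraction `μ / g^k`. -/
theorem exists_gfun_eq_mk_basicOpen (n : ℤ) {d : ℕ} (hd : 0 < d) (g : 𝒜 d)
    (σ : Γ(GrTilde.tilde 𝒜 ℳ n, Proj.basicOpen 𝒜 g.1)) :
    ∃ (k i : ℕ) (μ : ℳ i), (i : ℤ) = k * d + n ∧ ∀ x : Proj.basicOpen 𝒜 g.1,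
      gfun 𝒜 ℳ σ x = LocalizedModule.mk μ.1 ⟨g.1 ^ k, pow_not_mem_of_not_mem x.2 k⟩ :=
  Groth.Agent.S3586.result 𝒜 ℳ n hd g.2 σ

theorem exists_pow_smul_eq_zero_of_mk_eq_zero {d : ℕ} (hd : 0 < d) (g : 𝒜 d) {i : ℕ} (μ : ℳ i)
    (h : ∀ x : Proj.basicOpen 𝒜 g.1, ∃ u : x.1.asHomogeneousIdeal.toIdeal.primeCompl,
      u • μ.1 = 0) :
    ∃ N : ℕ, g.1 ^ N • μ.1 = 0 := by
  apply Groth.Agent.S3587.result 𝒜 ℳ hd g.2 0 i μ
  intro x
  rw [locMod_mk_eq_zero_iff]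
  exact h x

end GrTQC

end Groth.Agent.Lib.Helper29.QCoh
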