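import Groth.Agent.Lib.Helper29.GrT2
universe u
open CategoryTheory CategoryTheory.Limits AlgebraicGeometry Opposite TopologicalSpace DirectSum

namespace Groth.Agent.Lib.Helper29.QCoh

section GrTQC
variable {R A : Type u} [CommRing R] [CommRing A] [Algebra R A] (𝒜 : ℕ → Submodule R A) [GradedAlgebra 𝒜]
variable {M : Type u} [AddCommGroup M] [Module R M] [Module A M] [IsScalarTower R A M]
  (ℳ : ℕ → Submodule R M) [DirectSum.Decomposition ℳ] [SetLike.GradedSMul 𝒜 ℳ]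

/-- Functions on `D_+(g)` are fractions `a / g^j`. -/
theorem exists_eq_mkO {d : ℕ} (hd : 0 < d) (g : 𝒜 d) (φ : Γ(Proj 𝒜, Proj.basicOpen 𝒜 g.1)) :
    ∃ (i : ℕ) (a : 𝒜 i) (j : ℕ) (hb : g.1 ^ j ∈ 𝒜 i),
      φ = mkO 𝒜 (Proj.basicOpen 𝒜 g.1) a ⟨g.1 ^ j, hb⟩
        (fun x => pow_not_mem_of_not_mem x.2 j) := by
  obtain ⟨i, a, j, hb, h⟩ := exists_ofun_eq_mk hd g φ
  exact ⟨i, a, j, hb, ofun_ext 𝒜 _ _ fun x => by rw [h x, ofun_mkO]⟩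

theorem gfun_pow_smul {n : ℤ} {U : (Proj 𝒜).Opens} (r : Γ(Proj 𝒜, U)) (k : ℕ)
    (σ : Γ(GrTilde.tilde 𝒜 ℳ n, U)) (x : U) :
    gfun 𝒜 ℳ (r ^ k • σ) x = (ofun 𝒜 r x) ^ k • gfun 𝒜 ℳ σ x := by
  rw [gfun_smul, ofun_pow]

/-- The function `a / g^j` on `D_+(g)`. -/
noncomputable abbrev phiO {d : ℕ} (g : 𝒜 d) {i : ℕ} (a : 𝒜 i) (j : ℕ) (hb : g.1 ^ j ∈ 𝒜 i) :
    Γ(Proj 𝒜, Proj.basicOpen 𝒜 g.1) :=
  mkO 𝒜 (Proj.basicOpen 𝒜 g.1) a ⟨g.1 ^ j, hb⟩ (fun x => pow_not_mem_of_not_mem x.2 j)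

theorem tilde_localizing_surj (n : ℤ) {d : ℕ} (hd : 0 < d) (g : 𝒜 d) {i : ℕ} (a : 𝒜 i) (j : ℕ)
    (hb : g.1 ^ j ∈ 𝒜 i)
    (s : Γ(GrTilde.tilde 𝒜 ℳ n, (Proj 𝒜).basicOpen (phiO 𝒜 g a j hb))) :
    ∃ (k : ℕ) (m' : Γ(GrTilde.tilde 𝒜 ℳ n, Proj.basicOpen 𝒜 g.1)),
      (rres (Proj 𝒜) ((Proj 𝒜).basicOpen_le (phiO 𝒜 g a j hb)) (phiO 𝒜 g a j hb)) ^ k • s =
        QCoh.res (GrTilde.tilde 𝒜 ℳ n) ((Proj 𝒜).basicOpen_le (phiO 𝒜 g a j hb)) m' := by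
  have hW : (Proj 𝒜).basicOpen (phiO 𝒜 g a j hb) = Proj.basicOpen 𝒜 (g.1 * a.1) := by
    rw [basicOpen_mkO, Proj.basicOpen_mul]
  by_cases hg0 : g.1 ^ j = 0
  · refine ⟨0, 0, gfun_ext 𝒜 ℳ _ _ fun x => ?_⟩
    exfalso
    have hx : x.1 ∈ Proj.basicOpen 𝒜 g.1 := (Proj 𝒜).basicOpen_le _ x.2
    have h0 : g.1 ^ j ∈ x.1.asHomogeneousIdeal.toIdeal := by
      have h00 := Ideal.zero_mem x.1.asHomogeneousIdeal.toIdeal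
      rwa [← hg0] at h00
    exact hx (x.1.isPrime.mem_of_pow_mem j h0)
  · have hij : i = j • d :=
      DirectSum.degree_eq_of_mem_mem 𝒜 hb (SetLike.pow_mem_graded j g.2) hg0
    have hdi : 0 < d + i := by omega
    obtain ⟨k, i₂, μ, hdeg, hval⟩ := exists_gfun_eq_mk_basicOpen 𝒜 ℳ n hdi
      (⟨g.1 * a.1, SetLike.mul_mem_graded g.2 a.2⟩ : 𝒜 (d + i))
      (QCoh.res (GrTilde.tilde 𝒜 ℳ n) hW.ge s)
    have hdeg' : (i₂ : ℤ) = ((j * k + k) • d : ℕ) + n := by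
      rw [hdeg, hij]
      push_cast [smul_eq_mul]
      ring
    refine ⟨k, mkG 𝒜 ℳ n (Proj.basicOpen 𝒜 g.1) μ
      ⟨g.1 ^ (j * k + k), SetLike.pow_mem_graded _ g.2⟩
      (fun x => pow_not_mem_of_not_mem x.2 _) hdeg', gfun_ext 𝒜 ℳ _ _ fun x => ?_⟩
    have hxh : x.1 ∈ Proj.basicOpen 𝒜 (g.1 * a.1) := hW.le x.2
    have hsx : gfun 𝒜 ℳ s x =
        gfun 𝒜 ℳ (QCoh.res (GrTilde.tilde 𝒜 ℳ n) hW.ge s) ⟨x.1, hxh⟩ := rfl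
    rw [gfun_pow_smul, gfun_res, gfun_mkG, hsx, hval ⟨x.1, hxh⟩, ofun_res, ofun_mkO,
      Localization.mk_pow, LocalizedModule.mk_smul_mk, LocalizedModule.mk_eq]
    refine ⟨1, ?_⟩
    simp only [one_smul, Submonoid.smul_def, Submonoid.coe_mul, SubmonoidClass.coe_pow,
      smul_smul]
    congr 1
    ring

theorem tilde_localizing_inj (n : ℤ) {d : ℕ} (hd : 0 < d) (g : 𝒜 d) {i : ℕ} (a : 𝒜 i) (j : ℕ)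
    (hb : g.1 ^ j ∈ 𝒜 i) (m₀ : Γ(GrTilde.tilde 𝒜 ℳ n, Proj.basicOpen 𝒜 g.1))
    (hm₀ : QCoh.res (GrTilde.tilde 𝒜 ℳ n) ((Proj 𝒜).basicOpen_le
      (phiO 𝒜 g a j hb)) m₀ = 0) :
    ∃ N : ℕ, (phiO 𝒜 g a j hb) ^ N • m₀ = 0 := by
  have hW : (Proj 𝒜).basicOpen (phiO 𝒜 g a j hb) = Proj.basicOpen 𝒜 (g.1 * a.1) := by
    rw [basicOpen_mkO, Proj.basicOpen_mul]
  obtain ⟨k, i₂, μ, hdeg, hval⟩ := exists_gfun_eq_mk_basicOpen 𝒜 ℳ n hd g m₀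
  have hdi : 0 < d + i := by omega
  obtain ⟨N, hN⟩ := exists_pow_smul_eq_zero_of_mk_eq_zero 𝒜 ℳ hdi
    (⟨g.1 * a.1, SetLike.mul_mem_graded g.2 a.2⟩ : 𝒜 (d + i)) μ (by
      intro x
      have hxW : x.1 ∈ (Proj 𝒜).basicOpen (phiO 𝒜 g a j hb) := hW.ge x.2
      have hxg : x.1 ∈ Proj.basicOpen 𝒜 g.1 := (Proj 𝒜).basicOpen_le _ hxW
      have h0 := congrArg (fun σ => gfun 𝒜 ℳ σ ⟨x.1, hxW⟩) hm₀
      simp only [gfun_res, gfun_zero] at h0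
      rw [hval ⟨x.1, hxg⟩, locMod_mk_eq_zero_iff] at h0
      exact h0)
  refine ⟨N, gfun_ext 𝒜 ℳ _ _ fun x => ?_⟩
  rw [gfun_pow_smul, gfun_zero, hval x, ofun_mkO, Localization.mk_pow,
    LocalizedModule.mk_smul_mk, locMod_mk_eq_zero_iff]
  refine ⟨⟨g.1 ^ N, pow_not_mem_of_not_mem x.2 N⟩, ?_⟩
  change g.1 ^ N • (a.1 ^ N • μ.1) = 0
  rw [smul_smul, ← mul_pow]
  exact hN

/-- **`M(n)~` is quasi-coherent.** -/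
theorem tilde_isQuasicoherent (n : ℤ) : (GrTilde.tilde 𝒜 ℳ n).IsQuasicoherent := by
  let ι : Type u := {p : Σ m : ℕ, 𝒜 m // 0 < p.1}
  refine isQuasicoherent_of_localizing (GrTilde.tilde 𝒜 ℳ n)
    (fun p : ι => Proj.basicOpen 𝒜 p.1.2.1) ?_ (fun p => Proj.isAffineOpen_basicOpen 𝒜 _ p.1.2.2 p.2)
    ?_ ?_
  · rw [IsOpenCover, eq_top_iff]
    intro x _
    obtain ⟨m, hm, g, hx⟩ := exists_pos_mem_basicOpen 𝒜 x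
    exact Opens.mem_iSup.mpr ⟨⟨⟨m, g⟩, hm⟩, hx⟩
  · rintro ⟨⟨d, g⟩, hd⟩ φ s
    change 0 < d at hd
    change Γ(Proj 𝒜, Proj.basicOpen 𝒜 g.1) at φ
    obtain ⟨i, a, j, hb, rfl⟩ := exists_eq_mkO 𝒜 hd g φ
    exact tilde_localizing_surj 𝒜 ℳ n hd g a j hb s
  · rintro ⟨⟨d, g⟩, hd⟩ φ m₀ hm₀
    change 0 < d at hd
    change Γ(Proj 𝒜, Proj.basicOpen 𝒜 g.1) at φ
    obtain ⟨i, a, j, hb, rfl⟩ := exists_eq_mkO 𝒜 hd g φ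
    exact tilde_localizing_inj 𝒜 ℳ n hd g a j hb m₀ hm₀

end GrTQC

end Groth.Agent.Lib.Helper29.QCoh
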