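import Groth.Agent.Lib.Helper29.GrT3
universe u
open CategoryTheory CategoryTheory.Limits AlgebraicGeometry Opposite TopologicalSpace DirectSum

namespace Groth.Agent.Lib.Helper29.QCoh

section TwistTilde
variable {R A : Type u} [CommRing R] [CommRing A] [Algebra R A] (𝒜 : ℕ → Submodule R A) [GradedAlgebra 𝒜]

theorem twistAt_le_tildeAt (n : ℤ) (x : ProjectiveSpectrum 𝒜) (q : Twist.Loc 𝒜 x)
    (hq : q ∈ Twist.twistAt 𝒜 n x) : (q : GrTilde.LocMod 𝒜 (M := A) x) ∈ GrTilde.tildeAt 𝒜 𝒜 n x := by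
  induction hq using Submodule.span_induction with
  | mem q hq =>
    obtain ⟨i, j, a, s, hs, hdeg, rfl⟩ := hq
    exact Submodule.subset_span ⟨i, j, a, s, hs, hdeg, rfl⟩
  | zero => exact Submodule.zero_mem _
  | add q q' _ _ hq hq' => exact Submodule.add_mem _ hq hq'
  | smul c q _ hq => exact Submodule.smul_mem _ c hq

theorem tildeAt_le_twistAt (n : ℤ) (x : ProjectiveSpectrum 𝒜) (q : GrTilde.LocMod 𝒜 (M := A) x)
    (hq : q ∈ GrTilde.tildeAt 𝒜 𝒜 n x) : (q : Twist.Loc 𝒜 x) ∈ Twist.twistAt 𝒜 n x := by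
  induction hq using Submodule.span_induction with
  | mem q hq =>
    obtain ⟨i, j, a, s, hs, hdeg, rfl⟩ := hq
    exact Submodule.subset_span ⟨i, j, a, s, hs, hdeg, rfl⟩
  | zero => exact Submodule.zero_mem _
  | add q q' _ _ hq hq' => exact Submodule.add_mem _ hq hq'
  | smul c q _ hq => exact Submodule.smul_mem _ c hq

/-- Sections of `O(n)` as sections of `A(n)~`. -/
def toTildeFun (n : ℤ) (W : (Proj 𝒜).Opens) (σ : Γ(Twist.twist 𝒜 n, W)) :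
    Γ(GrTilde.tilde 𝒜 𝒜 n, W) :=
  (⟨fun x => ⟨tfun 𝒜 σ x, twistAt_le_tildeAt 𝒜 n x.1 _
      ((show Twist.sectN (𝒜 := 𝒜) n (op W) from σ).1 x).2⟩, by
    intro x
    obtain ⟨V, hxV, ι, i, j, a, s, hs, hdeg, hw⟩ := (show Twist.sectN (𝒜 := 𝒜) n (op W) from σ).2 x
    exact ⟨V, hxV, ι, i, j, a, s, hs, hdeg, fun y => hw y⟩⟩ : GrTilde.sect 𝒜 𝒜 n (op W))

def fromTildeFun (n : ℤ) (W : (Proj 𝒜).Opens) (σ : Γ(GrTilde.tilde 𝒜 𝒜 n, W)) :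
    Γ(Twist.twist 𝒜 n, W) :=
  (⟨fun x => ⟨gfun 𝒜 𝒜 σ x, tildeAt_le_twistAt 𝒜 n x.1 _
      ((show GrTilde.sect 𝒜 𝒜 n (op W) from σ).1 x).2⟩, by
    intro x
    obtain ⟨V, hxV, ι, i, j, a, s, hs, hdeg, hw⟩ := (show GrTilde.sect 𝒜 𝒜 n (op W) from σ).2 x
    exact ⟨V, hxV, ι, i, j, a, s, hs, hdeg, fun y => hw y⟩⟩ : Twist.sectN (𝒜 := 𝒜) n (op W))

theorem gfun_toTildeFun (n : ℤ) (W : (Proj 𝒜).Opens) (σ : Γ(Twist.twist 𝒜 n, W)) (x : W) :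
    gfun 𝒜 𝒜 (toTildeFun 𝒜 n W σ) x = tfun 𝒜 σ x := rfl

theorem tfun_fromTildeFun (n : ℤ) (W : (Proj 𝒜).Opens) (σ : Γ(GrTilde.tilde 𝒜 𝒜 n, W)) (x : W) :
    tfun 𝒜 (fromTildeFun 𝒜 n W σ) x = gfun 𝒜 𝒜 σ x := rfl

/-- The comparison morphism `O(n) ⟶ A(n)~`. -/
noncomputable def twistToTilde (n : ℤ) : Twist.twist 𝒜 n ⟶ GrTilde.tilde 𝒜 𝒜 n :=
  homOfApp (fun W =>
    { toFun := toTildeFun 𝒜 n W
      map_zero' := gfun_ext 𝒜 𝒜 _ _ fun x => rfl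
      map_add' := fun σ τ => gfun_ext 𝒜 𝒜 _ _ fun x => rfl })
    (fun W r σ => gfun_ext 𝒜 𝒜 _ _ fun x => by
      change gfun 𝒜 𝒜 (toTildeFun 𝒜 n W (r • σ)) x = gfun 𝒜 𝒜 (r • toTildeFun 𝒜 n W σ) x
      rw [gfun_smul, gfun_toTildeFun, gfun_toTildeFun, tfun_smul]
      rfl)
    (fun {W W'} h σ => gfun_ext 𝒜 𝒜 _ _ fun x => rfl)

theorem isIso_twistToTilde (n : ℤ) : IsIso (twistToTilde 𝒜 n) := by
  rw [isIso_iff_app_bijective]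
  intro W
  refine Function.bijective_iff_has_inverse.mpr ⟨fromTildeFun 𝒜 n W, fun σ => ?_, fun σ => ?_⟩
  · exact tfun_ext 𝒜 _ _ fun x => rfl
  · exact gfun_ext 𝒜 𝒜 _ _ fun x => rfl

theorem twist_isQuasicoherent (n : ℤ) : (Twist.twist 𝒜 n).IsQuasicoherent := by
  have := isIso_twistToTilde 𝒜 n
  have hq := tilde_isQuasicoherent 𝒜 𝒜 n
  exact isQuasicoherent_of_iso (asIso (twistToTilde 𝒜 n)).symm

end TwistTilde

end Groth.Agent.Lib.Helper29.QCoh
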