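import Mathlib
universe u
open CategoryTheory MonoidalCategory CartesianMonoidalCategory MonObj GrpObj AlgebraicGeometry

/-! # Translating rational points of group schemes into dense opens -/

namespace Groth.Agent.Lib.Helper29.GrpTrans

variable {C : Type*} [Category C] [CartesianMonoidalCategory C]

/-- Inversion as an automorphism. -/
def invIso (A : C) [GrpObj A] : A ≅ A where
  hom := ι
  inv := ι
  hom_inv_id := GrpObj.inv_comp_inv A
  inv_hom_id := GrpObj.inv_comp_inv A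

/-- Left translation by a point. -/
def mulLeft {A : C} [GrpObj A] (h : 𝟙_ C ⟶ A) : A ≅ A :=
  invIso A ≪≫ GrpObj.mulRight h⁻¹ ≪≫ invIso A

theorem comp_mulLeft_hom {A : C} [GrpObj A] (h u : 𝟙_ C ⟶ A) :
    u ≫ (mulLeft h).hom = h * u := by
  have h1 : (GrpObj.mulRight h⁻¹).hom = 𝟙 A * (toUnit A ≫ h⁻¹) := rfl
  have h2 : u⁻¹ ≫ toUnit A = 𝟙 (𝟙_ C) := toUnit_unique _ _
  change u ≫ (ι ≫ (GrpObj.mulRight h⁻¹).hom ≫ ι) = h * u
  rw [← Category.assoc, ← Hom.inv_def, ← Category.assoc, h1, MonObj.comp_mul, Category.comp_id,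
    ← Category.assoc, h2, Category.id_comp, ← Hom.inv_def, _root_.mul_inv_rev, _root_.inv_inv, _root_.inv_inv]

theorem exists_points {k : Type u} [Field k] [IsAlgClosed k]
    (H : Over (Spec (CommRingCat.of k))) [GrpObj H] [LocallyOfFiniteType H.hom]
    (U : H.left.Opens) (hU : Dense (U : Set ↥H.left))
    (h : 𝟙_ (Over (Spec (CommRingCat.of k))) ⟶ H) :
    ∃ u₁ u₂ : 𝟙_ (Over (Spec (CommRingCat.of k))) ⟶ H,
      u₁.left.base (IsLocalRing.closedPoint k) ∈ U ∧ u₂.left.base (IsLocalRing.closedPoint k) ∈ U ∧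
        h = u₂ * u₁⁻¹ := by
  haveI := LocallyOfFiniteType.jacobsonSpace H.hom
  let φ : H.left ≅ H.left := (Over.forget _).mapIso (mulLeft h)
  have hφU : Dense (φ.hom ⁻¹' (U : Set ↥H.left)) :=
    hU.preimage φ.hom.homeomorph.isOpenMap
  have hne : Nonempty ↥H.left := ⟨h.left (IsLocalRing.closedPoint k)⟩
  have hV : ((U : Set ↥H.left) ∩ φ.hom ⁻¹' (U : Set ↥H.left)).Nonempty :=
    (hU.inter_of_isOpen_left hφU U.2).nonempty
  have hVo : IsOpen ((U : Set ↥H.left) ∩ φ.hom ⁻¹' (U : Set ↥H.left)) :=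
    U.2.inter (U.2.preimage φ.hom.continuous)
  obtain ⟨x, ⟨hxU, hxφ⟩, hxc⟩ := nonempty_inter_closedPoints hV hVo.isLocallyClosed
  let p := (pointEquivClosedPoint H.hom).symm ⟨x, hxc⟩
  let u₁ : 𝟙_ (Over (Spec (CommRingCat.of k))) ⟶ H := Over.homMk p.1 p.2
  have hu₁ : u₁.left (IsLocalRing.closedPoint k) = x :=
    congrArg Subtype.val ((pointEquivClosedPoint H.hom).apply_symm_apply ⟨x, hxc⟩)
  refine ⟨u₁, h * u₁, ?_, ?_, (mul_inv_cancel_right h u₁).symm⟩
  · rw [hu₁]; exact hxU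
  · have h3 : (h * u₁).left = u₁.left ≫ φ.hom := by
      rw [← comp_mulLeft_hom h u₁]; rfl
    change (h * u₁).left (IsLocalRing.closedPoint k) ∈ U
    rw [h3, Scheme.Hom.comp_apply, hu₁]
    exact hxφ

end Groth.Agent.Lib.Helper29.GrpTrans
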