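import Groth.Agent.Lib.Helper29.ExtUFD2
import Mathlib
universe u
open CategoryTheory CategoryTheory.Limits AlgebraicGeometry TopologicalSpace Opposite

/-! # Hartogs for invertible modules -/

namespace Groth.Agent.Lib.Helper29.ExtUFD
open Groth.Agent.Lib.Helper29.QCoh Groth.Agent.Lib.Helper29.QCoh.Glue Groth.Agent.Lib.Helper29.PicUFD

variable {X : Scheme.{u}}

theorem res_bijective_of_isInvertible [IsLocallyNoetherian X] (U : X.Opens)
    (hdepth : ∀ x : X, x ∉ U →
      (2 : ℕ∞) ≤ LocCoh.depth (X.presheaf.stalk x) (X.presheaf.stalk x))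
    (L : X.Modules) (hL : PicF.IsInvertible L) (W : X.Opens) :
    Function.Bijective (res L (inf_le_left : W ⊓ U ≤ W)) := by
  have hloc : ∀ (V : X.Opens) (e : Γ(L, V)), IsTriv L V e → ∀ W' : X.Opens, W' ≤ V →
      Function.Bijective (res L (inf_le_left : W' ⊓ U ≤ W')) := by
    intro V e he W' hW'
    have hb1 := Groth.Agent.Lib.Helper10.Hartogs.ring_res_bijective U hdepth W'
    have hb2 := he W' hW'
    have hb3 := he (W' ⊓ U) (inf_le_left.trans hW')
    have hcomm : (res L (inf_le_left : W' ⊓ U ≤ W')) ∘ (fun r : Γ(X, W') => r • res L hW' e) =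
        (fun r : Γ(X, W' ⊓ U) => r • res L (inf_le_left.trans hW') e) ∘
          (X.presheaf.map (homOfLE (inf_le_left : W' ⊓ U ≤ W')).op) := by
      funext r
      simp only [Function.comp_apply]
      rw [res_smul', res_res]
    have hb4 : Function.Bijective ((res L (inf_le_left : W' ⊓ U ≤ W')) ∘
        (fun r : Γ(X, W') => r • res L hW' e)) := by
      rw [hcomm]; exact hb3.comp hb1
    exact (Function.Bijective.of_comp_iff _ hb2).mp hb4
  have key : ∀ x : W, ∃ (V : X.Opens) (e : Γ(L, V)), x.1 ∈ V ∧ IsTriv L V e := fun x =>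
    exists_isTriv hL x.1
  choose V e hxV he using key
  have hcov : W ≤ ⨆ x : W, W ⊓ V x := fun x hx =>
    Opens.mem_iSup.mpr ⟨⟨x, hx⟩, hx, hxV ⟨x, hx⟩⟩
  constructor
  · intro a b hab
    refine eq_of_res_cover_eq L (fun x : W => W ⊓ V x) (fun _ => inf_le_left) hcov a b fun x => ?_
    apply (hloc (V x) (e x) (he x) (W ⊓ V x) inf_le_right).1
    rw [res_res, res_res]
    have := congrArg (res L (inf_le_inf_right U (inf_le_left : W ⊓ V x ≤ W))) hab
    rw [res_res, res_res] at this
    exact this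
  · intro t
    have hs : ∀ x : W, ∃ s : Γ(L, W ⊓ V x), res L (inf_le_left : (W ⊓ V x) ⊓ U ≤ W ⊓ V x) s =
        res L (inf_le_inf_right U (inf_le_left : W ⊓ V x ≤ W)) t := fun x =>
      (hloc (V x) (e x) (he x) (W ⊓ V x) inf_le_right).2 _
    choose s hs using hs
    obtain ⟨σ, hσ⟩ := exists_gluing L (fun x : W => W ⊓ V x) W (fun _ => inf_le_left) hcov s
      (by
        intro x y
        apply (hloc (V x) (e x) (he x) ((W ⊓ V x) ⊓ (W ⊓ V y)) (inf_le_left.trans inf_le_right)).1
        rw [res_res, res_res]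
        have h1 := congrArg (res L (inf_le_inf_right U
          (inf_le_left : (W ⊓ V x) ⊓ (W ⊓ V y) ≤ W ⊓ V x))) (hs x)
        have h2 := congrArg (res L (inf_le_inf_right U
          (inf_le_right : (W ⊓ V x) ⊓ (W ⊓ V y) ≤ W ⊓ V y))) (hs y)
        rw [res_res, res_res] at h1 h2
        exact h1.trans h2.symm)
    refine ⟨σ, ?_⟩
    refine eq_of_res_cover_eq L (fun x : W => (W ⊓ V x) ⊓ U)
      (fun _ => inf_le_inf_right U inf_le_left) ?_ _ _ fun x => ?_
    · intro z hz
      exact Opens.mem_iSup.mpr ⟨⟨z, hz.1⟩, ⟨hz.1, hxV ⟨z, hz.1⟩⟩, hz.2⟩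
    · rw [res_res, ← hs x, ← hσ x, res_res]

/-- Hartogs for invertible modules: sections extend uniquely across a closed subset of depth at
least two, and triviality extends too. -/
theorem isTriv_top_of_isTriv [IsLocallyNoetherian X] (U : X.Opens)
    (hdepth : ∀ x : X, x ∉ U →
      (2 : ℕ∞) ≤ LocCoh.depth (X.presheaf.stalk x) (X.presheaf.stalk x))
    (L : X.Modules) (hL : PicF.IsInvertible L) (e : Γ(L, U)) (he : IsTriv L U e) :
    ∃ e' : Γ(L, ⊤), IsTriv L ⊤ e' := by
  have hle : U ≤ ⊤ ⊓ U := le_inf le_top le_rfl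
  obtain ⟨e', he'⟩ := (res_bijective_of_isInvertible U hdepth L hL ⊤).2 (res L inf_le_right e)
  refine ⟨e', ?_⟩
  intro W' hW'
  have hb1 := Groth.Agent.Lib.Helper10.Hartogs.ring_res_bijective U hdepth W'
  have hb2 := res_bijective_of_isInvertible U hdepth L hL W'
  have hb3 := he (W' ⊓ U) inf_le_right
  have hcomm : (res L (inf_le_left : W' ⊓ U ≤ W')) ∘ (fun r : Γ(X, W') => r • res L hW' e') =
      (fun r : Γ(X, W' ⊓ U) => r • res L inf_le_right e) ∘
        (X.presheaf.map (homOfLE (inf_le_left : W' ⊓ U ≤ W')).op) := by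
    funext r
    simp only [Function.comp_apply]
    rw [res_smul', res_res]
    have h1 := congrArg (res L (inf_le_inf_right U hW' : W' ⊓ U ≤ ⊤ ⊓ U)) he'
    rw [res_res, res_res] at h1
    rw [h1]
  have hb4 : Function.Bijective ((res L (inf_le_left : W' ⊓ U ≤ W')) ∘
      (fun r : Γ(X, W') => r • res L hW' e')) := by
    rw [hcomm]; exact hb3.comp hb1
  exact (Function.Bijective.of_comp_iff' hb2 _).mp hb4

end Groth.Agent.Lib.Helper29.ExtUFD
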