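import Groth.Agent.Lib.Helper29.Dual1
import Groth.Agent.Lib.Helper3.SubShExt
universe u
open CategoryTheory CategoryTheory.Limits AlgebraicGeometry TopologicalSpace Opposite

/-! # Sections of the sheaf Hom from (semi)linear maps on an affine open -/

namespace Groth.Agent.Lib.Helper29.QCoh.HomSec
open Groth.Agent.Lib.Helper29.QCoh Groth.Agent.Lib.Helper29.QCoh.Dual

variable {X : Scheme.{u}} (F G : X.Modules)

/-- Functions on an affine open not vanishing at `y` act invertibly on every stalk at `y`. -/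
theorem isUnit_algebraMap_end_stalk {U : X.Opens} (hU : IsAffineOpen U) (y : X) (hy : y ∈ U)
    (s : (hU.primeIdealOf ⟨y, hy⟩).asIdeal.primeCompl) :
    letI := stalkModule G U y hy
    IsUnit (algebraMap Γ(X, U) (Module.End Γ(X, U) (G.presheaf.stalk y)) s.1) := by
  let _ := stalkModule G U y hy
  have hs : IsUnit (X.presheaf.germ U y hy s.1) := by
    rw [← Scheme.mem_basicOpen _ _ _ hy, mem_basicOpen_iff_notMem_primeIdealOf hU y hy]
    exact s.2
  rw [Module.End.isUnit_iff]
  obtain ⟨u, hu⟩ := hs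
  refine ⟨fun a b hab => ?_, fun b => ⟨(↑u⁻¹ : X.presheaf.stalk y) • b, ?_⟩⟩
  · have hab' : (X.presheaf.germ U y hy s.1) • a = (X.presheaf.germ U y hy s.1) • b := hab
    rw [← hu] at hab'
    have := congrArg (fun z => (↑u⁻¹ : X.presheaf.stalk y) • z) hab'
    simpa only [smul_smul, Units.inv_mul, one_smul] using this
  · change (X.presheaf.germ U y hy s.1) • ((↑u⁻¹ : X.presheaf.stalk y) • b) = b
    rw [← hu, smul_smul, Units.mul_inv, one_smul]

variable {F G}

/-- The stalk map at `y` induced by a semilinear map `Γ(F,U) → Γ(G,V)`, `y ∈ V ≤ U`, `U` affine. -/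
theorem exists_stalkHom_of_semilinear [F.IsQuasicoherent] {U V : X.Opens} (hU : IsAffineOpen U)
    (hVU : V ≤ U) (l : Γ(F, U) →+ Γ(G, V))
    (hl : ∀ (a : Γ(X, U)) (m : Γ(F, U)), l (a • m) = X.presheaf.map (homOfLE hVU).op a • l m)
    (y : X) (hy : y ∈ V) :
    ∃ f : RefHull.StalkHom F G y, ∀ m : Γ(F, U),
      f (F.presheaf.germ U y (hVU hy) m) = G.presheaf.germ V y hy (l m) := by
  have hyU : y ∈ U := hVU hy
  let _ := stalkModule G U y hyU
  let _ := stalkModule F U y hyU
  have hloc := isLocalizedModule_germ F hU y hyU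
  let S := (hU.primeIdealOf ⟨y, hyU⟩).asIdeal.primeCompl
  let ly : Γ(F, U) →ₗ[Γ(X, U)] G.presheaf.stalk y :=
    { toFun := fun m => G.presheaf.germ V y hy (l m)
      map_add' := fun a b => by rw [map_add, map_add]
      map_smul' := fun a m => by
        rw [hl, germ_smul]
        change _ = X.presheaf.germ U y hyU a • G.presheaf.germ V y hy (l m)
        congr 1
        exact X.presheaf.germ_res_apply (homOfLE hVU) y hy a }
  have hunit : ∀ s : S, IsUnit (algebraMap Γ(X, U) (Module.End Γ(X, U) (G.presheaf.stalk y)) s.1) :=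
    fun s => isUnit_algebraMap_end_stalk G hU y hyU s
  let fA : F.presheaf.stalk y →ₗ[Γ(X, U)] G.presheaf.stalk y :=
    IsLocalizedModule.lift S (germₗ F U y hyU) ly hunit
  have hfA : ∀ m, fA (F.presheaf.germ U y hyU m) = G.presheaf.germ V y hy (l m) := fun m =>
    IsLocalizedModule.lift_apply S (germₗ F U y hyU) ly hunit m
  have hsm : ∀ (a : X.presheaf.stalk y) (t : F.presheaf.stalk y), fA (a • t) = a • fA t := by
    intro a t
    let _ : Algebra Γ(X, U) (X.presheaf.stalk y) :=
      TopCat.Presheaf.algebra_section_stalk X.presheaf ⟨y, hyU⟩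
    have := hU.isLocalization_stalk ⟨y, hyU⟩
    obtain ⟨⟨r, s⟩, hrs⟩ := IsLocalization.surj S a
    have hrs' : a * X.presheaf.germ U y hyU s.1 = X.presheaf.germ U y hyU r := hrs
    have hs : IsUnit (X.presheaf.germ U y hyU s.1) := by
      rw [← Scheme.mem_basicOpen _ _ _ hyU, mem_basicOpen_iff_notMem_primeIdealOf hU y hyU]
      exact s.2
    have h1 : X.presheaf.germ U y hyU s.1 • fA (a • t) = X.presheaf.germ U y hyU s.1 • (a • fA t) := by
      have e1 : X.presheaf.germ U y hyU s.1 • fA (a • t) = fA (s.1 • (a • t)) := (fA.map_smul s.1 _).symm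
      have e2 : s.1 • (a • t) = r • t := by
        change X.presheaf.germ U y hyU s.1 • (a • t) = X.presheaf.germ U y hyU r • t
        rw [smul_smul, mul_comm, hrs']
      have e3 : fA (r • t) = X.presheaf.germ U y hyU r • fA t := fA.map_smul r t
      rw [e1, e2, e3, smul_smul, mul_comm, hrs']
    obtain ⟨u, hu⟩ := hs
    rw [← hu] at h1
    have := congrArg (fun z => (↑u⁻¹ : X.presheaf.stalk y) • z) h1
    simpa only [smul_smul, ← mul_assoc, Units.inv_mul, one_mul, one_smul] using this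
  exact ⟨{ toFun := fA, map_add' := fA.map_add, map_smul' := hsm }, hfA⟩

/-- **Sections of the sheaf Hom from semilinear maps**: for `F` quasi-coherent, `U` affine and
`V ≤ U`, a map `Γ(F,U) → Γ(G,V)` semilinear along restriction defines a section of
`𝓗om(F,G)` over `V`. -/
theorem exists_homSh_of_semilinear [F.IsQuasicoherent] {U V : X.Opens} (hU : IsAffineOpen U)
    (hVU : V ≤ U) (l : Γ(F, U) →+ Γ(G, V))
    (hl : ∀ (a : Γ(X, U)) (m : Γ(F, U)), l (a • m) = X.presheaf.map (homOfLE hVU).op a • l m) :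
    ∃ θ : Γ(RefHull.homSh F G, V), ∀ (y : X) (hy : y ∈ V) (m : Γ(F, U)),
      θ.1 ⟨y, hy⟩ (F.presheaf.germ U y (hVU hy) m) = G.presheaf.germ V y hy (l m) := by
  choose f hf using fun y : V => exists_stalkHom_of_semilinear hU hVU l hl y.1 y.2
  have hloc : RefHull.IsLocSect F G f := by
    intro V' i m' z
    have hzV : z.1 ∈ V := i.le z.2
    have hzU : z.1 ∈ U := hVU hzV
    obtain ⟨r, m, hzr, hrm⟩ := exists_smul_germ_eq F hU z.1 hzU (F.presheaf.germ V' z.1 z.2 m')
    have hV'U : V' ≤ U := i.le.trans hVU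
    -- `r|V' • m'` and `m|V'` have the same germ at `z`
    have hg : F.presheaf.germ V' z.1 z.2 (X.presheaf.map (homOfLE hV'U).op r • m') =
        F.presheaf.germ V' z.1 z.2 (res F hV'U m) := by
      rw [germ_smul, germ_res, ← hrm]
      congr 1
      exact X.presheaf.germ_res_apply (homOfLE hV'U) z.1 z.2 r
    obtain ⟨W₀, hzW₀, i₁, i₂, e⟩ := F.presheaf.germ_eq z.1 z.2 z.2 _ _ hg
    let W : X.Opens := W₀ ⊓ X.basicOpen r
    have hWV' : W ≤ V' := inf_le_left.trans i₁.le
    have hWU : W ≤ U := hWV'.trans hV'U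
    have hWV : W ≤ V := hWV'.trans i.le
    have hu : IsUnit (X.presheaf.map (homOfLE hWU).op r) :=
      Groth.Agent.Lib.Helper3.SubSh.isUnit_res_of_le_basicOpen r hWU inf_le_right
    obtain ⟨u, hu'⟩ := hu
    refine ⟨W, ⟨hzW₀, hzr⟩, homOfLE hWV', (↑u⁻¹ : Γ(X, W)) • res G hWV (l m), fun y => ?_⟩
    have hyV' : y.1 ∈ V' := hWV' y.2
    have hyV : y.1 ∈ V := hWV y.2
    have hyU : y.1 ∈ U := hWU y.2
    -- on `W`, `r • m' = m`
    have e' : res F hWV' (X.presheaf.map (homOfLE hV'U).op r • m') = res F hWU m := by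
      have e0 : res F i₁.le (X.presheaf.map (homOfLE hV'U).op r • m') =
          res F i₂.le (res F hV'U m) := e
      have := congrArg (res F (inf_le_left : W ≤ W₀)) e0
      rw [res_res, res_res, res_res] at this
      exact this
    have h1 : X.presheaf.germ U y.1 hyU r • F.presheaf.germ V' y.1 hyV' m' =
        F.presheaf.germ U y.1 hyU m := by
      have := congrArg (F.presheaf.germ W y.1 y.2) e'
      rw [germ_res, germ_res, germ_smul] at this
      rw [← this]
      congr 1
      exact (X.presheaf.germ_res_apply (homOfLE hV'U) y.1 hyV' r).symm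
    have h2 : X.presheaf.germ U y.1 hyU r • f ⟨y.1, hyV⟩ (F.presheaf.germ V' y.1 hyV' m') =
        G.presheaf.germ V y.1 hyV (l m) := by
      rw [← map_smul, h1, hf ⟨y.1, hyV⟩ m]
    have h3 : X.presheaf.germ W y.1 y.2 (↑u : Γ(X, W)) = X.presheaf.germ U y.1 hyU r := by
      rw [hu']
      exact X.presheaf.germ_res_apply (homOfLE hWU) y.1 y.2 r
    change f ⟨y.1, hyV⟩ (F.presheaf.germ V' y.1 hyV' m') = _
    rw [germ_smul, germ_res, ← h2, ← h3, smul_smul, ← map_mul, Units.inv_mul, map_one, one_smul]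
  exact ⟨⟨f, hloc⟩, fun y hy m => hf ⟨y, hy⟩ m⟩

end Groth.Agent.Lib.Helper29.QCoh.HomSec
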