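import Groth.Agent.Lib.Helper29.HypAlg
import Groth.Agent.Lib.Helper29.ProjIdealPull
import Groth.Agent.Lib.Helper29.ZeroSch2
import Groth.Agent.Lib.Helper29.TwistPn2
import Groth.Agent.Lib.Helper29.ToProj4
import Groth.Agent.S3563
set_option autoImplicit false
universe u
open CategoryTheory CategoryTheory.Limits AlgebraicGeometry TopologicalSpace Opposite DirectSum

namespace Groth.Agent.Lib.Helper29.Hyp
open Groth.Agent.Lib.Helper29.QCoh Groth.Agent.Lib.Helper29.ZeroSch

section General
variable {R A B : Type u} [CommRing R] [CommRing A] [Algebra R A] (𝒜 : ℕ → Submodule R A)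
  [GradedAlgebra 𝒜] [CommRing B] [Algebra R B] (ℬ : ℕ → Submodule R B) [GradedAlgebra ℬ]

theorem irrelevant_le_map_of_surjective (φ : 𝒜 →+*ᵍ ℬ) (hs : Function.Surjective φ) :
    HomogeneousIdeal.irrelevant ℬ ≤ (HomogeneousIdeal.irrelevant 𝒜).map φ := by
  rw [HomogeneousIdeal.irrelevant_le]
  intro i hi b hb
  obtain ⟨a, rfl⟩ := hs b
  have h1 : φ (decompose 𝒜 a i : A) = φ a := by
    rw [GradedRingHom.map_directSumDecompose, DirectSum.decompose_of_mem_same ℬ hb]
  rw [← h1]
  exact Ideal.mem_map_of_mem _ (HomogeneousIdeal.mem_irrelevant_of_mem 𝒜 hi (SetLike.coe_mem _))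

end General

section Pn
variable {k : Type u} [Field k] (n : ℕ)

/-- The coordinate functions indexed in universe `u`. -/
noncomputable def fX : ULift.{u} (Fin (n + 2)) → CohB1.polyGrading (n + 1) k 1 :=
  fun i => Xi (n + 1) k i.down

theorem fX_cov (x : Proj (CohB1.polyGrading (n + 1) k)) :
    ∃ i, x ∈ Dp (CohB1.polyGrading (n + 1) k) (fX n) i := by
  obtain ⟨i, hi⟩ := exists_mem_basicOpen_X (n + 1) k x
  exact ⟨⟨i⟩, hi⟩

variable (c : Fin (n + 2) → k) (i0 : Fin (n + 2))

/-- The elimination map as a graded ring homomorphism. -/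
noncomputable def psiG : CohB1.polyGrading (n + 1) k →+*ᵍ CohB1.polyGrading n k where
  toRingHom := (psi n c i0).toRingHom
  map_mem := fun hx => psi_isHomogeneous n c i0 hx

theorem psiG_apply (a : MvPolynomial (Fin (n + 2)) k) : psiG n c i0 a = psi n c i0 a := rfl

theorem psiG_surjective : Function.Surjective (psiG n c i0) := psi_surjective n c i0

theorem psiG_irrelevant : HomogeneousIdeal.irrelevant (CohB1.polyGrading n k) ≤
    (HomogeneousIdeal.irrelevant (CohB1.polyGrading (n + 1) k)).map (psiG n c i0) :=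
  irrelevant_le_map_of_surjective _ _ _ (psiG_surjective n c i0)

instance : IsClosedImmersion (Proj.map (psiG n c i0) (psiG_irrelevant n c i0)) :=
  Groth.Agent.S3563.result _ _ _ (psiG_surjective n c i0) _

/-- The ideal of the zero scheme of the section `l / 1` of `O(1)` on the standard charts. -/
theorem zeroScheme_ideal_Dp
    (s : unitM (Proj (CohB1.polyGrading (n + 1) k)) ⟶
      Twist.twist (CohB1.polyGrading (n + 1) k) ((1 : ℕ) : ℤ))
    (l : CohB1.polyGrading (n + 1) k 1)
    (hs : sval s ⊤ = gOf (CohB1.polyGrading (n + 1) k) l) (i : ULift.{u} (Fin (n + 2))) :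
    (PicF2.zeroScheme _ s).ideal (affDp (CohB1.polyGrading (n + 1) k) (fX n) i) =
      Ideal.span {frac (CohB1.polyGrading (n + 1) k) (fX n) i
        (Dp (CohB1.polyGrading (n + 1) k) (fX n) i) le_rfl l} := by
  have hL : PicF.IsInvertible (Twist.twist (CohB1.polyGrading (n + 1) k) ((1 : ℕ) : ℤ)) :=
    isInvertible_twist_projSpace (n + 1) k _
  have he : IsTriv (Twist.twist (CohB1.polyGrading (n + 1) k) ((1 : ℕ) : ℤ))
      (Dp (CohB1.polyGrading (n + 1) k) (fX n) i)
      (eSec ((1 : ℕ) : ℤ) (fX n i) 1 0 (by simp) (Dp (CohB1.polyGrading (n + 1) k) (fX n) i)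
        le_rfl) := isTriv_eSec _ _ _ _ _ _ _
  have ha : sval s (Dp (CohB1.polyGrading (n + 1) k) (fX n) i) =
      frac (CohB1.polyGrading (n + 1) k) (fX n) i
        (Dp (CohB1.polyGrading (n + 1) k) (fX n) i) le_rfl l •
      eSec ((1 : ℕ) : ℤ) (fX n i) 1 0 (by simp) (Dp (CohB1.polyGrading (n + 1) k) (fX n) i)
        le_rfl := by
    rw [← res_sval s (le_top : Dp (CohB1.polyGrading (n + 1) k) (fX n) i ≤ ⊤), hs]
    exact res_gOf_eq_frac_smul (CohB1.polyGrading (n + 1) k) (fX n) i l
  exact zeroScheme_ideal_of_isTriv hL s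
    (affDp (CohB1.polyGrading (n + 1) k) (fX n) i).2 he _ ha

theorem ker_map_eq_zeroScheme
    (s : unitM (Proj (CohB1.polyGrading (n + 1) k)) ⟶
      Twist.twist (CohB1.polyGrading (n + 1) k) ((1 : ℕ) : ℤ))
    (l : CohB1.polyGrading (n + 1) k 1)
    (hs : sval s ⊤ = gOf (CohB1.polyGrading (n + 1) k) l)
    (hl : l.1 = lin n c) (hc : c i0 ≠ 0) :
    (Proj.map (psiG n c i0) (psiG_irrelevant n c i0)).ker = PicF2.zeroScheme _ s := by
  apply ker_map_eq_of_ker_eq (CohB1.polyGrading (n + 1) k) (fX n) (PicF2.zeroScheme _ s)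
    (CohB1.polyGrading n k) (psiG n c i0) (psiG_irrelevant n c i0) (fX_cov n)
  intro a
  constructor
  · intro h
    have h1 : a ∈ Ideal.span {lin n c} := mem_span_of_psi_eq_zero n c i0 hc a h
    have h2 : l.1 ∈ projIdeal (CohB1.polyGrading (n + 1) k) (fX n) (PicF2.zeroScheme _ s) := by
      rw [coe_mem_projIdeal_iff]
      intro i
      rw [zeroScheme_ideal_Dp n s l hs i]
      exact Ideal.subset_span rfl
    rw [← hl] at h1
    exact (Ideal.span_le.mpr (Set.singleton_subset_iff.mpr h2)) h1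
  · intro h
    rw [mem_projIdeal] at h
    rw [gradedHom_eq_zero_iff]
    intro d
    -- use the chart of a coordinate which maps to a nonzero element
    set j : ULift.{u} (Fin (n + 2)) := ⟨i0.succAbove 0⟩ with hj
    have h1 := h d j
    rw [zeroScheme_ideal_Dp n s l hs j] at h1
    obtain ⟨r, hr⟩ := Ideal.mem_span_singleton'.mp h1
    have h2 : (Proj.map (psiG n c i0) (psiG_irrelevant n c i0)).app
        (Dp (CohB1.polyGrading (n + 1) k) (fX n) j)
        (frac (CohB1.polyGrading (n + 1) k) (fX n) j _ le_rfl l) = 0 := by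
      rw [app_map_frac_eq_zero_iff]
      refine ⟨0, ?_⟩
      rw [pow_zero, one_mul, psiG_apply, hl]
      exact psi_lin n c i0 hc
    have h3 : (Proj.map (psiG n c i0) (psiG_irrelevant n c i0)).app
        (Dp (CohB1.polyGrading (n + 1) k) (fX n) j)
        (frac (CohB1.polyGrading (n + 1) k) (fX n) j _ le_rfl
          (decompose (CohB1.polyGrading (n + 1) k) a d)) = 0 := by
      rw [← hr, map_mul, h2, mul_zero]
    rw [app_map_frac_eq_zero_iff] at h3
    obtain ⟨m, hm⟩ := h3
    rw [map_mul, map_pow] at hm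
    have hX : psiG n c i0 (fX n j).1 = MvPolynomial.X 0 := psi_X_succAbove n c i0 0
    rw [hX] at hm
    exact (mul_eq_zero.mp hm).resolve_left (pow_ne_zero _ (MvPolynomial.X_ne_zero _))

end Pn

end Groth.Agent.Lib.Helper29.Hyp
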