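import Groth.Agent.Lib.Helper29.Hyp1
set_option autoImplicit false
universe u
open CategoryTheory CategoryTheory.Limits AlgebraicGeometry TopologicalSpace Opposite DirectSum

namespace Groth.Agent.Lib.Helper29.Hyp
open Groth.Agent.Lib.Helper29.QCoh Groth.Agent.Lib.Helper29.ZeroSch

section Iso

theorem exists_iso_subscheme_of_ker_eq {Y X : Scheme.{u}} (f : Y ⟶ X) [IsClosedImmersion f]
    (K : X.IdealSheafData) (h : f.ker = K) :
    ∃ φ : Y ≅ K.subscheme, φ.hom ≫ K.subschemeι = f := by
  subst h
  exact ⟨asIso f.toImage, f.toImage_imageι⟩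

end Iso

section Dehom
variable (n : ℕ) (R : Type u) [CommRing R]
open HomogeneousLocalization MvPolynomial

/-- The dehomogenisation homomorphism `R[X_0..X_n] → R[X]_(g)` for `g` of degree one. -/
noncomputable def dehomG (g : CohB1.polyGrading n R 1) :
    MvPolynomial (Fin (n + 1)) R →+* Away (CohB1.polyGrading n R) g.1 :=
  eval₂Hom ((fromZeroRingHom (CohB1.polyGrading n R) _).comp
    (algebraMap R (CohB1.polyGrading n R 0)))
    (fun l => Away.mk (CohB1.polyGrading n R) g.2 1 (X l)
      (by rw [one_smul]; exact isHomogeneous_X R l))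

theorem dehomG_eq_mk (g : CohB1.polyGrading n R 1) (k : ℕ) (a : MvPolynomial (Fin (n + 1)) R)
    (ha : a ∈ CohB1.polyGrading n R (k • 1)) :
    dehomG n R g a = Away.mk (CohB1.polyGrading n R) g.2 k a ha := by
  apply HomogeneousLocalization.val_injective
  rw [Away.val_mk]
  set u : Localization.Away (g.1 : MvPolynomial (Fin (n + 1)) R) :=
    Localization.mk 1 ⟨g.1, Submonoid.mem_powers _⟩ with hu
  have h1 : (dehomG n R g a).val =
      ((algebraMap (Away (CohB1.polyGrading n R) g.1) (Localization.Away g.1)).comp
        (dehomG n R g)) a := rfl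
  have h2 : (algebraMap (Away (CohB1.polyGrading n R) g.1) (Localization.Away g.1)).comp
      (dehomG n R g) =
      eval₂Hom ((algebraMap (MvPolynomial (Fin (n + 1)) R) (Localization.Away g.1)).comp C)
        (fun l => u * algebraMap (MvPolynomial (Fin (n + 1)) R) (Localization.Away g.1) (X l)) := by
    unfold dehomG
    rw [comp_eval₂Hom]
    have hc : (algebraMap (Away (CohB1.polyGrading n R) (g.1 : MvPolynomial (Fin (n + 1)) R))
          (Localization.Away (g.1 : MvPolynomial (Fin (n + 1)) R))).comp
        ((fromZeroRingHom (CohB1.polyGrading n R)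
          (Submonoid.powers (g.1 : MvPolynomial (Fin (n + 1)) R))).comp
          (algebraMap R (CohB1.polyGrading n R 0))) =
        (algebraMap (MvPolynomial (Fin (n + 1)) R) (Localization.Away g.1)).comp C := by
      ext r
      change (fromZeroRingHom (CohB1.polyGrading n R)
        (Submonoid.powers (g.1 : MvPolynomial (Fin (n + 1)) R))
        (algebraMap R (CohB1.polyGrading n R 0) r)).val = _
      change Localization.mk (C r) 1 = _
      rw [Localization.mk_one_eq_algebraMap]
      rfl
    have hy : (fun l => (algebraMap (Away (CohB1.polyGrading n R)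
        (g.1 : MvPolynomial (Fin (n + 1)) R))
        (Localization.Away (g.1 : MvPolynomial (Fin (n + 1)) R)))
          (Away.mk (CohB1.polyGrading n R) g.2 1 (X l)
            (by rw [one_smul]; exact isHomogeneous_X R l))) =
        (fun l => u * algebraMap (MvPolynomial (Fin (n + 1)) R) (Localization.Away g.1) (X l)) := by
      funext l
      change (Away.mk (CohB1.polyGrading n R) g.2 1 (X l) _).val = _
      rw [Away.val_mk, hu, ← Localization.mk_one_eq_algebraMap, Localization.mk_mul]
      apply mk_eq_mk_of_mul_eq
      simp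
    rw [hc, hy]
  have h3 : eval₂Hom ((algebraMap (MvPolynomial (Fin (n + 1)) R)
        (Localization.Away (g.1 : MvPolynomial (Fin (n + 1)) R))).comp C)
      (fun l => algebraMap (MvPolynomial (Fin (n + 1)) R)
        (Localization.Away (g.1 : MvPolynomial (Fin (n + 1)) R)) (X l)) =
      algebraMap (MvPolynomial (Fin (n + 1)) R)
        (Localization.Away (g.1 : MvPolynomial (Fin (n + 1)) R)) := by
    apply MvPolynomial.ringHom_ext
    · intro r
      rw [coe_eval₂Hom, eval₂_C]
      rfl
    · intro l
      rw [coe_eval₂Hom, eval₂_X]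
  have ha' : a.IsHomogeneous k := by
    have : a ∈ CohB1.polyGrading n R k := by rwa [smul_eq_mul, mul_one] at ha
    exact this
  rw [h1, h2, eval₂Hom_mul_of_isHomogeneous _ _ u ha', h3, hu, Localization.mk_pow,
    ← Localization.mk_one_eq_algebraMap, Localization.mk_mul]
  apply mk_eq_mk_of_mul_eq
  simp

end Dehom

end Groth.Agent.Lib.Helper29.Hyp
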