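import Groth.Agent.Lib.Helper29.ToProj
import Groth.Agent.Lib.Helper29.PullSect
universe u
open CategoryTheory CategoryTheory.Limits AlgebraicGeometry Opposite TopologicalSpace DirectSum

/-! # Pulling back `O(1)` along a glued morphism to `Proj` -/

namespace Groth.Agent.Lib.Helper29.QCoh

section ToProj2
variable {R A : Type u} [CommRing R] [CommRing A] [Algebra R A] (𝒜 : ℕ → Submodule R A) [GradedAlgebra 𝒜]
variable {X : Scheme.{u}}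
open HomogeneousLocalization

theorem le_preimage_of_ι_comp_eq {V : X.Opens} (r : X ⟶ Proj 𝒜) (φ : A →+* Γ(X, V)) {f : A}
    {d : ℕ} (hf : f ∈ 𝒜 d) (hd : 0 < d) (hu : IsUnit (φ f))
    (hr : V.ι ≫ r = chartHom 𝒜 V φ hf hd hu) :
    V ≤ r ⁻¹ᵁ Proj.basicOpen 𝒜 f := by
  have h := chartHom_preimage 𝒜 V φ hf hd hu
  rw [← hr, Scheme.Hom.comp_preimage] at h
  intro x hx
  have : (⟨x, hx⟩ : V) ∈ V.ι ⁻¹ᵁ (r ⁻¹ᵁ Proj.basicOpen 𝒜 f) := by rw [h]; trivial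
  exact this

/-- The action on functions over `D_+(f)` of a morphism to `Proj` which restricts to `chartHom`
on `V`. -/
theorem awayToSection_app_res {V : X.Opens} (r : X ⟶ Proj 𝒜) (φ : A →+* Γ(X, V)) {f : A}
    {d : ℕ} (hf : f ∈ 𝒜 d) (hd : 0 < d) (hu : IsUnit (φ f))
    (hr : V.ι ≫ r = chartHom 𝒜 V φ hf hd hu) :
    Proj.awayToSection 𝒜 f ≫ r.app (Proj.basicOpen 𝒜 f) ≫
      X.presheaf.map (homOfLE (le_preimage_of_ι_comp_eq 𝒜 r φ hf hd hu hr)).op =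
      CommRingCat.ofHom (awayLift 𝒜 φ f hu) := by
  have h1 := awayToSection_chartHom_appLE 𝒜 V φ hf hd hu
  rw [appLE_congr_hom hr.symm, Scheme.Hom.comp_appLE, Scheme.Opens.ι_appLE] at h1
  have h2 := congrArg (fun k => k ≫ V.topIso.hom) h1
  simp only [Category.assoc, Iso.inv_hom_id, Category.comp_id] at h2
  rw [← h2]
  congr 2
  rw [Scheme.Opens.topIso]
  change _ = X.presheaf.map _ ≫ X.presheaf.map _
  rw [← Functor.map_comp]
  rfl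

end ToProj2

section PullTwist
variable {R A : Type u} [CommRing R] [CommRing A] [Algebra R A] (𝒜 : ℕ → Submodule R A) [GradedAlgebra 𝒜]
variable {X : Scheme.{u}}
open HomogeneousLocalization

/-- The section `a / 1` of `O(1)` over an open `U`, for `a` of degree one. -/
def oneSecOn (a : 𝒜 1) (U : (Proj 𝒜).Opens) : Γ(Twist.twist 𝒜 1, U) :=
  mkSec 𝒜 1 U a (⟨1, SetLike.GradedOne.one_mem⟩ : 𝒜 0) (fun x => one_not_mem x.1) (by simp)

theorem tfun_oneSecOn (a : 𝒜 1) (U : (Proj 𝒜).Opens) (x : U) :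
    tfun 𝒜 (oneSecOn 𝒜 a U) x = Localization.mk a.1 ⟨1, one_not_mem x.1⟩ := rfl

theorem res_oneSecOn (a : 𝒜 1) {U V : (Proj 𝒜).Opens} (h : V ≤ U) :
    QCoh.res (Twist.twist 𝒜 1) h (oneSecOn 𝒜 a U) = oneSecOn 𝒜 a V := rfl

theorem isTriv_oneSecOn (a : 𝒜 1) (U : (Proj 𝒜).Opens) (hU : U ≤ Proj.basicOpen 𝒜 a.1) :
    IsTriv (Twist.twist 𝒜 1) U (oneSecOn 𝒜 a U) :=
  isTriv_mkSec 𝒜 1 U _ _ (fun x => hU x.2) _ _

/-- `a / 1 = (a / f) • (f / 1)` over `D_+(f)`. -/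
theorem oneSecOn_eq_smul (a f : 𝒜 1) :
    oneSecOn 𝒜 a (Proj.basicOpen 𝒜 f.1) =
      (Proj.awayToSection 𝒜 f.1).hom (Away.mk 𝒜 f.2 1 a.1 (by rw [one_smul]; exact a.2)) •
        oneSecOn 𝒜 f (Proj.basicOpen 𝒜 f.1) := by
  apply tfun_ext
  intro x
  rw [tfun_smul, tfun_oneSecOn, tfun_oneSecOn]
  have : ofun 𝒜 ((Proj.awayToSection 𝒜 f.1).hom
      (Away.mk 𝒜 f.2 1 a.1 (by rw [one_smul]; exact a.2))) x =
      Localization.mk a.1 ⟨f.1 ^ 1, pow_not_mem_of_not_mem x.2 1⟩ := rfl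
  rw [this, Localization.mk_mul]
  apply mk_eq_mk_of_mul_eq
  simp only [Submonoid.coe_mul]
  ring

/-- Key computation: the pulled-back section `r^*(a/1)` of `r^* O(1)`, on an open `V` on which
`r` is given by the chart homomorphism `φ` (with `φ f = 1`), is `φ a` times `r^*(f/1)`. -/
theorem res_pullSect_oneSecOn {V : X.Opens} (r : X ⟶ Proj 𝒜) (φ : A →+* Γ(X, V)) (f : 𝒜 1)
    (h1 : φ f.1 = 1)
    (hr : V.ι ≫ r = chartHom 𝒜 V φ f.2 one_pos (by rw [h1]; exact isUnit_one)) (a : 𝒜 1) :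
    QCoh.res ((Scheme.Modules.pullback r).obj (Twist.twist 𝒜 1)) (le_top : V ≤ r ⁻¹ᵁ ⊤)
        (pullSect r (Twist.twist 𝒜 1) ⊤ (oneSecOn 𝒜 a ⊤)) =
      φ a.1 • QCoh.res ((Scheme.Modules.pullback r).obj (Twist.twist 𝒜 1))
        (le_preimage_of_ι_comp_eq 𝒜 r φ f.2 one_pos (by rw [h1]; exact isUnit_one) hr)
        (pullSect r (Twist.twist 𝒜 1) (Proj.basicOpen 𝒜 f.1)
          (oneSecOn 𝒜 f (Proj.basicOpen 𝒜 f.1))) := by
  have hV := le_preimage_of_ι_comp_eq 𝒜 r φ f.2 one_pos (by rw [h1]; exact isUnit_one) hr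
  have e1 : QCoh.res ((Scheme.Modules.pullback r).obj (Twist.twist 𝒜 1)) (le_top : V ≤ r ⁻¹ᵁ ⊤)
        (pullSect r (Twist.twist 𝒜 1) ⊤ (oneSecOn 𝒜 a ⊤)) =
      QCoh.res _ hV (pullSect r (Twist.twist 𝒜 1) (Proj.basicOpen 𝒜 f.1)
        (oneSecOn 𝒜 a (Proj.basicOpen 𝒜 f.1))) := by
    rw [← res_oneSecOn 𝒜 a (le_top : Proj.basicOpen 𝒜 f.1 ≤ ⊤), pullSect_res, res_res]
    rfl
  rw [e1, oneSecOn_eq_smul 𝒜 a f, pullSect_smul, res_smul]
  congr 1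
  have h2 := awayToSection_app_res 𝒜 r φ f.2 one_pos (by rw [h1]; exact isUnit_one) hr
  have h3 := congrArg (fun k => k.hom (Away.mk 𝒜 f.2 1 a.1 (by rw [one_smul]; exact a.2))) h2
  simp only [CommRingCat.hom_comp, RingHom.coe_comp, Function.comp_apply,
    CommRingCat.hom_ofHom] at h3
  refine h3.trans ?_
  have h4 := awayLift_mk 𝒜 φ f.1 (by rw [h1]; exact isUnit_one) f.2 1 a.1
    (by rw [one_smul]; exact a.2)
  have h5 : φ f.1 ^ 1 = 1 := by rw [h1, one_pow]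
  rw [h5, mul_one] at h4
  exact h4

/-- **Pullback of `O(1)` along a glued morphism to `Proj`**: it is the module with the same
transition functions. -/
theorem exists_iso_pullback_twist_one (r : X ⟶ Proj 𝒜) {I : Type*} (V : I → X.Opens)
    (hV : ∀ x : X, ∃ i, x ∈ V i) (f : I → 𝒜 1) (φ : ∀ i, A →+* Γ(X, V i))
    (h1 : ∀ i, φ i (f i).1 = 1)
    (hr : ∀ i, (V i).ι ≫ r =
      chartHom 𝒜 (V i) (φ i) (f i).2 one_pos (by rw [h1]; exact isUnit_one))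
    (L : X.Modules) (e : ∀ i, Γ(L, V i)) (he : ∀ i, IsTriv L (V i) (e i))
    (hc : ∀ i j, QCoh.res L (inf_le_left : V i ⊓ V j ≤ V i) (e i) =
      rres X (inf_le_right : V i ⊓ V j ≤ V j) (φ j (f i).1) •
        QCoh.res L (inf_le_right : V i ⊓ V j ≤ V j) (e j)) :
    ∃ τ : (Scheme.Modules.pullback r).obj (Twist.twist 𝒜 1) ≅ L, ∀ (a : 𝒜 1) (j : I),
      QCoh.res L (le_top : V j ≤ ⊤)
        (τ.hom.app ⊤ (pullSect r (Twist.twist 𝒜 1) ⊤ (oneSecOn 𝒜 a ⊤))) = φ j a.1 • e j := by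
  set P := (Scheme.Modules.pullback r).obj (Twist.twist 𝒜 1) with hP
  have hle : ∀ i, V i ≤ r ⁻¹ᵁ Proj.basicOpen 𝒜 (f i).1 := fun i =>
    le_preimage_of_ι_comp_eq 𝒜 r (φ i) (f i).2 one_pos (by rw [h1]; exact isUnit_one) (hr i)
  -- the local generators of the pullback
  let m : ∀ i, Γ(P, V i) := fun i => QCoh.res P (hle i)
    (pullSect r (Twist.twist 𝒜 1) (Proj.basicOpen 𝒜 (f i).1)
      (oneSecOn 𝒜 (f i) (Proj.basicOpen 𝒜 (f i).1)))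
  have hm : ∀ i, IsTriv P (V i) (m i) := fun i =>
    ((isTriv_oneSecOn 𝒜 (f i) _ le_rfl).pullSect r).restrict (hle i)
  have hkey : ∀ (a : 𝒜 1) (j : I), QCoh.res P (le_top : V j ≤ r ⁻¹ᵁ ⊤)
      (pullSect r (Twist.twist 𝒜 1) ⊤ (oneSecOn 𝒜 a ⊤)) = φ j a.1 • m j := fun a j =>
    res_pullSect_oneSecOn 𝒜 r (φ j) (f j) (h1 j) (hr j) a
  have hmi : ∀ i, m i = QCoh.res P (le_top : V i ≤ r ⁻¹ᵁ ⊤)
      (pullSect r (Twist.twist 𝒜 1) ⊤ (oneSecOn 𝒜 (f i) ⊤)) := by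
    intro i
    rw [hkey (f i) i, h1, one_smul]
  have hcm : ∀ i j, QCoh.res P (inf_le_left : V i ⊓ V j ≤ V i) (m i) =
      rres X (inf_le_right : V i ⊓ V j ≤ V j) (φ j (f i).1) •
        QCoh.res P (inf_le_right : V i ⊓ V j ≤ V j) (m j) := by
    intro i j
    rw [hmi i, res_res]
    have h2 : QCoh.res P ((inf_le_left : V i ⊓ V j ≤ V i).trans (le_top : V i ≤ r ⁻¹ᵁ ⊤))
        (pullSect r (Twist.twist 𝒜 1) ⊤ (oneSecOn 𝒜 (f i) ⊤)) =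
        QCoh.res P (inf_le_right : V i ⊓ V j ≤ V j) (QCoh.res P (le_top : V j ≤ r ⁻¹ᵁ ⊤)
          (pullSect r (Twist.twist 𝒜 1) ⊤ (oneSecOn 𝒜 (f i) ⊤))) := by
      rw [res_res]
    rw [h2, hkey (f i) j, res_smul]
  obtain ⟨τ, hτ⟩ := exists_iso_of_cocycle (U := V) (m := m) (n := e) hV hm he
    (fun i j => ⟨_, hcm i j, hc i j⟩)
  refine ⟨τ, fun a j => ?_⟩
  have h2 := app_res τ.hom (le_top : V j ≤ ⊤)
    (pullSect r (Twist.twist 𝒜 1) ⊤ (oneSecOn 𝒜 a ⊤))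
  rw [← h2]
  have h3 : QCoh.res P (le_top : V j ≤ ⊤) (pullSect r (Twist.twist 𝒜 1) ⊤ (oneSecOn 𝒜 a ⊤)) =
      φ j a.1 • m j := hkey a j
  rw [h3, Scheme.Modules.Hom.app_smul, hτ]

end PullTwist

end Groth.Agent.Lib.Helper29.QCoh
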