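import Groth.Agent.Lib.Helper29.Hyp2
import Groth.Agent.Lib.Helper29.ToProj2
set_option autoImplicit false
universe u
open CategoryTheory CategoryTheory.Limits AlgebraicGeometry TopologicalSpace Opposite DirectSum

namespace Groth.Agent.Lib.Helper29.Hyp
open Groth.Agent.Lib.Helper29.QCoh Groth.Agent.Lib.Helper29.ZeroSch
open HomogeneousLocalization

section PullMap
variable {R : Type u} [CommRing R] {N n : ℕ}
  (ψ : CohB1.polyGrading N R →+*ᵍ CohB1.polyGrading n R)
  (hφ : HomogeneousIdeal.irrelevant (CohB1.polyGrading n R) ≤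
    (HomogeneousIdeal.irrelevant (CohB1.polyGrading N R)).map ψ)

/-- The image of a degree-one element. -/
noncomputable abbrev gOfF (s : CohB1.polyGrading N R 1) : CohB1.polyGrading n R 1 := ⟨ψ s.1, ψ.map_mem s.2⟩

/-- The chart homomorphism of `Proj.map ψ` on `D_+(ψ s)`. -/
noncomputable def phiOf (s : CohB1.polyGrading N R 1) :
    MvPolynomial (Fin (N + 1)) R →+*
      Γ(Proj (CohB1.polyGrading n R), Proj.basicOpen (CohB1.polyGrading n R) (ψ s.1)) :=
  (Proj.awayToSection (CohB1.polyGrading n R) (ψ s.1)).hom.comp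
    ((dehomG n R (gOfF ψ s)).comp ψ.toRingHom)

theorem phiOf_apply_of_mem (s : CohB1.polyGrading N R 1) (k : ℕ)
    (a : MvPolynomial (Fin (N + 1)) R) (ha : a ∈ CohB1.polyGrading N R (k • 1)) :
    phiOf ψ s a = (Proj.awayToSection (CohB1.polyGrading n R) (ψ s.1)).hom
      (Away.mk (CohB1.polyGrading n R) (gOfF ψ s).2 k (ψ a) (ψ.map_mem ha)) := by
  change (Proj.awayToSection (CohB1.polyGrading n R) (ψ s.1)).hom
    (dehomG n R (gOfF ψ s) (ψ a)) = _
  exact congrArg (Proj.awayToSection (CohB1.polyGrading n R) (ψ s.1)).hom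
    (dehomG_eq_mk n R (gOfF ψ s) k (ψ a) (ψ.map_mem ha))

theorem phiOf_self (s : CohB1.polyGrading N R 1) : phiOf ψ s s.1 = 1 := by
  rw [phiOf_apply_of_mem ψ s 1 s.1 (by rw [one_smul]; exact s.2)]
  have : Away.mk (CohB1.polyGrading n R) (gOfF ψ s).2 1 (ψ s.1)
      (ψ.map_mem (by rw [one_smul]; exact s.2)) = 1 := by
    apply HomogeneousLocalization.val_injective
    rw [Away.val_mk, HomogeneousLocalization.val_one]
    apply (mk_eq_mk_of_mul_eq _ _ _ _ _).trans (Localization.mk_self (1 : Submonoid.powers (ψ s.1)))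
    simp
  rw [this, map_one]

theorem ι_comp_map_eq_chartHom (s : CohB1.polyGrading N R 1) :
    (Proj.basicOpen (CohB1.polyGrading n R) (ψ s.1)).ι ≫ Proj.map ψ hφ =
      chartHom (CohB1.polyGrading N R) (Proj.basicOpen (CohB1.polyGrading n R) (ψ s.1))
        (phiOf ψ s) s.2 one_pos (by rw [phiOf_self]; exact isUnit_one) := by
  have hu : IsUnit (phiOf ψ s s.1) := by rw [phiOf_self]; exact isUnit_one
  have h1 := Proj.awayι_comp_map ψ hφ one_pos s.1 s.2
  unfold Proj.awayι at h1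
  rw [Category.assoc, Iso.inv_comp_eq, Proj.basicOpenIsoSpec_hom] at h1
  rw [h1]
  unfold chartHom Proj.basicOpenToSpec
  rw [Category.assoc, ← Spec.map_comp_assoc]
  congr 3
  ext x
  obtain ⟨k, a, ha, rfl⟩ := Away.mk_surjective (CohB1.polyGrading N R) s.2 x
  change (Proj.awayToSection (CohB1.polyGrading n R) (ψ s.1)).hom
      (Away.map ψ s.1 (Away.mk (CohB1.polyGrading N R) s.2 k a ha)) =
    awayLift (CohB1.polyGrading N R) (phiOf ψ s) s.1 hu (Away.mk (CohB1.polyGrading N R) s.2 k a ha)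
  have h2 := awayLift_mk (CohB1.polyGrading N R) (phiOf ψ s) s.1 hu s.2 k a ha
  rw [phiOf_self, one_pow, mul_one] at h2
  rw [h2, phiOf_apply_of_mem ψ s k a ha, Away.map_mk]

theorem exists_iso_pullback_map_twist_one {I : Type*} (f : I → CohB1.polyGrading N R 1)
    (hcov : ∀ x : Proj (CohB1.polyGrading n R),
      ∃ i, x ∈ Proj.basicOpen (CohB1.polyGrading n R) (ψ (f i).1)) :
    Nonempty ((Scheme.Modules.pullback (Proj.map ψ hφ)).obj
      (Twist.twist (CohB1.polyGrading N R) 1) ≅ Twist.twist (CohB1.polyGrading n R) 1) := by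
  obtain ⟨τ, -⟩ := exists_iso_pullback_twist_one (CohB1.polyGrading N R) (Proj.map ψ hφ)
    (fun i => Proj.basicOpen (CohB1.polyGrading n R) (ψ (f i).1)) hcov f
    (fun i => phiOf ψ (f i)) (fun i => phiOf_self ψ (f i))
    (fun i => ι_comp_map_eq_chartHom ψ hφ (f i))
    (Twist.twist (CohB1.polyGrading n R) 1)
    (fun i => oneSecOn (CohB1.polyGrading n R) (gOfF ψ (f i)) _)
    (fun i => isTriv_oneSecOn (CohB1.polyGrading n R) (gOfF ψ (f i)) _ le_rfl)
    (by
      intro i j
      rw [res_oneSecOn, res_oneSecOn]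
      have h1 := oneSecOn_eq_smul (CohB1.polyGrading n R) (gOfF ψ (f i)) (gOfF ψ (f j))
      have h2 := congrArg (QCoh.res (Twist.twist (CohB1.polyGrading n R) 1)
        (inf_le_right : Proj.basicOpen (CohB1.polyGrading n R) (ψ (f i).1) ⊓
          Proj.basicOpen (CohB1.polyGrading n R) (ψ (f j).1) ≤
          Proj.basicOpen (CohB1.polyGrading n R) (ψ (f j).1))) h1
      rw [res_smul, res_oneSecOn, res_oneSecOn] at h2
      rw [h2]
      congr 2
      exact (phiOf_apply_of_mem ψ (f j) 1 (f i).1 (by rw [one_smul]; exact (f i).2)).symm)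
  exact ⟨τ⟩

end PullMap

end Groth.Agent.Lib.Helper29.Hyp
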