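import Mathlib
set_option autoImplicit false
universe u
open MvPolynomial

namespace Groth.Agent.Lib.Helper29.Hyp

variable {k : Type u} [Field k] (n : ℕ) (c : Fin (n + 2) → k) (i0 : Fin (n + 2))

/-- The linear form `∑ c_j X_j`. -/
noncomputable def lin : MvPolynomial (Fin (n + 2)) k := ∑ j, C (c j) * X j

/-- Images of the variables under the elimination of `X_{i0}`. -/
noncomputable def gvec : Fin (n + 2) → MvPolynomial (Fin (n + 1)) k :=
  Fin.insertNth (α := fun _ => MvPolynomial (Fin (n + 1)) k) i0
    (-(C (c i0)⁻¹) * ∑ m, C (c (i0.succAbove m)) * X m) (fun m => X m)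

noncomputable def psi : MvPolynomial (Fin (n + 2)) k →ₐ[k] MvPolynomial (Fin (n + 1)) k :=
  aeval (gvec n c i0)

noncomputable def theta : MvPolynomial (Fin (n + 1)) k →ₐ[k] MvPolynomial (Fin (n + 2)) k :=
  aeval (fun m => X (i0.succAbove m))

theorem psi_X_succAbove (m : Fin (n + 1)) : psi n c i0 (X (i0.succAbove m)) = X m := by
  unfold psi gvec
  rw [aeval_X, Fin.insertNth_apply_succAbove]

theorem psi_X_same : psi n c i0 (X i0) =
    -(C (c i0)⁻¹) * ∑ m, C (c (i0.succAbove m)) * X m := by
  unfold psi gvec
  rw [aeval_X, Fin.insertNth_apply_same]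

theorem lin_eq : lin n c = C (c i0) * X i0 + ∑ m, C (c (i0.succAbove m)) * X (i0.succAbove m) := by
  unfold lin
  rw [Fin.sum_univ_succAbove _ i0]

theorem psi_lin (hc : c i0 ≠ 0) : psi n c i0 (lin n c) = 0 := by
  rw [lin_eq n c i0, map_add, map_mul, map_sum, psi_X_same]
  have h1 : ∀ m, psi n c i0 (C (c (i0.succAbove m)) * X (i0.succAbove m)) =
      C (c (i0.succAbove m)) * X m := by
    intro m
    rw [map_mul, psi_X_succAbove]
    congr 1
    exact (psi n c i0).commutes _
  rw [Finset.sum_congr rfl (fun m _ => h1 m)]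
  have h2 : psi n c i0 (C (c i0)) = C (c i0) := (psi n c i0).commutes _
  rw [h2, ← mul_assoc, mul_neg, ← C_mul, mul_inv_cancel₀ hc, C_1, neg_one_mul, neg_add_cancel]

theorem psi_isHomogeneous {a : MvPolynomial (Fin (n + 2)) k} {d : ℕ} (ha : a.IsHomogeneous d) : (psi n c i0 a).IsHomogeneous d := by
  have hg : ∀ j, (gvec n c i0 j).IsHomogeneous 1 := by
    intro j
    induction j using Fin.succAboveCases i0 with
    | x =>
      unfold gvec
      rw [Fin.insertNth_apply_same]
      have : (∑ m, C (c (i0.succAbove m)) * X m : MvPolynomial (Fin (n + 1)) k).IsHomogeneous 1 :=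
        IsHomogeneous.sum _ _ _ fun m _ => isHomogeneous_C_mul_X _ _
      have h2 := (isHomogeneous_C (Fin (n + 1)) (-(c i0)⁻¹)).mul this
      rw [zero_add] at h2
      rwa [C_neg] at h2
    | p m =>
      unfold gvec
      rw [Fin.insertNth_apply_succAbove]
      exact isHomogeneous_X _ _
  have := ha.aeval (gvec n c i0) hg
  rwa [one_mul] at this

theorem psi_surjective : Function.Surjective (psi n c i0) := by
  intro b
  refine ⟨theta n i0 b, ?_⟩
  have : (psi n c i0).comp (theta n i0) = AlgHom.id k _ := by
    apply MvPolynomial.algHom_ext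
    intro m
    rw [AlgHom.comp_apply, AlgHom.id_apply]
    unfold theta
    rw [aeval_X, psi_X_succAbove]
  exact congrArg (fun f => f b) this

theorem theta_psi_sub_mem (hc : c i0 ≠ 0) (a : MvPolynomial (Fin (n + 2)) k) :
    theta n i0 (psi n c i0 a) - a ∈ Ideal.span {lin n c} := by
  induction a using MvPolynomial.induction_on with
  | C r =>
    have h1 : psi n c i0 (C r) = C r := (psi n c i0).commutes _
    have h2 : theta n i0 (C r) = C r := (theta n i0).commutes _
    rw [h1, h2, sub_self]
    exact Ideal.zero_mem _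
  | add p q hp hq =>
    rw [map_add, map_add, add_sub_add_comm]
    exact Ideal.add_mem _ hp hq
  | mul_X p j hp =>
    rw [map_mul, map_mul]
    have hX : theta n i0 (psi n c i0 (X j)) - X j ∈ Ideal.span {lin n c} := by
      induction j using Fin.succAboveCases i0 with
      | x =>
        rw [psi_X_same, map_mul, map_neg, map_sum]
        have h1 : ∀ m, theta n i0 (C (c (i0.succAbove m)) * X m) =
            C (c (i0.succAbove m)) * X (i0.succAbove m) := by
          intro m
          rw [map_mul]
          unfold theta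
          rw [aeval_X]
          congr 1
          exact (aeval _).commutes _
        rw [Finset.sum_congr rfl (fun m _ => h1 m)]
        have h2 : theta n i0 (C (c i0)⁻¹) = C (c i0)⁻¹ := (theta n i0).commutes _
        rw [h2]
        have h3 : -(C (c i0)⁻¹ : MvPolynomial (Fin (n + 2)) k) *
            ∑ m, C (c (i0.succAbove m)) * X (i0.succAbove m) - X i0 =
            -(C (c i0)⁻¹) * lin n c := by
          have h4 : (C (c i0)⁻¹ : MvPolynomial (Fin (n + 2)) k) * C (c i0) = 1 := by
            rw [← C_mul, inv_mul_cancel₀ hc, C_1]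
          rw [lin_eq n c i0]
          linear_combination (X i0 : MvPolynomial (Fin (n + 2)) k) * h4
        rw [h3]
        exact Ideal.mul_mem_left _ _ (Ideal.subset_span rfl)
      | p m =>
        rw [psi_X_succAbove]
        unfold theta
        rw [aeval_X, sub_self]
        exact Ideal.zero_mem _
    have : theta n i0 (psi n c i0 p) * theta n i0 (psi n c i0 (X j)) - p * X j =
        theta n i0 (psi n c i0 p) * (theta n i0 (psi n c i0 (X j)) - X j) +
          (theta n i0 (psi n c i0 p) - p) * X j := by ring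
    rw [this]
    exact Ideal.add_mem _ (Ideal.mul_mem_left _ _ hX) (Ideal.mul_mem_right _ _ hp)

theorem mem_span_of_psi_eq_zero (hc : c i0 ≠ 0) (a : MvPolynomial (Fin (n + 2)) k)
    (h : psi n c i0 a = 0) : a ∈ Ideal.span {lin n c} := by
  have := theta_psi_sub_mem n c i0 hc a
  rw [h, map_zero, zero_sub] at this
  exact (Ideal.neg_mem_iff _).mp this

/-- Every homogeneous polynomial of degree one is a linear form. -/
theorem exists_eq_lin (l : MvPolynomial (Fin (n + 2)) k) (hl : l.IsHomogeneous 1) :
    ∃ c : Fin (n + 2) → k, l = lin n c := by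
  have h1 : l ∈ homogeneousSubmodule (Fin (n + 2)) k 1 := hl
  rw [homogeneousSubmodule_one_eq_span_X, Submodule.mem_span_range_iff_exists_fun] at h1
  obtain ⟨c, hc⟩ := h1
  refine ⟨c, ?_⟩
  unfold lin
  rw [← hc]
  refine Finset.sum_congr rfl fun j _ => ?_
  rw [MvPolynomial.smul_eq_C_mul]

theorem exists_ne_zero_of_lin_ne_zero (h : lin n c ≠ 0) : ∃ i, c i ≠ 0 := by
  by_contra hne
  push Not at hne
  apply h
  unfold lin
  exact Finset.sum_eq_zero fun j _ => by rw [hne j, C_0, zero_mul]

end Groth.Agent.Lib.Helper29.Hyp
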