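import Groth.Agent.Lib.Helper29.CE5
universe u
open CategoryTheory CategoryTheory.Limits AlgebraicGeometry Opposite TopologicalSpace

namespace Groth.Agent.Lib.Helper29.QCoh

theorem isCompact_of_fg_ideal_support {X : Scheme.{u}} [CompactSpace X]
    (U : X.Opens) (I : X.IdealSheafData) (hfg : ∀ V : X.affineOpens, (I.ideal V).FG)
    (hsupp : (I.support : Set X) = (U : Set X)ᶜ) : IsCompact (U : Set X) := by
  classical
  obtain ⟨s, hs, hcov⟩ := (isCompact_iff_finite_and_eq_biUnion_affineOpens
    (U := (⊤ : X.Opens))).mp (by simpa using isCompact_univ)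
  have hU : (U : Set X) = ⋃ W ∈ s, ((U : Set X) ∩ (W : X.affineOpens).1) := by
    rw [← Set.inter_iUnion₂]
    have : (⋃ W ∈ s, ((W : X.affineOpens).1 : Set X)) = Set.univ := by
      have := congrArg (fun V : X.Opens => (V : Set X)) hcov
      simpa using this.symm
    rw [this, Set.inter_univ]
  rw [hU]
  refine hs.isCompact_biUnion fun W _ => ?_
  obtain ⟨g, hg⟩ := hfg W
  have h1 : (U : Set X) ∩ W.1 = ⋃ f ∈ g, (X.basicOpen f : Set X) := by
    have h2 := I.coe_support_inter W
    rw [hsupp, ← hg, Scheme.zeroLocus_span, Scheme.zeroLocus_def] at h2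
    ext x
    simp only [Set.mem_inter_iff, Set.mem_iUnion, SetLike.mem_coe, exists_prop]
    constructor
    · rintro ⟨hxU, hxW⟩
      by_contra hcon
      push Not at hcon
      have : x ∈ (⋂ f ∈ (g : Set Γ(X, W.1)), (X.basicOpen f).carrierᶜ) ∩ (W.1 : Set X) := by
        refine ⟨?_, hxW⟩
        simp only [Set.mem_iInter, Set.mem_compl_iff]
        intro f hf
        exact hcon f hf
      rw [← h2] at this
      exact this.1 hxU
    · rintro ⟨f, hf, hxf⟩
      have hxW : x ∈ W.1 := X.basicOpen_le f hxf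
      refine ⟨?_, hxW⟩
      by_contra hxU
      have : x ∈ ((U : Set X)ᶜ ∩ (W.1 : Set X)) := ⟨hxU, hxW⟩
      rw [h2] at this
      have := this.1
      simp only [Set.mem_iInter, Set.mem_compl_iff] at this
      exact this f hf hxf
  rw [h1]
  exact g.finite_toSet.isCompact_biUnion fun f _ => (W.2.basicOpen f).isCompact

theorem exists_fg_ideal_support_eq_compl {X : Scheme.{u}} [CompactSpace X] [QuasiSeparatedSpace X]
    (U : X.Opens) (hU : IsCompact (U : Set X)) :
    ∃ I : X.IdealSheafData, (∀ V : X.affineOpens, (I.ideal V).FG) ∧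
      (I.support : Set X) = (U : Set X)ᶜ := by
  obtain ⟨J, i, hmono, hq, hf, ⟨a, ha⟩, hvan⟩ := exists_finiteType_ideal_compl U hU
  refine ⟨idealOfHom i, isFiniteTypeIdeal_idealOfHom i, ?_⟩
  ext x
  constructor
  · intro hx hxU
    obtain ⟨W, hW, hxW, hWU⟩ := (X.isBasis_affineOpens).exists_subset_of_mem_open hxU U.2
    obtain ⟨W', hW', rfl⟩ : ∃ W' : X.Opens, IsAffineOpen W' ∧ (W' : Set X) = W := hW
    have h1 := (Scheme.IdealSheafData.mem_support_iff_of_mem (I := idealOfHom i)
      (U := ⟨W', hW'⟩) hxW).mp hx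
    have htop : (idealOfHom i).ideal ⟨W', hW'⟩ = ⊤ := by
      rw [Ideal.eq_top_iff_one]
      refine ⟨QCoh.res J (show W' ≤ U from hWU) a, ?_⟩
      rw [app_res]
      have := congrArg (X.presheaf.map (homOfLE (show W' ≤ U from hWU)).op) ha
      rw [map_one] at this
      exact this
    rw [htop] at h1
    have := (Scheme.mem_zeroLocus_iff _ _ x).mp h1 1 trivial
    rw [Scheme.basicOpen_of_isUnit _ isUnit_one] at this
    exact this hxW
  · intro hx
    rw [SetLike.mem_coe, Scheme.IdealSheafData.mem_support_iff]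
    intro W
    rw [Scheme.mem_zeroLocus_iff]
    rintro f ⟨t, rfl⟩ hxf
    have hxW : x ∈ W.1 := X.basicOpen_le _ hxf
    exact notMem_basicOpen_of_mem_vanishingIdeal ⟨(U : Set X)ᶜ, U.2.isClosed_compl⟩ W
      (hvan W t) hxW hx hxf

end Groth.Agent.Lib.Helper29.QCoh
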