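import Mathlib

set_option autoImplicit false

namespace Groth.Agent.Lib.Helper29.Isol

open AlgebraicGeometry CategoryTheory IsLocalRing TensorProduct

universe u

lemma isPrecomplete_pi_fin (A : Type u) [CommRing A] (J : Ideal A) [IsPrecomplete J A] (n : ℕ) :
    IsPrecomplete J (Fin n → A) := by
  rw [← AdicCompletion.of_surjective_iff]
  intro y
  have hz : ∀ j, ∃ a : A, AdicCompletion.of J A a =
      AdicCompletion.piEquivOfFintype J (fun _ : Fin n => A) y j :=
    fun j => AdicCompletion.of_surjective J A _
  choose a ha using hz
  refine ⟨a, ?_⟩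
  apply (AdicCompletion.piEquivOfFintype J (fun _ : Fin n => A)).injective
  funext j
  rw [← ha j, AdicCompletion.piEquivOfFintype_apply]
  simp [AdicCompletion.pi, AdicCompletion.map_of]

/-- Quasi-finite local algebra over a complete Noetherian local ring is finite. -/
theorem finite_of_quasiFinite_of_complete (A B : Type u) [CommRing A] [IsLocalRing A]
    [IsNoetherianRing A] [IsAdicComplete (maximalIdeal A) A] [CommRing B] [IsLocalRing B]
    [IsNoetherianRing B] [Algebra A B] [IsLocalHom (algebraMap A B)] [Algebra.QuasiFinite A B] :
    Module.Finite A B := by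
  have hfin : Module.Finite A (B ⧸ (maximalIdeal A).map (algebraMap A B)) := by
    let e : (maximalIdeal A).Fiber B ≃ₐ[A] B ⧸ (maximalIdeal A).map (algebraMap A B) :=
      (Algebra.TensorProduct.congr (.symm <| .ofBijective _
        (Ideal.bijective_algebraMap_quotient_residueField (maximalIdeal A))) .refl).trans <|
      (Algebra.TensorProduct.comm _ _ _).trans
      ((Algebra.TensorProduct.quotIdealMapEquivTensorQuot B (maximalIdeal A)).symm.restrictScalars _)
    have : Module.Finite A ((maximalIdeal A).Fiber B) :=
      .trans (maximalIdeal A).ResidueField _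
    exact .of_surjective e.toLinearMap e.surjective
  have hle : (maximalIdeal A).map (algebraMap A B) ≤ maximalIdeal B := by
    rw [Ideal.map_le_iff_le_comap]
    intro a ha
    rw [Ideal.mem_comap, mem_maximalIdeal, mem_nonunits_iff]
    intro h
    exact ha (isUnit_of_map_unit _ _ h)
  have hH : IsHausdorff (maximalIdeal A) B := IsHausdorff.of_map hle
  have hP : IsPrecomplete (maximalIdeal A) A := inferInstance
  obtain ⟨n, g, hg⟩ := Module.Finite.exists_fin' A (B ⧸ (maximalIdeal A).map (algebraMap A B))
  -- lift generators
  have hlift : ∀ i : Fin n, ∃ b : B, Ideal.Quotient.mk _ b = g (Pi.single i 1) :=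
    fun i => Ideal.Quotient.mk_surjective _
  choose b hb using hlift
  let F : (Fin n → A) →ₗ[A] B := Fintype.linearCombination A b
  have := isPrecomplete_pi_fin A (maximalIdeal A) n
  have hsurj : Function.Surjective F := by
    apply surjective_of_mkQ_comp_surjective (I := maximalIdeal A)
    rw [Ideal.smul_top_eq_map]
    have hcomp : (Submodule.restrictScalars A (Ideal.map (algebraMap A B) (maximalIdeal A))).mkQ ∘ₗ F
        = g := by
      apply LinearMap.pi_ext'
      intro i
      ext
      simp [F, Fintype.linearCombination_apply_single]
      exact hb i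
    rw [hcomp]
    exact hg
  exact Module.Finite.of_surjective F hsurj

end Groth.Agent.Lib.Helper29.Isol
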