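import Mathlib
import Groth.Agent.Lib.Helper29.Isol

set_option autoImplicit false

namespace Groth.Agent.Lib.Helper29.Isol

open AlgebraicGeometry CategoryTheory IsLocalRing TensorProduct

universe u

lemma quasiFiniteAt_of_isOpen {X Y : Scheme.{u}} (f : X ⟶ Y) [LocallyOfFiniteType f] (x : X)
    (y : Y) (hx : f.base x = y)
    (hisol : IsOpen ((Subtype.val : (f.base ⁻¹' {y}) → X) ⁻¹' {x})) : f.QuasiFiniteAt x := by
  subst hx
  rw [Scheme.Hom.quasiFiniteAt_iff_isOpen_singleton_asFiber, ← (f.fiberHomeo (f x)).isOpen_image]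
  simp only [Set.image_singleton, Scheme.Hom.asFiber, Homeomorph.apply_symm_apply]
  convert hisol using 1
  ext ⟨z, hz⟩
  simp [Subtype.ext_iff]

lemma fromSpecStalk_comp_eq {A : CommRingCat.{u}} {X : Scheme.{u}} (f : X ⟶ Spec A) (x : X) :
    X.fromSpecStalk x ≫ f =
      Spec.map ((Scheme.ΓSpecIso A).inv ≫ f.appTop ≫ X.presheaf.germ ⊤ x trivial) := by
  have h1 : f = X.toSpecΓ ≫ Spec.map f.appTop ≫ Spec.map (Scheme.ΓSpecIso A).inv := by
    rw [← Scheme.toSpecΓ_naturality_assoc, ← SpecMap_ΓSpecIso_hom, ← Spec.map_comp,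
      Iso.inv_hom_id, Spec.map_id, Category.comp_id]
  conv_lhs => rw [h1]
  rw [Scheme.fromSpecStalk_toSpecΓ_assoc, ← Spec.map_comp, ← Spec.map_comp, Category.assoc]

instance flat_fromSpecStalk (X : Scheme.{u}) (x : X) : Flat (X.fromSpecStalk x) := by
  obtain ⟨_, ⟨U, hU, rfl⟩, hxU, -⟩ := X.isBasis_affineOpens.exists_subset_of_mem_open
    (Set.mem_univ x) isOpen_univ
  rw [← hU.fromSpecStalk_eq_fromSpecStalk hxU, IsAffineOpen.fromSpecStalk]
  have : Flat (Spec.map (X.presheaf.germ U x hxU)) := by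
    rw [Flat.SpecMap_iff]
    algebraize [(X.presheaf.germ U x hxU).hom]
    have := hU.isLocalization_stalk ⟨x, hxU⟩
    change Module.Flat Γ(X, U) (X.presheaf.stalk x)
    exact IsLocalization.flat _ (hU.primeIdealOf ⟨x, hxU⟩).asIdeal.primeCompl
  infer_instance

theorem main (A : Type u) [CommRing A] [IsLocalRing A] [IsNoetherianRing A]
    [IsAdicComplete (maximalIdeal A) A] (X : Scheme.{u}) (f : X ⟶ Spec (CommRingCat.of A))
    [LocallyOfFiniteType f] [IsSeparated f]
    (x : X) (hx : f.base x = closedPoint A)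
    (hisol : IsOpen ((Subtype.val : (f.base ⁻¹' {closedPoint A}) → X) ⁻¹' {x})) :
    ((Scheme.ΓSpecIso (CommRingCat.of A)).inv ≫ f.appTop ≫
        X.presheaf.germ ⊤ x trivial).hom.Finite ∧
      IsOpenImmersion (X.fromSpecStalk x) ∧ IsClosedImmersion (X.fromSpecStalk x) := by
  have hqf : f.QuasiFiniteAt x := quasiFiniteAt_of_isOpen f x _ hx hisol
  set ψ := (Scheme.ΓSpecIso (CommRingCat.of A)).inv ≫ f.appTop ≫ X.presheaf.germ ⊤ x trivial
    with hψ
  have hcomp : X.fromSpecStalk x ≫ f = Spec.map ψ := fromSpecStalk_comp_eq f x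
  have hLN : IsLocallyNoetherian X := LocallyOfFiniteType.isLocallyNoetherian f
  have hfin : ψ.hom.Finite := by
    rw [Scheme.Hom.quasiFiniteAt_iff, hcomp,
      HasRingHomProperty.Spec_iff (P := @LocallyQuasiFinite)] at hqf
    algebraize [ψ.hom]
    have hloc : IsLocalHom (algebraMap A (X.presheaf.stalk x)) := by
      have h4 : (maximalIdeal (X.presheaf.stalk x)).comap ψ.hom = maximalIdeal A := by
        have h5 : (Spec.map ψ) (closedPoint (X.presheaf.stalk x)) = closedPoint A := by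
          rw [← hcomp, Scheme.Hom.comp_apply, Scheme.fromSpecStalk_closedPoint]
          exact hx
        exact congrArg PrimeSpectrum.asIdeal h5
      exact ((IsLocalRing.local_hom_TFAE ψ.hom).out 0 4).mpr h4
    have : Algebra.QuasiFinite A (X.presheaf.stalk x) := hqf
    exact finite_of_quasiFinite_of_complete A (X.presheaf.stalk x)
  refine ⟨hfin, ?_⟩
  have hF : IsFinite (X.fromSpecStalk x ≫ f) := by
    rw [hcomp, IsFinite.SpecMap_iff]
    exact hfin
  have hprop : IsProper (X.fromSpecStalk x) := IsProper.of_comp (X.fromSpecStalk x) f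
  have hci : IsClosedImmersion (X.fromSpecStalk x) :=
    (IsClosedImmersion.iff_isProper_and_mono _).mpr ⟨hprop, inferInstance⟩
  have hlft : LocallyOfFiniteType (X.fromSpecStalk x) :=
    locallyOfFiniteType_of_comp (X.fromSpecStalk x) f
  have hlfp : LocallyOfFinitePresentation (X.fromSpecStalk x) := inferInstance
  exact ⟨IsOpenImmersion.of_flat_of_mono _, hci⟩

end Groth.Agent.Lib.Helper29.Isol
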