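import Groth.Agent.Lib.Helper29.Sky
import Groth.Agent.Lib.Helper29.Res3
import Groth.Agent.Lib.Helper29.QCohAffine
import Groth.Agent.Lib.Helper29.ProjF1
universe u
open CategoryTheory CategoryTheory.Limits AlgebraicGeometry TopologicalSpace Opposite

/-! # Jointly epimorphic families of quasi-coherent modules: sections over affine opens -/

namespace Groth.Agent.Lib.Helper29.QCoh.JEpi
open Groth.Agent.Lib.Helper29.QCoh

variable {X : Scheme.{u}}

/-- A jointly epimorphic family generates every stalk. -/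
theorem iSup_stalkMapRange_eq_top {κ : Type*} {E : κ → X.Modules} {M : X.Modules}
    (φ : ∀ k, E k ⟶ M) (h : Res.JointlyEpi φ) (y : X) :
    (⨆ k, stalkMapRange (φ k) y) = ⊤ := by
  obtain ⟨N, hN⟩ : ∃ N : Submodule (X.presheaf.stalk y) (M.presheaf.stalk y),
      N = ⨆ k, stalkMapRange (φ k) y := ⟨_, rfl⟩
  rw [← hN]
  let ψ := toSky y M N.mkQ
  have hz : ∀ k, φ k ≫ ψ = φ k ≫ 0 := by
    intro k
    apply Scheme.Modules.hom_ext
    intro W
    ext σ
    rw [app_comp, app_comp]
    change (show PLift (y ∈ W) → _ from ψ.app W ((φ k).app W σ)) = 0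
    funext hy
    change N.mkQ (M.presheaf.germ W y hy.down ((φ k).app W σ)) = 0
    rw [Submodule.mkQ_apply, Submodule.Quotient.mk_eq_zero, hN]
    refine Submodule.mem_iSup_of_mem k ?_
    exact ⟨(E k).presheaf.germ W y hy.down σ, stalkMap_germ _ _ _ _ _⟩
  have hψ : ψ = 0 := h ψ 0 hz
  rw [eq_top_iff]
  rintro t -
  obtain ⟨V, hyV, m, rfl⟩ := M.presheaf.exists_germ_eq t
  have h1 := toSky_app y M N.mkQ V m hyV
  change (show PLift (y ∈ V) → _ from ψ.app V m) ⟨hyV⟩ = _ at h1
  rw [hψ] at h1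
  have h2 : N.mkQ (M.presheaf.germ V y hyV m) = 0 := h1.symm
  rwa [Submodule.mkQ_apply, Submodule.Quotient.mk_eq_zero] at h2

/-- For a jointly epimorphic family of quasi-coherent modules, every section of the target over
an affine open is a finite sum of images of sections of the members. -/
theorem mem_iSup_range_appₗ {κ : Type*} {E : κ → X.Modules} {M : X.Modules}
    [∀ k, (E k).IsQuasicoherent] [M.IsQuasicoherent]
    (φ : ∀ k, E k ⟶ M) (h : Res.JointlyEpi φ) {U : X.Opens} (hU : IsAffineOpen U) (m : Γ(M, U)) :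
    m ∈ ⨆ k, LinearMap.range (appₗ (φ k) U) := by
  obtain ⟨S, hS⟩ : ∃ S : Submodule Γ(X, U) Γ(M, U), S = ⨆ k, LinearMap.range (appₗ (φ k) U) :=
    ⟨_, rfl⟩
  rw [← hS]
  let I : Ideal Γ(X, U) :=
    { carrier := {r | r • m ∈ S}
      add_mem' := by
        intro a b ha hb
        change (a + b) • m ∈ S
        rw [add_smul]
        exact S.add_mem ha hb
      zero_mem' := by
        change (0 : Γ(X, U)) • m ∈ S
        rw [zero_smul]
        exact S.zero_mem
      smul_mem' := by
        intro c a ha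
        change (c • a) • m ∈ S
        rw [smul_eq_mul, mul_smul]
        exact S.smul_mem c ha }
  have hI : I = ⊤ := by
    apply ideal_eq_top_of_forall_mem_basicOpen hU
    intro x hx
    have key : ∀ t ∈ (⨆ k, stalkMapRange (φ k) x), ∃ (r : Γ(X, U)) (s : Γ(M, U)),
        x ∈ X.basicOpen r ∧ s ∈ S ∧
        X.presheaf.germ U x hx r • t = M.presheaf.germ U x hx s := by
      intro t ht
      induction ht using Submodule.iSup_induction' with
      | mem k t ht =>
        obtain ⟨a, rfl⟩ := ht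
        obtain ⟨r, e, hr, hre⟩ := exists_smul_germ_eq (E k) hU x hx a
        refine ⟨r, (φ k).app U e, hr, ?_, ?_⟩
        · rw [hS]
          exact Submodule.mem_iSup_of_mem k ⟨e, rfl⟩
        · rw [← stalkMap_smul, hre, stalkMap_germ]
      | zero =>
        refine ⟨1, 0, ?_, S.zero_mem, ?_⟩
        · rw [Scheme.basicOpen_of_isUnit _ isUnit_one]; exact hx
        · rw [smul_zero, map_zero]
      | add t₁ t₂ _ _ h₁ h₂ =>
        obtain ⟨r₁, s₁, hr₁, hs₁, e₁⟩ := h₁
        obtain ⟨r₂, s₂, hr₂, hs₂, e₂⟩ := h₂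
        refine ⟨r₂ * r₁, r₂ • s₁ + r₁ • s₂, basicOpen_mul_mem r₁ r₂ x hr₁ hr₂,
          S.add_mem (S.smul_mem _ hs₁) (S.smul_mem _ hs₂), ?_⟩
        rw [map_add, germ_smul, germ_smul, ← e₁, ← e₂, smul_add, map_mul, smul_smul, smul_smul,
          mul_comm (X.presheaf.germ U x hx r₁) (X.presheaf.germ U x hx r₂)]
    have htop : M.presheaf.germ U x hx m ∈ (⨆ k, stalkMapRange (φ k) x) := by
      rw [iSup_stalkMapRange_eq_top φ h x]; trivial
    obtain ⟨r, s, hr, hs, e⟩ := key _ htop
    have h1 : M.presheaf.germ U x hx (r • m - s) = 0 := by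
      rw [map_sub, germ_smul, e, sub_self]
    obtain ⟨r', hr', h2⟩ := exists_smul_eq_zero_of_germ_eq_zero M hU x hx _ h1
    refine ⟨r' * r, ?_, basicOpen_mul_mem r r' x hr hr'⟩
    change (r' * r) • m ∈ S
    rw [smul_sub, sub_eq_zero] at h2
    rw [mul_smul, h2]
    exact S.smul_mem _ hs
  have h1 : (1 : Γ(X, U)) ∈ I := by rw [hI]; trivial
  have h2 : (1 : Γ(X, U)) • m ∈ S := h1
  rwa [one_smul] at h2

/-- Direct images along an affine morphism of a jointly epimorphic family of quasi-coherent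
modules, followed by an epimorphism, assemble to an epimorphism out of the coproduct. -/
theorem epi_desc_pushforward {Y : Scheme.{u}} (f : X ⟶ Y) [IsAffineHom f] {κ : Type u}
    {E : κ → X.Modules} {M : X.Modules} [∀ k, (E k).IsQuasicoherent] [M.IsQuasicoherent]
    (φ : ∀ k, E k ⟶ M) (h : Res.JointlyEpi φ) {N : Y.Modules} [N.IsQuasicoherent]
    (q : (Scheme.Modules.pushforward f).obj M ⟶ N) [Epi q] :
    Epi (Sigma.desc fun k => (Scheme.Modules.pushforward f).map (φ k) ≫ q) := by
  have hMq := isQuasicoherent_pushforward_of_isAffineHom f M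
  apply ProjF.epi_of_app_surjective_affine
  intro V hV n
  obtain ⟨m, rfl⟩ := app_surjective_of_epi q hV n
  have hm := mem_iSup_range_appₗ φ h (hV.preimage f) m
  induction hm using Submodule.iSup_induction' with
  | mem k m hm =>
    obtain ⟨e, rfl⟩ := hm
    refine ⟨(Sigma.ι (fun k => (Scheme.Modules.pushforward f).obj (E k)) k).app V e, ?_⟩
    rw [← app_comp, Sigma.ι_desc, app_comp]
    rfl
  | zero => exact ⟨0, by rw [map_zero]; exact (map_zero _).symm⟩
  | add m₁ m₂ _ _ h₁ h₂ =>
    obtain ⟨a₁, e₁⟩ := h₁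
    obtain ⟨a₂, e₂⟩ := h₂
    exact ⟨a₁ + a₂, by rw [map_add, e₁, e₂]; exact (map_add _ _ _).symm⟩

end Groth.Agent.Lib.Helper29.QCoh.JEpi
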