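import Groth.Agent.Lib.Helper29.AffAttr

/-! Künneth formula for global functions on products of qcqs schemes over a field (helper29). -/

set_option autoImplicit false
universe u
open CategoryTheory MonoidalCategory CartesianMonoidalCategory MonObj AlgebraicGeometry Opposite
open TensorProduct

namespace Groth.Agent.Lib.Helper29.Kun

open Groth.Agent.Lib.Helper29.AffAttr

variable {k : Type u} [Field k]

attribute [local instance] Groth.Agent.Lib.Helper29.AffAttr.algΓ

theorem flat_hom (T : Over (Spec (CommRingCat.of k))) : Flat T.hom := by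
  haveI : Subsingleton ↥(Spec (CommRingCat.of k)) :=
    inferInstanceAs (Subsingleton (PrimeSpectrum k))
  infer_instance

theorem ringHomFlat_appTop (A : Over (Spec (CommRingCat.of k))) : A.hom.appTop.hom.Flat := by
  have hK : IsField Γ(Spec (CommRingCat.of k), ⊤) := isField_Γ_Spec k
  letI : Field Γ(Spec (CommRingCat.of k), ⊤) := hK.toField
  change @Module.Flat Γ(Spec (CommRingCat.of k), ⊤) Γ(A.left, ⊤) _ _ A.hom.appTop.hom.toAlgebra.toModule
  letI := A.hom.appTop.hom.toAlgebra
  infer_instance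

set_option backward.isDefEq.respectTransparency.types false in
set_option maxHeartbeats 1000000 in
theorem isPushout_Γ (A T : Over (Spec (CommRingCat.of k))) [CompactSpace A.left]
    [QuasiSeparatedSpace A.left] [CompactSpace T.left] [QuasiSeparatedSpace T.left] :
    IsPushout A.hom.appTop T.hom.appTop (CartesianMonoidalCategory.fst A T).left.appTop
      (CartesianMonoidalCategory.snd A T).left.appTop := by
  have H : IsPullback (CartesianMonoidalCategory.fst A T).left
      (CartesianMonoidalCategory.snd A T).left A.hom T.hom :=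
    IsPullback.of_hasPullback A.hom T.hom
  haveI := flat_hom T
  have hUY : (⊤ : (A ⊗ T).left.Opens) =
      (CartesianMonoidalCategory.fst A T).left ⁻¹ᵁ ⊤ ⊓
        (CartesianMonoidalCategory.snd A T).left ⁻¹ᵁ ⊤ := by
    simp
  have hiso := isIso_pushoutSection_of_isCompact_of_flat_right_of_ringHomFlat H
    (US := ⊤) (UT := ⊤) (UX := ⊤) (hUST := le_top) (hUSX := le_top) (UY := ⊤) hUY
    (isAffineOpen_top _) isCompact_univ isQuasiSeparated_univ isCompact_univ
    isQuasiSeparated_univ (by
      have e1 : A.hom.appLE ⊤ ⊤ (le_top : (⊤ : A.left.Opens) ≤ A.hom ⁻¹ᵁ ⊤) = A.hom.appTop :=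
        (Scheme.Hom.app_eq_appLE (f := A.hom) (U := ⊤)).symm
      rw [e1]
      exact ringHomFlat_appTop A)
  have hpo := (isIso_pushoutSection_iff H (US := ⊤) (UT := ⊤) (UX := ⊤) le_top le_top
    (UY := ⊤) hUY).mp hiso
  have e1 : A.hom.appLE ⊤ ⊤ (le_top : (⊤ : A.left.Opens) ≤ A.hom ⁻¹ᵁ ⊤) = A.hom.appTop :=
    (Scheme.Hom.app_eq_appLE (f := A.hom) (U := ⊤)).symm
  have e2 : T.hom.appLE ⊤ ⊤ (le_top : (⊤ : T.left.Opens) ≤ T.hom ⁻¹ᵁ ⊤) = T.hom.appTop :=
    (Scheme.Hom.app_eq_appLE (f := T.hom) (U := ⊤)).symm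
  rw [e1, e2] at hpo
  convert hpo using 1
  · exact Scheme.Hom.app_eq_appLE (f := (CartesianMonoidalCategory.fst A T).left) (U := ⊤)
  · exact Scheme.Hom.app_eq_appLE (f := (CartesianMonoidalCategory.snd A T).left) (U := ⊤)

theorem Θ_bijective (A T : Over (Spec (CommRingCat.of k))) [CompactSpace A.left]
    [QuasiSeparatedSpace A.left] [CompactSpace T.left] [QuasiSeparatedSpace T.left] :
    Function.Bijective (Θ A T) := by
  refine AffAttrAlg.bijective_of_isPushout (isPushout_Γ A T) rfl rfl (Θ A T).toRingHom ?_ ?_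
  · intro x
    change Θ A T (x ⊗ₜ 1) = _
    rw [Θ_tmul, map_one, _root_.mul_one]
    rfl
  · intro y
    change Θ A T (1 ⊗ₜ y) = _
    rw [Θ_tmul, map_one, _root_.one_mul]
    rfl

end Groth.Agent.Lib.Helper29.Kun
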