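import Groth.Agent.Lib.Helper29.Kun

/-! Expansion of functions on a product along a basis of functions on one factor (helper29). -/

set_option autoImplicit false
universe u
open CategoryTheory MonoidalCategory CartesianMonoidalCategory MonObj AlgebraicGeometry Opposite
open TensorProduct

namespace Groth.Agent.Lib.Helper29.Kun

open Groth.Agent.Lib.Helper29.AffAttr

variable {k : Type u} [Field k]

attribute [local instance] Groth.Agent.Lib.Helper29.AffAttr.algΓ

variable (P Q : Over (Spec (CommRingCat.of k))) [CompactSpace P.left]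
  [QuasiSeparatedSpace P.left] [CompactSpace Q.left] [QuasiSeparatedSpace Q.left]

theorem exists_expand_right {Λ : Type*} (e : Module.Basis Λ Γ(Spec (CommRingCat.of k), ⊤) Γ(Q.left, ⊤))
    (s : Γ((P ⊗ Q).left, ⊤)) :
    ∃ c : Λ →₀ Γ(P.left, ⊤),
      (c.sum fun l m => appAlg (CartesianMonoidalCategory.fst P Q) m *
        appAlg (CartesianMonoidalCategory.snd P Q) (e l)) = s := by
  obtain ⟨t, rfl⟩ := (Θ_bijective P Q).2 s
  obtain ⟨c, rfl⟩ := TensorProduct.eq_repr_basis_right e t
  refine ⟨c, ?_⟩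
  rw [Finsupp.sum, Finsupp.sum, map_sum]
  exact Finset.sum_congr rfl fun l _ => (Θ_tmul P Q _ _).symm

theorem expand_right_eq_zero {Λ : Type*}
    (e : Module.Basis Λ Γ(Spec (CommRingCat.of k), ⊤) Γ(Q.left, ⊤))
    (c : Λ →₀ Γ(P.left, ⊤))
    (h : (c.sum fun l m => appAlg (CartesianMonoidalCategory.fst P Q) m *
        appAlg (CartesianMonoidalCategory.snd P Q) (e l)) = 0) : c = 0 := by
  apply TensorProduct.sum_tmul_basis_right_eq_zero e c
  apply (Θ_bijective P Q).1
  rw [map_zero, ← h, Finsupp.sum, Finsupp.sum, map_sum]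
  exact Finset.sum_congr rfl fun l _ => Θ_tmul P Q _ _

theorem expand_left_eq_zero {Λ : Type*}
    (e : Module.Basis Λ Γ(Spec (CommRingCat.of k), ⊤) Γ(P.left, ⊤))
    (c : Λ →₀ Γ(Q.left, ⊤))
    (h : (c.sum fun l m => appAlg (CartesianMonoidalCategory.fst P Q) (e l) *
        appAlg (CartesianMonoidalCategory.snd P Q) m) = 0) : c = 0 := by
  apply TensorProduct.sum_tmul_basis_left_eq_zero e c
  apply (Θ_bijective P Q).1
  rw [map_zero, ← h, Finsupp.sum, Finsupp.sum, map_sum]
  exact Finset.sum_congr rfl fun l _ => Θ_tmul P Q _ _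

end Groth.Agent.Lib.Helper29.Kun
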