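import Groth.Agent.Lib.Helper29.SH3
import Groth.Agent.Lib.Helper29.QCohLocFree
universe u
open CategoryTheory CategoryTheory.Limits AlgebraicGeometry Opposite TopologicalSpace

/-! # Serre's criterion: affineness from surjectivity on global sections -/

namespace Groth.Agent.Lib.Helper29.QCoh

section SH4
variable {X : Scheme.{u}}

/-- The morphism `O_X^n ⟶ O_X` given by global functions `f₁, …, f_n`. -/
noncomputable def funsHom {n : ℕ} (f : Fin n → Γ(X, ⊤)) : FlatMod.freeMod X n ⟶ unitM X :=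
  (freeModIso X n).hom ≫ homOfSections (unitM X) (fun k : ULift.{u} (Fin n) => toUnit (f k.down))

theorem epi_funsHom {n : ℕ} (f : Fin n → Γ(X, ⊤)) (hcov : ∀ y : X, ∃ k, y ∈ X.basicOpen (f k)) :
    Epi (funsHom f) := by
  have : Epi (homOfSections (unitM X) (fun k : ULift.{u} (Fin n) => toUnit (f k.down))) := by
    apply epi_homOfSections_of_span
    intro y
    obtain ⟨k, hk⟩ := hcov y
    rw [eq_top_iff]
    intro t _
    obtain ⟨V, hyV, s, rfl⟩ := (unitM X).presheaf.exists_germ_eq t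
    obtain ⟨r, rfl⟩ := toUnit_surjective s
    -- shrink to `W = V ⊓ X_{f k}`
    set W : X.Opens := V ⊓ X.basicOpen (f k) with hW
    have hyW : y ∈ W := ⟨hyV, hk⟩
    have hu : IsUnit (rres X (le_top : W ≤ ⊤) (f k)) :=
      (isUnit_rres_iff (le_top : W ≤ ⊤) (f k)).mpr inf_le_right
    obtain ⟨g, hg⟩ := hu.exists_left_inv
    have h1 : res (unitM X) (inf_le_left : W ≤ V) (toUnit r) =
        (rres X (inf_le_left : W ≤ V) r * g) •
          res (unitM X) (le_top : W ≤ ⊤) (toUnit (f k)) := by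
      have h1' : (rres X (inf_le_left : W ≤ V) r : Γ(X, W)) =
          (rres X (inf_le_left : W ≤ V) r * g) * rres X (le_top : W ≤ ⊤) (f k) := by
        rw [mul_assoc, hg, mul_one]
      exact h1'
    rw [← germ_res (unitM X) (inf_le_left : W ≤ V) y hyW, h1, germ_smul, germ_res]
    exact Submodule.smul_mem _ _ (Submodule.subset_span ⟨⟨k⟩, rfl⟩)
  unfold funsHom
  infer_instance

theorem sum_app_apply {M N : X.Modules} {ι : Type*} (s : Finset ι) (φ : ι → (M ⟶ N)) (U : X.Opens)
    (m : Γ(M, U)) : (∑ i ∈ s, φ i).app U m = ∑ i ∈ s, (φ i).app U m := by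
  classical
  induction s using Finset.induction_on with
  | empty =>
    simp only [Finset.sum_empty]
    rfl
  | insert a s ha ih =>
    rw [Finset.sum_insert ha, Finset.sum_insert ha, ← ih]
    rfl

theorem app_top_funsHom_mem_span {n : ℕ} (f : Fin n → Γ(X, ⊤)) (t : Γ(FlatMod.freeMod X n, ⊤)) :
    fromUnit ((funsHom f).app ⊤ t) ∈ Ideal.span (Set.range f) := by
  set π := homOfSections (unitM X) (fun k : ULift.{u} (Fin n) => toUnit (f k.down)) with hπ
  set t₁ := (freeModIso X n).hom.app ⊤ t with ht₁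
  have h0 : (funsHom f).app ⊤ t = π.app ⊤ t₁ := rfl
  have h1 : π = ∑ i : ULift.{u} (Fin n), πFreeM X i ≫ (ιFreeM X i ≫ π) := by
    conv_lhs => rw [← Category.id_comp π, ← sum_πFreeM_ιFreeM X, Preadditive.sum_comp]
    simp only [Category.assoc]
  have h2 : ∀ i : ULift.{u} (Fin n), ιFreeM X i ≫ π = homOfSection (unitM X) (toUnit (f i.down)) :=
    fun i => ι_homOfSections _ _ i
  rw [h0, h1, sum_app_apply]
  change (∑ i : ULift.{u} (Fin n), fromUnit ((πFreeM X i ≫ ιFreeM X i ≫ π).app ⊤ t₁)) ∈ _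
  refine Ideal.sum_mem _ fun i _ => ?_
  rw [h2]
  obtain ⟨a, ha⟩ := toUnit_surjective ((πFreeM X i).app ⊤ t₁)
  have h3 : (πFreeM X i ≫ homOfSection (unitM X) (toUnit (f i.down))).app ⊤ t₁ =
      a • toUnit (f i.down) := by
    change (homOfSection (unitM X) (toUnit (f i.down))).app ⊤ ((πFreeM X i).app ⊤ t₁) = _
    rw [← ha, app_eq_smul_sval, sval_homOfSection, res_self]
  rw [h3]
  change a * f i.down ∈ _
  exact Ideal.mul_mem_left _ _ (Ideal.subset_span ⟨i.down, rfl⟩)

theorem genLocus_unit_eq_basicOpen (s : unitM X ⟶ unitM X) :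
    CohB1.genLocus (unitM X) s = X.basicOpen (fromUnit (sval s ⊤)) := by
  ext y
  have hs : sval s ⊤ = (fromUnit (sval s ⊤)) • toUnit (1 : Γ(X, ⊤)) :=
    toUnit_eq_smul_one (fromUnit (sval s ⊤))
  exact mem_genLocus_iff_of_isTriv s (isTriv_unit ⊤) _ hs y trivial

/-- **Serre's criterion, surjectivity form** (EGA II 5.2.1 (c') ⇒ (a)): a quasi-compact scheme on
which every epimorphism from a quasi-coherent submodule of some `O_X^n` onto a quasi-coherent module
is surjective on global sections is affine. -/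
theorem isAffine_of_forall_surjective [CompactSpace X]
    (h : ∀ (n : ℕ) (F F'' : X.Modules) (i : F ⟶ FlatMod.freeMod X n) (p : F ⟶ F''),
      Mono i → Epi p → Coh.IsQCoh F → Coh.IsQCoh F'' →
        Function.Surjective (p.val.app (Opposite.op ⊤)).hom) :
    IsAffine X := by
  -- Step A: closed points have affine basic open neighbourhoods
  have hA : ∀ x : X, IsClosed ({x} : Set X) →
      ∃ W ∈ {W : X.Opens | ∃ f : Γ(X, ⊤), W = X.basicOpen f ∧ IsAffineOpen (X.basicOpen f)},
        x ∈ W := by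
    intro x hx
    obtain ⟨U, hU, hxU, -⟩ := exists_isAffineOpen_mem_and_subset (x := x) (U := ⊤) trivial
    have hM := isInvertible_unit X
    set i₀ := ClSub.idealModι (pointIdeal x hx U) with hi₀
    have hq : (cokernel (mulHom i₀ (unitM X))).IsQuasicoherent := inferInstance
    have hsurj := h 1 (unitM X) (cokernel (mulHom i₀ (unitM X))) (freeModOneIso X).inv
      (cokernel.π (mulHom i₀ (unitM X))) inferInstance inferInstance
      (inferInstanceAs (unitM X).IsQuasicoherent) hq
    obtain ⟨s, hxs, -, hs⟩ := exists_section_genLocus_pointIdeal (unitM X) hM x hx U hU hxU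
      (isTriv_unit U) (cokernel.π (mulHom i₀ (unitM X))) (cokernel.condition _)
      (ShortComplex.exact_cokernel _) hsurj
    rw [genLocus_unit_eq_basicOpen] at hxs hs
    exact ⟨_, ⟨_, rfl, hs⟩, hxs⟩
  have hB := forall_exists_mem_of_forall_closed_point _ hA
  -- finite subcover
  let S : Set Γ(X, ⊤) := {f | IsAffineOpen (X.basicOpen f)}
  obtain ⟨t, ht⟩ := isCompact_univ.elim_finite_subcover
    (fun f : S => (X.basicOpen f.1 : Set X)) (fun f => (X.basicOpen f.1).2) (by
      intro y _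
      obtain ⟨W, ⟨f, rfl, hf⟩, hy⟩ := hB y
      exact Set.mem_iUnion.mpr ⟨⟨f, hf⟩, hy⟩)
  let f' : Fin t.card → Γ(X, ⊤) := fun k => (t.equivFin.symm k).1.1
  have hcov : ∀ y : X, ∃ k, y ∈ X.basicOpen (f' k) := by
    intro y
    obtain ⟨g, hg⟩ := Set.mem_iUnion.mp (ht (Set.mem_univ y))
    obtain ⟨hgt, hyg⟩ := Set.mem_iUnion.mp hg
    refine ⟨t.equivFin ⟨g, hgt⟩, ?_⟩
    change y ∈ X.basicOpen (t.equivFin.symm (t.equivFin ⟨g, hgt⟩)).1.1
    rw [Equiv.symm_apply_apply]
    exact hyg
  have hepi := epi_funsHom f' hcov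
  have hq : (FlatMod.freeMod X t.card).IsQuasicoherent :=
    isQuasicoherent_of_isFinLocFree (isFinLocFree_freeMod X _)
  have hsurj := h t.card (FlatMod.freeMod X t.card) (unitM X) (𝟙 _) (funsHom f') inferInstance hepi
    hq (inferInstanceAs (unitM X).IsQuasicoherent)
  obtain ⟨τ, hτ⟩ := hsurj (toUnit (1 : Γ(X, ⊤)))
  have h1 : (1 : Γ(X, ⊤)) ∈ Ideal.span (Set.range f') := by
    have := app_top_funsHom_mem_span f' τ
    have h2 : (funsHom f').app ⊤ τ = toUnit (1 : Γ(X, ⊤)) := hτ
    rw [h2] at this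
    exact this
  refine isAffine_of_isAffineOpen_basicOpen (Set.range f') ((Ideal.eq_top_iff_one _).mpr h1) ?_
  rintro _ ⟨k, rfl⟩
  exact (t.equivFin.symm k).1.2

end SH4
end Groth.Agent.Lib.Helper29.QCoh
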