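import Groth.Agent.Lib.Helper29.PullSect
import Groth.Agent.Lib.Helper29.SH4
import Groth.Agent.Lib.Helper29.Ample

/-! Local bases of finite locally free modules (helper29, for S5662). -/

universe u
open CategoryTheory CategoryTheory.Limits AlgebraicGeometry TopologicalSpace Opposite

namespace Groth.Agent.Lib.Helper29.LFD
open Groth.Agent.Lib.Helper29.QCoh Groth.Agent.Lib.Helper29

variable {X : Scheme.{u}}

/-- `e` is a basis of `M` over `U` and over every smaller open. -/
def IsBasis (M : X.Modules) (U : X.Opens) {n : ℕ} (e : Fin n → Γ(M, U)) : Prop :=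
  ∀ (W : X.Opens) (hW : W ≤ U),
    Function.Bijective (fun a : Fin n → Γ(X, W) => ∑ k, a k • res M hW (e k))

section Basic
variable {M N : X.Modules} {n : ℕ}

theorem IsBasis.restrict {U V : X.Opens} {e : Fin n → Γ(M, U)} (hB : IsBasis M U e) (h : V ≤ U) :
    IsBasis M V (fun k => res M h (e k)) := by
  intro W hW
  have := hB W (hW.trans h)
  simpa only [res_res] using this

theorem IsBasis.of_iso (Θ : M ≅ N) {U : X.Opens} {e : Fin n → Γ(M, U)} (hB : IsBasis M U e) :
    IsBasis N U (fun k => Θ.hom.app U (e k)) := by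
  intro W hW
  have hb : Function.Bijective (Θ.hom.app W) := app_bijective_of_isIso Θ.hom W
  have : (fun a : Fin n → Γ(X, W) => ∑ k, a k • res N hW (Θ.hom.app U (e k))) =
      Θ.hom.app W ∘ (fun a : Fin n → Γ(X, W) => ∑ k, a k • res M hW (e k)) := by
    funext a
    simp only [Function.comp_apply]
    rw [map_sum]
    refine Finset.sum_congr rfl fun k _ => ?_
    rw [Scheme.Modules.Hom.app_smul, app_res]
  rw [this]
  exact hb.comp (hB W hW)

theorem exists_isBasis_congr {U U' : X.Opens} (h : U = U')
    (hB : ∃ e : Fin n → Γ(M, U), IsBasis M U e) : ∃ e : Fin n → Γ(M, U'), IsBasis M U' e := by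
  subst h
  exact hB

theorem IsBasis.of_eq_of_res {U U' : X.Opens} (h : U' ≤ U) (hU : U ≤ U')
    {e : Fin n → Γ(M, U)} (hB : IsBasis M U' (fun k => res M h (e k))) : IsBasis M U e := by
  intro W hW
  have := hB W (hW.trans hU)
  simpa only [res_res] using this

theorem sum_smul_res_bijective_congr {U W W' : X.Opens} (e : Fin n → Γ(M, U)) (h : W ≤ U)
    (hW : W = W') :
    Function.Bijective (fun a : Fin n → Γ(X, W) => ∑ k, a k • res M h (e k)) ↔
      Function.Bijective (fun a : Fin n → Γ(X, W') => ∑ k, a k • res M (hW ▸ h) (e k)) := by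
  subst hW; rfl

/-- A basis of a restriction to an open subscheme is a basis over the image open. -/
theorem IsBasis.of_restrict {X' : Scheme.{u}} (j : X' ⟶ X) [IsOpenImmersion j]
    {U' : X'.Opens} {e : Fin n → Γ(M, j ''ᵁ U')} (hB : IsBasis (M.restrict j) U' e) :
    IsBasis M (j ''ᵁ U') e := by
  have key : ∀ W' : X'.Opens, ∀ hW' : W' ≤ U',
      Function.Bijective (fun a : Fin n → Γ(X, j ''ᵁ W') =>
        ∑ k, a k • res M (j.image_mono hW') (e k)) := by
    intro W' hW'
    have hb := hB W' hW'
    have hiso : Function.Bijective (fun a : Fin n → Γ(X, j ''ᵁ W') =>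
        fun k => (j.appIso W').hom (a k)) := by
      have h0 : Function.Bijective (j.appIso W').hom :=
        ConcreteCategory.bijective_of_isIso (j.appIso W').hom
      constructor
      · intro a a' haa
        funext k
        exact h0.1 (congrFun haa k)
      · intro b
        refine ⟨fun k => (h0.2 (b k)).choose, ?_⟩
        funext k
        exact (h0.2 (b k)).choose_spec
    have : (fun a : Fin n → Γ(X, j ''ᵁ W') => ∑ k, a k • res M (j.image_mono hW') (e k)) =
        (fun a' : Fin n → Γ(X', W') => ∑ k, a' k • res (M.restrict j) hW' (e k)) ∘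
          (fun a : Fin n → Γ(X, j ''ᵁ W') => fun k => (j.appIso W').hom (a k)) := by
      funext a
      simp only [Function.comp_apply]
      refine Finset.sum_congr rfl fun k _ => ?_
      rw [restrict_smul]
      congr 1
      exact (congrArg (fun q => q.hom (a k)) (j.appIso W').hom_inv_id).symm
    rw [this]
    exact hb.comp hiso
  intro W hW
  have e1 : j ''ᵁ (j ⁻¹ᵁ W) = W := by
    rw [Scheme.Hom.image_preimage_eq_opensRange_inf]
    exact inf_eq_right.mpr (hW.trans (j.image_le_opensRange U'))
  have hle : j ⁻¹ᵁ W ≤ U' := by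
    intro x hx
    have : j x ∈ j ''ᵁ U' := hW hx
    obtain ⟨y, hy, hxy⟩ := this
    rwa [← j.isOpenEmbedding.injective hxy]
  exact (sum_smul_res_bijective_congr e _ e1).mp (key (j ⁻¹ᵁ W) hle)

end Basic

section Std
variable (X) (n : ℕ)

/-- the projections of `O_X^n`. -/
noncomputable def projF (k : Fin n) : FlatMod.freeMod X n ⟶ unitM X :=
  Sigma.desc (fun j => if j = k then 𝟙 _ else 0)

/-- the inclusions of `O_X^n`. -/
noncomputable def inF (k : Fin n) : unitM X ⟶ FlatMod.freeMod X n :=
  Sigma.ι (fun _ : Fin n => Coh.structureModule X) k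

theorem inF_projF (j k : Fin n) : inF X n j ≫ projF X n k = if j = k then 𝟙 _ else 0 :=
  Sigma.ι_desc _ _

theorem sum_projF_inF : ∑ k : Fin n, projF X n k ≫ inF X n k = 𝟙 _ := by
  apply Sigma.hom_ext
  intro j
  rw [Preadditive.comp_sum, Category.comp_id]
  have : ∀ k : Fin n, Sigma.ι (fun _ : Fin n => Coh.structureModule X) j ≫
      projF X n k ≫ inF X n k =
      if k = j then Sigma.ι (fun _ : Fin n => Coh.structureModule X) j else 0 := by
    intro k
    unfold projF
    rw [Sigma.ι_desc_assoc]
    by_cases h : j = k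
    · subst h
      simp [inF]
    · rw [if_neg h, if_neg (fun h' => h h'.symm), zero_comp]
  rw [Finset.sum_congr rfl (fun k _ => this k), Finset.sum_ite_eq' Finset.univ j]
  simp

/-- the standard sections of `O_X^n`. -/
noncomputable def stdSec (U : X.Opens) (k : Fin n) : Γ(FlatMod.freeMod X n, U) :=
  (inF X n k).app U (toUnit 1)

theorem res_stdSec {U V : X.Opens} (h : V ≤ U) (k : Fin n) :
    res (FlatMod.freeMod X n) h (stdSec X n U k) = stdSec X n V k := by
  unfold stdSec
  rw [← app_res, res_toUnit_one]

theorem projF_stdSec (U : X.Opens) (j k : Fin n) :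
    (projF X n k).app U (stdSec X n U j) = if j = k then toUnit 1 else 0 := by
  unfold stdSec
  rw [← app_comp, inF_projF]
  by_cases h : j = k
  · rw [if_pos h, if_pos h]; rfl
  · rw [if_neg h, if_neg h]; rfl

theorem isBasis_stdSec (U : X.Opens) : IsBasis (FlatMod.freeMod X n) U (stdSec X n U) := by
  intro W hW
  simp only [res_stdSec]
  constructor
  · intro a a' haa
    funext j
    have h1 := congrArg (fun s => fromUnit ((projF X n j).app W s)) haa
    simp only [map_sum, Scheme.Modules.Hom.app_smul, projF_stdSec] at h1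
    simp only [smul_ite, smul_zero, Finset.sum_ite_eq', Finset.mem_univ, if_true] at h1
    rw [← toUnit_eq_smul_one, ← toUnit_eq_smul_one] at h1
    exact h1
  · intro s
    refine ⟨fun k => fromUnit ((projF X n k).app W s), ?_⟩
    have h3 : ∀ k : Fin n, fromUnit ((projF X n k).app W s) • stdSec X n W k =
        (inF X n k).app W ((projF X n k).app W s) := by
      intro k
      have h2 : (projF X n k).app W s = fromUnit ((projF X n k).app W s) • toUnit (1 : Γ(X, W)) :=
        toUnit_eq_smul_one _
      conv_rhs => rw [h2]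
      rw [Scheme.Modules.Hom.app_smul]
      rfl
    calc ∑ k, fromUnit ((projF X n k).app W s) • stdSec X n W k
        = ∑ k, (inF X n k).app W ((projF X n k).app W s) := Finset.sum_congr rfl fun k _ => h3 k
      _ = (∑ k : Fin n, projF X n k ≫ inF X n k).app W s := by
          rw [sum_app_apply]
          refine Finset.sum_congr rfl fun k _ => ?_
          rw [app_comp]
      _ = s := by rw [sum_projF_inF]; rfl

end Std

end Groth.Agent.Lib.Helper29.LFD
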