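import Groth.Agent.Lib.Helper29.LFD1

/-! Local bases of finite locally free modules: existence, pullback (helper29, for S5662). -/

universe u
open CategoryTheory CategoryTheory.Limits AlgebraicGeometry TopologicalSpace Opposite

namespace Groth.Agent.Lib.Helper29.LFD
open Groth.Agent.Lib.Helper29.QCoh Groth.Agent.Lib.Helper29

section Exists
variable {X : Scheme.{u}} {M : X.Modules} {n : ℕ}

theorem exists_isBasis_of_iso (V : X.Opens)
    (ε : M.restrict V.ι ≅ FlatMod.freeMod (V : Scheme.{u}) n) :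
    ∃ e : Fin n → Γ(M, V), IsBasis M V e := by
  refine exists_isBasis_congr V.ι_image_top ?_
  have h0 := (isBasis_stdSec (V : Scheme.{u}) n ⊤).of_iso ε.symm
  exact ⟨_, IsBasis.of_restrict V.ι h0⟩

theorem exists_isBasis (hM : FlatMod.IsFinLocFree M) (x : X) :
    ∃ (V : X.Opens) (n : ℕ) (e : Fin n → Γ(M, V)), x ∈ V ∧ IsBasis M V e := by
  obtain ⟨V, n, hxV, ⟨ε⟩⟩ := hM x
  obtain ⟨e, he⟩ := exists_isBasis_of_iso V ε
  exact ⟨V, n, e, hxV, he⟩

/-- a basis over `V` gives a trivialisation of the restriction to `V`. -/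
theorem IsBasis.exists_iso_restrict {V : X.Opens} {e : Fin n → Γ(M, V)} (hB : IsBasis M V e) :
    ∃ σ : FlatMod.freeMod (V : Scheme.{u}) n ≅ M.restrict V.ι,
      ∀ (T : (V : Scheme.{u}).Opens) (k : Fin n),
        σ.hom.app T (stdSec (V : Scheme.{u}) n T k) = res M (V.ι_image_le T) (e k) := by
  let e' : Fin n → Γ(M.restrict V.ι, ⊤) := fun k => res M V.ι_image_top.le (e k)
  let σ₀ : FlatMod.freeMod (V : Scheme.{u}) n ⟶ M.restrict V.ι :=
    Sigma.desc (fun k => homOfSection (M.restrict V.ι) (e' k))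
  have hsv : ∀ (T : (V : Scheme.{u}).Opens) (k : Fin n),
      σ₀.app T (stdSec (V : Scheme.{u}) n T k) = res M (V.ι_image_le T) (e k) := by
    intro T k
    have h1 : inF (V : Scheme.{u}) n k ≫ σ₀ = homOfSection (M.restrict V.ι) (e' k) :=
      Sigma.ι_desc _ _
    unfold stdSec
    rw [← app_comp, h1]
    have h2 := sval_homOfSection (M.restrict V.ι) (e' k) T
    change (homOfSection (M.restrict V.ι) (e' k)).app T (toUnit 1) = _ at h2
    rw [h2]
    change res M (V.ι.image_mono le_top) (res M V.ι_image_top.le (e k)) = _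
    rw [res_res]
  have hiso : IsIso σ₀ := by
    rw [isIso_iff_app_bijective]
    intro T
    have hb := hB (V.ι ''ᵁ T) (V.ι_image_le T)
    have hstd := isBasis_stdSec (V : Scheme.{u}) n T T le_rfl
    have hiso : Function.Bijective (fun a : Fin n → Γ((V : Scheme.{u}), T) =>
        fun k => (V.ι.appIso T).inv (a k)) := by
      have h0 : Function.Bijective (V.ι.appIso T).inv :=
        ConcreteCategory.bijective_of_isIso (V.ι.appIso T).inv
      constructor
      · intro a a' haa
        funext k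
        exact h0.1 (congrFun haa k)
      · intro b
        refine ⟨fun k => (h0.2 (b k)).choose, ?_⟩
        funext k
        exact (h0.2 (b k)).choose_spec
    have hcomp : (σ₀.app T) ∘ (fun a : Fin n → Γ((V : Scheme.{u}), T) =>
          ∑ k, a k • res (FlatMod.freeMod (V : Scheme.{u}) n) (le_refl T)
            (stdSec (V : Scheme.{u}) n T k)) =
        (fun b : Fin n → Γ(X, V.ι ''ᵁ T) => ∑ k, b k • res M (V.ι_image_le T) (e k)) ∘
          (fun a : Fin n → Γ((V : Scheme.{u}), T) => fun k => (V.ι.appIso T).inv (a k)) := by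
      funext a
      simp only [Function.comp_apply]
      rw [map_sum]
      refine Finset.sum_congr rfl fun k _ => ?_
      rw [Scheme.Modules.Hom.app_smul, res_self, hsv, restrict_smul]
    have h3 : Function.Bijective ((σ₀.app T) ∘ (fun a : Fin n → Γ((V : Scheme.{u}), T) =>
          ∑ k, a k • res (FlatMod.freeMod (V : Scheme.{u}) n) (le_refl T)
            (stdSec (V : Scheme.{u}) n T k))) := by
      rw [hcomp]
      exact hb.comp hiso
    exact (Function.Bijective.of_comp_iff _ hstd).mp h3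
  exact ⟨asIso σ₀, hsv⟩

end Exists

section Pull
variable {X Y : Scheme.{u}} (f : X ⟶ Y) (n : ℕ)

/-- `O_X^n ≅ f^*(O_Y^n)`, compatibly with the inclusions. -/
theorem exists_iso_pullback_freeMod :
    ∃ τ : FlatMod.freeMod X n ≅ (Scheme.Modules.pullback f).obj (FlatMod.freeMod Y n),
      ∀ k : Fin n, inF X n k ≫ τ.hom =
        (pullbackUnitIso f).inv ≫ (Scheme.Modules.pullback f).map (inF Y n k) := by
  haveI : PreservesColimitsOfSize.{0, 0} (Scheme.Modules.pullback f) :=
    (Scheme.Modules.pullbackPushforwardAdjunction f).leftAdjoint_preservesColimits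
  let c := PreservesCoproduct.iso (Scheme.Modules.pullback f)
    (fun _ : Fin n => Coh.structureModule Y)
  let m : FlatMod.freeMod X n ≅
      ∐ fun _ : Fin n => (Scheme.Modules.pullback f).obj (Coh.structureModule Y) :=
    Sigma.mapIso (fun _ : Fin n => (pullbackUnitIso f).symm)
  refine ⟨m ≪≫ c.symm, fun k => ?_⟩
  change Sigma.ι (fun _ : Fin n => Coh.structureModule X) k ≫ m.hom ≫ c.inv = _
  rw [Sigma.ι_mapIso_hom_assoc, PreservesCoproduct.inv_hom, ι_comp_sigmaComparison]
  rfl

theorem isBasis_pullSect_of_iso {A : Y.Modules} (σ : FlatMod.freeMod Y n ≅ A) (V : Y.Opens) :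
    IsBasis ((Scheme.Modules.pullback f).obj A) (f ⁻¹ᵁ V)
      (fun k => pullSect f A V (σ.hom.app V (stdSec Y n V k))) := by
  obtain ⟨τ', hτ'⟩ := exists_iso_pullback_freeMod f n
  let τ : FlatMod.freeMod X n ≅ (Scheme.Modules.pullback f).obj A :=
    τ' ≪≫ (Scheme.Modules.pullback f).mapIso σ
  have h0 := (isBasis_stdSec X n (f ⁻¹ᵁ V)).of_iso τ
  have h1 : (fun k => τ.hom.app (f ⁻¹ᵁ V) (stdSec X n (f ⁻¹ᵁ V) k)) =
      fun k => pullSect f A V (σ.hom.app V (stdSec Y n V k)) := by
    funext k
    change (τ'.hom ≫ (Scheme.Modules.pullback f).map σ.hom).app (f ⁻¹ᵁ V)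
      ((inF X n k).app (f ⁻¹ᵁ V) (toUnit 1)) = _
    rw [← app_comp, ← Category.assoc, hτ' k, Category.assoc, app_comp, app_comp,
      pullbackUnitIso_inv_toUnit_one, pullSect_naturality, pullSect_naturality]
    rfl
  rw [h1] at h0
  exact h0

end Pull

end Groth.Agent.Lib.Helper29.LFD
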