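import Groth.Agent.Lib.Helper29.LFD2

/-! Pullbacks of local bases are local bases (helper29, for S5662). -/

universe u
open CategoryTheory CategoryTheory.Limits AlgebraicGeometry TopologicalSpace Opposite

namespace Groth.Agent.Lib.Helper29.LFD
open Groth.Agent.Lib.Helper29.QCoh Groth.Agent.Lib.Helper29

variable {X Y : Scheme.{u}} (f : X ⟶ Y) {n : ℕ}

/-- **Pullbacks of local bases are local bases.** -/
theorem IsBasis.pullSect {A : Y.Modules} {V : Y.Opens} {e : Fin n → Γ(A, V)} (hB : IsBasis A V e) :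
    IsBasis ((Scheme.Modules.pullback f).obj A) (f ⁻¹ᵁ V) (fun k => QCoh.pullSect f A V (e k)) := by
  obtain ⟨σ, hσ⟩ := hB.exists_iso_restrict
  -- Step 0
  have h0 := isBasis_pullSect_of_iso (f ∣_ V) n σ (V.ι ⁻¹ᵁ V)
  simp only [hσ] at h0
  -- Step 1
  have h1 := h0.of_iso ((Scheme.Modules.pullback (f ∣_ V)).mapIso
    ((Scheme.Modules.restrictFunctorIsoPullback V.ι).app A))
  have e1 : (fun k => ((Scheme.Modules.pullback (f ∣_ V)).mapIso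
      ((Scheme.Modules.restrictFunctorIsoPullback V.ι).app A)).hom.app _
      (QCoh.pullSect (f ∣_ V) (A.restrict V.ι) (V.ι ⁻¹ᵁ V)
        (QCoh.res A (V.ι_image_le (V.ι ⁻¹ᵁ V)) (e k)))) =
      fun k => QCoh.pullSect (f ∣_ V) _ (V.ι ⁻¹ᵁ V) (QCoh.pullSect V.ι A V (e k)) := by
    funext k
    change ((Scheme.Modules.pullback (f ∣_ V)).map
      ((Scheme.Modules.restrictFunctorIsoPullback V.ι).hom.app A)).app _ _ = _
    rw [pullSect_naturality]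
    congr 1
    exact restrictFunctorIsoPullback_hom_app V.ι A V (e k)
  rw [e1] at h1
  -- Step 2
  have h2 := h1.of_iso ((Scheme.Modules.pullbackComp (f ∣_ V) V.ι).app A)
  have e2 : (fun k => ((Scheme.Modules.pullbackComp (f ∣_ V) V.ι).app A).hom.app _
      (QCoh.pullSect (f ∣_ V) _ (V.ι ⁻¹ᵁ V) (QCoh.pullSect V.ι A V (e k)))) =
      fun k => QCoh.pullSect ((f ∣_ V) ≫ V.ι) A V (e k) := by
    funext k
    rw [← pullbackComp_inv_pullSect (f ∣_ V) V.ι A V (e k)]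
    have := iso_hom_inv_app ((Scheme.Modules.pullbackComp (f ∣_ V) V.ι).app A)
      (((f ∣_ V) ≫ V.ι) ⁻¹ᵁ V) (QCoh.pullSect ((f ∣_ V) ≫ V.ι) A V (e k))
    rw [Iso.app_hom, Iso.app_inv] at this
    rw [Iso.app_hom]
    exact this
  have h2' : IsBasis ((Scheme.Modules.pullback ((f ∣_ V) ≫ V.ι)).obj A) (((f ∣_ V) ≫ V.ι) ⁻¹ᵁ V)
      (fun k => QCoh.pullSect ((f ∣_ V) ≫ V.ι) A V (e k)) := by
    rw [← e2]; exact h2
  -- Step 3
  obtain ⟨θ, hθ⟩ := exists_iso_pullback_of_eq (morphismRestrict_ι f V) A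
  have h3 := (h2'.restrict (morphismRestrict_ι f V ▸ le_rfl :
    ((f ⁻¹ᵁ V).ι ≫ f) ⁻¹ᵁ V ≤ ((f ∣_ V) ≫ V.ι) ⁻¹ᵁ V)).of_iso θ
  simp only [hθ V] at h3
  -- Step 4
  have h4 := h3.of_iso ((Scheme.Modules.pullbackComp (f ⁻¹ᵁ V).ι f).app A).symm
  simp only [Iso.symm_hom, Iso.app_inv, pullbackComp_inv_pullSect] at h4
  -- Step 5
  have h5 := h4.of_iso ((Scheme.Modules.restrictFunctorIsoPullback (f ⁻¹ᵁ V).ι).app
    ((Scheme.Modules.pullback f).obj A)).symm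
  have e5 : (fun k => ((Scheme.Modules.restrictFunctorIsoPullback (f ⁻¹ᵁ V).ι).app
      ((Scheme.Modules.pullback f).obj A)).symm.hom.app ((f ⁻¹ᵁ V).ι ⁻¹ᵁ (f ⁻¹ᵁ V))
      (QCoh.pullSect (f ⁻¹ᵁ V).ι ((Scheme.Modules.pullback f).obj A) (f ⁻¹ᵁ V)
        (QCoh.pullSect f A V (e k)))) =
      fun k => QCoh.res ((Scheme.Modules.pullback f).obj A)
        ((f ⁻¹ᵁ V).ι.image_preimage_le (f ⁻¹ᵁ V)) (QCoh.pullSect f A V (e k)) := by
    funext k
    have := iso_inv_hom_app ((Scheme.Modules.restrictFunctorIsoPullback (f ⁻¹ᵁ V).ι).app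
      ((Scheme.Modules.pullback f).obj A)) ((f ⁻¹ᵁ V).ι ⁻¹ᵁ (f ⁻¹ᵁ V))
      (QCoh.res ((Scheme.Modules.pullback f).obj A)
        ((f ⁻¹ᵁ V).ι.image_preimage_le (f ⁻¹ᵁ V)) (QCoh.pullSect f A V (e k)))
    rw [Iso.app_hom, restrictFunctorIsoPullback_hom_app] at this
    exact this
  have h5' : IsBasis (((Scheme.Modules.pullback f).obj A).restrict (f ⁻¹ᵁ V).ι)
      ((f ⁻¹ᵁ V).ι ⁻¹ᵁ (f ⁻¹ᵁ V))
      (fun k => QCoh.res ((Scheme.Modules.pullback f).obj A)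
        ((f ⁻¹ᵁ V).ι.image_preimage_le (f ⁻¹ᵁ V)) (QCoh.pullSect f A V (e k))) := by
    rw [← e5]; exact h5
  -- Step 6
  have h6 := IsBasis.of_restrict (f ⁻¹ᵁ V).ι h5'
  refine IsBasis.of_eq_of_res ((f ⁻¹ᵁ V).ι.image_preimage_le (f ⁻¹ᵁ V)) ?_ h6
  rw [Scheme.Hom.image_preimage_eq_opensRange_inf, Scheme.Opens.opensRange_ι, inf_idem]

end Groth.Agent.Lib.Helper29.LFD
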