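import Groth.Agent.Lib.Helper29.LFD3
import Groth.Agent.Lib.Helper29.QCohExt
import Groth.Agent.Lib.Helper29.Cocycle

/-! Descent of sections of finite locally free modules along a morphism of descent for functions
(helper29, for S5662). -/

universe u
open CategoryTheory CategoryTheory.Limits AlgebraicGeometry TopologicalSpace Opposite

namespace Groth.Agent.Lib.Helper29.LFD
open Groth.Agent.Lib.Helper29.QCoh Groth.Agent.Lib.Helper29

section Gen
variable {X Y Z : Scheme.{u}}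

theorem preimage_le_of_eq {h₁ h₂ : X ⟶ Y} (e : h₁ = h₂) (V : Y.Opens) : h₂ ⁻¹ᵁ V ≤ h₁ ⁻¹ᵁ V :=
  e ▸ le_rfl

theorem pullbackCongr_hom_pullSect {h₁ h₂ : X ⟶ Y} (e : h₁ = h₂) (M : Y.Modules) (V : Y.Opens)
    (m : Γ(M, V)) :
    ((Scheme.Modules.pullbackCongr e).hom.app M).app (h₂ ⁻¹ᵁ V)
      (res _ (preimage_le_of_eq e V) (pullSect h₁ M V m)) = pullSect h₂ M V m := by
  subst e
  rw [res_self]
  have : (Scheme.Modules.pullbackCongr (rfl : h₁ = h₁)).hom.app M = 𝟙 _ := by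
    simp [Scheme.Modules.pullbackCongr]
  rw [this]
  rfl

theorem pullbackComp_hom_pullSect (a : X ⟶ Y) (b : Y ⟶ Z) (M : Z.Modules) (V : Z.Opens)
    (m : Γ(M, V)) :
    ((Scheme.Modules.pullbackComp a b).hom.app M).app ((a ≫ b) ⁻¹ᵁ V)
      (pullSect a ((Scheme.Modules.pullback b).obj M) (b ⁻¹ᵁ V) (pullSect b M V m)) =
      pullSect (a ≫ b) M V m := by
  rw [← pullbackComp_inv_pullSect a b M V m]
  have := iso_hom_inv_app ((Scheme.Modules.pullbackComp a b).app M) ((a ≫ b) ⁻¹ᵁ V)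
    (pullSect (a ≫ b) M V m)
  rw [Iso.app_hom, Iso.app_inv] at this
  exact this

end Gen

section LamGen
variable {P : Scheme.{u}} {A B C : P.Modules} (Θ0 : A ⟶ B) (Θ1 : B ⟶ C) {W1 W2 : P.Opens}
  (hle : W2 ≤ W1)

/-- apply `Θ0`, restrict, apply `Θ1`. -/
noncomputable def lamGen : Γ(A, W1) →+ Γ(C, W2) :=
  ((appₗ Θ1 W2).toAddMonoidHom).comp ((res B hle).comp (appₗ Θ0 W1).toAddMonoidHom)

theorem lamGen_apply (x : Γ(A, W1)) :
    lamGen Θ0 Θ1 hle x = Θ1.app W2 (res B hle (Θ0.app W1 x)) := rfl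

theorem lamGen_smul (a : Γ(P, W1)) (x : Γ(A, W1)) :
    lamGen Θ0 Θ1 hle (a • x) = rres P hle a • lamGen Θ0 Θ1 hle x := by
  rw [lamGen_apply, lamGen_apply, Scheme.Modules.Hom.app_smul, res_smul',
    Scheme.Modules.Hom.app_smul]

end LamGen

section Desc
variable {X Y : Scheme.{u}} (f : X ⟶ Y) (M : Y.Modules) (U : Y.Opens)

/-- `p₁^*` on sections, typed for `pullbackComp`. -/
noncomputable def pull1 : Γ((Scheme.Modules.pullback f).obj M, f ⁻¹ᵁ U) →+
    Γ((Scheme.Modules.pullback f ⋙ Scheme.Modules.pullback (pullback.fst f f)).obj M,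
      (pullback.fst f f ≫ f) ⁻¹ᵁ U) :=
  pullSect (pullback.fst f f) ((Scheme.Modules.pullback f).obj M) (f ⁻¹ᵁ U)

noncomputable def pull2 : Γ((Scheme.Modules.pullback f).obj M, f ⁻¹ᵁ U) →+
    Γ((Scheme.Modules.pullback f ⋙ Scheme.Modules.pullback (pullback.snd f f)).obj M,
      (pullback.snd f f ≫ f) ⁻¹ᵁ U) :=
  pullSect (pullback.snd f f) ((Scheme.Modules.pullback f).obj M) (f ⁻¹ᵁ U)

theorem pull1_smul (a : Γ(X, f ⁻¹ᵁ U)) (t : Γ((Scheme.Modules.pullback f).obj M, f ⁻¹ᵁ U)) :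
    pull1 f M U (a • t) = (show Γ(pullback f f, (pullback.fst f f ≫ f) ⁻¹ᵁ U) from
      (pullback.fst f f).app (f ⁻¹ᵁ U) a) • pull1 f M U t :=
  pullSect_smul (pullback.fst f f) ((Scheme.Modules.pullback f).obj M) (f ⁻¹ᵁ U) a t

theorem pull2_smul (a : Γ(X, f ⁻¹ᵁ U)) (t : Γ((Scheme.Modules.pullback f).obj M, f ⁻¹ᵁ U)) :
    pull2 f M U (a • t) = (show Γ(pullback f f, (pullback.snd f f ≫ f) ⁻¹ᵁ U) from
      (pullback.snd f f).app (f ⁻¹ᵁ U) a) • pull2 f M U t :=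
  pullSect_smul (pullback.snd f f) ((Scheme.Modules.pullback f).obj M) (f ⁻¹ᵁ U) a t

/-- the two ways of pulling a section of `f^*M` over `f⁻¹U` back to `X ×_Y X`, compared in
`(p₂ ≫ f)^* M`. -/
noncomputable def lam1 : Γ((Scheme.Modules.pullback f).obj M, f ⁻¹ᵁ U) →+
    Γ((Scheme.Modules.pullback (pullback.snd f f ≫ f)).obj M, (pullback.snd f f ≫ f) ⁻¹ᵁ U) :=
  (lamGen ((Scheme.Modules.pullbackComp (pullback.fst f f) f).hom.app M)
    ((Scheme.Modules.pullbackCongr (pullback.condition (f := f) (g := f))).hom.app M)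
    (preimage_le_of_eq (pullback.condition (f := f) (g := f)) U)).comp (pull1 f M U)

noncomputable def lam2 : Γ((Scheme.Modules.pullback f).obj M, f ⁻¹ᵁ U) →+
    Γ((Scheme.Modules.pullback (pullback.snd f f ≫ f)).obj M, (pullback.snd f f ≫ f) ⁻¹ᵁ U) :=
  ((appₗ ((Scheme.Modules.pullbackComp (pullback.snd f f) f).hom.app M)
    ((pullback.snd f f ≫ f) ⁻¹ᵁ U)).toAddMonoidHom).comp (pull2 f M U)

theorem lam1_apply (t : Γ((Scheme.Modules.pullback f).obj M, f ⁻¹ᵁ U)) :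
    lam1 f M U t = lamGen ((Scheme.Modules.pullbackComp (pullback.fst f f) f).hom.app M)
      ((Scheme.Modules.pullbackCongr (pullback.condition (f := f) (g := f))).hom.app M)
      (preimage_le_of_eq (pullback.condition (f := f) (g := f)) U) (pull1 f M U t) := rfl

theorem lam2_apply (t : Γ((Scheme.Modules.pullback f).obj M, f ⁻¹ᵁ U)) :
    lam2 f M U t = ((Scheme.Modules.pullbackComp (pullback.snd f f) f).hom.app M).app
      ((pullback.snd f f ≫ f) ⁻¹ᵁ U) (pull2 f M U t) := rfl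

theorem lam1_smul (a : Γ(X, f ⁻¹ᵁ U)) (t : Γ((Scheme.Modules.pullback f).obj M, f ⁻¹ᵁ U)) :
    lam1 f M U (a • t) =
      rres (pullback f f) (preimage_le_of_eq (pullback.condition (f := f) (g := f)) U)
        (show Γ(pullback f f, (pullback.fst f f ≫ f) ⁻¹ᵁ U) from
          (pullback.fst f f).app (f ⁻¹ᵁ U) a) • lam1 f M U t := by
  rw [lam1_apply, lam1_apply, pull1_smul, lamGen_smul]

theorem lam2_smul (a : Γ(X, f ⁻¹ᵁ U)) (t : Γ((Scheme.Modules.pullback f).obj M, f ⁻¹ᵁ U)) :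
    lam2 f M U (a • t) = (show Γ(pullback f f, (pullback.snd f f ≫ f) ⁻¹ᵁ U) from
      (pullback.snd f f).app (f ⁻¹ᵁ U) a) • lam2 f M U t := by
  rw [lam2_apply, lam2_apply, pull2_smul, Scheme.Modules.Hom.app_smul]

theorem lam1_pullSect (m : Γ(M, U)) :
    lam1 f M U (pullSect f M U m) = pullSect (pullback.snd f f ≫ f) M U m := by
  rw [lam1_apply, lamGen_apply]
  have h1 : ((Scheme.Modules.pullbackComp (pullback.fst f f) f).hom.app M).app
      ((pullback.fst f f ≫ f) ⁻¹ᵁ U) (pull1 f M U (pullSect f M U m)) =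
      pullSect (pullback.fst f f ≫ f) M U m := pullbackComp_hom_pullSect _ _ M U m
  rw [h1, pullbackCongr_hom_pullSect]

theorem lam2_pullSect (m : Γ(M, U)) :
    lam2 f M U (pullSect f M U m) = pullSect (pullback.snd f f ≫ f) M U m := by
  rw [lam2_apply]
  exact pullbackComp_hom_pullSect _ _ M U m

end Desc

end Groth.Agent.Lib.Helper29.LFD
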