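import Groth.Agent.Lib.Helper29.LFD4

/-! Descent of sections and morphisms for finite locally free modules (helper29, for S5662). -/

universe u
open CategoryTheory CategoryTheory.Limits AlgebraicGeometry TopologicalSpace Opposite

namespace Groth.Agent.Lib.Helper29.LFD
open Groth.Agent.Lib.Helper29.QCoh Groth.Agent.Lib.Helper29

variable {X Y : Scheme.{u}} (f : X ⟶ Y)

section Star
variable (hU : ∀ U : Y.Opens, (pullback.fst f f) ⁻¹ᵁ (f ⁻¹ᵁ U) = (pullback.snd f f) ⁻¹ᵁ (f ⁻¹ᵁ U))
  (hex : ∀ (U : Y.Opens) (a : Γ(X, f ⁻¹ᵁ U)),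
    (pullback.fst f f).app (f ⁻¹ᵁ U) a =
      ((pullback f f).presheaf.map (eqToHom (hU U)).op) ((pullback.snd f f).app (f ⁻¹ᵁ U) a) →
    a ∈ Set.range (f.app U))
include hex

theorem exists_section_of_lam_eq (M : Y.Modules) {n : ℕ} {U : Y.Opens} {e : Fin n → Γ(M, U)}
    (hB : IsBasis M U e) (t : Γ((Scheme.Modules.pullback f).obj M, f ⁻¹ᵁ U))
    (hC : lam1 f M U t = lam2 f M U t) : ∃ m : Γ(M, U), pullSect f M U m = t := by
  have hBf := IsBasis.pullSect f hB
  have hBg := IsBasis.pullSect (pullback.snd f f ≫ f) hB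
  obtain ⟨c, hc⟩ := (hBf (f ⁻¹ᵁ U) le_rfl).2 t
  simp only [res_self] at hc
  have h1 : lam1 f M U t = ∑ k, rres (pullback f f)
      (preimage_le_of_eq (pullback.condition (f := f) (g := f)) U)
      (show Γ(pullback f f, (pullback.fst f f ≫ f) ⁻¹ᵁ U) from
        (pullback.fst f f).app (f ⁻¹ᵁ U) (c k)) • pullSect (pullback.snd f f ≫ f) M U (e k) := by
    rw [← hc, map_sum]
    refine Finset.sum_congr rfl fun k _ => ?_
    rw [lam1_smul, lam1_pullSect]
  have h2 : lam2 f M U t = ∑ k, (show Γ(pullback f f, (pullback.snd f f ≫ f) ⁻¹ᵁ U) from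
      (pullback.snd f f).app (f ⁻¹ᵁ U) (c k)) • pullSect (pullback.snd f f ≫ f) M U (e k) := by
    rw [← hc, map_sum]
    refine Finset.sum_congr rfl fun k _ => ?_
    rw [lam2_smul, lam2_pullSect]
  rw [h1, h2] at hC
  have hinj := (hBg ((pullback.snd f f ≫ f) ⁻¹ᵁ U) le_rfl).1
  simp only [res_self] at hinj
  have hcoef := hinj hC
  have hd : ∀ k, c k ∈ Set.range (f.app U) := by
    intro k
    apply hex U (c k)
    have hk := congrFun hcoef k
    simp only at hk
    rw [← hk]
    have h3 : (homOfLE (preimage_le_of_eq (pullback.condition (f := f) (g := f)) U)).op ≫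
        (eqToHom (hU U)).op = 𝟙 (op ((pullback.fst f f ≫ f) ⁻¹ᵁ U)) :=
      Subsingleton.elim _ _
    change _ = ((pullback f f).presheaf.map
      (homOfLE (preimage_le_of_eq (pullback.condition (f := f) (g := f)) U)).op ≫
      (pullback f f).presheaf.map (eqToHom (hU U)).op) _
    rw [← Functor.map_comp, h3]
    exact (rres_self (pullback f f) _).symm
  choose d hd using hd
  refine ⟨∑ k, d k • e k, ?_⟩
  rw [map_sum, ← hc]
  refine Finset.sum_congr rfl fun k _ => ?_
  rw [pullSect_smul, hd k]

end Star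

section Compat
variable (L M : Y.Modules)
  (φ : (Scheme.Modules.pullback f).obj L ⟶ (Scheme.Modules.pullback f).obj M)
  (hφ : ((Scheme.Modules.pullbackComp (pullback.fst f f) f).app L).inv ≫
        (Scheme.Modules.pullback (pullback.fst f f)).map φ ≫
        ((Scheme.Modules.pullbackComp (pullback.fst f f) f).app M).hom =
      ((Scheme.Modules.pullbackCongr (pullback.condition (f := f) (g := f))).app L).hom ≫
        ((Scheme.Modules.pullbackComp (pullback.snd f f) f).app L).inv ≫
        (Scheme.Modules.pullback (pullback.snd f f)).map φ ≫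
        ((Scheme.Modules.pullbackComp (pullback.snd f f) f).app M).hom ≫
        ((Scheme.Modules.pullbackCongr (pullback.condition (f := f) (g := f))).app M).inv)
include hφ

theorem lam_eq_of_compat (U : Y.Opens) (l : Γ(L, U)) :
    lam1 f M U (φ.app (f ⁻¹ᵁ U) (pullSect f L U l)) =
      lam2 f M U (φ.app (f ⁻¹ᵁ U) (pullSect f L U l)) := by
  have hle := preimage_le_of_eq (pullback.condition (f := f) (g := f)) U
  set t := φ.app (f ⁻¹ᵁ U) (pullSect f L U l) with ht
  have key := congrArg (fun α => Scheme.Modules.Hom.app α ((pullback.snd f f ≫ f) ⁻¹ᵁ U)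
    (res _ hle (pullSect (pullback.fst f f ≫ f) L U l))) hφ
  simp only [app_comp] at key
  -- left side
  have a1 : (((Scheme.Modules.pullbackComp (pullback.fst f f) f).app L).inv).app
      ((pullback.snd f f ≫ f) ⁻¹ᵁ U) (res _ hle (pullSect (pullback.fst f f ≫ f) L U l)) =
      res _ hle (pull1 f L U (pullSect f L U l)) :=
    (app_res _ hle _).trans (congrArg (res _ hle)
      (pullbackComp_inv_pullSect (pullback.fst f f) f L U l))
  have a2 : ((Scheme.Modules.pullback (pullback.fst f f)).map φ).app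
      ((pullback.snd f f ≫ f) ⁻¹ᵁ U) (res _ hle (pull1 f L U (pullSect f L U l))) =
      res _ hle (pull1 f M U t) :=
    (app_res _ hle _).trans (congrArg (res _ hle)
      (pullSect_naturality (pullback.fst f f) φ (f ⁻¹ᵁ U) (pullSect f L U l)))
  have a3 : (((Scheme.Modules.pullbackComp (pullback.fst f f) f).app M).hom).app
      ((pullback.snd f f ≫ f) ⁻¹ᵁ U) (res _ hle (pull1 f M U t)) =
      res _ hle ((((Scheme.Modules.pullbackComp (pullback.fst f f) f).hom.app M)).app
        ((pullback.fst f f ≫ f) ⁻¹ᵁ U) (pull1 f M U t)) :=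
    app_res _ hle _
  -- right side
  have b1 : (((Scheme.Modules.pullbackCongr (pullback.condition (f := f) (g := f))).app L).hom).app
      ((pullback.snd f f ≫ f) ⁻¹ᵁ U) (res _ hle (pullSect (pullback.fst f f ≫ f) L U l)) =
      pullSect (pullback.snd f f ≫ f) L U l :=
    pullbackCongr_hom_pullSect (pullback.condition (f := f) (g := f)) L U l
  have b2 : (((Scheme.Modules.pullbackComp (pullback.snd f f) f).app L).inv).app
      ((pullback.snd f f ≫ f) ⁻¹ᵁ U) (pullSect (pullback.snd f f ≫ f) L U l) =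
      pull2 f L U (pullSect f L U l) :=
    pullbackComp_inv_pullSect (pullback.snd f f) f L U l
  have b3 : ((Scheme.Modules.pullback (pullback.snd f f)).map φ).app
      ((pullback.snd f f ≫ f) ⁻¹ᵁ U) (pull2 f L U (pullSect f L U l)) = pull2 f M U t :=
    pullSect_naturality (pullback.snd f f) φ (f ⁻¹ᵁ U) (pullSect f L U l)
  have l1 := congrArg (fun x =>
    (((Scheme.Modules.pullbackComp (pullback.fst f f) f).app M).hom).app
      ((pullback.snd f f ≫ f) ⁻¹ᵁ U)
      (((Scheme.Modules.pullback (pullback.fst f f)).map φ).app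
        ((pullback.snd f f ≫ f) ⁻¹ᵁ U) x)) a1
  have l2 := congrArg (fun x =>
    (((Scheme.Modules.pullbackComp (pullback.fst f f) f).app M).hom).app
      ((pullback.snd f f ≫ f) ⁻¹ᵁ U) x) a2
  have r1 := congrArg (fun x =>
    (((Scheme.Modules.pullbackCongr (pullback.condition (f := f) (g := f))).app M).inv).app
      ((pullback.snd f f ≫ f) ⁻¹ᵁ U)
      ((((Scheme.Modules.pullbackComp (pullback.snd f f) f).app M).hom).app
        ((pullback.snd f f ≫ f) ⁻¹ᵁ U)
        (((Scheme.Modules.pullback (pullback.snd f f)).map φ).app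
          ((pullback.snd f f ≫ f) ⁻¹ᵁ U)
          ((((Scheme.Modules.pullbackComp (pullback.snd f f) f).app L).inv).app
            ((pullback.snd f f ≫ f) ⁻¹ᵁ U) x)))) b1
  have r2 := congrArg (fun x =>
    (((Scheme.Modules.pullbackCongr (pullback.condition (f := f) (g := f))).app M).inv).app
      ((pullback.snd f f ≫ f) ⁻¹ᵁ U)
      ((((Scheme.Modules.pullbackComp (pullback.snd f f) f).app M).hom).app
        ((pullback.snd f f ≫ f) ⁻¹ᵁ U)
        (((Scheme.Modules.pullback (pullback.snd f f)).map φ).app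
          ((pullback.snd f f ≫ f) ⁻¹ᵁ U) x))) b2
  have r3 := congrArg (fun x =>
    (((Scheme.Modules.pullbackCongr (pullback.condition (f := f) (g := f))).app M).inv).app
      ((pullback.snd f f ≫ f) ⁻¹ᵁ U)
      ((((Scheme.Modules.pullbackComp (pullback.snd f f) f).app M).hom).app
        ((pullback.snd f f ≫ f) ⁻¹ᵁ U) x)) b3
  have key' := (((l1.trans l2).trans a3).symm.trans key).trans ((r1.trans r2).trans r3)
  have key2 := congrArg
    ((((Scheme.Modules.pullbackCongr (pullback.condition (f := f) (g := f))).app M).hom).app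
      ((pullback.snd f f ≫ f) ⁻¹ᵁ U)) key'
  rw [lam1_apply, lamGen_apply]
  exact key2.trans (iso_hom_inv_app
    ((Scheme.Modules.pullbackCongr (pullback.condition (f := f) (g := f))).app M)
    ((pullback.snd f f ≫ f) ⁻¹ᵁ U) (lam2 f M U t))

end Compat

end Groth.Agent.Lib.Helper29.LFD
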