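import Groth.Agent.Lib.Helper29.LFD5

/-! Descent of morphisms between finite locally free modules (helper29, for S5662). -/

universe u
open CategoryTheory CategoryTheory.Limits AlgebraicGeometry TopologicalSpace Opposite

namespace Groth.Agent.Lib.Helper29.LFD
open Groth.Agent.Lib.Helper29.QCoh Groth.Agent.Lib.Helper29

variable {X Y : Scheme.{u}} (f : X ⟶ Y)

theorem pullback_hom_ext {L : Y.Modules} {N : X.Modules}
    (φ1 φ2 : (Scheme.Modules.pullback f).obj L ⟶ N)
    (h : ∀ (U : Y.Opens) (l : Γ(L, U)), φ1.app (f ⁻¹ᵁ U) (pullSect f L U l) =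
      φ2.app (f ⁻¹ᵁ U) (pullSect f L U l)) : φ1 = φ2 := by
  apply ((Scheme.Modules.pullbackPushforwardAdjunction f).homEquiv L N).injective
  rw [Adjunction.homEquiv_unit, Adjunction.homEquiv_unit]
  apply Scheme.Modules.hom_ext
  intro U
  ext l
  exact h U l

section Inj
variable (hinj : ∀ U : Y.Opens, Function.Injective (f.app U))
include hinj

theorem pullSect_eq_zero (M : Y.Modules) (hM : FlatMod.IsFinLocFree M) (U : Y.Opens) (m : Γ(M, U))
    (h : pullSect f M U m = 0) : m = 0 := by
  have hloc : ∀ x : Y, x ∈ U → ∃ W : Y.Opens, x ∈ W ∧ ∃ hWU : W ≤ U, res M hWU m = 0 := by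
    intro x hx
    obtain ⟨V, n, e, hxV, hB⟩ := exists_isBasis hM x
    refine ⟨U ⊓ V, ⟨hx, hxV⟩, inf_le_left, ?_⟩
    have hB' := hB.restrict (inf_le_right : U ⊓ V ≤ V)
    obtain ⟨d, hd⟩ := (hB' (U ⊓ V) le_rfl).2 (res M inf_le_left m)
    simp only [res_self] at hd
    have h1 : pullSect f M (U ⊓ V) (res M inf_le_left m) = 0 := by
      rw [pullSect_res, h, map_zero]
    rw [← hd, map_sum] at h1
    simp only [pullSect_smul] at h1
    have hBf := IsBasis.pullSect f hB'
    have hinj' := (hBf (f ⁻¹ᵁ (U ⊓ V)) le_rfl).1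
    simp only [res_self] at hinj'
    have h2 : (fun k => f.app (U ⊓ V) (d k)) = fun _ => 0 := by
      apply hinj'
      simp only [zero_smul, Finset.sum_const_zero]
      exact h1
    have h3 : ∀ k, d k = 0 := fun k => by
      apply hinj (U ⊓ V)
      rw [map_zero]
      exact congrFun h2 k
    rw [← hd]
    simp [h3]
  choose W hxW hWU hW using hloc
  exact eq_zero_of_res_cover_eq_zero M (fun x : U => W x.1 x.2) (fun x => hWU x.1 x.2)
    (fun y hy => Opens.mem_iSup.mpr ⟨⟨y, hy⟩, hxW y hy⟩) m (fun x => hW x.1 x.2)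

theorem pullSect_injective (M : Y.Modules) (hM : FlatMod.IsFinLocFree M) (U : Y.Opens) :
    Function.Injective (pullSect f M U) := by
  intro m m' h
  rw [← sub_eq_zero]
  apply pullSect_eq_zero f hinj M hM U
  rw [map_sub, h, sub_self]

end Inj

end Groth.Agent.Lib.Helper29.LFD
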