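import Groth.Agent.Lib.Helper29.LFD6

/-! Descent of morphisms between finite locally free modules (helper29, for S5662): main theorem. -/

universe u
open CategoryTheory CategoryTheory.Limits AlgebraicGeometry TopologicalSpace Opposite

namespace Groth.Agent.Lib.Helper29.LFD
open Groth.Agent.Lib.Helper29.QCoh Groth.Agent.Lib.Helper29

variable {X Y : Scheme.{u}} (f : X ⟶ Y)

theorem phi_res {L M : Y.Modules}
    (φ : (Scheme.Modules.pullback f).obj L ⟶ (Scheme.Modules.pullback f).obj M)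
    {W W' : Y.Opens} (h : W' ≤ W) (l : Γ(L, W)) :
    res _ (f.preimage_mono h) (φ.app (f ⁻¹ᵁ W) (pullSect f L W l)) =
      φ.app (f ⁻¹ᵁ W') (pullSect f L W' (res L h l)) := by
  rw [pullSect_res, app_res]

section Main
variable (hU : ∀ U : Y.Opens, (pullback.fst f f) ⁻¹ᵁ (f ⁻¹ᵁ U) = (pullback.snd f f) ⁻¹ᵁ (f ⁻¹ᵁ U))
  (hinj : ∀ U : Y.Opens, Function.Injective (f.app U))
  (hex : ∀ (U : Y.Opens) (a : Γ(X, f ⁻¹ᵁ U)),
    (pullback.fst f f).app (f ⁻¹ᵁ U) a =
      ((pullback f f).presheaf.map (eqToHom (hU U)).op) ((pullback.snd f f).app (f ⁻¹ᵁ U) a) →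
    a ∈ Set.range (f.app U))
  (L M : Y.Modules) (hM : FlatMod.IsFinLocFree M)
  (φ : (Scheme.Modules.pullback f).obj L ⟶ (Scheme.Modules.pullback f).obj M)
  (hφ : ((Scheme.Modules.pullbackComp (pullback.fst f f) f).app L).inv ≫
        (Scheme.Modules.pullback (pullback.fst f f)).map φ ≫
        ((Scheme.Modules.pullbackComp (pullback.fst f f) f).app M).hom =
      ((Scheme.Modules.pullbackCongr (pullback.condition (f := f) (g := f))).app L).hom ≫
        ((Scheme.Modules.pullbackComp (pullback.snd f f) f).app L).inv ≫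
        (Scheme.Modules.pullback (pullback.snd f f)).map φ ≫
        ((Scheme.Modules.pullbackComp (pullback.snd f f) f).app M).hom ≫
        ((Scheme.Modules.pullbackCongr (pullback.condition (f := f) (g := f))).app M).inv)
include hinj hex hM hφ

theorem exists_section (U : Y.Opens) (l : Γ(L, U)) :
    ∃ m : Γ(M, U), pullSect f M U m = φ.app (f ⁻¹ᵁ U) (pullSect f L U l) := by
  have hloc : ∀ x : Y, x ∈ U → ∃ W : Y.Opens, x ∈ W ∧ ∃ hWU : W ≤ U, ∃ m : Γ(M, W),
      pullSect f M W m = φ.app (f ⁻¹ᵁ W) (pullSect f L W (res L hWU l)) := by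
    intro x hx
    obtain ⟨V, n, e, hxV, hB⟩ := exists_isBasis hM x
    refine ⟨U ⊓ V, ⟨hx, hxV⟩, inf_le_left, ?_⟩
    have hB' := hB.restrict (inf_le_right : U ⊓ V ≤ V)
    exact exists_section_of_lam_eq f hU hex M hB' _
      (lam_eq_of_compat f L M φ hφ (U ⊓ V) (res L inf_le_left l))
  choose W hxW hWU m hm using hloc
  obtain ⟨s, hs⟩ := exists_gluing M (fun x : U => W x.1 x.2) U (fun x => hWU x.1 x.2)
    (fun y hy => Opens.mem_iSup.mpr ⟨⟨y, hy⟩, hxW y hy⟩) (fun x => m x.1 x.2) (by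
      intro i j
      apply pullSect_injective f hinj M hM
      rw [pullSect_res, pullSect_res, hm, hm, phi_res f φ inf_le_left, phi_res f φ inf_le_right,
        res_res, res_res])
  refine ⟨s, ?_⟩
  refine eq_of_res_cover_eq _ (fun x : U => f ⁻¹ᵁ (W x.1 x.2))
    (fun x => f.preimage_mono (hWU x.1 x.2)) ?_ _ _ ?_
  · intro y hy
    exact Opens.mem_iSup.mpr ⟨⟨f y, hy⟩, hxW _ hy⟩
  · intro x
    rw [← pullSect_res f M (hWU x.1 x.2), hs, hm, phi_res f φ (hWU x.1 x.2)]

theorem existsUnique_descend : ∃! ψ : L ⟶ M, (Scheme.Modules.pullback f).map ψ = φ := by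
  have hex' := exists_section f hU hinj hex L M hM φ hφ
  choose ψ₀ hψ₀ using hex'
  have hI := pullSect_injective f hinj M hM
  have hadd : ∀ (W : Y.Opens) (a b : Γ(L, W)), ψ₀ W (a + b) = ψ₀ W a + ψ₀ W b := by
    intro W a b
    apply hI W
    rw [map_add, hψ₀, hψ₀, hψ₀, map_add, map_add]
  have hzero : ∀ W : Y.Opens, ψ₀ W 0 = 0 := by
    intro W
    apply hI W
    rw [hψ₀, map_zero, map_zero, map_zero]
  have hsmul : ∀ (W : Y.Opens) (r : Γ(Y, W)) (σ : Γ(L, W)), ψ₀ W (r • σ) = r • ψ₀ W σ := by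
    intro W r σ
    apply hI W
    rw [hψ₀, pullSect_smul, pullSect_smul, hψ₀, Scheme.Modules.Hom.app_smul]
  have hres : ∀ {W W' : Y.Opens} (h : W' ≤ W) (σ : Γ(L, W)),
      ψ₀ W' (res L h σ) = res M h (ψ₀ W σ) := by
    intro W W' h σ
    apply hI W'
    rw [hψ₀, pullSect_res f M h, hψ₀, phi_res f φ h]
  let ψ : L ⟶ M := homOfApp (fun W => AddMonoidHom.mk' (ψ₀ W) (hadd W)) hsmul hres
  have hψ : ∀ (W : Y.Opens) (l : Γ(L, W)), ψ.app W l = ψ₀ W l := fun W l => rfl
  refine ⟨ψ, ?_, ?_⟩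
  · apply pullback_hom_ext
    intro W l
    rw [pullSect_naturality, hψ, hψ₀]
  · intro ψ' hψ'
    apply Scheme.Modules.hom_ext
    intro W
    ext l
    apply hI W
    rw [hψ, hψ₀, ← hψ', pullSect_naturality]

end Main

end Groth.Agent.Lib.Helper29.LFD
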