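import Groth.Agent.Lib.Helper29.RegRep2

/-! The left regular representation (helper29, for S11207). -/

set_option autoImplicit false
universe u
open CategoryTheory MonoidalCategory CartesianMonoidalCategory MonObj AlgebraicGeometry Opposite
open TensorProduct

namespace Groth.Agent.Lib.Helper29.RegRep

open Groth.Agent.Lib.Helper29.AffAttr Groth.Agent.Lib.Helper29.RTrans VecGrp

variable {k : Type u} [Field k]

attribute [local instance] algk

section TauL

variable {G : Over (Spec (CommRingCat.of k))} [GrpObj G]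

/-- left translation of `T × G` by the inverse of a `T`-point of `G`. -/
noncomputable def τL {T : Over (Spec (CommRingCat.of k))} (g : T ⟶ G) : T ⊗ G ⟶ T ⊗ G :=
  lift (CartesianMonoidalCategory.fst T G)
    ((CartesianMonoidalCategory.fst T G ≫ g)⁻¹ * CartesianMonoidalCategory.snd T G)

theorem τL_fst {T : Over (Spec (CommRingCat.of k))} (g : T ⟶ G) :
    τL g ≫ CartesianMonoidalCategory.fst T G = CartesianMonoidalCategory.fst T G := lift_fst _ _

theorem τL_snd {T : Over (Spec (CommRingCat.of k))} (g : T ⟶ G) :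
    τL g ≫ CartesianMonoidalCategory.snd T G =
      (CartesianMonoidalCategory.fst T G ≫ g)⁻¹ * CartesianMonoidalCategory.snd T G := lift_snd _ _

theorem τL_one (T : Over (Spec (CommRingCat.of k))) : τL (1 : T ⟶ G) = 𝟙 _ := by
  apply CartesianMonoidalCategory.hom_ext
  · rw [τL_fst, Category.id_comp]
  · rw [τL_snd, MonObj.comp_one, inv_one, _root_.one_mul, Category.id_comp]

theorem comp_inv' {T T' : Over (Spec (CommRingCat.of k))} (u : T' ⟶ T) (g : T ⟶ G) :
    u ≫ g⁻¹ = (u ≫ g)⁻¹ := by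
  apply eq_inv_of_mul_eq_one_left
  rw [← MonObj.comp_mul, inv_mul_cancel, MonObj.comp_one]

theorem τL_mul {T : Over (Spec (CommRingCat.of k))} (g g' : T ⟶ G) : τL (g * g') = τL g ≫ τL g' := by
  apply CartesianMonoidalCategory.hom_ext
  · rw [τL_fst, Category.assoc, τL_fst, τL_fst]
  · rw [τL_snd, Category.assoc, τL_snd, MonObj.comp_mul, MonObj.comp_mul, τL_snd, comp_inv',
      ← Category.assoc, τL_fst, mul_inv_rev, _root_.mul_assoc]

theorem τL_nat {T' T : Over (Spec (CommRingCat.of k))} (u : T' ⟶ T) (g : T ⟶ G) :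
    (u ▷ G) ≫ τL g = τL (u ≫ g) ≫ (u ▷ G) := by
  apply CartesianMonoidalCategory.hom_ext
  · rw [Category.assoc, τL_fst, Category.assoc, whiskerRight_fst, ← Category.assoc, τL_fst]
  · rw [Category.assoc, τL_snd, Category.assoc, whiskerRight_snd, τL_snd, MonObj.comp_mul,
      whiskerRight_snd, comp_inv', ← Category.assoc, whiskerRight_fst, Category.assoc]

end TauL

section RhoL

variable {G : Over (Spec (CommRingCat.of k))} [GrpObj G] [IsAffine G.left]
  (B : Type u) [CommRing B] [Algebra k B]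

/-- left translation by a `B`-point on `B ⊗ Γ(G)`, as a `k`-algebra map. -/
noncomputable def rhoL (g : VecGrp.pt k B ⟶ G) : B ⊗[k] Γ(G.left, ⊤) →ₐ[k] B ⊗[k] Γ(G.left, ⊤) :=
  ((θe B G).symm : _ →ₐ[k] _).comp ((appK (τL g)).comp (θe B G : _ →ₐ[k] _))

theorem θ_rhoL (g : VecGrp.pt k B ⟶ G) (z : B ⊗[k] Γ(G.left, ⊤)) :
    θ B G (rhoL B g z) = appK (τL g) (θ B G z) := by
  change θe B G ((θe B G).symm (appK (τL g) (θe B G z))) = _
  rw [AlgEquiv.apply_symm_apply]
  rfl

theorem rhoL_one (z : B ⊗[k] Γ(G.left, ⊤)) : rhoL B (1 : VecGrp.pt k B ⟶ G) z = z := by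
  apply θ_injective B
  rw [θ_rhoL, τL_one, appK_id]

theorem rhoL_mul (g g' : VecGrp.pt k B ⟶ G) (z : B ⊗[k] Γ(G.left, ⊤)) :
    rhoL B (g * g') z = rhoL B g (rhoL B g' z) := by
  apply θ_injective B
  rw [θ_rhoL, θ_rhoL, θ_rhoL, τL_mul, appK_comp]

theorem rhoL_tmul_one (g : VecGrp.pt k B ⟶ G) (b : B) :
    rhoL B g (b ⊗ₜ (1 : Γ(G.left, ⊤))) = b ⊗ₜ 1 := by
  apply θ_injective B
  rw [θ_rhoL, θ_tmul, map_one, _root_.mul_one, ← appK_comp, τL_fst]

theorem rhoL_smul (g : VecGrp.pt k B ⟶ G) (b : B) (z : B ⊗[k] Γ(G.left, ⊤)) :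
    rhoL B g (b • z) = b • rhoL B g z := by
  have h : ∀ w : B ⊗[k] Γ(G.left, ⊤), b • w = (b ⊗ₜ (1 : Γ(G.left, ⊤))) * w := fun w => by
    rw [Algebra.smul_def]
    rfl
  rw [h, h, map_mul, rhoL_tmul_one]

/-- left translation as a `B`-linear automorphism. -/
noncomputable def rhoLE (g : VecGrp.pt k B ⟶ G) :
    B ⊗[k] Γ(G.left, ⊤) ≃ₗ[B] B ⊗[k] Γ(G.left, ⊤) :=
  { toFun := rhoL B g
    invFun := rhoL B g⁻¹
    map_add' := map_add _
    map_smul' := fun b z => rhoL_smul B g b z
    left_inv := fun z => by rw [← rhoL_mul, inv_mul_cancel, rhoL_one]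
    right_inv := fun z => by rw [← rhoL_mul, mul_inv_cancel, rhoL_one] }

theorem rhoLE_apply (g : VecGrp.pt k B ⟶ G) (z : B ⊗[k] Γ(G.left, ⊤)) : rhoLE B g z = rhoL B g z := rfl

end RhoL

section LReg

variable (G : Over (Spec (CommRingCat.of k))) [GrpObj G] [IsAffine G.left]

/-- **the left regular representation** of `G` on `Γ(G)`: `(g · f)(x) = f(g⁻¹ x)`. -/
noncomputable def lreg : VecGrp.GMod G Γ(G.left, ⊤) where
  ρ B _ _ :=
    { toFun := fun h => rhoLE B h
      map_one' := by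
        ext z
        rw [rhoLE_apply, rhoL_one]
        rfl
      map_mul' := fun h h' => by
        ext z
        rw [rhoLE_apply, rhoL_mul]
        rfl }
  naturality {B B'} _ _ _ _ φ g x := by
    change Wmap φ (rhoL B g x) = rhoL B' (ptMap φ ≫ g) (Wmap φ x)
    apply θ_injective B'
    rw [θ_Wmap, θ_rhoL, θ_rhoL, θ_Wmap, ← appK_comp, ← appK_comp, τL_nat]

theorem lreg_apply (B : Type u) [CommRing B] [Algebra k B] (h : VecGrp.pt k B ⟶ G)
    (z : B ⊗[k] Γ(G.left, ⊤)) : (lreg G).ρ B h z = rhoL B h z := rfl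

theorem lreg_isMult : (lreg G).IsMult := by
  intro B _ _ g
  constructor
  · intro x y
    rw [lreg_apply, lreg_apply, lreg_apply, map_mul]
  · rw [lreg_apply, map_one]

end LReg

end Groth.Agent.Lib.Helper29.RegRep
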