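import Mathlib

/-! Linear independence and pure tensors over a field (helper29). -/

set_option autoImplicit false
open TensorProduct

namespace Groth.Agent.Lib.Helper29.TmulIndep

variable {K M N : Type*} [CommRing K] [AddCommGroup M] [Module K M] [AddCommGroup N] [Module K N]

/-- coordinate functionals for a linearly independent family over a field -/
theorem exists_dual (hK : IsField K) {ι : Type*} [DecidableEq ι] (v : ι → M)
    (hv : LinearIndependent K v) (i : ι) :
    ∃ φ : M →ₗ[K] K, ∀ j, φ (v j) = if j = i then 1 else 0 := by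
  letI := hK.toField
  let φ₀ : Submodule.span K (Set.range v) →ₗ[K] K := (Finsupp.lapply i).comp hv.repr
  obtain ⟨φ, hφ⟩ := LinearMap.exists_extend φ₀
  refine ⟨φ, fun j => ?_⟩
  have h1 : φ (v j) = φ₀ ⟨v j, Submodule.subset_span ⟨j, rfl⟩⟩ := by
    rw [← hφ]
    rfl
  rw [h1]
  change (hv.repr ⟨v j, _⟩) i = _
  rw [hv.repr_eq_single j ⟨v j, Submodule.subset_span ⟨j, rfl⟩⟩ rfl, Finsupp.single_apply]

theorem left (hK : IsField K) {ι : Type*} [Fintype ι] (v : ι → M)
    (hv : LinearIndependent K v) (w : ι → N) (h : ∑ i, v i ⊗ₜ[K] w i = 0) (i : ι) : w i = 0 := by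
  classical
  obtain ⟨φ, hφ⟩ := exists_dual hK v hv i
  have h1 := congrArg (fun t => TensorProduct.lid K N (LinearMap.rTensor N φ t)) h
  simp only [map_sum, LinearMap.rTensor_tmul, TensorProduct.lid_tmul, map_zero, hφ] at h1
  simpa using h1

theorem right (hK : IsField K) {ι : Type*} [Fintype ι] (v : ι → N)
    (hv : LinearIndependent K v) (w : ι → M) (h : ∑ i, w i ⊗ₜ[K] v i = 0) (i : ι) : w i = 0 := by
  classical
  obtain ⟨φ, hφ⟩ := exists_dual hK v hv i
  have h1 := congrArg (fun t => TensorProduct.rid K M (LinearMap.lTensor M φ t)) h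
  simp only [map_sum, LinearMap.lTensor_tmul, TensorProduct.rid_tmul, map_zero, hφ] at h1
  simpa using h1

end Groth.Agent.Lib.Helper29.TmulIndep
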