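import Groth.Agent.Lib.Helper29.Kun2
import Groth.Agent.Lib.Helper29.TmulIndep

/-! Local finiteness of the regular representation of a group scheme over a field:
functional equations (helper29, for S18101). -/

set_option autoImplicit false
universe u
open CategoryTheory MonoidalCategory CartesianMonoidalCategory MonObj AlgebraicGeometry Opposite
open TensorProduct

namespace Groth.Agent.Lib.Helper29.LinRep

open Groth.Agent.Lib.Helper29.AffAttr Groth.Agent.Lib.Helper29.Kun

variable {k : Type u} [Field k]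

attribute [local instance] Groth.Agent.Lib.Helper29.AffAttr.algΓ

theorem appAlg_lift_mul {T P Q : Over (Spec (CommRingCat.of k))} (x : T ⟶ P) (y : T ⟶ Q)
    (a : Γ(P.left, ⊤)) (b : Γ(Q.left, ⊤)) :
    appAlg (lift x y) (appAlg (CartesianMonoidalCategory.fst P Q) a *
      appAlg (CartesianMonoidalCategory.snd P Q) b) = appAlg x a * appAlg y b := by
  rw [map_mul, ← appAlg_comp, ← appAlg_comp, lift_fst, lift_snd]

section Indep

variable (P Q : Over (Spec (CommRingCat.of k))) [CompactSpace P.left]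
  [QuasiSeparatedSpace P.left] [CompactSpace Q.left] [QuasiSeparatedSpace Q.left]

theorem indep_left_eq_zero {J : Type*} [Fintype J] (v : J → Γ(P.left, ⊤))
    (hv : LinearIndependent Γ(Spec (CommRingCat.of k), ⊤) v) (w : J → Γ(Q.left, ⊤))
    (h : ∑ i, appAlg (CartesianMonoidalCategory.fst P Q) (v i) *
      appAlg (CartesianMonoidalCategory.snd P Q) (w i) = 0) (i : J) : w i = 0 := by
  refine TmulIndep.left (isField_Γ_Spec k) v hv w ?_ i
  apply (Θ_bijective P Q).1
  rw [map_zero, ← h, map_sum]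
  exact Finset.sum_congr rfl fun l _ => Θ_tmul P Q _ _

theorem expand_right_inj {Λ : Type*}
    (e : Module.Basis Λ Γ(Spec (CommRingCat.of k), ⊤) Γ(Q.left, ⊤))
    (c c' : Λ →₀ Γ(P.left, ⊤))
    (h : (c.sum fun l m => appAlg (CartesianMonoidalCategory.fst P Q) m *
        appAlg (CartesianMonoidalCategory.snd P Q) (e l)) =
      (c'.sum fun l m => appAlg (CartesianMonoidalCategory.fst P Q) m *
        appAlg (CartesianMonoidalCategory.snd P Q) (e l))) : c = c' := by
  rw [← sub_eq_zero]
  apply expand_right_eq_zero P Q e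
  rw [Finsupp.sum_sub_index, h, sub_self]
  intro l m m'
  rw [map_sub, sub_mul]

end Indep

section Co

variable (G : Over (Spec (CommRingCat.of k))) [GrpObj G] [CompactSpace G.left]
  [QuasiSeparatedSpace G.left] {Λ : Type*}
  (e : Module.Basis Λ Γ(Spec (CommRingCat.of k), ⊤) Γ(G.left, ⊤))

/-- coefficients of `h(xy)` along the basis `e` in the variable `y`. -/
noncomputable def co (h : Γ(G.left, ⊤)) : Λ →₀ Γ(G.left, ⊤) :=
  Classical.choose (exists_expand_right G G e (appAlg μ[G] h))

theorem co_spec (h : Γ(G.left, ⊤)) :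
    ((co G e h).sum fun l m => appAlg (CartesianMonoidalCategory.fst G G) m *
      appAlg (CartesianMonoidalCategory.snd G G) (e l)) = appAlg μ[G] h :=
  Classical.choose_spec (exists_expand_right G G e (appAlg μ[G] h))

theorem fe {T : Over (Spec (CommRingCat.of k))} (x y : T ⟶ G) (h : Γ(G.left, ⊤)) :
    appAlg (x * y) h = (co G e h).sum fun l m => appAlg x m * appAlg y (e l) := by
  rw [Hom.mul_def, appAlg_comp, ← co_spec G e h, Finsupp.sum, Finsupp.sum, map_sum]
  exact Finset.sum_congr rfl fun l _ => appAlg_lift_mul x y _ _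

end Co

section Stab

variable (G : Over (Spec (CommRingCat.of k))) [GrpObj G] [CompactSpace G.left]
  [QuasiSeparatedSpace G.left] [CompactSpace (G ⊗ G).left] [QuasiSeparatedSpace (G ⊗ G).left]
  {Λ : Type*} (e : Module.Basis Λ Γ(Spec (CommRingCat.of k), ⊤) Γ(G.left, ⊤))

set_option maxHeartbeats 1000000 in
/-- the span of the coefficient functions is stable under right translation. -/
theorem stab (f : Γ(G.left, ⊤)) (ν : Λ) :
    appAlg μ[G] (co G e f ν) =
      (co G e f).sum fun l a => appAlg (CartesianMonoidalCategory.fst G G) a *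
        appAlg (CartesianMonoidalCategory.snd G G) (co G e (e l) ν) := by
  classical
  let X : (G ⊗ G) ⊗ G ⟶ G :=
    CartesianMonoidalCategory.fst (G ⊗ G) G ≫ CartesianMonoidalCategory.fst G G
  let Y : (G ⊗ G) ⊗ G ⟶ G :=
    CartesianMonoidalCategory.fst (G ⊗ G) G ≫ CartesianMonoidalCategory.snd G G
  let Z : (G ⊗ G) ⊗ G ⟶ G := CartesianMonoidalCategory.snd (G ⊗ G) G
  have hXY : X * Y = CartesianMonoidalCategory.fst (G ⊗ G) G ≫ μ[G] := by
    rw [Hom.mul_def]
    congr 1
    apply CartesianMonoidalCategory.hom_ext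
    · rw [lift_fst]
    · rw [lift_snd]
  let F : Λ → Γ((G ⊗ G).left, ⊤) → Γ(((G ⊗ G) ⊗ G).left, ⊤) := fun l m =>
    appAlg (CartesianMonoidalCategory.fst (G ⊗ G) G) m *
      appAlg (CartesianMonoidalCategory.snd (G ⊗ G) G) (e l)
  have hF0 : ∀ l, F l 0 = 0 := fun l => by
    change appAlg _ 0 * _ = 0
    rw [map_zero, zero_mul]
  have hFadd : ∀ l x y, F l (x + y) = F l x + F l y := fun l x y => by
    change appAlg _ (x + y) * _ = appAlg _ x * _ + appAlg _ y * _
    rw [map_add, add_mul]
  let d₁ : Λ →₀ Γ((G ⊗ G).left, ⊤) := (co G e f).mapRange (appAlg μ[G]) (map_zero _)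
  let φ : Γ(G.left, ⊤) → Γ(G.left, ⊤) → Γ((G ⊗ G).left, ⊤) := fun a w =>
    appAlg (CartesianMonoidalCategory.fst G G) a * appAlg (CartesianMonoidalCategory.snd G G) w
  have hφ0 : ∀ a, φ a 0 = 0 := fun a => by
    change _ * appAlg _ 0 = 0
    rw [map_zero, mul_zero]
  let d₂ : Λ →₀ Γ((G ⊗ G).left, ⊤) :=
    (co G e f).sum fun l a => (co G e (e l)).mapRange (φ a) (hφ0 a)
  have h1 : d₁.sum F = appAlg ((X * Y) * Z) f := by
    rw [fe G e, Finsupp.sum_mapRange_index hF0]
    refine Finsupp.sum_congr fun l _ => ?_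
    change appAlg _ (appAlg μ[G] _) * _ = _
    rw [hXY, appAlg_comp]
  have h2 : d₂.sum F = appAlg (X * (Y * Z)) f := by
    rw [fe G e]
    change (∑ l ∈ (co G e f).support, (co G e (e l)).mapRange (φ (co G e f l))
      (hφ0 (co G e f l))).sum F = _
    rw [← Finsupp.sum_finsetSum_index hF0 hFadd]
    refine Finset.sum_congr rfl fun l _ => ?_
    rw [Finsupp.sum_mapRange_index hF0]
    change _ = appAlg X (co G e f l) * appAlg (Y * Z) (e l)
    rw [fe G e, Finsupp.mul_sum]
    refine Finsupp.sum_congr fun l' _ => ?_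
    change appAlg _ (appAlg _ _ * appAlg _ _) * appAlg _ _ = _
    rw [map_mul, ← appAlg_comp, ← appAlg_comp, _root_.mul_assoc]
  have h3 : d₁ = d₂ := expand_right_inj (G ⊗ G) G e d₁ d₂ (by
    change d₁.sum F = d₂.sum F
    rw [h1, h2, _root_.mul_assoc])
  have h4 := DFunLike.congr_fun h3 ν
  change appAlg μ[G] (co G e f ν) = _ at h4
  rw [h4]
  change ((co G e f).sum fun l a => (co G e (e l)).mapRange (φ a) (hφ0 a)) ν = _
  rw [Finsupp.sum_apply]
  rfl

end Stab

end Groth.Agent.Lib.Helper29.LinRep
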