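import Groth.Agent.Lib.Helper29.LinRep1

/-! Local finiteness of the regular representation: matrix coefficients (helper29, for S18101). -/

set_option autoImplicit false
universe u
open CategoryTheory MonoidalCategory CartesianMonoidalCategory MonObj AlgebraicGeometry Opposite
open TensorProduct

namespace Groth.Agent.Lib.Helper29.LinRep

open Groth.Agent.Lib.Helper29.AffAttr Groth.Agent.Lib.Helper29.Kun

variable {k : Type u} [Field k]

attribute [local instance] Groth.Agent.Lib.Helper29.AffAttr.algΓ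

section A1

variable (P Q : Over (Spec (CommRingCat.of k)))

/-- re-expansion of a finite sum along a spanning family. -/
theorem reexpand {J L : Type*} [Fintype J] [Fintype L] (b : J → Γ(P.left, ⊤))
    (a : L → Γ(P.left, ⊤)) (c : L → Γ(Q.left, ⊤))
    (ha : ∀ l, a l ∈ Submodule.span Γ(Spec (CommRingCat.of k), ⊤) (Set.range b)) :
    ∃ m : J → Γ(Q.left, ⊤),
      ∑ l, appAlg (CartesianMonoidalCategory.fst P Q) (a l) *
        appAlg (CartesianMonoidalCategory.snd P Q) (c l) =
      ∑ i, appAlg (CartesianMonoidalCategory.fst P Q) (b i) *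
        appAlg (CartesianMonoidalCategory.snd P Q) (m i) := by
  classical
  have hs : ∀ l, ∃ s : J → Γ(Spec (CommRingCat.of k), ⊤), ∑ i, s i • b i = a l := fun l =>
    (Submodule.mem_span_range_iff_exists_fun _).1 (ha l)
  choose s hs using hs
  refine ⟨fun i => ∑ l, s l i • c l, ?_⟩
  calc ∑ l, appAlg (CartesianMonoidalCategory.fst P Q) (a l) *
        appAlg (CartesianMonoidalCategory.snd P Q) (c l)
      = ∑ l, ∑ i, appAlg (CartesianMonoidalCategory.fst P Q) (b i) *
          appAlg (CartesianMonoidalCategory.snd P Q) (s l i • c l) := by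
        refine Finset.sum_congr rfl fun l _ => ?_
        rw [← hs l, map_sum, Finset.sum_mul]
        refine Finset.sum_congr rfl fun i _ => ?_
        rw [map_smul, map_smul, smul_mul_assoc, mul_smul_comm]
    _ = ∑ i, ∑ l, appAlg (CartesianMonoidalCategory.fst P Q) (b i) *
          appAlg (CartesianMonoidalCategory.snd P Q) (s l i • c l) := Finset.sum_comm
    _ = _ := by
        refine Finset.sum_congr rfl fun i _ => ?_
        rw [map_sum, Finset.mul_sum]

end A1

theorem exists_indep_sub {K M : Type*} [CommRing K] [AddCommGroup M] [Module K M] (hK : IsField K)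
    {L : Type u} (v : L → M) :
    ∃ (J : Type u) (a : J → L), Function.Injective a ∧
      Submodule.span K (Set.range (v ∘ a)) = Submodule.span K (Set.range v) ∧
      LinearIndependent K (v ∘ a) := by
  letI := hK.toField
  exact exists_linearIndependent' K v

section A2

variable (G : Over (Spec (CommRingCat.of k))) [GrpObj G] [CompactSpace G.left]
  [QuasiSeparatedSpace G.left] [CompactSpace (G ⊗ G).left] [QuasiSeparatedSpace (G ⊗ G).left]

theorem appAlg_toUnit (T : Over (Spec (CommRingCat.of k))) (r : Γ(Spec (CommRingCat.of k), ⊤)) :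
    appAlg (toUnit T) r = algebraMap Γ(Spec (CommRingCat.of k), ⊤) Γ(T.left, ⊤) r := by
  have h := (appAlg (toUnit T)).commutes r
  rw [← h]
  congr 1

set_option maxHeartbeats 1000000 in
/-- **local finiteness with matrix coefficients**: every function lies in the span of a finite
linearly independent family which is stable under right translations. -/
theorem exists_matrix (f : Γ(G.left, ⊤)) :
    ∃ (J : Type u) (_ : Fintype J) (b : J → Γ(G.left, ⊤)) (m : J → J → Γ(G.left, ⊤)),
      LinearIndependent Γ(Spec (CommRingCat.of k), ⊤) b ∧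
      f ∈ Submodule.span Γ(Spec (CommRingCat.of k), ⊤) (Set.range b) ∧
      ∀ j, appAlg μ[G] (b j) = ∑ i, appAlg (CartesianMonoidalCategory.fst G G) (b i) *
        appAlg (CartesianMonoidalCategory.snd G G) (m i j) := by
  classical
  obtain ⟨Λ, ⟨e⟩⟩ := AffAttrAlg.exists_basis_of_isField (isField_Γ_Spec k) Γ(G.left, ⊤)
  let F : Finset Λ := (co G e f).support
  let a : F → Γ(G.left, ⊤) := fun l => co G e f l
  let c : F → F → Γ(G.left, ⊤) := fun l ν => co G e (e l) ν
  have hstab : ∀ ν : F, appAlg μ[G] (a ν) =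
      ∑ l : F, appAlg (CartesianMonoidalCategory.fst G G) (a l) *
        appAlg (CartesianMonoidalCategory.snd G G) (c l ν) := fun ν => by
    rw [stab G e f ν, Finsupp.sum, ← Finset.sum_coe_sort]
  have hf : f ∈ Submodule.span Γ(Spec (CommRingCat.of k), ⊤) (Set.range a) := by
    have h1 := fe G e (𝟙 G) (1 : G ⟶ G) f
    rw [_root_.mul_one] at h1
    have h2 : f = ∑ l : F, (show Γ(Spec (CommRingCat.of k), ⊤) from appAlg η[G] (e l)) • a l := by
      have h3 : appAlg (𝟙 G) f = f := by
        rw [appAlg_apply]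
        simp
      rw [← h3, h1, Finsupp.sum, ← Finset.sum_coe_sort]
      refine Finset.sum_congr rfl fun l _ => ?_
      rw [Hom.one_def, appAlg_comp, appAlg_toUnit, Algebra.smul_def, _root_.mul_comm]
      congr 1
    rw [h2]
    exact Submodule.sum_mem _ fun l _ => Submodule.smul_mem _ _ (Submodule.subset_span ⟨l, rfl⟩)
  obtain ⟨J, ι₀, hinj, hspan, hli⟩ := exists_indep_sub (isField_Γ_Spec k) a
  haveI : Finite J := Finite.of_injective ι₀ hinj
  haveI : Fintype J := Fintype.ofFinite J
  have hmem : ∀ l, a l ∈ Submodule.span Γ(Spec (CommRingCat.of k), ⊤) (Set.range (a ∘ ι₀)) :=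
    fun l => by
      rw [hspan]
      exact Submodule.subset_span ⟨l, rfl⟩
  have hm : ∀ j : J, ∃ m : J → Γ(G.left, ⊤),
      appAlg μ[G] ((a ∘ ι₀) j) = ∑ i, appAlg (CartesianMonoidalCategory.fst G G) ((a ∘ ι₀) i) *
        appAlg (CartesianMonoidalCategory.snd G G) (m i) := fun j => by
    obtain ⟨m, hm⟩ := reexpand G G (a ∘ ι₀) a (fun l => c l (ι₀ j)) hmem
    exact ⟨m, by rw [← hm]; exact hstab (ι₀ j)⟩
  choose m hm using hm
  refine ⟨J, inferInstance, a ∘ ι₀, fun i j => m j i, hli, ?_, hm⟩
  rw [hspan]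
  exact hf

end A2

section A3

variable (G : Over (Spec (CommRingCat.of k))) [GrpObj G] [CompactSpace G.left]
  [QuasiSeparatedSpace G.left] [CompactSpace (G ⊗ G).left] [QuasiSeparatedSpace (G ⊗ G).left]
  {J : Type*} [Fintype J] (b : J → Γ(G.left, ⊤)) (m : J → J → Γ(G.left, ⊤))
  (hm : ∀ j, appAlg μ[G] (b j) = ∑ i, appAlg (CartesianMonoidalCategory.fst G G) (b i) *
        appAlg (CartesianMonoidalCategory.snd G G) (m i j))

include hm in
theorem fe_b {T : Over (Spec (CommRingCat.of k))} (x y : T ⟶ G) (j : J) :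
    appAlg (x * y) (b j) = ∑ i, appAlg x (b i) * appAlg y (m i j) := by
  rw [Hom.mul_def, appAlg_comp, hm, map_sum]
  exact Finset.sum_congr rfl fun i _ => appAlg_lift_mul x y _ _

theorem pull_sum {T : Over (Spec (CommRingCat.of k))} (y z : T ⟶ G) (u v : J → Γ(G.left, ⊤)) :
    appAlg (lift y z) (∑ l, appAlg (CartesianMonoidalCategory.fst G G) (u l) *
        appAlg (CartesianMonoidalCategory.snd G G) (v l)) = ∑ l, appAlg y (u l) * appAlg z (v l) := by
  rw [map_sum]
  exact Finset.sum_congr rfl fun i _ => appAlg_lift_mul y z _ _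

include hm in
theorem matrix_one [DecidableEq J] (hli : LinearIndependent Γ(Spec (CommRingCat.of k), ⊤) b)
    (i j : J) :
    (show Γ(Spec (CommRingCat.of k), ⊤) from appAlg η[G] (m i j)) = if i = j then 1 else 0 := by
  have h1 := fe_b G b m hm (𝟙 G) (1 : G ⟶ G) j
  rw [_root_.mul_one] at h1
  have h2 : ∑ i, ((show Γ(Spec (CommRingCat.of k), ⊤) from appAlg η[G] (m i j)) -
      if i = j then 1 else 0) • b i = 0 := by
    simp_rw [sub_smul]
    rw [Finset.sum_sub_distrib, sub_eq_zero]
    have h3 : ∑ i, (if i = j then (1 : Γ(Spec (CommRingCat.of k), ⊤)) else 0) • b i = b j := by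
      simp
    rw [h3]
    have h4 : appAlg (𝟙 G) (b j) = b j := rfl
    rw [← h4, h1]
    refine Finset.sum_congr rfl fun i _ => ?_
    rw [Hom.one_def, appAlg_comp, appAlg_toUnit, Algebra.smul_def, _root_.mul_comm]
    rfl
  have h5 := Fintype.linearIndependent_iff.1 hli _ h2 i
  exact sub_eq_zero.1 h5

include hm in
set_option maxHeartbeats 1000000 in
theorem matrix_mul (hli : LinearIndependent Γ(Spec (CommRingCat.of k), ⊤) b) (i j : J) :
    appAlg μ[G] (m i j) = ∑ l, appAlg (CartesianMonoidalCategory.fst G G) (m i l) *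
        appAlg (CartesianMonoidalCategory.snd G G) (m l j) := by
  classical
  let x : G ⊗ (G ⊗ G) ⟶ G := CartesianMonoidalCategory.fst G (G ⊗ G)
  let s : G ⊗ (G ⊗ G) ⟶ G ⊗ G := CartesianMonoidalCategory.snd G (G ⊗ G)
  let y : G ⊗ (G ⊗ G) ⟶ G := s ≫ CartesianMonoidalCategory.fst G G
  let z : G ⊗ (G ⊗ G) ⟶ G := s ≫ CartesianMonoidalCategory.snd G G
  have hyz : y * z = s ≫ μ[G] := by
    rw [Hom.mul_def]
    congr 1
    apply CartesianMonoidalCategory.hom_ext
    · rw [lift_fst]
    · rw [lift_snd]
  let w : J → Γ((G ⊗ G).left, ⊤) := fun l => appAlg μ[G] (m l j) -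
    ∑ i, appAlg (CartesianMonoidalCategory.fst G G) (m l i) *
        appAlg (CartesianMonoidalCategory.snd G G) (m i j)
  have h1 : appAlg ((x * y) * z) (b j) = ∑ l, appAlg x (b l) *
      appAlg s (∑ i, appAlg (CartesianMonoidalCategory.fst G G) (m l i) *
        appAlg (CartesianMonoidalCategory.snd G G) (m i j)) := by
    rw [fe_b G b m hm]
    simp_rw [fe_b G b m hm x y, Finset.sum_mul]
    rw [Finset.sum_comm]
    refine Finset.sum_congr rfl fun l _ => ?_
    rw [map_sum, Finset.mul_sum]
    refine Finset.sum_congr rfl fun i _ => ?_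
    rw [map_mul, ← appAlg_comp, ← appAlg_comp, _root_.mul_assoc]
  have h2 : appAlg (x * (y * z)) (b j) = ∑ l, appAlg x (b l) *
      appAlg s (appAlg μ[G] (m l j)) := by
    rw [fe_b G b m hm]
    refine Finset.sum_congr rfl fun l _ => ?_
    rw [hyz, appAlg_comp]
  have h3 : ∑ l, appAlg x (b l) * appAlg s (w l) = 0 := by
    simp_rw [w, map_sub, mul_sub]
    rw [Finset.sum_sub_distrib, ← h1, ← h2, _root_.mul_assoc, sub_self]
  have h4 := indep_left_eq_zero G (G ⊗ G) b hli w h3 i
  exact sub_eq_zero.1 h4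

end A3

end Groth.Agent.Lib.Helper29.LinRep
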