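import Groth.Agent.Lib.Helper29.LinRep2
import Groth.Agent.Lib.Helper29.FixPt3
import Groth.Prelude.Def_AlgGrp

/-! Affine space over a field and linear actions on it from matrix coefficients
(helper29, for S18101). -/

set_option autoImplicit false
universe u
open CategoryTheory MonoidalCategory CartesianMonoidalCategory MonObj AlgebraicGeometry Opposite
open TensorProduct

namespace Groth.Agent.Lib.Helper29.LinRep

open Groth.Agent.Lib.Helper29.AffAttr Groth.Agent.Lib.Helper29.Kun
open Groth.Agent.Lib.Helper29.FixPt Groth.Agent.Lib.Helper21.GaPts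

variable (k : Type u) [Field k]

attribute [local instance] Groth.Agent.Lib.Helper29.AffAttr.algΓ

section Aff

variable (J : Type u)

/-- affine space with coordinates indexed by `J`. -/
noncomputable abbrev AJ : Over (Spec (CommRingCat.of k)) := sp k (MvPolynomial J k)

variable {J}

/-- the coordinate functions. -/
noncomputable def xx (i : J) : Γ((AJ k J).left, ⊤) :=
  fnHom k (MvPolynomial J k) (MvPolynomial.X i)

theorem evalHom_left_algebraMap {R : Type u} [CommRing R] [Algebra k R]
    {T : Over (Spec (CommRingCat.of k))} (a : T ⟶ sp k R) :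
    (evalHom (show T.left ⟶ Spec (CommRingCat.of R) from a.left)).comp (algebraMap k R) =
      evalHom T.hom := by
  have h : (show T.left ⟶ Spec (CommRingCat.of R) from a.left) ≫
      Spec.map (CommRingCat.ofHom (algebraMap k R)) = T.hom := Over.w a
  rw [← h]
  exact (evalHom_specMap _ _).symm

theorem aff_ext {T : Over (Spec (CommRingCat.of k))} (a b : T ⟶ AJ k J)
    (h : ∀ i, appAlg a (xx k i) = appAlg b (xx k i)) : a = b := by
  ext : 1
  apply evalHom_injective
  apply MvPolynomial.ringHom_ext
  · intro c
    have h1 := congrArg (fun t => t c) (evalHom_left_algebraMap k a)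
    have h2 := congrArg (fun t => t c) (evalHom_left_algebraMap k b)
    exact h1.trans h2.symm
  · intro i
    exact h i

/-- a point of affine space from its coordinates. -/
noncomputable def toAff {T : Over (Spec (CommRingCat.of k))} (v : J → Γ(T.left, ⊤)) :
    T ⟶ AJ k J :=
  toSp k (MvPolynomial.eval₂Hom (evalHom T.hom) v) (by
    ext c
    change MvPolynomial.eval₂Hom (evalHom T.hom) v (MvPolynomial.C c) = _
    exact MvPolynomial.eval₂Hom_C _ _ _)

theorem appAlg_toAff {T : Over (Spec (CommRingCat.of k))} (v : J → Γ(T.left, ⊤)) (i : J) :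
    appAlg (toAff k v) (xx k i) = v i := by
  rw [appAlg_apply]
  exact (toSp_fn k _ _ _).trans (MvPolynomial.eval₂Hom_X' _ _ _)

end Aff

section Act

variable {k}
variable (G : Over (Spec (CommRingCat.of k))) [GrpObj G]
  {J : Type u} [Fintype J] (m : J → J → Γ(G.left, ⊤))

/-- the linear action morphism attached to a matrix of functions. -/
noncomputable def linAct : G ⊗ AJ k J ⟶ AJ k J :=
  toAff k fun i => ∑ j, appAlg (CartesianMonoidalCategory.fst G (AJ k J)) (m i j) *
    appAlg (CartesianMonoidalCategory.snd G (AJ k J)) (xx k j)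

theorem comp_linAct {Z : Over (Spec (CommRingCat.of k))} (φ : Z ⟶ G ⊗ AJ k J) (i : J) :
    appAlg (φ ≫ linAct G m) (xx k i) =
      ∑ j, appAlg (φ ≫ CartesianMonoidalCategory.fst G (AJ k J)) (m i j) *
        appAlg (φ ≫ CartesianMonoidalCategory.snd G (AJ k J)) (xx k j) := by
  rw [appAlg_comp, linAct, appAlg_toAff, map_sum]
  refine Finset.sum_congr rfl fun j _ => ?_
  rw [map_mul, ← appAlg_comp, ← appAlg_comp]

theorem lift_linAct {T : Over (Spec (CommRingCat.of k))} (g : T ⟶ G) (ξ : T ⟶ AJ k J) (i : J) :
    appAlg (lift g ξ ≫ linAct G m) (xx k i) = ∑ j, appAlg g (m i j) * appAlg ξ (xx k j) := by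
  rw [comp_linAct, lift_fst, lift_snd]

variable [DecidableEq J]
  (h1 : ∀ i j, (show Γ(Spec (CommRingCat.of k), ⊤) from appAlg η[G] (m i j)) =
    if i = j then 1 else 0)
  (hmul : ∀ i j, appAlg μ[G] (m i j) = ∑ l, appAlg (CartesianMonoidalCategory.fst G G) (m i l) *
        appAlg (CartesianMonoidalCategory.snd G G) (m l j))

set_option maxHeartbeats 1000000 in
/-- the linear action attached to a multiplicative matrix of functions. -/
noncomputable def linAction : AlgGrp.Action G (AJ k J) where
  act := linAct G m
  one_act := by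
    apply aff_ext
    intro i
    rw [comp_linAct, whiskerRight_fst, whiskerRight_snd, leftUnitor_hom]
    have h2 : ∀ j, appAlg (CartesianMonoidalCategory.fst (𝟙_ (Over (Spec (CommRingCat.of k))))
        (AJ k J) ≫ η[G]) (m i j) = if i = j then 1 else 0 := fun j => by
      rw [appAlg_comp]
      have := h1 i j
      change appAlg η[G] (m i j) = _ at this
      rw [this]
      split_ifs
      · exact map_one _
      · exact map_zero _
    simp_rw [h2]
    simp
  mul_act := by
    apply aff_ext
    intro i
    rw [comp_linAct, whiskerRight_fst, whiskerRight_snd, ← Category.assoc,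
      comp_linAct G m ((α_ G G (AJ k J)).hom ≫ (G ◁ linAct G m))]
    have e1 : ((α_ G G (AJ k J)).hom ≫ (G ◁ linAct G m)) ≫
        CartesianMonoidalCategory.fst G (AJ k J) =
        CartesianMonoidalCategory.fst (G ⊗ G) (AJ k J) ≫ CartesianMonoidalCategory.fst G G := by
      rw [Category.assoc, whiskerLeft_fst, associator_hom_fst]
    have e2 : ((α_ G G (AJ k J)).hom ≫ (G ◁ linAct G m)) ≫
        CartesianMonoidalCategory.snd G (AJ k J) =
        ((α_ G G (AJ k J)).hom ≫ CartesianMonoidalCategory.snd G (G ⊗ AJ k J)) ≫ linAct G m := by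
      rw [Category.assoc, whiskerLeft_snd, Category.assoc]
    have e3 : ((α_ G G (AJ k J)).hom ≫ CartesianMonoidalCategory.snd G (G ⊗ AJ k J)) ≫
        CartesianMonoidalCategory.fst G (AJ k J) =
        CartesianMonoidalCategory.fst (G ⊗ G) (AJ k J) ≫ CartesianMonoidalCategory.snd G G := by
      rw [Category.assoc, associator_hom_snd_fst]
    have e4 : ((α_ G G (AJ k J)).hom ≫ CartesianMonoidalCategory.snd G (G ⊗ AJ k J)) ≫
        CartesianMonoidalCategory.snd G (AJ k J) =
        CartesianMonoidalCategory.snd (G ⊗ G) (AJ k J) := by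
      rw [Category.assoc, associator_hom_snd_snd]
    rw [e1, e2]
    simp_rw [comp_linAct G m ((α_ G G (AJ k J)).hom ≫
      CartesianMonoidalCategory.snd G (G ⊗ AJ k J)), e3, e4]
    have e5 : ∀ j, appAlg (CartesianMonoidalCategory.fst (G ⊗ G) (AJ k J) ≫ μ[G]) (m i j) =
        ∑ l, appAlg (CartesianMonoidalCategory.fst (G ⊗ G) (AJ k J) ≫
          CartesianMonoidalCategory.fst G G) (m i l) *
          appAlg (CartesianMonoidalCategory.fst (G ⊗ G) (AJ k J) ≫
          CartesianMonoidalCategory.snd G G) (m l j) := fun j => by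
      rw [appAlg_comp, hmul, map_sum]
      refine Finset.sum_congr rfl fun l _ => ?_
      rw [map_mul, ← appAlg_comp, ← appAlg_comp]
    simp_rw [e5, Finset.sum_mul, Finset.mul_sum]
    rw [Finset.sum_comm]
    refine Finset.sum_congr rfl fun l _ => ?_
    refine Finset.sum_congr rfl fun j _ => ?_
    rw [_root_.mul_assoc]

end Act

end Groth.Agent.Lib.Helper29.LinRep
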