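import Groth.Agent.Lib.Helper29.LinRep3

/-! Affine space is a variety (helper29, for S18101). -/

set_option autoImplicit false
universe u
open CategoryTheory MonoidalCategory CartesianMonoidalCategory MonObj AlgebraicGeometry Opposite
open TensorProduct

namespace Groth.Agent.Lib.Helper29.LinRep

open Groth.Agent.Lib.Helper29.AffAttr Groth.Agent.Lib.Helper29.Kun
open Groth.Agent.Lib.Helper29.FixPt Groth.Agent.Lib.Helper21.GaPts

variable (k : Type u) [Field k] (J : Type u)

attribute [local instance] Groth.Agent.Lib.Helper29.AffAttr.algΓ

theorem AJ_hom : (AJ k J).hom =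
    Spec.map (CommRingCat.ofHom (MvPolynomial.C : k →+* MvPolynomial J k)) := rfl

instance [Finite J] : LocallyOfFiniteType (AJ k J).hom := by
  change LocallyOfFiniteType (Spec.map (CommRingCat.ofHom
    (MvPolynomial.C : k →+* MvPolynomial J k)))
  rw [HasRingHomProperty.Spec_iff (P := @LocallyOfFiniteType)]
  change (algebraMap k (MvPolynomial J k)).FiniteType
  rw [RingHom.finiteType_algebraMap]
  infer_instance

instance : QuasiCompact (AJ k J).hom := by
  change QuasiCompact (Spec.map (CommRingCat.ofHom
    (MvPolynomial.C : k →+* MvPolynomial J k)))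
  infer_instance

instance : IsSeparated (AJ k J).hom := by
  change IsSeparated (Spec.map (CommRingCat.ofHom
    (MvPolynomial.C : k →+* MvPolynomial J k)))
  infer_instance

instance : GeometricallyIntegral (AJ k J).hom := by
  change GeometricallyIntegral (Spec.map (CommRingCat.ofHom
    (MvPolynomial.C : k →+* MvPolynomial J k)))
  have h := AffineSpace.SpecIso_inv_over (n := J) (CommRingCat.of k)
  have h2 : GeometricallyIntegral ((AffineSpace.SpecIso J (CommRingCat.of k)).inv ≫
      𝔸(J; Spec (CommRingCat.of k)) ↘ Spec (CommRingCat.of k)) :=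
    (MorphismProperty.cancel_left_of_respectsIso @GeometricallyIntegral _ _).mpr inferInstance
  rw [h] at h2
  exact h2

end Groth.Agent.Lib.Helper29.LinRep
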