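import Groth.Agent.Lib.Helper29.LinRep4
import Groth.Agent.Lib.Helper10.RigidAA4

/-! Anti-affine groups and actions with a fixed point (helper29, for S18101). -/

set_option autoImplicit false
universe u
open CategoryTheory MonoidalCategory CartesianMonoidalCategory MonObj AlgebraicGeometry Opposite
open TensorProduct

namespace Groth.Agent.Lib.Helper29.LinRep

open Groth.Agent.Lib.Helper29.AffAttr Groth.Agent.Lib.Helper29.Kun
open Groth.Agent.Lib.Helper29.FixPt Groth.Agent.Lib.Helper21.GaPts

variable {k : Type u} [Field k]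

attribute [local instance] Groth.Agent.Lib.Helper29.AffAttr.algΓ

section Inst

variable (A B : Over (Spec (CommRingCat.of k)))

theorem compact_left [QuasiCompact A.hom] : CompactSpace A.left :=
  QuasiCompact.compactSpace_of_compactSpace A.hom

theorem qs_left [LocallyOfFiniteType A.hom] : QuasiSeparatedSpace A.left := by
  haveI := Groth.Agent.Lib.Helper10.RigidAA.quasiSeparated_of_lft A
  exact quasiSeparatedSpace_of_quasiSeparated A.hom

theorem qc_tensor [QuasiCompact A.hom] [QuasiCompact B.hom] : QuasiCompact (A ⊗ B).hom :=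
  inferInstanceAs (QuasiCompact (Limits.pullback.fst A.hom B.hom ≫ A.hom))

theorem lft_tensor [LocallyOfFiniteType A.hom] [LocallyOfFiniteType B.hom] :
    LocallyOfFiniteType (A ⊗ B).hom :=
  inferInstanceAs (LocallyOfFiniteType (Limits.pullback.fst A.hom B.hom ≫ A.hom))

end Inst

section Conv

variable (G : Over (Spec (CommRingCat.of k))) [GrpObj G] [CompactSpace G.left]
  [QuasiSeparatedSpace G.left] [CompactSpace (G ⊗ G).left] [QuasiSeparatedSpace (G ⊗ G).left]

set_option maxHeartbeats 1000000 in
/-- if all linear actions of `G` on affine spaces are trivial, then all functions on `G` are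
constant. -/
theorem const_of_trivial
    (hG : ∀ (J : Type u) [Fintype J] (a : AlgGrp.Action G (AJ k J))
      (x : 𝟙_ (Over (Spec (CommRingCat.of k))) ⟶ AJ k J), a.IsFixedPt x →
      a.act = CartesianMonoidalCategory.snd G (AJ k J))
    (f : Γ(G.left, ⊤)) :
    ∃ r : Γ(Spec (CommRingCat.of k), ⊤), G.hom.appTop.hom r = f := by
  classical
  obtain ⟨J, _, b, m, hli, hf, hm⟩ := exists_matrix G f
  have h1 := matrix_one G b m hm hli
  have hmul := matrix_mul G b m hm hli
  let A := linAction G m h1 hmul
  let o : 𝟙_ (Over (Spec (CommRingCat.of k))) ⟶ AJ k J := toAff k fun _ => 0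
  have hfix : A.IsFixedPt o := by
    intro T g
    apply aff_ext
    intro i
    change appAlg (lift g (toUnit T ≫ o) ≫ linAct G m) (xx k i) = _
    rw [lift_linAct]
    have ho : ∀ j, appAlg o (xx k j) = 0 := fun j => appAlg_toAff k _ j
    simp_rw [appAlg_comp (toUnit T) o, ho, map_zero, mul_zero]
    rw [Finset.sum_const_zero]
  have htriv : linAct G m = CartesianMonoidalCategory.snd G (AJ k J) := hG J A o hfix
  have hδ : ∀ i j, m i j = if i = j then 1 else 0 := by
    intro i j₀
    let ξ : G ⟶ AJ k J := toAff k fun j => if j = j₀ then 1 else 0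
    have h2 := lift_linAct G m (𝟙 G) ξ i
    rw [htriv, lift_snd] at h2
    have hξ : ∀ j, appAlg ξ (xx k j) = if j = j₀ then 1 else 0 := fun j => appAlg_toAff k _ j
    simp_rw [hξ] at h2
    have h3 : ∀ j, appAlg (𝟙 G) (m i j) = m i j := fun j => rfl
    simp_rw [h3] at h2
    rw [Finset.sum_eq_single j₀] at h2
    · rw [if_pos rfl, _root_.mul_one] at h2
      exact h2.symm
    · intro j _ hj
      rw [if_neg hj, mul_zero]
    · intro h
      exact absurd (Finset.mem_univ _) h
  have hb : ∀ j, b j ∈ LinearMap.range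
      (Algebra.linearMap Γ(Spec (CommRingCat.of k), ⊤) Γ(G.left, ⊤)) := by
    intro j
    have h4 := fe_b G b m hm (1 : G ⟶ G) (𝟙 G) j
    rw [_root_.one_mul] at h4
    have h3 : ∀ t : Γ(G.left, ⊤), appAlg (𝟙 G) t = t := fun t => rfl
    simp_rw [h3, hδ] at h4
    rw [Finset.sum_eq_single j] at h4
    · rw [if_pos rfl, _root_.mul_one, Hom.one_def, appAlg_comp, appAlg_toUnit] at h4
      exact ⟨_, h4.symm⟩
    · intro i _ hi
      rw [if_neg hi, mul_zero]
    · intro h
      exact absurd (Finset.mem_univ _) h
  have h5 : f ∈ LinearMap.range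
      (Algebra.linearMap Γ(Spec (CommRingCat.of k), ⊤) Γ(G.left, ⊤)) := by
    refine (Submodule.span_le.2 ?_) hf
    rintro _ ⟨j, rfl⟩
    exact hb j
  obtain ⟨r, hr⟩ := h5
  exact ⟨r, hr⟩

end Conv

section Dir

open Groth.Agent.Lib.Helper10.RigidAA

set_option backward.isDefEq.respectTransparency.types false in
set_option maxHeartbeats 1000000 in
/-- an anti-affine group acts trivially on a connected separated scheme as soon as it has a
fixed rational point. -/
theorem trivial_of_bijective (G : Over (Spec (CommRingCat.of k))) [GrpObj G]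
    [LocallyOfFiniteType G.hom] [QuasiCompact G.hom]
    (hG : Function.Bijective ((Scheme.ΓSpecIso (CommRingCat.of k)).inv ≫ G.hom.appTop).hom)
    (X : Over (Spec (CommRingCat.of k))) [LocallyOfFiniteType X.hom] [IsSeparated X.hom]
    [GeometricallyIntegral X.hom] (a : AlgGrp.Action G X)
    (x : 𝟙_ (Over (Spec (CommRingCat.of k))) ⟶ X) (hx : a.IsFixedPt x) :
    a.act = CartesianMonoidalCategory.snd G X := by
  haveI := quasiSeparated_of_lft G
  haveI : IsLocallyNoetherian X.left := LocallyOfFiniteType.isLocallyNoetherian X.hom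
  haveI : IsIntegral X.left := GeometricallyIntegral.isIntegral_of_subsingleton X.hom
  haveI : ConnectedSpace X.left := inferInstance
  haveI : Nonempty (𝟙_ (Over (Spec (CommRingCat.of k)))).left :=
    (inferInstance : Nonempty (Spec (CommRingCat.of k)))
  have h0 : (G ◁ x) ≫ a.act =
      CartesianMonoidalCategory.snd G (𝟙_ (Over (Spec (CommRingCat.of k)))) ≫ x := by
    have h := hx (G ⊗ 𝟙_ (Over (Spec (CommRingCat.of k))))
      (CartesianMonoidalCategory.fst G (𝟙_ (Over (Spec (CommRingCat.of k)))))
    have e1 : G ◁ x = lift (CartesianMonoidalCategory.fst G (𝟙_ (Over (Spec (CommRingCat.of k)))))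
        (toUnit (G ⊗ 𝟙_ (Over (Spec (CommRingCat.of k)))) ≫ x) := by
      apply CartesianMonoidalCategory.hom_ext
      · rw [whiskerLeft_fst, lift_fst]
      · rw [whiskerLeft_snd, lift_snd]
        congr 1
        exact toUnit_unique _ _
    rw [e1, h]
    congr 1
    exact toUnit_unique _ _
  have hgood : Good η[G] a.act x := good_of_factor η[G] a.act x x h0
  have h1 := rigidity G X X hG η[G] a.act x hgood
  have h2 : lift (toUnit X ≫ η[G]) (𝟙 X) ≫ a.act = 𝟙 X := by
    have e2 : lift (toUnit X ≫ η[G]) (𝟙 X) = lift (toUnit X) (𝟙 X) ≫ (η[G] ▷ X) := by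
      apply CartesianMonoidalCategory.hom_ext
      · rw [lift_fst, Category.assoc, whiskerRight_fst, lift_fst_assoc]
      · rw [lift_snd, Category.assoc, whiskerRight_snd, lift_snd]
    rw [e2, Category.assoc, a.one_act, leftUnitor_hom, lift_snd]
  rw [h1, h2, Category.comp_id]

end Dir

end Groth.Agent.Lib.Helper29.LinRep
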