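import Groth.Agent.Lib.Helper29.LinRep6
import Groth.Agent.Lib.Helper29.GModMat

/-! Variants for integral varieties (helper29, for S11405). -/

set_option autoImplicit false
universe u
open CategoryTheory MonoidalCategory CartesianMonoidalCategory MonObj AlgebraicGeometry Opposite
open TensorProduct

namespace Groth.Agent.Lib.Helper29.LinRep

open Groth.Agent.Lib.Helper29.AffAttr Groth.Agent.Lib.Helper29.Kun
open Groth.Agent.Lib.Helper10.RigidAA

variable {k : Type u} [Field k]

attribute [local instance] Groth.Agent.Lib.Helper29.AffAttr.algΓ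

instance (J : Type u) : IsIntegral (AJ k J).left := by
  change IsIntegral (Spec (CommRingCat.of (MvPolynomial J k)))
  infer_instance

set_option backward.isDefEq.respectTransparency.types false in
set_option maxHeartbeats 1000000 in
/-- an anti-affine group acts trivially on a connected separated scheme as soon as it has a
fixed rational point. -/
theorem trivial_of_bijective_conn (G : Over (Spec (CommRingCat.of k))) [GrpObj G]
    [LocallyOfFiniteType G.hom] [QuasiCompact G.hom]
    (hG : Function.Bijective ((Scheme.ΓSpecIso (CommRingCat.of k)).inv ≫ G.hom.appTop).hom)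
    (X : Over (Spec (CommRingCat.of k))) [LocallyOfFiniteType X.hom] [IsSeparated X.hom]
    [ConnectedSpace X.left] (a : AlgGrp.Action G X)
    (x : 𝟙_ (Over (Spec (CommRingCat.of k))) ⟶ X) (hx : a.IsFixedPt x) :
    a.act = CartesianMonoidalCategory.snd G X := by
  haveI := quasiSeparated_of_lft G
  haveI : IsLocallyNoetherian X.left := LocallyOfFiniteType.isLocallyNoetherian X.hom
  haveI : Nonempty (𝟙_ (Over (Spec (CommRingCat.of k)))).left :=
    (inferInstance : Nonempty (Spec (CommRingCat.of k)))
  have h0 : (G ◁ x) ≫ a.act =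
      CartesianMonoidalCategory.snd G (𝟙_ (Over (Spec (CommRingCat.of k)))) ≫ x := by
    have h := hx (G ⊗ 𝟙_ (Over (Spec (CommRingCat.of k))))
      (CartesianMonoidalCategory.fst G (𝟙_ (Over (Spec (CommRingCat.of k)))))
    have e1 : G ◁ x = lift (CartesianMonoidalCategory.fst G (𝟙_ (Over (Spec (CommRingCat.of k)))))
        (toUnit (G ⊗ 𝟙_ (Over (Spec (CommRingCat.of k)))) ≫ x) := by
      apply CartesianMonoidalCategory.hom_ext
      · rw [whiskerLeft_fst, lift_fst]
      · rw [whiskerLeft_snd, lift_snd]
        congr 1
        exact toUnit_unique _ _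
    rw [e1, h]
    congr 1
    exact toUnit_unique _ _
  have hgood : Good η[G] a.act x := good_of_factor η[G] a.act x x h0
  have h1 := rigidity G X X hG η[G] a.act x hgood
  have h2 : lift (toUnit X ≫ η[G]) (𝟙 X) ≫ a.act = 𝟙 X := by
    have e2 : lift (toUnit X ≫ η[G]) (𝟙 X) = lift (toUnit X) (𝟙 X) ≫ (η[G] ▷ X) := by
      apply CartesianMonoidalCategory.hom_ext
      · rw [lift_fst, Category.assoc, whiskerRight_fst, lift_fst_assoc]
      · rw [lift_snd, Category.assoc, whiskerRight_snd, lift_snd]
    rw [e2, Category.assoc, a.one_act, leftUnitor_hom, lift_snd]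
  rw [h1, h2, Category.comp_id]

end Groth.Agent.Lib.Helper29.LinRep
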