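import Groth.Agent.Lib.Helper29.LinRep6
import Groth.Agent.Lib.Helper29.GLnSmooth

/-! The homomorphism to `GL_n` attached to a multiplicative matrix of functions
(helper29, for S11234). -/

set_option autoImplicit false
universe u
open CategoryTheory MonoidalCategory CartesianMonoidalCategory MonObj AlgebraicGeometry Opposite
open TensorProduct

namespace Groth.Agent.Lib.Helper29.LinRep

open Groth.Agent.Lib.Helper29.AffAttr Groth.Agent.Lib.Helper29.Kun
open Groth.Agent.Lib.Helper29.GLPts

variable {k : Type u} [Field k]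

attribute [local instance] Groth.Agent.Lib.Helper29.AffAttr.algΓ

section HomOfMatrix

variable (G : Over (Spec (CommRingCat.of k))) [GrpObj G]
  {J : Type u} [Fintype J] [DecidableEq J] (m : J → J → Γ(G.left, ⊤))
  (h1 : ∀ i j, (show Γ(Spec (CommRingCat.of k), ⊤) from appAlg η[G] (m i j)) =
      if i = j then 1 else 0)
  (hmul : ∀ i j, appAlg μ[G] (m i j) = ∑ l, appAlg (CartesianMonoidalCategory.fst G G) (m i l) *
      appAlg (CartesianMonoidalCategory.snd G G) (m l j))

/-- the matrix reindexed by `Fin`. -/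
noncomputable def matFin : Matrix (Fin (Fintype.card J)) (Fin (Fintype.card J)) Γ(G.left, ⊤) :=
  fun a b => m ((Fintype.equivFin J).symm a) ((Fintype.equivFin J).symm b)

/-- the inverse matrix. -/
noncomputable def matFinInv : Matrix (Fin (Fintype.card J)) (Fin (Fintype.card J)) Γ(G.left, ⊤) :=
  fun a b => appAlg ι[G] (m ((Fintype.equivFin J).symm a) ((Fintype.equivFin J).symm b))

include hmul in
theorem pull_mul {T : Over (Spec (CommRingCat.of k))} (y z : T ⟶ G) (i j : J) :
    appAlg (y * z) (m i j) = ∑ l, appAlg y (m i l) * appAlg z (m l j) := by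
  rw [Hom.mul_def, appAlg_comp, hmul, map_sum]
  exact Finset.sum_congr rfl fun l _ => appAlg_lift_mul y z _ _

include h1 in
theorem pull_one {T : Over (Spec (CommRingCat.of k))} (i j : J) :
    appAlg (1 : T ⟶ G) (m i j) = if i = j then 1 else 0 := by
  rw [Hom.one_def, appAlg_comp]
  have := h1 i j
  change appAlg η[G] (m i j) = _ at this
  rw [this]
  split_ifs
  · exact map_one _
  · exact map_zero _

include h1 hmul in
theorem matFin_mul_inv : matFin G m * matFinInv G m = 1 := by
  ext a c
  rw [Matrix.mul_apply, Matrix.one_apply]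
  have h2 := pull_mul G m hmul (𝟙 G) ι[G] ((Fintype.equivFin J).symm a)
    ((Fintype.equivFin J).symm c)
  have h3 : (𝟙 G) * ι[G] = 1 := by
    rw [GrpObj.inv_eq_inv]
    exact mul_inv_cancel _
  rw [h3, pull_one G m h1] at h2
  have h4 : ∀ t : Γ(G.left, ⊤), appAlg (𝟙 G) t = t := fun t => rfl
  simp_rw [h4] at h2
  change ∑ b, (fun l => m ((Fintype.equivFin J).symm a) l *
    appAlg ι[G] (m l ((Fintype.equivFin J).symm c))) ((Fintype.equivFin J).symm b) = _
  rw [Equiv.sum_comp (Fintype.equivFin J).symm (fun l => m ((Fintype.equivFin J).symm a) l *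
    appAlg ι[G] (m l ((Fintype.equivFin J).symm c))), ← h2]
  simp only [(Fintype.equivFin J).symm.injective.eq_iff]

include h1 hmul in
theorem det_matFin : (matFin G m).det * (matFinInv G m).det = 1 := by
  rw [← Matrix.det_mul, matFin_mul_inv G m h1 hmul, Matrix.det_one]

/-- the homomorphism to `GL_n` attached to a multiplicative matrix of functions. -/
noncomputable def homOfMatrix : G ⟶ FrB.GLn (Fintype.card J) (Spec (CommRingCat.of k)) :=
  glPt (matFin G m) (matFinInv G m).det (det_matFin G m h1 hmul)

theorem glFn_homOfMatrix (a c : Fin (Fintype.card J)) :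
    glFn a c (homOfMatrix G m h1 hmul) =
      m ((Fintype.equivFin J).symm a) ((Fintype.equivFin J).symm c) :=
  glFn_glPt _ _ _ a c

set_option maxHeartbeats 1000000 in
theorem isMonHom_homOfMatrix : IsMonHom (homOfMatrix G m h1 hmul) := by
  constructor
  · apply glFn_injective
    intro a c
    have hη : η[FrB.GLn (Fintype.card J) (Spec (CommRingCat.of k))] = 1 := MonObj.one_eq_one _
    rw [glFn_comp', glFn_homOfMatrix, hη, glFn_one]
    have := h1 ((Fintype.equivFin J).symm a) ((Fintype.equivFin J).symm c)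
    change appAlg η[G] (m ((Fintype.equivFin J).symm a) ((Fintype.equivFin J).symm c)) = _ at this
    change appAlg η[G] (m ((Fintype.equivFin J).symm a) ((Fintype.equivFin J).symm c)) = _
    rw [this]
    simp only [(Fintype.equivFin J).symm.injective.eq_iff]
  · apply glFn_injective
    intro a c
    have h5 : (homOfMatrix G m h1 hmul ⊗ₘ homOfMatrix G m h1 hmul) ≫
        μ[FrB.GLn (Fintype.card J) (Spec (CommRingCat.of k))] =
        (CartesianMonoidalCategory.fst G G ≫ homOfMatrix G m h1 hmul) *
          (CartesianMonoidalCategory.snd G G ≫ homOfMatrix G m h1 hmul) := by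
      rw [Hom.mul_def]
      congr 1
    rw [h5, glFn_mul, glFn_comp', glFn_homOfMatrix]
    simp_rw [glFn_comp', glFn_homOfMatrix]
    rw [hmul]
    exact (Equiv.sum_comp (Fintype.equivFin J).symm (fun l =>
      appAlg (CartesianMonoidalCategory.fst G G) (m ((Fintype.equivFin J).symm a) l) *
      appAlg (CartesianMonoidalCategory.snd G G) (m l ((Fintype.equivFin J).symm c)))).symm

end HomOfMatrix

section Shear

variable (G : Over (Spec (CommRingCat.of k))) [GrpObj G]
  {J : Type u} [Fintype J] [DecidableEq J] (mm : J → J → Γ(G.left, ⊤))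
  (h1 : ∀ i j, (show Γ(Spec (CommRingCat.of k), ⊤) from appAlg η[G] (mm i j)) =
      if i = j then 1 else 0)
  (hmul : ∀ i j, appAlg μ[G] (mm i j) =
      ∑ l, appAlg (CartesianMonoidalCategory.fst G G) (mm i l) *
      appAlg (CartesianMonoidalCategory.snd G G) (mm l j))
  (c : J → Γ(Spec (CommRingCat.of k), ⊤))

/-- the defect `g ↦ g·c - c` of invariance of the vector `c`. -/
noncomputable def wv (j : J) : Γ(G.left, ⊤) :=
  ∑ l, mm j l * algebraMap Γ(Spec (CommRingCat.of k), ⊤) Γ(G.left, ⊤) (c l) -
    algebraMap Γ(Spec (CommRingCat.of k), ⊤) Γ(G.left, ⊤) (c j)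

include h1 in
theorem eta_wv (j : J) :
    (show Γ(Spec (CommRingCat.of k), ⊤) from appAlg η[G] (wv G mm c j)) = 0 := by
  change appAlg η[G] (wv G mm c j) = 0
  rw [wv, map_sub, map_sum]
  have h2 : ∀ l, appAlg η[G] (mm j l *
      algebraMap Γ(Spec (CommRingCat.of k), ⊤) Γ(G.left, ⊤) (c l)) =
      if j = l then appAlg η[G] (algebraMap Γ(Spec (CommRingCat.of k), ⊤) Γ(G.left, ⊤) (c l))
        else 0 := fun l => by
    rw [map_mul]
    have := h1 j l
    change appAlg η[G] (mm j l) = _ at this
    rw [this]
    split_ifs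
    · rw [_root_.one_mul]
    · rw [zero_mul]
  simp_rw [h2]
  rw [Finset.sum_ite_eq, if_pos (Finset.mem_univ _), sub_self]

include hmul in
theorem mu_wv (j : J) :
    appAlg μ[G] (wv G mm c j) =
      ∑ l, appAlg (CartesianMonoidalCategory.fst G G) (mm j l) *
        appAlg (CartesianMonoidalCategory.snd G G) (wv G mm c l) +
      appAlg (CartesianMonoidalCategory.fst G G) (wv G mm c j) := by
  have hc : ∀ (P : Over (Spec (CommRingCat.of k))) (φ : P ⟶ G)
      (r : Γ(Spec (CommRingCat.of k), ⊤)),
      appAlg φ (algebraMap Γ(Spec (CommRingCat.of k), ⊤) Γ(G.left, ⊤) r) =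
        algebraMap Γ(Spec (CommRingCat.of k), ⊤) Γ(P.left, ⊤) r := fun P φ r =>
    (appAlg φ).commutes r
  simp only [wv, map_sub, map_sum, map_mul, hc, hmul, mul_sub, Finset.sum_sub_distrib,
    Finset.sum_mul, Finset.mul_sum]
  rw [Finset.sum_comm]
  simp only [_root_.mul_assoc]
  ring

/-- the sheared matrix on `J ⊕ 1`. -/
noncomputable def shear : (J ⊕ PUnit.{u+1}) → (J ⊕ PUnit.{u+1}) → Γ(G.left, ⊤)
  | Sum.inl j, Sum.inl l => mm j l
  | Sum.inl j, Sum.inr _ => - wv G mm c j
  | Sum.inr _, Sum.inl _ => 0
  | Sum.inr _, Sum.inr _ => 1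

include h1 in
theorem shear_one (a b : J ⊕ PUnit.{u+1}) :
    (show Γ(Spec (CommRingCat.of k), ⊤) from appAlg η[G] (shear G mm c a b)) =
      if a = b then 1 else 0 := by
  rcases a with j | _ <;> rcases b with l | _
  · have := h1 j l
    simp only [shear, Sum.inl.injEq]
    exact this
  · simp only [shear, reduceCtorEq, if_false]
    change appAlg η[G] (- wv G mm c j) = 0
    rw [map_neg, neg_eq_zero]
    exact eta_wv G mm h1 c j
  · simp only [shear, reduceCtorEq, if_false]
    exact map_zero _
  · simp only [shear, if_true]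
    exact map_one _

include hmul in
theorem shear_mul (a b : J ⊕ PUnit.{u+1}) :
    appAlg μ[G] (shear G mm c a b) =
      ∑ x, appAlg (CartesianMonoidalCategory.fst G G) (shear G mm c a x) *
        appAlg (CartesianMonoidalCategory.snd G G) (shear G mm c x b) := by
  rw [Fintype.sum_sum_type]
  rcases a with j | _ <;> rcases b with l | _
  · simp only [shear, map_zero, mul_zero, Finset.sum_const_zero, add_zero]
    exact hmul j l
  · simp only [shear, map_neg, map_one, _root_.mul_one, mul_neg, Finset.sum_neg_distrib,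
      Finset.univ_unique, Finset.sum_singleton]
    rw [mu_wv G mm hmul c j, neg_add]
  · simp only [shear, map_zero, zero_mul, Finset.sum_const_zero, add_zero, mul_zero]
  · simp only [shear, map_zero, zero_mul, Finset.sum_const_zero, zero_add, map_one,
      _root_.mul_one, Finset.univ_unique, Finset.sum_singleton]

theorem wv_zero (j : J) : wv G mm (fun _ => 0) j = 0 := by
  simp [wv]

include h1 hmul in
set_option maxHeartbeats 1000000 in
/-- if `H` is epimorphic in `G` then `H`-invariant vectors of matrix representations are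
`G`-invariant. -/
theorem wv_eq_zero_of_epi {H : Over (Spec (CommRingCat.of k))} [GrpObj H] (i : H ⟶ G)
    (he : ∀ (G' : Over (Spec (CommRingCat.of k))) [GrpObj G'] [IsAffine G'.left] [Smooth G'.hom]
      (r s : G ⟶ G') [IsMonHom r] [IsMonHom s], i ≫ r = i ≫ s → r = s)
    (hH : ∀ j, appAlg i (wv G mm c j) = 0) (j : J) : wv G mm c j = 0 := by
  let ρs := homOfMatrix G (shear G mm c) (shear_one G mm h1 c) (shear_mul G mm hmul c)
  let ρr := homOfMatrix G (shear G mm (fun _ => 0)) (shear_one G mm h1 _) (shear_mul G mm hmul _)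
  haveI : IsMonHom ρs := isMonHom_homOfMatrix G _ _ _
  haveI : IsMonHom ρr := isMonHom_homOfMatrix G _ _ _
  have hsh : ∀ x y : J ⊕ PUnit.{u+1}, appAlg i (shear G mm c x y) =
      appAlg i (shear G mm (fun _ => 0) x y) := by
    intro x y
    rcases x with j | _ <;> rcases y with l | _
    · rfl
    · simp only [shear, map_neg, hH, wv_zero, map_zero]
    · rfl
    · rfl
  have key : i ≫ ρs = i ≫ ρr := by
    apply glFn_injective
    intro a b
    rw [glFn_comp', glFn_comp', glFn_homOfMatrix, glFn_homOfMatrix]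
    exact hsh _ _
  have h2 := he _ ρs ρr key
  have h3 : ∀ x y : J ⊕ PUnit.{u+1}, shear G mm c x y = shear G mm (fun _ => 0) x y := by
    intro x y
    have h4 := glFn_homOfMatrix G (shear G mm c) (shear_one G mm h1 c) (shear_mul G mm hmul c)
      (Fintype.equivFin _ x) (Fintype.equivFin _ y)
    have h5 := glFn_homOfMatrix G (shear G mm (fun _ => 0)) (shear_one G mm h1 _)
      (shear_mul G mm hmul _) (Fintype.equivFin _ x) (Fintype.equivFin _ y)
    rw [Equiv.symm_apply_apply, Equiv.symm_apply_apply] at h4 h5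
    rw [← h4, ← h5]
    exact congrArg (glFn _ _) h2
  have h6 := h3 (Sum.inl j) (Sum.inr PUnit.unit)
  simp only [shear, wv_zero, neg_zero, neg_eq_zero] at h6
  exact h6

end Shear

end Groth.Agent.Lib.Helper29.LinRep
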