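import Groth.Agent.Lib.Helper29.LinRep8
import Groth.Prelude.Def_W4bk4grossh111Obs

/-! Epimorphic subgroups: invariant functions are constant (helper29, for S11234). -/

set_option autoImplicit false
universe u
open CategoryTheory MonoidalCategory CartesianMonoidalCategory MonObj AlgebraicGeometry Opposite
open TensorProduct

namespace Groth.Agent.Lib.Helper29.LinRep

open Groth.Agent.Lib.Helper29.AffAttr Groth.Agent.Lib.Helper29.Kun
open Groth.Agent.Lib.Helper29.GLPts

variable {k : Type u} [Field k]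

attribute [local instance] Groth.Agent.Lib.Helper29.AffAttr.algΓ

section ConstOfWv

variable (G : Over (Spec (CommRingCat.of k))) [GrpObj G] [CompactSpace G.left]
  [QuasiSeparatedSpace G.left] [CompactSpace (G ⊗ G).left] [QuasiSeparatedSpace (G ⊗ G).left]
  {H : Over (Spec (CommRingCat.of k))} [GrpObj H] [CompactSpace H.left]
  [QuasiSeparatedSpace H.left] (i : H ⟶ G)

set_option maxHeartbeats 2000000 in
theorem const_of_wv
    (hc' : ∀ (J : Type u) [Fintype J] [DecidableEq J] (mm : J → J → Γ(G.left, ⊤)),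
      (∀ i j, (show Γ(Spec (CommRingCat.of k), ⊤) from appAlg η[G] (mm i j)) =
        if i = j then 1 else 0) →
      (∀ i j, appAlg μ[G] (mm i j) =
        ∑ l, appAlg (CartesianMonoidalCategory.fst G G) (mm i l) *
        appAlg (CartesianMonoidalCategory.snd G G) (mm l j)) →
      ∀ (c : J → Γ(Spec (CommRingCat.of k), ⊤)),
        (∀ j, appAlg i (wv G mm c j) = 0) → ∀ j, wv G mm c j = 0)
    (f : Γ(G.left, ⊤)) (hf : AGF.IsRTransInv i f) :
    ∃ r : Γ(Spec (CommRingCat.of k), ⊤), G.hom.appTop.hom r = f := by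
  classical
  obtain ⟨J, _, b, m, hli, hfspan, hm⟩ := exists_matrix G f
  have h1 := matrix_one G b m hm hli
  have hmul := matrix_mul G b m hm hli
  obtain ⟨c, hc⟩ := (Submodule.mem_span_range_iff_exists_fun _).1 hfspan
  have hcomm : ∀ (P Q : Over (Spec (CommRingCat.of k))) (φ : P ⟶ Q)
      (r : Γ(Spec (CommRingCat.of k), ⊤)),
      appAlg φ (algebraMap Γ(Spec (CommRingCat.of k), ⊤) Γ(Q.left, ⊤) r) =
        algebraMap Γ(Spec (CommRingCat.of k), ⊤) Γ(P.left, ⊤) r := fun P Q φ r =>
    (appAlg φ).commutes r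
  -- expansion of translates of `f`
  have hexp : ∀ {T : Over (Spec (CommRingCat.of k))} (x y : T ⟶ G),
      appAlg (x * y) f = ∑ l, appAlg x (b l) *
        appAlg y (∑ j, m l j * algebraMap Γ(Spec (CommRingCat.of k), ⊤) Γ(G.left, ⊤) (c j)) := by
    intro T x y
    rw [← hc, map_sum]
    simp_rw [map_smul, fe_b G b m hm x y, Finset.smul_sum, map_sum, Finset.mul_sum]
    rw [Finset.sum_comm]
    refine Finset.sum_congr rfl fun l _ => ?_
    refine Finset.sum_congr rfl fun j _ => ?_
    rw [map_mul, hcomm, Algebra.smul_def]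
    ring
  -- invariance under `H`
  have hH : ∀ l, appAlg i (wv G m c l) = 0 := by
    have hinv : appAlg ((G ◁ i) ≫ μ[G]) f = appAlg (CartesianMonoidalCategory.fst G H) f := hf
    have hxy : (G ◁ i) ≫ μ[G] = (CartesianMonoidalCategory.fst G H) *
        (CartesianMonoidalCategory.snd G H ≫ i) := by
      rw [Hom.mul_def]
      congr 1
    rw [hxy, hexp] at hinv
    have hrhs : appAlg (CartesianMonoidalCategory.fst G H) f =
        ∑ l, appAlg (CartesianMonoidalCategory.fst G H) (b l) *
          appAlg (CartesianMonoidalCategory.snd G H)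
            (algebraMap Γ(Spec (CommRingCat.of k), ⊤) Γ(H.left, ⊤) (c l)) := by
      rw [← hc, map_sum]
      refine Finset.sum_congr rfl fun l _ => ?_
      rw [map_smul, Algebra.smul_def, hcomm, _root_.mul_comm]
    rw [hrhs] at hinv
    have h0 : ∑ l, appAlg (CartesianMonoidalCategory.fst G H) (b l) *
        appAlg (CartesianMonoidalCategory.snd G H) (appAlg i (wv G m c l)) = 0 := by
      have h2 : ∀ l, appAlg (CartesianMonoidalCategory.snd G H) (appAlg i (wv G m c l)) =
          appAlg (CartesianMonoidalCategory.snd G H ≫ i)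
            (∑ j, m l j * algebraMap Γ(Spec (CommRingCat.of k), ⊤) Γ(G.left, ⊤) (c j)) -
          appAlg (CartesianMonoidalCategory.snd G H)
            (algebraMap Γ(Spec (CommRingCat.of k), ⊤) Γ(H.left, ⊤) (c l)) := fun l => by
        rw [wv, map_sub, map_sub, hcomm, appAlg_comp]
      simp_rw [h2, mul_sub]
      rw [Finset.sum_sub_distrib, hinv, sub_self]
    exact fun l => indep_left_eq_zero G H b hli _ h0 l
  have hG := hc' J m h1 hmul c hH
  -- `f` is constant
  have h3 := hexp (1 : G ⟶ G) (𝟙 G)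
  rw [_root_.one_mul] at h3
  have h4 : ∀ l, appAlg (𝟙 G)
      (∑ j, m l j * algebraMap Γ(Spec (CommRingCat.of k), ⊤) Γ(G.left, ⊤) (c j)) =
      algebraMap Γ(Spec (CommRingCat.of k), ⊤) Γ(G.left, ⊤) (c l) := fun l => by
    have := hG l
    rw [wv, sub_eq_zero] at this
    exact this
  have h5 : ∀ l, appAlg (1 : G ⟶ G) (b l) =
      algebraMap Γ(Spec (CommRingCat.of k), ⊤) Γ(G.left, ⊤)
        (show Γ(Spec (CommRingCat.of k), ⊤) from appAlg η[G] (b l)) := fun l => by
    rw [Hom.one_def, appAlg_comp, appAlg_toUnit]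
  simp_rw [h4, h5, ← map_mul] at h3
  rw [← map_sum] at h3
  have h6 : appAlg (𝟙 G) f = f := rfl
  rw [h6] at h3
  exact ⟨_, h3.symm⟩

end ConstOfWv

end Groth.Agent.Lib.Helper29.LinRep
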