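import Mathlib
import Groth.Agent.Lib.Helper29.QCohBasic
universe u
open CategoryTheory AlgebraicGeometry TopologicalSpace

/-! # Locally factorial schemes via principal height-one primes (EGA IV 21.6) -/

namespace Groth.Agent.Lib.Helper29.LocFact
open Groth.Agent.Lib.Helper29.QCoh

section Alg
variable {A : Type*} [CommRing A]

theorem isDomain_of_height_one_principal [IsLocalRing A] [IsNoetherianRing A] (𝔭 : Ideal A)
    [h𝔭 : 𝔭.IsPrime] (h1 : 𝔭.height = 1) (t : A) (ht : 𝔭 = Ideal.span {t}) : IsDomain A := by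
  obtain ⟨𝔮, h𝔮, h𝔮le⟩ := Ideal.exists_minimalPrimes_le (bot_le : (⊥ : Ideal A) ≤ 𝔭)
  have h𝔮p : 𝔮.IsPrime := h𝔮.1.1
  have hne : 𝔮 ≠ 𝔭 := by
    intro h
    rw [h] at h𝔮
    have := Ideal.height_eq_zero_iff.mpr h𝔮
    rw [h1] at this
    exact one_ne_zero this
  have ht𝔭 : t ∈ 𝔭 := by rw [ht]; exact Ideal.mem_span_singleton_self t
  have htq : t ∉ 𝔮 := fun htq => hne (le_antisymm h𝔮le (by
    rw [ht, Ideal.span_singleton_le_iff_mem]; exact htq))
  have hle : 𝔮 ≤ 𝔭 • 𝔮 := by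
    intro q hq
    have hq𝔭 : q ∈ Ideal.span {t} := by rw [← ht]; exact h𝔮le hq
    obtain ⟨a, rfl⟩ := Ideal.mem_span_singleton'.mp hq𝔭
    have ha : a ∈ 𝔮 := (h𝔮p.mem_or_mem hq).resolve_right htq
    rw [mul_comm]
    exact Submodule.smul_mem_smul ht𝔭 ha
  have hbot : 𝔮 = ⊥ := Submodule.eq_bot_of_le_smul_of_le_jacobson_bot 𝔭 𝔮
    (IsNoetherian.noetherian 𝔮) hle
    ((IsLocalRing.le_maximalIdeal h𝔭.ne_top).trans (IsLocalRing.maximalIdeal_le_jacobson ⊥))
  haveI : (⊥ : Ideal A).IsPrime := hbot ▸ h𝔮p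
  exact IsDomain.of_bot_isPrime A

theorem exists_height_one [IsLocalRing A] [IsNoetherianRing A] (h : ringKrullDim A ≠ 0) :
    ∃ 𝔭 : Ideal A, 𝔭.IsPrime ∧ 𝔭.height = 1 := by
  have hm : (IsLocalRing.maximalIdeal A).height ≠ 0 := by
    intro h0
    apply h
    rw [← IsLocalRing.maximalIdeal_height_eq_ringKrullDim, h0]; rfl
  have h1 : 1 ≤ (IsLocalRing.maximalIdeal A).height := Order.one_le_iff_ne_zero.mpr hm
  rcases eq_or_lt_of_le h1 with h1 | h1
  · exact ⟨_, inferInstance, h1.symm⟩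
  · have hfin : Order.height (IsLocalRing.closedPoint A) < ⊤ := by
      rw [← PrimeSpectrum.height_eq_orderHeight]
      change (IsLocalRing.maximalIdeal A).height < ⊤
      exact Ideal.height_lt_top_of_isPrime
    have h1' : ((1 : ℕ) : ℕ∞) < Order.height (IsLocalRing.closedPoint A) := by
      rw [← PrimeSpectrum.height_eq_orderHeight]
      change ((1 : ℕ) : ℕ∞) < (IsLocalRing.maximalIdeal A).height
      exact_mod_cast h1
    obtain ⟨y, -, hy⟩ := (Order.coe_lt_height_iff hfin).mp h1'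
    exact ⟨y.asIdeal, y.isPrime, by rw [PrimeSpectrum.height_eq_orderHeight, hy]; rfl⟩

theorem ufd_of_height_one_principal [IsDomain A] [IsNoetherianRing A]
    (H : ∀ 𝔭 : Ideal A, 𝔭.IsPrime → 𝔭.height = 1 → ∃ t, 𝔭 = Ideal.span {t}) :
    UniqueFactorizationMonoid A := by
  rw [UniqueFactorizationMonoid.iff_exists_prime_mem_of_isPrime]
  intro 𝔓 h𝔓 h𝔓p
  obtain ⟨a, ha𝔓, ha0⟩ := Submodule.exists_mem_ne_zero_of_ne_bot h𝔓
  obtain ⟨𝔭, h𝔭, h𝔭le⟩ := Ideal.exists_minimalPrimes_le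
    (show Ideal.span {a} ≤ 𝔓 from (Ideal.span_singleton_le_iff_mem _).mpr ha𝔓)
  haveI : 𝔭.IsPrime := h𝔭.1.1
  have hle1 : 𝔭.height ≤ 1 :=
    Ideal.height_le_one_of_isPrincipal_of_mem_minimalPrimes (Ideal.span {a}) 𝔭 h𝔭
  have ha𝔭 : a ∈ 𝔭 := h𝔭.1.2 (Ideal.mem_span_singleton_self a)
  have hne0 : 𝔭.height ≠ 0 := by
    rw [Ne, Ideal.height_eq_zero_iff_eq_bot]
    intro hb
    rw [hb] at ha𝔭
    exact ha0 (by simpa using ha𝔭)
  have h1 : 𝔭.height = 1 := le_antisymm hle1 (Order.one_le_iff_ne_zero.mpr hne0)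
  obtain ⟨t, ht⟩ := H 𝔭 inferInstance h1
  have ht0 : t ≠ 0 := by
    rintro rfl
    apply hne0
    rw [ht, Ideal.height_eq_zero_iff_eq_bot]
    simp
  refine ⟨t, h𝔭le (by rw [ht]; exact Ideal.mem_span_singleton_self t), ?_⟩
  rw [← Ideal.span_singleton_prime ht0, ← ht]
  infer_instance

theorem ufd_of_maximalIdeal_eq_bot [IsLocalRing A] (h : IsLocalRing.maximalIdeal A = ⊥) :
    ∃ _ : IsDomain A, UniqueFactorizationMonoid A := by
  have hF : IsField A := IsLocalRing.isField_iff_maximalIdeal_eq.mpr h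
  haveI : IsDomain A := hF.isDomain
  refine ⟨inferInstance, ?_⟩
  rw [UniqueFactorizationMonoid.iff_exists_prime_mem_of_isPrime]
  intro I hI hIp
  exact absurd (le_bot_iff.mp (h ▸ IsLocalRing.le_maximalIdeal hIp.ne_top)) hI

end Alg

section Sch
variable {X : Scheme.{u}}

theorem fromSpecStalk_comap {ζ x : X} (h : ζ ⤳ x) :
    X.fromSpecStalk x ⟨(IsLocalRing.maximalIdeal (X.presheaf.stalk ζ)).comap
      (X.presheaf.stalkSpecializes h).hom, inferInstance⟩ = ζ := by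
  have h1 := Scheme.SpecMap_stalkSpecializes_fromSpecStalk h
  have h2 : (Spec.map (X.presheaf.stalkSpecializes h) ≫ X.fromSpecStalk x)
      (IsLocalRing.closedPoint (X.presheaf.stalk ζ)) = ζ := by
    rw [h1]; exact Scheme.fromSpecStalk_closedPoint
  exact h2

theorem ringKrullDim_stalk_eq_height {ζ x : X} (h : ζ ⤳ x) :
    ringKrullDim (X.presheaf.stalk ζ) =
      ((IsLocalRing.maximalIdeal (X.presheaf.stalk ζ)).comap
        (X.presheaf.stalkSpecializes h).hom).height := by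
  obtain ⟨U, hU, hxU, -⟩ := exists_isAffineOpen_mem_and_subset (x := x) (U := ⊤) trivial
  have hζU : ζ ∈ U := h.mem_open U.isOpen hxU
  letI ax : Algebra Γ(X, U) (X.presheaf.stalk x) :=
    TopCat.Presheaf.algebra_section_stalk X.presheaf ⟨x, hxU⟩
  letI aζ : Algebra Γ(X, U) (X.presheaf.stalk ζ) :=
    TopCat.Presheaf.algebra_section_stalk X.presheaf ⟨ζ, hζU⟩
  haveI lx := hU.isLocalization_stalk ⟨x, hxU⟩
  haveI lζ := hU.isLocalization_stalk ⟨ζ, hζU⟩
  haveI : (hU.primeIdealOf ⟨ζ, hζU⟩).asIdeal.IsPrime := (hU.primeIdealOf ⟨ζ, hζU⟩).isPrime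
  haveI : (hU.primeIdealOf ⟨x, hxU⟩).asIdeal.IsPrime := (hU.primeIdealOf ⟨x, hxU⟩).isPrime
  rw [IsLocalization.AtPrime.ringKrullDim_eq_height (hU.primeIdealOf ⟨ζ, hζU⟩).asIdeal
    (X.presheaf.stalk ζ)]
  rw [← IsLocalization.height_under (hU.primeIdealOf ⟨x, hxU⟩).asIdeal.primeCompl
    (A := X.presheaf.stalk x)]
  congr 2
  rw [← IsLocalization.AtPrime.under_maximalIdeal (X.presheaf.stalk ζ)
    (hU.primeIdealOf ⟨ζ, hζU⟩).asIdeal]
  ext b
  simp only [Ideal.under, Ideal.mem_comap]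
  have : (X.presheaf.stalkSpecializes h).hom (algebraMap Γ(X, U) (X.presheaf.stalk x) b) =
      algebraMap Γ(X, U) (X.presheaf.stalk ζ) b :=
    TopCat.Presheaf.germ_stalkSpecializes_apply X.presheaf hxU h b
  rw [this]

variable [IsLocallyNoetherian X]

theorem exists_principal_of_height_one
    (H : ∀ ζ : X, ringKrullDim (X.presheaf.stalk ζ) = 1 → ∀ (x : X) (h : ζ ⤳ x),
        ∃ t : (X.presheaf.stalk x), t ∈ nonZeroDivisors (X.presheaf.stalk x) ∧
          (IsLocalRing.maximalIdeal (X.presheaf.stalk ζ)).comap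
            (X.presheaf.stalkSpecializes h).hom = Ideal.span {t})
    (x : X) (𝔭 : Ideal (X.presheaf.stalk x)) (h𝔭 : 𝔭.IsPrime) (h1 : 𝔭.height = 1) :
    ∃ t, 𝔭 = Ideal.span {t} := by
  have hmem : X.fromSpecStalk x ⟨𝔭, h𝔭⟩ ∈ Set.range (X.fromSpecStalk x) := ⟨_, rfl⟩
  rw [Scheme.range_fromSpecStalk] at hmem
  have hspec : X.fromSpecStalk x ⟨𝔭, h𝔭⟩ ⤳ x := hmem
  have h2 := fromSpecStalk_comap hspec
  have hinj : Function.Injective (X.fromSpecStalk x) := (X.fromSpecStalk x).isEmbedding.injective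
  have h3 := congrArg PrimeSpectrum.asIdeal (hinj h2)
  have h3' : (IsLocalRing.maximalIdeal (X.presheaf.stalk (X.fromSpecStalk x ⟨𝔭, h𝔭⟩))).comap
      (X.presheaf.stalkSpecializes hspec).hom = 𝔭 := h3
  have hdim : ringKrullDim (X.presheaf.stalk (X.fromSpecStalk x ⟨𝔭, h𝔭⟩)) = 1 := by
    rw [ringKrullDim_stalk_eq_height hspec, h3', h1]; rfl
  obtain ⟨t, -, ht⟩ := H _ hdim x hspec
  exact ⟨t, h3'.symm.trans ht⟩

theorem ufd_stalk_of_dim_ne_zero
    (H : ∀ ζ : X, ringKrullDim (X.presheaf.stalk ζ) = 1 → ∀ (x : X) (h : ζ ⤳ x),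
        ∃ t : (X.presheaf.stalk x), t ∈ nonZeroDivisors (X.presheaf.stalk x) ∧
          (IsLocalRing.maximalIdeal (X.presheaf.stalk ζ)).comap
            (X.presheaf.stalkSpecializes h).hom = Ideal.span {t})
    (x : X) (hx : ringKrullDim (X.presheaf.stalk x) ≠ 0) :
    ∃ _ : IsDomain (X.presheaf.stalk x), UniqueFactorizationMonoid (X.presheaf.stalk x) := by
  obtain ⟨𝔭, h𝔭, h1⟩ := exists_height_one hx
  obtain ⟨t, ht⟩ := exists_principal_of_height_one H x 𝔭 h𝔭 h1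
  haveI : IsDomain (X.presheaf.stalk x) := isDomain_of_height_one_principal 𝔭 h1 t ht
  exact ⟨inferInstance, ufd_of_height_one_principal (exists_principal_of_height_one H x)⟩

theorem isOpen_singleton_of_forall_specializes (x : X)
    (hdim : ringKrullDim (X.presheaf.stalk x) = 0) (hcl : ∀ y, x ⤳ y → y = x) :
    IsOpen ({x} : Set X) := by
  classical
  obtain ⟨U, hU, hxU, -⟩ := exists_isAffineOpen_mem_and_subset (x := x) (U := ⊤) trivial
  haveI : IsNoetherianRing Γ(X, U) := IsLocallyNoetherian.component_noetherian ⟨U, hU⟩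
  letI : Algebra Γ(X, U) (X.presheaf.stalk x) :=
    TopCat.Presheaf.algebra_section_stalk X.presheaf ⟨x, hxU⟩
  haveI := hU.isLocalization_stalk ⟨x, hxU⟩
  obtain ⟨P, hP⟩ : ∃ P : PrimeSpectrum Γ(X, U), P = hU.primeIdealOf ⟨x, hxU⟩ := ⟨_, rfl⟩
  haveI : IsLocalization.AtPrime (X.presheaf.stalk x) P.asIdeal := by rw [hP]; infer_instance
  obtain ⟨𝔮, h𝔮0⟩ : ∃ 𝔮 : Ideal Γ(X, U), 𝔮 = P.asIdeal := ⟨_, rfl⟩
  have h𝔮 : 𝔮 = (hU.primeIdealOf ⟨x, hxU⟩).asIdeal := by rw [h𝔮0, hP]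
  haveI h𝔮p : 𝔮.IsPrime := by rw [h𝔮0]; exact P.isPrime
  have hmin : 𝔮 ∈ minimalPrimes Γ(X, U) := by
    rw [← Ideal.height_eq_zero_iff]
    have := IsLocalization.AtPrime.ringKrullDim_eq_height P.asIdeal (X.presheaf.stalk x)
    rw [hdim, ← h𝔮0] at this
    exact_mod_cast this.symm
  obtain ⟨s, hs⟩ : ∃ s : Finset (Ideal Γ(X, U)),
      s = (minimalPrimes.finite_of_isNoetherianRing Γ(X, U)).toFinset.erase 𝔮 := ⟨_, rfl⟩
  have hmems : ∀ 𝔮' : Ideal Γ(X, U), 𝔮' ∈ s ↔ 𝔮' ≠ 𝔮 ∧ 𝔮' ∈ minimalPrimes Γ(X, U) := by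
    intro 𝔮'
    rw [hs, Finset.mem_erase, Set.Finite.mem_toFinset]
  have hnot : ¬ (s.inf id ≤ 𝔮) := by
    intro hle
    obtain ⟨𝔮', h𝔮's, h𝔮'le⟩ := (Ideal.IsPrime.inf_le' h𝔮p).mp hle
    rw [hmems] at h𝔮's
    exact h𝔮's.1 (le_antisymm h𝔮'le (hmin.2 ⟨h𝔮's.2.1.1, bot_le⟩ h𝔮'le))
  obtain ⟨f, hfs, hf𝔮⟩ := SetLike.not_le_iff_exists.mp hnot
  have hD : (X.basicOpen f : Set X) = {x} := by
    ext y
    constructor
    · intro hy
      have hyU : y ∈ U := X.basicOpen_le f hy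
      have hfy : f ∉ (hU.primeIdealOf ⟨y, hyU⟩).asIdeal :=
        (mem_basicOpen_iff_notMem_primeIdealOf hU y hyU f).mp hy
      haveI : (hU.primeIdealOf ⟨y, hyU⟩).asIdeal.IsPrime := (hU.primeIdealOf ⟨y, hyU⟩).isPrime
      obtain ⟨𝔮', h𝔮'min, h𝔮'le⟩ := Ideal.exists_minimalPrimes_le
        (bot_le : (⊥ : Ideal Γ(X, U)) ≤ (hU.primeIdealOf ⟨y, hyU⟩).asIdeal)
      have h𝔮'eq : 𝔮' = 𝔮 := by
        by_contra hne
        have h𝔮's : 𝔮' ∈ s := (hmems 𝔮').mpr ⟨hne, h𝔮'min⟩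
        exact hfy (h𝔮'le ((Finset.inf_le h𝔮's : s.inf id ≤ id 𝔮') hfs))
      rw [h𝔮'eq, h𝔮] at h𝔮'le
      have hxy : x ⤳ y := by
        have h1 : hU.primeIdealOf ⟨x, hxU⟩ ⤳ hU.primeIdealOf ⟨y, hyU⟩ :=
          (PrimeSpectrum.le_iff_specializes _ _).mp h𝔮'le
        have h2 := h1.map hU.fromSpec.continuous
        rwa [hU.fromSpec_primeIdealOf ⟨x, hxU⟩, hU.fromSpec_primeIdealOf ⟨y, hyU⟩] at h2
      exact hcl y hxy
    · intro hy
      rw [Set.mem_singleton_iff] at hy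
      rw [hy]
      exact (mem_basicOpen_iff_notMem_primeIdealOf hU x hxU f).mpr (by rw [← h𝔮]; exact hf𝔮)
  rw [← hD]
  exact (X.basicOpen f).isOpen

theorem maximalIdeal_eq_bot_of_specializes {x x' : X} (h : x ⤳ x')
    (hdim : ringKrullDim (X.presheaf.stalk x) = 0) [IsDomain (X.presheaf.stalk x')] :
    IsLocalRing.maximalIdeal (X.presheaf.stalk x) = ⊥ := by
  have h0 : ((IsLocalRing.maximalIdeal (X.presheaf.stalk x)).comap
      (X.presheaf.stalkSpecializes h).hom).height = 0 := by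
    have := ringKrullDim_stalk_eq_height h
    rw [hdim] at this
    exact_mod_cast this.symm
  rw [Ideal.height_eq_zero_iff_eq_bot] at h0
  obtain ⟨U, hU, hx'U, -⟩ := exists_isAffineOpen_mem_and_subset (x := x') (U := ⊤) trivial
  have hxU : x ∈ U := h.mem_open U.isOpen hx'U
  letI : Algebra Γ(X, U) (X.presheaf.stalk x) :=
    TopCat.Presheaf.algebra_section_stalk X.presheaf ⟨x, hxU⟩
  haveI := hU.isLocalization_stalk ⟨x, hxU⟩
  haveI : (hU.primeIdealOf ⟨x, hxU⟩).asIdeal.IsPrime := (hU.primeIdealOf ⟨x, hxU⟩).isPrime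
  rw [eq_bot_iff]
  intro s hs
  obtain ⟨b, c, rfl⟩ := IsLocalization.exists_mk'_eq (hU.primeIdealOf ⟨x, hxU⟩).asIdeal.primeCompl s
  have hb : algebraMap Γ(X, U) (X.presheaf.stalk x) b ∈
      IsLocalRing.maximalIdeal (X.presheaf.stalk x) := by
    rw [← IsLocalization.mk'_spec (X.presheaf.stalk x) b c]
    exact Ideal.mul_mem_right _ _ hs
  have hb' : (X.presheaf.germ U x' hx'U).hom b ∈
      (IsLocalRing.maximalIdeal (X.presheaf.stalk x)).comap
        (X.presheaf.stalkSpecializes h).hom := by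
    rw [Ideal.mem_comap]
    have : (X.presheaf.stalkSpecializes h).hom ((X.presheaf.germ U x' hx'U).hom b) =
        algebraMap Γ(X, U) (X.presheaf.stalk x) b :=
      TopCat.Presheaf.germ_stalkSpecializes_apply X.presheaf hx'U h b
    rw [this]
    exact hb
  rw [h0, Ideal.mem_bot] at hb'
  have hb0 : algebraMap Γ(X, U) (X.presheaf.stalk x) b = 0 := by
    have : (X.presheaf.stalkSpecializes h).hom ((X.presheaf.germ U x' hx'U).hom b) =
        algebraMap Γ(X, U) (X.presheaf.stalk x) b :=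
      TopCat.Presheaf.germ_stalkSpecializes_apply X.presheaf hx'U h b
    rw [← this, hb', map_zero]
  rw [Ideal.mem_bot, IsLocalization.mk'_eq_iff_eq_mul, hb0, zero_mul]

/-- EGA IV 21.6: principal height-one primes (with reducedness at isolated points) iff locally
factorial. -/
theorem locallyFactorial_iff
    (hred : ∀ x : X, IsOpen ({x} : Set X) → IsReduced (X.presheaf.stalk x)) :
    (∀ ζ : X, ringKrullDim (X.presheaf.stalk ζ) = 1 → ∀ (x : X) (h : ζ ⤳ x),
        ∃ t : (X.presheaf.stalk x), t ∈ nonZeroDivisors (X.presheaf.stalk x) ∧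
          (IsLocalRing.maximalIdeal (X.presheaf.stalk ζ)).comap
            (X.presheaf.stalkSpecializes h).hom = Ideal.span {t}) ↔
      ∀ x : X, ∃ _ : IsDomain (X.presheaf.stalk x),
        UniqueFactorizationMonoid (X.presheaf.stalk x) := by
  constructor
  · intro H x
    by_cases hdim : ringKrullDim (X.presheaf.stalk x) = 0
    · by_cases hop : IsOpen ({x} : Set X)
      · haveI := hred x hop
        haveI : Ring.KrullDimLE 0 (X.presheaf.stalk x) :=
          ringKrullDimZero_iff_ringKrullDim_eq_zero.mpr hdim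
        have := Ring.KrullDimLE.radical_eq_maximalIdeal (⊥ : Ideal (X.presheaf.stalk x)) bot_ne_top
        apply ufd_of_maximalIdeal_eq_bot
        rw [← this]
        exact nilradical_eq_zero _
      · have hex : ∃ x', x ⤳ x' ∧ x' ≠ x := by
          by_contra hno
          push Not at hno
          exact hop (isOpen_singleton_of_forall_specializes x hdim hno)
        obtain ⟨x', hxx', hne⟩ := hex
        have hdim' : ringKrullDim (X.presheaf.stalk x') ≠ 0 := by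
          intro h0
          haveI : Ring.KrullDimLE 0 (X.presheaf.stalk x') :=
            ringKrullDimZero_iff_ringKrullDim_eq_zero.mpr h0
          have h1 := Ring.KrullDimLE.eq_maximalIdeal_of_isPrime
            ((IsLocalRing.maximalIdeal (X.presheaf.stalk x)).comap
              (X.presheaf.stalkSpecializes hxx').hom)
          have h2 := fromSpecStalk_comap hxx'
          have h3 : X.fromSpecStalk x' (IsLocalRing.closedPoint (X.presheaf.stalk x')) = x' :=
            Scheme.fromSpecStalk_closedPoint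
          apply hne
          rw [← h3, ← h2]
          congr 1
          exact PrimeSpectrum.ext h1.symm
        obtain ⟨hdom, -⟩ := ufd_stalk_of_dim_ne_zero H x' hdim'
        exact ufd_of_maximalIdeal_eq_bot (maximalIdeal_eq_bot_of_specializes hxx' hdim)
    · exact ufd_stalk_of_dim_ne_zero H x hdim
  · intro H ζ hζ x h
    obtain ⟨hdom, hufd⟩ := H x
    have h1 : ((IsLocalRing.maximalIdeal (X.presheaf.stalk ζ)).comap
        (X.presheaf.stalkSpecializes h).hom).height = 1 := by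
      have := ringKrullDim_stalk_eq_height h
      rw [hζ] at this
      exact_mod_cast this.symm
    have hne := Ideal.ne_bot_of_height_eq_one h1
    obtain ⟨t, ht𝔭, htp⟩ := Ideal.IsPrime.exists_mem_prime_of_ne_bot inferInstance hne
    exact ⟨t, mem_nonZeroDivisors_of_ne_zero htp.ne_zero,
      Ideal.eq_span_singleton_of_height_eq_one h1 ht𝔭 htp⟩

end Sch

end Groth.Agent.Lib.Helper29.LocFact
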