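import Mathlib

set_option autoImplicit false
universe u
open CategoryTheory CategoryTheory.Limits AlgebraicGeometry TopologicalSpace Opposite

namespace Groth.Agent.Lib.Helper29.LocIsoNorm

/-- On an integral scheme with integrally closed local rings, an element of the function field
integral over the global sections is a global section. -/
theorem exists_section_of_isIntegral (X : Scheme.{u}) [IsIntegral X]
    (hN : ∀ x : X, IsIntegrallyClosed (X.presheaf.stalk x))
    (x' : X.functionField)
    (hx : (X.presheaf.germ ⊤ (genericPoint X) trivial).hom.IsIntegralElem x') :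
    ∃ s : Γ(X, ⊤), X.presheaf.germ ⊤ (genericPoint X) trivial s = x' := by
  haveI hne : Nonempty (⊤ : X.Opens) := ⟨⟨(inferInstance : Nonempty X).some, trivial⟩⟩
  let K := X.functionField
  obtain ⟨p, hpm, hp'⟩ := hx
  change Polynomial.eval₂ (algebraMap Γ(X, ⊤) K) x' p = 0 at hp'
  change ∃ s : Γ(X, ⊤), X.germToFunctionField ⊤ s = x'
  have hloc : ∀ y : X, ∃ (W : X.Opens) (hW : Nonempty W) (_ : y ∈ W) (t : Γ(X, W)),
      X.germToFunctionField W t = x' := by
    intro y
    have := hN y
    have hint : IsIntegral (X.presheaf.stalk y) x' := by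
      refine ⟨p.map (X.presheaf.germ ⊤ y trivial).hom, hpm.map _, ?_⟩
      rw [Polynomial.eval₂_map]
      have : (algebraMap (X.presheaf.stalk y) K).comp (X.presheaf.germ ⊤ y trivial).hom =
          algebraMap Γ(X, ⊤) K := by
        ext f
        exact X.algebraMap_germ_eq_germToFunctionField (U := ⊤) (x := y) trivial f
      rw [this]
      exact hp'
    obtain ⟨s, hs⟩ := IsIntegrallyClosed.isIntegral_iff.mp hint
    obtain ⟨W, hyW, t, ht⟩ := X.presheaf.exists_germ_eq s
    have hW : Nonempty W := ⟨⟨y, hyW⟩⟩
    refine ⟨W, hW, hyW, t, ?_⟩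
    rw [← X.algebraMap_germ_eq_germToFunctionField hyW t, ht, hs]
  choose W hWne hyW t ht using hloc
  have hcompat : TopCat.Presheaf.IsCompatible X.sheaf.1 W t := by
    intro i j
    have hgen : genericPoint X ∈ W i ⊓ W j := by
      constructor
      · exact ((genericPoint_spec X).mem_open_set_iff (W i).isOpen).mpr
          (by simpa using hWne i)
      · exact ((genericPoint_spec X).mem_open_set_iff (W j).isOpen).mpr
          (by simpa using hWne j)
    have hne' : Nonempty (W i ⊓ W j : X.Opens) := ⟨⟨_, hgen⟩⟩
    apply X.germToFunctionField_injective (W i ⊓ W j)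
    have e1 : X.germToFunctionField (W i ⊓ W j)
        (X.presheaf.map (Opens.infLELeft (W i) (W j)).op (t i)) =
        X.germToFunctionField (W i) (t i) :=
      X.presheaf.germ_res_apply (Opens.infLELeft (W i) (W j)) (genericPoint X) hgen (t i)
    have e2 : X.germToFunctionField (W i ⊓ W j)
        (X.presheaf.map (Opens.infLERight (W i) (W j)).op (t j)) =
        X.germToFunctionField (W j) (t j) :=
      X.presheaf.germ_res_apply (Opens.infLERight (W i) (W j)) (genericPoint X) hgen (t j)
    exact (e1.trans (ht i)).trans ((e2.trans (ht j)).symm)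
  obtain ⟨s, hs, -⟩ := X.sheaf.existsUnique_gluing' W ⊤ (fun i => homOfLE le_top)
    (fun y _ => Opens.mem_iSup.mpr ⟨y, hyW y⟩) t hcompat
  let s' : Γ(X, ⊤) := s
  refine ⟨s', ?_⟩
  have y0 : X := (inferInstance : Nonempty X).some
  have hgen : genericPoint X ∈ W y0 :=
    ((genericPoint_spec X).mem_open_set_iff (W y0).isOpen).mpr (by simpa using hWne y0)
  have e1 : X.germToFunctionField (W y0) (X.presheaf.map (homOfLE le_top).op s') =
      X.germToFunctionField ⊤ s' :=
    X.presheaf.germ_res_apply (homOfLE (le_top : W y0 ≤ ⊤)) (genericPoint X) hgen s'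
  have e2 : X.presheaf.map (homOfLE (le_top : W y0 ≤ ⊤)).op s' = t y0 := hs y0
  rw [e2, ht] at e1
  exact e1.symm

/-- Restriction form: a section over a nonempty open `U` integral over the global sections extends
to a global section. -/
theorem exists_section_of_isIntegralElem (X : Scheme.{u}) [IsIntegral X]
    (hN : ∀ x : X, IsIntegrallyClosed (X.presheaf.stalk x))
    (U : X.Opens) [Nonempty U] (b : Γ(X, U))
    (hb : (X.presheaf.map (homOfLE (le_top : U ≤ ⊤)).op).hom.IsIntegralElem b) :
    ∃ s : Γ(X, ⊤), X.presheaf.map (homOfLE (le_top : U ≤ ⊤)).op s = b := by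
  have hgen : genericPoint X ∈ U :=
    ((genericPoint_spec X).mem_open_set_iff U.isOpen).mpr (by simpa using ‹Nonempty U›)
  have hcomp : ∀ s : Γ(X, ⊤), X.germToFunctionField U
      (X.presheaf.map (homOfLE (le_top : U ≤ ⊤)).op s) =
        X.presheaf.germ ⊤ (genericPoint X) trivial s := fun s =>
    X.presheaf.germ_res_apply (homOfLE (le_top : U ≤ ⊤)) (genericPoint X) hgen s
  obtain ⟨p, hpm, hp⟩ := hb
  have hint : (X.presheaf.germ ⊤ (genericPoint X) trivial).hom.IsIntegralElem
      (X.germToFunctionField U b) := by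
    refine ⟨p, hpm, ?_⟩
    have h1 : (X.presheaf.germ ⊤ (genericPoint X) trivial).hom =
        (X.germToFunctionField U).hom.comp (X.presheaf.map (homOfLE (le_top : U ≤ ⊤)).op).hom := by
      ext s
      exact (hcomp s).symm
    rw [h1, ← Polynomial.hom_eval₂, hp, map_zero]
  obtain ⟨s, hs⟩ := exists_section_of_isIntegral X hN _ hint
  refine ⟨s, ?_⟩
  apply X.germToFunctionField_injective U
  rw [hcomp]
  exact hs

end Groth.Agent.Lib.Helper29.LocIsoNorm
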