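import Mathlib
import Groth.Agent.Lib.Helper29.LocIsoNorm1

set_option autoImplicit false
universe u
open CategoryTheory CategoryTheory.Limits AlgebraicGeometry TopologicalSpace Opposite

namespace Groth.Agent.Lib.Helper29.LocIsoNorm

/-- Abstract algebra: if `ρ : C → B` is injective and every `ρ`-integral element of `B` comes from
`C`, then every element of `B` integral over the integral closure `A'` of `A` in `C` comes from
`A'`. -/
theorem exists_integralClosure_of_isIntegralElem {A C B : Type*} [CommRing A] [CommRing C]
    [CommRing B] [Algebra A C] (ρ : C →+* B) (hρ : Function.Injective ρ)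
    (hK : ∀ b : B, ρ.IsIntegralElem b → ∃ c : C, ρ c = b) (b : B)
    (hb : (ρ.comp (integralClosure A C).val.toRingHom).IsIntegralElem b) :
    ∃ a : integralClosure A C, ρ (a : C) = b := by
  obtain ⟨p, hpm, hp⟩ := hb
  have h1 : ρ.IsIntegralElem b := by
    refine ⟨p.map (integralClosure A C).val.toRingHom, hpm.map _, ?_⟩
    rw [Polynomial.eval₂_map]
    exact hp
  obtain ⟨s, rfl⟩ := hK b h1
  have h2 : IsIntegral (integralClosure A C) s := by
    refine ⟨p, hpm, ?_⟩
    apply hρ
    rw [map_zero, Polynomial.hom_eval₂]
    exact hp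
  have h3 : s ∈ integralClosure (integralClosure A C) C := h2
  rw [integralClosure_idem] at h3
  obtain ⟨a, ha⟩ := h3
  exact ⟨a, by rw [← ha]; rfl⟩

/-- variant of `exists_section_of_isIntegralElem` for an open `O'` equal to `⊤`. -/
theorem exists_section_of_isIntegralElem' (X : Scheme.{u}) [IsIntegral X]
    (hN : ∀ x : X, IsIntegrallyClosed (X.presheaf.stalk x))
    (O' : X.Opens) (hO' : O' = ⊤) (O : X.Opens) [Nonempty O] (hle : O ≤ O') (b : Γ(X, O))
    (hb : (X.presheaf.map (homOfLE hle).op).hom.IsIntegralElem b) :
    ∃ s : Γ(X, O'), X.presheaf.map (homOfLE hle).op s = b := by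
  subst hO'
  exact exists_section_of_isIntegralElem X hN O b hb

end Groth.Agent.Lib.Helper29.LocIsoNorm
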