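import Mathlib
import Groth.Agent.Lib.Helper29.LocIsoNorm2

set_option autoImplicit false
universe u
open CategoryTheory CategoryTheory.Limits AlgebraicGeometry TopologicalSpace Opposite

namespace Groth.Agent.Lib.Helper29.LocIsoNorm

theorem isIso_fromNormalization_ι_comp {P Y : Scheme.{u}} [IsIntegral P]
    (hN : ∀ x : P, IsIntegrallyClosed (P.presheaf.stalk x)) [IsAffine Y] (f : P ⟶ Y)
    [QuasiCompact f] [QuasiSeparated f] (U : P.Opens) [Nonempty U]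
    [QuasiCompact (U.ι ≫ f.toNormalization)] [QuasiSeparated (U.ι ≫ f.toNormalization)] :
    IsIso (U.ι ≫ f.toNormalization).fromNormalization := by
  have hYtop : IsAffineOpen (⊤ : Y.Opens) := isAffineOpen_top Y
  have hW : IsAffineOpen (f.fromNormalization ⁻¹ᵁ ⊤) := hYtop.preimage f.fromNormalization
  apply IsZariskiLocalAtTarget.of_forall_exists_morphismRestrict
    (P := MorphismProperty.isomorphisms Scheme)
  intro n
  refine ⟨f.fromNormalization ⁻¹ᵁ ⊤, trivial, ?_⟩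
  show IsIso ((U.ι ≫ f.toNormalization).fromNormalization ∣_ (f.fromNormalization ⁻¹ᵁ ⊤))
  rw [isIso_morphismRestrict_iff_isIso_app _ hW]
  letI algY := (f.app ⊤).hom.toAlgebra
  letI algh := ((U.ι ≫ f.toNormalization).app (f.fromNormalization ⁻¹ᵁ ⊤)).hom.toAlgebra
  have hval := f.normalizationObjIso_hom_val hYtop
  have e1 : (U.ι ≫ f.toNormalization) ⁻¹ᵁ (f.fromNormalization ⁻¹ᵁ ⊤) ≤ U.ι ⁻¹ᵁ (f ⁻¹ᵁ ⊤) :=
    fun _ _ => trivial
  have hfac : (U.ι ≫ f.toNormalization).app (f.fromNormalization ⁻¹ᵁ ⊤) =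
      f.toNormalization.appLE (f.fromNormalization ⁻¹ᵁ ⊤) (f ⁻¹ᵁ ⊤)
        (by simp) ≫
      U.ι.appLE (f ⁻¹ᵁ ⊤) ((U.ι ≫ f.toNormalization) ⁻¹ᵁ (f.fromNormalization ⁻¹ᵁ ⊤)) e1 := by
    rw [Scheme.Hom.appLE_comp_appLE, Scheme.Hom.app_eq_appLE]
  set ρ := (U.ι.appLE (f ⁻¹ᵁ ⊤) ((U.ι ≫ f.toNormalization) ⁻¹ᵁ (f.fromNormalization ⁻¹ᵁ ⊤))
    e1).hom with hρdef
  set iso := f.normalizationObjIso hYtop with hiso
  have hform : ∀ n : Γ(f.normalization, f.fromNormalization ⁻¹ᵁ ⊤),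
      ((U.ι ≫ f.toNormalization).app (f.fromNormalization ⁻¹ᵁ ⊤)).hom n =
        ρ ((iso.hom.hom n : integralClosure Γ(Y, ⊤) Γ(P, f ⁻¹ᵁ ⊤)) : Γ(P, f ⁻¹ᵁ ⊤)) := by
    intro n
    rw [hfac, ← hval]
    rfl
  have hle : U.ι ''ᵁ ((U.ι ≫ f.toNormalization) ⁻¹ᵁ (f.fromNormalization ⁻¹ᵁ ⊤)) ≤ f ⁻¹ᵁ ⊤ :=
    fun _ _ => trivial
  have hρ : ρ = (P.presheaf.map (homOfLE hle).op).hom := by
    rw [hρdef, Scheme.Opens.ι_appLE]
    rfl
  haveI hne : Nonempty (U.ι ''ᵁ ((U.ι ≫ f.toNormalization) ⁻¹ᵁ (f.fromNormalization ⁻¹ᵁ ⊤)) :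
      P.Opens) := by
    obtain ⟨⟨x, hx⟩⟩ := ‹Nonempty U›
    exact ⟨⟨x, ⟨⟨x, hx⟩, trivial, rfl⟩⟩⟩
  have hρinj : Function.Injective ρ := by
    rw [hρ]
    exact map_injective_of_isIntegral P (homOfLE hle)
  have hK : ∀ b, ρ.IsIntegralElem b → ∃ c, ρ c = b := by
    intro b hb
    rw [hρ] at hb ⊢
    exact exists_section_of_isIntegralElem' P hN (f ⁻¹ᵁ ⊤) rfl _ hle b hb
  have hkey : Function.Bijective (algebraMap Γ(f.normalization, f.fromNormalization ⁻¹ᵁ ⊤)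
      (integralClosure Γ(f.normalization, f.fromNormalization ⁻¹ᵁ ⊤)
        Γ(U, (U.ι ≫ f.toNormalization) ⁻¹ᵁ (f.fromNormalization ⁻¹ᵁ ⊤)))) := by
    constructor
    · intro n n' hnn
      have h1 : ((U.ι ≫ f.toNormalization).app (f.fromNormalization ⁻¹ᵁ ⊤)).hom n =
          ((U.ι ≫ f.toNormalization).app (f.fromNormalization ⁻¹ᵁ ⊤)).hom n' :=
        congrArg Subtype.val hnn
      rw [hform, hform] at h1
      have h2 := Subtype.val_injective (hρinj h1)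
      exact (ConcreteCategory.bijective_of_isIso iso.hom).1 h2
    · rintro ⟨b, q, hqm, hq⟩
      have hb' : (ρ.comp (integralClosure Γ(Y, ⊤) Γ(P, f ⁻¹ᵁ ⊤)).val.toRingHom).IsIntegralElem
          b := by
        refine ⟨q.map iso.hom.hom, hqm.map _, ?_⟩
        rw [Polynomial.eval₂_map]
        convert hq using 2
        ext n
        exact (hform n).symm
      obtain ⟨a, ha⟩ := exists_integralClosure_of_isIntegralElem ρ hρinj hK b hb'
      refine ⟨iso.inv.hom a, Subtype.ext ?_⟩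
      show ((U.ι ≫ f.toNormalization).app (f.fromNormalization ⁻¹ᵁ ⊤)).hom (iso.inv.hom a) = b
      rw [hform, ← ha]
      congr 2
      exact congrFun (congrArg (fun φ => (φ.hom : _ → _)) iso.inv_hom_id) a
  rw [(U.ι ≫ f.toNormalization).fromNormalization_app hW]
  have h2 : IsIso (CommRingCat.ofHom (algebraMap Γ(f.normalization, f.fromNormalization ⁻¹ᵁ ⊤)
      (integralClosure Γ(f.normalization, f.fromNormalization ⁻¹ᵁ ⊤)
        Γ(U, (U.ι ≫ f.toNormalization) ⁻¹ᵁ (f.fromNormalization ⁻¹ᵁ ⊤))))) :=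
    (ConcreteCategory.isIso_iff_bijective _).mpr hkey
  infer_instance

end Groth.Agent.Lib.Helper29.LocIsoNorm
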