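import Mathlib
import Groth.Agent.Lib.Helper29.LocIsoNorm3

set_option autoImplicit false
universe u
open CategoryTheory CategoryTheory.Limits AlgebraicGeometry TopologicalSpace Opposite

namespace Groth.Agent.Lib.Helper29.LocIsoNorm

theorem isOpenImmersion_ι_comp_toNormalization {P Y : Scheme.{u}} [IsIntegral P]
    (hN : ∀ x : P, IsIntegrallyClosed (P.presheaf.stalk x)) [IsAffine Y] (f : P ⟶ Y)
    [QuasiCompact f] [QuasiSeparated f] [LocallyQuasiFinite f] [LocallyOfFiniteType f]
    (U : P.Opens) (hU : IsAffineOpen U) [Nonempty U] :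
    IsOpenImmersion (U.ι ≫ f.toNormalization) := by
  haveI : IsAffine f.normalization := isAffine_of_isAffineHom f.fromNormalization
  haveI : IsAffine U := hU
  haveI : LocallyOfFiniteType f.toNormalization := by
    haveI : LocallyOfFiniteType (f.toNormalization ≫ f.fromNormalization) := by
      rw [f.toNormalization_fromNormalization]; infer_instance
    exact locallyOfFiniteType_of_comp _ f.fromNormalization
  haveI : LocallyQuasiFinite f.toNormalization := by
    haveI : LocallyQuasiFinite (f.toNormalization ≫ f.fromNormalization) := by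
      rw [f.toNormalization_fromNormalization]; infer_instance
    exact LocallyQuasiFinite.of_comp _ f.fromNormalization
  haveI : IsIso (U.ι ≫ f.toNormalization).fromNormalization :=
    isIso_fromNormalization_ι_comp hN f U
  have h := (U.ι ≫ f.toNormalization).toNormalization_fromNormalization
  rw [← h]
  infer_instance

theorem isLocalIso_toNormalization_of_isAffine {P Y : Scheme.{u}} [IsIntegral P]
    (hN : ∀ x : P, IsIntegrallyClosed (P.presheaf.stalk x)) [IsAffine Y] (f : P ⟶ Y)
    [QuasiCompact f] [QuasiSeparated f] [LocallyQuasiFinite f] [LocallyOfFiniteType f] :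
    IsLocalIso f.toNormalization := by
  refine ⟨fun x => ?_⟩
  obtain ⟨_, ⟨U, hU, rfl⟩, hxU, -⟩ :=
    P.isBasis_affineOpens.exists_subset_of_mem_open (Set.mem_univ x) isOpen_univ
  haveI : Nonempty U := ⟨⟨x, hxU⟩⟩
  exact ⟨U, hxU, isOpenImmersion_ι_comp_toNormalization hN f U hU⟩

theorem isLocalIso_toNormalization {X Y : Scheme.{u}} [IsIntegral X]
    (hN : ∀ x : X, IsIntegrallyClosed (X.presheaf.stalk x)) (f : X ⟶ Y)
    [LocallyQuasiFinite f] [LocallyOfFiniteType f] [QuasiCompact f] [QuasiSeparated f] :
    IsLocalIso f.toNormalization := by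
  rw [IsZariskiLocalAtSource.iff_of_openCover (P := @IsLocalIso) (Y.affineCover.pullback₁ f)]
  intro i
  show IsLocalIso (pullback.fst f (Y.affineCover.f i) ≫ f.toNormalization)
  rw [← Scheme.Hom.toNormalization_normalizationPullback_fst]
  have h1 : IsLocalIso (pullback.snd f (Y.affineCover.f i)).toNormalization := by
    by_cases hne : Nonempty ↥(pullback f (Y.affineCover.f i))
    · haveI := hne
      haveI : IsIntegral (pullback f (Y.affineCover.f i)) :=
        isIntegral_of_isOpenImmersion (pullback.fst f (Y.affineCover.f i))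
      refine isLocalIso_toNormalization_of_isAffine ?_ _
      intro x
      have hiso : IsIso ((pullback.fst f (Y.affineCover.f i)).stalkMap x) := inferInstance
      exact IsIntegrallyClosed.of_equiv
        (asIso ((pullback.fst f (Y.affineCover.f i)).stalkMap x)).commRingCatIsoToRingEquiv
    · exact ⟨fun x => (hne ⟨x⟩).elim⟩
  have h2 : IsLocalIso (f.normalizationPullback (Y.affineCover.f i) ≫
      pullback.fst f.fromNormalization (Y.affineCover.f i)) :=
    IsZariskiLocalAtSource.of_isOpenImmersion _
  exact MorphismProperty.comp_mem _ _ _ h1 h2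

theorem main {X Y : Scheme.{u}} [IsIntegral X]
    (hN : ∀ x : X, IsIntegrallyClosed (X.presheaf.stalk x)) (f : X ⟶ Y)
    [LocallyQuasiFinite f] [LocallyOfFiniteType f] [QuasiCompact f] [QuasiSeparated f] :
    IsLocalIso f.toNormalization ∧ (IsOpenImmersion f.toNormalization ↔ IsSeparated f) := by
  refine ⟨isLocalIso_toNormalization hN f, ⟨fun h => ?_, fun h => inferInstance⟩⟩
  have h3 : IsSeparated (f.toNormalization ≫ f.fromNormalization) := inferInstance
  rwa [f.toNormalization_fromNormalization] at h3

end Groth.Agent.Lib.Helper29.LocIsoNorm
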