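import Mathlib

/-!
# Logarithmic connections on the trivial bundle over the affine line: residues mod `Θ`

Shared machinery for S15502 / S15503.
-/

set_option autoImplicit false
open Polynomial

namespace Groth.Agent.Lib.Helper29.LogConn

universe u

section Poly

variable {R : Type u} [CommRing R] {r : ℕ} (θ : Fin r → R)

/-- `c_i = ∏_{k ≠ i} (θ_i - θ_k)` -/
noncomputable def cc (i : Fin r) : R := ∏ k ∈ Finset.univ.erase i, (θ i - θ k)

/-- `Θ = ∏ (X - θ_i)`. -/
noncomputable def Th : R[X] := ∏ i, (X - C (θ i))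

theorem cc_isUnit (hθ : ∀ i k, i ≠ k → IsUnit (θ i - θ k)) (i : Fin r) : IsUnit (cc θ i) := by
  unfold cc
  rw [IsUnit.prod_iff]
  intro k hk
  exact hθ i k (Ne.symm (Finset.ne_of_mem_erase hk))

theorem Th_monic : (Th θ).Monic := monic_prod_of_monic _ _ (fun i _ => monic_X_sub_C (θ i))

theorem Th_eval (i : Fin r) : (Th θ).eval (θ i) = 0 := by
  unfold Th
  rw [eval_prod]
  exact Finset.prod_eq_zero (Finset.mem_univ i) (by simp)

theorem derivative_Th_eval (i : Fin r) : (derivative (Th θ)).eval (θ i) = cc θ i := by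
  classical
  unfold Th cc
  rw [derivative_prod_finset, eval_finsetSum, Finset.sum_eq_single i]
  · simp [eval_prod]
  · intro k _ hki
    rw [eval_mul, eval_prod]
    rw [Finset.prod_eq_zero (Finset.mem_erase.mpr ⟨Ne.symm hki, Finset.mem_univ i⟩) (by simp)]
    simp
  · intro h
    exact absurd (Finset.mem_univ i) h

/-- A polynomial vanishing at all the `θ_i` (pairwise unit differences) is divisible by `Θ`. -/
theorem Th_dvd_of_eval_eq_zero (hθ : ∀ i k, i ≠ k → IsUnit (θ i - θ k)) (p : R[X])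
    (hp : ∀ i, p.eval (θ i) = 0) : Th θ ∣ p := by
  classical
  unfold Th
  suffices h : ∀ s : Finset (Fin r), (∏ i ∈ s, (X - C (θ i))) ∣ p from h Finset.univ
  intro s
  induction s using Finset.induction_on with
  | empty => simp
  | insert i s his ih =>
    obtain ⟨p₁, hp₁⟩ := ih
    have h1 : (∏ k ∈ s, (X - C (θ k))).eval (θ i) * p₁.eval (θ i) = 0 := by
      rw [← eval_mul, ← hp₁]
      exact hp i
    have h2 : IsUnit ((∏ k ∈ s, (X - C (θ k))).eval (θ i)) := by
      rw [eval_prod, IsUnit.prod_iff]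
      intro k hk
      simp only [eval_sub, eval_X, eval_C]
      exact hθ i k (fun h => his (h ▸ hk))
    have h3 : p₁.eval (θ i) = 0 := by
      rcases h2 with ⟨u, hu⟩
      rw [← hu] at h1
      exact (Units.mul_right_eq_zero u).mp h1
    obtain ⟨p₂, hp₂⟩ := dvd_iff_isRoot.mpr h3
    refine ⟨p₂, ?_⟩
    rw [Finset.prod_insert his, hp₁, hp₂]
    ring

/-- Lagrange basis polynomial. -/
noncomputable def lag (hθ : ∀ i k, i ≠ k → IsUnit (θ i - θ k)) (i : Fin r) : R[X] :=
  C (↑(cc_isUnit θ hθ i).unit⁻¹ : R) * ∏ k ∈ Finset.univ.erase i, (X - C (θ k))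

theorem lag_eval (hθ : ∀ i k, i ≠ k → IsUnit (θ i - θ k)) (i k : Fin r) :
    (lag θ hθ i).eval (θ k) = if k = i then 1 else 0 := by
  classical
  unfold lag
  rw [eval_mul, eval_C, eval_prod]
  split_ifs with h
  · subst h
    have : ∏ j ∈ Finset.univ.erase k, eval (θ k) (X - C (θ j)) = cc θ k := by
      unfold cc
      simp
    rw [this]
    exact (cc_isUnit θ hθ k).val_inv_mul
  · rw [Finset.prod_eq_zero (Finset.mem_erase.mpr ⟨h, Finset.mem_univ k⟩) (by simp), mul_zero]

end Poly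

section Conn

variable {R : Type u} [CommRing R] {d r : ℕ} (θ : Fin r → R)
  (D₀ : (Fin d → R[X]) →+ (Fin d → R[X]))
  (hD₀ : ∀ (p : R[X]) (v : Fin d → R[X]),
      D₀ (p • v) = (Th θ * Polynomial.derivative p) • v + p • D₀ v)
  (Res : Fin r → ((Fin d → R) →ₗ[R] (Fin d → R)))
  (hRes : ∀ (i : Fin r) (m : Fin d → R) (j : Fin d),
      (D₀ (fun j => Polynomial.C (m j)) j).eval (θ i) = cc θ i * Res i m j)

/-- evaluation of a vector of polynomials -/
def evalv (a : R) (v : Fin d → R[X]) : Fin d → R := fun j => (v j).eval a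

theorem evalv_add (a : R) (v w : Fin d → R[X]) : evalv a (v + w) = evalv a v + evalv a w := by
  ext j; simp [evalv]

theorem evalv_sub (a : R) (v w : Fin d → R[X]) : evalv a (v - w) = evalv a v - evalv a w := by
  ext j; simp [evalv]

theorem evalv_smul (a : R) (p : R[X]) (v : Fin d → R[X]) :
    evalv a (p • v) = p.eval a • evalv a v := by
  ext j; simp [evalv]

include hD₀ hRes in
theorem eval_D₀ (v : Fin d → R[X]) (i : Fin r) :
    evalv (θ i) (D₀ v) = cc θ i • Res i (evalv (θ i) v) := by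
  have hdecomp : v = (fun j => C ((v j).eval (θ i))) + (X - C (θ i)) • (fun j => v j /ₘ (X - C (θ i))) := by
    ext1 j
    simp only [Pi.add_apply, Pi.smul_apply, smul_eq_mul]
    have h1 := modByMonic_add_div (v j) (X - C (θ i))
    rw [modByMonic_X_sub_C_eq_C_eval] at h1
    exact h1.symm
  have h2 : D₀ v = D₀ (fun j => C ((v j).eval (θ i)))
      + ((Th θ * derivative (X - C (θ i))) • (fun j => v j /ₘ (X - C (θ i)))
        + (X - C (θ i)) • D₀ (fun j => v j /ₘ (X - C (θ i)))) := by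
    conv_lhs => rw [hdecomp]
    rw [map_add, hD₀]
  rw [h2, evalv_add, evalv_add, evalv_smul, evalv_smul]
  have h3 : (Th θ * derivative (X - C (θ i))).eval (θ i) = 0 := by
    rw [eval_mul, Th_eval, zero_mul]
  have h4 : (X - C (θ i)).eval (θ i) = 0 := by simp
  rw [h3, h4, zero_smul, zero_smul, add_zero, add_zero]
  ext j
  exact hRes i _ j

end Conn

section Inv

variable {R : Type u} [CommRing R] [Algebra ℂ R] {d : ℕ}

/-- If the characteristic polynomial of `T` comes from `ℂ[X]` and `a ∈ ℂ` is not a root,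
then `T - a` is invertible. -/
theorem exists_inverse_sub (T : (Fin d → R) →ₗ[R] (Fin d → R)) (χ : ℂ[X])
    (hχ : T.charpoly = χ.map (algebraMap ℂ R)) (a : ℂ) (ha : χ.eval a ≠ 0) :
    ∃ S : (Fin d → R) →ₗ[R] (Fin d → R),
      (∀ m, (T (S m) - algebraMap ℂ R a • S m) = m) ∧ (∀ m, S (T m - algebraMap ℂ R a • m) = m) := by
  set b : R := algebraMap ℂ R a with hb
  have hu : IsUnit (T.charpoly.eval b) := by
    rw [hχ, hb, eval_map_algebraMap, aeval_algebraMap_apply]
    exact (IsUnit.mk0 _ ha).map (algebraMap ℂ R)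
  obtain ⟨u, hu⟩ := hu
  set Q := T.charpoly /ₘ (X - C b) with hQ
  have h1 : T.charpoly = C (T.charpoly.eval b) + (X - C b) * Q := by
    have := modByMonic_add_div T.charpoly (X - C b)
    rw [modByMonic_X_sub_C_eq_C_eval] at this
    exact this.symm
  have h2 : (0 : (Fin d → R) →ₗ[R] (Fin d → R)) =
      algebraMap R _ (u : R) + (T - algebraMap R _ b) * aeval T Q := by
    rw [← LinearMap.aeval_self_charpoly T]
    conv_lhs => rw [h1]
    rw [map_add, map_mul, map_sub, aeval_C, aeval_X, aeval_C, hu]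
  have hcomm : (T - algebraMap R _ b) * aeval T Q = aeval T Q * (T - algebraMap R _ b) := by
    have : (T - algebraMap R ((Fin d → R) →ₗ[R] (Fin d → R)) b) = aeval T (X - C b) := by
      rw [map_sub, aeval_X, aeval_C]
    rw [this, ← map_mul, ← map_mul, mul_comm]
  refine ⟨-((↑u⁻¹ : R) • aeval T Q), ?_, ?_⟩
  · intro m
    have h3 := congrArg (fun f => f m) h2
    simp only [LinearMap.zero_apply, LinearMap.add_apply, Module.algebraMap_end_apply,
      Module.End.mul_apply, LinearMap.sub_apply] at h3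
    simp only [LinearMap.neg_apply, LinearMap.smul_apply, map_neg, map_smul, smul_neg]
    have h4 : T ((aeval T) Q m) - b • (aeval T) Q m = - ((u : R) • m) := by
      rw [eq_neg_iff_add_eq_zero, add_comm]
      exact h3.symm
    rw [neg_sub_neg, smul_comm b, ← smul_sub, sub_eq_neg_add, ← sub_eq_neg_add, ← neg_sub, h4]
    rw [neg_neg, smul_smul, Units.inv_mul, one_smul]
  · intro m
    rw [hcomm] at h2
    have h3 := congrArg (fun f => f m) h2
    simp only [LinearMap.zero_apply, LinearMap.add_apply, Module.algebraMap_end_apply,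
      Module.End.mul_apply, LinearMap.sub_apply] at h3
    simp only [LinearMap.neg_apply, LinearMap.smul_apply]
    have h4 : (aeval T) Q (T m - b • m) = - ((u : R) • m) := by
      rw [eq_neg_iff_add_eq_zero, add_comm]
      exact h3.symm
    rw [h4, smul_neg, neg_neg, smul_smul, Units.inv_mul, one_smul]

end Inv

section Main

variable {R : Type u} [CommRing R] [Algebra ℂ R] {d r : ℕ} (θ : Fin r → R)
  (hθ : ∀ i k, i ≠ k → IsUnit (θ i - θ k))
  (D₀ : (Fin d → R[X]) →+ (Fin d → R[X]))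
  (hD₀ : ∀ (p : R[X]) (v : Fin d → R[X]),
      D₀ (p • v) = (Th θ * Polynomial.derivative p) • v + p • D₀ v)
  (Res : Fin r → ((Fin d → R) →ₗ[R] (Fin d → R)))
  (hRes : ∀ (i : Fin r) (m : Fin d → R) (j : Fin d),
      (D₀ (fun j => Polynomial.C (m j)) j).eval (θ i) = cc θ i * Res i m j)
  (hχ : ∀ i : Fin r, ∃ χ : ℂ[X], (Res i).charpoly = χ.map (algebraMap ℂ R) ∧
      ∀ n : ℤ, n ≠ 0 → χ.eval (n : ℂ) ≠ 0)

omit [Algebra ℂ R] in
theorem evalv_sum {ι : Type*} (a : R) (s : Finset ι) (f : ι → (Fin d → R[X])) :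
    evalv a (∑ i ∈ s, f i) = ∑ i ∈ s, evalv a (f i) := by
  ext j
  simp [evalv, eval_finsetSum]

omit [Algebra ℂ R] in
include hD₀ hRes in
theorem eval_op (n : ℕ) (v : Fin d → R[X]) (k : Fin r) :
    evalv (θ k) (D₀ v - ((n : R[X]) * derivative (Th θ)) • v)
      = cc θ k • (Res k (evalv (θ k) v) - (n : R) • evalv (θ k) v) := by
  rw [evalv_sub, eval_D₀ θ D₀ hD₀ Res hRes, evalv_smul, eval_mul, eval_natCast,
    derivative_Th_eval, smul_sub, mul_comm, mul_smul]

include hχ in
theorem exists_inv (n : ℕ) (hn : n ≠ 0) (k : Fin r) :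
    ∃ S : (Fin d → R) →ₗ[R] (Fin d → R),
      (∀ m, (Res k (S m) - (n : R) • S m) = m) ∧ (∀ m, S (Res k m - (n : R) • m) = m) := by
  obtain ⟨χ, h1, h2⟩ := hχ k
  have h3 := exists_inverse_sub (Res k) χ h1 ((n : ℤ) : ℂ) (h2 n (by exact_mod_cast hn))
  simpa using h3

include hθ hD₀ hRes hχ in
theorem surj_mod (n : ℕ) (hn : n ≠ 0) (u : Fin d → R[X]) :
    ∃ v t : Fin d → R[X], D₀ v - ((n : R[X]) * derivative (Th θ)) • v - u = Th θ • t := by
  classical
  choose S hS1 hS2 using exists_inv Res hχ n hn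
  set m : Fin r → (Fin d → R) := fun k =>
    S k ((↑(cc_isUnit θ hθ k).unit⁻¹ : R) • evalv (θ k) u) with hm
  set v : Fin d → R[X] := ∑ i, lag θ hθ i • (fun j => C (m i j)) with hv
  have hev : ∀ k, evalv (θ k) v = m k := by
    intro k
    rw [hv, evalv_sum, Finset.sum_eq_single k]
    · rw [evalv_smul, lag_eval, if_pos rfl, one_smul]
      ext j
      simp [evalv]
    · intro i _ hik
      rw [evalv_smul, lag_eval, if_neg (Ne.symm hik), zero_smul]
    · intro h
      exact absurd (Finset.mem_univ k) h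
  have hzero : ∀ k, evalv (θ k) (D₀ v - ((n : R[X]) * derivative (Th θ)) • v - u) = 0 := by
    intro k
    rw [evalv_sub, eval_op θ D₀ hD₀ Res hRes, hev, hm]
    simp only
    rw [hS1 k, smul_smul, IsUnit.mul_val_inv, one_smul, sub_self]
  have hdvd : ∀ j, Th θ ∣ (D₀ v - ((n : R[X]) * derivative (Th θ)) • v - u) j := by
    intro j
    apply Th_dvd_of_eval_eq_zero θ hθ
    intro k
    exact congrFun (hzero k) j
  choose t ht using hdvd
  refine ⟨v, t, ?_⟩
  ext1 j
  rw [ht j]
  rfl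

include hθ hD₀ hRes hχ in
theorem inj_mod (n : ℕ) (hn : n ≠ 0) (v t : Fin d → R[X])
    (h : D₀ v - ((n : R[X]) * derivative (Th θ)) • v = Th θ • t) :
    ∃ v₁ : Fin d → R[X], v = Th θ • v₁ := by
  classical
  choose S hS1 hS2 using exists_inv Res hχ n hn
  have hzero : ∀ k, evalv (θ k) v = 0 := by
    intro k
    have h1 := eval_op θ D₀ hD₀ Res hRes n v k
    rw [h, evalv_smul, Th_eval, zero_smul] at h1
    have h2 : Res k (evalv (θ k) v) - (n : R) • evalv (θ k) v = 0 := by
      have := (cc_isUnit θ hθ k).smul_eq_zero.mp h1.symm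
      exact this
    have h3 := hS2 k (evalv (θ k) v)
    rw [h2, map_zero] at h3
    exact h3.symm
  have hdvd : ∀ j, Th θ ∣ v j := by
    intro j
    apply Th_dvd_of_eval_eq_zero θ hθ
    intro k
    exact congrFun (hzero k) j
  choose v₁ hv₁ using hdvd
  refine ⟨v₁, ?_⟩
  ext1 j
  rw [hv₁ j]
  rfl

end Main

section Loc

variable {R : Type u} [CommRing R] {d : ℕ} (Θ : R[X])

/-- the inclusion `R[X]^d → (R[X][1/Θ])^d` -/
noncomputable def iv (v : Fin d → R[X]) : Fin d → Localization.Away Θ :=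
  fun j => algebraMap R[X] (Localization.Away Θ) (v j)

theorem iv_add (v w : Fin d → R[X]) : iv Θ (v + w) = iv Θ v + iv Θ w := by
  ext j; simp [iv]

theorem iv_sub (v w : Fin d → R[X]) : iv Θ (v - w) = iv Θ v - iv Θ w := by
  ext j; simp [iv]

theorem iv_neg (v : Fin d → R[X]) : iv Θ (-v) = - iv Θ v := by
  ext j; simp [iv]

theorem iv_smul (p : R[X]) (v : Fin d → R[X]) : iv Θ (p • v) = p • iv Θ v := by
  ext j; simp [iv, Algebra.smul_def]

theorem iv_injective [IsDomain R] (hΘ : Θ ≠ 0) : Function.Injective (iv (d := d) Θ) := by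
  intro v w h
  ext1 j
  have h1 := congrFun h j
  have hle : Submonoid.powers Θ ≤ nonZeroDivisors R[X] :=
    Submonoid.powers_le.mpr (mem_nonZeroDivisors_of_ne_zero hΘ)
  exact IsLocalization.injective (Localization.Away Θ) hle h1

theorem smul_cancel (w₁ w₂ : Fin d → Localization.Away Θ) (h : Θ • w₁ = Θ • w₂) : w₁ = w₂ := by
  ext1 j
  have h1 := congrFun h j
  simp only [Pi.smul_apply, Algebra.smul_def] at h1
  exact (IsLocalization.Away.algebraMap_isUnit Θ).mul_left_cancel h1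

theorem exists_of_pow (n : ℕ) (v : Fin d → R[X]) :
    ∃ w : Fin d → Localization.Away Θ, Θ ^ n • w = iv Θ v := by
  obtain ⟨u, hu⟩ := IsLocalization.Away.algebraMap_isUnit (S := Localization.Away Θ) Θ
  refine ⟨fun j => (↑(u⁻¹ ^ n) : Localization.Away Θ) * iv Θ v j, ?_⟩
  ext1 j
  simp only [Pi.smul_apply, Algebra.smul_def, map_pow, ← hu]
  rw [← mul_assoc, ← Units.val_pow_eq_pow_val, ← Units.val_mul, ← mul_pow, mul_inv_cancel,
    one_pow, Units.val_one, one_mul]

theorem exists_pow_smul_eq (w : Fin d → Localization.Away Θ) :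
    ∃ (n : ℕ) (v : Fin d → R[X]), Θ ^ n • w = iv Θ v := by
  classical
  obtain ⟨⟨b, n, rfl⟩, hb⟩ := IsLocalization.exist_integer_multiples_of_finite
    (Submonoid.powers Θ) w
  choose v hv using hb
  refine ⟨n, v, ?_⟩
  ext1 j
  exact (hv j).symm

variable (D₀ : (Fin d → R[X]) →+ (Fin d → R[X]))
  (D : (Fin d → Localization.Away Θ) →+ (Fin d → Localization.Away Θ))
  (hD : ∀ (p : R[X]) (w : Fin d → Localization.Away Θ),
      D (p • w) = (Θ * Polynomial.derivative p) • w + p • D w)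
  (hDD₀ : ∀ v : Fin d → R[X], D (iv Θ v) = iv Θ (D₀ v))

include hD hDD₀ in
theorem D_pow_smul (n : ℕ) (w : Fin d → Localization.Away Θ) (u : Fin d → R[X])
    (h : Θ ^ (n + 1) • w = iv Θ u) :
    Θ ^ (n + 1) • D w = iv Θ (D₀ u - (((n + 1 : ℕ) : R[X]) * derivative Θ) • u) := by
  have h1 := hD (Θ ^ (n + 1)) w
  rw [h, hDD₀, derivative_pow, Nat.add_sub_cancel] at h1
  have h2 : (Θ * (C ((n + 1 : ℕ) : R) * Θ ^ n * derivative Θ)) • w
      = iv Θ ((((n + 1 : ℕ) : R[X]) * derivative Θ) • u) := by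
    rw [iv_smul, ← h, smul_smul]
    congr 1
    rw [← C_eq_natCast]
    ring
  rw [h2] at h1
  rw [iv_sub, h1]
  abel

include hD hDD₀ in
theorem decomp
    (hsurj : ∀ n : ℕ, n ≠ 0 → ∀ u : Fin d → R[X], ∃ v t : Fin d → R[X],
      D₀ v - ((n : R[X]) * derivative Θ) • v - u = Θ • t)
    (w : Fin d → Localization.Away Θ) :
    ∃ (w' : Fin d → Localization.Away Θ) (v : Fin d → R[X]), w = D w' + iv Θ v := by
  suffices H : ∀ (n : ℕ) (w : Fin d → Localization.Away Θ) (u : Fin d → R[X]),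
      Θ ^ n • w = iv Θ u → ∃ (w' : Fin d → Localization.Away Θ) (v : Fin d → R[X]),
        w = D w' + iv Θ v by
    obtain ⟨n, u, hu⟩ := exists_pow_smul_eq Θ w
    exact H n w u hu
  intro n
  induction n with
  | zero =>
    intro w u hu
    rw [pow_zero, one_smul] at hu
    exact ⟨0, u, by rw [map_zero, zero_add, hu]⟩
  | succ n ih =>
    intro w u hu
    obtain ⟨v, t, hvt⟩ := hsurj (n + 1) (by omega) u
    obtain ⟨w₁, hw₁⟩ := exists_of_pow Θ (n + 1) v
    have hDw₁ := D_pow_smul Θ D₀ D hD hDD₀ n w₁ v hw₁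
    have h3 : Θ • (Θ ^ n • (w - D w₁)) = Θ • iv Θ (-t) := by
      rw [smul_smul, ← pow_succ', smul_sub, hu, hDw₁, ← iv_sub, ← iv_smul]
      congr 1
      rw [smul_neg, ← hvt]
      abel
    have h4 := smul_cancel Θ _ _ h3
    obtain ⟨w₂, v', hw₂⟩ := ih (w - D w₁) (-t) h4
    refine ⟨w₁ + w₂, v', ?_⟩
    rw [map_add, add_assoc, ← hw₂]
    abel

include hD hDD₀ in
theorem integral_of_D [IsDomain R] (hΘ : Θ ≠ 0)
    (hinj : ∀ n : ℕ, n ≠ 0 → ∀ v t : Fin d → R[X],
      D₀ v - ((n : R[X]) * derivative Θ) • v = Θ • t → ∃ v₁ : Fin d → R[X], v = Θ • v₁)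
    (f : Fin d → Localization.Away Θ) (hf : ∃ v : Fin d → R[X], D f = iv Θ v) :
    ∃ v : Fin d → R[X], f = iv Θ v := by
  obtain ⟨v₀, hv₀⟩ := hf
  suffices H : ∀ (n : ℕ) (u : Fin d → R[X]), Θ ^ n • f = iv Θ u → ∃ v : Fin d → R[X], f = iv Θ v by
    obtain ⟨n, u, hu⟩ := exists_pow_smul_eq Θ f
    exact H n u hu
  intro n
  induction n with
  | zero =>
    intro u hu
    rw [pow_zero, one_smul] at hu
    exact ⟨u, hu⟩
  | succ n ih =>
    intro u hu
    have h1 := D_pow_smul Θ D₀ D hD hDD₀ n f u hu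
    rw [hv₀, ← iv_smul] at h1
    have h2 := iv_injective Θ hΘ h1
    obtain ⟨u₁, hu₁⟩ := hinj (n + 1) (by omega) u (Θ ^ n • v₀) (by
      rw [← h2, smul_smul, ← pow_succ'])
    have h3 : Θ • (Θ ^ n • f) = Θ • iv Θ u₁ := by
      rw [smul_smul, ← pow_succ', hu, hu₁, iv_smul]
    exact ih u₁ (smul_cancel Θ _ _ h3)

end Loc

end Groth.Agent.Lib.Helper29.LogConn
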