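import Groth.Agent.Lib.Helper29.EffC4
import Groth.Agent.Lib.Helper29.ExtUFD3
import Mathlib
universe u
open CategoryTheory CategoryTheory.Limits AlgebraicGeometry TopologicalSpace Opposite

/-! # The largest Cartier divisor inside a closed subscheme: ring lemmas and dimension lemmas -/

namespace Groth.Agent.Lib.Helper29.MaxCart
open Groth.Agent.Lib.Helper10.DivLocal Groth.Agent.Lib.Helper29.EffC

section Ring
variable {A : Type u} [CommRing A]

theorem pow_dvd_of_dvd_mul_left {p a b : A} (hp : Prime p) (hnzd : p ∈ nonZeroDivisors A)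
    (n : ℕ) (h : ¬ p ∣ a) (h' : p ^ n ∣ a * b) : p ^ n ∣ b := by
  induction n with
  | zero => rw [pow_zero]; exact one_dvd b
  | succ n ih =>
    obtain ⟨c, hc⟩ := ih ((pow_dvd_pow p n.le_succ).trans h')
    obtain ⟨d, hd⟩ := h'
    have h1 : p ^ n * (a * c) = p ^ n * (p * d) := by
      rw [← mul_assoc (p ^ n) p d, ← pow_succ, ← hd, hc]; ring
    have hpn : p ^ n ∈ nonZeroDivisors A := pow_mem hnzd n
    have h2 : a * c = p * d := (mul_cancel_left_mem_nonZeroDivisors hpn).mp h1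
    have h3 : p ∣ a * c := ⟨d, h2⟩
    rcases hp.dvd_or_dvd h3 with h4 | h4
    · exact absurd h4 h
    · obtain ⟨e, he⟩ := h4
      exact ⟨e, by rw [hc, he, pow_succ]; ring⟩

theorem not_dvd_of_span_ne {p q : A} (hp : Prime p) (hq : Prime q) (hqn : q ∈ nonZeroDivisors A)
    (hne : Ideal.span {p} ≠ Ideal.span {q}) : ¬ p ∣ q := by
  rintro ⟨c, hc⟩
  have h1 : q ∣ p * c := ⟨1, by rw [mul_one, hc]⟩
  rcases hq.dvd_or_dvd h1 with h2 | h2
  · apply hne
    apply le_antisymm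
    · rw [Ideal.span_singleton_le_span_singleton]; exact h2
    · rw [Ideal.span_singleton_le_span_singleton]; exact ⟨c, hc⟩
  · obtain ⟨d, hd⟩ := h2
    have h3 : (1 - p * d) * q = 0 := by
      have : q = p * (q * d) := by rw [← hd]; exact hc
      linear_combination this
    have h4 : 1 - p * d = 0 := (mem_nonZeroDivisors_iff_right.mp hqn) _ h3
    apply hp.not_isUnit
    exact IsUnit.of_mul_eq_one d (by linear_combination -h4)

theorem prod_pow_dvd {ι : Type*} (T : Finset ι) (t : ι → A) (a : ι → ℕ) (f : A)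
    (hunit : ∀ i ∈ T, IsUnit (t i) ∨ (Prime (t i) ∧ t i ∈ nonZeroDivisors A))
    (hne : ∀ i ∈ T, ∀ j ∈ T, i ≠ j → ¬ IsUnit (t i) → ¬ IsUnit (t j) →
      Ideal.span {t i} ≠ Ideal.span {t j})
    (hdvd : ∀ i ∈ T, t i ^ a i ∣ f) : ∏ i ∈ T, t i ^ a i ∣ f := by
  classical
  induction T using Finset.induction_on with
  | empty => simp
  | insert k T hk ih =>
    rw [Finset.prod_insert hk]
    obtain ⟨g, hg⟩ := ih (fun i hi => hunit i (Finset.mem_insert_of_mem hi))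
      (fun i hi j hj => hne i (Finset.mem_insert_of_mem hi) j (Finset.mem_insert_of_mem hj))
      (fun i hi => hdvd i (Finset.mem_insert_of_mem hi))
    rcases hunit k (Finset.mem_insert_self k T) with hu | ⟨hp, hnzd⟩
    · exact (hu.pow _).mul_left_dvd.mpr ⟨g, hg⟩
    · have hnd : ¬ t k ∣ ∏ i ∈ T, t i ^ a i := by
        intro hdv
        obtain ⟨i, hiT, hi⟩ := hp.exists_mem_finset_dvd hdv
        have hi' : t k ∣ t i := hp.dvd_of_dvd_pow hi
        have hki : k ≠ i := fun e => hk (e ▸ hiT)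
        rcases hunit i (Finset.mem_insert_of_mem hiT) with hui | ⟨hpi, hnzdi⟩
        · exact hp.not_isUnit (isUnit_of_dvd_unit hi' hui)
        · exact not_dvd_of_span_ne hp hpi hnzdi
            (hne k (Finset.mem_insert_self k T) i (Finset.mem_insert_of_mem hiT) hki hp.not_isUnit
              hpi.not_isUnit) hi'
      have h1 : t k ^ a k ∣ (∏ i ∈ T, t i ^ a i) * g := by
        rw [← hg]; exact hdvd k (Finset.mem_insert_self k T)
      obtain ⟨e, he⟩ := pow_dvd_of_dvd_mul_left hp hnzd (a k) hnd h1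
      exact ⟨e, by rw [hg, he]; ring⟩

end Ring

variable {X : Scheme.{u}}

/-- The stalk of an ideal sheaf, computed on any affine open neighbourhood. -/
theorem map_germ_ideal_eq (I : X.IdealSheafData) (x : X) (V W : X.affineOpens) (hV : x ∈ V.1)
    (hW : x ∈ W.1) :
    (I.ideal V).map (X.presheaf.germ V.1 x hV).hom =
      (I.ideal W).map (X.presheaf.germ W.1 x hW).hom := by
  obtain ⟨_, ⟨U₀, hU₀, rfl⟩, hxU, hUVW⟩ :=
    X.isBasis_affineOpens.exists_subset_of_mem_open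
      (show x ∈ ((V.1 ⊓ W.1 : X.Opens) : Set X) from ⟨hV, hW⟩) (V.1 ⊓ W.1).isOpen
  obtain ⟨U, hU⟩ : ∃ U : X.affineOpens, U.1 = U₀ := ⟨⟨U₀, hU₀⟩, rfl⟩
  subst hU
  have hUV : U ≤ V := fun y hy => (hUVW hy).1
  have hUW : U ≤ W := fun y hy => (hUVW hy).2
  have key : ∀ (V' : X.affineOpens) (h : U ≤ V') (hV' : x ∈ V'.1),
      (I.ideal V').map (X.presheaf.germ V'.1 x hV').hom =
        (I.ideal U).map (X.presheaf.germ U.1 x hxU).hom := by
    intro V' h hV'
    have e : X.presheaf.map (homOfLE h).op ≫ X.presheaf.germ U.1 x hxU =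
        X.presheaf.germ V'.1 x hV' := X.presheaf.germ_res _ x hxU
    rw [← I.map_ideal h, Ideal.map_map, ← CommRingCat.hom_comp, e]
  rw [key V hUV hV, key W hUW hW]

/-- The generic point of an integral closed subscheme, as a point of the ambient scheme. -/
noncomputable def gen (𝓘 : X.IdealSheafData) [IsIntegral 𝓘.subscheme] : X :=
  𝓘.subschemeι (genericPoint ↥𝓘.subscheme)

theorem gen_mem_support (𝓘 : X.IdealSheafData) [IsIntegral 𝓘.subscheme] :
    gen 𝓘 ∈ 𝓘.support := by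
  rw [← SetLike.mem_coe, ← 𝓘.range_subschemeι]; exact ⟨_, rfl⟩

theorem gen_specializes (𝓘 : X.IdealSheafData) [IsIntegral 𝓘.subscheme] (w : X)
    (hw : w ∈ 𝓘.support) : gen 𝓘 ⤳ w := by
  obtain ⟨z, rfl⟩ : w ∈ Set.range 𝓘.subschemeι := by rw [𝓘.range_subschemeι]; exact hw
  exact ((genericPoint_spec _).specializes trivial).map 𝓘.subschemeι.continuous

theorem ideal_eq_primeIdealOf_gen (𝓘 : X.IdealSheafData) [IsIntegral 𝓘.subscheme]
    (U : X.affineOpens) (h : gen 𝓘 ∈ U.1) :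
    𝓘.ideal U = (U.2.primeIdealOf ⟨gen 𝓘, h⟩).asIdeal := by
  have hP := isPrime_ideal_of_isIntegral 𝓘 U (gen 𝓘) h (gen_mem_support 𝓘)
  exact (primeIdealOf_genericPoint 𝓘 U hP h).symm

theorem ideal_eq_primeIdealOf_of_eq_gen (𝓘 : X.IdealSheafData) [IsIntegral 𝓘.subscheme]
    (U : X.affineOpens) (y : X) (hy : y ∈ U.1) (e : y = gen 𝓘) :
    𝓘.ideal U = (U.2.primeIdealOf ⟨y, hy⟩).asIdeal := by
  subst e; exact ideal_eq_primeIdealOf_gen 𝓘 U hy

theorem ideal_eq_top_of_gen_notMem (𝓘 : X.IdealSheafData) [IsIntegral 𝓘.subscheme]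
    (U : X.affineOpens) (h : gen 𝓘 ∉ U.1) : 𝓘.ideal U = ⊤ := by
  apply Groth.Agent.Lib.Helper29.CDivRel.ideal_eq_top_of_disjoint 𝓘 U
  rw [Set.disjoint_left]
  intro w hwU hw
  exact h ((gen_specializes 𝓘 w hw).mem_open U.1.isOpen hwU)

theorem eq_of_gen_eq (𝓘 𝓙 : X.IdealSheafData) [IsIntegral 𝓘.subscheme] [IsIntegral 𝓙.subscheme]
    (h : gen 𝓘 = gen 𝓙) : 𝓘 = 𝓙 := by
  ext U : 2
  by_cases hU : gen 𝓘 ∈ U.1
  · rw [ideal_eq_primeIdealOf_of_eq_gen 𝓘 U _ hU rfl, ideal_eq_primeIdealOf_of_eq_gen 𝓙 U _ hU h]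
  · rw [ideal_eq_top_of_gen_notMem 𝓘 U hU, ideal_eq_top_of_gen_notMem 𝓙 U (h ▸ hU)]

theorem primeIdealOf_le_of_specializes (V : X.affineOpens) (y z : X) (hy : y ∈ V.1)
    (hz : z ∈ V.1) (h : y ⤳ z) :
    (V.2.primeIdealOf ⟨y, hy⟩).asIdeal ≤ (V.2.primeIdealOf ⟨z, hz⟩).asIdeal := by
  have h3 : V.2.fromSpec (V.2.primeIdealOf ⟨y, hy⟩) ⤳ V.2.fromSpec (V.2.primeIdealOf ⟨z, hz⟩) := by
    rw [V.2.fromSpec_primeIdealOf ⟨y, hy⟩, V.2.fromSpec_primeIdealOf ⟨z, hz⟩]; exact h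
  have : IsOpenImmersion V.2.fromSpec := V.2.isOpenImmersion_fromSpec
  have h4 := (Scheme.Hom.isOpenEmbedding V.2.fromSpec).isInducing.specializes_iff.mp h3
  exact (PrimeSpectrum.le_iff_specializes _ _).mpr h4

theorem specializes_of_primeIdealOf_le (V : X.affineOpens) (y z : X) (hy : y ∈ V.1)
    (hz : z ∈ V.1)
    (h : (V.2.primeIdealOf ⟨y, hy⟩).asIdeal ≤ (V.2.primeIdealOf ⟨z, hz⟩).asIdeal) : y ⤳ z := by
  have h0 : V.2.primeIdealOf ⟨y, hy⟩ ⤳ V.2.primeIdealOf ⟨z, hz⟩ :=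
    (PrimeSpectrum.le_iff_specializes _ _).1 h
  have := h0.map V.2.fromSpec.continuous
  rwa [V.2.fromSpec_primeIdealOf ⟨y, hy⟩, V.2.fromSpec_primeIdealOf ⟨z, hz⟩] at this

theorem eq_of_primeIdealOf_eq (V : X.affineOpens) (y z : X) (hy : y ∈ V.1) (hz : z ∈ V.1)
    (h : (V.2.primeIdealOf ⟨y, hy⟩).asIdeal = (V.2.primeIdealOf ⟨z, hz⟩).asIdeal) : y = z := by
  have h2 : V.2.primeIdealOf ⟨y, hy⟩ = V.2.primeIdealOf ⟨z, hz⟩ := PrimeSpectrum.ext h
  have h3 := V.2.fromSpec_primeIdealOf ⟨y, hy⟩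
  rw [h2, V.2.fromSpec_primeIdealOf ⟨z, hz⟩] at h3
  exact h3.symm

theorem exists_affine_mem (z : X) : ∃ V : X.affineOpens, z ∈ V.1 := by
  obtain ⟨_, ⟨V₀, hV₀, rfl⟩, hzV, -⟩ :=
    X.isBasis_affineOpens.exists_subset_of_mem_open (Set.mem_univ z) isOpen_univ
  exact ⟨⟨V₀, hV₀⟩, hzV⟩

theorem dim_le_of_specializes (y z : X) (h : y ⤳ z) :
    ringKrullDim (X.presheaf.stalk y) ≤ ringKrullDim (X.presheaf.stalk z) := by
  obtain ⟨V, hzV⟩ := exists_affine_mem z
  have hyV : y ∈ V.1 := h.mem_open V.1.isOpen hzV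
  rw [ringKrullDim_stalk_eq_height V y hyV, ringKrullDim_stalk_eq_height V z hzV]
  have hle := Ideal.height_mono (primeIdealOf_le_of_specializes V y z hyV hzV h)
  exact_mod_cast hle

theorem dim_lt_of_specializes_ne [IsLocallyNoetherian X] (y z : X) (h : y ⤳ z) (hne : y ≠ z) :
    ringKrullDim (X.presheaf.stalk y) < ringKrullDim (X.presheaf.stalk z) := by
  obtain ⟨V, hzV⟩ := exists_affine_mem z
  have hyV : y ∈ V.1 := h.mem_open V.1.isOpen hzV
  have hA : IsNoetherianRing Γ(X, V.1) := IsLocallyNoetherian.component_noetherian V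
  rw [ringKrullDim_stalk_eq_height V y hyV, ringKrullDim_stalk_eq_height V z hzV]
  have hle := primeIdealOf_le_of_specializes V y z hyV hzV h
  have hlt : (V.2.primeIdealOf ⟨y, hyV⟩).asIdeal < (V.2.primeIdealOf ⟨z, hzV⟩).asIdeal :=
    lt_of_le_of_ne hle (fun e => hne (eq_of_primeIdealOf_eq V y z hyV hzV e))
  have h1 := Ideal.height_strict_mono_of_isPrime_of_isPrime hlt
  exact_mod_cast h1

theorem dim_eq_zero_of_lt_one (x : X) (h : ringKrullDim (X.presheaf.stalk x) < 1) :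
    ringKrullDim (X.presheaf.stalk x) = 0 := by
  obtain ⟨V, hxV⟩ := exists_affine_mem x
  rw [ringKrullDim_stalk_eq_height V x hxV] at h ⊢
  have h1 : (V.2.primeIdealOf ⟨x, hxV⟩).asIdeal.height < 1 := by exact_mod_cast h
  have h2 := Order.lt_one_iff.mp h1
  rw [h2]; rfl

/-- Points of an effective Cartier divisor have positive-dimensional local rings. -/
theorem dim_ne_zero_of_mem_support (𝓓 : X.IdealSheafData) (hD : BlowUp.IsEffCartierIdeal 𝓓)
    (y : X) (hy : y ∈ 𝓓.support) : ringKrullDim (X.presheaf.stalk y) ≠ 0 := by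
  obtain ⟨V, f, hyV, -, hf, hI⟩ :=
    Groth.Agent.Lib.Helper25.BlowUpUP.exists_affine_principal_le 𝓓 hD y ⊤ trivial
  rw [ringKrullDim_stalk_eq_height V y hyV]
  intro h
  have h0 : (V.2.primeIdealOf ⟨y, hyV⟩).asIdeal.height = 0 := by exact_mod_cast h
  have h3 := Ideal.height_eq_zero_iff.mp h0
  have h4 := Ideal.disjoint_nonZeroDivisors_of_mem_minimalPrimes h3
  have h5 : f ∈ (V.2.primeIdealOf ⟨y, hyV⟩).asIdeal := by
    apply (mem_support_iff_le_primeIdealOf 𝓓 V y hyV).mp hy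
    rw [hI]; exact Ideal.mem_span_singleton_self _
  exact Set.disjoint_left.mp h4 h5 hf

/-- Every point of a closed set whose maximal points have codimension at least two has
codimension at least two. -/
theorem two_le_dim_of_mem [IsLocallyNoetherian X] (Z' : Set X)
    (hcodim : ∀ z ∈ Z', (∀ y ∈ Z', y ⤳ z → y = z) →
      (2 : WithBot ℕ∞) ≤ ringKrullDim (X.presheaf.stalk z))
    (z : X) (hz : z ∈ Z') : (2 : WithBot ℕ∞) ≤ ringKrullDim (X.presheaf.stalk z) := by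
  let S : Set (WithBot ℕ∞) := {d | ∃ y ∈ Z', y ⤳ z ∧ ringKrullDim (X.presheaf.stalk y) = d}
  have hne : S.Nonempty := ⟨_, z, hz, specializes_rfl, rfl⟩
  obtain ⟨d, ⟨y, hy, hyz, rfl⟩, hmin⟩ := wellFounded_lt.has_min S hne
  have hmax : ∀ y' ∈ Z', y' ⤳ y → y' = y := by
    intro y' hy' h'
    by_contra hne'
    exact hmin _ ⟨y', hy', h'.trans hyz, rfl⟩ (dim_lt_of_specializes_ne y' y h' hne')
  exact (hcodim y hy hmax).trans (dim_le_of_specializes y z hyz)

theorem not_two_le_of_le_one (d : WithBot ℕ∞) (h : d ≤ 1) : ¬ (2 : WithBot ℕ∞) ≤ d := by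
  intro h2
  have h3 : (2 : WithBot ℕ∞) ≤ 1 := h2.trans h
  have h4 : ((2 : ℕ∞) : WithBot ℕ∞) ≤ ((1 : ℕ∞) : WithBot ℕ∞) := h3
  rw [WithBot.coe_le_coe] at h4
  exact absurd h4 (by norm_num)

/-- The local ring at the generic point of an integral effective Cartier divisor has dimension
at most one. -/
theorem dim_gen_le_one [IsLocallyNoetherian X] (𝓓 : X.IdealSheafData)
    (hD : BlowUp.IsEffCartierIdeal 𝓓) [IsIntegral 𝓓.subscheme] :
    ringKrullDim (X.presheaf.stalk (gen 𝓓)) ≤ 1 := by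
  obtain ⟨V, f, hV, -, hf, hI⟩ :=
    Groth.Agent.Lib.Helper25.BlowUpUP.exists_affine_principal_le 𝓓 hD (gen 𝓓) ⊤ trivial
  have hA : IsNoetherianRing Γ(X, V.1) := IsLocallyNoetherian.component_noetherian V
  rw [ringKrullDim_stalk_eq_height V _ hV, ← ideal_eq_primeIdealOf_gen 𝓓 V hV]
  have hP : (𝓓.ideal V).IsPrime := isPrime_ideal_of_isIntegral 𝓓 V (gen 𝓓) hV (gen_mem_support 𝓓)
  have : (𝓓.ideal V).IsPrincipal := ⟨⟨f, by rw [hI]⟩⟩
  have h1 : 𝓓.ideal V ∈ (𝓓.ideal V).minimalPrimes := by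
    rw [Ideal.minimalPrimes_eq_subsingleton_self]; rfl
  have := Ideal.height_le_one_of_isPrincipal_of_mem_minimalPrimes (𝓓.ideal V) (𝓓.ideal V) h1
  exact_mod_cast this

end Groth.Agent.Lib.Helper29.MaxCart
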