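import Groth.Agent.Lib.Helper29.MaxCart1
import Mathlib
universe u
open CategoryTheory CategoryTheory.Limits AlgebraicGeometry TopologicalSpace Opposite

/-! # The largest Cartier divisor inside a closed subscheme: local analysis -/

namespace Groth.Agent.Lib.Helper29.MaxCart
open Groth.Agent.Lib.Helper10.DivLocal Groth.Agent.Lib.Helper29.EffC
open Groth.Agent.Lib.Helper25.BlowUpUP

variable {X : Scheme.{u}}

theorem primeIdealOf_congr (V : X.affineOpens) (y z : X) (hy : y ∈ V.1) (hz : z ∈ V.1)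
    (e : y = z) :
    (V.2.primeIdealOf ⟨y, hy⟩).asIdeal = (V.2.primeIdealOf ⟨z, hz⟩).asIdeal := by
  subst e; rfl

theorem res_mem_nonZeroDivisors {W W' : X.Opens} (hW : IsAffineOpen W) (h : W' ≤ W)
    (t : Γ(X, W)) (ht : t ∈ nonZeroDivisors Γ(X, W)) :
    (X.presheaf.map (homOfLE h).op).hom t ∈ nonZeroDivisors Γ(X, W') := by
  apply mem_nonZeroDivisors_of_germ
  intro x hx
  have e : X.presheaf.germ W' x hx ((X.presheaf.map (homOfLE h).op).hom t) =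
      X.presheaf.germ W x (h hx) t := TopCat.Presheaf.germ_res_apply _ _ _ _ _
  rw [e]
  exact germ_mem_nonZeroDivisors_of_isAffineOpen hW t ht x (h hx)

theorem principal_restrict (𝓘 : X.IdealSheafData) (W' W : X.affineOpens) (h : W' ≤ W)
    (t : Γ(X, W.1)) (ht : t ∈ nonZeroDivisors Γ(X, W.1)) (hI : 𝓘.ideal W = Ideal.span {t}) :
    ∃ t' : Γ(X, W'.1), t' ∈ nonZeroDivisors Γ(X, W'.1) ∧ 𝓘.ideal W' = Ideal.span {t'} := by
  refine ⟨(X.presheaf.map (homOfLE h).op).hom t, res_mem_nonZeroDivisors W.2 h t ht, ?_⟩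
  rw [← 𝓘.map_ideal h, hI, Ideal.map_span, Set.image_singleton]

theorem exists_affine_principal_finset {I : Type*} (𝓓 : I → X.IdealSheafData)
    (hD : ∀ i, BlowUp.IsEffCartierIdeal (𝓓 i)) (T : Finset I) (x : X) (W₀ : X.Opens)
    (hx : x ∈ W₀) :
    ∃ W : X.affineOpens, x ∈ W.1 ∧ W.1 ≤ W₀ ∧ ∀ i ∈ T, ∃ t : Γ(X, W.1),
      t ∈ nonZeroDivisors Γ(X, W.1) ∧ (𝓓 i).ideal W = Ideal.span {t} := by
  classical
  induction T using Finset.induction_on with
  | empty =>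
    obtain ⟨_, ⟨V₀, hV₀, rfl⟩, hxV, hVW⟩ :=
      X.isBasis_affineOpens.exists_subset_of_mem_open hx W₀.isOpen
    exact ⟨⟨V₀, hV₀⟩, hxV, hVW, fun i hi => absurd hi (Finset.notMem_empty i)⟩
  | insert k T hk ih =>
    obtain ⟨W, hxW, hWW₀, hW⟩ := ih
    obtain ⟨W', t, hxW', hW'W, ht, hI⟩ := exists_affine_principal_le (𝓓 k) (hD k) x W.1 hxW
    refine ⟨W', hxW', hW'W.trans hWW₀, ?_⟩
    intro i hi
    rcases Finset.mem_insert.mp hi with rfl | hiT
    · exact ⟨t, ht, hI⟩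
    · obtain ⟨t', ht', hI'⟩ := hW i hiT
      exact principal_restrict (𝓓 i) W' W hW'W t' ht' hI'

theorem ideal_finset_prod {I : Type*} (T : Finset I) (𝓘 : I → X.IdealSheafData)
    (W : X.affineOpens) : (∏ i ∈ T, 𝓘 i).ideal W = ∏ i ∈ T, (𝓘 i).ideal W := by
  classical
  induction T using Finset.induction_on with
  | empty =>
    rw [Finset.prod_empty, Finset.prod_empty, Scheme.IdealSheafData.one_eq_top, Ideal.one_eq_top]
    rfl
  | insert k T hk ih =>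
    rw [Finset.prod_insert hk, Finset.prod_insert hk, Scheme.IdealSheafData.ideal_mul,
      Pi.mul_apply, ih]

theorem comap_ι_eq_of_cover (𝓐 𝓑 : X.IdealSheafData) (U : X.Opens)
    (hU : ∀ x ∈ U, ∃ V : X.affineOpens, x ∈ V.1 ∧ V.1 ≤ U ∧ 𝓐.ideal V = 𝓑.ideal V) :
    𝓐.comap U.ι = 𝓑.comap U.ι := by
  choose V hxV hVU hV using hU
  have himg : ∀ (x : X) (hx : x ∈ U), U.ι ''ᵁ (U.ι ⁻¹ᵁ (V x hx).1) = (V x hx).1 := by
    intro x hx
    rw [Scheme.Hom.image_preimage_eq_opensRange_inf, Scheme.Opens.opensRange_ι]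
    exact inf_eq_right.mpr (hVU x hx)
  have haff : ∀ (x : X) (hx : x ∈ U), IsAffineOpen (U.ι ⁻¹ᵁ (V x hx).1) := by
    intro x hx
    rw [← Scheme.Hom.isAffineOpen_iff_of_isOpenImmersion U.ι, himg x hx]
    exact (V x hx).2
  refine Scheme.IdealSheafData.ext_of_iSup_eq_top
    (fun x : U => (⟨U.ι ⁻¹ᵁ (V x.1 x.2).1, haff x.1 x.2⟩ : (U : Scheme.{u}).affineOpens)) ?_ ?_
  · apply Opens.ext
    rw [Opens.coe_iSup, Opens.coe_top]
    apply Set.eq_univ_of_forall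
    intro z
    exact Set.mem_iUnion.mpr ⟨z, hxV z.1 z.2⟩
  · intro x
    rw [Scheme.IdealSheafData.ideal_comap_of_isOpenImmersion,
      Scheme.IdealSheafData.ideal_comap_of_isOpenImmersion]
    have e : (⟨U.ι ''ᵁ (U.ι ⁻¹ᵁ (V x.1 x.2).1), (haff x.1 x.2).image_of_isOpenImmersion U.ι⟩ :
        X.affineOpens) = V x.1 x.2 := Subtype.ext (himg x.1 x.2)
    have key : ∀ W : X.affineOpens, W = V x.1 x.2 → 𝓐.ideal W = 𝓑.ideal W := by
      rintro W rfl; exact hV x.1 x.2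
    rw [key _ e]

section Main
variable [IsNoetherian X] (𝓩 : X.IdealSheafData) {I : Type u} (𝓓 : I → X.IdealSheafData)
  (hD : ∀ i, BlowUp.IsEffCartierIdeal (𝓓 i)) [hDint : ∀ i, IsIntegral (𝓓 i).subscheme]
  (Z' : Set X)
  (hcodim : ∀ z ∈ Z', (∀ y ∈ Z', y ⤳ z → y = z) →
    (2 : WithBot ℕ∞) ≤ ringKrullDim (X.presheaf.stalk z))
  (hcover : (𝓩.support : Set X) ⊆ Z' ∪ ⋃ i, ((𝓓 i).support : Set X))

include hD hcodim hcover in
theorem eq_gen_of_specializes (i : I) (y : X) (hy : y ∈ 𝓩.support) (h : y ⤳ gen (𝓓 i)) :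
    y = gen (𝓓 i) := by
  by_contra hne
  have h1 := dim_lt_of_specializes_ne y _ h hne
  have h2 := dim_gen_le_one (𝓓 i) (hD i)
  have h3 : ringKrullDim (X.presheaf.stalk y) < 1 := lt_of_lt_of_le h1 h2
  have h4 := dim_eq_zero_of_lt_one y h3
  rcases hcover hy with hZ' | hDj
  · have := two_le_dim_of_mem Z' hcodim y hZ'
    rw [h4] at this
    exact not_two_le_of_le_one 0 zero_le_one this
  · obtain ⟨j, hj⟩ := Set.mem_iUnion.mp hDj
    exact dim_ne_zero_of_mem_support (𝓓 j) (hD j) y hj h4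

include hD hcodim hcover in
theorem exists_eq_gen_of_dim_le_one (z : X) (hz : z ∈ 𝓩.support)
    (hdim : ringKrullDim (X.presheaf.stalk z) ≤ 1) : ∃ j, z = gen (𝓓 j) := by
  rcases hcover hz with hZ' | hDj
  · exact absurd (two_le_dim_of_mem Z' hcodim z hZ') (not_two_le_of_le_one _ hdim)
  · obtain ⟨j, hj⟩ := Set.mem_iUnion.mp hDj
    refine ⟨j, ?_⟩
    by_contra hne
    have h0 := gen_specializes (𝓓 j) z hj
    have h1 := dim_lt_of_specializes_ne _ z h0 (Ne.symm hne)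
    have h4 := dim_eq_zero_of_lt_one _ (lt_of_lt_of_le h1 hdim)
    exact dim_ne_zero_of_mem_support (𝓓 j) (hD j) _ (gen_mem_support _) h4

include hD hcodim hcover in
theorem finite_gen_in_support : {x : X | x ∈ 𝓩.support ∧ ∃ i, gen (𝓓 i) = x}.Finite := by
  obtain ⟨S, hSfin, hSclosed, hSirr, hS⟩ :=
    NoetherianSpace.exists_finite_set_isClosed_irreducible 𝓩.support.isClosed
  have hgen : ∀ t ∈ S, ∃ η : X, closure {η} = t := fun t ht =>
    QuasiSober.sober (hSirr t ht) (hSclosed t ht)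
  choose η hη using hgen
  refine (hSfin.dependent_image η).subset ?_
  rintro x ⟨hxZ, i, rfl⟩
  have hx' : gen (𝓓 i) ∈ ⋃₀ S := by rw [← hS]; exact hxZ
  obtain ⟨t, ht, hxt⟩ := hx'
  refine ⟨t, ht, ?_⟩
  have h1 : η t ht ⤳ gen (𝓓 i) := by
    rw [specializes_iff_mem_closure, hη t ht]; exact hxt
  have h2 : η t ht ∈ 𝓩.support := by
    have h3 : η t ht ∈ t := (hη t ht).subset (subset_closure rfl)
    show η t ht ∈ (𝓩.support : Set X)
    rw [hS]; exact ⟨t, ht, h3⟩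
  exact eq_gen_of_specializes 𝓩 𝓓 hD Z' hcodim hcover i (η t ht) h2 h1

include hD hcodim hcover in
theorem bddAbove_pow (i : I) :
    BddAbove {n : ℕ | 𝓩 ≤ 𝓓 i ^ n} := by
  by_contra hnb
  have hall : ∀ n : ℕ, 𝓩 ≤ 𝓓 i ^ n := by
    intro n
    rw [not_bddAbove_iff] at hnb
    obtain ⟨m, hm, hnm⟩ := hnb n
    refine le_trans hm ?_
    intro W
    show (𝓓 i).ideal W ^ m ≤ (𝓓 i).ideal W ^ n
    exact Ideal.pow_le_pow_right hnm.le
  obtain ⟨V, t, hV, -, ht, hI⟩ :=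
    exists_affine_principal_le (𝓓 i) (hD i) (gen (𝓓 i)) ⊤ trivial
  have hA : IsNoetherianRing Γ(X, V.1) := IsLocallyNoetherian.component_noetherian V
  have hpI : (𝓓 i).ideal V = (V.2.primeIdealOf ⟨gen (𝓓 i), hV⟩).asIdeal :=
    ideal_eq_primeIdealOf_gen (𝓓 i) V hV
  obtain ⟨q, hq, hqp⟩ := Ideal.exists_minimalPrimes_le
    (bot_le : (⊥ : Ideal Γ(X, V.1)) ≤ (V.2.primeIdealOf ⟨gen (𝓓 i), hV⟩).asIdeal)
  have hqprime : q.IsPrime := hq.1.1
  have hJq : 𝓩.ideal V ≤ q := by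
    intro x hx
    have hx' : x ∈ (⨅ n : ℕ, (𝓓 i).ideal V ^ n • ⊤ : Submodule Γ(X, V.1) Γ(X, V.1)) := by
      rw [Submodule.mem_iInf]
      intro n
      have h1 : x ∈ (𝓓 i).ideal V ^ n := hall n V hx
      simpa only [smul_eq_mul, Ideal.mul_top] using h1
    obtain ⟨⟨r, hr⟩, hrx⟩ := (Ideal.mem_iInf_smul_pow_eq_bot_iff ((𝓓 i).ideal V) x).mp hx'
    have hrx' : r * x = x := hrx
    have h1 : (1 - r) * x = 0 := by rw [sub_mul, one_mul, hrx', sub_self]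
    have h2 : (1 - r) * x ∈ q := by rw [h1]; exact q.zero_mem
    rcases hqprime.mem_or_mem h2 with h3 | h3
    · exfalso
      have h4 : r ∈ (V.2.primeIdealOf ⟨gen (𝓓 i), hV⟩).asIdeal := hpI ▸ hr
      have h5 : (1 : Γ(X, V.1)) ∈ (V.2.primeIdealOf ⟨gen (𝓓 i), hV⟩).asIdeal := by
        have := Ideal.add_mem _ (hqp h3) h4
        simpa using this
      exact (V.2.primeIdealOf ⟨gen (𝓓 i), hV⟩).2.ne_top ((Ideal.eq_top_iff_one _).mpr h5)
    · exact h3
  obtain ⟨y, hyV, hyq⟩ := exists_point_of_prime V q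
  have hyZ : y ∈ 𝓩.support := by
    rw [mem_support_iff_le_primeIdealOf 𝓩 V y hyV, hyq]; exact hJq
  have hys : y ⤳ gen (𝓓 i) :=
    specializes_of_primeIdealOf_le V y _ hyV hV (by rw [hyq]; exact hqp)
  have hyeq := eq_gen_of_specializes 𝓩 𝓓 hD Z' hcodim hcover i y hyZ hys
  have hqp' : q = (V.2.primeIdealOf ⟨gen (𝓓 i), hV⟩).asIdeal := by
    rw [← hyq]; exact primeIdealOf_congr V y _ hyV hV hyeq
  have hq' : (V.2.primeIdealOf ⟨gen (𝓓 i), hV⟩).asIdeal ∈ minimalPrimes Γ(X, V.1) := by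
    rw [← hqp']; exact hq
  have h4 := Ideal.disjoint_nonZeroDivisors_of_mem_minimalPrimes hq'
  have h5 : t ∈ (V.2.primeIdealOf ⟨gen (𝓓 i), hV⟩).asIdeal := by
    rw [← hpI, hI]; exact Ideal.mem_span_singleton_self _
  exact Set.disjoint_left.mp h4 h5 ht

end Main

end Groth.Agent.Lib.Helper29.MaxCart
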