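import Groth.Agent.Lib.Helper29.MaxCart2
import Mathlib
universe u
open CategoryTheory CategoryTheory.Limits AlgebraicGeometry TopologicalSpace Opposite

/-! # The largest Cartier divisor inside a closed subscheme: main theorem -/

namespace Groth.Agent.Lib.Helper29.MaxCart
open Groth.Agent.Lib.Helper10.DivLocal Groth.Agent.Lib.Helper29.EffC
open Groth.Agent.Lib.Helper25.BlowUpUP

variable {X : Scheme.{u}}

section Main2
variable [IsNoetherian X] (𝓩 : X.IdealSheafData) {I : Type u} (𝓓 : I → X.IdealSheafData)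
  (hD : ∀ i, BlowUp.IsEffCartierIdeal (𝓓 i)) [hDint : ∀ i, IsIntegral (𝓓 i).subscheme]

omit [AlgebraicGeometry.IsNoetherian X] in
theorem prime_of_gen_mem (i : I) (W : X.affineOpens) (t : Γ(X, W.1))
    (ht : t ∈ nonZeroDivisors Γ(X, W.1)) (hI : (𝓓 i).ideal W = Ideal.span {t})
    (hW : gen (𝓓 i) ∈ W.1) : Prime t := by
  have hP := isPrime_ideal_of_isIntegral (𝓓 i) W (gen (𝓓 i)) hW (gen_mem_support _)
  rw [hI] at hP
  have : Nontrivial Γ(X, W.1) :=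
    ⟨⟨0, 1, fun h01 => hP.ne_top ((Ideal.eq_top_iff_one _).mpr (h01 ▸ Ideal.zero_mem _))⟩⟩
  have ht0 : t ≠ 0 := nonZeroDivisors.ne_zero ht
  exact (Ideal.span_singleton_prime ht0).mp hP

omit [AlgebraicGeometry.IsNoetherian X] in
theorem isUnit_of_gen_notMem (i : I) (W : X.affineOpens) (t : Γ(X, W.1))
    (hI : (𝓓 i).ideal W = Ideal.span {t}) (hW : gen (𝓓 i) ∉ W.1) : IsUnit t := by
  have := ideal_eq_top_of_gen_notMem (𝓓 i) W hW
  rw [hI] at this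
  exact Ideal.span_singleton_eq_top.mp this

omit [AlgebraicGeometry.IsNoetherian X] in
include hD in
theorem le_prod_pow (T : Finset I) (m : I → ℕ)
    (hTinj : ∀ i ∈ T, ∀ j ∈ T, gen (𝓓 i) = gen (𝓓 j) → i = j)
    (hm1 : ∀ i ∈ T, 𝓩 ≤ 𝓓 i ^ m i) : 𝓩 ≤ ∏ i ∈ T, 𝓓 i ^ m i := by
  classical
  have hex : ∀ x : X, ∃ W : X.affineOpens, x ∈ W.1 ∧ ∀ i ∈ T, ∃ t : Γ(X, W.1),
      t ∈ nonZeroDivisors Γ(X, W.1) ∧ (𝓓 i).ideal W = Ideal.span {t} := by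
    intro x
    obtain ⟨W, hxW, -, hW⟩ := exists_affine_principal_finset 𝓓 hD T x ⊤ trivial
    exact ⟨W, hxW, hW⟩
  choose W hxW hW using hex
  refine Scheme.IdealSheafData.le_of_iSup_eq_top W ?_ ?_
  · apply Opens.ext
    rw [Opens.coe_iSup, Opens.coe_top]
    apply Set.eq_univ_of_forall
    intro z
    exact Set.mem_iUnion.mpr ⟨z, hxW z⟩
  · intro x
    choose! t ht hI using hW x
    intro f hf
    rw [ideal_finset_prod]
    have h1 : ∏ i ∈ T, (𝓓 i ^ m i).ideal (W x) = Ideal.span {∏ i ∈ T, t i ^ m i} := by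
      rw [← Ideal.prod_span_singleton]
      apply Finset.prod_congr rfl
      intro i hi
      rw [Scheme.IdealSheafData.ideal_pow, Pi.pow_apply, hI i hi, Ideal.span_singleton_pow]
    rw [h1, Ideal.mem_span_singleton]
    apply prod_pow_dvd T t m f
    · intro i hi
      by_cases hg : gen (𝓓 i) ∈ (W x).1
      · exact Or.inr ⟨prime_of_gen_mem 𝓓 i (W x) (t i) (ht i hi) (hI i hi) hg, ht i hi⟩
      · exact Or.inl (isUnit_of_gen_notMem 𝓓 i (W x) (t i) (hI i hi) hg)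
    · intro i hi j hj hij hui huj heq
      have hgi : gen (𝓓 i) ∈ (W x).1 := by
        by_contra hg; exact hui (isUnit_of_gen_notMem 𝓓 i (W x) (t i) (hI i hi) hg)
      have hgj : gen (𝓓 j) ∈ (W x).1 := by
        by_contra hg; exact huj (isUnit_of_gen_notMem 𝓓 j (W x) (t j) (hI j hj) hg)
      apply hij
      apply hTinj i hi j hj
      apply eq_of_primeIdealOf_eq (W x) _ _ hgi hgj
      rw [← ideal_eq_primeIdealOf_gen (𝓓 i) (W x) hgi,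
        ← ideal_eq_primeIdealOf_gen (𝓓 j) (W x) hgj, hI i hi, hI j hj]
      exact heq
    · intro i hi
      have h2 : f ∈ (𝓓 i ^ m i).ideal (W x) := hm1 i hi (W x) hf
      rw [Scheme.IdealSheafData.ideal_pow, Pi.pow_apply, hI i hi, Ideal.span_singleton_pow,
        Ideal.mem_span_singleton] at h2
      exact h2

omit [AlgebraicGeometry.IsNoetherian X] in
include hD in
theorem le_pow_of_ideal_le (i : I) (n : ℕ) (V : X.affineOpens) (hV : gen (𝓓 i) ∈ V.1)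
    (h : 𝓩.ideal V ≤ (𝓓 i).ideal V ^ n) : 𝓩 ≤ 𝓓 i ^ n := by
  have hex : ∀ x : X, ∃ (W : X.affineOpens) (t : Γ(X, W.1)), x ∈ W.1 ∧
      t ∈ nonZeroDivisors Γ(X, W.1) ∧ (𝓓 i).ideal W = Ideal.span {t} := by
    intro x
    obtain ⟨W, t, hxW, -, ht, hI⟩ := exists_affine_principal_le (𝓓 i) (hD i) x ⊤ trivial
    exact ⟨W, t, hxW, ht, hI⟩
  choose W t hxW ht hI using hex
  refine Scheme.IdealSheafData.le_of_iSup_eq_top W ?_ ?_
  · apply Opens.ext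
    rw [Opens.coe_iSup, Opens.coe_top]
    apply Set.eq_univ_of_forall
    intro z
    exact Set.mem_iUnion.mpr ⟨z, hxW z⟩
  intro x f hf
  show f ∈ (𝓓 i).ideal (W x) ^ n
  by_cases hg : gen (𝓓 i) ∈ (W x).1
  swap
  · rw [ideal_eq_top_of_gen_notMem (𝓓 i) (W x) hg, Ideal.top_pow]; trivial
  have hp := prime_of_gen_mem 𝓓 i (W x) (t x) (ht x) (hI x) hg
  have h1 : (X.presheaf.germ (W x).1 (gen (𝓓 i)) hg).hom f ∈
      ((𝓓 i).ideal (W x) ^ n).map (X.presheaf.germ (W x).1 (gen (𝓓 i)) hg).hom := by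
    have h2 : (X.presheaf.germ (W x).1 (gen (𝓓 i)) hg).hom f ∈
        (𝓩.ideal (W x)).map (X.presheaf.germ (W x).1 (gen (𝓓 i)) hg).hom :=
      Ideal.mem_map_of_mem _ hf
    rw [map_germ_ideal_eq 𝓩 (gen (𝓓 i)) (W x) V hg hV] at h2
    have h3 := Ideal.map_mono (f := (X.presheaf.germ V.1 (gen (𝓓 i)) hV).hom) h h2
    rw [Ideal.map_pow, map_germ_ideal_eq (𝓓 i) (gen (𝓓 i)) V (W x) hV hg, ← Ideal.map_pow] at h3
    exact h3
  rw [hI x, Ideal.span_singleton_pow] at h1 ⊢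
  rw [Ideal.mem_span_singleton]
  letI : Algebra Γ(X, (W x).1) (X.presheaf.stalk (gen (𝓓 i))) :=
    (X.presheaf.germ (W x).1 (gen (𝓓 i)) hg).hom.toAlgebra
  haveI : IsLocalization.AtPrime (X.presheaf.stalk (gen (𝓓 i)))
      ((W x).2.primeIdealOf ⟨gen (𝓓 i), hg⟩).asIdeal := (W x).2.isLocalization_stalk ⟨_, hg⟩
  have h1' : algebraMap Γ(X, (W x).1) (X.presheaf.stalk (gen (𝓓 i))) f ∈
      Ideal.map (algebraMap Γ(X, (W x).1) (X.presheaf.stalk (gen (𝓓 i))))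
        (Ideal.span {t x ^ n}) := h1
  rw [IsLocalization.mem_map_algebraMap_iff
    ((W x).2.primeIdealOf ⟨gen (𝓓 i), hg⟩).asIdeal.primeCompl] at h1'
  obtain ⟨⟨⟨a, ha⟩, ⟨s, hs⟩⟩, has⟩ := h1'
  simp only at has
  rw [← map_mul, IsLocalization.eq_iff_exists
    ((W x).2.primeIdealOf ⟨gen (𝓓 i), hg⟩).asIdeal.primeCompl] at has
  obtain ⟨⟨s', hs'⟩, hss⟩ := has
  simp only at hss
  have hdvd : t x ^ n ∣ (s' * s) * f := by
    have e : (s' * s) * f = s' * a := by rw [← hss]; ring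
    rw [e]
    exact Dvd.dvd.mul_left (Ideal.mem_span_singleton.mp ha) s'
  have hnd : ¬ t x ∣ s' * s := by
    intro hd
    have hmem : s' * s ∈ ((W x).2.primeIdealOf ⟨gen (𝓓 i), hg⟩).asIdeal := by
      rw [← ideal_eq_primeIdealOf_gen (𝓓 i) (W x) hg, hI x, Ideal.mem_span_singleton]; exact hd
    exact (Submonoid.mul_mem _ hs' hs) hmem
  exact pow_dvd_of_dvd_mul_left hp (ht x) n hnd hdvd

variable (Z' : Set X)
  (hcodim : ∀ z ∈ Z', (∀ y ∈ Z', y ⤳ z → y = z) →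
    (2 : WithBot ℕ∞) ≤ ringKrullDim (X.presheaf.stalk z))
  (hcover : (𝓩.support : Set X) ⊆ Z' ∪ ⋃ i, ((𝓓 i).support : Set X))

include hD hcodim hcover in
theorem exists_affine_ideal_eq (T : Finset I) (m : I → ℕ)
    (hTinj : ∀ i ∈ T, ∀ j ∈ T, gen (𝓓 i) = gen (𝓓 j) → i = j)
    (hTZ : ∀ i ∈ T, gen (𝓓 i) ∈ 𝓩.support)
    (hTall : ∀ j, gen (𝓓 j) ∈ 𝓩.support → ∃ i ∈ T, gen (𝓓 i) = gen (𝓓 j))
    (hm1 : ∀ i ∈ T, 𝓩 ≤ 𝓓 i ^ m i) (hm2 : ∀ i ∈ T, ¬ 𝓩 ≤ 𝓓 i ^ (m i + 1))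
    (z : X) (hz : z ∈ 𝓩.support) (hdim : ringKrullDim (X.presheaf.stalk z) ≤ 1) :
    ∃ V : X.affineOpens, z ∈ V.1 ∧ (∏ i ∈ T, 𝓓 i ^ m i).ideal V = 𝓩.ideal V := by
  classical
  obtain ⟨j, hj⟩ := exists_eq_gen_of_dim_le_one 𝓩 𝓓 hD Z' hcodim hcover z hz hdim
  obtain ⟨i, hiT, hij⟩ := hTall j (hj ▸ hz)
  have hzi : z = gen (𝓓 i) := hj.trans hij.symm
  let C : Set X := ⋃ k ∈ T.erase i, ((𝓓 k).support : Set X)
  have hC : IsClosed C := isClosed_biUnion_finset (fun k _ => (𝓓 k).support.isClosed)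
  let W₀ : X.Opens := ⟨Cᶜ, hC.isOpen_compl⟩
  have hzW₀ : z ∈ W₀ := by
    intro hzC
    obtain ⟨k, hk, hzk⟩ := Set.mem_iUnion₂.mp hzC
    have hkT := Finset.mem_of_mem_erase hk
    have hki := Finset.ne_of_mem_erase hk
    have h1 : gen (𝓓 k) ⤳ gen (𝓓 i) := hzi ▸ gen_specializes (𝓓 k) z hzk
    have h2 := eq_gen_of_specializes 𝓩 𝓓 hD Z' hcodim hcover i _ (hTZ k hkT) h1
    exact hki (hTinj k hkT i hiT h2)
  obtain ⟨V, t, hzV, hVW₀, ht, hI⟩ := exists_affine_principal_le (𝓓 i) (hD i) z W₀ hzW₀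
  have hgV : gen (𝓓 i) ∈ V.1 := hzi ▸ hzV
  have hp : Prime t := prime_of_gen_mem 𝓓 i V t ht hI hgV
  have hpI : Ideal.span {t} = (V.2.primeIdealOf ⟨gen (𝓓 i), hgV⟩).asIdeal := by
    rw [← hI]; exact ideal_eq_primeIdealOf_gen (𝓓 i) V hgV
  have htop : ∀ k ∈ T.erase i, (𝓓 k).ideal V = ⊤ := by
    intro k hk
    apply Groth.Agent.Lib.Helper29.CDivRel.ideal_eq_top_of_disjoint (𝓓 k) V
    rw [Set.disjoint_left]
    intro w hwV hwk
    exact hVW₀ hwV (Set.mem_iUnion₂.mpr ⟨k, hk, hwk⟩)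
  have hprodV : (∏ k ∈ T, 𝓓 k ^ m k).ideal V = Ideal.span {t ^ m i} := by
    rw [ideal_finset_prod, ← Finset.mul_prod_erase T _ hiT]
    have h1 : ∏ k ∈ T.erase i, (𝓓 k ^ m k).ideal V = ⊤ := by
      rw [← Ideal.one_eq_top]
      apply Finset.prod_eq_one
      intro k hk
      rw [Scheme.IdealSheafData.ideal_pow, Pi.pow_apply, htop k hk, Ideal.top_pow,
        Ideal.one_eq_top]
    rw [h1, Ideal.mul_top, Scheme.IdealSheafData.ideal_pow, Pi.pow_apply, hI,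
      Ideal.span_singleton_pow]
  have hle : 𝓩 ≤ ∏ k ∈ T, 𝓓 k ^ m k := le_prod_pow 𝓩 𝓓 hD T m hTinj hm1
  have hex : ∃ s : Γ(X, V.1), ¬ t ∣ s ∧ s * t ^ m i ∈ 𝓩.ideal V := by
    by_contra hcon
    push Not at hcon
    apply hm2 i hiT
    apply le_pow_of_ideal_le 𝓩 𝓓 hD i (m i + 1) V hgV
    intro x hx
    have h1 : x ∈ (𝓓 i ^ m i).ideal V := hm1 i hiT V hx
    rw [Scheme.IdealSheafData.ideal_pow, Pi.pow_apply, hI, Ideal.span_singleton_pow,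
      Ideal.mem_span_singleton] at h1
    obtain ⟨c, hc⟩ := h1
    have h2 : t ∣ c := by
      by_contra hnd
      apply hcon c hnd
      rw [mul_comm, ← hc]; exact hx
    obtain ⟨d, hd⟩ := h2
    rw [hI, Ideal.span_singleton_pow, Ideal.mem_span_singleton]
    exact ⟨d, by rw [hc, hd, pow_succ]; ring⟩
  obtain ⟨s, hs, hst⟩ := hex
  refine ⟨X.affineBasicOpen s, ?_, ?_⟩
  · show z ∈ X.basicOpen s
    rw [X.mem_basicOpen s z hzV]
    by_contra hnu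
    have h1 : X.presheaf.germ V.1 z hzV s ∈ IsLocalRing.maximalIdeal (X.presheaf.stalk z) :=
      (IsLocalRing.mem_maximalIdeal _).mpr hnu
    rw [← mem_primeIdealOf_iff_germ V.2 z hzV s, primeIdealOf_congr V z _ hzV hgV hzi, ← hpI,
      Ideal.mem_span_singleton] at h1
    exact hs h1
  · apply le_antisymm
    · have key : Ideal.span {(X.presheaf.map (homOfLE (X.basicOpen_le s)).op).hom (t ^ m i)} ≤
          (𝓩.ideal V).map (X.presheaf.map (homOfLE (X.basicOpen_le s)).op).hom := by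
        rw [Ideal.span_singleton_le_iff_mem]
        have hu : IsUnit ((X.presheaf.map (homOfLE (X.basicOpen_le s)).op).hom s) :=
          X.toRingedSpace.isUnit_res_basicOpen s
        have h1 : (X.presheaf.map (homOfLE (X.basicOpen_le s)).op).hom (s * t ^ m i) ∈
            (𝓩.ideal V).map (X.presheaf.map (homOfLE (X.basicOpen_le s)).op).hom :=
          Ideal.mem_map_of_mem _ hst
        rw [map_mul] at h1
        exact (Ideal.unit_mul_mem_iff_mem _ hu).mp h1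
      rw [← (∏ k ∈ T, 𝓓 k ^ m k).map_ideal_basicOpen V s, ← 𝓩.map_ideal_basicOpen V s, hprodV,
        Ideal.map_span, Set.image_singleton]
      exact key
    · exact hle (X.affineBasicOpen s)

include hD hcodim hcover in
theorem exists_max_cartier :
    ∃ a : I →₀ ℕ, 𝓩 ≤ a.prod (fun i n => 𝓓 i ^ n) ∧
      ∃ U : X.Opens, (a.prod (fun i n => 𝓓 i ^ n)).comap U.ι = 𝓩.comap U.ι ∧
        ∀ z ∈ (𝓩.support : Set ↥X) \ (U : Set ↥X),
          (2 : WithBot ℕ∞) ≤ ringKrullDim ↑(X.presheaf.stalk z) := by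
  classical
  let Ξ : Set X := {x | x ∈ 𝓩.support ∧ ∃ i, gen (𝓓 i) = x}
  have hΞ : Ξ.Finite := finite_gen_in_support 𝓩 𝓓 hD Z' hcodim hcover
  haveI : Finite ↥Ξ := hΞ.to_subtype
  let f : ↥Ξ → I := fun x => x.2.2.choose
  have hf : ∀ x : ↥Ξ, gen (𝓓 (f x)) = x.1 := fun x => x.2.2.choose_spec
  let T : Finset I := (Set.finite_range f).toFinset
  have hT : ∀ i, i ∈ T ↔ ∃ x, f x = i := fun i => by simp [T]
  have hTZ : ∀ i ∈ T, gen (𝓓 i) ∈ 𝓩.support := by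
    intro i hi
    obtain ⟨x, rfl⟩ := (hT i).mp hi
    rw [hf x]; exact x.2.1
  have hTinj : ∀ i ∈ T, ∀ j ∈ T, gen (𝓓 i) = gen (𝓓 j) → i = j := by
    intro i hi j hj h
    obtain ⟨x, rfl⟩ := (hT i).mp hi
    obtain ⟨x', rfl⟩ := (hT j).mp hj
    rw [hf x, hf x'] at h
    rw [Subtype.ext h]
  have hTall : ∀ j, gen (𝓓 j) ∈ 𝓩.support → ∃ i ∈ T, gen (𝓓 i) = gen (𝓓 j) := by
    intro j hj
    let x : ↥Ξ := ⟨gen (𝓓 j), hj, j, rfl⟩
    exact ⟨f x, (hT _).mpr ⟨x, rfl⟩, hf x⟩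
  let m : I → ℕ := fun i => sSup {n : ℕ | 𝓩 ≤ 𝓓 i ^ n}
  have hne : ∀ i, {n : ℕ | 𝓩 ≤ 𝓓 i ^ n}.Nonempty := fun i =>
    ⟨0, by show 𝓩 ≤ 𝓓 i ^ 0; rw [pow_zero, Scheme.IdealSheafData.one_eq_top]; exact le_top⟩
  have hbdd := fun i => bddAbove_pow 𝓩 𝓓 hD Z' hcodim hcover i
  have hm1 : ∀ i ∈ T, 𝓩 ≤ 𝓓 i ^ m i := fun i _ => Nat.sSup_mem (hne i) (hbdd i)
  have hm2 : ∀ i ∈ T, ¬ 𝓩 ≤ 𝓓 i ^ (m i + 1) := by
    intro i _ h
    have : m i + 1 ≤ m i := le_csSup (hbdd i) h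
    omega
  let a : I →₀ ℕ := Finsupp.onFinset T (fun i => if i ∈ T then m i else 0) (by
    intro i hi
    by_contra h
    exact hi (if_neg h))
  have ha : a.prod (fun i n => 𝓓 i ^ n) = ∏ i ∈ T, 𝓓 i ^ m i := by
    rw [Finsupp.prod_of_support_subset a Finsupp.support_onFinset_subset _
      (fun i _ => pow_zero _)]
    apply Finset.prod_congr rfl
    intro i hi
    show 𝓓 i ^ (a i) = _
    rw [Finsupp.onFinset_apply, if_pos hi]
  refine ⟨a, ?_, ?_⟩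
  · rw [ha]; exact le_prod_pow 𝓩 𝓓 hD T m hTinj hm1
  rw [ha]
  let U : X.Opens := ⨆ V : {V : X.affineOpens // (∏ i ∈ T, 𝓓 i ^ m i).ideal V = 𝓩.ideal V}, V.1.1
  refine ⟨U, ?_, ?_⟩
  · apply comap_ι_eq_of_cover
    intro x hx
    obtain ⟨V, hxV⟩ := Opens.mem_iSup.mp hx
    exact ⟨V.1, hxV, le_iSup (fun V : {V : X.affineOpens //
      (∏ i ∈ T, 𝓓 i ^ m i).ideal V = 𝓩.ideal V} => V.1.1) V, V.2⟩
  · rintro z ⟨hzZ, hzU⟩
    by_contra h2
    have hdim := Groth.Agent.Lib.Helper29.ExtUFD.le_one_of_not_two_le _ h2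
    obtain ⟨V, hzV, hV⟩ := exists_affine_ideal_eq 𝓩 𝓓 hD Z' hcodim hcover T m hTinj hTZ hTall
      hm1 hm2 z hzZ hdim
    exact hzU (Opens.mem_iSup.mpr ⟨⟨V, hV⟩, hzV⟩)

end Main2

end Groth.Agent.Lib.Helper29.MaxCart
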