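import Groth.Agent.Lib.Helper29.MeroCore1
set_option autoImplicit false
universe u
open CategoryTheory CategoryTheory.Limits AlgebraicGeometry TopologicalSpace Opposite

namespace Groth.Agent.Lib.Helper29.QCoh.MeroK
open Groth.Agent.Lib.Helper26

variable {X : Scheme.{u}}

section Core
variable {L : X.Modules} {I : Type*} (V : I → X.Opens) (ε : ∀ i, Γ(L, V i))

theorem IsDen.apply {W : X.Opens} {e : Γ(L, W)} {q : Γ(Mero.kmod X, W)} (hq : IsDen V ε W e q)
    (i : I) (h : Γ(X, W ⊓ V i))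
    (hh : res L (inf_le_right : W ⊓ V i ≤ V i) (ε i) = h • res L (inf_le_left : W ⊓ V i ≤ W) e)
    (y : X) (hy : y ∈ W ⊓ V i) :
    q.1 ⟨y, hy.1⟩ = LocalizedModule.mk (X.presheaf.germ (W ⊓ V i) y hy h) 1 := by
  have h1 := congrArg (fun t : Γ(Mero.kmod X, W ⊓ V i) => t.1 ⟨y, hy⟩) (hq i h hh)
  simp only [resK_apply, Mero.toK_apply] at h1
  exact h1

variable (hS : ∀ z : X, Curv2.IsWeakAssPoint (unitM X) z → ∃ i, z ∈ V i)

include hS in
theorem IsDen.compat {W W' : X.Opens} {e : Γ(L, W)} {e' : Γ(L, W')} (he : IsTriv L W e)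
    (he' : IsTriv L W' e') {q : Γ(Mero.kmod X, W)} {q' : Γ(Mero.kmod X, W')}
    (hq : IsDen V ε W e q) (hq' : IsDen V ε W' e' q') (g : Γ(X, W ⊓ W'))
    (hg : res L (inf_le_right : W ⊓ W' ≤ W') e' = g • res L (inf_le_left : W ⊓ W' ≤ W) e) :
    resK (inf_le_left : W ⊓ W' ≤ W) q =
      Mero.toK X (W ⊓ W') g * resK (inf_le_right : W ⊓ W' ≤ W') q' := by
  set Vtot : X.Opens := ⨆ i, V i with hVtot
  have hSV : ∀ z : X, Curv2.IsWeakAssPoint (unitM X) z → z ∈ Vtot := fun z hz => by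
    obtain ⟨i, hi⟩ := hS z hz
    exact Opens.mem_iSup.mpr ⟨i, hi⟩
  have hdense : ∀ W'' : X.Opens, W'' ≤ W ⊓ W' → Function.Injective
      ⇑(X.presheaf.map (homOfLE (inf_le_left : W'' ⊓ ((W ⊓ W') ⊓ Vtot) ≤ W'')).op) := by
    intro W'' hW''
    have h1 := injective_res_of_weakAss_subset Vtot hSV W''
    have hle2 : W'' ⊓ Vtot ≤ W'' ⊓ ((W ⊓ W') ⊓ Vtot) := fun p hp => ⟨hp.1, hW'' hp.1, hp.2⟩
    intro r r' hrr
    apply h1
    have := congrArg (X.presheaf.map (homOfLE hle2).op) hrr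
    simp only [← CommRingCat.comp_apply, ← Functor.map_comp] at this
    exact this
  apply resK_injective_of_dense (inf_le_left : (W ⊓ W') ⊓ Vtot ≤ W ⊓ W') hdense
  apply kmod_ext
  rintro ⟨p, hp⟩
  obtain ⟨i, hpi⟩ := Opens.mem_iSup.mp hp.2
  have hpW : p ∈ W := hp.1.1
  have hpW' : p ∈ W' := hp.1.2
  obtain ⟨h, hh⟩ := (he (W ⊓ V i) inf_le_left).2 (res L (inf_le_right : W ⊓ V i ≤ V i) (ε i))
  obtain ⟨h', hh'⟩ := (he' (W' ⊓ V i) inf_le_left).2
    (res L (inf_le_right : W' ⊓ V i ≤ V i) (ε i))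
  have hh₁ : res L (inf_le_right : W ⊓ V i ≤ V i) (ε i) = h • res L inf_le_left e := hh.symm
  have hh₁' : res L (inf_le_right : W' ⊓ V i ≤ V i) (ε i) = h' • res L inf_le_left e' := hh'.symm
  rw [resK_apply, resK_apply, map_mul, Mero.kmod_mul_apply, resK_apply, resK_apply, resK_apply,
    Mero.toK_apply]
  rw [hq.apply V ε i h hh₁ p ⟨hpW, hpi⟩, hq'.apply V ε i h' hh₁' p ⟨hpW', hpi⟩]
  refine Eq.trans ?_ (LocalizedModule.mk_mul_mk.trans (Mero.mk_congr rfl (by rw [mul_one]))).symm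
  refine Mero.mk_congr ?_ rfl
  -- compare the functions on `T = (W ⊓ W') ⊓ V i`
  set T : X.Opens := (W ⊓ W') ⊓ V i with hT
  have hpT : p ∈ T := ⟨hp.1, hpi⟩
  have hTW : T ≤ W ⊓ V i := fun z hz => ⟨hz.1.1, hz.2⟩
  have hTW' : T ≤ W' ⊓ V i := fun z hz => ⟨hz.1.2, hz.2⟩
  have hTWW' : T ≤ W ⊓ W' := inf_le_left
  have key : X.presheaf.map (homOfLE hTW).op h =
      X.presheaf.map (homOfLE hTWW').op g * X.presheaf.map (homOfLE hTW').op h' := by
    apply (he T (hTW.trans inf_le_left)).1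
    change X.presheaf.map (homOfLE hTW).op h • res L (hTW.trans inf_le_left) e =
      (X.presheaf.map (homOfLE hTWW').op g * X.presheaf.map (homOfLE hTW').op h') •
        res L (hTW.trans inf_le_left) e
    have e1 : X.presheaf.map (homOfLE hTW).op h • res L (hTW.trans inf_le_left) e =
        res L (hTW.trans inf_le_right) (ε i) := by
      have := congrArg (res L hTW) hh₁
      rw [res_smul, res_res, res_res] at this
      exact this.symm
    have e2 : X.presheaf.map (homOfLE hTW').op h' • res L (hTW'.trans inf_le_left) e' =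
        res L (hTW.trans inf_le_right) (ε i) := by
      have := congrArg (res L hTW') hh₁'
      rw [res_smul, res_res, res_res] at this
      exact this.symm
    have e3 : res L (hTW'.trans inf_le_left) e' =
        X.presheaf.map (homOfLE hTWW').op g • res L (hTW.trans inf_le_left) e := by
      have := congrArg (res L hTWW') hg
      rw [res_smul, res_res, res_res] at this
      exact this
    rw [e1, ← e2, e3, mul_smul, smul_comm]
  have h1 := congrArg (X.presheaf.germ T p hpT) key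
  rw [map_mul, X.presheaf.germ_res_apply, X.presheaf.germ_res_apply, X.presheaf.germ_res_apply]
    at h1
  exact h1

end Core

end Groth.Agent.Lib.Helper29.QCoh.MeroK
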