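import Groth.Agent.Lib.Helper29.MeroCore4
set_option autoImplicit false
universe u
open CategoryTheory CategoryTheory.Limits AlgebraicGeometry TopologicalSpace Opposite

namespace Groth.Agent.Lib.Helper29.QCoh.MeroK
open Groth.Agent.Lib.Helper26

variable {X : Scheme.{u}} {L : X.Modules}

theorem exists_mdata_of_family {I : Type*} (V : I → X.Opens) (ε : ∀ i, Γ(L, V i))
    (hε : ∀ i, IsTriv L (V i) (ε i))
    (hdisj : ∀ (i j : I) (p : X), p ∈ V i → p ∈ V j → i = j)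
    (hS : ∀ z : X, Curv2.IsWeakAssPoint (unitM X) z → ∃ i, z ∈ V i)
    (hlf : ∀ x : X, ∃ W₀ : X.Opens, x ∈ W₀ ∧
      {z : X | z ∈ W₀ ∧ Curv2.IsWeakAssPoint (unitM X) z}.Finite)
    (hL : PicF.IsInvertible L) : Nonempty (MData L) := by
  have hex : ∀ x : X, ∃ (W : X.Opens) (e : Γ(L, W)) (q : (Γ(Mero.kmod X, W))ˣ),
      x ∈ W ∧ IsTriv L W e ∧ IsDen V ε W e (q : Γ(Mero.kmod X, W)) := by
    intro x
    obtain ⟨W₀, hxW₀, hfin⟩ := hlf x
    obtain ⟨U, e, hU, hxU, hUW, he⟩ := exists_affine_isTriv hL x hxW₀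
    have hfinU : {z : X | z ∈ U ∧ Curv2.IsWeakAssPoint (unitM X) z}.Finite :=
      hfin.subset fun z hz => ⟨hUW hz.1, hz.2⟩
    obtain ⟨q, hq⟩ := exists_isDen V ε hε hdisj hS hU e he hfinU
    exact ⟨U, e, q, hxU, he, hq⟩
  choose W e q hmem htriv hden using hex
  refine ⟨⟨W, hmem, e, htriv, q, ?_⟩⟩
  intro x y T hx hy g hg
  obtain ⟨g₀, hg₀⟩ := ((htriv x).restrict (inf_le_left : W x ⊓ W y ≤ W x)).exists_eq_smul
    (res L (inf_le_right : W x ⊓ W y ≤ W y) (e y))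
  have h1 := IsDen.compat V ε hS (htriv x) (htriv y) (hden x) (hden y) g₀ hg₀
  have hT : T ≤ W x ⊓ W y := le_inf hx hy
  have h2 := congrArg (resK hT) h1
  rw [map_mul, resK_resK, resK_resK, resK_toK] at h2
  have h3 : X.presheaf.map (homOfLE hT).op g₀ = g := by
    apply (htriv x T hx).1
    change X.presheaf.map (homOfLE hT).op g₀ • res L hx (e x) = g • res L hx (e x)
    rw [← hg]
    have := congrArg (res L hT) hg₀
    rw [res_smul, res_res, res_res] at this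
    exact this.symm
  rw [h3] at h2
  exact h2

end Groth.Agent.Lib.Helper29.QCoh.MeroK
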