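import Groth.Agent.Lib.Helper29.MeroCore5
set_option autoImplicit false
universe u
open CategoryTheory CategoryTheory.Limits AlgebraicGeometry TopologicalSpace Opposite

namespace Groth.Agent.Lib.Helper29.QCoh.MeroK
open Groth.Agent.Lib.Helper26

variable {X : Scheme.{u}} {L : X.Modules}

/-- A point without proper generalisations is weakly associated to `O_X`. -/
theorem isWeakAssPoint_of_generic (x : X) (h : ∀ y : X, y ⤳ x → y = x) :
    Curv2.IsWeakAssPoint (unitM X) x := by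
  obtain ⟨U, hU, hxU, -⟩ := exists_isAffineOpen_mem_and_subset (x := x) (U := ⊤) trivial
  have hmin := GenericAffine.primeIdealOf_mem_minimalPrimes hU x hxU h
  apply isWeakAssPoint_of_mem_minimalPrimes (unitM X) hU (toUnit (1 : Γ(X, U))) x hxU
  have e : annSection (unitM X) (toUnit (1 : Γ(X, U))) = ⊥ := by
    ext r
    rw [mem_annSection, Ideal.mem_bot]
    change r * 1 = 0 ↔ _
    rw [mul_one]
  rw [e]
  exact hmin

/-- Every point has a generalisation without proper generalisations. -/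
theorem exists_generic_specializes (p : X) : ∃ η : X, η ⤳ p ∧ ∀ y : X, y ⤳ η → y = η := by
  have hZ := irreducibleComponent_mem_irreducibleComponents p
  obtain ⟨η, hη⟩ := QuasiSober.sober (isIrreducible_irreducibleComponent (x := p))
    isClosed_irreducibleComponent
  refine ⟨η, ?_, ?_⟩
  · rw [specializes_iff_mem_closure, hη.def]
    exact mem_irreducibleComponent
  · apply GenericAffine.eq_of_specializes_of_mem_irreducibleComponents
    rw [hη.def]
    exact hZ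

theorem exists_weakAss_specializes (p : X) :
    ∃ η : X, Curv2.IsWeakAssPoint (unitM X) η ∧ η ⤳ p := by
  obtain ⟨η, h1, h2⟩ := exists_generic_specializes p
  exact ⟨η, isWeakAssPoint_of_generic η h2, h1⟩

theorem exists_family_of_locFinite (hL : PicF.IsInvertible L)
    (H1 : ∀ x : X, Curv2.IsWeakAssPoint (unitM X) x →
      ∀ y : X, Curv2.IsWeakAssPoint (unitM X) y → y ⤳ x → y = x)
    (H2 : ∀ x : X, ∃ W₀ : X.Opens, x ∈ W₀ ∧
      {z : X | z ∈ W₀ ∧ Curv2.IsWeakAssPoint (unitM X) z}.Finite) :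
    ∃ (V : {z : X // Curv2.IsWeakAssPoint (unitM X) z} → X.Opens) (ε : ∀ i, Γ(L, V i)),
      (∀ i, IsTriv L (V i) (ε i)) ∧ (∀ (i j) (p : X), p ∈ V i → p ∈ V j → i = j) ∧
      ∀ z : X, Curv2.IsWeakAssPoint (unitM X) z → ∃ i, z ∈ V i := by
  classical
  set I := {z : X // Curv2.IsWeakAssPoint (unitM X) z} with hI
  have hex : ∀ ξ : I, ∃ (U : X.Opens) (e : Γ(L, U)), ξ.1 ∈ U ∧ IsTriv L U e :=
    fun ξ => exists_isTriv hL ξ.1
  choose V' e' hmem' htriv' using hex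
  have hlf : LocallyFinite (fun ξ : I => closure ({ξ.1} : Set X)) := by
    intro x
    obtain ⟨W₀, hxW₀, hfin⟩ := H2 x
    refine ⟨W₀, W₀.isOpen.mem_nhds hxW₀, ?_⟩
    have hsub : {i : I | (closure ({i.1} : Set X) ∩ (W₀ : Set X)).Nonempty} ⊆
        Subtype.val ⁻¹' {z : X | z ∈ W₀ ∧ Curv2.IsWeakAssPoint (unitM X) z} := by
      rintro i ⟨y, hy1, hy2⟩
      have hs : i.1 ⤳ y := specializes_iff_mem_closure.mpr hy1
      exact ⟨hs.mem_open W₀.isOpen hy2, i.2⟩
    exact (hfin.preimage Subtype.val_injective.injOn).subset hsub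
  have hclosed : ∀ ξ : I, IsClosed (⋃ ξ' : {ξ' : I // ξ' ≠ ξ}, closure ({ξ'.1.1} : Set X)) :=
    fun ξ => (hlf.comp_injective Subtype.val_injective).isClosed_iUnion fun _ => isClosed_closure
  let C : I → X.Opens := fun ξ => ⟨(⋃ ξ' : {ξ' : I // ξ' ≠ ξ}, closure ({ξ'.1.1} : Set X))ᶜ,
    (hclosed ξ).isOpen_compl⟩
  have hmemC : ∀ (ξ : I) (p : X), p ∈ C ξ ↔ ∀ ξ' : I, ξ' ≠ ξ → ¬ (ξ'.1 ⤳ p) := by
    intro ξ p
    change p ∈ (⋃ ξ' : {ξ' : I // ξ' ≠ ξ}, closure ({ξ'.1.1} : Set X))ᶜ ↔ _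
    rw [Set.mem_compl_iff, Set.mem_iUnion]
    constructor
    · intro h ξ' hne hs
      exact h ⟨⟨ξ', hne⟩, specializes_iff_mem_closure.mp hs⟩
    · rintro h ⟨ξ', hξ'⟩
      exact h ξ'.1 ξ'.2 (specializes_iff_mem_closure.mpr hξ')
  refine ⟨fun ξ => V' ξ ⊓ C ξ, fun ξ => res L inf_le_left (e' ξ),
    fun ξ => (htriv' ξ).restrict inf_le_left, ?_, ?_⟩
  · intro i j p hpi hpj
    obtain ⟨η, hη, hs⟩ := exists_weakAss_specializes p
    have h1 : (⟨η, hη⟩ : I) = i := by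
      by_contra hne
      exact (hmemC i p).mp hpi.2 ⟨η, hη⟩ hne hs
    have h2 : (⟨η, hη⟩ : I) = j := by
      by_contra hne
      exact (hmemC j p).mp hpj.2 ⟨η, hη⟩ hne hs
    exact h1.symm.trans h2
  · intro z hz
    refine ⟨⟨z, hz⟩, hmem' ⟨z, hz⟩, (hmemC ⟨z, hz⟩ z).mpr fun ξ' hne hs => hne ?_⟩
    exact Subtype.ext (H1 z hz ξ'.1 ξ'.2 hs)

end Groth.Agent.Lib.Helper29.QCoh.MeroK
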