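import Groth.Agent.Lib.Helper29.MeroCore6
import Groth.Agent.Lib.Helper29.SemiLoc2
set_option autoImplicit false
universe u
open CategoryTheory CategoryTheory.Limits AlgebraicGeometry TopologicalSpace Opposite

namespace Groth.Agent.Lib.Helper29.QCoh.MeroK
open Groth.Agent.Lib.Helper26

variable {X : Scheme.{u}} {L : X.Modules}

theorem nonempty_mdata_of_locFinite (hL : PicF.IsInvertible L)
    (H1 : ∀ x : X, Curv2.IsWeakAssPoint (unitM X) x →
      ∀ y : X, Curv2.IsWeakAssPoint (unitM X) y → y ⤳ x → y = x)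
    (H2 : ∀ x : X, ∃ W₀ : X.Opens, x ∈ W₀ ∧
      {z : X | z ∈ W₀ ∧ Curv2.IsWeakAssPoint (unitM X) z}.Finite) : Nonempty (MData L) := by
  obtain ⟨V, ε, hε, hdisj, hS⟩ := exists_family_of_locFinite hL H1 H2
  exact exists_mdata_of_family V ε hε hdisj hS H2 hL

theorem locFinite_weakAss_of_noetherian [IsLocallyNoetherian X] (x : X) :
    ∃ W₀ : X.Opens, x ∈ W₀ ∧ {z : X | z ∈ W₀ ∧ Curv2.IsWeakAssPoint (unitM X) z}.Finite := by
  obtain ⟨U, hU, hxU, -⟩ := exists_isAffineOpen_mem_and_subset (x := x) (U := ⊤) trivial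
  exact ⟨U, hxU, finite_weakAss_unit_of_isNoetherian hU⟩

theorem nonempty_mdata_of_noetherian_noEmbedded [IsLocallyNoetherian X]
    (hne : ∀ x : ↥X, Curv2.IsAssPoint (Coh.structureModule X) x →
      ∀ y : ↥X, Curv2.IsAssPoint (Coh.structureModule X) y → y ⤳ x → y = x)
    (hL : PicF.IsInvertible L) : Nonempty (MData L) := by
  refine nonempty_mdata_of_locFinite hL ?_ locFinite_weakAss_of_noetherian
  intro x hx y hy hyx
  exact hne x ((isAssPoint_iff_isWeakAssPoint _ x).mpr hx) y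
    ((isAssPoint_iff_isWeakAssPoint _ y).mpr hy) hyx

theorem weakAss_generic_of_reduced [IsReduced X] (x : X)
    (hx : Curv2.IsWeakAssPoint (unitM X) x) : ∀ y : X, y ⤳ x → y = x :=
  (ReducedWeakAss.main X x).mp hx

theorem nonempty_mdata_of_reduced_compact [IsReduced X]
    (hfin : ∀ U : X.Opens, IsCompact (U : Set ↥X) →
      (irreducibleComponents ↥(U : Scheme.{u})).Finite)
    (hL : PicF.IsInvertible L) : Nonempty (MData L) := by
  refine nonempty_mdata_of_locFinite hL ?_ ?_
  · intro x hx y _ hyx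
    exact weakAss_generic_of_reduced x hx y hyx
  · intro x
    obtain ⟨U, hU, hxU, -⟩ := exists_isAffineOpen_mem_and_subset (x := x) (U := ⊤) trivial
    exact ⟨U, hxU, finite_weakAss_of_generic hU weakAss_generic_of_reduced
      (hfin U hU.isCompact)⟩

theorem nonempty_mdata_of_reduced_locFinite [IsReduced X]
    (hX : ∀ x : ↥X, ∃ W : X.Opens, x ∈ W ∧
      {Z : Set ↥X | Z ∈ irreducibleComponents ↥X ∧ (Z ∩ (W : Set ↥X)).Nonempty}.Finite)
    (hL : PicF.IsInvertible L) : Nonempty (MData L) := by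
  refine nonempty_mdata_of_locFinite hL ?_ ?_
  · intro x hx y _ hyx
    exact weakAss_generic_of_reduced x hx y hyx
  · intro x
    obtain ⟨W, hxW, hfin⟩ := hX x
    refine ⟨W, hxW, ?_⟩
    apply Set.Finite.of_finite_image (f := fun z : X => closure ({z} : Set X))
    · refine hfin.subset ?_
      rintro _ ⟨z, ⟨hzW, hz⟩, rfl⟩
      exact ⟨closure_mem_irreducibleComponents_of_maximal z (weakAss_generic_of_reduced z hz),
        ⟨z, subset_closure rfl, hzW⟩⟩
    · rintro z ⟨-, hz⟩ z' ⟨-, hz'⟩ (h : closure ({z} : Set X) = closure ({z'} : Set X))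
      have hs : z ⤳ z' := by
        rw [specializes_iff_mem_closure, h]
        exact subset_closure rfl
      exact weakAss_generic_of_reduced z' hz' z hs

theorem nonempty_mdata_of_ass_subset_affine [IsLocallyNoetherian X] (W : X.Opens)
    (hW : IsAffineOpen W)
    (hass : ∀ x : ↥X, IsAssociatedPrime (IsLocalRing.maximalIdeal ↑(X.presheaf.stalk x))
      ↑(X.presheaf.stalk x) → x ∈ W)
    (hL : PicF.IsInvertible L) : Nonempty (MData L) := by
  have hfin := finite_weakAss_unit_of_isNoetherian hW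
  obtain ⟨U, hZU, hUW, ⟨iso⟩⟩ := exists_open_free_of_finite_subset 1 L
    ((isInvertible_iff_isFinLocFreeOfRank_one L).mp hL)
    {z : X | z ∈ W ∧ Curv2.IsWeakAssPoint (unitM X) z} hfin W hW (fun z hz => hz.1)
  obtain ⟨e, he⟩ := exists_isTriv_of_iso U (iso ≪≫ freeModOneIso _)
  exact exists_mdata_of_family (I := Unit) (fun _ => U) (fun _ => e) (fun _ => he)
    (fun _ _ _ _ _ => rfl)
    (fun z hz => ⟨(), hZU ⟨hass z
      (Groth.Agent.Lib.Helper29.QCoh.MeroPull.isAssociatedPrime_of_isWeakAssPoint_unit z hz), hz⟩⟩)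
    locFinite_weakAss_of_noetherian hL

end Groth.Agent.Lib.Helper29.QCoh.MeroK
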