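import Groth.Agent.Lib.Helper29.MeroCore4
set_option autoImplicit false
universe u
open CategoryTheory CategoryTheory.Limits AlgebraicGeometry TopologicalSpace Opposite

namespace Groth.Agent.Lib.Helper29.QCoh.MeroK
open Groth.Agent.Lib.Helper26

variable {X : Scheme.{u}} {L : X.Modules}

theorem mer_smul_apply (F : X.Modules) {U : X.Opens} (r : Γ(X, U)) (t : Γ(Mero.merMod F, U))
    (y : U) : (r • t).1 y = X.presheaf.germ U y.1 y.2 r • t.1 y := rfl

theorem mer_add_apply (F : X.Modules) {U : X.Opens} (t t' : Γ(Mero.merMod F, U))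
    (y : U) : (t + t').1 y = t.1 y + t'.1 y := rfl

theorem mer_res_apply (F : X.Modules) {U V : X.Opens} (h : V ≤ U) (t : Γ(Mero.merMod F, U))
    (y : V) : (res (Mero.merMod F) h t).1 y = t.1 ⟨y.1, h y.2⟩ := rfl

theorem exists_mer_local_rep (F : X.Modules) {U : X.Opens} (t : Γ(Mero.merMod F, U)) (x : X)
    (hx : x ∈ U) :
    ∃ (W : X.Opens) (_ : x ∈ W) (hWU : W ≤ U) (m : Γ(F, W)) (b : Mero.regSub X W),
      ∀ y : W, t.1 ⟨y.1, hWU y.2⟩ =
        LocalizedModule.mk (F.presheaf.germ W y.1 y.2 m) (Mero.regGerm y b) := by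
  obtain ⟨V, hxV, i, m, b, hmb⟩ := t.2 ⟨x, hx⟩
  exact ⟨V, hxV, i.le, m, b, fun y => hmb y⟩

/-- The killing lemma for meromorphic sections of an invertible module, local form. -/
theorem mer_exists_pow_local (hL : PicF.IsInvertible L) {U : X.Opens} (h : Γ(X, U))
    (t : Γ(Mero.merMod L, U)) (ht : ∀ y : U, y.1 ∈ X.basicOpen h → t.1 y = 0) (x : X)
    (hx : x ∈ U) :
    ∃ (W : X.Opens) (_ : x ∈ W) (hWU : W ≤ U) (n : ℕ), ∀ (y : W) (k : ℕ), n ≤ k →
      (X.presheaf.germ U y.1 (hWU y.2) h) ^ k • t.1 ⟨y.1, hWU y.2⟩ = 0 := by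
  obtain ⟨V, hxV, hVU, m, b, hmb⟩ := exists_mer_local_rep L t x hx
  obtain ⟨W, e, hW, hxW, hWV, he⟩ := exists_affine_isTriv hL x hxV
  obtain ⟨a, ha⟩ := he.exists_eq_smul (res L hWV m)
  have hWU : W ≤ U := hWV.trans hVU
  set h' : Γ(X, W) := X.presheaf.map (homOfLE hWU).op h with hh'
  have hgm : ∀ (y : X) (hyW : y ∈ W), L.presheaf.germ V y (hWV hyW) m =
      X.presheaf.germ W y hyW a • L.presheaf.germ W y hyW e := by
    intro y hyW
    rw [← germ_res L hWV y hyW m, ha, germ_smul]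
  have hres : a |_ (X.basicOpen h') = 0 := by
    apply TopCat.Presheaf.section_ext X.sheaf
    intro y hy
    have hyW : y ∈ W := X.basicOpen_le h' hy
    have hyh : y ∈ X.basicOpen h := by
      rw [hh', Scheme.basicOpen_res] at hy
      exact hy.2
    have h1 := ht ⟨y, hWU hyW⟩ hyh
    have h1' : t.1 ⟨y, hWU hyW⟩ = LocalizedModule.mk (L.presheaf.germ V y (hWV hyW) m)
        (Mero.regGerm ⟨y, hWV hyW⟩ b) := hmb ⟨y, hWV hyW⟩
    rw [h1', hgm y hyW] at h1
    have h3 : (LocalizedModule.mk (X.presheaf.germ W y hyW a • L.presheaf.germ W y hyW e)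
        (Mero.regGerm ⟨y, hWV hyW⟩ b) : Mero.MStalk L y) =
        (Localization.mk (X.presheaf.germ W y hyW a) (Mero.regGerm ⟨y, hWV hyW⟩ b) :
          Mero.KStalk X y) • (LocalizedModule.mk (L.presheaf.germ W y hyW e) 1 :
          Mero.MStalk L y) := by
      rw [LocalizedModule.mk_smul_mk, mul_one]
    rw [h3] at h1
    have h4 := isTriv_mk_germ_free he y hyW _ h1
    have h5 : X.presheaf.germ W y hyW a = 0 := (mk_eq_zero_iff _ _).mp h4
    refine Eq.trans ?_ ((h5.symm ▸ (map_zero (X.presheaf.germ (X.basicOpen h') y hy).hom).symm :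
      (X.presheaf.germ W y hyW a) = X.presheaf.germ (X.basicOpen h') y hy 0))
    exact X.presheaf.germ_res_apply _ y hy a
  obtain ⟨n, hn⟩ := exists_pow_mul_eq_zero_of_res_basicOpen_eq_zero_of_isAffineOpen X hW a h' hres
  refine ⟨W, hxW, hWU, n, fun y k hk => ?_⟩
  have h1' : t.1 ⟨y.1, hWU y.2⟩ = LocalizedModule.mk (L.presheaf.germ V y.1 (hWV y.2) m)
      (Mero.regGerm ⟨y.1, hWV y.2⟩ b) := hmb ⟨y.1, hWV y.2⟩
  rw [h1', LocalizedModule.smul'_mk, hgm y.1 y.2]
  have hg : X.presheaf.germ U y.1 (hWU y.2) h = X.presheaf.germ W y.1 y.2 h' :=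
    (X.presheaf.germ_res_apply (homOfLE hWU) y.1 y.2 h).symm
  rw [hg, smul_smul, ← map_pow, ← map_mul]
  obtain ⟨j, rfl⟩ := Nat.exists_eq_add_of_le hk
  rw [pow_add, mul_comm (h' ^ n), mul_assoc, hn, mul_zero, map_zero, zero_smul,
    LocalizedModule.zero_mk]

/-- The killing lemma on a quasi-compact open. -/
theorem mer_exists_pow_smul_eq_zero (hL : PicF.IsInvertible L) {U : X.Opens}
    (hU : IsCompact (U : Set X)) (h : Γ(X, U))
    (t : Γ(Mero.merMod L, U)) (ht : ∀ y : U, y.1 ∈ X.basicOpen h → t.1 y = 0) :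
    ∃ n : ℕ, h ^ n • t = 0 := by
  choose W hxW hWU n hn using fun x : U => mer_exists_pow_local hL h t ht x.1 x.2
  obtain ⟨T, hT⟩ := hU.elim_finite_subcover (fun x : U => ((W x : X.Opens) : Set X))
    (fun x => (W x).isOpen) (fun y hy => Set.mem_iUnion.mpr ⟨⟨y, hy⟩, hxW ⟨y, hy⟩⟩)
  refine ⟨T.sup n, mer_ext L fun y => ?_⟩
  rw [mer_smul_apply, mer_zero_apply, map_pow]
  obtain ⟨x, hxT, hyx⟩ : ∃ x ∈ T, y.1 ∈ W x := by
    have := hT y.2
    simp only [Set.mem_iUnion, exists_prop] at this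
    exact this
  exact hn x ⟨y.1, hyx⟩ (T.sup n) (Finset.le_sup hxT)

/-- Two-section form of the killing lemma. -/
theorem mer_exists_pow_smul_eq (hL : PicF.IsInvertible L) {U : X.Opens}
    (hU : IsCompact (U : Set X)) (h : Γ(X, U))
    (t t' : Γ(Mero.merMod L, U)) (ht : ∀ y : U, y.1 ∈ X.basicOpen h → t.1 y = t'.1 y) :
    ∃ n : ℕ, h ^ n • t = h ^ n • t' := by
  obtain ⟨n, hn⟩ := mer_exists_pow_smul_eq_zero hL hU h (t + (-1 : Γ(X, U)) • t') (fun y hy => by
    rw [mer_add_apply, mer_smul_apply, ht y hy, map_neg, map_one, neg_one_smul, add_neg_cancel])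
  refine ⟨n, ?_⟩
  rw [smul_add, smul_comm, neg_one_smul] at hn
  exact add_neg_eq_zero.mp hn

end Groth.Agent.Lib.Helper29.QCoh.MeroK
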