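import Groth.Agent.Lib.Helper29.MeroCore7
import Groth.Agent.Lib.Helper29.MeroDen1
import Groth.Agent.Lib.Helper29.PullSect
set_option autoImplicit false
universe u
open CategoryTheory CategoryTheory.Limits AlgebraicGeometry TopologicalSpace Opposite

namespace Groth.Agent.Lib.Helper29.QCoh.MeroK
open Groth.Agent.Lib.Helper26

variable {X : Scheme.{u}} {L : X.Modules}

theorem app_inv_app {M N : X.Modules} (φ : M ≅ N) (U : X.Opens) (n : Γ(N, U)) :
    φ.hom.app U (φ.inv.app U n) = n := by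
  have : (φ.inv ≫ φ.hom).app U n = n := by rw [φ.inv_hom_id]; rfl
  exact this

/-- An isomorphism `L ≅ O_X(D)` yields a compatible family. -/
theorem nonempty_mdata_of_iso (D : Mero.Divisor X) (φ : L ≅ Mero.divMod D) :
    Nonempty (MData L) := by
  have hex : ∀ x : X, ∃ (U : X.Opens) (_ : x ∈ U) (f : (Γ(Mero.kmod X, U))ˣ),
      ∀ y : U, D.1 y.1 = Mero.germOf f y := fun x => D.2 x
  choose U hxU f hf using hex
  refine ⟨⟨U, hxU, fun x => φ.inv.app (U x) (divGen D (f x) (hf x)),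
    fun x => IsTriv.of_iso φ.symm (isTriv_divGen D (f x) (hf x)), f, ?_⟩⟩
  intro x y T hx hy g hg
  have h1 := congrArg (φ.hom.app T) hg
  rw [Scheme.Modules.Hom.app_smul, app_res, app_res, app_inv_app, app_inv_app] at h1
  apply kmod_ext
  intro z
  have h2 := congrArg (fun t : Γ(Mero.divMod D, T) => t.1 z) h1
  simp only [div_res_apply, div_smul_apply, divGen_apply] at h2
  rw [Mero.kmod_mul_apply, resK_apply, resK_apply, Mero.toK_apply]
  rw [smul_eq_mk_mul] at h2
  have e1 := unit_val_mul_inv (f x) ⟨z.1, hx z.2⟩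
  have e2 := unit_val_mul_inv (f y) ⟨z.1, hy z.2⟩
  calc (f x : Γ(Mero.kmod X, U x)).1 ⟨z.1, hx z.2⟩
      = (f x : Γ(Mero.kmod X, U x)).1 ⟨z.1, hx z.2⟩ *
        ((f y : Γ(Mero.kmod X, U y)).1 ⟨z.1, hy z.2⟩ *
          ((f y)⁻¹ : (Γ(Mero.kmod X, U y))ˣ).1.1 ⟨z.1, hy z.2⟩) := by rw [e2, mul_one]
    _ = _ := by
      rw [h2]
      rw [show ∀ a b c dd : Mero.KStalk X z.1, a * (b * (c * dd)) = c * b * (a * dd) from
        fun a b c dd => by ring, e1, mul_one]

end Groth.Agent.Lib.Helper29.QCoh.MeroK
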