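import Groth.Agent.Lib.Helper29.MeroCore8
set_option autoImplicit false
universe u
open CategoryTheory CategoryTheory.Limits AlgebraicGeometry TopologicalSpace Opposite

namespace Groth.Agent.Lib.Helper29.QCoh.MeroK
open Groth.Agent.Lib.Helper26

variable {X : Scheme.{u}} {L : X.Modules}

theorem exists_coeff {U : X.Opens} {e : Γ(L, U)} (hT : IsTriv L U e) (z : X) (hz : z ∈ U)
    (t : Mero.MStalk L z) :
    ∃ k : Mero.KStalk X z,
      t = k • (LocalizedModule.mk (L.presheaf.germ U z hz e) 1 : Mero.MStalk L z) := by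
  induction t using LocalizedModule.induction_on with
  | h m' s' =>
    have hm' : m' ∈ Submodule.span (X.presheaf.stalk z) {L.presheaf.germ U z hz e} := by
      rw [hT.span_germ_eq_top z hz]; trivial
    obtain ⟨r, rfl⟩ := Submodule.mem_span_singleton.mp hm'
    exact ⟨Localization.mk r s', by rw [LocalizedModule.mk_smul_mk, mul_one]⟩

theorem coeff_unique {U : X.Opens} {e : Γ(L, U)} (hT : IsTriv L U e) (z : X) (hz : z ∈ U)
    (k k' : Mero.KStalk X z)
    (h : k • (LocalizedModule.mk (L.presheaf.germ U z hz e) 1 : Mero.MStalk L z) =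
      k' • (LocalizedModule.mk (L.presheaf.germ U z hz e) 1 : Mero.MStalk L z)) : k = k' := by
  rw [← sub_eq_zero]
  apply isTriv_mk_germ_free hT z hz
  rw [sub_smul, h, sub_self]

/-- The coefficient of a meromorphic section with respect to a trivialising section. -/
theorem exists_coeff_section {W : X.Opens} {e : Γ(L, W)} (hT : IsTriv L W e)
    (s : Γ(Mero.merMod L, ⊤)) :
    ∃ q : Γ(Mero.kmod X, W), ∀ z : W, s.1 ⟨z.1, Opens.mem_top z.1⟩ =
      q.1 z • (LocalizedModule.mk (L.presheaf.germ W z.1 z.2 e) 1 : Mero.MStalk L z.1) := by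
  choose qf hqf using fun z : W => exists_coeff hT z.1 z.2 (s.1 ⟨z.1, Opens.mem_top z.1⟩)
  have hpred : (Mero.kLoc X).pred qf := by
    intro z₀
    obtain ⟨V, hzV, hVtop, m, b, hmb⟩ := exists_mer_local_rep L s z₀.1 (Opens.mem_top z₀.1)
    set V' : X.Opens := V ⊓ W with hV'
    obtain ⟨a, ha⟩ := (hT.restrict (inf_le_right : V' ≤ W)).exists_eq_smul
      (res L (inf_le_left : V' ≤ V) m)
    refine ⟨V', ⟨hzV, z₀.2⟩, homOfLE inf_le_right, a,
      ⟨X.presheaf.map (homOfLE (inf_le_left : V' ≤ V)).op b.1, Mero.regSub_res _ b.2⟩,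
      fun z => ?_⟩
    have hzW : z.1 ∈ W := z.2.2
    have hzV' : z.1 ∈ V := z.2.1
    change qf ⟨z.1, hzW⟩ = _
    apply coeff_unique hT z.1 hzW
    rw [← hqf ⟨z.1, hzW⟩]
    have h1 : s.1 ⟨z.1, Opens.mem_top z.1⟩ = LocalizedModule.mk
        (L.presheaf.germ V z.1 hzV' m) (Mero.regGerm ⟨z.1, hzV'⟩ b) := hmb ⟨z.1, hzV'⟩
    rw [h1]
    have h2 : L.presheaf.germ V z.1 hzV' m =
        X.presheaf.germ V' z.1 z.2 a • L.presheaf.germ W z.1 hzW e := by
      rw [← germ_res L (inf_le_left : V' ≤ V) z.1 z.2 m, ha, germ_smul, germ_res]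
    rw [h2]
    refine Eq.trans ?_ (LocalizedModule.mk_smul_mk _ _ _ _).symm
    refine Mero.mk_congr rfl ?_
    rw [mul_one]
    exact (X.presheaf.germ_res_apply (homOfLE (inf_le_left : V' ≤ V)) z.1 z.2 b.1).symm
  exact ⟨⟨qf, hpred⟩, fun z => hqf z⟩

theorem isUnit_of_pointwise_regular [IsLocallyNoetherian X] {W : X.Opens} (hW : IsAffineOpen W)
    (q : Γ(Mero.kmod X, W))
    (h : ∀ (z : W) (k : Mero.KStalk X z.1), k * q.1 z = 0 → k = 0) : IsUnit q := by
  obtain ⟨b, ⟨c, hbc⟩, hb⟩ := exists_nonZeroDivisor_denominator hW q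
  have hbreg : b ∈ Mero.regSub X W := mem_regSub_of_mem_nonZeroDivisors hW b hb
  have hub : IsUnit (Mero.toK X W b) := isUnit_toK ⟨b, hbreg⟩
  have hcreg : c ∈ Mero.regSub X W := by
    intro z
    change X.presheaf.germ W z.1 z.2 c ∈ nonZeroDivisors (X.presheaf.stalk z.1)
    rw [mem_nonZeroDivisors_iff_right]
    intro r hr
    have h1 := congrArg (fun t : Γ(Mero.kmod X, W) => t.1 z) hbc
    simp only [Mero.kmod_mul_apply, Mero.toK_apply] at h1
    have h2 : ((LocalizedModule.mk r 1 : Mero.KStalk X z.1) *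
        LocalizedModule.mk (X.presheaf.germ W z.1 z.2 b) 1) * q.1 z = 0 := by
      rw [mul_assoc, h1]
      refine LocalizedModule.mk_mul_mk.trans ?_
      rw [mk_eq_zero_iff]; exact hr
    have h3 := h z _ h2
    have h4 : (LocalizedModule.mk (r * X.presheaf.germ W z.1 z.2 b) (1 * 1) :
        Mero.KStalk X z.1) = 0 := by
      rw [← h3]; exact LocalizedModule.mk_mul_mk.symm
    rw [mk_eq_zero_iff] at h4
    exact mem_nonZeroDivisors_iff_right.mp (hbreg z) r h4
  have huc : IsUnit (Mero.toK X W c) := isUnit_toK ⟨c, hcreg⟩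
  have : IsUnit (Mero.toK X W b * q) := by rw [hbc]; exact huc
  exact isUnit_of_mul_isUnit_right this

theorem nonempty_mdata_of_hasRegularMero [IsLocallyNoetherian X] (hL : PicF.IsInvertible L)
    (h : Mero.HasRegularMero L) : Nonempty (MData L) := by
  obtain ⟨s, hs⟩ := h
  have hex : ∀ x : X, ∃ (W : X.Opens) (e : Γ(L, W)) (q : (Γ(Mero.kmod X, W))ˣ),
      x ∈ W ∧ IsTriv L W e ∧ ∀ z : W, s.1 ⟨z.1, Opens.mem_top z.1⟩ =
        (q : Γ(Mero.kmod X, W)).1 z •
          (LocalizedModule.mk (L.presheaf.germ W z.1 z.2 e) 1 : Mero.MStalk L z.1) := by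
    intro x
    obtain ⟨W, e, hW, hxW, -, he⟩ := exists_affine_isTriv hL (W := ⊤) x (Opens.mem_top x)
    obtain ⟨q, hq⟩ := exists_coeff_section he s
    have hu : IsUnit q := by
      apply isUnit_of_pointwise_regular hW
      intro z k hk
      apply hs z.1 k
      rw [hq z, smul_smul, hk, zero_smul]
    exact ⟨W, e, hu.unit, hxW, he, hq⟩
  choose W e q hmem htriv hq using hex
  refine ⟨⟨W, hmem, e, htriv, q, ?_⟩⟩
  intro x y T hx hy g hg
  apply kmod_ext
  intro z
  rw [Mero.kmod_mul_apply, resK_apply, resK_apply, Mero.toK_apply]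
  apply coeff_unique (htriv x) z.1 (hx z.2)
  rw [← hq x ⟨z.1, hx z.2⟩, hq y ⟨z.1, hy z.2⟩]
  have h1 := congrArg (L.presheaf.germ T z.1 z.2) hg
  rw [germ_smul, germ_res, germ_res] at h1
  rw [h1, mul_comm, mul_smul]
  congr 1
  refine Eq.trans ?_ (LocalizedModule.mk_smul_mk _ _ _ _).symm
  exact Mero.mk_congr rfl (by rw [mul_one])

end Groth.Agent.Lib.Helper29.QCoh.MeroK
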