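import Groth.Agent.Lib.Helper29.MeroDen1
set_option autoImplicit false
universe u
open CategoryTheory CategoryTheory.Limits AlgebraicGeometry TopologicalSpace Opposite

namespace Groth.Agent.Lib.Helper29.QCoh.MeroK
open Groth.Agent.Lib.Helper26

variable {X : Scheme.{u}} {L : X.Modules}

theorem mem_denomIdeal_iff (F : X.Modules) (s : Γ(Mero.merMod F, ⊤)) (U : X.Opens) (f : Γ(X, U)) :
    f ∈ Mero.denomIdeal F s U ↔ ∃ m : Γ(F, U), ∀ x : U,
      X.presheaf.germ U x.1 x.2 f • s.1 ⟨x.1, Opens.mem_top x.1⟩ =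
        (LocalizedModule.mk (F.presheaf.germ U x.1 x.2 m) 1 : Mero.MStalk F x.1) := Iff.rfl

theorem denomIdeal_res_le (F : X.Modules) (s : Γ(Mero.merMod F, ⊤)) {U V : X.Opens} (h : V ≤ U) :
    (Mero.denomIdeal F s U).map (X.presheaf.map (homOfLE h).op).hom ≤ Mero.denomIdeal F s V := by
  rw [Ideal.map_le_iff_le_comap]
  intro a ha
  obtain ⟨m, hm⟩ := (mem_denomIdeal_iff F s U a).mp ha
  rw [Ideal.mem_comap, mem_denomIdeal_iff]
  refine ⟨res F h m, fun y => ?_⟩
  have := hm ⟨y.1, h y.2⟩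
  rw [germ_res]
  refine Eq.trans ?_ this
  congr 1
  exact X.presheaf.germ_res_apply (homOfLE h) y.1 y.2 a

theorem denomIdeal_map_basicOpen (hL : PicF.IsInvertible L) (s : Γ(Mero.merMod L, ⊤))
    {U : X.Opens} (hU : IsAffineOpen U) (f : Γ(X, U)) :
    (Mero.denomIdeal L s U).map (X.presheaf.map (homOfLE (X.basicOpen_le f)).op).hom =
      Mero.denomIdeal L s (X.basicOpen f) := by
  haveI : L.IsQuasicoherent := isQuasicoherent_of_isInvertible hL
  refine le_antisymm (denomIdeal_res_le L s _) ?_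
  intro g hg
  obtain ⟨m', hm'⟩ := (mem_denomIdeal_iff L s _ g).mp hg
  have hloc := hU.isLocalization_basicOpen f
  obtain ⟨k, a₀, ha₀⟩ := IsLocalization.Away.surj f g
  have halg : ∀ r : Γ(X, U), algebraMap Γ(X, U) Γ(X, X.basicOpen f) r =
      X.presheaf.map (homOfLE (X.basicOpen_le f)).op r := fun r => rfl
  rw [halg, halg] at ha₀
  obtain ⟨n, m₀, hm₀⟩ := exists_pow_smul_eq_res L hU f m'
  set ρ := X.presheaf.map (homOfLE (X.basicOpen_le f)).op with hρ
  -- pointwise identities on D(f)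
  have hptg : ∀ (y : X) (hy : y ∈ X.basicOpen f),
      X.presheaf.germ (X.basicOpen f) y hy g * X.presheaf.germ U y (X.basicOpen_le f hy) f ^ k =
        X.presheaf.germ U y (X.basicOpen_le f hy) a₀ := by
    intro y hy
    have := congrArg (X.presheaf.germ (X.basicOpen f) y hy) ha₀
    rw [map_mul, map_pow, X.presheaf.germ_res_apply, X.presheaf.germ_res_apply] at this
    exact this
  have hptm : ∀ (y : X) (hy : y ∈ X.basicOpen f),
      X.presheaf.germ U y (X.basicOpen_le f hy) f ^ n • L.presheaf.germ (X.basicOpen f) y hy m' =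
        L.presheaf.germ U y (X.basicOpen_le f hy) m₀ := by
    intro y hy
    have := congrArg (L.presheaf.germ (X.basicOpen f) y hy) hm₀
    rw [germ_smul, map_pow, X.presheaf.germ_res_apply, germ_res] at this
    exact this
  set a₁ : Γ(X, U) := f ^ n * a₀ with ha₁
  set m₁ : Γ(L, U) := f ^ k • m₀ with hm₁
  obtain ⟨N, hN⟩ := mer_exists_pow_smul_eq hL hU.isCompact f
    (a₁ • res (Mero.merMod L) le_top s) ((Mero.toMer L).app U m₁) (by
      intro y hy
      rw [mer_smul_apply, mer_res_apply, toMer_app_apply]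
      have h1 := hm' ⟨y.1, hy⟩
      rw [ha₁, map_mul, map_pow, ← hptg y.1 hy, hm₁, germ_smul, map_pow, ← hptm y.1 hy]
      rw [show ∀ F G A : X.presheaf.stalk y.1, F ^ n * (G * F ^ k) = (F ^ k * F ^ n) * G from
        fun F G A => by ring]
      · rw [mul_smul, h1, LocalizedModule.smul'_mk, mul_smul]
      · exact 0)
  -- `f^N * a₁` is a denominator over `U`
  have hmem : f ^ N * a₁ ∈ Mero.denomIdeal L s U := by
    rw [mem_denomIdeal_iff]
    refine ⟨f ^ N • m₁, fun y => ?_⟩
    have := congrArg (fun t : Γ(Mero.merMod L, U) => t.1 y) hN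
    simp only [mer_smul_apply, mer_res_apply, toMer_app_apply] at this
    rw [map_mul, mul_smul, this, LocalizedModule.smul'_mk]
    exact congrArg (fun z => (LocalizedModule.mk z 1 : Mero.MStalk L y.1))
      (germ_smul L y.1 U y.2 (f ^ N) m₁).symm
  have hu : IsUnit (ρ f) := X.toRingedSpace.isUnit_res_basicOpen f
  have himg : ρ (f ^ N * a₁) = (ρ f) ^ (N + n + k) * g := by
    rw [ha₁, map_mul, map_mul, map_pow, map_pow, ← ha₀]
    ring
  obtain ⟨c, hc⟩ := (hu.pow (N + n + k)).exists_left_inv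
  have hgeq : g = c * ρ (f ^ N * a₁) := by
    rw [himg, ← mul_assoc, hc, one_mul]
  rw [hgeq]
  exact Ideal.mul_mem_left _ _ (Ideal.mem_map_of_mem _ hmem)

end Groth.Agent.Lib.Helper29.QCoh.MeroK
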