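import Groth.Agent.Lib.Helper29.MeroDen2
set_option autoImplicit false
universe u
open CategoryTheory CategoryTheory.Limits AlgebraicGeometry TopologicalSpace Opposite

namespace Groth.Agent.Lib.Helper29.QCoh.MeroK
open Groth.Agent.Lib.Helper26

variable {X : Scheme.{u}} {L : X.Modules}

theorem exists_denom_idealSheaf (hL : PicF.IsInvertible L) (s : Γ(Mero.merMod L, ⊤)) :
    ∃ I : X.IdealSheafData, (∀ U : X.affineOpens, I.ideal U = Mero.denomIdeal L s U.1) ∧
      interior (I.support : Set ↥X) = ∅ := by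
  let I : X.IdealSheafData :=
    { ideal := fun U => Mero.denomIdeal L s U.1
      map_ideal_basicOpen := fun U f => denomIdeal_map_basicOpen hL s U.2 f }
  refine ⟨I, fun U => rfl, ?_⟩
  rw [Set.eq_empty_iff_forall_notMem]
  intro x hx
  obtain ⟨O, hOsub, hOopen, hxO⟩ := mem_interior.mp hx
  obtain ⟨V, hxV, hVtop, m, b, hmb⟩ := exists_mer_local_rep L s x trivial
  obtain ⟨W, hW, hxW, hWle⟩ := exists_isAffineOpen_mem_and_subset (x := x)
    (U := V ⊓ ⟨O, hOopen⟩) ⟨hxV, hxO⟩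
  have hWV : W ≤ V := fun z hz => (hWle hz).1
  have hWO : ∀ z : X, z ∈ W → z ∈ O := fun z hz => (hWle hz).2
  set b' : Γ(X, W) := X.presheaf.map (homOfLE hWV).op b.1 with hb'
  have hb'reg : b' ∈ Mero.regSub X W := Mero.regSub_res _ b.2
  have hb'mem : b' ∈ Mero.denomIdeal L s W := by
    rw [mem_denomIdeal_iff]
    refine ⟨res L hWV m, fun y => ?_⟩
    have h1 : s.1 ⟨y.1, Opens.mem_top y.1⟩ = LocalizedModule.mk
        (L.presheaf.germ V y.1 (hWV y.2) m) (Mero.regGerm ⟨y.1, hWV y.2⟩ b) :=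
      hmb ⟨y.1, hWV y.2⟩
    rw [h1, LocalizedModule.smul'_mk, germ_res]
    have hg : X.presheaf.germ W y.1 y.2 b' = X.presheaf.germ V y.1 (hWV y.2) b.1 :=
      X.presheaf.germ_res_apply (homOfLE hWV) y.1 y.2 b.1
    rw [hg]
    exact LocalizedModule.mk_cancel (Mero.regGerm ⟨y.1, hWV y.2⟩ b) _
  -- `D(b')` is nonempty
  have hne : X.basicOpen b' ≠ ⊥ := by
    intro hbot
    have hnil : IsNilpotent b' :=
      (Scheme.isNilpotent_iff_basicOpen_eq_bot_of_isCompact hW.isCompact b').mpr hbot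
    obtain ⟨n, hn⟩ := hnil
    have h1 : X.presheaf.germ W x hxW b' ^ n = 0 := by rw [← map_pow, hn, map_zero]
    have h2 : X.presheaf.germ W x hxW b' ∈ nonZeroDivisors (X.presheaf.stalk x) :=
      hb'reg ⟨x, hxW⟩
    have h3 := pow_mem h2 n
    rw [h1] at h3
    exact zero_notMem_nonZeroDivisors h3
  obtain ⟨y, hy⟩ : ∃ y : X, y ∈ X.basicOpen b' := by
    by_contra hcon
    apply hne
    ext z
    simp only [Opens.coe_bot, Set.mem_empty_iff_false, iff_false]
    exact fun hz => hcon ⟨z, hz⟩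
  have hyW : y ∈ W := X.basicOpen_le b' hy
  have hysupp : y ∈ I.support := hOsub (hWO y hyW)
  have h4 := (Scheme.IdealSheafData.mem_support_iff_of_mem (I := I) (U := ⟨W, hW⟩) hyW).mp hysupp
  rw [Scheme.mem_zeroLocus_iff] at h4
  exact h4 b' hb'mem hy

end Groth.Agent.Lib.Helper29.QCoh.MeroK
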