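import Groth.Agent.Lib.Helper29.MeroK5
import Groth.Agent.Lib.Helper29.RelAmple
import Groth.Prelude.Def_MeroDiv
set_option autoImplicit false
universe u
open CategoryTheory CategoryTheory.Limits AlgebraicGeometry TopologicalSpace Opposite

namespace Groth.Agent.Lib.Helper29.QCoh.MeroK

variable {X : Scheme.{u}}

/-- Build a section of `O_X(D)` from a meromorphic function satisfying the divisor condition. -/
noncomputable def divMk (D : Mero.Divisor X) {U : X.Opens} (t : Γ(Mero.kmod X, U))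
    (h : ∀ x : U, Mero.DivCond D x.1 (t.1 x)) : Γ(Mero.divMod D, U) :=
  ⟨t.1, t.2, h⟩

/-- The underlying meromorphic function of a section of `O_X(D)`. -/
noncomputable def divVal (D : Mero.Divisor X) {U : X.Opens} (t : Γ(Mero.divMod D, U)) :
    Γ(Mero.kmod X, U) := ⟨t.1, t.2.1⟩

theorem divVal_apply (D : Mero.Divisor X) {U : X.Opens} (t : Γ(Mero.divMod D, U)) (x : U) :
    (divVal D t).1 x = t.1 x := rfl

theorem divMk_apply (D : Mero.Divisor X) {U : X.Opens} (t : Γ(Mero.kmod X, U))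
    (h : ∀ x : U, Mero.DivCond D x.1 (t.1 x)) (x : U) : (divMk D t h).1 x = t.1 x := rfl

theorem div_ext (D : Mero.Divisor X) {U : X.Opens} {t t' : Γ(Mero.divMod D, U)}
    (h : ∀ x : U, t.1 x = t'.1 x) : t = t' := Subtype.ext (funext h)

theorem div_smul_apply (D : Mero.Divisor X) {U : X.Opens} (r : Γ(X, U)) (t : Γ(Mero.divMod D, U))
    (x : U) : (r • t).1 x = X.presheaf.germ U x.1 x.2 r • t.1 x := rfl

theorem div_res_apply (D : Mero.Divisor X) {U V : X.Opens} (h : V ≤ U) (t : Γ(Mero.divMod D, U))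
    (x : V) : (res (Mero.divMod D) h t).1 x = t.1 ⟨x.1, h x.2⟩ := rfl

theorem divCond_of_div (D : Mero.Divisor X) {U : X.Opens} (t : Γ(Mero.divMod D, U)) (x : U) :
    Mero.DivCond D x.1 (t.1 x) := t.2.2 x

/-- value of a unit and its inverse. -/
theorem unit_val_mul_inv {U : X.Opens} (f : (Γ(Mero.kmod X, U))ˣ) (x : U) :
    (f : Γ(Mero.kmod X, U)).1 x * ((f⁻¹ : (Γ(Mero.kmod X, U))ˣ) : Γ(Mero.kmod X, U)).1 x = 1 := by
  rw [← Mero.kmod_mul_apply, Units.mul_inv, Mero.kmod_one_apply]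

theorem unit_inv_mul_val {U : X.Opens} (f : (Γ(Mero.kmod X, U))ˣ) (x : U) :
    ((f⁻¹ : (Γ(Mero.kmod X, U))ˣ) : Γ(Mero.kmod X, U)).1 x * (f : Γ(Mero.kmod X, U)).1 x = 1 := by
  rw [mul_comm]; exact unit_val_mul_inv f x

/-- If `D_x` is the class of the unit `f_x`, then the divisor condition for `t` at `x` says
`t * f_x` lies in the local ring. -/
theorem divCond_iff_of_germOf (D : Mero.Divisor X) {U : X.Opens} (f : (Γ(Mero.kmod X, U))ˣ)
    (x : U) (hD : D.1 x.1 = Mero.germOf f x) (t : Mero.KStalk X x.1) :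
    Mero.DivCond D x.1 t ↔
      t * (f : Γ(Mero.kmod X, U)).1 x ∈
        (algebraMap (X.presheaf.stalk x.1) (Mero.KStalk X x.1)).range := by
  constructor
  · intro h
    exact h (Units.map (Mero.evalK X U x).toMonoidHom f) hD
  · intro h g hg
    rw [hD] at hg
    have h1 := (QuotientGroup.eq (s := Mero.stalkUnits X x.1)).mp hg
    obtain ⟨u, hu⟩ := h1
    have hu' : algebraMap (X.presheaf.stalk x.1) (Mero.KStalk X x.1) u.1 =
        ((Units.map (Mero.evalK X U x).toMonoidHom f)⁻¹ * g : (Mero.KStalk X x.1)ˣ).1 :=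
      congrArg Units.val hu
    have hfv : ((Units.map (Mero.evalK X U x).toMonoidHom f) : (Mero.KStalk X x.1)ˣ).1 =
        (f : Γ(Mero.kmod X, U)).1 x := rfl
    have hg' : g.1 = (f : Γ(Mero.kmod X, U)).1 x *
        algebraMap (X.presheaf.stalk x.1) (Mero.KStalk X x.1) u.1 := by
      rw [hu', Units.val_mul, ← mul_assoc, ← hfv, Units.mul_inv, one_mul]
    rw [hg', ← mul_assoc]
    exact mul_mem h ⟨u.1, rfl⟩

end Groth.Agent.Lib.Helper29.QCoh.MeroK

namespace Groth.Agent.Lib.Helper29.QCoh.MeroK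

variable {X : Scheme.{u}}

/-- Units restrict to units. -/
noncomputable def resUnit {U V : X.Opens} (h : V ≤ U) (f : (Γ(Mero.kmod X, U))ˣ) :
    (Γ(Mero.kmod X, V))ˣ := Units.map (resK h).toMonoidHom f

theorem resUnit_val {U V : X.Opens} (h : V ≤ U) (f : (Γ(Mero.kmod X, U))ˣ) (x : V) :
    ((resUnit h f : (Γ(Mero.kmod X, V))ˣ) : Γ(Mero.kmod X, V)).1 x =
      (f : Γ(Mero.kmod X, U)).1 ⟨x.1, h x.2⟩ := rfl

theorem smul_eq_mk_mul {x : X} (a : X.presheaf.stalk x) (q : Mero.KStalk X x) :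
    a • q = (LocalizedModule.mk a 1 : Mero.KStalk X x) * q := by
  rw [Algebra.smul_def, algebraMap_eq_mk]

/-- The local generator `f⁻¹` of `O_X(D)` where `D` is the class of `f`. -/
noncomputable def divGen (D : Mero.Divisor X) {U : X.Opens} (f : (Γ(Mero.kmod X, U))ˣ)
    (hD : ∀ y : U, D.1 y.1 = Mero.germOf f y) : Γ(Mero.divMod D, U) :=
  divMk D ((f⁻¹ : (Γ(Mero.kmod X, U))ˣ) : Γ(Mero.kmod X, U)) (fun x => by
    rw [divCond_iff_of_germOf D f x (hD x), unit_inv_mul_val]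
    exact one_mem _)

theorem divGen_apply (D : Mero.Divisor X) {U : X.Opens} (f : (Γ(Mero.kmod X, U))ˣ)
    (hD : ∀ y : U, D.1 y.1 = Mero.germOf f y) (x : U) :
    (divGen D f hD).1 x = ((f⁻¹ : (Γ(Mero.kmod X, U))ˣ) : Γ(Mero.kmod X, U)).1 x := rfl

theorem isTriv_divGen (D : Mero.Divisor X) {U : X.Opens} (f : (Γ(Mero.kmod X, U))ˣ)
    (hD : ∀ y : U, D.1 y.1 = Mero.germOf f y) : IsTriv (Mero.divMod D) U (divGen D f hD) := by
  intro W hWU
  constructor
  · intro r r' hrr
    apply TopCat.Presheaf.section_ext X.sheaf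
    intro y hy
    have h1 := congrArg (fun t : Γ(Mero.divMod D, W) => t.1 ⟨y, hy⟩) hrr
    simp only [div_smul_apply, div_res_apply, divGen_apply] at h1
    have h2 := congrArg (fun q => q * (f : Γ(Mero.kmod X, U)).1 ⟨y, hWU hy⟩) h1
    simp only [smul_eq_mk_mul, mul_assoc] at h2
    rw [unit_inv_mul_val f ⟨y, hWU hy⟩, mul_one, mul_one] at h2
    exact mk_one_injective h2
  · intro t
    -- `s = t * f` is a function
    set s : Γ(Mero.kmod X, W) := divVal D t * (resUnit hWU f : (Γ(Mero.kmod X, W))ˣ) with hs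
    have hrange : ∀ y : W, s.1 y ∈
        (algebraMap (X.presheaf.stalk y.1) (Mero.KStalk X y.1)).range := by
      intro y
      rw [hs, Mero.kmod_mul_apply, divVal_apply, resUnit_val]
      exact (divCond_iff_of_germOf D f ⟨y.1, hWU y.2⟩ (hD _) _).mp (divCond_of_div D t y)
    obtain ⟨r, hr⟩ := exists_eq_toK s hrange
    refine ⟨r, div_ext D fun y => ?_⟩
    rw [div_smul_apply, div_res_apply, divGen_apply, smul_eq_mk_mul, ← Mero.toK_apply, hr, hs,
      Mero.kmod_mul_apply, divVal_apply, resUnit_val, mul_assoc, unit_val_mul_inv, mul_one]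

theorem isInvertible_divMod (D : Mero.Divisor X) : PicF.IsInvertible (Mero.divMod D) := by
  refine isInvertible_of_isTriv' fun x => ?_
  obtain ⟨U, hxU, f, hf⟩ := D.2 x
  exact ⟨U, divGen D f hf, hxU, isTriv_divGen D f hf⟩

end Groth.Agent.Lib.Helper29.QCoh.MeroK
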