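import Groth.Agent.Lib.Helper29.MeroDiv1
import Groth.Agent.Lib.Helper29.Cocycle
set_option autoImplicit false
universe u
open CategoryTheory CategoryTheory.Limits AlgebraicGeometry TopologicalSpace Opposite

namespace Groth.Agent.Lib.Helper29.QCoh.MeroK

variable {X : Scheme.{u}}

theorem divCond_mul_of (D D' : Mero.Divisor X) (x : X) (q : (Mero.KStalk X x)ˣ)
    (hq : D.1 x = QuotientGroup.mk q * D'.1 x) (t : Mero.KStalk X x) (ht : Mero.DivCond D x t) :
    Mero.DivCond D' x (t * q) := by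
  intro g' hg'
  have := ht (q * g') (by rw [hq, hg', QuotientGroup.mk_mul])
  rwa [Units.val_mul, ← mul_assoc] at this

theorem div_add_apply (D : Mero.Divisor X) {U : X.Opens} (t t' : Γ(Mero.divMod D, U)) (x : U) :
    (t + t').1 x = t.1 x + t'.1 x := rfl

theorem div_zero_apply (D : Mero.Divisor X) {U : X.Opens} (x : U) :
    (0 : Γ(Mero.divMod D, U)).1 x = 0 := rfl

/-- Multiplication by a global unit `f` of `K_X` maps `O_X(D)` to `O_X(D')` when `D = div f * D'`. -/
noncomputable def divMulApp (D D' : Mero.Divisor X) (f : (Γ(Mero.kmod X, ⊤))ˣ)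
    (h : ∀ x : X, D.1 x = Mero.germOf f ⟨x, Opens.mem_top x⟩ * D'.1 x) (W : X.Opens) :
    Γ(Mero.divMod D, W) →+ Γ(Mero.divMod D', W) where
  toFun t := divMk D' (divVal D t * (resUnit le_top f : (Γ(Mero.kmod X, W))ˣ)) (fun x => by
    rw [Mero.kmod_mul_apply, divVal_apply, resUnit_val]
    exact divCond_mul_of D D' x.1 (Units.map (Mero.evalK X ⊤ ⟨x.1, Opens.mem_top x.1⟩).toMonoidHom f)
      (h x.1) _ (divCond_of_div D t x))
  map_zero' := div_ext D' fun x => by
    rw [divMk_apply, Mero.kmod_mul_apply, divVal_apply, div_zero_apply, zero_mul, div_zero_apply]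
  map_add' t t' := div_ext D' fun x => by
    rw [divMk_apply, Mero.kmod_mul_apply, divVal_apply, div_add_apply, add_mul, div_add_apply,
      divMk_apply, divMk_apply, Mero.kmod_mul_apply, Mero.kmod_mul_apply, divVal_apply,
      divVal_apply]

theorem divMulApp_apply (D D' : Mero.Divisor X) (f : (Γ(Mero.kmod X, ⊤))ˣ)
    (h : ∀ x : X, D.1 x = Mero.germOf f ⟨x, Opens.mem_top x⟩ * D'.1 x) (W : X.Opens)
    (t : Γ(Mero.divMod D, W)) (x : W) :
    (divMulApp D D' f h W t).1 x = t.1 x * (f : Γ(Mero.kmod X, ⊤)).1 ⟨x.1, Opens.mem_top x.1⟩ :=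
  rfl

noncomputable def divMulHom (D D' : Mero.Divisor X) (f : (Γ(Mero.kmod X, ⊤))ˣ)
    (h : ∀ x : X, D.1 x = Mero.germOf f ⟨x, Opens.mem_top x⟩ * D'.1 x) :
    Mero.divMod D ⟶ Mero.divMod D' :=
  homOfApp (divMulApp D D' f h)
    (fun W r t => div_ext D' fun x => by
      rw [divMulApp_apply, div_smul_apply, div_smul_apply, divMulApp_apply, smul_mul_assoc])
    (fun {W W'} hW t => div_ext D' fun x => rfl)

theorem divMulHom_app (D D' : Mero.Divisor X) (f : (Γ(Mero.kmod X, ⊤))ˣ)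
    (h : ∀ x : X, D.1 x = Mero.germOf f ⟨x, Opens.mem_top x⟩ * D'.1 x) (W : X.Opens)
    (t : Γ(Mero.divMod D, W)) : (divMulHom D D' f h).app W t = divMulApp D D' f h W t := rfl

theorem germOf_inv {U : X.Opens} (f : (Γ(Mero.kmod X, U))ˣ) (x : U) :
    Mero.germOf f⁻¹ x = (Mero.germOf f x)⁻¹ := by
  rw [Mero.germOf, Mero.germOf, map_inv, QuotientGroup.mk_inv]

theorem divMul_inv_hyp (D D' : Mero.Divisor X) (f : (Γ(Mero.kmod X, ⊤))ˣ)
    (h : ∀ x : X, D.1 x = Mero.germOf f ⟨x, Opens.mem_top x⟩ * D'.1 x) :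
    ∀ x : X, D'.1 x = Mero.germOf f⁻¹ ⟨x, Opens.mem_top x⟩ * D.1 x := fun x => by
  rw [h x, germOf_inv, inv_mul_cancel_left]

noncomputable def divMulIso (D D' : Mero.Divisor X) (f : (Γ(Mero.kmod X, ⊤))ˣ)
    (h : ∀ x : X, D.1 x = Mero.germOf f ⟨x, Opens.mem_top x⟩ * D'.1 x) :
    Mero.divMod D ≅ Mero.divMod D' where
  hom := divMulHom D D' f h
  inv := divMulHom D' D f⁻¹ (divMul_inv_hyp D D' f h)
  hom_inv_id := by
    apply Scheme.Modules.hom_ext
    intro W
    ext t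
    change (divMulHom D' D f⁻¹ (divMul_inv_hyp D D' f h)).app W ((divMulHom D D' f h).app W t) = t
    rw [divMulHom_app, divMulHom_app]
    refine div_ext D fun x => ?_
    rw [divMulApp_apply, divMulApp_apply, mul_assoc, unit_val_mul_inv, mul_one]
  inv_hom_id := by
    apply Scheme.Modules.hom_ext
    intro W
    ext t
    change (divMulHom D D' f h).app W ((divMulHom D' D f⁻¹ (divMul_inv_hyp D D' f h)).app W t) = t
    rw [divMulHom_app, divMulHom_app]
    refine div_ext D' fun x => ?_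
    rw [divMulApp_apply, divMulApp_apply, mul_assoc, unit_inv_mul_val, mul_one]

theorem nonempty_iso_of_linEquiv (D D' : Mero.Divisor X) (h : Mero.LinEquiv D D') :
    Nonempty (Mero.divMod D ≅ Mero.divMod D') := by
  obtain ⟨f, hf⟩ := h
  refine ⟨divMulIso D D' f fun x => ?_⟩
  have h1 : (D * D'⁻¹).1 x = (Mero.div f).1 x := by rw [hf]
  have h2 : (D * D'⁻¹).1 x = D.1 x * (D'.1 x)⁻¹ := rfl
  have h3 : (Mero.div f).1 x = Mero.germOf f ⟨x, Opens.mem_top x⟩ := rfl
  rw [← h3, ← h1, h2, inv_mul_cancel_right]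

end Groth.Agent.Lib.Helper29.QCoh.MeroK
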