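import Groth.Agent.Lib.Helper29.MeroMer1
import Groth.Agent.Lib.Helper26.ReducedWeakAss
set_option autoImplicit false
universe u
open CategoryTheory CategoryTheory.Limits AlgebraicGeometry TopologicalSpace Opposite

namespace Groth.Agent.Lib.Helper29.QCoh.MeroK
open Groth.Agent.Lib.Helper26

variable {X : Scheme.{u}}

/-- A function vanishing on the locus where a regular section is invertible vanishes. -/
theorem eq_zero_of_germ_eq_zero_on_basicOpen {W W' : X.Opens} (b : Mero.regSub X W)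
    (hW' : W' ≤ W) (r : Γ(X, W'))
    (h : ∀ (y : X) (hy : y ∈ W'), y ∈ X.basicOpen b.1 → X.presheaf.germ W' y hy r = 0) :
    r = 0 := by
  apply TopCat.Presheaf.section_ext X.sheaf
  intro y hy
  obtain ⟨W'', hW'', hyW'', hW''le⟩ := exists_isAffineOpen_mem_and_subset (x := y) (U := W') hy
  have hle : W'' ≤ W' := hW''le
  set b' : Γ(X, W'') := X.presheaf.map (homOfLE (hle.trans hW')).op b.1 with hb'
  set r' : Γ(X, W'') := X.presheaf.map (homOfLE hle).op r with hr'
  have hres : r' |_ (X.basicOpen b') = 0 := by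
    apply TopCat.Presheaf.section_ext X.sheaf
    intro p hp
    have hpW'' : p ∈ W'' := X.basicOpen_le b' hp
    have hpb : p ∈ X.basicOpen b.1 := by
      rw [hb', Scheme.basicOpen_res] at hp
      exact hp.2
    have h1 := h p (hle hpW'') hpb
    refine Eq.trans ?_ ((h1.symm ▸ (map_zero (X.presheaf.germ (X.basicOpen b') p hp).hom).symm :
      (X.presheaf.germ W' p (hle hpW'') r) = X.presheaf.germ (X.basicOpen b') p hp 0))
    refine (X.presheaf.germ_res_apply _ p hp r').trans ?_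
    rw [hr']
    exact X.presheaf.germ_res_apply (homOfLE hle) p hpW'' r
  obtain ⟨n, hn⟩ := exists_pow_mul_eq_zero_of_res_basicOpen_eq_zero_of_isAffineOpen X hW'' r' b' hres
  have h2 := congrArg (X.presheaf.germ W'' y hyW'') hn
  rw [map_mul, map_pow, map_zero] at h2
  have hbn : X.presheaf.germ W'' y hyW'' b' ∈ nonZeroDivisors (X.presheaf.stalk y) := by
    rw [hb', X.presheaf.germ_res_apply]
    exact b.2 ⟨y, hW' hy⟩
  have h3 := (mem_nonZeroDivisors_iff.mp (pow_mem hbn n)).1 _ h2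
  rw [hr', X.presheaf.germ_res_apply] at h3
  exact h3.trans (map_zero _).symm

/-- Local extension: if `b` is a regular section on the affine `W` with `D(b) ≤ V`, any function
on `W ⊓ V` is the restriction of a meromorphic function on `W`. -/
theorem exists_local_extension {W V : X.Opens} (hW : IsAffineOpen W) (b : Γ(X, W))
    (hb : b ∈ Mero.regSub X W) (hbV : X.basicOpen b ≤ V) (g : Γ(X, W ⊓ V)) :
    ∃ s : Γ(Mero.kmod X, W), resK (inf_le_left : W ⊓ V ≤ W) s = Mero.toK X (W ⊓ V) g := by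
  have hDle : X.basicOpen b ≤ W ⊓ V := le_inf (X.basicOpen_le b) hbV
  have hloc := hW.isLocalization_basicOpen b
  set g₁ : Γ(X, X.basicOpen b) := X.presheaf.map (homOfLE hDle).op g with hg₁
  obtain ⟨n, a, ha⟩ := IsLocalization.Away.surj b g₁
  have halg : ∀ r : Γ(X, W), algebraMap Γ(X, W) Γ(X, X.basicOpen b) r =
      X.presheaf.map (homOfLE (X.basicOpen_le b)).op r := fun r => rfl
  rw [halg, halg] at ha
  have hbn : b ^ n ∈ Mero.regSub X W := pow_mem hb n
  refine ⟨Mero.toK X W a * invK ⟨b ^ n, hbn⟩, ?_⟩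
  -- compare after multiplying by the unit `b^n`
  set bV : Γ(X, W ⊓ V) := X.presheaf.map (homOfLE (inf_le_left : W ⊓ V ≤ W)).op (b ^ n) with hbV'
  have hbVreg : bV ∈ Mero.regSub X (W ⊓ V) := Mero.regSub_res (homOfLE inf_le_left) hbn
  have hu : IsUnit (Mero.toK X (W ⊓ V) bV) := isUnit_toK ⟨bV, hbVreg⟩
  apply hu.mul_left_injective
  change resK _ _ * Mero.toK X (W ⊓ V) bV = Mero.toK X (W ⊓ V) g * Mero.toK X (W ⊓ V) bV
  have hinv : Mero.toK X W (b ^ n) * invK ⟨b ^ n, hbn⟩ = 1 := toK_mul_invK ⟨b ^ n, hbn⟩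
  rw [hbV', ← resK_toK, ← map_mul, mul_assoc, mul_comm (invK _), hinv, mul_one, resK_toK,
    resK_toK, ← map_mul]
  congr 1
  -- equality of functions on `W ⊓ V`, checked on `D(b)`
  rw [← sub_eq_zero]
  apply eq_zero_of_germ_eq_zero_on_basicOpen ⟨b, hb⟩ (inf_le_left : W ⊓ V ≤ W)
  intro y hy hyb
  rw [map_sub, sub_eq_zero, map_mul]
  have e1 : X.presheaf.germ (W ⊓ V) y hy (X.presheaf.map (homOfLE inf_le_left).op a) =
      X.presheaf.germ (X.basicOpen b) y hyb (X.presheaf.map (homOfLE (X.basicOpen_le b)).op a) := by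
    rw [X.presheaf.germ_res_apply, X.presheaf.germ_res_apply]
  have e2 : X.presheaf.germ (W ⊓ V) y hy g = X.presheaf.germ (X.basicOpen b) y hyb g₁ := by
    rw [hg₁, X.presheaf.germ_res_apply]
  have e3 : X.presheaf.germ (W ⊓ V) y hy (X.presheaf.map (homOfLE inf_le_left).op (b ^ n)) =
      X.presheaf.germ (X.basicOpen b) y hyb
        (X.presheaf.map (homOfLE (X.basicOpen_le b)).op b ^ n) := by
    rw [← map_pow, X.presheaf.germ_res_apply, X.presheaf.germ_res_apply]
  rw [e1, e2, e3, ← map_mul, ha]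

end Groth.Agent.Lib.Helper29.QCoh.MeroK

namespace Groth.Agent.Lib.Helper29.QCoh.MeroK
open Groth.Agent.Lib.Helper26

variable {X : Scheme.{u}}

/-- The ideal of functions on `W` whose nonvanishing locus lies in `V`. -/
noncomputable def idealIn (W V : X.Opens) : Ideal Γ(X, W) where
  carrier := {a | X.basicOpen a ≤ V}
  add_mem' := by
    intro a a' ha ha' y hy
    have hyW : y ∈ W := X.basicOpen_le _ hy
    rw [Scheme.mem_basicOpen _ _ _ hyW, map_add] at hy
    rcases IsLocalRing.isUnit_or_isUnit_of_isUnit_add hy with h | h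
    · exact ha ((Scheme.mem_basicOpen _ _ _ hyW).mpr h)
    · exact ha' ((Scheme.mem_basicOpen _ _ _ hyW).mpr h)
  zero_mem' := by
    change X.basicOpen (0 : Γ(X, W)) ≤ V
    rw [Scheme.basicOpen_zero]
    exact bot_le
  smul_mem' := by
    intro c a ha
    change X.basicOpen (c * a) ≤ V
    rw [Scheme.basicOpen_mul]
    exact inf_le_right.trans ha

theorem mem_idealIn {W V : X.Opens} (a : Γ(X, W)) : a ∈ idealIn W V ↔ X.basicOpen a ≤ V :=
  Iff.rfl

/-- If every element of `idealIn W V` kills `c`, then `c` vanishes on `W ⊓ V`. -/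
theorem res_eq_zero_of_forall_mul_eq_zero {W V : X.Opens} (hW : IsAffineOpen W) (c : Γ(X, W))
    (h : ∀ a ∈ idealIn W V, ∃ k : ℕ, a ^ k * c = 0) :
    X.presheaf.map (homOfLE (inf_le_left : W ⊓ V ≤ W)).op c = 0 := by
  apply TopCat.Presheaf.section_ext X.sheaf
  intro y hy
  obtain ⟨a, haV, hya⟩ := hW.exists_basicOpen_le (V := W ⊓ V) ⟨y, hy⟩ hy.1
  have hya' : y ∈ X.basicOpen a := hya
  obtain ⟨k, hk⟩ := h a ((mem_idealIn a).mpr (haV.trans inf_le_right))
  have h1 := congrArg (X.presheaf.germ W y hy.1) hk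
  rw [map_mul, map_pow, map_zero] at h1
  have hu : IsUnit (X.presheaf.germ W y hy.1 a) := by
    rwa [← Scheme.mem_basicOpen _ _ _ hy.1]
  have h2 := (hu.pow k).mul_right_eq_zero.mp h1
  refine Eq.trans ?_ ((h2.symm ▸ (map_zero (X.presheaf.germ (W ⊓ V) y hy).hom).symm :
      (X.presheaf.germ W y hy.1 c) = X.presheaf.germ (W ⊓ V) y hy 0))
  exact X.presheaf.germ_res_apply (homOfLE inf_le_left) y hy c

theorem exists_regular_basicOpen_le_of_noetherian [IsLocallyNoetherian X] {W V : X.Opens}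
    (hW : IsAffineOpen W)
    (hdense : Function.Injective (X.presheaf.map (homOfLE (inf_le_left : W ⊓ V ≤ W)).op)) :
    ∃ b ∈ Mero.regSub X W, X.basicOpen b ≤ V := by
  have hN : IsNoetherianRing Γ(X, W) := IsLocallyNoetherian.component_noetherian ⟨W, hW⟩
  obtain ⟨b, hbI, hbn⟩ := exists_mem_nonZeroDivisors_of_not_le_associatedPrimes (idealIn W V) (by
    rintro p ⟨hp, w, hw⟩ hle
    have hw0 : w = 0 := by
      apply hdense
      rw [map_zero]
      apply res_eq_zero_of_forall_mul_eq_zero hW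
      intro a ha
      have hap : a ∈ p := hle ha
      rw [hw] at hap
      obtain ⟨k, hk⟩ := hap
      rw [Submodule.mem_colon_singleton, Submodule.mem_bot, smul_eq_mul] at hk
      exact ⟨k, hk⟩
    rw [hw0] at hw
    have htop : ((⊥ : Submodule Γ(X, W) Γ(X, W)).colon {0}) = ⊤ := by
      rw [Ideal.eq_top_iff_one, Submodule.mem_colon_singleton, smul_zero]
      exact Submodule.zero_mem _
    rw [htop, Ideal.radical_top] at hw
    exact hp.ne_top hw)
  exact ⟨b, mem_regSub_of_mem_nonZeroDivisors hW b hbn, hbI⟩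

end Groth.Agent.Lib.Helper29.QCoh.MeroK

namespace Groth.Agent.Lib.Helper29.QCoh.MeroK
open Groth.Agent.Lib.Helper26

variable {X : Scheme.{u}}

theorem exists_regular_basicOpen_le_of_reduced [IsReduced X] {W V : X.Opens}
    (hW : IsAffineOpen W) (hfin : (minimalPrimes Γ(X, W)).Finite)
    (hdense : Function.Injective (X.presheaf.map (homOfLE (inf_le_left : W ⊓ V ≤ W)).op)) :
    ∃ b ∈ Mero.regSub X W, X.basicOpen b ≤ V := by
  classical
  have hinf : ∀ r : Γ(X, W), (∀ q ∈ minimalPrimes Γ(X, W), r ∈ q) → r = 0 := by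
    intro r hr
    have h1 : r ∈ sInf ((⊥ : Ideal Γ(X, W)).minimalPrimes) := by
      rw [Ideal.mem_sInf]
      intro q hq
      exact hr q hq
    rw [Ideal.sInf_minimalPrimes] at h1
    have h2 : IsNilpotent r := by
      obtain ⟨n, hn⟩ := h1
      exact ⟨n, hn⟩
    exact h2.eq_zero
  -- no minimal prime contains the ideal
  have hnot : ∀ p ∈ minimalPrimes Γ(X, W), ¬ idealIn W V ≤ p := by
    intro p hp hle
    have hpp : p.IsPrime := hp.1.1
    have hsep : ∀ q : Ideal Γ(X, W), ∃ c : Γ(X, W), c ∉ p ∧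
        (q ∈ minimalPrimes Γ(X, W) → q ≠ p → c ∈ q) := by
      intro q
      by_cases hq : q ∈ minimalPrimes Γ(X, W) ∧ q ≠ p
      · have hnle : ¬ q ≤ p := fun hqp => hq.2 (le_antisymm hqp (hp.2 hq.1.1 hqp))
        obtain ⟨c, hcq, hcp⟩ := Set.not_subset.mp hnle
        exact ⟨c, hcp, fun _ _ => hcq⟩
      · exact ⟨1, fun h1 => hpp.ne_top ((Ideal.eq_top_iff_one _).mpr h1),
          fun h1 h2 => absurd ⟨h1, h2⟩ hq⟩
    choose c hcp hcq using hsep
    set C : Γ(X, W) := ∏ q ∈ hfin.toFinset, c q with hC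
    have hCp : C ∉ p := by
      intro hmem
      obtain ⟨q, -, hq⟩ := (hpp.prod_mem_iff).mp hmem
      exact hcp q hq
    have hC0 : C = 0 := by
      apply hdense
      rw [map_zero]
      apply res_eq_zero_of_forall_mul_eq_zero hW
      intro a ha
      refine ⟨1, ?_⟩
      rw [pow_one]
      apply hinf
      intro q hq
      by_cases hqp : q = p
      · rw [hqp]
        exact Ideal.mul_mem_right _ _ (hle ha)
      · have hqfin : q ∈ hfin.toFinset := by rwa [Set.Finite.mem_toFinset]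
        exact Ideal.mul_mem_left _ _
          (Ideal.mem_of_dvd _ (Finset.dvd_prod_of_mem c hqfin) (hcq q hq hqp))
    exact hCp (hC0 ▸ p.zero_mem)
  -- prime avoidance
  have hex : ∃ b ∈ idealIn W V, ∀ p ∈ minimalPrimes Γ(X, W), b ∉ p := by
    by_contra hcon
    push Not at hcon
    have hsub : (idealIn W V : Set Γ(X, W)) ⊆
        ⋃ p ∈ (hfin.toFinset : Set (Ideal Γ(X, W))), ((id p : Ideal Γ(X, W)) : Set Γ(X, W)) := by
      intro b hb
      obtain ⟨p, hp, hbp⟩ := hcon b hb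
      simp only [Set.mem_iUnion, exists_prop]
      exact ⟨p, by simpa using hp, hbp⟩
    obtain ⟨p, hp, hIp⟩ := (Ideal.subset_union_prime (R := Γ(X, W)) (f := id) ⊥ ⊥
      (fun p hp _ _ => by
        have : p ∈ minimalPrimes Γ(X, W) := by simpa using hp
        exact this.1.1)).mp hsub
    exact hnot p (by simpa using hp) hIp
  obtain ⟨b, hbI, hb⟩ := hex
  refine ⟨b, mem_regSub_of_mem_nonZeroDivisors hW b ?_, hbI⟩
  rw [mem_nonZeroDivisors_iff_right]
  intro r hr
  apply hinf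
  intro q hq
  have : r * b ∈ q := by rw [hr]; exact q.zero_mem
  rcases hq.1.1.mem_or_mem this with h | h
  · exact h
  · exact absurd h (hb q hq)

end Groth.Agent.Lib.Helper29.QCoh.MeroK

namespace Groth.Agent.Lib.Helper29.QCoh.MeroK
open Groth.Agent.Lib.Helper26

variable {X : Scheme.{u}}

/-- A point without proper generizations is the generic point of an irreducible component. -/
theorem closure_mem_irreducibleComponents_of_maximal (z : X) (hz : ∀ y : X, y ⤳ z → y = z) :
    closure ({z} : Set X) ∈ irreducibleComponents X := by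
  obtain ⟨C, hC, hzC⟩ := exists_mem_irreducibleComponents_subset_of_isIrreducible
    (closure ({z} : Set X)) isIrreducible_singleton.closure
  have hCirr : IsIrreducible C := hC.1
  have hCcl : IsClosed C := isClosed_of_mem_irreducibleComponents C hC
  have hη := hCirr.isGenericPoint_genericPoint hCcl
  have hzmem : z ∈ C := hzC (subset_closure rfl)
  have hspec : hCirr.genericPoint ⤳ z := hη.specializes hzmem
  have heq := hz _ hspec
  rw [heq] at hη
  rw [hη.def]
  exact hC

theorem finite_minimalPrimes_of_locallyFinite {W W₀ : X.Opens} (hW : IsAffineOpen W)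
    (hWW₀ : W ≤ W₀)
    (hfin : {Z : Set ↥X | Z ∈ irreducibleComponents ↥X ∧ (Z ∩ (W₀ : Set ↥X)).Nonempty}.Finite) :
    (minimalPrimes Γ(X, W)).Finite := by
  have hpt : ∀ p : minimalPrimes Γ(X, W), ∃ (z : X) (hz : z ∈ W),
      hW.primeIdealOf ⟨z, hz⟩ = ⟨p.1, p.2.1.1⟩ := fun p => exists_point_of_prime' hW ⟨p.1, p.2.1.1⟩
  choose z hzW hzp using hpt
  have hgen : ∀ p : minimalPrimes Γ(X, W), ∀ y : X, y ⤳ z p → y = z p := by
    intro p y hy
    have hp' : (hW.primeIdealOf ⟨z p, hzW p⟩).asIdeal ∈ minimalPrimes Γ(X, W) := by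
      rw [hzp p]; exact p.2
    exact ReducedWeakAss.eq_of_specializes_of_mem_minimalPrimes hW (z p) (hzW p) hp' y hy
  let g : minimalPrimes Γ(X, W) →
      {Z : Set ↥X | Z ∈ irreducibleComponents ↥X ∧ (Z ∩ (W₀ : Set ↥X)).Nonempty} :=
    fun p => ⟨closure {z p}, closure_mem_irreducibleComponents_of_maximal (z p) (hgen p),
      ⟨z p, subset_closure rfl, hWW₀ (hzW p)⟩⟩
  have hg : Function.Injective g := by
    intro p q hpq
    have h1 : closure ({z p} : Set X) = closure {z q} := congrArg Subtype.val hpq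
    have h2 : z p = z q :=
      (isGenericPoint_closure (x := z p)).eq (h1 ▸ isGenericPoint_closure (x := z q))
    apply Subtype.ext
    have h3 : (hW.primeIdealOf ⟨z p, hzW p⟩).asIdeal = p.1 := congrArg PrimeSpectrum.asIdeal (hzp p)
    have h4 : (hW.primeIdealOf ⟨z q, hzW q⟩).asIdeal = q.1 := congrArg PrimeSpectrum.asIdeal (hzp q)
    rw [← h3, ← h4]
    congr 2
    exact Subtype.ext h2
  have : Finite {Z : Set ↥X | Z ∈ irreducibleComponents ↥X ∧ (Z ∩ (W₀ : Set ↥X)).Nonempty} :=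
    hfin.to_subtype
  exact Set.finite_coe_iff.mp (Finite.of_injective g hg)

end Groth.Agent.Lib.Helper29.QCoh.MeroK

namespace Groth.Agent.Lib.Helper29.QCoh.MeroK
open Groth.Agent.Lib.Helper26

variable {X : Scheme.{u}}

theorem resK_resK {U V W : X.Opens} (h : V ≤ U) (h' : W ≤ V) (s : Γ(Mero.kmod X, U)) :
    resK h' (resK h s) = resK (h'.trans h) s := rfl

theorem exists_extension (X : Scheme.{u})
    (hX : IsLocallyNoetherian X ∨ (IsReduced X ∧ ∀ x : ↥X, ∃ W : X.Opens, x ∈ W ∧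
      {Z : Set ↥X | Z ∈ irreducibleComponents ↥X ∧ (Z ∩ (W : Set ↥X)).Nonempty}.Finite))
    (U V : X.Opens) (hVU : V ≤ U)
    (hV : ∀ W : X.Opens, W ≤ U →
      Function.Injective ⇑(X.presheaf.map (homOfLE (inf_le_left : W ⊓ V ≤ W)).op))
    (g : Γ(X, V)) :
    ∃ s : Γ(Mero.kmod X, U), resK hVU s = Mero.toK X V g := by
  -- local extensions
  have hloc : ∀ x : U, ∃ (W : X.Opens) (_ : x.1 ∈ W) (hWU : W ≤ U) (s : Γ(Mero.kmod X, W)),
      resK (inf_le_left : W ⊓ V ≤ W) s =
        Mero.toK X (W ⊓ V) (X.presheaf.map (homOfLE (inf_le_right : W ⊓ V ≤ V)).op g) := by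
    rintro ⟨x, hx⟩
    rcases hX with hN | ⟨hR, hfin⟩
    · obtain ⟨W, hW, hxW, hWU⟩ := exists_isAffineOpen_mem_and_subset (x := x) (U := U) hx
      obtain ⟨b, hb, hbV⟩ := exists_regular_basicOpen_le_of_noetherian hW (hV W hWU)
      obtain ⟨s, hs⟩ := exists_local_extension hW b hb hbV
        (X.presheaf.map (homOfLE (inf_le_right : W ⊓ V ≤ V)).op g)
      exact ⟨W, hxW, hWU, s, hs⟩
    · obtain ⟨W₀, hxW₀, hW₀⟩ := hfin x
      obtain ⟨W, hW, hxW, hWle⟩ := exists_isAffineOpen_mem_and_subset (x := x) (U := U ⊓ W₀)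
        ⟨hx, hxW₀⟩
      have hWU : W ≤ U := fun p hp => (hWle hp).1
      have hWW₀ : W ≤ W₀ := fun p hp => (hWle hp).2
      obtain ⟨b, hb, hbV⟩ := exists_regular_basicOpen_le_of_reduced hW
        (finite_minimalPrimes_of_locallyFinite hW hWW₀ hW₀) (hV W hWU)
      obtain ⟨s, hs⟩ := exists_local_extension hW b hb hbV
        (X.presheaf.map (homOfLE (inf_le_right : W ⊓ V ≤ V)).op g)
      exact ⟨W, hxW, hWU, s, hs⟩
  choose W hxW hWU s hs using hloc
  -- compatibility
  have hcompat : TopCat.Presheaf.IsCompatible (Mero.kring X).1 W s := by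
    intro i j
    change resK (inf_le_left : W i ⊓ W j ≤ W i) (s i) = resK (inf_le_right : W i ⊓ W j ≤ W j) (s j)
    have hle : (W i ⊓ W j) ⊓ V ≤ W i ⊓ W j := inf_le_left
    apply resK_injective_of_dense hle
    · intro W' hW'
      have hW'U : W' ≤ U := hW'.trans (inf_le_left.trans (hWU i))
      have h1 := hV W' hW'U
      have hle2 : W' ⊓ V ≤ W' ⊓ ((W i ⊓ W j) ⊓ V) := fun p hp => ⟨hp.1, hW' hp.1, hp.2⟩
      intro r r' hrr
      apply h1
      have := congrArg (X.presheaf.map (homOfLE hle2).op) hrr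
      simp only [← CommRingCat.comp_apply, ← Functor.map_comp] at this
      exact this
    · rw [resK_resK, resK_resK]
      have hi : (W i ⊓ W j) ⊓ V ≤ W i ⊓ V := fun p hp => ⟨hp.1.1, hp.2⟩
      have hj : (W i ⊓ W j) ⊓ V ≤ W j ⊓ V := fun p hp => ⟨hp.1.2, hp.2⟩
      have e1 : resK (hle.trans inf_le_left) (s i) = resK hi (resK inf_le_left (s i)) := rfl
      have e2 : resK (hle.trans inf_le_right) (s j) = resK hj (resK inf_le_left (s j)) := rfl
      rw [e1, e2, hs i, hs j, resK_toK, resK_toK]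
      congr 1
      simp only [← CommRingCat.comp_apply, ← Functor.map_comp]
      rfl
  obtain ⟨S, hS, -⟩ := (Mero.kring X).existsUnique_gluing' W U (fun i => homOfLE (hWU i))
    (fun y hy => Opens.mem_iSup.mpr ⟨⟨y, hy⟩, hxW ⟨y, hy⟩⟩) s hcompat
  have hS' : ∀ i, resK (hWU i) S = s i := hS
  refine ⟨S, kmod_ext fun y => ?_⟩
  have hyU : y.1 ∈ U := hVU y.2
  have h1 := congrArg (fun t : Γ(Mero.kmod X, W ⟨y.1, hyU⟩ ⊓ V) => t.1 ⟨y.1, hxW ⟨y.1, hyU⟩, y.2⟩)
    (hs ⟨y.1, hyU⟩)
  simp only [resK_apply, Mero.toK_apply] at h1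
  rw [resK_apply, Mero.toK_apply]
  have h2 : S.1 ⟨y.1, hyU⟩ = (s ⟨y.1, hyU⟩).1 ⟨y.1, hxW ⟨y.1, hyU⟩⟩ := by
    rw [← hS' ⟨y.1, hyU⟩]; rfl
  rw [h2, h1]
  exact Mero.mk_congr (X.presheaf.germ_res_apply (homOfLE inf_le_right) y.1 _ g) rfl

end Groth.Agent.Lib.Helper29.QCoh.MeroK
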