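import Groth.Agent.Lib.Helper29.MeroCore6
set_option autoImplicit false
universe u
open CategoryTheory CategoryTheory.Limits AlgebraicGeometry TopologicalSpace Opposite

namespace Groth.Agent.Lib.Helper29.QCoh.MeroK
open Groth.Agent.Lib.Helper26

variable {X : Scheme.{u}}

theorem generic_iff (x : X) :
    closure ({x} : Set X) ∈ irreducibleComponents (X : Type u) ↔ ∀ y : X, y ⤳ x → y = x :=
  ⟨fun h y hy => GenericAffine.eq_of_specializes_of_mem_irreducibleComponents h y hy,
    closure_mem_irreducibleComponents_of_maximal x⟩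

theorem weakAss_iff_generic [IsReduced X] (x : X) :
    Curv2.IsWeakAssPoint (unitM X) x ↔
      closure ({x} : Set X) ∈ irreducibleComponents (X : Type u) := by
  rw [generic_iff]
  exact ReducedWeakAss.main X x

/-- On a reduced scheme, a function vanishing at all generic points is zero. -/
theorem eq_zero_of_germ_generic [IsReduced X] {W : X.Opens} (c : Γ(X, W))
    (h : ∀ (ξ : X) (hξ : ξ ∈ W), closure ({ξ} : Set X) ∈ irreducibleComponents (X : Type u) →
      X.presheaf.germ W ξ hξ c = 0) : c = 0 := by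
  set W' : X.Opens := ⨆ O : {O : X.Opens // ∃ hO : O ≤ W, X.presheaf.map (homOfLE hO).op c = 0},
    O.1 with hW'
  have hW'W : W' ≤ W := iSup_le fun O => O.2.1
  have hres : X.presheaf.map (homOfLE hW'W).op c = 0 := by
    apply TopCat.Presheaf.section_ext X.sheaf
    intro y hy
    obtain ⟨O, hyO⟩ := Opens.mem_iSup.mp hy
    obtain ⟨hOW, hO0⟩ := O.2
    have h1 : X.presheaf.germ W' y hy (X.presheaf.map (homOfLE hW'W).op c) =
        X.presheaf.germ O.1 y hyO (X.presheaf.map (homOfLE hOW).op c) := by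
      rw [X.presheaf.germ_res_apply, X.presheaf.germ_res_apply]
    refine h1.trans ?_
    rw [hO0, map_zero]
    exact (map_zero (X.presheaf.germ W' y hy).hom).symm
  refine eq_zero_of_res_eq_zero_of_weakAss_subset (unitM X) hW'W ?_ (toUnit c) hres
  intro ξ hξW hξ
  have h0 := h ξ hξW ((weakAss_iff_generic ξ).mp hξ)
  have h0' : X.presheaf.germ W ξ hξW c = X.presheaf.germ W ξ hξW 0 := by rw [h0, map_zero]
  obtain ⟨O, hξO, iU, iV, e⟩ := X.presheaf.germ_eq ξ hξW hξW _ _ h0'
  refine Opens.mem_iSup.mpr ⟨⟨O, iU.le, ?_⟩, hξO⟩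
  have e' : X.presheaf.map iU.op c = X.presheaf.map iV.op 0 := e
  rw [map_zero] at e'
  exact e'

end Groth.Agent.Lib.Helper29.QCoh.MeroK
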