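import Groth.Agent.Lib.Helper29.MeroGen1
set_option autoImplicit false
universe u
open CategoryTheory CategoryTheory.Limits AlgebraicGeometry TopologicalSpace Opposite

namespace Groth.Agent.Lib.Helper29.QCoh.MeroK
open Groth.Agent.Lib.Helper26

variable {X : Scheme.{u}}

theorem evalK_generic_injective [IsReduced X] (U : X.Opens) (s s' : Γ(Mero.kmod X, U))
    (h : ∀ (ξ : X) (hξ : ξ ∈ U), closure ({ξ} : Set X) ∈ irreducibleComponents (X : Type u) →
      s.1 ⟨ξ, hξ⟩ = s'.1 ⟨ξ, hξ⟩) : s = s' := by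
  apply kmod_ext
  rintro ⟨z, hz⟩
  obtain ⟨W₁, -, hzW₁, hW₁U, a, b, hab⟩ := exists_local_rep s z hz
  obtain ⟨W₂, -, hzW₂, hW₂U, a', b', hab'⟩ := exists_local_rep s' z hz
  set W : X.Opens := W₁ ⊓ W₂ with hW
  set c : Γ(X, W) := X.presheaf.map (homOfLE (inf_le_right : W ≤ W₂)).op b'.1 *
      X.presheaf.map (homOfLE (inf_le_left : W ≤ W₁)).op a -
    X.presheaf.map (homOfLE (inf_le_left : W ≤ W₁)).op b.1 *
      X.presheaf.map (homOfLE (inf_le_right : W ≤ W₂)).op a' with hc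
  have hgerm : ∀ (y : X) (hy : y ∈ W), X.presheaf.germ W y hy c =
      X.presheaf.germ W₂ y hy.2 b'.1 * X.presheaf.germ W₁ y hy.1 a -
        X.presheaf.germ W₁ y hy.1 b.1 * X.presheaf.germ W₂ y hy.2 a' := by
    intro y hy
    rw [hc, map_sub, map_mul, map_mul, X.presheaf.germ_res_apply, X.presheaf.germ_res_apply,
      X.presheaf.germ_res_apply, X.presheaf.germ_res_apply]
  have hc0 : c = 0 := by
    apply eq_zero_of_germ_generic
    intro ξ hξ hgen
    have h1 := h ξ (hW₁U hξ.1) hgen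
    have e1 : s.1 ⟨ξ, hW₁U hξ.1⟩ = _ := hab ⟨ξ, hξ.1⟩
    have e2 : s'.1 ⟨ξ, hW₁U hξ.1⟩ = _ := hab' ⟨ξ, hξ.2⟩
    rw [e1, e2, mk_eq_mk_iff] at h1
    rw [hgerm ξ hξ, sub_eq_zero]
    exact h1
  have e1 : s.1 ⟨z, hz⟩ = _ := hab ⟨z, hzW₁⟩
  have e2 : s'.1 ⟨z, hz⟩ = _ := hab' ⟨z, hzW₂⟩
  rw [e1, e2, mk_eq_mk_iff]
  have := hgerm z ⟨hzW₁, hzW₂⟩
  rw [hc0, map_zero] at this
  exact (sub_eq_zero.mp this.symm)

theorem algebraMap_bijective_of_generic [IsReduced X] (x : X)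
    (hx : closure ({x} : Set X) ∈ irreducibleComponents (X : Type u)) :
    Function.Bijective (algebraMap (X.presheaf.stalk x) (Mero.KStalk X x)) := by
  refine ⟨Mero.algebraMap_KStalk_injective x, fun z => ?_⟩
  have hfield := isField_stalk_of_closure_mem_irreducibleComponents X x hx
  obtain ⟨⟨a, s⟩, has⟩ := IsLocalization.surj (Mero.regStalk X x) z
  have hs0 : s.1 ≠ 0 := by
    intro h0
    have hmem := Mero.regStalk_le_nonZeroDivisors x s.2
    rw [h0] at hmem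
    haveI : Nontrivial (X.presheaf.stalk x) := hfield.nontrivial
    exact zero_notMem_nonZeroDivisors hmem
  obtain ⟨t, ht⟩ := hfield.mul_inv_cancel hs0
  refine ⟨a * t, ?_⟩
  have hu : IsUnit (algebraMap (X.presheaf.stalk x) (Mero.KStalk X x) s.1) :=
    IsLocalization.map_units _ s
  apply hu.mul_left_injective
  change algebraMap (X.presheaf.stalk x) (Mero.KStalk X x) (a * t) *
    algebraMap (X.presheaf.stalk x) (Mero.KStalk X x) s.1 =
    z * algebraMap (X.presheaf.stalk x) (Mero.KStalk X x) s.1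
  have has' : z * algebraMap (X.presheaf.stalk x) (Mero.KStalk X x) s.1 =
      algebraMap (X.presheaf.stalk x) (Mero.KStalk X x) a := has
  rw [has', ← map_mul, mul_assoc, mul_comm t, ht, mul_one]

end Groth.Agent.Lib.Helper29.QCoh.MeroK
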