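import Groth.Agent.Lib.Helper29.MeroGen2
set_option autoImplicit false
universe u
open CategoryTheory CategoryTheory.Limits AlgebraicGeometry TopologicalSpace Opposite

namespace Groth.Agent.Lib.Helper29.QCoh.MeroK
open Groth.Agent.Lib.Helper26

variable {X : Scheme.{u}}

theorem evalK_generic_surjective [IsReduced X]
    (hfin : (irreducibleComponents (X : Type u)).Finite) (U : X.Opens)
    (k : ∀ x : {x : U // closure ({x.1} : Set X) ∈ irreducibleComponents (X : Type u)},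
      Mero.KStalk X x.1.1) :
    ∃ s : Γ(Mero.kmod X, U), ∀ x, s.1 x.1 = k x := by
  classical
  set I := {x : U // closure ({x.1} : Set X) ∈ irreducibleComponents (X : Type u)} with hI
  have hgen : ∀ i : I, ∀ y : X, y ⤳ i.1.1 → y = i.1.1 := fun i => (generic_iff i.1.1).mp i.2
  haveI : Finite (irreducibleComponents (X : Type u)) := hfin.to_subtype
  haveI : Finite I := by
    refine Finite.of_injective
      (fun i : I => (⟨closure ({i.1.1} : Set X), i.2⟩ : irreducibleComponents (X : Type u))) ?_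
    intro i j hij
    have h1 : closure ({i.1.1} : Set X) = closure ({j.1.1} : Set X) := congrArg Subtype.val hij
    have hs : i.1.1 ⤳ j.1.1 := by
      rw [specializes_iff_mem_closure, h1]; exact subset_closure rfl
    exact Subtype.ext (Subtype.ext (hgen j _ hs))
  -- local representatives
  have hex : ∀ i : I, ∃ (V' : X.Opens) (hiV : i.1.1 ∈ V') (g : Γ(X, V')),
      k i = LocalizedModule.mk (X.presheaf.germ V' i.1.1 hiV g) 1 := by
    intro i
    obtain ⟨κ, hκ⟩ := (algebraMap_bijective_of_generic i.1.1 i.2).2 (k i)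
    obtain ⟨V', hiV, g, rfl⟩ := X.presheaf.exists_germ_eq κ
    exact ⟨V', hiV, g, hκ.symm⟩
  choose V' hiV' g' hg' using hex
  have hclosed : ∀ i : I, IsClosed (⋃ j : {j : I // j ≠ i}, closure ({j.1.1.1} : Set X)) :=
    fun i => isClosed_iUnion_of_finite fun _ => isClosed_closure
  let C : I → X.Opens := fun i => ⟨(⋃ j : {j : I // j ≠ i}, closure ({j.1.1.1} : Set X))ᶜ,
    (hclosed i).isOpen_compl⟩
  have hmemC : ∀ (i : I) (p : X), p ∈ C i ↔ ∀ j : I, j ≠ i → ¬ (j.1.1 ⤳ p) := by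
    intro i p
    change p ∈ (⋃ j : {j : I // j ≠ i}, closure ({j.1.1.1} : Set X))ᶜ ↔ _
    rw [Set.mem_compl_iff, Set.mem_iUnion]
    constructor
    · intro h j hne hs
      exact h ⟨⟨j, hne⟩, specializes_iff_mem_closure.mp hs⟩
    · rintro h ⟨j, hj⟩
      exact h j.1 j.2 (specializes_iff_mem_closure.mpr hj)
  set V : I → X.Opens := fun i => (V' i ⊓ U) ⊓ C i with hV
  have hiV : ∀ i : I, i.1.1 ∈ V i := fun i =>
    ⟨⟨hiV' i, i.1.2⟩, (hmemC i i.1.1).mpr fun j hne hs => hne (Subtype.ext (Subtype.ext (hgen i _ hs)))⟩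
  have hdisj : ∀ (i j : I) (p : X), p ∈ V i → p ∈ V j → i = j := by
    intro i j p hpi hpj
    obtain ⟨η, hs, hη⟩ := exists_generic_specializes p
    have hηU : η ∈ U := hs.mem_open U.isOpen hpi.1.2
    let l : I := ⟨⟨η, hηU⟩, (generic_iff η).mpr hη⟩
    have h1 : l = i := by
      by_contra hne
      exact (hmemC i p).mp hpi.2 l hne hs
    have h2 : l = j := by
      by_contra hne
      exact (hmemC j p).mp hpj.2 l hne hs
    exact h1.symm.trans h2
  set Vt : X.Opens := ⨆ i, V i with hVt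
  have hVtU : Vt ≤ U := iSup_le fun i => inf_le_left.trans inf_le_right
  obtain ⟨g, hg⟩ := exists_glue_disjoint V hdisj Vt le_rfl
    (fun i => X.presheaf.map (homOfLE
      ((inf_le_right : Vt ⊓ V i ≤ V i).trans (inf_le_left.trans inf_le_left))).op (g' i))
  have hlf : ∀ x : ↥X, ∃ W : X.Opens, x ∈ W ∧
      {Z : Set ↥X | Z ∈ irreducibleComponents ↥X ∧ (Z ∩ (W : Set ↥X)).Nonempty}.Finite :=
    fun x => ⟨⊤, trivial, hfin.subset fun Z hZ => hZ.1⟩
  obtain ⟨s, hs⟩ := exists_extension X (Or.inr ⟨inferInstance, hlf⟩) U Vt hVtU (by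
    intro W hWU
    rw [injective_iff_map_eq_zero]
    intro r hr
    refine eq_zero_of_res_eq_zero_of_weakAss_subset (unitM X) (inf_le_left : W ⊓ Vt ≤ W) ?_
      (toUnit r) hr
    intro ξ hξW hξ
    have hξgen := (weakAss_iff_generic ξ).mp hξ
    let l : I := ⟨⟨ξ, hWU hξW⟩, hξgen⟩
    exact ⟨hξW, Opens.mem_iSup.mpr ⟨l, hiV l⟩⟩) g
  refine ⟨s, fun i => ?_⟩
  have hiVt : i.1.1 ∈ Vt := Opens.mem_iSup.mpr ⟨i, hiV i⟩
  have h1 := congrArg (fun t : Γ(Mero.kmod X, Vt) => t.1 ⟨i.1.1, hiVt⟩) hs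
  simp only [resK_apply, Mero.toK_apply] at h1
  refine h1.trans ?_
  rw [hg' i]
  refine Mero.mk_congr ?_ rfl
  have h2 := congrArg (X.presheaf.germ (Vt ⊓ V i) i.1.1 ⟨hiVt, hiV i⟩) (hg i)
  rw [X.presheaf.germ_res_apply, X.presheaf.germ_res_apply] at h2
  exact h2

end Groth.Agent.Lib.Helper29.QCoh.MeroK
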