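import Groth.Prelude.Def_MeroSh
import Groth.Agent.Lib.Helper29.QCohBasic
set_option autoImplicit false
universe u
open CategoryTheory CategoryTheory.Limits AlgebraicGeometry TopologicalSpace Opposite

namespace Groth.Agent.Lib.Helper29.QCoh.MeroK

variable {X : Scheme.{u}}

theorem mk_eq_zero_iff {x : X} (a : X.presheaf.stalk x) (s : Mero.regStalk X x) :
    (LocalizedModule.mk a s : Mero.KStalk X x) = 0 ↔ a = 0 := by
  constructor
  · intro h
    rw [← LocalizedModule.zero_mk (1 : Mero.regStalk X x), LocalizedModule.mk_eq] at h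
    obtain ⟨u, hu⟩ := h
    simp only [Submonoid.smul_def, smul_eq_mul, mul_zero, one_mul, OneMemClass.coe_one] at hu
    exact (mem_nonZeroDivisors_iff.mp (Mero.regStalk_le_nonZeroDivisors x u.2)).1 a hu
  · rintro rfl
    exact LocalizedModule.zero_mk s

theorem kmod_ext {U : X.Opens} {f g : Γ(Mero.kmod X, U)} (h : ∀ x : U, f.1 x = g.1 x) : f = g :=
  Subtype.ext (funext h)

theorem kmod_zero_apply {U : X.Opens} (x : U) : (0 : Γ(Mero.kmod X, U)).1 x = 0 := rfl

theorem kmod_map_apply {U V : X.Opens} (i : V ⟶ U) (f : Γ(Mero.kmod X, U)) (x : V) :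
    ((Mero.kmod X).presheaf.map i.op f).1 x = f.1 ⟨x.1, i.le x.2⟩ := rfl

theorem kmod_pow_apply {U : X.Opens} (f : Γ(Mero.kmod X, U)) (n : ℕ) (x : U) :
    (f ^ n).1 x = (f.1 x) ^ n := map_pow (Mero.evalK X U x) f n

theorem kmod_add_apply {U : X.Opens} (f g : Γ(Mero.kmod X, U)) (x : U) :
    (f + g).1 x = f.1 x + g.1 x := rfl

theorem kmod_sub_apply {U : X.Opens} (f g : Γ(Mero.kmod X, U)) (x : U) :
    (f - g).1 x = f.1 x - g.1 x := map_sub (Mero.evalK X U x) f g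

/-- Local representation of a meromorphic function on an affine neighbourhood. -/
theorem exists_local_rep {U : X.Opens} (f : Γ(Mero.kmod X, U)) (x : X) (hx : x ∈ U) :
    ∃ (W : X.Opens) (_ : IsAffineOpen W) (_ : x ∈ W) (hWU : W ≤ U) (a : Γ(X, W))
      (b : Mero.regSub X W), ∀ y : W, f.1 ⟨y.1, hWU y.2⟩ =
        LocalizedModule.mk (X.presheaf.germ W y.1 y.2 a) (Mero.regGerm y b) := by
  obtain ⟨V, hxV, i, a, b, hab⟩ := f.2 ⟨x, hx⟩
  obtain ⟨W, hW, hxW, hWV⟩ := exists_isAffineOpen_mem_and_subset (x := x) (U := V) hxV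
  have hWV' : W ≤ V := hWV
  refine ⟨W, hW, hxW, hWV'.trans i.le, X.presheaf.map (homOfLE hWV').op a,
    ⟨X.presheaf.map (homOfLE hWV').op b.1, Mero.regSub_res _ b.2⟩, fun y => ?_⟩
  have := hab ⟨y.1, hWV' y.2⟩
  dsimp only at this
  refine this.trans (Mero.mk_congr ?_ ?_)
  · exact (X.presheaf.germ_res_apply (homOfLE hWV') y.1 y.2 a).symm
  · exact (X.presheaf.germ_res_apply (homOfLE hWV') y.1 y.2 b.1).symm

theorem toK_pow_mul_apply {U : X.Opens} (h : Γ(X, U)) (n : ℕ) (f : Γ(Mero.kmod X, U)) (y : U) :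
    (Mero.toK X U h ^ n * f).1 y =
      (LocalizedModule.mk (X.presheaf.germ U y.1 y.2 h) 1 : Mero.KStalk X y.1) ^ n * f.1 y := by
  rw [Mero.kmod_mul_apply, kmod_pow_apply, Mero.toK_apply]

theorem mk_one_pow {x : X} (a : X.presheaf.stalk x) (n : ℕ) :
    (LocalizedModule.mk a 1 : Mero.KStalk X x) ^ n = LocalizedModule.mk (a ^ n) 1 := by
  induction n with
  | zero => rw [pow_zero, pow_zero]; exact (Mero.mk_self_eq_one 1).symm
  | succ n ih =>
    rw [pow_succ, ih, pow_succ]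
    exact LocalizedModule.mk_mul_mk.trans (Mero.mk_congr rfl (by rw [one_mul]))

/-- The killing lemma, local form. -/
theorem exists_pow_local {U : X.Opens} (h : Γ(X, U)) (f : Γ(Mero.kmod X, U))
    (hf : ∀ y : U, y.1 ∈ X.basicOpen h → f.1 y = 0) (x : X) (hx : x ∈ U) :
    ∃ (W : X.Opens) (_ : x ∈ W) (hWU : W ≤ U) (n : ℕ), ∀ (y : W) (k : ℕ), n ≤ k →
      (LocalizedModule.mk (X.presheaf.germ U y.1 (hWU y.2) h) 1 : Mero.KStalk X y.1) ^ k *
        f.1 ⟨y.1, hWU y.2⟩ = 0 := by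
  obtain ⟨W, hW, hxW, hWU, a, b, hab⟩ := exists_local_rep f x hx
  set h' : Γ(X, W) := X.presheaf.map (homOfLE hWU).op h with hh'
  have hres : a |_ (X.basicOpen h') = 0 := by
    apply TopCat.Presheaf.section_ext X.sheaf
    intro y hy
    have hyW : y ∈ W := X.basicOpen_le h' hy
    have hyh : y ∈ X.basicOpen h := by
      rw [hh', Scheme.basicOpen_res] at hy
      exact hy.2
    have h1 := hf ⟨y, hWU hyW⟩ hyh
    rw [hab ⟨y, hyW⟩, mk_eq_zero_iff] at h1
    refine Eq.trans ?_ ((h1.symm ▸ (map_zero (X.presheaf.germ (X.basicOpen h') y hy).hom).symm :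
      (X.presheaf.germ W y hyW a) = X.presheaf.germ (X.basicOpen h') y hy 0))
    exact X.presheaf.germ_res_apply _ y hy a
  obtain ⟨n, hn⟩ := exists_pow_mul_eq_zero_of_res_basicOpen_eq_zero_of_isAffineOpen X hW a h' hres
  refine ⟨W, hxW, hWU, n, fun y k hk => ?_⟩
  rw [hab y, mk_one_pow]
  refine LocalizedModule.mk_mul_mk.trans ?_
  rw [mk_eq_zero_iff]
  have hg : X.presheaf.germ U y.1 (hWU y.2) h = X.presheaf.germ W y.1 y.2 h' :=
    (X.presheaf.germ_res_apply (homOfLE hWU) y.1 y.2 h).symm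
  rw [hg, ← map_pow, ← map_mul]
  obtain ⟨j, rfl⟩ := Nat.exists_eq_add_of_le hk
  rw [pow_add, mul_comm (h' ^ n), mul_assoc, hn, mul_zero, map_zero]

/-- The killing lemma on a quasi-compact open. -/
theorem exists_pow_mul_eq_zero {U : X.Opens} (hU : IsCompact (U : Set X)) (h : Γ(X, U))
    (f : Γ(Mero.kmod X, U)) (hf : ∀ y : U, y.1 ∈ X.basicOpen h → f.1 y = 0) :
    ∃ n : ℕ, Mero.toK X U h ^ n * f = 0 := by
  choose W hxW hWU n hn using fun x : U => exists_pow_local h f hf x.1 x.2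
  obtain ⟨T, hT⟩ := hU.elim_finite_subcover (fun x : U => ((W x : X.Opens) : Set X))
    (fun x => (W x).isOpen) (fun y hy => Set.mem_iUnion.mpr ⟨⟨y, hy⟩, hxW ⟨y, hy⟩⟩)
  refine ⟨T.sup n, kmod_ext fun y => ?_⟩
  rw [toK_pow_mul_apply, kmod_zero_apply]
  obtain ⟨x, hxT, hyx⟩ : ∃ x ∈ T, y.1 ∈ W x := by
    have := hT y.2
    simp only [Set.mem_iUnion, exists_prop] at this
    exact this
  exact hn x ⟨y.1, hyx⟩ (T.sup n) (Finset.le_sup hxT)

end Groth.Agent.Lib.Helper29.QCoh.MeroK
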