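import Groth.Agent.Lib.Helper29.MeroK
import Groth.Agent.Lib.Helper29.QCohAss
set_option autoImplicit false
universe u
open CategoryTheory CategoryTheory.Limits AlgebraicGeometry TopologicalSpace Opposite

namespace Groth.Agent.Lib.Helper29.QCoh.MeroK

variable {X : Scheme.{u}}

/-- Restriction of meromorphic functions as a ring homomorphism. -/
noncomputable def resK {U V : X.Opens} (h : V ≤ U) : Γ(Mero.kmod X, U) →+* Γ(Mero.kmod X, V) where
  toFun := (Mero.kmod X).presheaf.map (homOfLE h).op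
  map_one' := rfl
  map_mul' _ _ := rfl
  map_zero' := rfl
  map_add' _ _ := rfl

theorem resK_apply {U V : X.Opens} (h : V ≤ U) (f : Γ(Mero.kmod X, U)) (y : V) :
    (resK h f).1 y = f.1 ⟨y.1, h y.2⟩ := rfl

theorem resK_toK {U V : X.Opens} (h : V ≤ U) (r : Γ(X, U)) :
    resK h (Mero.toK X U r) = Mero.toK X V (X.presheaf.map (homOfLE h).op r) := by
  apply kmod_ext
  intro y
  rw [resK_apply, Mero.toK_apply, Mero.toK_apply]
  exact Mero.mk_congr (X.presheaf.germ_res_apply (homOfLE h) y.1 y.2 r).symm rfl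

theorem eq_zero_of_resK_eq_zero {U V : X.Opens} (h : V ≤ U) (f : Γ(Mero.kmod X, U))
    (hf : resK h f = 0) (y : U) (hy : y.1 ∈ V) : f.1 y = 0 :=
  congrArg (fun g => g.1 ⟨y.1, hy⟩) hf

/-- The inverse of a regular section in the ring of meromorphic functions. -/
noncomputable def invK {U : X.Opens} (b : Mero.regSub X U) : Γ(Mero.kmod X, U) :=
  ⟨fun x => LocalizedModule.mk 1 (Mero.regGerm x b), fun x => ⟨U, x.2, 𝟙 _, 1, b, fun y =>
    Mero.mk_congr (by
      change (1 : X.presheaf.stalk y.1) = X.presheaf.germ U y.1 y.2 (1 : Γ(X, U))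
      rw [map_one]) rfl⟩⟩

theorem mk_mul_mk_one {x : X} (a c : X.presheaf.stalk x) (s : Mero.regStalk X x) :
    (LocalizedModule.mk a s : Mero.KStalk X x) * LocalizedModule.mk c 1 =
      LocalizedModule.mk (a * c) s :=
  LocalizedModule.mk_mul_mk.trans (Mero.mk_congr rfl (by rw [mul_one]))

theorem mk_self' {x : X} (s : Mero.regStalk X x) (a : X.presheaf.stalk x) (h : a = s.1) :
    (LocalizedModule.mk a s : Mero.KStalk X x) = 1 := by
  subst h; exact Mero.mk_self_eq_one s

theorem toK_mul_invK {U : X.Opens} (b : Mero.regSub X U) : Mero.toK X U b.1 * invK b = 1 := by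
  apply kmod_ext
  intro y
  rw [Mero.kmod_mul_apply, Mero.toK_apply, Mero.kmod_one_apply, mul_comm]
  change (LocalizedModule.mk 1 (Mero.regGerm y b) : Mero.KStalk X y.1) * _ = 1
  rw [mk_mul_mk_one, one_mul]
  exact mk_self' _ _ rfl

theorem isUnit_toK {U : X.Opens} (b : Mero.regSub X U) : IsUnit (Mero.toK X U b.1) :=
  IsUnit.of_mul_eq_one _ (toK_mul_invK b)

theorem toK_injective (U : X.Opens) : Function.Injective (Mero.toK X U) := by
  intro a a' h
  apply TopCat.Presheaf.section_ext X.sheaf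
  intro x hx
  have h1 := congrArg (fun g => g.1 ⟨x, hx⟩) h
  simp only [Mero.toK_apply] at h1
  rw [LocalizedModule.mk_eq] at h1
  obtain ⟨u, hu⟩ := h1
  simp only [Submonoid.smul_def, smul_eq_mul, one_mul, OneMemClass.coe_one] at hu
  have hnz := Mero.regStalk_le_nonZeroDivisors x u.2
  have h2 : u.1 * (X.presheaf.germ U x hx a - X.presheaf.germ U x hx a') = 0 := by
    rw [mul_sub, hu, sub_self]
  have h3 := (mem_nonZeroDivisors_iff.mp hnz).1 _ h2
  exact sub_eq_zero.mp h3

/-- A nonzerodivisor of the ring of an affine open is a regular section. -/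
theorem mem_regSub_of_mem_nonZeroDivisors {U : X.Opens} (hU : IsAffineOpen U) (b : Γ(X, U))
    (hb : b ∈ nonZeroDivisors Γ(X, U)) : b ∈ Mero.regSub X U := by
  rintro ⟨x, hx⟩
  let _ : Algebra Γ(X, U) (X.presheaf.stalk x) :=
    TopCat.Presheaf.algebra_section_stalk X.presheaf ⟨x, hx⟩
  have hloc := hU.isLocalization_stalk ⟨x, hx⟩
  exact IsLocalization.map_nonZeroDivisors_le (hU.primeIdealOf ⟨x, hx⟩).asIdeal.primeCompl
    (X.presheaf.stalk x) ⟨b, hb, rfl⟩

/-- On the domain of a local representation `a / b`, `f * b = a`. -/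
theorem mul_toK_eq_of_rep {W : X.Opens} (f : Γ(Mero.kmod X, W)) (a : Γ(X, W))
    (b : Mero.regSub X W) (h : ∀ y : W, f.1 y =
      LocalizedModule.mk (X.presheaf.germ W y.1 y.2 a) (Mero.regGerm y b)) :
    f * Mero.toK X W b.1 = Mero.toK X W a := by
  apply kmod_ext
  intro y
  rw [Mero.kmod_mul_apply, h y, Mero.toK_apply, Mero.toK_apply, mk_mul_mk_one]
  rw [LocalizedModule.mk_eq]
  refine ⟨1, ?_⟩
  simp only [Submonoid.smul_def, smul_eq_mul, one_mul, OneMemClass.coe_one]
  rw [mul_comm]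

end Groth.Agent.Lib.Helper29.QCoh.MeroK
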