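import Groth.Agent.Lib.Helper29.MeroK2
import Mathlib.RingTheory.Ideal.AssociatedPrime.Finiteness
set_option autoImplicit false
universe u
open CategoryTheory CategoryTheory.Limits AlgebraicGeometry TopologicalSpace Opposite

namespace Groth.Agent.Lib.Helper29.QCoh.MeroK

variable {X : Scheme.{u}}

/-- Denominators: near every point of an affine open, a meromorphic function has a global
denominator whose germ at the point is a nonzerodivisor. -/
theorem exists_denominator {U : X.Opens} (hU : IsAffineOpen U) (z : Γ(Mero.kmod X, U))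
    (x : X) (hx : x ∈ U) :
    ∃ d c : Γ(X, U), Mero.toK X U d * z = Mero.toK X U c ∧
      X.presheaf.germ U x hx d ∈ nonZeroDivisors (X.presheaf.stalk x) := by
  obtain ⟨W, hW, hxW, hWU, a, b, hab⟩ := exists_local_rep z x hx
  obtain ⟨g, hgW, hxg⟩ := hU.exists_basicOpen_le (V := W) ⟨x, hxW⟩ hx
  have hxg' : x ∈ X.basicOpen g := hxg
  have hDU : X.basicOpen g ≤ U := X.basicOpen_le g
  have hloc := hU.isLocalization_basicOpen g
  set a₁ : Γ(X, X.basicOpen g) := X.presheaf.map (homOfLE hgW).op a with ha₁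
  set b₁ : Γ(X, X.basicOpen g) := X.presheaf.map (homOfLE hgW).op b.1 with hb₁
  obtain ⟨n, b', hb'⟩ := IsLocalization.Away.surj g b₁
  obtain ⟨m, a', ha'⟩ := IsLocalization.Away.surj g a₁
  have halg : ∀ r : Γ(X, U), algebraMap Γ(X, U) Γ(X, X.basicOpen g) r =
      X.presheaf.map (homOfLE hDU).op r := fun r => rfl
  rw [halg, halg] at hb' ha'
  set g₁ : Γ(X, X.basicOpen g) := X.presheaf.map (homOfLE hDU).op g with hg₁
  -- the relation on D(g)
  have hrel : resK hDU z * Mero.toK X _ b₁ = Mero.toK X _ a₁ := by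
    have h1 := mul_toK_eq_of_rep (resK hWU z) a b hab
    have h2 := congrArg (resK hgW) h1
    rw [map_mul, resK_toK, resK_toK] at h2
    exact h2
  set t : Γ(Mero.kmod X, U) := Mero.toK X U (b' * g ^ m) * z - Mero.toK X U (a' * g ^ n) with ht
  have ht0 : resK hDU t = 0 := by
    have hB : X.presheaf.map (homOfLE hDU).op (b' * g ^ m) = b₁ * g₁ ^ n * g₁ ^ m := by
      rw [map_mul, map_pow, ← hb']
    have hA : X.presheaf.map (homOfLE hDU).op (a' * g ^ n) = a₁ * g₁ ^ m * g₁ ^ n := by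
      rw [map_mul, map_pow, ← ha']
    rw [ht, map_sub, map_mul, resK_toK, resK_toK, hB, hA]
    simp only [map_mul, map_pow]
    rw [← hrel]
    refine sub_eq_zero.mpr ?_
    ring
  obtain ⟨N, hN⟩ := exists_pow_mul_eq_zero hU.isCompact g t
    (fun y hy => eq_zero_of_resK_eq_zero hDU t ht0 y hy)
  refine ⟨g ^ N * (b' * g ^ m), g ^ N * (a' * g ^ n), ?_, ?_⟩
  · rw [ht, mul_sub] at hN
    have hN' := sub_eq_zero.mp hN
    simp only [map_mul, map_pow]
    simp only [map_mul, map_pow] at hN'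
    rw [mul_assoc, hN']
  · -- the germ of the denominator is a nonzerodivisor
    have hgu : IsUnit (X.presheaf.germ U x hx g) := by
      rwa [← Scheme.mem_basicOpen _ _ _ hx]
    have hb'germ : X.presheaf.germ U x hx b' =
        X.presheaf.germ W x hxW b.1 * (X.presheaf.germ U x hx g) ^ n := by
      have h1 := congrArg (X.presheaf.germ (X.basicOpen g) x hxg') hb'
      rw [map_mul, map_pow] at h1
      rw [hb₁, hg₁, X.presheaf.germ_res_apply, X.presheaf.germ_res_apply] at h1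
      rw [h1]
      exact (X.presheaf.germ_res_apply (homOfLE hDU) x hxg' b').symm
    rw [map_mul, map_mul, map_pow, map_pow, hb'germ]
    have hbn : X.presheaf.germ W x hxW b.1 ∈ nonZeroDivisors (X.presheaf.stalk x) := b.2 ⟨x, hxW⟩
    have hgn : X.presheaf.germ U x hx g ∈ nonZeroDivisors (X.presheaf.stalk x) :=
      hgu.mem_nonZeroDivisors
    exact mul_mem (pow_mem hgn N) (mul_mem (mul_mem hbn (pow_mem hgn n)) (pow_mem hgn m))

end Groth.Agent.Lib.Helper29.QCoh.MeroK

namespace Groth.Agent.Lib.Helper29.QCoh.MeroK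

variable {X : Scheme.{u}}

/-- Prime avoidance for associated primes of a Noetherian ring. -/
theorem exists_mem_nonZeroDivisors_of_not_le_associatedPrimes {A : Type*} [CommRing A]
    [IsNoetherianRing A] (I : Ideal A) (h : ∀ p ∈ associatedPrimes A A, ¬ I ≤ p) :
    ∃ b ∈ I, b ∈ nonZeroDivisors A := by
  by_contra hcon
  push Not at hcon
  have hsub : (I : Set A) ⊆ ⋃ p ∈ ((associatedPrimes.finite A A).toFinset : Set (Ideal A)),
      ((id p : Ideal A) : Set A) := by
    intro b hb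
    have h1 : b ∈ (nonZeroDivisors A : Set A)ᶜ := hcon b hb
    rw [← biUnion_associatedPrimes_eq_compl_nonZeroDivisors] at h1
    simp only [Set.mem_iUnion, exists_prop] at h1 ⊢
    obtain ⟨p, hp, hbp⟩ := h1
    exact ⟨p, by simpa using hp, hbp⟩
  obtain ⟨p, hp, hIp⟩ := (Ideal.subset_union_prime (R := A) (f := id) ⊥ ⊥ (fun p hp _ _ => by
    have : p ∈ associatedPrimes A A := by simpa using hp
    exact this.isPrime)).mp hsub
  exact h p (by simpa using hp) hIp

/-- The denominator ideal of a meromorphic function over an affine open. -/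
noncomputable def denom {U : X.Opens} (z : Γ(Mero.kmod X, U)) : Ideal Γ(X, U) where
  carrier := {d | ∃ c : Γ(X, U), Mero.toK X U d * z = Mero.toK X U c}
  add_mem' := by
    rintro d d' ⟨c, hc⟩ ⟨c', hc'⟩
    exact ⟨c + c', by rw [map_add, add_mul, hc, hc', map_add]⟩
  zero_mem' := ⟨0, by rw [map_zero, zero_mul]⟩
  smul_mem' := by
    rintro r d ⟨c, hc⟩
    exact ⟨r * c, by rw [smul_eq_mul, map_mul, mul_assoc, hc, map_mul]⟩

theorem mem_denom {U : X.Opens} (z : Γ(Mero.kmod X, U)) (d : Γ(X, U)) :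
    d ∈ denom z ↔ ∃ c : Γ(X, U), Mero.toK X U d * z = Mero.toK X U c := Iff.rfl

theorem exists_nonZeroDivisor_denominator [IsLocallyNoetherian X] {U : X.Opens}
    (hU : IsAffineOpen U) (z : Γ(Mero.kmod X, U)) :
    ∃ b ∈ denom z, b ∈ nonZeroDivisors Γ(X, U) := by
  have hN : IsNoetherianRing Γ(X, U) := IsLocallyNoetherian.component_noetherian ⟨U, hU⟩
  apply exists_mem_nonZeroDivisors_of_not_le_associatedPrimes
  rintro p ⟨hp, w, hw⟩ hIp
  obtain ⟨x, hx, hxp⟩ := exists_point_of_prime' hU ⟨p, hp⟩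
  obtain ⟨d, c, hdc, hdn⟩ := exists_denominator hU z x hx
  have hdp : d ∈ p := hIp ⟨c, hdc⟩
  rw [hw] at hdp
  obtain ⟨e, he⟩ := hdp
  rw [Submodule.mem_colon_singleton, Submodule.mem_bot, smul_eq_mul] at he
  have h1 := congrArg (X.presheaf.germ U x hx) he
  rw [map_mul, map_pow, map_zero] at h1
  have h2 : X.presheaf.germ U x hx w = 0 :=
    (mem_nonZeroDivisors_iff.mp (pow_mem hdn e)).1 _ h1
  let _ : Algebra Γ(X, U) (X.presheaf.stalk x) :=
    TopCat.Presheaf.algebra_section_stalk X.presheaf ⟨x, hx⟩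
  have hloc := hU.isLocalization_stalk ⟨x, hx⟩
  have h3 : algebraMap Γ(X, U) (X.presheaf.stalk x) w = 0 := h2
  rw [IsLocalization.map_eq_zero_iff (hU.primeIdealOf ⟨x, hx⟩).asIdeal.primeCompl] at h3
  obtain ⟨⟨s, hsn⟩, hs⟩ := h3
  apply hsn
  have hxp' : (hU.primeIdealOf ⟨x, hx⟩).asIdeal = p := congrArg PrimeSpectrum.asIdeal hxp
  change s ∈ (hU.primeIdealOf ⟨x, hx⟩).asIdeal
  rw [hxp', hw]
  apply Ideal.le_radical
  rw [Submodule.mem_colon_singleton, Submodule.mem_bot, smul_eq_mul]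
  exact hs

theorem isLocalization_kmod [IsLocallyNoetherian X] {U : X.Opens} (hU : IsAffineOpen U) :
    @IsLocalization Γ(X, U) _ (nonZeroDivisors Γ(X, U)) Γ(Mero.kmod X, U) _
      (Mero.toK X U).toAlgebra := by
  letI := (Mero.toK X U).toAlgebra
  have halg : ∀ r : Γ(X, U), algebraMap Γ(X, U) Γ(Mero.kmod X, U) r = Mero.toK X U r :=
    fun r => rfl
  refine ⟨?_, ?_, ?_⟩
  · rintro ⟨b, hb⟩
    rw [halg]
    exact isUnit_toK ⟨b, mem_regSub_of_mem_nonZeroDivisors hU b hb⟩
  · intro z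
    obtain ⟨b, ⟨c, hc⟩, hb⟩ := exists_nonZeroDivisor_denominator hU z
    refine ⟨⟨c, ⟨b, hb⟩⟩, ?_⟩
    rw [halg, halg, mul_comm]
    exact hc
  · intro a a' h
    rw [halg, halg] at h
    exact ⟨1, by rw [toK_injective U h]⟩

end Groth.Agent.Lib.Helper29.QCoh.MeroK
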