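import Groth.Agent.Lib.Helper29.MeroK4
set_option autoImplicit false
universe u
open CategoryTheory CategoryTheory.Limits AlgebraicGeometry TopologicalSpace Opposite

namespace Groth.Agent.Lib.Helper29.QCoh.MeroK

variable {X : Scheme.{u}}

theorem mk_eq_mk_iff {x : X} (a a' : X.presheaf.stalk x) (s s' : Mero.regStalk X x) :
    (LocalizedModule.mk a s : Mero.KStalk X x) = LocalizedModule.mk a' s' ↔
      s'.1 * a = s.1 * a' := by
  rw [LocalizedModule.mk_eq]
  simp only [Submonoid.smul_def, smul_eq_mul]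
  constructor
  · rintro ⟨u, hu⟩
    have hnz := Mero.regStalk_le_nonZeroDivisors x u.2
    have h2 : u.1 * (s'.1 * a - s.1 * a') = 0 := by rw [mul_sub, hu, sub_self]
    exact sub_eq_zero.mp ((mem_nonZeroDivisors_iff.mp hnz).1 _ h2)
  · intro h
    exact ⟨1, by rw [h]⟩

/-- Restriction of meromorphic functions to a schematically dense open is injective. -/
theorem resK_injective_of_dense {U V : X.Opens} (hVU : V ≤ U)
    (hV : ∀ W : X.Opens, W ≤ U →
      Function.Injective ⇑(X.presheaf.map (homOfLE (inf_le_left : W ⊓ V ≤ W)).op)) :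
    Function.Injective (resK (X := X) hVU) := by
  intro s s' hss
  apply kmod_ext
  rintro ⟨y, hy⟩
  obtain ⟨W₁, hW₁, hyW₁, hW₁U, a, b, hab⟩ := exists_local_rep s y hy
  obtain ⟨W₂, hW₂, hyW₂, hW₂U, a', b', hab'⟩ := exists_local_rep s' y hy
  have hWU : W₁ ⊓ W₂ ≤ U := inf_le_left.trans hW₁U
  have hyW : y ∈ W₁ ⊓ W₂ := ⟨hyW₁, hyW₂⟩
  set A : Γ(X, W₁ ⊓ W₂) := X.presheaf.map (homOfLE inf_le_left).op a with hA
  set B : Γ(X, W₁ ⊓ W₂) := X.presheaf.map (homOfLE inf_le_left).op b.1 with hB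
  set A' : Γ(X, W₁ ⊓ W₂) := X.presheaf.map (homOfLE inf_le_right).op a' with hA'
  set B' : Γ(X, W₁ ⊓ W₂) := X.presheaf.map (homOfLE inf_le_right).op b'.1 with hB'
  have hgerm : ∀ (p : X) (hp : p ∈ W₁ ⊓ W₂),
      s.1 ⟨p, hWU hp⟩ = s'.1 ⟨p, hWU hp⟩ ↔
        X.presheaf.germ (W₁ ⊓ W₂) p hp (B' * A) = X.presheaf.germ (W₁ ⊓ W₂) p hp (B * A') := by
    intro p hp
    rw [hab ⟨p, hp.1⟩, hab' ⟨p, hp.2⟩, mk_eq_mk_iff, map_mul, map_mul, hA, hB, hA', hB',
      X.presheaf.germ_res_apply, X.presheaf.germ_res_apply, X.presheaf.germ_res_apply,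
      X.presheaf.germ_res_apply]
  have key : B' * A = B * A' := by
    apply hV (W₁ ⊓ W₂) hWU
    apply TopCat.Presheaf.section_ext X.sheaf
    intro p hp
    have hpW : p ∈ W₁ ⊓ W₂ := hp.1
    have h1 : s.1 ⟨p, hWU hpW⟩ = s'.1 ⟨p, hWU hpW⟩ :=
      congrArg (fun g => g.1 ⟨p, hp.2⟩) hss
    have h2 := (hgerm p hpW).mp h1
    refine Eq.trans ?_ (h2.trans ?_)
    · exact X.presheaf.germ_res_apply (homOfLE inf_le_left) p hp (B' * A)
    · exact (X.presheaf.germ_res_apply (homOfLE inf_le_left) p hp (B * A')).symm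
  exact (hgerm y hyW).mpr (by rw [key])

end Groth.Agent.Lib.Helper29.QCoh.MeroK
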