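import Groth.Prelude.Def_MeroSh
import Groth.Agent.Lib.Helper26.FinitePushAss
import Groth.Agent.Lib.Helper29.QCohAss2
import Groth.Agent.Lib.Helper29.QCohIdealMod
set_option autoImplicit false
universe u
open CategoryTheory CategoryTheory.Limits AlgebraicGeometry TopologicalSpace Opposite

namespace Groth.Agent.Lib.Helper29.QCoh.MeroPull
open Groth.Agent.Lib.Helper26

theorem false_of_generic {Y : Scheme.{u}} (U : Y.Opens) (s : Γ(Y, U)) (y₀ : Y) (hy₀ : y₀ ∈ U)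
    (hgen : ∀ y : Y, y ⤳ y₀ → y = y₀)
    (hnz : Y.presheaf.germ U y₀ hy₀ s ∈ nonZeroDivisors (Y.presheaf.stalk y₀))
    (hnu : y₀ ∉ Y.basicOpen s) : False := by
  obtain ⟨W, hW, hyW, hWU⟩ := exists_isAffineOpen_mem_and_subset (x := y₀) (U := U) hy₀
  have hWU' : W ≤ U := hWU
  set b : Γ(Y, W) := Y.presheaf.map (homOfLE hWU').op s with hb
  have hyb : y₀ ∉ Y.basicOpen b := by
    rw [hb, Scheme.basicOpen_res]; exact fun h => hnu h.2
  have hbq : b ∈ (hW.primeIdealOf ⟨y₀, hyW⟩).asIdeal := by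
    by_contra hcon
    exact hyb ((mem_basicOpen_iff_notMem_primeIdealOf hW y₀ hyW b).mpr hcon)
  have hmin := GenericAffine.primeIdealOf_mem_minimalPrimes hW y₀ hyW hgen
  obtain ⟨c, hc, n, hcn⟩ := GenericAffine.exists_mul_pow_eq_zero _ hmin b hbq
  have hcu : IsUnit (Y.presheaf.germ W y₀ hyW c) := by
    rw [← Scheme.mem_basicOpen _ _ _ hyW]
    exact (mem_basicOpen_iff_notMem_primeIdealOf hW y₀ hyW c).mpr hc
  have h1 := congrArg (Y.presheaf.germ W y₀ hyW) hcn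
  rw [map_mul, map_pow, map_zero] at h1
  have hgb : Y.presheaf.germ W y₀ hyW b = Y.presheaf.germ U y₀ hy₀ s := by
    rw [hb]; exact Y.presheaf.germ_res_apply (homOfLE hWU') y₀ hyW s
  rw [hgb] at h1
  have h2 : (Y.presheaf.germ U y₀ hy₀ s) ^ n = 0 := hcu.mul_right_eq_zero.mp h1
  have h3 := pow_mem hnz n
  rw [h2] at h3
  exact zero_notMem_nonZeroDivisors h3

end Groth.Agent.Lib.Helper29.QCoh.MeroPull

namespace Groth.Agent.Lib.Helper29.QCoh.MeroPull
open Groth.Agent.Lib.Helper26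

theorem main {X Y : Scheme.{u}} (f : X ⟶ Y)
    (h : ∀ x : ↥X, Curv2.IsWeakAssPoint (Coh.structureModule X) x → ∀ y : ↥Y, y ⤳ f x → y = f x)
    (U : Y.Opens) (s : Γ(Y, U)) (hs : s ∈ Mero.regSub Y U) : f.app U s ∈ Mero.regSub X (f ⁻¹ᵁ U) := by
  rintro ⟨x, hx⟩
  change X.presheaf.germ (f ⁻¹ᵁ U) x hx (f.app U s) ∈ nonZeroDivisors (X.presheaf.stalk x)
  rw [mem_nonZeroDivisors_iff_right]
  intro t ht
  by_contra hne
  obtain ⟨V₀, hxV₀, m₀, rfl⟩ := X.presheaf.exists_germ_eq t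
  -- the product germ vanishes
  have hV₁ : V₀ ⊓ f ⁻¹ᵁ U ≤ V₀ := inf_le_left
  have hV₂ : V₀ ⊓ f ⁻¹ᵁ U ≤ f ⁻¹ᵁ U := inf_le_right
  have hxV₁ : x ∈ V₀ ⊓ f ⁻¹ᵁ U := ⟨hxV₀, hx⟩
  have hprod : X.presheaf.germ (V₀ ⊓ f ⁻¹ᵁ U) x hxV₁
      (X.presheaf.map (homOfLE hV₁).op m₀ * X.presheaf.map (homOfLE hV₂).op (f.app U s)) =
      X.presheaf.germ (V₀ ⊓ f ⁻¹ᵁ U) x hxV₁ 0 := by
    rw [map_mul, map_zero, X.presheaf.germ_res_apply, X.presheaf.germ_res_apply]
    exact ht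
  obtain ⟨W, hxW, iU, iV, hW0⟩ := X.presheaf.germ_eq x hxV₁ hxV₁ _ _ hprod
  obtain ⟨V, hV, hxV, hVW⟩ := exists_isAffineOpen_mem_and_subset (x := x) (U := W) hxW
  have hVW' : V ≤ W := hVW
  have hVV₀ : V ≤ V₀ := hVW'.trans (iU.le.trans hV₁)
  have hVU : V ≤ f ⁻¹ᵁ U := hVW'.trans (iU.le.trans hV₂)
  set m : Γ(X, V) := X.presheaf.map (homOfLE hVV₀).op m₀ with hm
  set a : Γ(X, V) := X.presheaf.map (homOfLE hVU).op (f.app U s) with ha
  have hma : m * a = 0 := by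
    have := congrArg (X.presheaf.map (homOfLE hVW').op) hW0
    rw [map_zero, map_zero, map_mul, map_mul] at this
    rw [hm, ha]
    have e1 : X.presheaf.map (homOfLE hVW').op (X.presheaf.map iU.op
        (X.presheaf.map (homOfLE hV₁).op m₀)) = X.presheaf.map (homOfLE hVV₀).op m₀ := by
      simp only [← CommRingCat.comp_apply, ← Functor.map_comp, ← op_comp]; rfl
    have e2 : ∀ z : Γ(X, f ⁻¹ᵁ U), X.presheaf.map (homOfLE hVW').op (X.presheaf.map iU.op
        (X.presheaf.map (homOfLE hV₂).op z)) = X.presheaf.map (homOfLE hVU).op z := by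
      intro z
      simp only [← CommRingCat.comp_apply, ← Functor.map_comp, ← op_comp]; rfl
    rw [e1, e2] at this
    exact this
  have hgm : X.presheaf.germ V x hxV m = X.presheaf.germ V₀ x hxV₀ m₀ := by
    rw [hm]; exact X.presheaf.germ_res_apply (homOfLE hVV₀) x hxV m₀
  -- nonzero germ in the unit module
  have hne' : (unitM X).presheaf.germ V x hxV (toUnit m) ≠ 0 := by
    intro h0
    rw [germ_eq_zero_iff (unitM X) hV x hxV] at h0
    obtain ⟨r, hr, hrm⟩ := h0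
    have hrm' : r * m = 0 := hrm
    have hru : IsUnit (X.presheaf.germ V x hxV r) := by
      rwa [← Scheme.mem_basicOpen _ _ _ hxV]
    have h1 := congrArg (X.presheaf.germ V x hxV) hrm'
    rw [map_mul, map_zero, hgm] at h1
    exact hne (hru.mul_right_eq_zero.mp h1)
  obtain ⟨y, hyV, hyx, hyass, hyne⟩ :=
    exists_isWeakAssPoint_specializes (unitM X) hV (toUnit m) x hxV hne'
  have hya : y ∉ X.basicOpen a := by
    intro hy
    apply hyne
    rw [germ_eq_zero_iff (unitM X) hV y hyV]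
    refine ⟨a, hy, ?_⟩
    change a * m = 0
    rw [mul_comm]; exact hma
  have hfy : f y ∈ U := hVU hyV
  have hfyb : f y ∉ Y.basicOpen s := by
    intro hcon
    apply hya
    rw [ha, Scheme.basicOpen_res]
    refine ⟨hyV, ?_⟩
    rw [← Scheme.preimage_basicOpen]
    exact hcon
  exact false_of_generic U s (f y) hfy (h y hyass) (hs ⟨f y, hfy⟩) hfyb

end Groth.Agent.Lib.Helper29.QCoh.MeroPull
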