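import Groth.Agent.Lib.Helper29.MeroReg
set_option autoImplicit false
universe u
open CategoryTheory CategoryTheory.Limits AlgebraicGeometry TopologicalSpace Opposite

namespace Groth.Agent.Lib.Helper29.QCoh.MeroK
open Groth.Agent.Lib.Helper26

variable {X : Scheme.{u}}

theorem finite_minimalPrimes_of_finite_irreducibleComponents {U : X.Opens} (hU : IsAffineOpen U)
    (hb : (irreducibleComponents ↥(U : Scheme.{u})).Finite) :
    (minimalPrimes Γ(X, U)).Finite := by
  have hfin : (irreducibleComponents (PrimeSpectrum Γ(X, U))).Finite := by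
    let f : ↥(U : Scheme.{u}) → PrimeSpectrum Γ(X, U) := hU.isoSpec.hom.base
    have hf : IsHomeomorph f := (TopCat.homeoOfIso (Scheme.forgetToTop.mapIso hU.isoSpec)).isHomeomorph
    have e := irreducibleComponentsEquivOfIsPreirreducibleFiber f hf.continuous hf.isOpenMap
      (fun x => (Set.subsingleton_singleton.preimage hf.injective).isPreirreducible) hf.surjective
    have : Finite (irreducibleComponents ↥(U : Scheme.{u})) := hb.to_subtype
    exact Set.finite_coe_iff.mp (Finite.of_equiv _ e.toEquiv.symm)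
  rw [← PrimeSpectrum.vanishingIdeal_irreducibleComponents]
  exact hfin.image _

theorem finite_weakAss_of_generic {U : X.Opens} (hU : IsAffineOpen U)
    (ha : ∀ x : X, Curv2.IsWeakAssPoint (unitM X) x → ∀ y : X, y ⤳ x → y = x)
    (hb : (irreducibleComponents ↥(U : Scheme.{u})).Finite) :
    {z : X | z ∈ U ∧ Curv2.IsWeakAssPoint (unitM X) z}.Finite := by
  have hmin := finite_minimalPrimes_of_finite_irreducibleComponents hU hb
  let g : {z : X | z ∈ U ∧ Curv2.IsWeakAssPoint (unitM X) z} → minimalPrimes Γ(X, U) :=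
    fun z => ⟨(hU.primeIdealOf ⟨z.1, z.2.1⟩).asIdeal,
      GenericAffine.primeIdealOf_mem_minimalPrimes hU z.1 z.2.1 (ha z.1 z.2.2)⟩
  have hg : Function.Injective g := by
    intro x y hxy
    apply Subtype.ext
    apply eq_of_primeIdealOf_eq hU x.1 y.1 x.2.1 y.2.1
    apply PrimeSpectrum.ext
    exact congrArg Subtype.val hxy
  have : Finite (minimalPrimes Γ(X, U)) := hmin.to_subtype
  exact Set.finite_coe_iff.mp (Finite.of_injective g hg)

theorem main_S8904 (X : Scheme.{u})
    (ha : ∀ x : ↥X, Curv2.IsWeakAssPoint (Coh.structureModule X) x → ∀ y : ↥X, y ⤳ x → y = x)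
    (hb : ∀ U : X.Opens, IsCompact (U : Set ↥X) → (irreducibleComponents ↥(U : Scheme.{u})).Finite) :
    (∀ x : ↥X, Mero.regStalk X x = nonZeroDivisors ↑(X.presheaf.stalk x)) ∧
      ∀ U : X.affineOpens,
        @IsLocalization Γ(X, U.1) _ (nonZeroDivisors Γ(X, U.1)) Γ(Mero.kmod X, U.1) _ (Mero.toK X U.1).toAlgebra := by
  constructor
  · intro x
    obtain ⟨W, hW, hxW, -⟩ := exists_isAffineOpen_mem_and_subset (x := x) (U := ⊤) trivial
    exact regStalk_eq_nonZeroDivisors_of_finite x hxW
      (finite_weakAss_of_generic hW ha (hb W hW.isCompact))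
  · intro U
    exact isLocalization_kmod_of_finite U.2 (finite_weakAss_of_generic U.2 ha (hb U.1 U.2.isCompact))

end Groth.Agent.Lib.Helper29.QCoh.MeroK
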