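import Groth.Agent.Lib.Helper29.Depth1M
import Groth.Agent.Lib.Helper29.MeroCore9
set_option autoImplicit false
universe u
open CategoryTheory CategoryTheory.Limits AlgebraicGeometry TopologicalSpace Opposite IsLocalRing

namespace Groth.Agent.Lib.Helper29.QCoh.MeroK
open Groth.Agent.Lib.Helper26 Groth.Agent.Lib.Helper29.Depth1

theorem divisor_spec_eq_one_iff (A : Type u) [CommRing A] [IsNoetherianRing A] [IsLocalRing A] :
    (∀ D : Mero.Divisor (Spec (CommRingCat.of A)), D = 1) ↔ LocCoh.depth A A = 0 := by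
  set X := Spec (CommRingCat.of A) with hX
  haveI : IsLocallyNoetherian X := inferInstance
  let ι : Γ(X, ⊤) ≃+* A := (Scheme.ΓSpecIso (CommRingCat.of A)).commRingCatIsoToRingEquiv
  have hιinv : ∀ b : A, ι.symm b = (Scheme.ΓSpecIso (CommRingCat.of A)).inv b := fun b => rfl
  have haff : IsAffineOpen (⊤ : X.Opens) := isAffineOpen_top X
  let x₀ : X := IsLocalRing.closedPoint A
  constructor
  · -- contrapositive
    intro h
    by_contra hd
    have h1 : 1 ≤ LocCoh.depth A A := Order.one_le_iff_ne_zero.mpr hd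
    obtain ⟨b, hbm, hbreg⟩ := (Groth.Agent.Lib.Helper18.CM.one_le_depth_iff A).mp h1
    set b' : Γ(X, ⊤) := ι.symm b with hb'
    have hb'nz : b' ∈ nonZeroDivisors Γ(X, ⊤) := by
      rw [mem_nonZeroDivisors_iff_right]
      intro r hr
      have h2 : ι r * b = 0 := by
        have := congrArg ι hr
        rwa [map_mul, map_zero, hb', RingEquiv.apply_symm_apply] at this
      have h3 : ι r = 0 := by
        apply hbreg
        change b • ι r = b • (0 : A)
        rw [smul_eq_mul, smul_eq_mul, mul_zero, mul_comm]; exact h2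
      exact ι.injective (h3.trans (map_zero ι).symm)
    have hb'reg : b' ∈ Mero.regSub X ⊤ := mem_regSub_of_mem_nonZeroDivisors haff b' hb'nz
    have hu : IsUnit (Mero.toK X ⊤ b') := isUnit_toK ⟨b', hb'reg⟩
    have hD := h (Mero.div hu.unit)
    have h4 : (Mero.div hu.unit).1 x₀ = 1 := by rw [hD]; rfl
    change (QuotientGroup.mk (Units.map (Mero.evalK X ⊤ ⟨x₀, Opens.mem_top x₀⟩).toMonoidHom hu.unit) :
      Mero.Germ X x₀) = 1 at h4
    rw [QuotientGroup.eq_one_iff, mem_stalkUnits_iff] at h4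
    obtain ⟨u, hu'⟩ := h4
    have h5 : (LocalizedModule.mk (X.presheaf.germ ⊤ x₀ (Opens.mem_top x₀) b') 1 :
        Mero.KStalk X x₀) = LocalizedModule.mk u.1 1 := hu'
    rw [mk_eq_mk_iff] at h5
    simp only [OneMemClass.coe_one, one_mul] at h5
    have h6 : x₀ ∈ X.basicOpen b' := by
      rw [Scheme.mem_basicOpen X b' x₀ (Opens.mem_top x₀), h5]
      exact u.isUnit
    rw [hb', hιinv, basicOpen_eq_of_affine] at h6
    exact h6 hbm
  · intro hd D
    have hass : IsAssociatedPrime (maximalIdeal A) A :=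
      (Groth.Agent.Lib.Helper18.CM.depth_eq_zero_iff A).mp hd
    have hunit : ∀ r : Γ(X, ⊤), r ∈ nonZeroDivisors Γ(X, ⊤) → IsUnit r := by
      intro r hr
      have h1 : ι r ∈ nonZeroDivisors A := by
        rw [mem_nonZeroDivisors_iff_right]
        intro t ht
        have h2 : ι.symm t * r = 0 := by
          apply ι.injective
          rw [map_mul, RingEquiv.apply_symm_apply, ht, map_zero]
        have h3 := mem_nonZeroDivisors_iff_right.mp hr _ h2
        have := congrArg ι h3
        rwa [RingEquiv.apply_symm_apply, map_zero] at this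
      have h2 := Groth.Agent.Lib.Helper29.QCoh.MeroPull.isUnit_of_mem_nonZeroDivisors_of_isAssociatedPrime
        hass (ι r) h1
      exact (isUnit_map_iff ι r).mp h2
    -- every global meromorphic function is a function
    have hglob : ∀ q : Γ(Mero.kmod X, ⊤), ∃ a : Γ(X, ⊤), q = Mero.toK X ⊤ a := by
      intro q
      obtain ⟨b, ⟨c, hbc⟩, hb⟩ := exists_nonZeroDivisor_denominator haff q
      obtain ⟨v, hv⟩ := (hunit b hb).exists_left_inv
      refine ⟨v * c, ?_⟩
      rw [map_mul, ← hbc, ← mul_assoc, ← map_mul, hv, map_one, one_mul]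
    apply Subtype.ext
    funext y
    obtain ⟨U, hx₀U, f, hf⟩ := D.2 x₀
    have hU : U = ⊤ := by
      ext z
      simp only [Opens.coe_top, Set.mem_univ, iff_true]
      have hs : z ⤳ x₀ := IsLocalRing.specializes_closedPoint z
      exact hs.mem_open U.isOpen hx₀U
    subst hU
    obtain ⟨a, ha⟩ := hglob (f : Γ(Mero.kmod X, ⊤))
    obtain ⟨a', ha'⟩ := hglob ((f⁻¹ : (Γ(Mero.kmod X, ⊤))ˣ) : Γ(Mero.kmod X, ⊤))
    have haa' : a * a' = 1 := by
      apply toK_injective
      rw [map_mul, ← ha, ← ha', Units.mul_inv, map_one]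
    have hy := hf ⟨y, Opens.mem_top y⟩
    change D.1 y = _ at hy
    rw [hy]
    change (QuotientGroup.mk (Units.map (Mero.evalK X ⊤ ⟨y, Opens.mem_top y⟩).toMonoidHom f) :
      Mero.Germ X y) = 1
    rw [QuotientGroup.eq_one_iff, mem_stalkUnits_iff]
    have hua : IsUnit (X.presheaf.germ ⊤ y (Opens.mem_top y) a) :=
      (IsUnit.of_mul_eq_one _ haa').map _
    refine ⟨hua.unit, ?_⟩
    change (f : Γ(Mero.kmod X, ⊤)).1 ⟨y, Opens.mem_top y⟩ = _
    rw [ha, Mero.toK_apply]
    rfl

end Groth.Agent.Lib.Helper29.QCoh.MeroK
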