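import Groth.Agent.Lib.Helper29.CocycleHom
universe u
open CategoryTheory CategoryTheory.Limits AlgebraicGeometry Opposite TopologicalSpace DirectSum

namespace Groth.Agent.Lib.Helper29.QCoh

section MkO
variable {R A : Type u} [CommRing R] [CommRing A] [Algebra R A] (𝒜 : ℕ → Submodule R A) [GradedAlgebra 𝒜]

theorem ofun_add {U : (Proj 𝒜).Opens} (r s : Γ(Proj 𝒜, U)) (x : U) :
    ofun 𝒜 (r + s) x = ofun 𝒜 r x + ofun 𝒜 s x :=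
  HomogeneousLocalization.val_add _ _

theorem ofun_zero {U : (Proj 𝒜).Opens} (x : U) :
    ofun 𝒜 (0 : Γ(Proj 𝒜, U)) x = 0 :=
  HomogeneousLocalization.val_zero

/-- Two fractions with cross-multiplied numerators equal are equal sections. -/
theorem mkO_eq_mkO (U : (Proj 𝒜).Opens) {i j : ℕ} (a s : 𝒜 i) (b t : 𝒜 j)
    (hs : ∀ x : U, s.1 ∉ x.1.asHomogeneousIdeal) (ht : ∀ x : U, t.1 ∉ x.1.asHomogeneousIdeal)
    (h : t.1 * a.1 = s.1 * b.1) : mkO 𝒜 U a s hs = mkO 𝒜 U b t ht := by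
  apply ofun_ext
  intro x
  rw [ofun_mkO, ofun_mkO]
  exact mk_eq_mk_of_mul_eq _ _ _ _ h

theorem mkO_mul (U : (Proj 𝒜).Opens) {i j : ℕ} (a s : 𝒜 i) (b t : 𝒜 j)
    (hs : ∀ x : U, s.1 ∉ x.1.asHomogeneousIdeal) (ht : ∀ x : U, t.1 ∉ x.1.asHomogeneousIdeal) :
    mkO 𝒜 U a s hs * mkO 𝒜 U b t ht =
      mkO 𝒜 U (⟨a.1 * b.1, SetLike.mul_mem_graded a.2 b.2⟩ : 𝒜 (i + j))
        ⟨s.1 * t.1, SetLike.mul_mem_graded s.2 t.2⟩
        (fun x h => (x.1.isPrime.mem_or_mem h).elim (hs x) (ht x)) := by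
  apply ofun_ext
  intro x
  rw [ofun_mul, ofun_mkO, ofun_mkO, ofun_mkO, Localization.mk_mul]
  rfl

theorem mkO_add (U : (Proj 𝒜).Opens) {i : ℕ} (a b s : 𝒜 i)
    (hs : ∀ x : U, s.1 ∉ x.1.asHomogeneousIdeal) :
    mkO 𝒜 U (a + b) s hs = mkO 𝒜 U a s hs + mkO 𝒜 U b s hs := by
  apply ofun_ext
  intro x
  rw [ofun_add, ofun_mkO, ofun_mkO, ofun_mkO, Localization.add_mk_self]
  rfl

theorem mkO_zero (U : (Proj 𝒜).Opens) {i : ℕ} (s : 𝒜 i)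
    (hs : ∀ x : U, s.1 ∉ x.1.asHomogeneousIdeal) :
    mkO 𝒜 U (0 : 𝒜 i) s hs = 0 := by
  apply ofun_ext
  intro x
  rw [ofun_zero, ofun_mkO]
  exact Localization.mk_zero _

theorem mkO_self (U : (Proj 𝒜).Opens) {i : ℕ} (s : 𝒜 i)
    (hs : ∀ x : U, s.1 ∉ x.1.asHomogeneousIdeal) :
    mkO 𝒜 U s s hs = 1 := by
  apply ofun_ext
  intro x
  rw [ofun_one, ofun_mkO]
  exact Localization.mk_self (⟨s.1, hs x⟩ : x.1.asHomogeneousIdeal.toIdeal.primeCompl)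

theorem rres_mkO {U V : (Proj 𝒜).Opens} (h : V ≤ U) {i : ℕ} (a s : 𝒜 i)
    (hs : ∀ x : U, s.1 ∉ x.1.asHomogeneousIdeal) :
    rres (Proj 𝒜) h (mkO 𝒜 U a s hs) = mkO 𝒜 V a s (fun x => hs ⟨x.1, h x.2⟩) := rfl

/-- The nonvanishing locus of the function `a / s` on `U` is `U ⊓ D_+(a)`. -/
theorem basicOpen_mkO (U : (Proj 𝒜).Opens) {i : ℕ} (a s : 𝒜 i)
    (hs : ∀ x : U, s.1 ∉ x.1.asHomogeneousIdeal) :
    (Proj 𝒜).basicOpen (mkO 𝒜 U a s hs) = U ⊓ Proj.basicOpen 𝒜 a.1 := by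
  apply le_antisymm
  · intro x hx
    have hxU : x ∈ U := (Proj 𝒜).basicOpen_le _ hx
    refine ⟨hxU, ?_⟩
    have hu : IsUnit (rres (Proj 𝒜) ((Proj 𝒜).basicOpen_le (mkO 𝒜 U a s hs))
        (mkO 𝒜 U a s hs)) := RingedSpace.isUnit_res_basicOpen _ _
    obtain ⟨r', hr'⟩ := hu.exists_right_inv
    have h1 := congrArg (fun r => ofun 𝒜 r ⟨x, hx⟩) hr'
    simp only [ofun_mul, ofun_one] at h1
    rw [rres_mkO, ofun_mkO] at h1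
    have hu2 : IsUnit (Localization.mk a.1 ⟨s.1, hs ⟨x, hxU⟩⟩ : Twist.Loc 𝒜 x) :=
      IsUnit.of_mul_eq_one _ h1
    rw [isUnit_mk_iff] at hu2
    exact hu2
  · rw [← isUnit_rres_iff (inf_le_left : U ⊓ Proj.basicOpen 𝒜 a.1 ≤ U)]
    rw [rres_mkO]
    have ha : ∀ x : (U ⊓ Proj.basicOpen 𝒜 a.1 : (Proj 𝒜).Opens), a.1 ∉ x.1.asHomogeneousIdeal :=
      fun x => x.2.2
    refine IsUnit.of_mul_eq_one (mkO 𝒜 _ s a ha) ?_
    rw [mkO_mul]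
    have := mkO_eq_mkO 𝒜 (U ⊓ Proj.basicOpen 𝒜 a.1)
      (⟨a.1 * s.1, SetLike.mul_mem_graded a.2 s.2⟩ : 𝒜 (i + i))
      ⟨s.1 * a.1, SetLike.mul_mem_graded s.2 a.2⟩
      (⟨s.1 * a.1, SetLike.mul_mem_graded s.2 a.2⟩ : 𝒜 (i + i))
      ⟨s.1 * a.1, SetLike.mul_mem_graded s.2 a.2⟩
      (fun x h => (x.1.isPrime.mem_or_mem h).elim (hs ⟨x.1, x.2.1⟩) (ha x))
      (fun x h => (x.1.isPrime.mem_or_mem h).elim (hs ⟨x.1, x.2.1⟩) (ha x))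
      (by simp only; ring)
    rw [this, mkO_self]

end MkO

end Groth.Agent.Lib.Helper29.QCoh
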