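import Mathlib

/-! Basis of the cokernel of `R[N] → R[M]` for an injective monoid hom (helper29). -/

set_option autoImplicit false
universe u
open TensorProduct

namespace Groth.Agent.Lib.Helper29.MonAttrAlg

variable (R : Type u) [CommRing R] {N M : Type} [Monoid N] [Monoid M] (g : N →* M)

/-- the algebra map `R[N] → R[M]` -/
noncomputable abbrev ιg : MonoidAlgebra R N →ₐ[R] MonoidAlgebra R M :=
  MonoidAlgebra.mapDomainAlgHom R R g

/-- the index type: elements outside the range -/
abbrev Idx : Type u := ULift.{u} {m : M // m ∉ Set.range g}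

/-- restriction of coefficients to the complement of the range -/
noncomputable def ρ : MonoidAlgebra R M →ₗ[R] ({m : M // m ∉ Set.range g} →₀ R) :=
  (Finsupp.lsubtypeDomain (fun m : M => m ∉ Set.range g)) ∘ₗ
    (MonoidAlgebra.coeffLinearEquiv R).toLinearMap

theorem ρ_apply (x : MonoidAlgebra R M) (m : {m : M // m ∉ Set.range g}) :
    ρ R g x m = x.coeff m.1 := rfl

theorem ρ_surjective : Function.Surjective (ρ R g) := by
  classical
  intro c
  refine ⟨MonoidAlgebra.ofCoeff (c.mapDomain Subtype.val), ?_⟩
  ext m
  rw [ρ_apply, MonoidAlgebra.coeff_ofCoeff, Finsupp.mapDomain_apply Subtype.val_injective]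

theorem ker_ρ (hg : Function.Injective g) :
    LinearMap.ker (ρ R g) = LinearMap.range (ιg R g).toLinearMap := by
  classical
  ext x
  rw [LinearMap.mem_ker, LinearMap.mem_range]
  constructor
  · intro hx
    have hsupp : (↑x.coeff.support : Set M) ⊆ Set.range g := by
      intro m hm
      by_contra hmr
      have h1 : ρ R g x ⟨m, hmr⟩ = 0 := by rw [hx]; rfl
      rw [ρ_apply] at h1
      exact (Finsupp.mem_support_iff.mp hm) h1
    refine ⟨MonoidAlgebra.ofCoeff (Finsupp.comapDomain g x.coeff hg.injOn), ?_⟩
    apply MonoidAlgebra.coeff_injective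
    change Finsupp.mapDomain g (Finsupp.comapDomain g x.coeff hg.injOn) = x.coeff
    exact Finsupp.mapDomain_comapDomain g hg x.coeff hsupp
  · rintro ⟨y, rfl⟩
    ext m
    rw [ρ_apply]
    change (Finsupp.mapDomain g y.coeff) m.1 = 0
    exact Finsupp.mapDomain_of_notMem_range _ _ m.2

/-- the quotient is free on the complement of the range -/
noncomputable def quotEquiv (hg : Function.Injective g) :
    (MonoidAlgebra R M ⧸ LinearMap.range (ιg R g).toLinearMap) ≃ₗ[R]
      ({m : M // m ∉ Set.range g} →₀ R) :=
  (Submodule.quotEquivOfEq _ _ (ker_ρ R g hg).symm).trans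
    ((ρ R g).quotKerEquivOfSurjective (ρ_surjective R g))

theorem quotEquiv_mk (hg : Function.Injective g) (x : MonoidAlgebra R M) :
    quotEquiv R g hg ((LinearMap.range (ιg R g).toLinearMap).mkQ x) = ρ R g x := rfl

/-- the basis of the cokernel -/
noncomputable def basis (hg : Function.Injective g) :
    Module.Basis (Idx g) R (MonoidAlgebra R M ⧸ LinearMap.range (ιg R g).toLinearMap) :=
  Module.Basis.ofRepr ((quotEquiv R g hg).trans
    (Finsupp.domLCongr (R := R) (M := R) (Equiv.ulift.{u, 0}.symm)))

theorem basis_coord (hg : Function.Injective g) (i : Idx g) (x : MonoidAlgebra R M) :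
    (basis R g hg).coord i ((LinearMap.range (ιg R g).toLinearMap).mkQ x) = x.coeff i.down.1 := by
  rw [Module.Basis.coord_apply]
  change (Finsupp.domLCongr (R := R) (M := R) (Equiv.ulift.{u, 0}.symm) (quotEquiv R g hg
    ((LinearMap.range (ιg R g).toLinearMap).mkQ x))) i = _
  rw [quotEquiv_mk, Finsupp.domLCongr_apply, Finsupp.domCongr_apply,
    Finsupp.equivMapDomain_apply]
  rfl

end Groth.Agent.Lib.Helper29.MonAttrAlg
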