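import Groth.Agent.Lib.Helper29.AffAttrAlg
import Groth.Agent.Lib.Helper29.MonAttrAlg
import Groth.Agent.Lib.Helper10.MagnetDom

/-! Functions on `A(P)_S ×_S T` for affine `T` (helper29). -/

set_option autoImplicit false
universe u
open CategoryTheory CategoryTheory.Limits MonoidalCategory CartesianMonoidalCategory MonObj
  AlgebraicGeometry Opposite
open TensorProduct
open Magnet

namespace Groth.Agent.Lib.Helper29.MonAttr

/-- the base ring -/
abbrev k₀ : Type u := ULift.{u} ℤ

/-- the monoid algebra -/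
abbrev AA (P : Type) [AddCommMonoid P] : Type u := MonoidAlgebra k₀.{u} (Multiplicative P)

/-- algebra structure on global sections -/
@[instance_reducible]
noncomputable def algΓ (Y : Scheme.{u}) : Algebra k₀.{u} Γ(Y, ⊤) := ULift.algebra' ℤ Γ(Y, ⊤)

attribute [local instance] algΓ

theorem algebraMap_k₀ (A : Type u) [CommRing A] [Algebra k₀.{u} A] (r : k₀.{u}) :
    algebraMap k₀.{u} A r = ((r.down : ℤ) : A) := by
  have h := RingHom.ext_int ((algebraMap k₀.{u} A).comp
    (ULift.ringEquiv.symm : ℤ ≃+* ULift.{u} ℤ).toRingHom) (Int.castRingHom A)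
  have h2 := congrArg (fun f : ℤ →+* A => f r.down) h
  exact h2

/-- every ring hom between `k₀`-algebras is an algebra hom -/
noncomputable def zAlg {A B : Type u} [CommRing A] [CommRing B] [Algebra k₀.{u} A]
    [Algebra k₀.{u} B] (f : A →+* B) : A →ₐ[k₀.{u}] B :=
  { f with
    commutes' := fun r => by
      change f (algebraMap k₀.{u} A r) = algebraMap k₀.{u} B r
      rw [algebraMap_k₀, algebraMap_k₀, map_intCast] }

@[simp] theorem zAlg_apply {A B : Type u} [CommRing A] [CommRing B] [Algebra k₀.{u} A]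
    [Algebra k₀.{u} B] (f : A →+* B) (x : A) : zAlg f x = f x := rfl

variable {S : Scheme.{u}}

/-- pullback of functions along a morphism over `S` -/
noncomputable def appAlg {P P' : Over S} (f : P ⟶ P') : Γ(P'.left, ⊤) →ₐ[k₀.{u}] Γ(P.left, ⊤) :=
  zAlg f.left.appTop.hom

theorem appAlg_apply {P P' : Over S} (f : P ⟶ P') (s : Γ(P'.left, ⊤)) :
    appAlg f s = f.left.appTop.hom s := rfl

theorem appAlg_comp {P P' P'' : Over S} (f : P ⟶ P') (g : P' ⟶ P'')
    (s : Γ(P''.left, ⊤)) : appAlg (f ≫ g) s = appAlg f (appAlg g s) := by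
  simp only [appAlg_apply, Over.comp_left, Scheme.Hom.comp_appTop, CommRingCat.comp_apply]

/-- the projection to `Spec ℤ[P]` -/
noncomputable def prP (P : Type) [AddCommMonoid P] (T : Over S) :
    (AMonS S P ⊗ T).left ⟶ Spec (CommRingCat.of (AA.{u} P)) :=
  pullback.fst (AMonS S P).hom T.hom ≫
    pullback.fst (AMon (ULift.{u} ℤ) P).hom (Limits.IsTerminal.from specULiftZIsTerminal S)

/-- the characters -/
noncomputable def chi (P : Type) [AddCommMonoid P] (T : Over S) :
    AA.{u} P →ₐ[k₀.{u}] Γ((AMonS S P ⊗ T).left, ⊤) :=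
  zAlg ((prP P T).appTop.hom.comp (Scheme.ΓSpecIso (CommRingCat.of (AA.{u} P))).inv.hom)

theorem chi_apply (P : Type) [AddCommMonoid P] (T : Over S) (x : AA.{u} P) :
    chi P T x = (prP P T).appTop.hom ((Scheme.ΓSpecIso (CommRingCat.of (AA.{u} P))).inv.hom x) :=
  rfl

/-- the comparison map -/
noncomputable def Θ (P : Type) [AddCommMonoid P] (T : Over S) :
    AA.{u} P ⊗[k₀.{u}] Γ(T.left, ⊤) →ₐ[k₀.{u}] Γ((AMonS S P ⊗ T).left, ⊤) :=
  Algebra.TensorProduct.productMap (chi P T) (appAlg (CartesianMonoidalCategory.snd (AMonS S P) T))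

theorem Θ_tmul (P : Type) [AddCommMonoid P] (T : Over S) (x : AA.{u} P) (y : Γ(T.left, ⊤)) :
    Θ P T (x ⊗ₜ y) = chi P T x * appAlg (CartesianMonoidalCategory.snd (AMonS S P) T) y := by
  simp [Θ]

theorem prP_whiskerLeft (P : Type) [AddCommMonoid P] {T T' : Over S} (v : T ⟶ T') :
    (AMonS S P ◁ v).left ≫ prP P T' = prP P T := by
  unfold prP
  rw [← Category.assoc, Over.whiskerLeft_left_fst]

theorem prP_whiskerRight {N M : Type} [AddCommMonoid N] [AddCommMonoid M] (f : N →+ M)
    (T : Over S) :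
    (AMonS.map S f ▷ T).left ≫ prP N T = prP M T ≫ Spec.map (CommRingCat.ofHom
      (MonoidAlgebra.mapDomainAlgHom k₀.{u} k₀.{u} (AddMonoidHom.toMultiplicative f)).toRingHom) := by
  have e1 : (AMonS.map S f ▷ T).left ≫ pullback.fst (AMonS S N).hom T.hom =
      pullback.fst (AMonS S M).hom T.hom ≫ (AMonS.map S f).left := Over.whiskerRight_left_fst _
  have e2 : (AMonS.map S f).left ≫ pullback.fst (AMon (ULift.{u} ℤ) N).hom
        (Limits.IsTerminal.from specULiftZIsTerminal S) =
      pullback.fst (AMon (ULift.{u} ℤ) M).hom (Limits.IsTerminal.from specULiftZIsTerminal S) ≫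
        (AMon.map (ULift.{u} ℤ) f).left := pullback.lift_fst _ _ _
  change (AMonS.map S f ▷ T).left ≫ (pullback.fst (AMonS S N).hom T.hom ≫
      pullback.fst (AMon (ULift.{u} ℤ) N).hom (Limits.IsTerminal.from specULiftZIsTerminal S)) =
    (pullback.fst (AMonS S M).hom T.hom ≫
      pullback.fst (AMon (ULift.{u} ℤ) M).hom (Limits.IsTerminal.from specULiftZIsTerminal S)) ≫
      (AMon.map (ULift.{u} ℤ) f).left
  rw [← Category.assoc, e1, Category.assoc, e2, Category.assoc]

/-- the algebra map induced by a monoid hom -/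
noncomputable abbrev ιf {N M : Type} [AddCommMonoid N] [AddCommMonoid M] (f : N →+ M) :
    AA.{u} N →ₐ[k₀.{u}] AA.{u} M :=
  MonoidAlgebra.mapDomainAlgHom k₀.{u} k₀.{u} (AddMonoidHom.toMultiplicative f)

theorem chi_whiskerLeft (P : Type) [AddCommMonoid P] {T T' : Over S} (v : T ⟶ T') (x : AA.{u} P) :
    appAlg (AMonS S P ◁ v) (chi P T' x) = chi P T x := by
  rw [appAlg_apply, chi_apply, chi_apply, ← CommRingCat.comp_apply, ← Scheme.Hom.comp_appTop,
    prP_whiskerLeft]

theorem chi_whiskerRight {N M : Type} [AddCommMonoid N] [AddCommMonoid M] (f : N →+ M)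
    (T : Over S) (x : AA.{u} N) :
    appAlg (AMonS.map S f ▷ T) (chi N T x) = chi M T (ιf f x) := by
  rw [appAlg_apply, chi_apply, chi_apply, ← CommRingCat.comp_apply, ← Scheme.Hom.comp_appTop,
    prP_whiskerRight, Scheme.Hom.comp_appTop, CommRingCat.comp_apply]
  congr 1
  have h := Scheme.ΓSpecIso_inv_naturality (CommRingCat.ofHom (ιf.{u} f).toRingHom)
  exact (congrArg (fun t => t.hom x) h).symm

theorem Θ_whiskerLeft (P : Type) [AddCommMonoid P] {T T' : Over S} (v : T ⟶ T')
    (w : AA.{u} P ⊗[k₀.{u}] Γ(T'.left, ⊤)) :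
    appAlg (AMonS S P ◁ v) (Θ P T' w) =
      Θ P T (Algebra.TensorProduct.map (AlgHom.id k₀.{u} (AA.{u} P)) (appAlg v) w) := by
  induction w using TensorProduct.induction_on with
  | zero => simp
  | tmul x y =>
    rw [Algebra.TensorProduct.map_tmul, Θ_tmul, Θ_tmul, map_mul, chi_whiskerLeft,
      ← appAlg_comp, whiskerLeft_snd, appAlg_comp]
    rfl
  | add y z hy hz => simp only [map_add, hy, hz]

theorem Θ_whiskerRight {N M : Type} [AddCommMonoid N] [AddCommMonoid M] (f : N →+ M)
    (T : Over S) (w : AA.{u} N ⊗[k₀.{u}] Γ(T.left, ⊤)) :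
    appAlg (AMonS.map S f ▷ T) (Θ N T w) =
      Θ M T (Algebra.TensorProduct.map (ιf f) (AlgHom.id k₀.{u} Γ(T.left, ⊤)) w) := by
  induction w using TensorProduct.induction_on with
  | zero => simp
  | tmul x y =>
    rw [Algebra.TensorProduct.map_tmul, Θ_tmul, Θ_tmul, map_mul, chi_whiskerRight,
      ← appAlg_comp, whiskerRight_snd]
    rfl
  | add y z hy hz => simp only [map_add, hy, hz]

set_option backward.isDefEq.respectTransparency.types false in
set_option maxHeartbeats 1000000 in
theorem Θ_bijective (P : Type) [AddCommMonoid P] (T : Over S) [IsAffine T.left] :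
    Function.Bijective (Θ P T) := by
  have hpb := Groth.Agent.Lib.Helper10.MagnetDom.isPullback_AMonS_tensor S P T
  haveI : IsAffine (AMon (ULift.{u} ℤ) P).left :=
    inferInstanceAs (IsAffine (Spec (CommRingCat.of (AA.{u} P))))
  have hpo := isPushout_appTop_of_isPullback hpb
  have hpo' : IsPushout (CommRingCat.ofHom (algebraMap k₀.{u} (AA.{u} P)))
      (CommRingCat.ofHom (algebraMap k₀.{u} Γ(T.left, ⊤)))
      (CommRingCat.ofHom (chi P T).toRingHom)
      (CartesianMonoidalCategory.snd (AMonS S P) T).left.appTop := by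
    refine hpo.of_iso (Scheme.ΓSpecIso (CommRingCat.of k₀.{u}))
      (Scheme.ΓSpecIso (CommRingCat.of (AA.{u} P))) (Iso.refl _) (Iso.refl _) ?_ ?_ ?_ ?_
    · exact Scheme.ΓSpecIso_naturality _
    · rw [← cancel_epi (Scheme.ΓSpecIso (CommRingCat.of k₀.{u})).inv]
      exact CommRingCat.isInitial.hom_ext _ _
    · rw [Iso.refl_hom, Category.comp_id]
      ext x
      change _ = (prP P T).appTop.hom ((Scheme.ΓSpecIso (CommRingCat.of (AA.{u} P))).inv.hom
        ((Scheme.ΓSpecIso (CommRingCat.of (AA.{u} P))).hom.hom x))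
      have h := congrArg (fun t => t.hom x) (Scheme.ΓSpecIso (CommRingCat.of (AA.{u} P))).hom_inv_id
      change (Scheme.ΓSpecIso (CommRingCat.of (AA.{u} P))).inv.hom
        ((Scheme.ΓSpecIso (CommRingCat.of (AA.{u} P))).hom.hom x) = x at h
      rw [h]
      rfl
    · rw [Iso.refl_hom, Category.comp_id]
      exact (Category.id_comp _).symm
  refine AffAttrAlg.bijective_of_isPushout hpo' rfl rfl (Θ P T).toRingHom ?_ ?_
  · intro x
    change Θ P T (x ⊗ₜ 1) = _
    rw [Θ_tmul, map_one, _root_.mul_one]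
    rfl
  · intro y
    change Θ P T (1 ⊗ₜ y) = _
    rw [Θ_tmul, map_one, _root_.one_mul]
    rfl

end Groth.Agent.Lib.Helper29.MonAttr
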