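import Groth.Agent.Lib.Helper29.AttrGlue

/-! Monoid versions of the restriction of an action to an invariant open and of the sheaf
property of the functor of equivariant families (helper29). -/

set_option autoImplicit false
universe u
open CategoryTheory MonoidalCategory CartesianMonoidalCategory MonObj AlgebraicGeometry Opposite
open Magnet

namespace Groth.Agent.Lib.Helper29.MonGlue

open Groth.Agent.Lib.Helper10.ZarRep Groth.Agent.Lib.Helper10
open Groth.Agent.Lib.Helper29.AttrGlue (UO jU)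

section Restrict

variable {S : Scheme.{u}} {G X : Over S} [MonObj G] (aX : Magnet.MonAct G X) (U : X.left.Opens)
  (hU : (CartesianMonoidalCategory.snd G X).left ⁻¹ᵁ U ≤ aX.act.left ⁻¹ᵁ U)

include hU in
theorem exists_actU : ∃ act : G ⊗ UO X U ⟶ UO X U, act ≫ jU X U = (G ◁ jU X U) ≫ aX.act := by
  have hr : Set.range ((G ◁ jU X U) ≫ aX.act).left ⊆ Set.range U.ι := by
    rw [Scheme.Opens.range_ι]
    rintro _ ⟨q, rfl⟩
    have h1 : (G ◁ jU X U).left q ∈ (CartesianMonoidalCategory.snd G X).left ⁻¹ᵁ U := by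
      change (CartesianMonoidalCategory.snd G X).left ((G ◁ jU X U).left q) ∈ U
      rw [← Scheme.Hom.comp_apply, ← Over.comp_left, whiskerLeft_snd, Over.comp_left,
        Scheme.Hom.comp_apply]
      exact ((CartesianMonoidalCategory.snd G (UO X U)).left q).2
    exact hU h1
  let l := IsOpenImmersion.lift U.ι ((G ◁ jU X U) ≫ aX.act).left hr
  have hl : l ≫ U.ι = ((G ◁ jU X U) ≫ aX.act).left := IsOpenImmersion.lift_fac _ _ _
  refine ⟨Over.homMk l ?_, Over.OverMorphism.ext hl⟩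
  change l ≫ U.ι ≫ X.hom = _
  rw [← Category.assoc, hl, Over.w]

/-- the restricted action morphism -/
noncomputable def actU : G ⊗ UO X U ⟶ UO X U := (exists_actU aX U hU).choose

theorem actU_comp : actU aX U hU ≫ jU X U = (G ◁ jU X U) ≫ aX.act :=
  (exists_actU aX U hU).choose_spec

/-- the restricted action -/
noncomputable def aU : Magnet.MonAct G (UO X U) :=
  Magnet.MonAct.mk' (actU aX U hU)
    (fun T x => by
      rw [← cancel_mono (jU X U), Category.assoc, actU_comp, lift_whiskerLeft_assoc]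
      exact aX.lift_one_act (x ≫ jU X U))
    (fun T g h x => by
      rw [← cancel_mono (jU X U)]
      simp only [Category.assoc]
      rw [actU_comp, lift_whiskerLeft_assoc, lift_whiskerLeft_assoc, Category.assoc, actU_comp,
        lift_whiskerLeft_assoc]
      exact aX.lift_mul_act g h (x ≫ jU X U))

theorem aU_act : (aU aX U hU).act = actU aX U hU := rfl

theorem jU_equivariant : Magnet.MonAct.IsEquivariant (aU aX U hU) aX (jU X U) :=
  actU_comp aX U hU

end Restrict

section Sheaf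

variable {S : Scheme.{u}} {M G X : Over S} [MonObj G] (ρ : Magnet.MonAct G M)
  (a : Magnet.MonAct G X)

/-- equivariance of a family -/
def Eqv {T : Scheme.{u}} (e : HomFun.El M X T) : Prop :=
  Magnet.MonAct.IsEquivariant (ρ.prod (Magnet.MonAct.trivial G (Over.mk e.1))) a e.2

set_option backward.isDefEq.respectTransparency.types false in
set_option maxHeartbeats 1000000 in
theorem eqv_local {T : Scheme.{u}} (𝒰 : Scheme.OpenCover.{u} T) (e : HomFun.El M X T)
    (h : ∀ κ, Eqv ρ a (HomFun.elMap (𝒰.f κ) e)) : Eqv ρ a e := by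
  obtain ⟨t, φ⟩ := e
  change Magnet.MonAct.IsEquivariant (ρ.prod (Magnet.MonAct.trivial G (Over.mk t))) a φ
  rw [Magnet.MonAct.mem_eqvHom_iff]
  intro T' g b τ
  apply Over.OverMorphism.ext
  let 𝒱 : Scheme.OpenCover.{u} T'.left := 𝒰.pullback₁ τ.left
  refine 𝒱.hom_ext _ _ (fun κ => ?_)
  let T'κ : Over S := Over.mk (𝒱.f κ ≫ T'.hom)
  let c : T'κ ⟶ T' := Over.homMk (𝒱.f κ) rfl
  let τκ : T'κ ⟶ Over.mk (𝒰.f κ ≫ t) := Over.homMk (Limits.pullback.snd τ.left (𝒰.f κ)) (by
    change Limits.pullback.snd _ _ ≫ 𝒰.f κ ≫ t = Limits.pullback.fst _ _ ≫ T'.hom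
    rw [← Limits.pullback.condition_assoc]
    congr 1
    exact Over.w τ)
  let uκ : Over.mk (𝒰.f κ ≫ t) ⟶ Over.mk t := Over.homMk (𝒰.f κ) rfl
  have hc : c ≫ τ = τκ ≫ uκ := Over.OverMorphism.ext Limits.pullback.condition
  have hκ := (Magnet.MonAct.mem_eqvHom_iff _).mp (h κ) T'κ (c ≫ g) (c ≫ b) τκ
  have e1 : c ≫ (lift (lift g b ≫ ρ.act) τ ≫ φ) =
      lift (lift (c ≫ g) (c ≫ b) ≫ ρ.act) τκ ≫ (M ◁ uκ) ≫ φ := by
    rw [← Category.assoc, comp_lift, ← Category.assoc c, comp_lift, hc, lift_whiskerLeft_assoc]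
  have e2 : c ≫ (lift g (lift b τ ≫ φ) ≫ a.act) =
      lift (c ≫ g) (lift (c ≫ b) τκ ≫ (M ◁ uκ) ≫ φ) ≫ a.act := by
    rw [← Category.assoc, comp_lift, ← Category.assoc c, comp_lift, hc, lift_whiskerLeft_assoc]
  have h3 := e1.trans (hκ.trans e2.symm)
  exact congrArg (fun f => f.left) h3

/-- the functor of equivariant families -/
noncomputable abbrev DD : (Over S)ᵒᵖ ⥤ Type u := Magnet.MonAct.eqvHom ρ a

/-- forgetting equivariance -/
noncomputable def forget {T : Scheme.{u}} (x : OverRep.El (DD ρ a) T) : HomFun.El M X T :=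
  ⟨x.1, x.2.1⟩

theorem forget_elMap {T T' : Scheme.{u}} (g : T' ⟶ T) (x : OverRep.El (DD ρ a) T) :
    forget ρ a (OverRep.elMap g x) = HomFun.elMap g (forget ρ a x) := rfl

theorem forget_inj {T : Scheme.{u}} (x y : OverRep.El (DD ρ a) T)
    (h : forget ρ a x = forget ρ a y) : x = y := by
  obtain ⟨t, φ, hφ⟩ := x
  obtain ⟨t', φ', hφ'⟩ := y
  have h' : (⟨t, φ⟩ : HomFun.El M X T) = ⟨t', φ'⟩ := h
  cases h'
  rfl

theorem sfun_isSheaf : (OverRep.sfun (DD ρ a)).IsSheaf where
  sep := fun 𝒰 x y h => forget_inj ρ a x y (HomFun.homFun_sep 𝒰 _ _ (fun κ => by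
    rw [← forget_elMap, ← forget_elMap]
    exact congrArg (forget ρ a) (h κ)))
  glue := fun 𝒰 x hx => by
    obtain ⟨y', hy'⟩ := HomFun.homFun_glue 𝒰 (fun κ => forget ρ a (x κ)) (fun κ κ' Z p q hpq => by
      rw [← forget_elMap, ← forget_elMap]
      exact congrArg (forget ρ a) (hx κ κ' Z p q hpq))
    have hy : Eqv ρ a y' := eqv_local ρ a 𝒰 y' (fun κ => by
      rw [hy' κ]
      exact (x κ).2.2)
    refine ⟨⟨y'.1, ⟨y'.2, hy⟩⟩, fun κ => forget_inj ρ a _ _ ?_⟩
    exact hy' κ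

end Sheaf

end Groth.Agent.Lib.Helper29.MonGlue
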