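import Groth.Agent.Lib.Helper29.MonAttr1
import Groth.Agent.Lib.Helper29.MonGlue
import Groth.Agent.Lib.Helper29.SchDomFactor
import Groth.Agent.Lib.Helper10.WeilClosed2
import Groth.Agent.Lib.Helper10.ClosedSubF

/-! The attractor of an affine scheme with an action of a diagonalizable monoid scheme
(S18295 core, helper29). -/

set_option autoImplicit false
universe u
open CategoryTheory CategoryTheory.Limits MonoidalCategory CartesianMonoidalCategory MonObj
  AlgebraicGeometry Opposite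
open TensorProduct
open Magnet

namespace Groth.Agent.Lib.Helper29.MonAttr

attribute [local instance] algΓ

variable {S : Scheme.{u}} {M : Type} [AddCommMonoid M] (N : AddSubmonoid M) {X : Over S}
  (a : Magnet.MonAct (AMonS S M) X)

/-- the monoid morphism `A(M) ⟶ A(N)` -/
noncomputable abbrev pN : AMonS S M ⟶ AMonS S N := AMonS.map S N.subtype

/-- the unit section of an extension of an orbit map is the point. -/
theorem unit_of_restrict (T : Over S) (x : T ⟶ X) (ψ : AMonS S N ⊗ T ⟶ X)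
    (h : (pN N ▷ T) ≫ ψ = (AMonS S M ◁ x) ≫ a.act) :
    lift (toUnit T ≫ η[AMonS S N]) (𝟙 T) ≫ ψ = x := by
  have h1 : η[AMonS S N] = η[AMonS S M] ≫ pN N := (IsMonHom.one_hom (f := pN N)).symm
  rw [h1, ← Category.assoc (toUnit T), ← lift_whiskerRight_assoc, h, lift_whiskerLeft_assoc,
    Category.id_comp, ← Hom.one_def]
  exact a.lift_one_act x

set_option backward.isDefEq.respectTransparency.types false in
set_option maxHeartbeats 1000000 in
/-- an extension of an orbit map is equivariant. -/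
theorem equivariant_of_restrict [IsSeparated X.hom]
    (T : Over S) (x : T ⟶ X) (ψ : AMonS S N ⊗ T ⟶ X)
    (h : (pN N ▷ T) ≫ ψ = (AMonS S M ◁ x) ≫ a.act) :
    Magnet.MonAct.IsEquivariant
      ((Magnet.subAct S M N).prod (Magnet.MonAct.trivial (AMonS S M) T)) a ψ := by
  let W : Over S := AMonS S M ⊗ T
  let u : AMonS S N ⊗ W ⟶ X :=
    lift ((snd (AMonS S N) W ≫ fst (AMonS S M) T ≫ pN N) * fst (AMonS S N) W)
      (snd (AMonS S N) W ≫ snd (AMonS S M) T) ≫ ψ
  let v : AMonS S N ⊗ W ⟶ X :=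
    lift (snd (AMonS S N) W ≫ fst (AMonS S M) T)
      (lift (fst (AMonS S N) W) (snd (AMonS S N) W ≫ snd (AMonS S M) T) ≫ ψ) ≫ a.act
  have hpt : ∀ (T' : Over S) (g : T' ⟶ AMonS S M) (b : T' ⟶ AMonS S N) (t : T' ⟶ T),
      lift b (lift g t) ≫ u = lift ((g ≫ pN N) * b) t ≫ ψ := by
    intro T' g b t
    change lift b (lift g t) ≫ lift _ _ ≫ ψ = _
    rw [← Category.assoc, comp_lift, MonObj.comp_mul, lift_fst, lift_snd_assoc, lift_fst_assoc,
      lift_snd_assoc, lift_snd]
  have hpt' : ∀ (T' : Over S) (g : T' ⟶ AMonS S M) (b : T' ⟶ AMonS S N) (t : T' ⟶ T),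
      lift b (lift g t) ≫ v = lift g (lift b t ≫ ψ) ≫ a.act := by
    intro T' g b t
    change lift b (lift g t) ≫ lift _ _ ≫ a.act = _
    rw [← Category.assoc, comp_lift, lift_snd_assoc, lift_fst, ← Category.assoc, comp_lift,
      lift_fst, lift_snd_assoc, lift_snd]
  have hres : ∀ (T' : Over S) (h' : T' ⟶ AMonS S M) (t : T' ⟶ T),
      lift (h' ≫ pN N) t ≫ ψ = lift h' (t ≫ x) ≫ a.act := by
    intro T' h' t
    rw [← lift_whiskerRight_assoc, h, lift_whiskerLeft_assoc]
  have huv : u = v := by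
    apply Groth.Agent.Lib.Helper10.MagnetDom.hom_ext_of_whiskerRight_map S N.subtype
      Subtype.val_injective W X
    apply Magnet.hom_ext_lift₂
    intro T' h' z
    obtain ⟨g, t, rfl⟩ : ∃ (g : T' ⟶ AMonS S M) (t : T' ⟶ T), z = lift g t :=
      ⟨z ≫ fst _ _, z ≫ snd _ _, (lift_comp_fst_snd z).symm⟩
    rw [lift_whiskerRight_assoc, lift_whiskerRight_assoc, hpt, hpt', ← MonObj.mul_comp, hres,
      hres]
    exact a.lift_mul_act g h' (t ≫ x)
  rw [Magnet.MonAct.mem_eqvHom_iff]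
  intro T' g b t
  have h1 := hpt T' g b t
  have h2 := hpt' T' g b t
  rw [huv, h2] at h1
  have h3 : lift g b ≫ (Magnet.subAct S M N).act = (g ≫ pN N) * b := by
    change lift g b ≫ ((Magnet.MonAct.regular (AMonS S N)).restrict (pN N)).act = _
    rw [Magnet.MonAct.lift_restrict_act, Magnet.MonAct.lift_regular_act]
  rw [h3]
  exact h1.symm

/-- equivariant maps are determined by their unit sections. -/
theorem eq_of_evalAt_eq [IsSeparated X.hom]
    (T : Over S) (φ₁ φ₂ : AMonS S N ⊗ T ⟶ X)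
    (h₁ : Magnet.MonAct.IsEquivariant
      ((Magnet.subAct S M N).prod (Magnet.MonAct.trivial (AMonS S M) T)) a φ₁)
    (h₂ : Magnet.MonAct.IsEquivariant
      ((Magnet.subAct S M N).prod (Magnet.MonAct.trivial (AMonS S M) T)) a φ₂)
    (h : lift (toUnit T ≫ η[AMonS S N]) (𝟙 T) ≫ φ₁ = lift (toUnit T ≫ η[AMonS S N]) (𝟙 T) ≫ φ₂) :
    φ₁ = φ₂ := by
  apply Groth.Agent.Lib.Helper10.MagnetDom.hom_ext_of_whiskerRight_map S N.subtype
    Subtype.val_injective T X
  rw [Groth.Agent.Lib.Helper10.MagnetDom.whiskerRight_comp_eq_orbit (pN N) a φ₁ h₁,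
    Groth.Agent.Lib.Helper10.MagnetDom.whiskerRight_comp_eq_orbit (pN N) a φ₂ h₂, h]

theorem ext_precomp {T T' : Over S} (t : T' ⟶ T) (x : T ⟶ X)
    (ψ : AMonS S N ⊗ T ⟶ X) (h : (pN N ▷ T) ≫ ψ = (AMonS S M ◁ x) ≫ a.act) :
    (pN N ▷ T') ≫ (AMonS S N ◁ t) ≫ ψ = (AMonS S M ◁ (t ≫ x)) ≫ a.act := by
  rw [← whisker_exchange_assoc, h, MonoidalCategory.whiskerLeft_comp, Category.assoc]

/-- extension of a morphism to an affine scheme across a morphism injective on functions. -/
theorem exists_ext' {P' P Y : Scheme.{u}} (m : P' ⟶ P) (hinj : Function.Injective m.appTop.hom)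
    [IsAffine Y] (o : P' ⟶ Y)
    (h : ∀ b : Γ(Y, ⊤), o.appTop.hom b ∈ Set.range m.appTop.hom) :
    ∃ ψ : P ⟶ Y, m ≫ ψ = o := by
  let S' : Subring Γ(P', ⊤) := m.appTop.hom.range
  let e : Γ(P, ⊤) ≃+* S' := RingEquiv.ofBijective m.appTop.hom.rangeRestrict
    ⟨fun a b hab => hinj (congrArg Subtype.val hab), m.appTop.hom.rangeRestrict_surjective⟩
  let r : Γ(Y, ⊤) →+* Γ(P, ⊤) :=
    (e.symm : S' →+* Γ(P, ⊤)).comp (o.appTop.hom.codRestrict S' (fun b => h b))
  have hr : ∀ b, m.appTop.hom (r b) = o.appTop.hom b := by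
    intro b
    have h1 : (e (r b) : Γ(P', ⊤)) = m.appTop.hom (r b) := rfl
    rw [← h1]
    change ((e (e.symm (o.appTop.hom.codRestrict S' (fun b => h b) b)) : S') : Γ(P', ⊤)) = _
    rw [RingEquiv.apply_symm_apply]
    rfl
  have hr' : CommRingCat.ofHom r ≫ m.appTop = o.appTop := by
    ext b
    exact hr b
  refine ⟨P.toSpecΓ ≫ Spec.map (CommRingCat.ofHom r) ≫ Y.isoSpec.inv, ?_⟩
  rw [← Category.assoc, Scheme.toSpecΓ_naturality, Category.assoc, ← Category.assoc (Spec.map _),
    ← Spec.map_comp, hr', ← Category.assoc, ← Scheme.toSpecΓ_naturality, Category.assoc]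
  have : Y.toSpecΓ ≫ Y.isoSpec.inv = 𝟙 _ := Y.isoSpec.hom_inv_id
  rw [this, Category.comp_id]

/-- two morphisms landing in an affine open which agree after a morphism injective on functions
are equal. -/
theorem hom_eq_of_lands {P' P S' : Scheme.{u}} (m : P' ⟶ P)
    (hinj : Function.Injective m.appTop.hom) (W : S'.Opens) (hW : IsAffineOpen W)
    (u v : P ⟶ S') (hu : ∀ q, u q ∈ W) (hv : ∀ q, v q ∈ W) (h : m ≫ u = m ≫ v) : u = v := by
  haveI : IsAffine W.toScheme := hW
  have hru : Set.range u ⊆ Set.range W.ι := by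
    rw [Scheme.Opens.range_ι]
    rintro _ ⟨q, rfl⟩
    exact hu q
  have hrv : Set.range v ⊆ Set.range W.ι := by
    rw [Scheme.Opens.range_ι]
    rintro _ ⟨q, rfl⟩
    exact hv q
  let u' := IsOpenImmersion.lift W.ι u hru
  let v' := IsOpenImmersion.lift W.ι v hrv
  have hu' : u' ≫ W.ι = u := IsOpenImmersion.lift_fac _ _ _
  have hv' : v' ≫ W.ι = v := IsOpenImmersion.lift_fac _ _ _
  have h' : m ≫ u' = m ≫ v' := by
    rw [← cancel_mono W.ι, Category.assoc, Category.assoc, hu', hv', h]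
  have h2 : u' = v' := by
    apply ext_of_isAffine
    have h3 := congrArg Scheme.Hom.appTop h'
    rw [Scheme.Hom.comp_appTop, Scheme.Hom.comp_appTop] at h3
    ext b
    apply hinj
    exact congrArg (fun t => t.hom b) h3
  rw [← hu', ← hv', h2]

/-- the coaction on functions -/
noncomputable def coact [IsAffine X.left] :
    Γ(X.left, ⊤) →+* AA.{u} M ⊗[k₀.{u}] Γ(X.left, ⊤) :=
  ((RingEquiv.ofBijective (Θ M X) (Θ_bijective M X)).symm : _ →+* _).comp a.act.left.appTop.hom

theorem Θ_coact [IsAffine X.left] (b : Γ(X.left, ⊤)) :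
    Θ M X (coact a b) = appAlg a.act b :=
  (RingEquiv.ofBijective (Θ M X) (Θ_bijective M X)).apply_symm_apply _

/-- the index type of the basis -/
abbrev BIdx : Type u := MonAttrAlg.Idx.{u} (AddMonoidHom.toMultiplicative N.subtype)

theorem toMul_injective :
    Function.Injective (AddMonoidHom.toMultiplicative N.subtype) := fun _ _ h =>
  Subtype.val_injective h

/-- the basis of the cokernel of `ℤ[N] → ℤ[M]` -/
noncomputable def bas : Module.Basis (BIdx.{u} N) k₀.{u}
    (AA.{u} M ⧸ LinearMap.range (ιf.{u} N.subtype).toLinearMap) :=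
  MonAttrAlg.basis k₀.{u} (AddMonoidHom.toMultiplicative N.subtype) (toMul_injective N)

/-- the ideal of the attractor -/
noncomputable def attrIdeal [IsAffine X.left] : Ideal Γ(X.left, ⊤) :=
  AffAttrAlg.coeffIdeal (ιf.{u} N.subtype) (bas.{u} N) (coact a)

set_option backward.isDefEq.respectTransparency.types false in
set_option maxHeartbeats 1000000 in
/-- **affine criterion** for extending the orbit map of a point. -/
theorem ext_iff [IsAffine X.left] (W : S.Opens) (hW : IsAffineOpen W)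
    (hXW : ∀ p : X.left, X.hom p ∈ W)
    (T : Over S) [IsAffine T.left] (x : T ⟶ X) :
    (∃ ψ : AMonS S N ⊗ T ⟶ X, (pN N ▷ T) ≫ ψ = (AMonS S M ◁ x) ≫ a.act) ↔
      attrIdeal N a ≤ RingHom.ker x.left.appTop.hom := by
  have hinj := Groth.Agent.Lib.Helper10.MagnetDom.whiskerRight_appTop_injective S N.subtype
    Subtype.val_injective T
  have key : ∀ b, appAlg ((AMonS S M ◁ x) ≫ a.act) b =
      Θ M T (Algebra.TensorProduct.map (AlgHom.id k₀.{u} (AA.{u} M))
        (appAlg x) (coact a b)) := by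
    intro b
    rw [appAlg_comp, ← Θ_coact, Θ_whiskerLeft]
  have hk : RingHom.ker x.left.appTop.hom =
      RingHom.ker ((appAlg x : Γ(X.left, ⊤) →ₐ[k₀.{u}] Γ(T.left, ⊤)) :
        Γ(X.left, ⊤) →+* Γ(T.left, ⊤)) := rfl
  rw [hk, attrIdeal, ← AffAttrAlg.criterion]
  constructor
  · rintro ⟨ψ, hψ⟩ b
    obtain ⟨w, hw⟩ := (Θ_bijective N T).2 (appAlg ψ b)
    rw [AlgHom.mem_range]
    refine ⟨w, ?_⟩
    apply (Θ_bijective M T).1
    rw [← key, ← hψ, appAlg_comp, ← hw, Θ_whiskerRight]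
  · intro hb
    have hex : ∃ ψ₀ : (AMonS S N ⊗ T).left ⟶ X.left,
        (pN N ▷ T).left ≫ ψ₀ = ((AMonS S M ◁ x) ≫ a.act).left := by
      apply exists_ext' _ hinj
      intro b
      obtain ⟨w, hw⟩ := (AlgHom.mem_range _).1 (hb b)
      refine ⟨Θ N T w, ?_⟩
      change appAlg (pN N ▷ T) (Θ N T w) = appAlg ((AMonS S M ◁ x) ≫ a.act) b
      rw [key, Θ_whiskerRight, ← hw]
    obtain ⟨ψ₀, hψ₀⟩ := hex
    have hw : ψ₀ ≫ X.hom = (AMonS S N ⊗ T).hom := by
      apply hom_eq_of_lands _ hinj W hW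
      · intro q
        rw [Scheme.Hom.comp_apply]
        exact hXW _
      · intro q
        have h2 : (AMonS S N ⊗ T).hom = (snd (AMonS S N) T ≫ x).left ≫ X.hom := (Over.w _).symm
        rw [h2, Scheme.Hom.comp_apply]
        exact hXW _
      · rw [← Category.assoc, hψ₀, Over.w, Over.w]
    exact ⟨Over.homMk ψ₀ hw, Over.OverMorphism.ext hψ₀⟩

set_option backward.isDefEq.respectTransparency.types false in
set_option maxHeartbeats 2000000 in
/-- **core of S18295**: the attractor of an affine scheme lying over an affine open of the base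
is a closed subscheme. -/
theorem exists_rep_affine [IsAffine X.left] (W : S.Opens) (hW : IsAffineOpen W)
    (hXW : ∀ p : X.left, X.hom p ∈ W) :
    ∃ (Z : Over S) (j : Z ⟶ X) (e : (Magnet.attr a N).RepresentableBy Z),
      IsClosedImmersion j.left ∧
      ∀ (T : Over S) (z : T ⟶ Z), (Magnet.attrToX a N).app (op T) (e.homEquiv z) = z ≫ j := by
  haveI : IsSeparated X.hom := inferInstance
  let J : Ideal Γ(X.left, ⊤) := attrIdeal N a
  let ι₀ : (Scheme.IdealSheafData.ofIdealTop J).subscheme ⟶ X.left :=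
    (Scheme.IdealSheafData.ofIdealTop J).subschemeι
  let Z : Over S := Over.mk (ι₀ ≫ X.hom)
  let j : Z ⟶ X := Over.homMk ι₀ rfl
  haveI hci : IsClosedImmersion j.left := (inferInstance : IsClosedImmersion ι₀)
  haveI : IsAffine Z.left := isAffine_of_isAffineHom j.left
  haveI : Mono j := SchDomFactor.mono_of_closedImmersion j
  haveI : Mono ι₀ := inferInstance
  have hZ : J ≤ RingHom.ker j.left.appTop.hom :=
    (Groth.Agent.Lib.Helper10.WeilClosed.exists_fac_subschemeι_iff J ι₀).1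
      ⟨𝟙 _, Category.id_comp _⟩
  obtain ⟨ψu, hψu⟩ := (ext_iff N a W hW hXW Z j).2 hZ
  have hψu_eq := equivariant_of_restrict N a Z j ψu hψu
  have hψu_unit := unit_of_restrict N a Z j ψu hψu
  have hunit : ∀ (T : Over S) (z : T ⟶ Z),
      lift (toUnit T ≫ η[AMonS S N]) (𝟙 T) ≫ (AMonS S N ◁ z) ≫ ψu = z ≫ j := by
    intro T z
    rw [lift_whiskerLeft_assoc, Category.id_comp, ← hψu_unit, ← Category.assoc z, comp_lift,
      Category.comp_id, ← Category.assoc, toUnit_unique (z ≫ toUnit Z) (toUnit T)]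
  have hfac : ∀ (T : Over S) (φ : AMonS S N ⊗ T ⟶ X)
      (_ : Magnet.MonAct.IsEquivariant
        ((Magnet.subAct S M N).prod (Magnet.MonAct.trivial (AMonS S M) T)) a φ),
      ∃ z : T ⟶ Z, z ≫ j = lift (toUnit T ≫ η[AMonS S N]) (𝟙 T) ≫ φ := by
    intro T φ hφ
    have hx := Groth.Agent.Lib.Helper10.MagnetDom.whiskerRight_comp_eq_orbit (pN N) a φ hφ
    have hloc : ∀ κ : T.left.affineCover.I₀, ∃ g' : T.left.affineCover.X κ ⟶
        (Scheme.IdealSheafData.ofIdealTop J).subscheme,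
        g' ≫ ι₀ = T.left.affineCover.f κ ≫
          (lift (toUnit T ≫ η[AMonS S N]) (𝟙 T) ≫ φ).left := by
      intro κ
      let Tκ : Over S := Over.mk (T.left.affineCover.f κ ≫ T.hom)
      let tκ : Tκ ⟶ T := Over.homMk (T.left.affineCover.f κ) rfl
      haveI : IsAffine Tκ.left := (inferInstance : IsAffine (T.left.affineCover.X κ))
      have h1 := ext_precomp N a tκ _ φ hx
      have h2 := (ext_iff N a W hW hXW Tκ
        (tκ ≫ lift (toUnit T ≫ η[AMonS S N]) (𝟙 T) ≫ φ)).1 ⟨_, h1⟩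
      exact (Groth.Agent.Lib.Helper10.WeilClosed.exists_fac_subschemeι_iff J _).2 h2
    obtain ⟨w, hw⟩ := Groth.Agent.Lib.Helper10.ClosedSubF.exists_lift_of_mono T.left.affineCover ι₀
      (lift (toUnit T ≫ η[AMonS S N]) (𝟙 T) ≫ φ).left (fun κ => (hloc κ).choose)
      (fun κ => (hloc κ).choose_spec)
    refine ⟨Over.homMk w ?_, Over.OverMorphism.ext hw⟩
    change w ≫ ι₀ ≫ X.hom = T.hom
    rw [← Category.assoc, hw, Over.w]
  let D := Magnet.attr a N
  let φu : D.obj (op Z) := ⟨ψu, hψu_eq⟩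
  let hE : ∀ {T : Over S}, (T ⟶ Z) ≃ D.obj (op T) := fun {T} =>
    { toFun := fun z => D.map z.op φu
      invFun := fun φ => (hfac T φ.1 φ.2).choose
      left_inv := fun z => by
        have h1 := (hfac T (D.map z.op φu).1 (D.map z.op φu).2).choose_spec
        rw [← cancel_mono j]
        exact h1.trans (hunit T z)
      right_inv := fun φ => by
        apply Subtype.ext
        apply eq_of_evalAt_eq N a T _ _ (D.map _ φu).2 φ.2
        rw [← (hfac T φ.1 φ.2).choose_spec]
        exact hunit T _ }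
  refine ⟨Z, j, ⟨hE, ?_⟩, hci, ?_⟩
  · intro T T' f g
    change D.map (f ≫ g).op φu = D.map f.op (D.map g.op φu)
    rw [op_comp, Functor.map_comp]
    rfl
  · intro T z
    exact hunit T z

end Groth.Agent.Lib.Helper29.MonAttr
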