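import Groth.Agent.Lib.Helper29.MonAttr2
import Groth.Agent.Lib.Helper10.ZarRep2

/-! Gluing the attractor of a relatively affine scheme (S18295, helper29). -/

set_option autoImplicit false
universe u
open CategoryTheory CategoryTheory.Limits MonoidalCategory CartesianMonoidalCategory MonObj
  AlgebraicGeometry Opposite
open Magnet

namespace Groth.Agent.Lib.Helper29.MonAttr

open Groth.Agent.Lib.Helper10.ZarRep Groth.Agent.Lib.Helper10
open Groth.Agent.Lib.Helper29.AttrGlue (UO jU)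

variable {S : Scheme.{u}} {M : Type} [AddCommMonoid M] (N : AddSubmonoid M) {X : Over S}
  (a : Magnet.MonAct (AMonS S M) X)

/-- evaluation at the unit section -/
noncomputable def ev {T : Scheme.{u}} (x : OverRep.El (Magnet.attr a N) T) : Over.mk x.1 ⟶ X :=
  lift (toUnit (Over.mk x.1) ≫ η[AMonS S N]) (𝟙 (Over.mk x.1)) ≫ x.2.1

theorem ev_nat (T T' : Over S) (f : T' ⟶ T) (φ : (Magnet.attr a N).obj (op T)) :
    lift (toUnit T' ≫ η[AMonS S N]) (𝟙 T') ≫ ((Magnet.attr a N).map f.op φ).1 =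
      f ≫ lift (toUnit T ≫ η[AMonS S N]) (𝟙 T) ≫ φ.1 := by
  change lift (toUnit T' ≫ η[AMonS S N]) (𝟙 T') ≫ (AMonS S N ◁ f) ≫ φ.1 = _
  rw [lift_whiskerLeft_assoc, Category.id_comp, ← Category.assoc f, comp_lift, Category.comp_id,
    ← Category.assoc, toUnit_unique (f ≫ toUnit T) (toUnit T')]

/-- the attractor as a functor over `X` -/
noncomputable def GX : SFun X.left where
  F := (OverRep.sfun (Magnet.attr a N)).F
  str := fun {T} x => (ev N a x).left
  str_map := fun {T T'} g x => by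
    change (ev N a (OverRep.elMap g x)).left = g ≫ (ev N a x).left
    have h := ev_nat N a (Over.mk x.1) (Over.mk (g ≫ x.1)) (Over.homMk g rfl) x.2
    exact congrArg (fun t => t.left) h

theorem GX_isSheaf : (GX N a).IsSheaf where
  sep := fun 𝒰 x y h => (MonGlue.sfun_isSheaf (Magnet.subAct S M N) a).sep 𝒰 x y h
  glue := fun 𝒰 x hx => (MonGlue.sfun_isSheaf (Magnet.subAct S M N) a).glue 𝒰 x hx

set_option backward.isDefEq.respectTransparency.types false in
set_option maxHeartbeats 2000000 in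
theorem repOn_chart [IsAffineHom X.hom] (W : S.Opens) (hW : IsAffineOpen W) :
    ∃ (M' : Scheme.{u}) (ξ' : (GX N a).F.obj (op M')) (m : M' ⟶ (X.hom ⁻¹ᵁ W).toScheme),
      (GX N a).RepOn (X.hom ⁻¹ᵁ W) M' ξ' ∧ m ≫ (X.hom ⁻¹ᵁ W).ι = (GX N a).str ξ' ∧
      IsClosedImmersion m := by
  let V : X.left.Opens := X.hom ⁻¹ᵁ W
  have hVaff : IsAffineOpen V := hW.preimage X.hom
  have hV : (CartesianMonoidalCategory.snd (AMonS S M) X).left ⁻¹ᵁ V ≤ a.act.left ⁻¹ᵁ V := by
    intro q hq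
    change X.hom (a.act.left q) ∈ W
    have h1 : a.act.left ≫ X.hom = (CartesianMonoidalCategory.snd (AMonS S M) X).left ≫ X.hom := by
      rw [Over.w, Over.w]
    rw [← Scheme.Hom.comp_apply, h1, Scheme.Hom.comp_apply]
    exact hq
  let aV : Magnet.MonAct (AMonS S M) (UO X V) := MonGlue.aU a V hV
  haveI : IsAffine (UO X V).left := hVaff
  have hXW : ∀ p : (UO X V).left, (UO X V).hom p ∈ W := fun p => by
    change (V.ι ≫ X.hom) p ∈ W
    rw [Scheme.Hom.comp_apply]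
    exact p.2
  obtain ⟨Z, i, e, hi, hcompat⟩ := exists_rep_affine N aV W hW hXW
  let D : (Over S)ᵒᵖ ⥤ Type u := Magnet.attr a N
  let gam : ∀ (T : Over S), (T ⟶ Z) → D.obj (op T) :=
    fun T z => ⟨(e.homEquiv z).1 ≫ jU X V,
      (e.homEquiv z).2.comp (MonGlue.jU_equivariant a V hV)⟩
  have hgam_nat : ∀ (T T' : Over S) (f : T' ⟶ T) (z : T ⟶ Z),
      gam T' (f ≫ z) = D.map f.op (gam T z) := by
    intro T T' f z
    apply Subtype.ext
    change (e.homEquiv (f ≫ z)).1 ≫ jU X V = (AMonS S N ◁ f) ≫ (e.homEquiv z).1 ≫ jU X V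
    rw [e.homEquiv_comp f z]
    exact Category.assoc _ _ _
  have hgam_inj : ∀ (T : Over S) (z z' : T ⟶ Z), gam T z = gam T z' → z = z' := by
    intro T z z' h
    apply e.homEquiv.injective
    apply Subtype.ext
    have h1 : (e.homEquiv z).1 ≫ jU X V = (e.homEquiv z').1 ≫ jU X V :=
      congrArg Subtype.val h
    exact (cancel_mono (jU X V)).mp h1
  let xi : OverRep.El D Z.left := ⟨Z.hom, gam Z (𝟙 _)⟩
  have hxi : ∀ (T : Over S) (z : T ⟶ Z),
      (OverRep.sfun D).pull z.left xi = (⟨T.hom, gam T z⟩ : OverRep.El D T.left) := by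
    intro T z
    have h1 := OverRep.pull_left (D := D) (T := T) (M₀ := Z.hom) (gam Z (𝟙 _)) z
    rw [← hgam_nat Z T z (𝟙 _), Category.comp_id] at h1
    exact h1
  have hstr : i.left ≫ V.ι = (GX N a).str xi := by
    change i.left ≫ V.ι = (lift (toUnit Z ≫ η[AMonS S N]) (𝟙 Z) ≫
      (e.homEquiv (𝟙 Z)).1 ≫ jU X V).left
    have h1 := hcompat Z (𝟙 Z)
    change lift (toUnit Z ≫ η[AMonS S N]) (𝟙 Z) ≫ (e.homEquiv (𝟙 Z)).1 = 𝟙 Z ≫ i at h1
    rw [← Category.assoc, h1, Category.id_comp]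
    rfl
  have hmono : ∀ (T : Scheme.{u}) (v v' : T ⟶ Z.left),
      (OverRep.sfun D).pull v xi = (OverRep.sfun D).pull v' xi → v = v' := by
    intro T v v' h
    let z : Over.mk (v ≫ Z.hom) ⟶ Z := Over.homMk v rfl
    let z' : Over.mk (v' ≫ Z.hom) ⟶ Z := Over.homMk v' rfl
    have e1 := hxi _ z
    have e2 := hxi _ z'
    have h' : (⟨v ≫ Z.hom, gam _ z⟩ : OverRep.El D T) = ⟨v' ≫ Z.hom, gam _ z'⟩ :=
      e1.symm.trans (h.trans e2)
    obtain ⟨h1, h2⟩ := OverRep.El.ext_iff' _ _ h'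
    rw [← hgam_nat] at h2
    have h3 := hgam_inj _ _ _ h2
    have h4 := congrArg (fun f => f.left) h3
    simpa [OverRep.castHom, z, z'] using h4
  refine ⟨Z.left, xi, i.left, ⟨?_, ?_⟩, hstr, hi⟩
  · exact SFun.lands_of_fac V.ι (by rw [Scheme.Opens.range_ι]) i.left hstr
  · intro T x hx
    let To : Over S := Over.mk x.1
    let φ : D.obj (op To) := x.2
    have hev : ∀ y : T, (ev N a x).left y ∈ V := hx
    have hr : Set.range φ.1.left ⊆ Set.range V.ι := by
      rw [Scheme.Opens.range_ι]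
      rintro _ ⟨q, rfl⟩
      change X.hom (φ.1.left q) ∈ W
      have h1 : φ.1.left ≫ X.hom =
          (CartesianMonoidalCategory.snd (AMonS S N) To ≫ ev N a x).left ≫ X.hom := by
        rw [Over.w, Over.w]
      rw [← Scheme.Hom.comp_apply, h1, Scheme.Hom.comp_apply, Over.comp_left,
        Scheme.Hom.comp_apply]
      exact hev _
    let cl : (AMonS S N ⊗ To).left ⟶ (UO X V).left :=
      IsOpenImmersion.lift (jU X V).left φ.1.left hr
    have hcl : cl ≫ (jU X V).left = φ.1.left := IsOpenImmersion.lift_fac _ _ _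
    let φ₀ : AMonS S N ⊗ To ⟶ UO X V := Over.homMk cl (by
      rw [← Over.w (jU X V), ← Category.assoc, hcl, Over.w])
    have hφ₀ : φ₀ ≫ jU X V = φ.1 := Over.OverMorphism.ext hcl
    have hφ₀e : Magnet.MonAct.IsEquivariant
        ((Magnet.subAct S M N).prod (Magnet.MonAct.trivial (AMonS S M) To)) aV φ₀ := by
      have h := φ.2
      unfold Magnet.MonAct.IsEquivariant at h ⊢
      rw [← cancel_mono (jU X V), Category.assoc, hφ₀, h, Category.assoc]
      change _ = (AMonS S M ◁ φ₀) ≫ MonGlue.actU a V hV ≫ jU X V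
      rw [MonGlue.actU_comp, ← Category.assoc, ← MonoidalCategory.whiskerLeft_comp, hφ₀]
    let zz : To ⟶ Z := e.homEquiv.symm ⟨φ₀, hφ₀e⟩
    have h5 : gam To zz = φ := by
      apply Subtype.ext
      change (e.homEquiv (e.homEquiv.symm ⟨φ₀, hφ₀e⟩)).1 ≫ jU X V = φ.1
      rw [Equiv.apply_symm_apply]
      exact hφ₀
    refine ⟨zz.left, ?_, ?_⟩
    · change (OverRep.sfun D).pull zz.left xi = x
      rw [hxi To zz, h5]
      rfl
    · intro v' hv'
      apply hmono
      change (OverRep.sfun D).pull v' xi = (OverRep.sfun D).pull zz.left xi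
      rw [hxi To zz, h5]
      exact hv'

/-- from `SFun` representability to representability on `Over S`, with explicit bijection. -/
theorem representableBy_of_rep' {D : (Over S)ᵒᵖ ⥤ Type u} {M₀ : Scheme.{u}}
    {ξ₀ : OverRep.El D M₀} (h : (OverRep.sfun D).Rep M₀ ξ₀) :
    ∃ e : D.RepresentableBy (Over.mk ξ₀.1),
      ∀ (T : Over S) (z : T ⟶ Over.mk ξ₀.1), e.homEquiv z = D.map z.op ξ₀.2 := by
  obtain ⟨s₀, x₀⟩ := ξ₀
  have hinj : ∀ (T : Over S) (z z' : T ⟶ Over.mk s₀), D.map z.op x₀ = D.map z'.op x₀ → z = z' := by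
    intro T z z' hz
    apply Over.OverMorphism.ext
    refine (h T.left ⟨T.hom, D.map z.op x₀⟩).unique (OverRep.pull_left x₀ z) ?_
    rw [OverRep.pull_left x₀ z', hz]
  have hsurj : ∀ (T : Over S) (y : D.obj (op T)), ∃ z : T ⟶ Over.mk s₀, D.map z.op x₀ = y := by
    intro T y
    obtain ⟨v, hv, -⟩ := h T.left ⟨T.hom, y⟩
    have h1 : v ≫ s₀ = T.hom := congrArg Sigma.fst hv
    refine ⟨Over.homMk v h1, ?_⟩
    have h2 := OverRep.pull_left x₀ (Over.homMk v h1 : T ⟶ Over.mk s₀)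
    have h3 : (OverRep.sfun D).pull (Over.homMk v h1 : T ⟶ Over.mk s₀).left
        (⟨s₀, x₀⟩ : OverRep.El D M₀) = (OverRep.sfun D).pull v (⟨s₀, x₀⟩ : OverRep.El D M₀) := rfl
    rw [h3, hv] at h2
    exact (eq_of_heq (Sigma.mk.inj h2).2).symm
  refine ⟨{ homEquiv := fun {T} => Equiv.ofBijective (fun z => D.map z.op x₀)
              ⟨fun z z' hz => hinj T z z' hz, fun y => hsurj T y⟩
            homEquiv_comp := ?_ }, fun T z => rfl⟩
  intro T T' f g
  change D.map (f ≫ g).op x₀ = D.map f.op (D.map g.op x₀)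
  exact OverRep.map_op_comp f g x₀

set_option backward.isDefEq.respectTransparency.types false in
set_option maxHeartbeats 1000000 in
/-- **S18295**: the attractor of a relatively affine scheme is a closed subscheme. -/
theorem exists_rep_closed [IsAffineHom X.hom] :
    ∃ (Z : Over S) (i : Z ⟶ X) (e : (Magnet.attr a N).RepresentableBy Z),
      IsClosedImmersion i.left ∧
      ∀ (T : Over S) (z : T ⟶ Z), (Magnet.attrToX a N).app (op T) (e.homEquiv z) = z ≫ i := by
  have hloc : ∀ p : X.left, ∃ (V : X.left.Opens) (M' : Scheme.{u})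
      (ξ' : (GX N a).F.obj (op M')) (m : M' ⟶ V.toScheme), p ∈ V ∧ (GX N a).RepOn V M' ξ' ∧
      m ≫ V.ι = (GX N a).str ξ' ∧ IsClosedImmersion m := by
    intro p
    obtain ⟨W, hW, hpW⟩ : ∃ W : S.Opens, IsAffineOpen W ∧ X.hom p ∈ W := by
      obtain ⟨_, ⟨W, hW, rfl⟩, hpW, -⟩ :=
        S.isBasis_affineOpens.exists_subset_of_mem_open (Set.mem_univ (X.hom p)) isOpen_univ
      exact ⟨W, hW, hpW⟩
    obtain ⟨M', ξ', m, h1, h2, h3⟩ := repOn_chart N a W hW
    exact ⟨X.hom ⁻¹ᵁ W, M', ξ', m, hpW, h1, h2, h3⟩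
  have hcov : ∀ s : X.left, ∃ V : X.left.Opens, s ∈ V ∧ Good (GX N a) V := fun p => by
    obtain ⟨V, M', ξ', m, hp, h1, -, -⟩ := hloc p
    exact ⟨V, hp, M', ξ', h1⟩
  obtain ⟨M₀, ξ₀, hrep⟩ := exists_rep (GX N a) (GX_isSheaf N a) hcov
  have hcl : IsClosedImmersion ((GX N a).str ξ₀) :=
    Rep.property_of_local @IsClosedImmersion hrep hloc
  obtain ⟨e, he⟩ := representableBy_of_rep' (D := Magnet.attr a N) (ξ₀ := ξ₀) hrep
  refine ⟨Over.mk ξ₀.1, ev N a ξ₀, e, hcl, ?_⟩
  intro T z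
  rw [he T z]
  exact ev_nat N a _ T z ξ₀.2

end Groth.Agent.Lib.Helper29.MonAttr
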