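import Groth.Agent.Lib.Helper29.AffAttrAlg
import Groth.Agent.Lib.Helper29.MonAttrAlg

/-! Coefficient functionals on `k[G] ⊗ C` and the coassociativity extraction (helper29). -/

set_option autoImplicit false
universe u
open TensorProduct

namespace Groth.Agent.Lib.Helper29.MonAttrAlg

variable (k : Type u) [CommRing k] {G : Type} [CommMonoid G]

/-- the `m`-th coefficient -/
noncomputable def coeffAt (m : G) : MonoidAlgebra k G →ₗ[k] k :=
  (Finsupp.lapply m) ∘ₗ (MonoidAlgebra.coeffLinearEquiv k).toLinearMap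

theorem coeffAt_apply (m : G) (x : MonoidAlgebra k G) : coeffAt k m x = x.coeff m := rfl

/-- the `m`-th coefficient of an element of `k[G] ⊗ C` -/
noncomputable def cf (m : G) (C : Type u) [AddCommGroup C] [Module k C] :
    MonoidAlgebra k G ⊗[k] C →ₗ[k] C :=
  (TensorProduct.lid k C).toLinearMap ∘ₗ LinearMap.rTensor C (coeffAt k m)

theorem cf_tmul (m : G) (C : Type u) [AddCommGroup C] [Module k C] (x : MonoidAlgebra k G)
    (c : C) : cf k m C (x ⊗ₜ c) = x.coeff m • c := by
  simp [cf, coeffAt_apply]

theorem cf_natural (m : G) {C D : Type u} [CommRing C] [Algebra k C] [CommRing D] [Algebra k D]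
    (g : C →ₐ[k] D) (y : MonoidAlgebra k G ⊗[k] C) :
    cf k m D (Algebra.TensorProduct.map (AlgHom.id k (MonoidAlgebra k G)) g y) =
      g (cf k m C y) := by
  induction y using TensorProduct.induction_on with
  | zero => simp
  | tmul x c =>
    rw [Algebra.TensorProduct.map_tmul, cf_tmul, cf_tmul]
    simp
  | add y z hy hz => simp only [map_add, hy, hz]

theorem coe_eq_cf {N : Type} [CommMonoid N] (g : N →* G) (hg : Function.Injective g) (e : Idx.{u} g)
    (C : Type u) [CommRing C] [Algebra k C] (y : MonoidAlgebra k G ⊗[k] C) :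
    AffAttrAlg.coe (ιg k g) (basis k g hg) e C y = cf k e.down.1 C y := by
  induction y using TensorProduct.induction_on with
  | zero => simp
  | tmul x c => rw [AffAttrAlg.coe_tmul, cf_tmul, basis_coord]
  | add y z hy hz => simp only [map_add, hy, hz]

/-- the map `(id ⊗ θ) ∘ assoc ∘ (Δ ⊗ id)` -/
noncomputable def R₂ {C E : Type u} [AddCommGroup C] [Module k C] [AddCommGroup E] [Module k E]
    (θ : MonoidAlgebra k G ⊗[k] C →ₗ[k] E) :
    MonoidAlgebra k G ⊗[k] C →ₗ[k] MonoidAlgebra k G ⊗[k] E :=
  (LinearMap.lTensor (MonoidAlgebra k G) θ) ∘ₗ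
    (TensorProduct.assoc k (MonoidAlgebra k G) (MonoidAlgebra k G) C).toLinearMap ∘ₗ
    (LinearMap.rTensor C (Coalgebra.comul (R := k) (A := MonoidAlgebra k G)))

theorem R₂_single_tmul {C E : Type u} [AddCommGroup C] [Module k C] [AddCommGroup E] [Module k E]
    (θ : MonoidAlgebra k G ⊗[k] C →ₗ[k] E) (m : G) (r : k) (c : C) :
    R₂ k θ (MonoidAlgebra.single m r ⊗ₜ c) =
      MonoidAlgebra.single m 1 ⊗ₜ θ (MonoidAlgebra.single m r ⊗ₜ c) := by
  simp [R₂, MonoidAlgebra.comul_single]

theorem cf_R₂ {C E : Type u} [AddCommGroup C] [Module k C] [AddCommGroup E] [Module k E]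
    (θ : MonoidAlgebra k G ⊗[k] C →ₗ[k] E) (m : G) (w : MonoidAlgebra k G ⊗[k] C) :
    cf k m E (R₂ k θ w) = θ (MonoidAlgebra.single m 1 ⊗ₜ cf k m C w) := by
  classical
  induction w using TensorProduct.induction_on with
  | zero => simp
  | tmul x c =>
    induction x using MonoidAlgebra.induction_linear with
    | zero => simp
    | add x y hx hy =>
      rw [TensorProduct.add_tmul, map_add, map_add, hx, hy, map_add, TensorProduct.tmul_add,
        map_add]
    | single m' r =>
      rw [R₂_single_tmul, cf_tmul, cf_tmul, MonoidAlgebra.coeff_single, MonoidAlgebra.coeff_single,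
        Finsupp.single_apply, Finsupp.single_apply]
      by_cases h : m' = m
      · subst h
        rw [if_pos rfl, if_pos rfl, one_smul, ← TensorProduct.smul_tmul, MonoidAlgebra.smul_single,
          smul_eq_mul, mul_one]
      · rw [if_neg h, if_neg h, zero_smul, zero_smul, TensorProduct.tmul_zero, map_zero]
  | add y z hy hz =>
    rw [map_add, map_add, hy, hz, map_add, TensorProduct.tmul_add, map_add]

end Groth.Agent.Lib.Helper29.MonAttrAlg
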