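import Groth.Agent.Lib.Helper29.MonAttr2
import Groth.Agent.Lib.Helper29.MonAttrAlg2
import Groth.Agent.Lib.Helper10.AMonPts

/-! Homogeneity of the coefficients of the coaction, and comparison of attractor ideals under
change of monoid (S18287, helper29). -/

set_option autoImplicit false
universe u
open CategoryTheory CategoryTheory.Limits MonoidalCategory CartesianMonoidalCategory MonObj
  AlgebraicGeometry Opposite
open TensorProduct
open Magnet

namespace Groth.Agent.Lib.Helper29.MonAttr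

attribute [local instance] algΓ

open Groth.Agent.Lib.Helper10.AMonPts

variable {S : Scheme.{u}} {M : Type} [AddCommMonoid M] {X : Over S}
  (a : Magnet.MonAct (AMonS S M) X)

theorem chi_single (P : Type) [AddCommMonoid P] (T : Over S) (m : P) :
    chi P T (MonoidAlgebra.single (Multiplicative.ofAdd m) 1) =
      amFn m (fst (AMonS S P) T) := rfl

theorem appAlg_chi_single (P : Type) [AddCommMonoid P] {T T' : Over S}
    (g : T' ⟶ AMonS S P ⊗ T) (m : P) :
    appAlg g (chi P T (MonoidAlgebra.single (Multiplicative.ofAdd m) 1)) =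
      amFn m (g ≫ fst (AMonS S P) T) := by
  rw [chi_single, amFn_comp]
  rfl

/-- the point `(g, (h, x)) ↦ (g h, x)` -/
noncomputable def mulPt (X : Over S) :
    AMonS S M ⊗ (AMonS S M ⊗ X) ⟶ AMonS S M ⊗ X :=
  lift (fst (AMonS S M) (AMonS S M ⊗ X) * (snd (AMonS S M) (AMonS S M ⊗ X) ≫ fst (AMonS S M) X))
    (snd (AMonS S M) (AMonS S M ⊗ X) ≫ snd (AMonS S M) X)

set_option backward.isDefEq.respectTransparency.types false in
set_option maxHeartbeats 1000000 in
theorem appAlg_mulPt_single (m : M) (c : Γ(X.left, ⊤)) :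
    appAlg (mulPt (M := M) X)
        (Θ M X ((MonoidAlgebra.single (Multiplicative.ofAdd m) 1 : AA.{u} M) ⊗ₜ[k₀.{u}] c)) =
      Θ M (AMonS S M ⊗ X) ((MonoidAlgebra.single (Multiplicative.ofAdd m) 1 : AA.{u} M) ⊗ₜ[k₀.{u}]
        ((Θ M X).toLinearMap
          ((MonoidAlgebra.single (Multiplicative.ofAdd m) 1 : AA.{u} M) ⊗ₜ[k₀.{u}] c))) := by
  change appAlg (mulPt X) (Θ M X (MonoidAlgebra.single (Multiplicative.ofAdd m) 1 ⊗ₜ c)) =
    Θ M (AMonS S M ⊗ X) (MonoidAlgebra.single (Multiplicative.ofAdd m) 1 ⊗ₜ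
      (Θ M X (MonoidAlgebra.single (Multiplicative.ofAdd m) 1 ⊗ₜ c)))
  rw [Θ_tmul, Θ_tmul, map_mul, map_mul, appAlg_chi_single, ← appAlg_comp, chi_single,
    chi_single]
  have e1 : mulPt (M := M) X ≫ fst (AMonS S M) X =
      fst (AMonS S M) (AMonS S M ⊗ X) *
        (snd (AMonS S M) (AMonS S M ⊗ X) ≫ fst (AMonS S M) X) := lift_fst _ _
  have e2 : mulPt (M := M) X ≫ snd (AMonS S M) X =
      snd (AMonS S M) (AMonS S M ⊗ X) ≫ snd (AMonS S M) X := lift_snd _ _
  rw [e1, e2, amFn_mul, amFn_comp, appAlg_comp, _root_.mul_assoc]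
  rfl

set_option backward.isDefEq.respectTransparency.types false in
set_option maxHeartbeats 1000000 in
theorem appAlg_mulPt (w : AA.{u} M ⊗[k₀.{u}] Γ(X.left, ⊤)) :
    appAlg (mulPt (M := M) X) (Θ M X w) =
      Θ M (AMonS S M ⊗ X) (MonAttrAlg.R₂ k₀.{u} (Θ M X).toLinearMap w) := by
  induction w using TensorProduct.induction_on with
  | zero => simp
  | tmul x c =>
    induction x using MonoidAlgebra.induction_linear with
    | zero => simp
    | add x y hx hy =>
      rw [TensorProduct.add_tmul, map_add, map_add, hx, hy, map_add, map_add]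
    | single m' r =>
      have h0 : (MonoidAlgebra.single m' r : AA.{u} M) ⊗ₜ[k₀.{u}] c =
          (MonoidAlgebra.single m' 1 : AA.{u} M) ⊗ₜ[k₀.{u}] (r • c) := by
        rw [← TensorProduct.smul_tmul, MonoidAlgebra.smul_single, smul_eq_mul, _root_.mul_one]
      rw [h0, MonAttrAlg.R₂_single_tmul]
      exact appAlg_mulPt_single m'.toAdd (r • c)
  | add y z hy hz => rw [map_add, map_add, hy, hz, map_add, map_add]

set_option backward.isDefEq.respectTransparency.types false in
set_option maxHeartbeats 1000000 in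
/-- **homogeneity**: the `m`-th coefficient of the coaction is homogeneous of degree `m`. -/
theorem homog [IsAffine X.left] (b : Γ(X.left, ⊤)) (m : Multiplicative M) :
    coact a (MonAttrAlg.cf k₀.{u} m Γ(X.left, ⊤) (coact a b)) =
      (MonoidAlgebra.single m 1 : AA.{u} M) ⊗ₜ[k₀.{u}]
        MonAttrAlg.cf k₀.{u} m Γ(X.left, ⊤) (coact a b) := by
  haveI : IsAffine (AMonS S M ⊗ X).left := by
    change IsAffine (pullback (AMonS S M).hom X.hom)
    infer_instance
  have hu : (AMonS S M ◁ a.act) ≫ a.act = mulPt (M := M) X ≫ a.act := by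
    apply Magnet.hom_ext_lift₂
    intro T g z
    obtain ⟨h, x, rfl⟩ : ∃ (h : T ⟶ AMonS S M) (x : T ⟶ X), z = lift h x :=
      ⟨z ≫ fst _ _, z ≫ snd _ _, (lift_comp_fst_snd z).symm⟩
    rw [lift_whiskerLeft_assoc]
    change _ = lift g (lift h x) ≫ lift _ _ ≫ a.act
    rw [← Category.assoc (lift g (lift h x)), comp_lift, MonObj.comp_mul, lift_fst,
      lift_snd_assoc, lift_fst, lift_snd_assoc, lift_snd]
    exact (a.lift_mul_act g h x).symm
  have h1 : Θ M (AMonS S M ⊗ X) (Algebra.TensorProduct.map (AlgHom.id k₀.{u} (AA.{u} M))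
      (appAlg a.act) (coact a b)) =
      Θ M (AMonS S M ⊗ X) (MonAttrAlg.R₂ k₀.{u} (Θ M X).toLinearMap (coact a b)) := by
    rw [← Θ_whiskerLeft, Θ_coact, ← appAlg_comp, hu, appAlg_comp, ← Θ_coact, appAlg_mulPt]
  have h2 := (Θ_bijective M (AMonS S M ⊗ X)).1 h1
  have h3 := congrArg (MonAttrAlg.cf k₀.{u} m Γ((AMonS S M ⊗ X).left, ⊤)) h2
  rw [MonAttrAlg.cf_natural, MonAttrAlg.cf_R₂, ← Θ_coact] at h3
  exact (Θ_bijective M X).1 h3

set_option backward.isDefEq.respectTransparency.types false in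
/-- the coaction of the action restricted along `A(Z) ⟶ A(M)`. -/
theorem coact_restrict {Z : Type} [AddCommMonoid Z] (f : M →+ Z) [IsAffine X.left]
    (β : Γ(X.left, ⊤)) :
    coact (a.restrict (AMonS.map S f)) β =
      Algebra.TensorProduct.map (ιf f) (AlgHom.id k₀.{u} Γ(X.left, ⊤)) (coact a β) := by
  apply (Θ_bijective Z X).1
  rw [Θ_coact, ← Θ_whiskerRight, Θ_coact, ← appAlg_comp]
  rfl

set_option backward.isDefEq.respectTransparency.types false in
set_option maxHeartbeats 1000000 in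
/-- **comparison of the attractor ideals** under change of monoid. -/
theorem attrIdeal_comap_le {Z : Type} [AddCommMonoid Z] (f : M →+ Z) (Y : AddSubmonoid Z)
    [IsAffine X.left] :
    attrIdeal (Y.comap f) a ≤ attrIdeal Y (a.restrict (AMonS.map S f)) := by
  unfold attrIdeal AffAttrAlg.coeffIdeal
  rw [Ideal.span_le]
  rintro c ⟨β, e, rfl⟩
  have hc : AffAttrAlg.coe (ιf.{u} (Y.comap f).subtype) (bas.{u} (Y.comap f)) e Γ(X.left, ⊤)
      (coact a β) = MonAttrAlg.cf k₀.{u} e.down.1 Γ(X.left, ⊤) (coact a β) :=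
    MonAttrAlg.coe_eq_cf k₀.{u} _ (toMul_injective (Y.comap f)) e _ _
  rw [hc]
  set m : Multiplicative M := e.down.1 with hm
  set c := MonAttrAlg.cf k₀.{u} m Γ(X.left, ⊤) (coact a β) with hcdef
  have hmN : Multiplicative.ofAdd (f m.toAdd) ∉
      Set.range (AddMonoidHom.toMultiplicative Y.subtype) := by
    rintro ⟨y, hy⟩
    apply e.down.2
    have h1 : (y.toAdd : Z) = f m.toAdd := congrArg Multiplicative.toAdd hy
    have h2 : m.toAdd ∈ Y.comap f := by
      change f m.toAdd ∈ Y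
      rw [← h1]
      exact y.toAdd.2
    exact ⟨Multiplicative.ofAdd ⟨m.toAdd, h2⟩, rfl⟩
  let e' : BIdx.{u} Y := ⟨⟨Multiplicative.ofAdd (f m.toAdd), hmN⟩⟩
  apply Ideal.subset_span
  refine ⟨c, e', ?_⟩
  have hc' : AffAttrAlg.coe (ιf.{u} Y.subtype) (bas.{u} Y) e' Γ(X.left, ⊤)
      (coact (a.restrict (AMonS.map S f)) c) =
      MonAttrAlg.cf k₀.{u} e'.down.1 Γ(X.left, ⊤) (coact (a.restrict (AMonS.map S f)) c) :=
    MonAttrAlg.coe_eq_cf k₀.{u} _ (toMul_injective Y) e' _ _
  rw [hc', coact_restrict, hcdef, homog a β m, Algebra.TensorProduct.map_tmul, MonAttrAlg.cf_tmul]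
  have h3 : (ιf.{u} f) (MonoidAlgebra.single m 1) =
      MonoidAlgebra.single (Multiplicative.ofAdd (f m.toAdd)) 1 := by
    simp [ιf]
  rw [h3, MonoidAlgebra.coeff_single, Finsupp.single_eq_same, one_smul]
  rfl

end Groth.Agent.Lib.Helper29.MonAttr
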