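import Groth.Agent.Lib.Helper29.MonAttr3
import Groth.Agent.Lib.Helper29.MonAttr4

/-! Change of monoid for attractors of relatively affine schemes (S18287, helper29). -/

set_option autoImplicit false
universe u
open CategoryTheory CategoryTheory.Limits MonoidalCategory CartesianMonoidalCategory MonObj
  AlgebraicGeometry Opposite
open Magnet

namespace Groth.Agent.Lib.Helper29.MonAttr

open Groth.Agent.Lib.Helper10.ZarRep Groth.Agent.Lib.Helper10
open Groth.Agent.Lib.Helper29.AttrGlue (UO jU)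

section Glue

variable {S : Scheme.{u}} {M : Type} [AddCommMonoid M] (N : AddSubmonoid M) {X : Over S}
  (a : Magnet.MonAct (AMonS S M) X)

set_option backward.isDefEq.respectTransparency.types false in
set_option maxHeartbeats 1000000 in
/-- an equivariant family with prescribed unit section exists as soon as it exists locally. -/
theorem exists_of_local [IsSeparated X.hom] (T : Over S) (x : T ⟶ X)
    (𝒰 : Scheme.OpenCover.{u} T.left)
    (h : ∀ κ, ∃ φ : (Magnet.attr a N).obj (op (Over.mk (𝒰.f κ ≫ T.hom))),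
      lift (toUnit _ ≫ η[AMonS S N]) (𝟙 _) ≫ φ.1 =
        (Over.homMk (𝒰.f κ) rfl : Over.mk (𝒰.f κ ≫ T.hom) ⟶ T) ≫ x) :
    ∃ φ : (Magnet.attr a N).obj (op T), lift (toUnit T ≫ η[AMonS S N]) (𝟙 T) ≫ φ.1 = x := by
  let D : (Over S)ᵒᵖ ⥤ Type u := Magnet.attr a N
  choose φκ hφκ using h
  let xκ : ∀ κ, (OverRep.sfun D).F.obj (op (𝒰.X κ)) := fun κ => ⟨𝒰.f κ ≫ T.hom, φκ κ⟩
  have hS := MonGlue.sfun_isSheaf (Magnet.subAct S M N) a
  obtain ⟨y, hy⟩ := hS.glue 𝒰 xκ (by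
    intro i j Z' p q hpq
    have ht : p ≫ 𝒰.f i ≫ T.hom = q ≫ 𝒰.f j ≫ T.hom := by
      rw [← Category.assoc, hpq, Category.assoc]
    refine OverRep.El.ext' ht _ _ ?_
    apply Subtype.ext
    apply eq_of_evalAt_eq N a _ _ _ (Subtype.property _) (Subtype.property _)
    rw [ev_nat, ev_nat, ev_nat, hφκ, hφκ]
    apply Over.OverMorphism.ext
    simp only [Over.comp_left, Over.homMk_left, OverRep.castHom]
    change p ≫ 𝒰.f i ≫ x.left = 𝟙 Z' ≫ q ≫ 𝒰.f j ≫ x.left
    rw [Category.id_comp, ← Category.assoc, hpq, Category.assoc])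
  obtain ⟨t', φ'⟩ := y
  have ht' : t' = T.hom := by
    refine 𝒰.hom_ext _ _ (fun κ => ?_)
    have h1 := congrArg Sigma.fst (hy κ)
    exact h1
  subst ht'
  refine ⟨φ', ?_⟩
  apply Over.OverMorphism.ext
  refine 𝒰.hom_ext _ _ (fun κ => ?_)
  have h2 : (⟨𝒰.f κ ≫ T.hom, D.map (Over.homMk (𝒰.f κ) rfl :
      Over.mk (𝒰.f κ ≫ T.hom) ⟶ Over.mk T.hom).op φ'⟩ : OverRep.El D (𝒰.X κ)) =
      ⟨𝒰.f κ ≫ T.hom, φκ κ⟩ := hy κ
  obtain ⟨h3, h4⟩ := OverRep.El.ext_iff' _ _ h2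
  have h5 : D.map (Over.homMk (𝒰.f κ) rfl : Over.mk (𝒰.f κ ≫ T.hom) ⟶ Over.mk T.hom).op φ' =
      φκ κ := by
    rw [h4]
    exact OverRep.map_op_id _
  have h6 := ev_nat N a (Over.mk T.hom) (Over.mk (𝒰.f κ ≫ T.hom)) (Over.homMk (𝒰.f κ) rfl) φ'
  rw [h5, hφκ] at h6
  exact (congrArg (fun t => t.left) h6).symm

end Glue

section Comap

variable {S : Scheme.{u}} {M Z : Type} [AddCommMonoid M] [AddCommMonoid Z] (f : M →+ Z)
  (Y : AddSubmonoid Z) {X : Over S} (a : Magnet.MonAct (AMonS S M) X)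

set_option backward.isDefEq.respectTransparency.types false in
set_option maxHeartbeats 2000000 in
/-- local existence: over an affine `T` lying over an affine open of the base. -/
theorem exists_local [IsAffineHom X.hom] (T : Over S) [IsAffine T.left] (W : S.Opens)
    (hW : IsAffineOpen W) (hT : ∀ p : T.left, T.hom p ∈ W)
    (ψ : (Magnet.attr (a.restrict (AMonS.map S f)) Y).obj (op T)) :
    ∃ φ : (Magnet.attr a (Y.comap f)).obj (op T),
      lift (toUnit T ≫ η[AMonS S (Y.comap f)]) (𝟙 T) ≫ φ.1 =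
        lift (toUnit T ≫ η[AMonS S Y]) (𝟙 T) ≫ ψ.1 := by
  let V : X.left.Opens := X.hom ⁻¹ᵁ W
  have hVaff : IsAffineOpen V := hW.preimage X.hom
  have hV : (CartesianMonoidalCategory.snd (AMonS S M) X).left ⁻¹ᵁ V ≤ a.act.left ⁻¹ᵁ V := by
    intro q hq
    change X.hom (a.act.left q) ∈ W
    have h1 : a.act.left ≫ X.hom = (CartesianMonoidalCategory.snd (AMonS S M) X).left ≫ X.hom := by
      rw [Over.w, Over.w]
    rw [← Scheme.Hom.comp_apply, h1, Scheme.Hom.comp_apply]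
    exact hq
  let aV : Magnet.MonAct (AMonS S M) (UO X V) := MonGlue.aU a V hV
  let bV : Magnet.MonAct (AMonS S Z) (UO X V) := aV.restrict (AMonS.map S f)
  haveI : IsAffine (UO X V).left := hVaff
  have hXW : ∀ p : (UO X V).left, (UO X V).hom p ∈ W := fun p => by
    change (V.ι ≫ X.hom) p ∈ W
    rw [Scheme.Hom.comp_apply]
    exact p.2
  let x : T ⟶ X := lift (toUnit T ≫ η[AMonS S Y]) (𝟙 T) ≫ ψ.1
  -- factor `ψ` through the chart
  have hr : Set.range ψ.1.left ⊆ Set.range (jU X V).left := by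
    change _ ⊆ Set.range V.ι
    rw [Scheme.Opens.range_ι]
    rintro _ ⟨q, rfl⟩
    change X.hom (ψ.1.left q) ∈ W
    have h1 : ψ.1.left ≫ X.hom = (CartesianMonoidalCategory.snd (AMonS S Y) T).left ≫ T.hom := by
      rw [Over.w, Over.w]
    rw [← Scheme.Hom.comp_apply, h1, Scheme.Hom.comp_apply]
    exact hT _
  let cl : (AMonS S Y ⊗ T).left ⟶ (UO X V).left :=
    IsOpenImmersion.lift (jU X V).left ψ.1.left hr
  have hcl : cl ≫ (jU X V).left = ψ.1.left := IsOpenImmersion.lift_fac _ _ _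
  let ψ₀ : AMonS S Y ⊗ T ⟶ UO X V := Over.homMk cl (by
    rw [← Over.w (jU X V), ← Category.assoc, hcl, Over.w])
  have hψ₀ : ψ₀ ≫ jU X V = ψ.1 := Over.OverMorphism.ext hcl
  have hbV : bV.act ≫ jU X V = (AMonS S Z ◁ jU X V) ≫ (a.restrict (AMonS.map S f)).act := by
    change ((AMonS.map S f ▷ UO X V) ≫ MonGlue.actU a V hV) ≫ jU X V =
      (AMonS S Z ◁ jU X V) ≫ (AMonS.map S f ▷ X) ≫ a.act
    rw [Category.assoc, MonGlue.actU_comp, ← whisker_exchange_assoc]
  have hψ₀e : Magnet.MonAct.IsEquivariant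
      ((Magnet.subAct S Z Y).prod (Magnet.MonAct.trivial (AMonS S Z) T)) bV ψ₀ := by
    have h := ψ.2
    unfold Magnet.MonAct.IsEquivariant at h ⊢
    rw [← cancel_mono (jU X V), Category.assoc, hψ₀, h, Category.assoc, hbV, ← Category.assoc,
      ← MonoidalCategory.whiskerLeft_comp, hψ₀]
  let x₀ : T ⟶ UO X V := lift (toUnit T ≫ η[AMonS S Y]) (𝟙 T) ≫ ψ₀
  have hx₀ : x₀ ≫ jU X V = x := by
    change (lift (toUnit T ≫ η[AMonS S Y]) (𝟙 T) ≫ ψ₀) ≫ jU X V = _
    rw [Category.assoc, hψ₀]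
  have horb := Groth.Agent.Lib.Helper10.MagnetDom.whiskerRight_comp_eq_orbit (pN Y) bV ψ₀ hψ₀e
  have hle1 := (ext_iff Y bV W hW hXW T x₀).1 ⟨ψ₀, horb⟩
  have hle2 := attrIdeal_comap_le (a := aV) f Y
  obtain ⟨ψ', hψ'⟩ := (ext_iff (Y.comap f) aV W hW hXW T x₀).2 (le_trans hle2 hle1)
  have hψ'e := equivariant_of_restrict (Y.comap f) aV T x₀ ψ' hψ'
  have hψ'u := unit_of_restrict (Y.comap f) aV T x₀ ψ' hψ'
  refine ⟨⟨ψ' ≫ jU X V, hψ'e.comp (MonGlue.jU_equivariant a V hV)⟩, ?_⟩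
  change lift (toUnit T ≫ η[AMonS S (Y.comap f)]) (𝟙 T) ≫ ψ' ≫ jU X V = x
  rw [← Category.assoc, hψ'u, hx₀]

set_option backward.isDefEq.respectTransparency.types false in
set_option maxHeartbeats 2000000 in
/-- existence of a preimage with the same unit section. -/
theorem exists_comap [IsAffineHom X.hom] (T : Over S)
    (ψ : (Magnet.attr (a.restrict (AMonS.map S f)) Y).obj (op T)) :
    ∃ φ : (Magnet.attr a (Y.comap f)).obj (op T),
      lift (toUnit T ≫ η[AMonS S (Y.comap f)]) (𝟙 T) ≫ φ.1 =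
        lift (toUnit T ≫ η[AMonS S Y]) (𝟙 T) ≫ ψ.1 := by
  have hex : ∀ p : T.left, ∃ (W : S.Opens) (U : T.left.Opens), IsAffineOpen W ∧ IsAffineOpen U ∧
      p ∈ U ∧ U ≤ T.hom ⁻¹ᵁ W := by
    intro p
    obtain ⟨_, ⟨W, hW, rfl⟩, hpW, -⟩ :=
      S.isBasis_affineOpens.exists_subset_of_mem_open (Set.mem_univ (T.hom p)) isOpen_univ
    obtain ⟨_, ⟨U, hU, rfl⟩, hpU, hUW⟩ :=
      T.left.isBasis_affineOpens.exists_subset_of_mem_open (show p ∈ (T.hom ⁻¹ᵁ W : Set T.left) from hpW)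
        (T.hom ⁻¹ᵁ W).2
    exact ⟨W, U, hW, hU, hpU, hUW⟩
  choose W U hW hU hpU hUW using hex
  have hcov : TopologicalSpace.IsOpenCover U := by
    rw [TopologicalSpace.IsOpenCover, eq_top_iff]
    intro p _
    exact TopologicalSpace.Opens.mem_iSup.mpr ⟨p, hpU p⟩
  let 𝒰 : Scheme.OpenCover.{u} T.left := T.left.openCoverOfIsOpenCover U hcov
  haveI : IsSeparated X.hom := inferInstance
  refine exists_of_local (Y.comap f) a T _ 𝒰 (fun κ => ?_)
  let Tκ : Over S := Over.mk (𝒰.f κ ≫ T.hom)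
  let tκ : Tκ ⟶ T := Over.homMk (𝒰.f κ) rfl
  haveI : IsAffine Tκ.left := hU κ
  have hT : ∀ p : Tκ.left, Tκ.hom p ∈ W κ := fun p => by
    change ((U κ).ι ≫ T.hom) p ∈ W κ
    rw [Scheme.Hom.comp_apply]
    exact hUW κ p.2
  obtain ⟨φ, hφ⟩ := exists_local f Y a Tκ (W κ) (hW κ) hT
    ((Magnet.attr (a.restrict (AMonS.map S f)) Y).map tκ.op ψ)
  refine ⟨φ, ?_⟩
  rw [hφ]
  exact ev_nat Y (a.restrict (AMonS.map S f)) T Tκ tκ ψ

set_option backward.isDefEq.respectTransparency.types false in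
set_option maxHeartbeats 1000000 in
/-- **S18287**: change of monoid is an isomorphism on attractors of relatively affine schemes. -/
theorem isIso_attrComap [IsAffineHom X.hom] : IsIso (Magnet.attrComap a f Y) := by
  haveI : IsSeparated X.hom := inferInstance
  have hev : ∀ (T : Over S) (φ : (Magnet.attr a (Y.comap f)).obj (op T)),
      lift (toUnit T ≫ η[AMonS S Y]) (𝟙 T) ≫ ((Magnet.attrComap a f Y).app (op T) φ).1 =
        lift (toUnit T ≫ η[AMonS S (Y.comap f)]) (𝟙 T) ≫ φ.1 := by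
    intro T φ
    rw [Magnet.attrComap_app_coe, lift_whiskerRight_assoc, Category.assoc, IsMonHom.one_hom]
  haveI : ∀ T : (Over S)ᵒᵖ, IsIso ((Magnet.attrComap a f Y).app T) := by
    intro T
    rw [CategoryTheory.isIso_iff_bijective]
    constructor
    · intro φ₁ φ₂ h
      apply Subtype.ext
      apply eq_of_evalAt_eq (Y.comap f) a (unop T) _ _ φ₁.2 φ₂.2
      rw [← hev, ← hev, h]
    · intro ψ
      obtain ⟨φ, hφ⟩ := exists_comap f Y a (unop T) ψ
      refine ⟨φ, ?_⟩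
      apply Subtype.ext
      apply eq_of_evalAt_eq Y (a.restrict (AMonS.map S f)) (unop T) _ _ (Subtype.property _) ψ.2
      rw [hev, hφ]
  exact NatIso.isIso_of_isIso_app _

end Comap

end Groth.Agent.Lib.Helper29.MonAttr
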