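import Groth.Agent.Lib.Helper29.MonAttr5

/-! Finiteness of minimal magnets for relatively affine schemes of finite presentation
(S19647, helper29). -/

set_option autoImplicit false
universe u
open CategoryTheory CategoryTheory.Limits MonoidalCategory CartesianMonoidalCategory MonObj
  AlgebraicGeometry Opposite
open TensorProduct
open Magnet

namespace Groth.Agent.Lib.Helper29.MonAttr

attribute [local instance] algΓ

open Groth.Agent.Lib.Helper10.ZarRep Groth.Agent.Lib.Helper10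
open Groth.Agent.Lib.Helper29.AttrGlue (UO jU)

section Alg

variable (k : Type u) [CommRing k] {G : Type} [CommMonoid G]

theorem MonAttrAlg.finite_support {C : Type u} [AddCommGroup C] [Module k C]
    (w : MonoidAlgebra k G ⊗[k] C) : {m : G | MonAttrAlg.cf k m C w ≠ 0}.Finite := by
  classical
  induction w using TensorProduct.induction_on with
  | zero => simp
  | tmul x c =>
    refine (x.coeff.support.finite_toSet).subset ?_
    intro m hm
    rw [Set.mem_ofPred_eq, MonAttrAlg.cf_tmul] at hm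
    rw [Finset.mem_coe, Finsupp.mem_support_iff]
    intro h0
    exact hm (by rw [h0, zero_smul])
  | add y z hy hz =>
    refine (hy.union hz).subset ?_
    intro m hm
    rw [Set.mem_ofPred_eq, map_add] at hm
    by_contra hcon
    rw [Set.mem_union, not_or] at hcon
    have h1 : MonAttrAlg.cf k m C y = 0 := by
      by_contra h; exact hcon.1 h
    have h2 : MonAttrAlg.cf k m C z = 0 := by
      by_contra h; exact hcon.2 h
    exact hm (by rw [h1, h2, add_zero])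

end Alg

section Chart

variable {S : Scheme.{u}} {M : Type} [AddCommMonoid M] {X : Over S}
  (a : Magnet.MonAct (AMonS S M) X)

theorem appLE_congr_hom {P : Scheme.{u}} {u v : P ⟶ S} (h : u = v) (W : S.Opens)
    (e : (⊤ : P.Opens) ≤ u ⁻¹ᵁ W) :
    u.appLE W ⊤ e = v.appLE W ⊤ (h ▸ e) := by
  subst h
  rfl

theorem appTop_appLE {P Q : Scheme.{u}} (h : P ⟶ Q) (g : Q ⟶ S) (W : S.Opens)
    (e : (⊤ : Q.Opens) ≤ g ⁻¹ᵁ W) (r : Γ(S, W)) :
    h.appTop.hom ((g.appLE W ⊤ e).hom r) =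
      ((h ≫ g).appLE W ⊤ (fun _ _ => e trivial)).hom r := by
  have h1 := Scheme.Hom.appLE_comp_appLE h g W ⊤ ⊤ e le_top
  have h2 : h.appLE ⊤ ⊤ le_top = h.appTop := Scheme.Hom.appLE_eq_app _
  rw [h2] at h1
  exact congrArg (fun t => t.hom r) h1

set_option backward.isDefEq.respectTransparency.types false in
set_option maxHeartbeats 1000000 in
/-- functions pulled back from the base are of degree zero. -/
theorem coact_base [IsAffine X.left] (W : S.Opens) (e : (⊤ : X.left.Opens) ≤ X.hom ⁻¹ᵁ W)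
    (r : Γ(S, W)) :
    coact a ((X.hom.appLE W ⊤ e).hom r) = (1 : AA.{u} M) ⊗ₜ[k₀.{u}] ((X.hom.appLE W ⊤ e).hom r) := by
  apply (Θ_bijective M X).1
  rw [Θ_coact, Θ_tmul, map_one, _root_.one_mul, appAlg_apply, appAlg_apply, appTop_appLE,
    appTop_appLE]
  have h : a.act.left ≫ X.hom = (CartesianMonoidalCategory.snd (AMonS S M) X).left ≫ X.hom := by
    rw [Over.w, Over.w]
  rw [appLE_congr_hom h]

set_option backward.isDefEq.respectTransparency.types false in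
set_option maxHeartbeats 2000000 in
/-- **chart lemma**: the attractor ideal condition only depends on the magnet through its
intersection with the finite set of weights of a finite set of generators. -/
theorem attrIdeal_le_ker_of_generators [IsAffine X.left] (W : S.Opens)
    (e : (⊤ : X.left.Opens) ≤ X.hom ⁻¹ᵁ W) (s : Set Γ(X.left, ⊤))
    (hs : letI := (X.hom.appLE W ⊤ e).hom.toAlgebra; Algebra.adjoin Γ(S, W) s = ⊤)
    (N L : AddSubmonoid M)
    (hNL : ∀ m : Multiplicative M, (∃ b ∈ s, MonAttrAlg.cf k₀.{u} m Γ(X.left, ⊤) (coact a b) ≠ 0) →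
      m.toAdd ∈ N → m.toAdd ∈ L)
    (T : Over S) (x : T ⟶ X)
    (hN : attrIdeal N a ≤ RingHom.ker x.left.appTop.hom) :
    attrIdeal L a ≤ RingHom.ker x.left.appTop.hom := by
  letI := (X.hom.appLE W ⊤ e).hom.toAlgebra
  have hk : RingHom.ker x.left.appTop.hom =
      RingHom.ker ((appAlg x : Γ(X.left, ⊤) →ₐ[k₀.{u}] Γ(T.left, ⊤)) :
        Γ(X.left, ⊤) →+* Γ(T.left, ⊤)) := rfl
  rw [hk, attrIdeal, ← AffAttrAlg.criterion]
  let F : Γ(X.left, ⊤) →+* AA.{u} M ⊗[k₀.{u}] Γ(T.left, ⊤) :=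
    ((Algebra.TensorProduct.map (AlgHom.id k₀.{u} (AA.{u} M)) (appAlg x) :
      AA.{u} M ⊗[k₀.{u}] Γ(X.left, ⊤) →ₐ[k₀.{u}] AA.{u} M ⊗[k₀.{u}] Γ(T.left, ⊤)) :
      AA.{u} M ⊗[k₀.{u}] Γ(X.left, ⊤) →+* AA.{u} M ⊗[k₀.{u}] Γ(T.left, ⊤)).comp (coact a)
  let Rg : Subalgebra k₀.{u} (AA.{u} M ⊗[k₀.{u}] Γ(T.left, ⊤)) :=
    (Algebra.TensorProduct.map (ιf.{u} L.subtype) (AlgHom.id k₀.{u} Γ(T.left, ⊤))).range
  let 𝒮 : Subalgebra Γ(S, W) Γ(X.left, ⊤) :=
    { carrier := {b | F b ∈ Rg}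
      mul_mem' := fun {b c} hb hc => by
        change F (b * c) ∈ Rg
        rw [map_mul]
        exact Rg.mul_mem hb hc
      one_mem' := by
        change F 1 ∈ Rg
        rw [map_one]
        exact Rg.one_mem
      add_mem' := fun {b c} hb hc => by
        change F (b + c) ∈ Rg
        rw [map_add]
        exact Rg.add_mem hb hc
      zero_mem' := by
        change F 0 ∈ Rg
        rw [map_zero]
        exact Rg.zero_mem
      algebraMap_mem' := fun r => by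
        change F ((X.hom.appLE W ⊤ e).hom r) ∈ Rg
        change Algebra.TensorProduct.map (AlgHom.id k₀.{u} (AA.{u} M)) (appAlg x)
          (coact a ((X.hom.appLE W ⊤ e).hom r)) ∈ Rg
        rw [coact_base, Algebra.TensorProduct.map_tmul]
        refine ⟨(1 : AA.{u} L) ⊗ₜ[k₀.{u}] appAlg x ((X.hom.appLE W ⊤ e).hom r), ?_⟩
        change Algebra.TensorProduct.map (ιf.{u} L.subtype) (AlgHom.id k₀.{u} Γ(T.left, ⊤))
          ((1 : AA.{u} L) ⊗ₜ[k₀.{u}] appAlg x ((X.hom.appLE W ⊤ e).hom r)) = _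
        rw [Algebra.TensorProduct.map_tmul, map_one]
        rfl }
  have hsub : s ⊆ (𝒮 : Set Γ(X.left, ⊤)) := by
    intro b hb
    change F b ∈ Rg
    change Algebra.TensorProduct.map (AlgHom.id k₀.{u} (AA.{u} M)) (appAlg x) (coact a b) ∈
      (Algebra.TensorProduct.map (ιf.{u} L.subtype) (AlgHom.id k₀.{u} Γ(T.left, ⊤))).range
    rw [AffAttrAlg.mem_range_iff (ιf.{u} L.subtype) (bas.{u} L)]
    intro eL
    rw [AffAttrAlg.coe_natural]
    have hc : AffAttrAlg.coe (ιf.{u} L.subtype) (bas.{u} L) eL Γ(X.left, ⊤) (coact a b) =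
        MonAttrAlg.cf k₀.{u} eL.down.1 Γ(X.left, ⊤) (coact a b) :=
      MonAttrAlg.coe_eq_cf k₀.{u} _ (toMul_injective L) eL _ _
    rw [hc]
    by_cases h0 : MonAttrAlg.cf k₀.{u} eL.down.1 Γ(X.left, ⊤) (coact a b) = 0
    · rw [h0, map_zero]
    · have hmL : eL.down.1.toAdd ∉ L := by
        intro hm
        exact eL.down.2 ⟨Multiplicative.ofAdd ⟨eL.down.1.toAdd, hm⟩, rfl⟩
      have hmN : eL.down.1.toAdd ∉ N := fun hm => hmL (hNL eL.down.1 ⟨b, hb, h0⟩ hm)
      have hmN' : eL.down.1 ∉ Set.range (AddMonoidHom.toMultiplicative N.subtype) := by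
        rintro ⟨y, hy⟩
        apply hmN
        rw [← hy]
        exact y.toAdd.2
      let eN : BIdx.{u} N := ⟨⟨eL.down.1, hmN'⟩⟩
      have hcN : AffAttrAlg.coe (ιf.{u} N.subtype) (bas.{u} N) eN Γ(X.left, ⊤) (coact a b) =
          MonAttrAlg.cf k₀.{u} eN.down.1 Γ(X.left, ⊤) (coact a b) :=
        MonAttrAlg.coe_eq_cf k₀.{u} _ (toMul_injective N) eN _ _
      have hmem : MonAttrAlg.cf k₀.{u} eL.down.1 Γ(X.left, ⊤) (coact a b) ∈ attrIdeal N a := by
        apply Ideal.subset_span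
        exact ⟨b, eN, hcN.symm⟩
      exact hN hmem
  have htop : (⊤ : Subalgebra Γ(S, W) Γ(X.left, ⊤)) ≤ 𝒮 := by
    rw [← hs]
    exact Algebra.adjoin_le hsub
  intro b
  exact htop (Algebra.mem_top : b ∈ (⊤ : Subalgebra Γ(S, W) Γ(X.left, ⊤)))

end Chart

section Global

variable {S : Scheme.{u}} {M : Type} [AddCommMonoid M] {X : Over S}
  (a : Magnet.MonAct (AMonS S M) X)

theorem inv_preimage (W : S.Opens) :
    (CartesianMonoidalCategory.snd (AMonS S M) X).left ⁻¹ᵁ (X.hom ⁻¹ᵁ W) ≤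
      a.act.left ⁻¹ᵁ (X.hom ⁻¹ᵁ W) := by
  intro q hq
  change X.hom (a.act.left q) ∈ W
  have h1 : a.act.left ≫ X.hom = (CartesianMonoidalCategory.snd (AMonS S M) X).left ≫ X.hom := by
    rw [Over.w, Over.w]
  rw [← Scheme.Hom.comp_apply, h1, Scheme.Hom.comp_apply]
  exact hq

/-- the restriction of the action to the preimage of an open of the base -/
noncomputable def aW (W : S.Opens) : Magnet.MonAct (AMonS S M) (UO X (X.hom ⁻¹ᵁ W)) :=
  MonGlue.aU a (X.hom ⁻¹ᵁ W) (inv_preimage a W)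

theorem lands_UO (W : S.Opens) (p : (UO X (X.hom ⁻¹ᵁ W)).left) :
    (UO X (X.hom ⁻¹ᵁ W)).hom p ∈ W := by
  change ((X.hom ⁻¹ᵁ W).ι ≫ X.hom) p ∈ W
  rw [Scheme.Hom.comp_apply]
  exact p.2

theorem ev_attrMap {N L : AddSubmonoid M} (h : N ≤ L) (T : Over S)
    (φ : (Magnet.attr a N).obj (op T)) :
    lift (toUnit T ≫ η[AMonS S L]) (𝟙 T) ≫ ((Magnet.attrMap a h).app (op T) φ).1 =
      lift (toUnit T ≫ η[AMonS S N]) (𝟙 T) ≫ φ.1 := by
  change lift (toUnit T ≫ η[AMonS S L]) (𝟙 T) ≫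
    (AMonS.map S (AddSubmonoid.inclusion h) ▷ T) ≫ φ.1 = _
  rw [lift_whiskerRight_assoc, Category.assoc, IsMonHom.one_hom]

set_option backward.isDefEq.respectTransparency.types false in
set_option maxHeartbeats 2000000 in
theorem exists_local_of_ideal [IsAffineHom X.hom] (N L : AddSubmonoid M) (T : Over S)
    [IsAffine T.left] (W : S.Opens) (hW : IsAffineOpen W) (hT : ∀ p : T.left, T.hom p ∈ W)
    (H : ∀ x₀ : T ⟶ UO X (X.hom ⁻¹ᵁ W),
      haveI : IsAffine (UO X (X.hom ⁻¹ᵁ W)).left := hW.preimage X.hom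
      attrIdeal N (aW a W) ≤ RingHom.ker x₀.left.appTop.hom →
      attrIdeal L (aW a W) ≤ RingHom.ker x₀.left.appTop.hom)
    (φ : (Magnet.attr a N).obj (op T)) :
    ∃ ψ : (Magnet.attr a L).obj (op T),
      lift (toUnit T ≫ η[AMonS S L]) (𝟙 T) ≫ ψ.1 =
        lift (toUnit T ≫ η[AMonS S N]) (𝟙 T) ≫ φ.1 := by
  let V : X.left.Opens := X.hom ⁻¹ᵁ W
  have hVaff : IsAffineOpen V := hW.preimage X.hom
  let aV : Magnet.MonAct (AMonS S M) (UO X V) := aW a W
  haveI : IsAffine (UO X V).left := hVaff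
  have hXW : ∀ p : (UO X V).left, (UO X V).hom p ∈ W := lands_UO W
  let x : T ⟶ X := lift (toUnit T ≫ η[AMonS S N]) (𝟙 T) ≫ φ.1
  have hr : Set.range φ.1.left ⊆ Set.range (jU X V).left := by
    change _ ⊆ Set.range V.ι
    rw [Scheme.Opens.range_ι]
    rintro _ ⟨q, rfl⟩
    change X.hom (φ.1.left q) ∈ W
    have h1 : φ.1.left ≫ X.hom = (CartesianMonoidalCategory.snd (AMonS S N) T).left ≫ T.hom := by
      rw [Over.w, Over.w]
    rw [← Scheme.Hom.comp_apply, h1, Scheme.Hom.comp_apply]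
    exact hT _
  let cl : (AMonS S N ⊗ T).left ⟶ (UO X V).left :=
    IsOpenImmersion.lift (jU X V).left φ.1.left hr
  have hcl : cl ≫ (jU X V).left = φ.1.left := IsOpenImmersion.lift_fac _ _ _
  let φ₀ : AMonS S N ⊗ T ⟶ UO X V := Over.homMk cl (by
    rw [← Over.w (jU X V), ← Category.assoc, hcl, Over.w])
  have hφ₀ : φ₀ ≫ jU X V = φ.1 := Over.OverMorphism.ext hcl
  have hφ₀e : Magnet.MonAct.IsEquivariant
      ((Magnet.subAct S M N).prod (Magnet.MonAct.trivial (AMonS S M) T)) aV φ₀ := by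
    have h := φ.2
    unfold Magnet.MonAct.IsEquivariant at h ⊢
    rw [← cancel_mono (jU X V), Category.assoc, hφ₀, h, Category.assoc]
    change _ = (AMonS S M ◁ φ₀) ≫ MonGlue.actU a V (inv_preimage a W) ≫ jU X V
    rw [MonGlue.actU_comp, ← Category.assoc, ← MonoidalCategory.whiskerLeft_comp, hφ₀]
  let x₀ : T ⟶ UO X V := lift (toUnit T ≫ η[AMonS S N]) (𝟙 T) ≫ φ₀
  have hx₀ : x₀ ≫ jU X V = x := by
    change (lift (toUnit T ≫ η[AMonS S N]) (𝟙 T) ≫ φ₀) ≫ jU X V = _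
    rw [Category.assoc, hφ₀]
  have horb := Groth.Agent.Lib.Helper10.MagnetDom.whiskerRight_comp_eq_orbit (pN N) aV φ₀ hφ₀e
  have hle1 := (ext_iff N aV W hW hXW T x₀).1 ⟨φ₀, horb⟩
  have hle2 := H x₀ hle1
  obtain ⟨ψ', hψ'⟩ := (ext_iff L aV W hW hXW T x₀).2 hle2
  have hψ'e := equivariant_of_restrict L aV T x₀ ψ' hψ'
  have hψ'u := unit_of_restrict L aV T x₀ ψ' hψ'
  refine ⟨⟨ψ' ≫ jU X V, hψ'e.comp (MonGlue.jU_equivariant a V (inv_preimage a W))⟩, ?_⟩
  change lift (toUnit T ≫ η[AMonS S L]) (𝟙 T) ≫ ψ' ≫ jU X V = x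
  rw [← Category.assoc, hψ'u, hx₀]

set_option backward.isDefEq.respectTransparency.types false in
set_option maxHeartbeats 2000000 in
theorem exists_of_charts [IsAffineHom X.hom] (N L : AddSubmonoid M)
    (𝒲 : Set S.affineOpens) (hcov : ∀ s : S, ∃ W ∈ 𝒲, s ∈ (W : S.Opens))
    (H : ∀ W ∈ 𝒲, ∀ (T : Over S) (x₀ : T ⟶ UO X (X.hom ⁻¹ᵁ (W : S.Opens))),
      haveI : IsAffine (UO X (X.hom ⁻¹ᵁ (W : S.Opens))).left := W.2.preimage X.hom
      attrIdeal N (aW a W) ≤ RingHom.ker x₀.left.appTop.hom →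
      attrIdeal L (aW a W) ≤ RingHom.ker x₀.left.appTop.hom)
    (T : Over S) (φ : (Magnet.attr a N).obj (op T)) :
    ∃ ψ : (Magnet.attr a L).obj (op T),
      lift (toUnit T ≫ η[AMonS S L]) (𝟙 T) ≫ ψ.1 =
        lift (toUnit T ≫ η[AMonS S N]) (𝟙 T) ≫ φ.1 := by
  have hex : ∀ p : T.left, ∃ (W : S.affineOpens) (U : T.left.Opens), W ∈ 𝒲 ∧ IsAffineOpen U ∧
      p ∈ U ∧ U ≤ T.hom ⁻¹ᵁ (W : S.Opens) := by
    intro p
    obtain ⟨W, hW𝒲, hpW⟩ := hcov (T.hom p)
    obtain ⟨_, ⟨U, hU, rfl⟩, hpU, hUW⟩ :=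
      T.left.isBasis_affineOpens.exists_subset_of_mem_open
        (show p ∈ (T.hom ⁻¹ᵁ (W : S.Opens) : Set T.left) from hpW) (T.hom ⁻¹ᵁ (W : S.Opens)).2
    exact ⟨W, U, hW𝒲, hU, hpU, hUW⟩
  choose W U hW hU hpU hUW using hex
  have hcovT : TopologicalSpace.IsOpenCover U := by
    rw [TopologicalSpace.IsOpenCover, eq_top_iff]
    intro p _
    exact TopologicalSpace.Opens.mem_iSup.mpr ⟨p, hpU p⟩
  let 𝒰 : Scheme.OpenCover.{u} T.left := T.left.openCoverOfIsOpenCover U hcovT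
  haveI : IsSeparated X.hom := inferInstance
  refine exists_of_local L a T _ 𝒰 (fun κ => ?_)
  let Tκ : Over S := Over.mk (𝒰.f κ ≫ T.hom)
  let tκ : Tκ ⟶ T := Over.homMk (𝒰.f κ) rfl
  haveI : IsAffine Tκ.left := hU κ
  have hT : ∀ p : Tκ.left, Tκ.hom p ∈ (W κ : S.Opens) := fun p => by
    change ((U κ).ι ≫ T.hom) p ∈ (W κ : S.Opens)
    rw [Scheme.Hom.comp_apply]
    exact hUW κ p.2
  obtain ⟨ψ, hψ⟩ := exists_local_of_ideal a N L Tκ (W κ) (W κ).2 hT
    (fun x₀ => H (W κ) (hW κ) Tκ x₀) ((Magnet.attr a N).map tκ.op φ)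
  refine ⟨ψ, ?_⟩
  rw [hψ]
  exact ev_nat N a T Tκ tκ φ

set_option backward.isDefEq.respectTransparency.types false in
set_option maxHeartbeats 2000000 in
/-- generators of the coordinate ring of a chart -/
theorem exists_generators [IsAffineHom X.hom] [LocallyOfFinitePresentation X.hom]
    (W : S.affineOpens) :
    ∃ s : Finset Γ((UO X (X.hom ⁻¹ᵁ (W : S.Opens))).left, ⊤),
      letI := ((UO X (X.hom ⁻¹ᵁ (W : S.Opens))).hom.appLE (W : S.Opens) ⊤
        (fun p _ => lands_UO (W : S.Opens) p)).hom.toAlgebra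
      Algebra.adjoin Γ(S, (W : S.Opens)) (s : Set Γ((UO X (X.hom ⁻¹ᵁ (W : S.Opens))).left, ⊤)) = ⊤ := by
  haveI : IsAffine (UO X (X.hom ⁻¹ᵁ (W : S.Opens))).left := W.2.preimage X.hom
  haveI : LocallyOfFinitePresentation (UO X (X.hom ⁻¹ᵁ (W : S.Opens))).hom :=
    inferInstanceAs (LocallyOfFinitePresentation ((X.hom ⁻¹ᵁ (W : S.Opens)).ι ≫ X.hom))
  have h1 : RingHom.FinitePresentation ((UO X (X.hom ⁻¹ᵁ (W : S.Opens))).hom.appLE (W : S.Opens) ⊤
      (fun p _ => lands_UO (W : S.Opens) p)).hom :=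
    HasRingHomProperty.appLE @LocallyOfFinitePresentation
      (UO X (X.hom ⁻¹ᵁ (W : S.Opens))).hom inferInstance W ⟨⊤, isAffineOpen_top _⟩ _
  have h2 := RingHom.FiniteType.of_finitePresentation h1
  letI := ((UO X (X.hom ⁻¹ᵁ (W : S.Opens))).hom.appLE (W : S.Opens) ⊤
    (fun p _ => lands_UO (W : S.Opens) p)).hom.toAlgebra
  have h3 : Algebra.FiniteType Γ(S, (W : S.Opens))
      Γ((UO X (X.hom ⁻¹ᵁ (W : S.Opens))).left, ⊤) := h2
  obtain ⟨s, hs⟩ := h3.out
  exact ⟨s, hs⟩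

set_option backward.isDefEq.respectTransparency.types false in
set_option maxHeartbeats 4000000 in
/-- **S19647** -/
theorem finite_minimal [CompactSpace S] [IsAffineHom X.hom] [LocallyOfFinitePresentation X.hom] :
    Set.Finite {N : AddSubmonoid M | ∀ L : AddSubmonoid M,
      (∀ T : Over S, Set.range (fun φ => (Magnet.attrToX a N).app (op T) φ) =
        Set.range (fun φ => (Magnet.attrToX a L).app (op T) φ)) → N ≤ L} := by
  classical
  obtain ⟨𝒲, h𝒲fin, h𝒲cov⟩ := (isCompact_iff_finite_and_eq_biUnion_affineOpens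
    (U := (⊤ : S.Opens))).1 (by simpa using CompactSpace.isCompact_univ)
  have hcov : ∀ s : S, ∃ W ∈ 𝒲, s ∈ (W : S.Opens) := by
    intro s
    have hs : s ∈ (⊤ : S.Opens) := trivial
    rw [h𝒲cov] at hs
    obtain ⟨W, hs⟩ := TopologicalSpace.Opens.mem_iSup.mp hs
    obtain ⟨hW, hs⟩ := TopologicalSpace.Opens.mem_iSup.mp hs
    exact ⟨W, hW, hs⟩
  choose gen hgen using fun W : S.affineOpens => exists_generators (X := X) W
  let ΩW : S.affineOpens → Set (Multiplicative M) := fun W =>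
    haveI : IsAffine (UO X (X.hom ⁻¹ᵁ (W : S.Opens))).left := W.2.preimage X.hom
    {m | ∃ b ∈ (gen W : Set Γ((UO X (X.hom ⁻¹ᵁ (W : S.Opens))).left, ⊤)),
      MonAttrAlg.cf k₀.{u} m Γ((UO X (X.hom ⁻¹ᵁ (W : S.Opens))).left, ⊤)
        (coact (aW a (W : S.Opens)) b) ≠ 0}
  have hΩW : ∀ W, (ΩW W).Finite := by
    intro W
    haveI : IsAffine (UO X (X.hom ⁻¹ᵁ (W : S.Opens))).left := W.2.preimage X.hom
    have : ΩW W = ⋃ b ∈ (gen W : Set Γ((UO X (X.hom ⁻¹ᵁ (W : S.Opens))).left, ⊤)),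
        {m | MonAttrAlg.cf k₀.{u} m Γ((UO X (X.hom ⁻¹ᵁ (W : S.Opens))).left, ⊤)
          (coact (aW a (W : S.Opens)) b) ≠ 0} := by
      ext m
      simp only [ΩW, Set.mem_ofPred_eq, Set.mem_iUnion, exists_prop]
    rw [this]
    exact Set.Finite.biUnion (gen W).finite_toSet (fun b _ => MonAttrAlg.finite_support _ _)
  let Ω : Set M := {m | ∃ W ∈ 𝒲, Multiplicative.ofAdd m ∈ ΩW W}
  have hΩ : Ω.Finite := by
    have : Ω = ⋃ W ∈ 𝒲, Multiplicative.toAdd '' (ΩW W) := by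
      ext m
      simp only [Ω, Set.mem_ofPred_eq, Set.mem_iUnion, Set.mem_image, exists_prop]
      constructor
      · rintro ⟨W, hW, hm⟩
        exact ⟨W, hW, Multiplicative.ofAdd m, hm, rfl⟩
      · rintro ⟨W, hW, m', hm', rfl⟩
        exact ⟨W, hW, hm'⟩
    rw [this]
    exact Set.Finite.biUnion h𝒲fin (fun W _ => (hΩW W).image _)
  refine (hΩ.finite_subsets.image (fun A : Set M => AddSubmonoid.closure A)).subset ?_
  intro N hN
  let L : AddSubmonoid M := AddSubmonoid.closure ((N : Set M) ∩ Ω)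
  have hLN : L ≤ N := AddSubmonoid.closure_le.2 Set.inter_subset_left
  refine ⟨(N : Set M) ∩ Ω, Set.inter_subset_right, ?_⟩
  change L = N
  refine le_antisymm hLN (hN L (fun T => ?_))
  apply Set.Subset.antisymm
  · rintro _ ⟨φ, rfl⟩
    obtain ⟨ψ, hψ⟩ := exists_of_charts a N L 𝒲 hcov (fun W hW T x₀ => by
      haveI : IsAffine (UO X (X.hom ⁻¹ᵁ (W : S.Opens))).left := W.2.preimage X.hom
      refine attrIdeal_le_ker_of_generators (aW a (W : S.Opens)) (W : S.Opens)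
        (fun p _ => lands_UO (W : S.Opens) p) (gen W) (hgen W) N L ?_ T x₀
      intro m hm hmN
      apply AddSubmonoid.subset_closure
      exact ⟨hmN, W, hW, hm⟩) T φ
    exact ⟨ψ, hψ⟩
  · rintro _ ⟨ψ, rfl⟩
    exact ⟨(Magnet.attrMap a hLN).app (op T) ψ, ev_attrMap a hLN T ψ⟩

end Global

end Groth.Agent.Lib.Helper29.MonAttr
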