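import Groth.Agent.Lib.Helper29.MonRetract
import Groth.Agent.Lib.Helper29.ConnHomotopy

/-! Connectedness of the fibres of `X^N ⟶ X^F` for representable attractors (S18242, helper29). -/

set_option autoImplicit false
universe u
open CategoryTheory CategoryTheory.Limits MonoidalCategory CartesianMonoidalCategory MonObj
  AlgebraicGeometry Opposite
open Magnet
open Groth.Agent.Lib.Helper10.AMonPts
open Groth.Agent.Lib.Helper29.MonRetract Groth.Agent.Lib.Helper29.ConnHomotopy

namespace Groth.Agent.Lib.Helper29.MonConn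

variable {S : Scheme.{u}} {M : Type} [AddCommMonoid M] {N F : AddSubmonoid M} {X : Over S}
  (a : Magnet.MonAct (AMonS S M) X) (hF : IsFace N F) (ℓ : N →+ ℕ)
  (hℓ : ∀ n : N, ℓ n = 0 ↔ (n : M) ∈ F)

include hℓ in
theorem faceMap_mulBy (T : Over S) (c : Γ(T.left, ⊤)) :
    (AMonS.faceMap S hF ▷ T) ≫ mulBy (powPt ℓ c) = (AMonS.faceMap S hF ▷ T) := by
  apply CartesianMonoidalCategory.hom_ext
  · rw [mulBy, Category.assoc, lift_fst, MonObj.comp_mul, whiskerRight_fst, whiskerRight_snd_assoc]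
    apply amFn_injective
    intro n
    rw [amFn_mul]
    by_cases h : (n : M) ∈ F
    · have h1 : amFn n (snd (AMonS S F) T ≫ powPt ℓ c) = 1 := by
        rw [amFn_comp, amFn_powPt, (hℓ n).2 h, pow_zero, map_one]
      rw [h1, _root_.mul_one]
    · rw [amFn_faceMap_of_not_mem hF _ n h, zero_mul]
  · rw [mulBy, Category.assoc, lift_snd]

include hℓ in
theorem attrFace_delta (T : Over S) (x : (Magnet.attr a N).obj (op T)) (c : Γ(T.left, ⊤)) :
    (Magnet.attrFace a hF).app (op T) (delta a ℓ T x c) = (Magnet.attrFace a hF).app (op T) x := by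
  apply Subtype.ext
  change (AMonS.faceMap S hF ▷ T) ≫ mulBy (powPt ℓ c) ≫ x.1 = (AMonS.faceMap S hF ▷ T) ≫ x.1
  rw [← Category.assoc, faceMap_mulBy hF ℓ hℓ]

variable {ZN Z0 : Over S} (eN : (Magnet.attr a N).RepresentableBy ZN)
  (e0 : (Magnet.attr a F).RepresentableBy Z0) (j : ZN ⟶ Z0)
  (hj : ∀ (T : Over S) (z : T ⟶ ZN),
    e0.homEquiv (z ≫ j) = (Magnet.attrFace a hF).app (op T) (eN.homEquiv z))

/-- the section of `j`. -/
noncomputable def sec : Z0 ⟶ ZN :=
  eN.homEquiv.symm ((Magnet.attrMap a hF.le).app (op Z0) (e0.homEquiv (𝟙 Z0)))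

theorem homEquiv_sec {T : Over S} (z : T ⟶ Z0) :
    eN.homEquiv (z ≫ sec a hF eN e0) = (Magnet.attrMap a hF.le).app (op T) (e0.homEquiv z) := by
  rw [eN.homEquiv_comp, sec, Equiv.apply_symm_apply, ← NatTrans.naturality_apply,
    ← e0.homEquiv_comp, Category.comp_id]

include hj in
theorem sec_j : sec a hF eN e0 ≫ j = 𝟙 Z0 := by
  apply e0.homEquiv.injective
  rw [hj, sec, Equiv.apply_symm_apply]
  exact congrArg (fun tr => tr.app (op Z0) (e0.homEquiv (𝟙 Z0))) (Magnet.attrMap_comp_attrFace a hF)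

section Path

variable (κ : Type u) [Field κ] (z : Spec (CommRingCat.of κ) ⟶ ZN.left)

/-- the point as an `S`-scheme. -/
noncomputable abbrev TT : Over S := Over.mk (z ≫ ZN.hom)

/-- the affine line over the point as an `S`-scheme. -/
noncomputable abbrev TL : Over S := Over.mk (prPt κ ≫ z ≫ ZN.hom)

noncomputable abbrev zT : TT κ z ⟶ ZN := Over.homMk z rfl

noncomputable abbrev prT : TL κ z ⟶ TT κ z := Over.homMk (prPt κ) rfl

noncomputable abbrev evT (e : κ) : TT κ z ⟶ TL κ z :=
  Over.homMk (evPt κ e) (by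
    change evPt κ e ≫ prPt κ ≫ z ≫ ZN.hom = z ≫ ZN.hom
    rw [← Category.assoc, evPt_prPt, Category.id_comp])

theorem evT_prT (e : κ) : evT κ z e ≫ prT κ z = 𝟙 _ := by
  ext : 1
  exact evPt_prPt κ e

/-- the coordinate of the affine line. -/
noncomputable def coord : Γ((TL κ z).left, ⊤) :=
  (Scheme.ΓSpecIso (CommRingCat.of (Polynomial κ))).inv.hom Polynomial.X

theorem evT_coord (e : κ) :
    (evT κ z e).left.appTop.hom (coord κ z) = (Scheme.ΓSpecIso (CommRingCat.of κ)).inv.hom e := by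
  have h := Scheme.ΓSpecIso_inv_naturality (CommRingCat.ofHom (Polynomial.evalRingHom e))
  have h2 := congrArg (fun f => f.hom Polynomial.X) h
  change (Scheme.ΓSpecIso (CommRingCat.of κ)).inv.hom (Polynomial.eval e Polynomial.X) = _ at h2
  rw [Polynomial.eval_X] at h2
  exact h2.symm

/-- the path through a point. -/
noncomputable def path : TL κ z ⟶ ZN :=
  eN.homEquiv.symm (delta a ℓ (TL κ z) (eN.homEquiv (prT κ z ≫ zT κ z)) (coord κ z))

theorem ev_path (e : κ) :
    evT κ z e ≫ path a ℓ eN κ z = eN.homEquiv.symm (delta a ℓ (TT κ z) (eN.homEquiv (zT κ z))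
      ((Scheme.ΓSpecIso (CommRingCat.of κ)).inv.hom e)) := by
  rw [path, eN.comp_homEquiv_symm, ← evT_coord κ z e]
  congr 1
  rw [← delta_nat, ← eN.homEquiv_comp, ← Category.assoc, evT_prT, Category.id_comp]

theorem ev_one_path : evT κ z 1 ≫ path a ℓ eN κ z = zT κ z := by
  rw [ev_path, map_one, delta_one, Equiv.symm_apply_apply]

include hℓ hj in
theorem ev_zero_path :
    evT κ z 0 ≫ path a ℓ eN κ z = (zT κ z ≫ j) ≫ sec a hF eN e0 := by
  rw [ev_path, map_zero, delta_zero a ℓ hF hℓ, ← hj, ← homEquiv_sec, Equiv.symm_apply_apply]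

include hℓ hj in
theorem path_j : path a ℓ eN κ z ≫ j = (prT κ z ≫ zT κ z) ≫ j := by
  apply e0.homEquiv.injective
  rw [hj, hj, path, Equiv.apply_symm_apply, attrFace_delta a hF ℓ hℓ]

end Path

include hℓ hj in
/-- the fibres of `j` are connected and `π₀(j)` is bijective. -/
theorem main :
    (∀ (K : Type u) [Field K] (k : Spec (CommRingCat.of K) ⟶ Z0.left),
        ConnectedSpace ↥(Limits.pullback j.left k)) ∧
      Function.Bijective (Continuous.connectedComponentsMap (Scheme.Hom.continuous j.left)) := by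
  have hs : (sec a hF eN e0).left ≫ j.left = 𝟙 Z0.left :=
    congrArg (fun f => f.left) (sec_j a hF eN e0 j hj)
  have H : ∀ (κ : Type u) [Field κ] (z : Spec (CommRingCat.of κ) ⟶ ZN.left),
     ∃ p : Spec (CommRingCat.of (Polynomial κ)) ⟶ ZN.left,
       evPt κ 1 ≫ p = z ∧ evPt κ 0 ≫ p = z ≫ j.left ≫ (sec a hF eN e0).left ∧
        p ≫ j.left = prPt κ ≫ z ≫ j.left := by
    intro κ _ z
    refine ⟨(path a ℓ eN κ z).left, ?_, ?_, ?_⟩
    · exact congrArg (fun f => f.left) (ev_one_path a ℓ eN κ z)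
    · have := congrArg (fun f => f.left) (ev_zero_path a hF ℓ hℓ eN e0 j hj κ z)
      simpa using this
    · have := congrArg (fun f => f.left) (path_j a hF ℓ hℓ eN e0 j hj κ z)
      simpa using this
  exact ⟨fun K _ k => connected_fibre j.left _ hs H K k, bijective_components j.left _ hs H⟩

end Groth.Agent.Lib.Helper29.MonConn
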