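import Groth.Agent.Lib.Helper29.MonAttr6
import Mathlib.AlgebraicGeometry.AffineTransitionLimit

/-! Attractors and directed unions of magnets (S18290, helper29): `A(⋃ N_i) × T = lim A(N_i) × T`. -/

set_option autoImplicit false
universe u
open CategoryTheory CategoryTheory.Limits MonoidalCategory CartesianMonoidalCategory MonObj
  AlgebraicGeometry Opposite
open Magnet
open Groth.Agent.Lib.Helper10.AMonPts

namespace Groth.Agent.Lib.Helper29.MonLim

section Gen

variable {S : Scheme.{u}}

theorem AMonS_map_id (P : Type) [AddCommMonoid P] :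
    AMonS.map S (AddMonoidHom.id P) = 𝟙 (AMonS S P) := by
  apply amFn_injective
  intro n
  have h := amFn_map (S := S) (AddMonoidHom.id P) n (𝟙 (AMonS S P))
  rw [Category.id_comp] at h
  rw [h]
  rfl

theorem AMonS_map_congr {P Q : Type} [AddCommMonoid P] [AddCommMonoid Q] {f g : P →+ Q}
    (h : f = g) : AMonS.map S f = AMonS.map S g := by rw [h]

end Gen

variable {S : Scheme.{u}} {M : Type} [AddCommMonoid M]
  {J : Type} [Preorder J]
  (N : J → AddSubmonoid M) (hN : Monotone N) (T : Over S)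

/-- the diagram `i ↦ A(N_i) × T`. -/
noncomputable def D : (ULift.{u} J)ᵒᵖ ⥤ Over S where
  obj i := AMonS S (N i.unop.down) ⊗ T
  map {i j} f := AMonS.map S (AddSubmonoid.inclusion (hN (ULift.down_le.2 (leOfHom f.unop)))) ▷ T
  map_id i := by
    have h : AMonS.map S (AddSubmonoid.inclusion (hN (le_refl i.unop.down))) = 𝟙 _ := by
      rw [← AMonS_map_id]
      exact AMonS_map_congr (AddMonoidHom.ext fun _ => rfl)
    exact (congrArg (fun z => z ▷ T) h).trans (id_whiskerRight _ _)
  map_comp {i j k} f g := by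
    rw [← comp_whiskerRight, ← AMonS.map_comp]
    exact congrArg (fun z => z ▷ T) (AMonS_map_congr (AddMonoidHom.ext fun _ => rfl))

/-- the limit cone with vertex `A(⋃ N_i) × T`. -/
noncomputable def cone : Cone (D N hN T) where
  pt := AMonS S (⨆ i, N i : AddSubmonoid M) ⊗ T
  π :=
    { app := fun i => AMonS.map S (AddSubmonoid.inclusion (le_iSup N i.unop.down)) ▷ T
      naturality := by
        intro i j f
        change 𝟙 _ ≫ _ = _ ≫ (_ ▷ T)
        rw [Category.id_comp, ← comp_whiskerRight, ← AMonS.map_comp]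
        exact congrArg (fun z => z ▷ T) (AMonS_map_congr (AddMonoidHom.ext fun _ => rfl)) }


section Lim

variable [IsDirected J (· ≤ ·)] [Nonempty J]
variable {N hN T}

theorem exists_mem (hN : Monotone N) (n : (⨆ i, N i : AddSubmonoid M)) : ∃ i, n.1 ∈ N i :=
  (AddSubmonoid.mem_iSup_of_directed hN.directed_le).1 n.2

variable (s : Cone (D N hN T))

/-- the components of a cone. -/
noncomputable def pp (i : J) : s.pt ⟶ AMonS S (N i) ⊗ T :=
  s.π.app (op ⟨i⟩)

theorem pp_mono {i k : J} (h : i ≤ k) :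
    pp s k ≫ (AMonS.map S (AddSubmonoid.inclusion (hN h)) ▷ T) = pp s i := by
  let f : (op (ULift.up.{u} k) : (ULift.{u} J)ᵒᵖ) ⟶ op (ULift.up.{u} i) :=
    (homOfLE (show ULift.up.{u} i ≤ ULift.up.{u} k from h)).op
  exact s.w f

/-- the `A(N_i)`-component of a cone. -/
noncomputable def gg (i : J) : s.pt ⟶ AMonS S (N i) :=
  pp s i ≫ fst _ _

/-- the `T`-component of a cone. -/
noncomputable def tt (i : J) : s.pt ⟶ T :=
  pp s i ≫ snd _ _

theorem gg_mono {i k : J} (h : i ≤ k) :
    gg s k ≫ AMonS.map S (AddSubmonoid.inclusion (hN h)) = gg s i := by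
  rw [gg, gg, ← pp_mono s h, Category.assoc, Category.assoc, whiskerRight_fst]

theorem tt_mono {i k : J} (h : i ≤ k) : tt s k = tt s i := by
  rw [tt, tt, ← pp_mono s h, Category.assoc, whiskerRight_snd]

theorem tt_eq (i j : J) : tt s i = tt s j := by
  obtain ⟨k, hik, hjk⟩ := exists_ge_ge i j
  rw [← tt_mono s hik, ← tt_mono s hjk]

/-- the value of the character `n ∈ N_i`. -/
noncomputable def val (n : M) (i : J) (h : n ∈ N i) : Γ(s.pt.left, ⊤) :=
  amFn (⟨n, h⟩ : N i) (gg s i)

theorem val_mono (n : M) {i k : J} (hik : i ≤ k) (h : n ∈ N i) :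
    val s n i h = val s n k (hN hik h) := by
  rw [val, val, ← gg_mono s hik, amFn_map]
  rfl

theorem val_indep (n : M) (i j : J) (h : n ∈ N i) (h' : n ∈ N j) :
    val s n i h = val s n j h' := by
  obtain ⟨k, hik, hjk⟩ := exists_ge_ge i j
  rw [val_mono s n hik h, val_mono s n hjk h']

/-- the glued character. -/
noncomputable def chr : Multiplicative (⨆ i, N i : AddSubmonoid M) →* Γ(s.pt.left, ⊤) where
  toFun n := val s (Multiplicative.toAdd n).1 (exists_mem hN (Multiplicative.toAdd n)).choose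
    (exists_mem hN (Multiplicative.toAdd n)).choose_spec
  map_one' := by
    generalize_proofs h1 h2
    change amFn _ _ = 1
    rw [← amFn_zero (gg s h1.choose)]
    rfl
  map_mul' x y := by
    obtain ⟨k₁, h1, h2⟩ := exists_ge_ge (exists_mem hN (Multiplicative.toAdd x)).choose
      (exists_mem hN (Multiplicative.toAdd y)).choose
    obtain ⟨k, h3, h4⟩ := exists_ge_ge k₁
      (exists_mem hN (Multiplicative.toAdd (x * y))).choose
    rw [val_mono s _ h4, val_mono s _ (h1.trans h3), val_mono s _ (h2.trans h3)]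
    rw [val, val, val, ← amFn_add]
    rfl

theorem chr_apply (n : (⨆ i, N i : AddSubmonoid M)) (i : J) (h : n.1 ∈ N i) :
    chr s (Multiplicative.ofAdd n) = val s n.1 i h := by
  change val s n.1 (exists_mem hN n).choose (exists_mem hN n).choose_spec = _
  exact val_indep s n.1 _ _ _ _

theorem amPt_chr (i : J) :
    amPt (chr s) ≫ AMonS.map S (AddSubmonoid.inclusion (le_iSup N i)) = gg s i := by
  apply amFn_injective
  intro n
  rw [amFn_map, amFn_amPt, chr_apply s _ i n.2]
  rfl

theorem uniq_aux (m : s.pt ⟶ AMonS S (⨆ i, N i : AddSubmonoid M) ⊗ T)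
    (hm' : ∀ i : J, m ≫ (AMonS.map S (AddSubmonoid.inclusion (le_iSup N i)) ▷ T) = pp s i) :
    m = lift (amPt (chr s)) (tt s (Classical.arbitrary J)) := by
  apply CartesianMonoidalCategory.hom_ext
  · rw [lift_fst]
    apply amFn_injective
    intro n
    obtain ⟨i, hi⟩ := exists_mem hN n
    rw [amFn_amPt, chr_apply s n i hi, val, gg, ← hm' i, Category.assoc, whiskerRight_fst,
      ← Category.assoc, amFn_map]
    rfl
  · rw [lift_snd, tt, ← hm' _, Category.assoc, whiskerRight_snd]

variable (N hN T) in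
/-- `A(⋃ N_i) × T` is the limit of the `A(N_i) × T`. -/
noncomputable def isLimit : IsLimit (cone N hN T) where
  lift s := lift (amPt (chr s)) (tt s (Classical.arbitrary J))
  fac s i := by
    obtain ⟨⟨i⟩⟩ := i
    change lift (amPt (chr s)) (tt s _) ≫
      (AMonS.map S (AddSubmonoid.inclusion (le_iSup N i)) ▷ T) = pp s i
    rw [lift_whiskerRight, amPt_chr, tt_eq s _ i, gg, tt, lift_comp_fst_snd]
  uniq s m hm := uniq_aux s m (fun i => hm (op ⟨i⟩))

end Lim

section Main

variable [IsDirected J (· ≤ ·)] [Nonempty J]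
variable {N T}
variable {X : Over S}

instance : IsDirected (ULift.{u} J) (· ≤ ·) :=
  ⟨fun i j => by
    obtain ⟨k, hik, hjk⟩ := exists_ge_ge i.down j.down
    exact ⟨⟨k⟩, hik, hjk⟩⟩

theorem isAffine_prod (P : Type) [AddCommMonoid P] [IsAffine T.left] :
    IsAffine (AMonS S P ⊗ T).left := by
  haveI : IsAffineHom (pullback.snd (AMonS S P).hom T.hom) := inferInstance
  exact isAffine_of_isAffineHom (pullback.snd (AMonS S P).hom T.hom)

theorem exists_factor [LocallyOfFinitePresentation X.hom] [IsAffine T.left] (hN : Monotone N)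
    (φ : AMonS S (⨆ i, N i : AddSubmonoid M) ⊗ T ⟶ X) :
    ∃ (i : J) (ψ : AMonS S (N i) ⊗ T ⟶ X),
      (AMonS.map S (AddSubmonoid.inclusion (le_iSup N i)) ▷ T) ≫ ψ = φ := by
  haveI hA : ∀ i, IsAffine ((D N hN T ⋙ Over.forget S).obj i) := fun i =>
    isAffine_prod (T := T) (N i.unop.down)
  haveI : ∀ i, CompactSpace ((D N hN T ⋙ Over.forget S).obj i) := fun i => inferInstance
  haveI : ∀ i, QuasiSeparatedSpace ((D N hN T ⋙ Over.forget S).obj i) := fun i => inferInstance
  haveI : ∀ {i j} (f : i ⟶ j), IsAffineHom ((D N hN T ⋙ Over.forget S).map f) :=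
    fun f => inferInstance
  obtain ⟨i, g, hg, hg'⟩ := Scheme.exists_π_app_comp_eq_of_locallyOfFinitePresentation
    (D N hN T ⋙ Over.forget S) (.mk (fun i ↦ ((D N hN T).obj i).hom)) X.hom _
    (isLimitOfPreserves (Over.forget S) (isLimit N hN T)) φ.left (by
      ext i
      change ((cone N hN T).π.app i).left ≫ ((D N hN T).obj i).hom = φ.left ≫ X.hom
      rw [Over.w, Over.w]
      rfl)
  refine ⟨i.unop.down, Over.homMk g hg', ?_⟩
  ext : 1
  exact hg

end Main

end Groth.Agent.Lib.Helper29.MonLim
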