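import Groth.Agent.Lib.Helper29.MonAttr6
import Groth.Agent.Lib.Helper29.FaceExposed

/-! The deformation retraction of the attractor `X^N` onto `X^F` for an exposed face `F`
(S18244, helper29). -/

set_option autoImplicit false
universe u
open CategoryTheory CategoryTheory.Limits MonoidalCategory CartesianMonoidalCategory MonObj
  AlgebraicGeometry Opposite
open Magnet
open Groth.Agent.Lib.Helper10.AMonPts
open Groth.Agent.Lib.Helper21.GaPts

namespace Groth.Agent.Lib.Helper29.MonRetract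

variable {S : Scheme.{u}} {M : Type} [AddCommMonoid M] {N F : AddSubmonoid M}

section Face

theorem amProj_faceMap (hF : IsFace N F) {Y : Over S} (y : Y ⟶ AMonS S F) :
    amProj (y ≫ AMonS.faceMap S hF) = amProj y ≫ Spec.map (CommRingCat.ofHom
      (faceAlgHom (ULift.{u} ℤ) hF).toRingHom) := by
  rw [amProj, amProj, Over.comp_left, Category.assoc, Category.assoc]
  congr 1
  exact pullback.lift_fst _ _ _

theorem amFn_faceMap_of_mem (hF : IsFace N F) {Y : Over S} (y : Y ⟶ AMonS S F) (n : N)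
    (h : (n : M) ∈ F) : amFn n (y ≫ AMonS.faceMap S hF) = amFn (⟨n, h⟩ : F) y := by
  rw [amFn, amHom, amProj_faceMap, evalHom_specMap_apply]
  congr 1
  exact faceAlgHom_single_of_mem _ hF n h 1

theorem amFn_faceMap_of_not_mem (hF : IsFace N F) {Y : Over S} (y : Y ⟶ AMonS S F) (n : N)
    (h : (n : M) ∉ F) : amFn n (y ≫ AMonS.faceMap S hF) = 0 := by
  rw [amFn, amHom, amProj_faceMap, evalHom_specMap_apply]
  have : (faceAlgHom (ULift.{u} ℤ) hF).toRingHom
      (MonoidAlgebra.single (Multiplicative.ofAdd n) 1) = 0 :=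
    faceAlgHom_single_of_not_mem _ hF n h 1
  rw [this, map_zero]

end Face

section Pow

variable (ℓ : N →+ ℕ) {T : Over S}

/-- the character `n ↦ c ^ ℓ n`. -/
noncomputable def powChar (c : Γ(T.left, ⊤)) : Multiplicative N →* Γ(T.left, ⊤) where
  toFun n := c ^ ℓ (Multiplicative.toAdd n)
  map_one' := by
    change c ^ ℓ 0 = 1
    rw [map_zero, pow_zero]
  map_mul' x y := by
    change c ^ ℓ (Multiplicative.toAdd x + Multiplicative.toAdd y) = _
    rw [map_add, pow_add]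

/-- the `T`-point `c ^ ℓ` of `A(N)`. -/
noncomputable def powPt (c : Γ(T.left, ⊤)) : T ⟶ AMonS S N := amPt (powChar ℓ c)

theorem amFn_powPt (c : Γ(T.left, ⊤)) (n : N) : amFn n (powPt (S := S) ℓ c) = c ^ ℓ n :=
  amFn_amPt _ _

theorem comp_powPt {T' : Over S} (t : T' ⟶ T) (c : Γ(T.left, ⊤)) :
    t ≫ powPt ℓ c = powPt ℓ (t.left.appTop.hom c) := by
  apply amFn_injective
  intro n
  rw [amFn_comp, amFn_powPt, amFn_powPt, map_pow]

theorem powPt_one : powPt (S := S) ℓ (1 : Γ(T.left, ⊤)) = 1 := by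
  apply amFn_injective
  intro n
  rw [amFn_powPt, amFn_one, one_pow]

end Pow

section MulBy

variable {T : Over S}

/-- multiplication by a `T`-point of `A(N)` on `A(N) × T`. -/
noncomputable def mulBy (p : T ⟶ AMonS S N) : AMonS S N ⊗ T ⟶ AMonS S N ⊗ T :=
  lift (fst (AMonS S N) T * (snd (AMonS S N) T ≫ p)) (snd (AMonS S N) T)

theorem lift_mulBy (p : T ⟶ AMonS S N) {T' : Over S} (b : T' ⟶ AMonS S N) (t : T' ⟶ T) :
    lift b t ≫ mulBy p = lift (b * (t ≫ p)) t := by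
  rw [mulBy, comp_lift, MonObj.comp_mul, lift_fst, lift_snd_assoc, lift_snd]

theorem mulBy_one : mulBy (1 : T ⟶ AMonS S N) = 𝟙 _ := by
  rw [mulBy, MonObj.comp_one, _root_.mul_one, lift_fst_snd]

theorem mulBy_whiskerLeft {T' : Over S} (t : T' ⟶ T) (p : T ⟶ AMonS S N) :
    mulBy (t ≫ p) ≫ (AMonS S N ◁ t) = (AMonS S N ◁ t) ≫ mulBy p := by
  apply Magnet.hom_ext_lift₂
  intro T'' b t'
  rw [← Category.assoc, lift_mulBy, lift_whiskerLeft, lift_whiskerLeft_assoc, lift_mulBy,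
    Category.assoc]

end MulBy

section Delta

variable {X : Over S} (a : Magnet.MonAct (AMonS S M) X) {T : Over S}

theorem subAct_act {T' : Over S} (g : T' ⟶ AMonS S M) (b : T' ⟶ AMonS S N) :
    lift g b ≫ (Magnet.subAct S M N).act = (g ≫ AMonS.map S N.subtype) * b := by
  change lift g b ≫ ((Magnet.MonAct.regular (AMonS S N)).restrict (AMonS.map S N.subtype)).act = _
  rw [Magnet.MonAct.lift_restrict_act, Magnet.MonAct.lift_regular_act]

theorem mulBy_act (p : T ⟶ AMonS S N) {T' : Over S} (g : T' ⟶ AMonS S M) (b : T' ⟶ AMonS S N)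
    (t : T' ⟶ T) :
    lift (lift g b ≫ (Magnet.subAct S M N).act) t ≫ mulBy p =
      lift (lift g (b * (t ≫ p)) ≫ (Magnet.subAct S M N).act) t := by
  rw [subAct_act, lift_mulBy, _root_.mul_assoc, ← subAct_act]

/-- translating an equivariant map by a point of `A(N)`. -/
theorem mulBy_equivariant (p : T ⟶ AMonS S N) (φ : AMonS S N ⊗ T ⟶ X)
    (hφ : Magnet.MonAct.IsEquivariant
      ((Magnet.subAct S M N).prod (Magnet.MonAct.trivial (AMonS S M) T)) a φ) :
    Magnet.MonAct.IsEquivariant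
      ((Magnet.subAct S M N).prod (Magnet.MonAct.trivial (AMonS S M) T)) a (mulBy p ≫ φ) := by
  rw [Magnet.MonAct.mem_eqvHom_iff] at hφ ⊢
  intro T' g b t
  have h1 := mulBy_act p g b t
  have h2 := hφ T' g (b * (t ≫ p)) t
  have h3 := lift_mulBy p b t
  calc lift (lift g b ≫ (Magnet.subAct S M N).act) t ≫ mulBy p ≫ φ
      = (lift (lift g b ≫ (Magnet.subAct S M N).act) t ≫ mulBy p) ≫ φ :=
        (Category.assoc _ _ _).symm
    _ = lift (lift g (b * (t ≫ p)) ≫ (Magnet.subAct S M N).act) t ≫ φ := by rw [h1]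
    _ = lift g (lift (b * (t ≫ p)) t ≫ φ) ≫ a.act := h2
    _ = lift g ((lift b t ≫ mulBy p) ≫ φ) ≫ a.act := by rw [h3]
    _ = lift g (lift b t ≫ mulBy p ≫ φ) ≫ a.act := by rw [Category.assoc]

/-- the deformation. -/
noncomputable def delta (ℓ : N →+ ℕ) (T : Over S) (x : (Magnet.attr a N).obj (op T))
    (c : Γ(T.left, ⊤)) : (Magnet.attr a N).obj (op T) :=
  ⟨mulBy (powPt ℓ c) ≫ x.1, mulBy_equivariant a _ x.1 x.2⟩

theorem delta_nat (ℓ : N →+ ℕ) (T T' : Over S) (t : T' ⟶ T) (x : (Magnet.attr a N).obj (op T))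
    (c : Γ(T.left, ⊤)) :
    delta a ℓ T' ((Magnet.attr a N).map t.op x) (t.left.appTop.hom c) =
      (Magnet.attr a N).map t.op (delta a ℓ T x c) := by
  apply Subtype.ext
  change mulBy (powPt ℓ (t.left.appTop.hom c)) ≫ (AMonS S N ◁ t) ≫ x.1 =
    (AMonS S N ◁ t) ≫ mulBy (powPt ℓ c) ≫ x.1
  rw [← comp_powPt, ← Category.assoc, mulBy_whiskerLeft, Category.assoc]

theorem delta_one (ℓ : N →+ ℕ) (T : Over S) (x : (Magnet.attr a N).obj (op T)) :
    delta a ℓ T x 1 = x := by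
  apply Subtype.ext
  change mulBy (powPt ℓ 1) ≫ x.1 = x.1
  rw [powPt_one, mulBy_one, Category.id_comp]

theorem mulBy_zero (ℓ : N →+ ℕ) (hF : IsFace N F) (hℓ : ∀ n : N, ℓ n = 0 ↔ (n : M) ∈ F)
    (T : Over S) :
    mulBy (powPt ℓ (0 : Γ(T.left, ⊤))) =
      (AMonS.map S (AddSubmonoid.inclusion hF.le) ▷ T) ≫ (AMonS.faceMap S hF ▷ T) := by
  rw [← comp_whiskerRight]
  apply CartesianMonoidalCategory.hom_ext
  · rw [mulBy, lift_fst, whiskerRight_fst]
    apply amFn_injective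
    intro n
    rw [amFn_mul, amFn_comp, amFn_powPt]
    by_cases h : (n : M) ∈ F
    · rw [(hℓ n).2 h, pow_zero, map_one, _root_.mul_one, ← Category.assoc,
        amFn_faceMap_of_mem hF _ n h, amFn_map]
      rfl
    · have h0 : ℓ n ≠ 0 := fun h0 => h ((hℓ n).1 h0)
      rw [zero_pow h0, map_zero, mul_zero, ← Category.assoc, amFn_faceMap_of_not_mem hF _ n h]
  · rw [mulBy, lift_snd, whiskerRight_snd]

theorem delta_zero (ℓ : N →+ ℕ) (hF : IsFace N F) (hℓ : ∀ n : N, ℓ n = 0 ↔ (n : M) ∈ F)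
    (T : Over S) (x : (Magnet.attr a N).obj (op T)) :
    delta a ℓ T x 0 =
      (Magnet.attrMap a hF.le).app (op T) ((Magnet.attrFace a hF).app (op T) x) := by
  apply Subtype.ext
  change mulBy (powPt ℓ 0) ≫ x.1 =
    (AMonS.map S (AddSubmonoid.inclusion hF.le) ▷ T) ≫ (AMonS.faceMap S hF ▷ T) ≫ x.1
  rw [mulBy_zero ℓ hF hℓ, Category.assoc]

theorem mulBy_incl (ℓ : N →+ ℕ) (hF : IsFace N F) (hℓ : ∀ n : N, ℓ n = 0 ↔ (n : M) ∈ F)
    (T : Over S) (c : Γ(T.left, ⊤)) :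
    mulBy (powPt ℓ c) ≫ (AMonS.map S (AddSubmonoid.inclusion hF.le) ▷ T) =
      (AMonS.map S (AddSubmonoid.inclusion hF.le) ▷ T) := by
  have h1 : powPt ℓ c ≫ AMonS.map S (AddSubmonoid.inclusion hF.le) = 1 := by
    apply amFn_injective
    intro n
    rw [amFn_map, amFn_powPt, amFn_one, (hℓ _).2 n.2, pow_zero]
  apply CartesianMonoidalCategory.hom_ext
  · rw [mulBy, Category.assoc, whiskerRight_fst, lift_fst_assoc, MonObj.mul_comp, Category.assoc,
      h1, MonObj.comp_one, _root_.mul_one]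
  · rw [mulBy, Category.assoc, whiskerRight_snd, lift_snd]

theorem delta_incl (ℓ : N →+ ℕ) (hF : IsFace N F) (hℓ : ∀ n : N, ℓ n = 0 ↔ (n : M) ∈ F)
    (T : Over S) (y : (Magnet.attr a F).obj (op T)) (c : Γ(T.left, ⊤)) :
    delta a ℓ T ((Magnet.attrMap a hF.le).app (op T) y) c =
      (Magnet.attrMap a hF.le).app (op T) y := by
  apply Subtype.ext
  change mulBy (powPt ℓ c) ≫ (AMonS.map S (AddSubmonoid.inclusion hF.le) ▷ T) ≫ y.1 =
    (AMonS.map S (AddSubmonoid.inclusion hF.le) ▷ T) ≫ y.1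
  rw [← Category.assoc, mulBy_incl ℓ hF hℓ]

end Delta

end Groth.Agent.Lib.Helper29.MonRetract
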