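import Mathlib
import Groth.Prelude.Def_W4bk4grossh1223Act

/-! Products of rational modules (helper29, for S11237). -/

set_option autoImplicit false
universe u
open CategoryTheory MonObj AlgebraicGeometry
open scoped TensorProduct

namespace Groth.Agent.Lib.Helper29.Nag

open VecGrp

section Prod

variable {k : Type u} [Field k] {G : Over (Spec (CommRingCat.of k))} [GrpObj G]
  {E E1 E2 : Type u} [AddCommGroup E] [Module k E] [AddCommGroup E1] [Module k E1]
  [AddCommGroup E2] [Module k E2]
  (c : E ≃ₗ[k] E1 × E2) (ρ1 : VecGrp.GMod G E1) (ρ2 : VecGrp.GMod G E2)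

/-- splitting of the base change of a product. -/
noncomputable def eB (B : Type u) [CommRing B] [Algebra k B] :
    B ⊗[k] E ≃ₗ[B] (B ⊗[k] E1) × (B ⊗[k] E2) :=
  (LinearEquiv.baseChange k B E (E1 × E2) c).trans (TensorProduct.prodRight k B B E1 E2)

theorem eB_tmul (B : Type u) [CommRing B] [Algebra k B] (b : B) (x : E) :
    eB c B (b ⊗ₜ[k] x) = (b ⊗ₜ[k] (c x).1, b ⊗ₜ[k] (c x).2) := by
  simp [eB]

theorem eB_Wmap {B B' : Type u} [CommRing B] [Algebra k B] [CommRing B'] [Algebra k B']
    (φ : B →ₐ[k] B') (x : B ⊗[k] E) :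
    eB c B' (Wmap (M := E) φ x) =
      (Wmap (M := E1) φ (eB c B x).1, Wmap (M := E2) φ (eB c B x).2) := by
  induction x using TensorProduct.induction_on with
  | zero => simp only [map_zero, Prod.fst_zero, Prod.snd_zero]; rfl
  | tmul b y => rw [Wmap_tmul, eB_tmul, eB_tmul, Wmap_tmul, Wmap_tmul]
  | add x y hx hy => rw [map_add, map_add, hx, hy, map_add, Prod.fst_add, Prod.snd_add, map_add, map_add,
      Prod.mk_add_mk]

/-- the product of two rational modules. -/
noncomputable def prodGMod : VecGrp.GMod G E where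
  ρ B _ _ :=
    { toFun := fun g => (eB c B).trans (((ρ1.ρ B g).prodCongr (ρ2.ρ B g)).trans (eB c B).symm)
      map_one' := by
        ext x
        simp
      map_mul' := fun g h => by
        ext x
        simp }
  naturality {B B'} _ _ _ _ φ g x := by
    apply (eB c B').injective
    rw [eB_Wmap]
    simp only [MonoidHom.coe_mk, OneHom.coe_mk, LinearEquiv.trans_apply,
      LinearEquiv.apply_symm_apply, LinearEquiv.prodCongr_apply]
    rw [eB_Wmap, ρ1.naturality, ρ2.naturality]

theorem eB_prodGMod (B : Type u) [CommRing B] [Algebra k B] (g : VecGrp.pt k B ⟶ G)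
    (x : B ⊗[k] E) :
    eB c B ((prodGMod c ρ1 ρ2).ρ B g x) =
      (ρ1.ρ B g (eB c B x).1, ρ2.ρ B g (eB c B x).2) := by
  simp [prodGMod]

theorem mem_fixedUnder_prodGMod {H : Over (Spec (CommRingCat.of k))} [GrpObj H] (i : H ⟶ G)
    (x : E) :
    x ∈ (prodGMod c ρ1 ρ2).fixedUnder i ↔ (c x).1 ∈ ρ1.fixedUnder i ∧ (c x).2 ∈ ρ2.fixedUnder i := by
  constructor
  · intro hx
    constructor
    · intro B _ _ h
      have h1 := congrArg (eB c B) (hx B h)
      rw [eB_prodGMod, eB_tmul] at h1
      exact congrArg Prod.fst h1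
    · intro B _ _ h
      have h1 := congrArg (eB c B) (hx B h)
      rw [eB_prodGMod, eB_tmul] at h1
      exact congrArg Prod.snd h1
  · rintro ⟨h1, h2⟩ B _ _ h
    apply (eB c B).injective
    rw [eB_prodGMod, eB_tmul]
    exact Prod.ext (h1 B h) (h2 B h)

end Prod

end Groth.Agent.Lib.Helper29.Nag
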