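import Groth.Agent.Lib.Helper29.Nag1

/-! Nagata's trick: invariants of a module via the trivial square-zero extension
(helper29, for S11237). -/

set_option autoImplicit false
universe u
open CategoryTheory MonObj AlgebraicGeometry
open scoped TensorProduct

namespace Groth.Agent.Lib.Helper29.Nag

open VecGrp

section Tsze

variable {k : Type u} [Field k] {G : Over (Spec (CommRingCat.of k))} [GrpObj G]
  (A : Type u) [CommRing A] [Algebra k A]
  (M : Type u) [AddCommGroup M] [Module A M] [Module k M] [IsScalarTower k A M]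

/-- the right action making `M` a bimodule. -/
@[reducible] noncomputable def opMod : Module Aᵐᵒᵖ M :=
  Module.compHom M ((RingHom.id A).fromOpposite fun _ _ => mul_comm _ _)

attribute [local instance] opMod

instance : IsCentralScalar A M := ⟨fun _ _ => rfl⟩

/-- the underlying product decomposition. -/
noncomputable def cEquiv : TrivSqZeroExt A M ≃ₗ[k] A × M := LinearEquiv.refl k (A × M)

theorem cEquiv_fst (r : TrivSqZeroExt A M) : (cEquiv (k := k) A M r).1 = r.fst := rfl
theorem cEquiv_snd (r : TrivSqZeroExt A M) : (cEquiv (k := k) A M r).2 = r.snd := rfl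

theorem smulW_tmul (B : Type u) [CommRing B] [Algebra k B] (b b' : B) (a : A) (m : M) :
    GMod.smulW k A M B (b ⊗ₜ[k] a) (b' ⊗ₜ[k] m) = (b * b') ⊗ₜ[k] (a • m) := by
  simp [GMod.smulW]

theorem eB_mul (B : Type u) [CommRing B] [Algebra k B] (x y : B ⊗[k] TrivSqZeroExt A M) :
    eB (cEquiv A M) B (x * y) =
      ((eB (cEquiv A M) B x).1 * (eB (cEquiv A M) B y).1,
        GMod.smulW k A M B (eB (cEquiv A M) B x).1 (eB (cEquiv A M) B y).2 +
        GMod.smulW k A M B (eB (cEquiv A M) B y).1 (eB (cEquiv A M) B x).2) := by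
  induction x using TensorProduct.induction_on with
  | zero => simp; rfl
  | tmul b r =>
    induction y using TensorProduct.induction_on with
    | zero => simp; rfl
    | tmul b' r' =>
      rw [Algebra.TensorProduct.tmul_mul_tmul, eB_tmul, eB_tmul, eB_tmul]
      simp only [cEquiv_fst, cEquiv_snd]
      rw [Algebra.TensorProduct.tmul_mul_tmul, smulW_tmul, smulW_tmul, TrivSqZeroExt.fst_mul,
        TrivSqZeroExt.snd_mul, TensorProduct.tmul_add, mul_comm b' b]
      rfl
    | add y y' hy hy' =>
      rw [mul_add, map_add, hy, hy', map_add]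
      simp only [Prod.fst_add, Prod.snd_add, mul_add, map_add, LinearMap.add_apply, Prod.mk_add_mk]
      congr 1
      abel
  | add x x' hx hx' =>
    rw [add_mul, map_add, hx, hx', map_add]
    simp only [Prod.fst_add, Prod.snd_add, add_mul, map_add, LinearMap.add_apply, Prod.mk_add_mk]
    congr 1
    abel

variable {A M}

theorem isMult_prod (ρA : VecGrp.GMod G A) (hρ : ρA.IsMult) (ρM : VecGrp.GMod G M)
    (hc : VecGrp.GMod.IsCompat ρA ρM) : (prodGMod (cEquiv A M) ρA ρM).IsMult := by
  intro B _ _ g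
  constructor
  · intro x y
    apply (eB (cEquiv A M) B).injective
    rw [eB_prodGMod, eB_mul, eB_mul, eB_prodGMod, eB_prodGMod]
    simp only []
    rw [(hρ B g).1, map_add, hc, hc]
  · apply (eB (cEquiv A M) B).injective
    rw [eB_prodGMod]
    have h1 : eB (cEquiv (k := k) A M) B (1 : B ⊗[k] TrivSqZeroExt A M) = (1, 0) := by
      rw [Algebra.TensorProduct.one_def, eB_tmul]
      simp only [cEquiv_fst, cEquiv_snd, TrivSqZeroExt.fst_one, TrivSqZeroExt.snd_one,
        TensorProduct.tmul_zero]
      rfl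
    rw [h1]
    simp only [(hρ B g).2, map_zero]

theorem finiteType_tsze [Algebra.FiniteType k A] [Module.Finite A M] :
    Algebra.FiniteType k (TrivSqZeroExt A M) := by
  haveI : Module.Finite A (TrivSqZeroExt A M) := inferInstanceAs (Module.Finite A (A × M))
  haveI : Algebra.FiniteType A (TrivSqZeroExt A M) := inferInstance
  exact Algebra.FiniteType.trans (S := A) inferInstance inferInstance

set_option maxHeartbeats 1000000 in
/-- **Nagata's trick**: if invariants of finitely generated algebras are finitely generated, then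
invariants of finite modules are finite over the invariants of the algebra. -/
theorem fg_fixedUnder
    (hfg : ∀ (R : Type u) [CommRing R] [Algebra k R] (ρ : VecGrp.GMod G R), ρ.IsMult →
      Algebra.FiniteType k R → VecGrp.AdjoinFG k (ρ.fixedUnder (𝟙 G) : Set R))
    [Algebra.FiniteType k A] [Module.Finite A M]
    (ρA : VecGrp.GMod G A) (hρ : ρA.IsMult) (ρM : VecGrp.GMod G M)
    (hc : VecGrp.GMod.IsCompat ρA ρM) :
    ∃ s : Finset M, (↑s : Set M) ⊆ ρM.fixedUnder (𝟙 G) ∧
      ρM.fixedUnder (𝟙 G) ≤
        (Submodule.span ↥(ρA.fixedSubalgebra hρ (𝟙 G)) (↑s : Set M)).restrictScalars k := by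
  classical
  obtain ⟨s, hs1, hs2⟩ := hfg (TrivSqZeroExt A M) (prodGMod (cEquiv A M) ρA ρM)
    (isMult_prod ρA hρ ρM hc) finiteType_tsze
  refine ⟨s.image TrivSqZeroExt.snd, ?_, ?_⟩
  · intro m hm
    rw [Finset.coe_image] at hm
    obtain ⟨r, hr, rfl⟩ := hm
    exact ((mem_fixedUnder_prodGMod (cEquiv A M) ρA ρM (𝟙 G) r).1 (hs1 hr)).2
  · intro m hm
    have h0 : (TrivSqZeroExt.inr m : TrivSqZeroExt A M) ∈
        (prodGMod (cEquiv A M) ρA ρM).fixedUnder (𝟙 G) := by
      rw [mem_fixedUnder_prodGMod]
      refine ⟨?_, ?_⟩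
      · rw [cEquiv_fst, TrivSqZeroExt.fst_inr]
        exact Submodule.zero_mem _
      · rw [cEquiv_snd, TrivSqZeroExt.snd_inr]
        exact hm
    have h1 := hs2 h0
    have key : ∀ r ∈ Algebra.adjoin k (↑s : Set (TrivSqZeroExt A M)),
        r.fst ∈ ρA.fixedSubalgebra hρ (𝟙 G) ∧
        r.snd ∈ Submodule.span ↥(ρA.fixedSubalgebra hρ (𝟙 G))
          (↑(s.image TrivSqZeroExt.snd) : Set M) := by
      intro r hr
      induction hr using Algebra.adjoin_induction with
      | mem r hr =>
        refine ⟨?_, ?_⟩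
        · exact ((mem_fixedUnder_prodGMod (cEquiv A M) ρA ρM (𝟙 G) r).1 (hs1 hr)).1
        · apply Submodule.subset_span
          rw [Finset.coe_image]
          exact ⟨r, hr, rfl⟩
      | algebraMap c =>
        refine ⟨?_, ?_⟩
        · rw [TrivSqZeroExt.algebraMap_eq_inl', TrivSqZeroExt.fst_inl]
          exact Subalgebra.algebraMap_mem _ c
        · rw [TrivSqZeroExt.algebraMap_eq_inl', TrivSqZeroExt.snd_inl]
          exact Submodule.zero_mem _
      | add r r' _ _ hr hr' =>
        refine ⟨?_, ?_⟩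
        · rw [TrivSqZeroExt.fst_add]
          exact Subalgebra.add_mem _ hr.1 hr'.1
        · rw [TrivSqZeroExt.snd_add]
          exact Submodule.add_mem _ hr.2 hr'.2
      | mul r r' _ _ hr hr' =>
        refine ⟨?_, ?_⟩
        · rw [TrivSqZeroExt.fst_mul]
          exact Subalgebra.mul_mem _ hr.1 hr'.1
        · rw [TrivSqZeroExt.snd_mul]
          refine Submodule.add_mem _ ?_ ?_
          · exact Submodule.smul_mem _ (⟨r.fst, hr.1⟩ : ↥(ρA.fixedSubalgebra hρ (𝟙 G))) hr'.2
          · exact Submodule.smul_mem _ (⟨r'.fst, hr'.1⟩ : ↥(ρA.fixedSubalgebra hρ (𝟙 G))) hr.2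
    have h2 := (key _ h1).2
    rw [TrivSqZeroExt.snd_inr] at h2
    exact h2

end Tsze

end Groth.Agent.Lib.Helper29.Nag
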