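import Mathlib
import Groth.Prelude.Def_W4bk4grossh1223Act

/-! Invariants of an integrally closed domain are integrally closed (helper29, for S11231). -/

set_option autoImplicit false
universe u
open CategoryTheory MonObj AlgebraicGeometry
open scoped TensorProduct

namespace Groth.Agent.Lib.Helper29.Nag

open VecGrp

/-- a subring (given by an injective ring map) of an integrally closed domain which is closed under
exact division is integrally closed. -/
theorem isIntegrallyClosed_of_injective {S A : Type*} [CommRing S] [CommRing A] [IsDomain A]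
    [IsIntegrallyClosed A] (inc : S →+* A) (hinc : Function.Injective inc)
    (hS : ∀ x : A, ∀ s1 s2 : S, inc s2 ≠ 0 → inc s2 * x = inc s1 → x ∈ Set.range inc) :
    IsIntegrallyClosed S := by
  haveI : IsDomain S := Function.Injective.isDomain inc hinc
  rw [isIntegrallyClosed_iff (FractionRing S)]
  intro x hx
  let g : S →+* FractionRing A := (algebraMap A (FractionRing A)).comp inc
  have hg : Function.Injective g :=
    (IsFractionRing.injective A (FractionRing A)).comp hinc
  let j : FractionRing S →+* FractionRing A := IsFractionRing.lift hg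
  have hj : ∀ s : S, j (algebraMap S (FractionRing S) s) = g s := fun s =>
    IsFractionRing.lift_algebraMap hg s
  have hint : IsIntegral A (j x) := by
    refine IsIntegral.map_of_comp_eq inc j ?_ hx
    ext s
    exact (hj s).symm
  obtain ⟨a, ha⟩ := IsIntegrallyClosed.isIntegral_iff.1 hint
  obtain ⟨s1, s2, rfl⟩ := IsLocalization.exists_mk'_eq (nonZeroDivisors S) x
  have h1 : IsLocalization.mk' (FractionRing S) s1 s2 * algebraMap S (FractionRing S) s2 =
      algebraMap S (FractionRing S) s1 := IsLocalization.mk'_spec _ _ _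
  have h2 := congrArg j h1
  rw [map_mul, hj, hj, ← ha] at h2
  have h3 : a * inc (s2 : S) = inc s1 := by
    apply IsFractionRing.injective A (FractionRing A)
    rw [map_mul]
    exact h2
  have hs2 : inc (s2 : S) ≠ 0 := by
    intro h0
    have : (s2 : S) = 0 := hinc (h0.trans (map_zero inc).symm)
    exact nonZeroDivisors.coe_ne_zero s2 this
  obtain ⟨a', rfl⟩ := hS a s1 s2 hs2 (by rw [_root_.mul_comm]; exact h3)
  refine ⟨a', ?_⟩
  apply j.injective
  rw [hj, ← ha]
  rfl

section Cancel

variable {k : Type u} [Field k] {A : Type u} [CommRing A] [Algebra k A] [IsDomain A]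

theorem one_tmul_mul_cancel (B : Type u) [CommRing B] [Algebra k B] (s : A) (hs : s ≠ 0)
    (z z' : B ⊗[k] A) (h : ((1 : B) ⊗ₜ[k] s) * z = ((1 : B) ⊗ₜ[k] s) * z') : z = z' := by
  have hinj : Function.Injective (LinearMap.lTensor B (LinearMap.mulLeft k s)) :=
    Module.Flat.lTensor_preserves_injective_linearMap _ (fun a b hab => mul_left_cancel₀ hs hab)
  have hmul : ∀ w : B ⊗[k] A, ((1 : B) ⊗ₜ[k] s) * w = LinearMap.lTensor B (LinearMap.mulLeft k s) w := by
    intro w
    induction w using TensorProduct.induction_on with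
    | zero => simp
    | tmul b a =>
      rw [Algebra.TensorProduct.tmul_mul_tmul, _root_.one_mul, LinearMap.lTensor_tmul]
      rfl
    | add x y hx hy => rw [mul_add, hx, hy, map_add]
  apply hinj
  rw [← hmul, ← hmul, h]

end Cancel

section Fixed

variable {k : Type u} [Field k] {G H : Over (Spec (CommRingCat.of k))} [GrpObj G] [GrpObj H]
  {A : Type u} [CommRing A] [Algebra k A] [IsDomain A] [IsIntegrallyClosed A]
  (ρ : VecGrp.GMod G A) (hρ : ρ.IsMult) (i : H ⟶ G)

theorem isIntegrallyClosed_fixedSubalgebra : IsIntegrallyClosed ↥(ρ.fixedSubalgebra hρ i) := by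
  refine isIntegrallyClosed_of_injective (ρ.fixedSubalgebra hρ i).val.toRingHom
    Subtype.val_injective ?_
  intro x s1 s2 hs2 hx
  have hx' : (s2 : A) * x = (s1 : A) := hx
  have hs2' : (s2 : A) ≠ 0 := hs2
  refine ⟨⟨x, ?_⟩, rfl⟩
  intro B _ _ h
  apply one_tmul_mul_cancel B (s2 : A) hs2'
  have e1 : ((1 : B) ⊗ₜ[k] (s2 : A)) * ((1 : B) ⊗ₜ[k] x) = (1 : B) ⊗ₜ[k] (s1 : A) := by
    rw [Algebra.TensorProduct.tmul_mul_tmul, _root_.one_mul, hx']
  have e2 := (hρ B (h ≫ i)).1 ((1 : B) ⊗ₜ[k] (s2 : A)) ((1 : B) ⊗ₜ[k] x)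
  rw [e1, s1.2 B h, s2.2 B h] at e2
  rw [← e2, e1]

end Fixed

end Groth.Agent.Lib.Helper29.Nag
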