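import Groth.Agent.Lib.Helper29.NormGlue
universe u
open CategoryTheory CategoryTheory.Limits AlgebraicGeometry TopologicalSpace Opposite

namespace Groth.Agent.Lib.Helper29.QCoh

namespace NilNorm

theorem add_pow_of_natCast_eq_zero {R : Type*} [CommRing R] (p : ℕ) (hp : p.Prime)
    (h : (p : R) = 0) (x y : R) (e : ℕ) : (x + y) ^ (p ^ e) = x ^ (p ^ e) + y ^ (p ^ e) := by
  rcases subsingleton_or_nontrivial R with hR | hR
  · exact Subsingleton.elim _ _
  · haveI : CharP R p := (CharP.charP_iff_prime_eq_zero hp).2 h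
    haveI : Fact p.Prime := ⟨hp⟩
    exact add_pow_char_pow x y p e

theorem pow_eq_zero_of_isNilpotent_away {R S : Type*} [CommRing R] [CommRing S] [Algebra R S]
    (g : R) [IsLocalization.Away g S] (n : ℕ)
    (hR : ∀ r : R, IsNilpotent r → r ^ n = 0) (s : S) (hs : IsNilpotent s) : s ^ n = 0 := by
  obtain ⟨⟨a, ⟨_, k, rfl⟩⟩, h⟩ := IsLocalization.surj (Submonoid.powers g) s
  simp only at h
  have hgu : IsUnit (algebraMap R S g) := IsLocalization.Away.algebraMap_isUnit g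
  obtain ⟨N, hN⟩ := hs
  have h1 : algebraMap R S (a ^ N) = 0 := by
    rw [map_pow, ← h, mul_pow, hN, zero_mul]
  obtain ⟨⟨_, j, rfl⟩, hj⟩ := (IsLocalization.map_eq_zero_iff (Submonoid.powers g) S (a ^ N)).mp h1
  simp only at hj
  have h2 : IsNilpotent (g * a) := by
    refine ⟨j + N, ?_⟩
    calc (g * a) ^ (j + N) = g ^ N * (g ^ j * a ^ N) * a ^ j := by ring
      _ = 0 := by rw [hj, mul_zero, zero_mul]
  have h3 := hR _ h2
  have h4 : algebraMap R S a ^ n = 0 := by
    have := congrArg (algebraMap R S) h3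
    rw [map_pow, map_mul, mul_pow, map_zero] at this
    exact (hgu.pow n).mul_right_eq_zero.mp this
  have h5 : s ^ n * (algebraMap R S (g ^ k)) ^ n = 0 := by
    rw [← mul_pow, h, h4]
  have hgk : IsUnit ((algebraMap R S (g ^ k)) ^ n) := by
    rw [map_pow]
    exact (hgu.pow k).pow n
  exact hgk.mul_left_eq_zero.mp h5

variable (X : Scheme.{u})

/-- Affine opens on which every nilpotent function has vanishing `q`-th power. -/
def IsGoodN (q : ℕ) (V : X.Opens) : Prop :=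
  IsAffineOpen V ∧ ∀ ν : Γ(X, V), IsNilpotent ν → ν ^ q = 0

variable {X}

theorem isGoodN_basicOpen {q : ℕ} {V : X.Opens} (hV : IsGoodN X q V) (f : Γ(X, V)) :
    IsGoodN X q (X.basicOpen f) := by
  refine ⟨hV.1.basicOpen f, ?_⟩
  letI : Algebra Γ(X, V) Γ(X, X.basicOpen f) :=
    (X.presheaf.map (homOfLE (X.basicOpen_le f)).op).hom.toAlgebra
  haveI : IsLocalization.Away f Γ(X, X.basicOpen f) := hV.1.isLocalization_basicOpen f
  exact fun ν hν => pow_eq_zero_of_isNilpotent_away f q hV.2 ν hν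

theorem exists_isGoodN [IsNoetherian X] :
    ∃ n : ℕ, ∀ q : ℕ, n ≤ q → ∀ (W : X.Opens) (x : X), x ∈ W →
      ∃ V, IsGoodN X q V ∧ x ∈ V ∧ V ≤ W := by
  classical
  have hex : ∀ U : X.affineOpens, ∃ k : ℕ, ∀ ν : Γ(X, U.1), IsNilpotent ν → ν ^ k = 0 := by
    intro U
    haveI : IsNoetherianRing Γ(X, U.1) := IsLocallyNoetherian.component_noetherian U
    obtain ⟨k, hk⟩ := IsNoetherianRing.isNilpotent_nilradical Γ(X, U.1)
    refine ⟨k, fun ν hν => ?_⟩
    have : ν ^ k ∈ nilradical Γ(X, U.1) ^ k := Ideal.pow_mem_pow (mem_nilradical.mpr hν) k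
    rw [hk] at this
    exact this
  choose ex hexp using hex
  obtain ⟨t, ht⟩ := isCompact_univ.elim_finite_subcover
    (fun U : X.affineOpens => ((U.1 : X.Opens) : Set X)) (fun U => U.1.2) (by
      intro x _
      obtain ⟨U, hU, hxU, -⟩ := Opens.isBasis_iff_nbhd.mp X.isBasis_affineOpens
        (show x ∈ (⊤ : X.Opens) from trivial)
      exact Set.mem_iUnion.mpr ⟨⟨U, hU⟩, hxU⟩)
  refine ⟨∑ U ∈ t, ex U, fun q hq W x hxW => ?_⟩
  obtain ⟨U, hU⟩ := Set.mem_iUnion.mp (ht (Set.mem_univ x))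
  obtain ⟨hUt, hxU⟩ := Set.mem_iUnion.mp hU
  have hUgood : IsGoodN X q U.1 := by
    refine ⟨U.2, fun ν hν => ?_⟩
    have hle : ex U ≤ q := (Finset.single_le_sum (fun _ _ => Nat.zero_le _) hUt).trans hq
    exact pow_eq_zero_of_le hle (hexp U ν hν)
  obtain ⟨f, hfW, hxf⟩ := U.2.exists_basicOpen_le (V := W) ⟨x, hxW⟩ hxU
  exact ⟨X.basicOpen f, isGoodN_basicOpen hUgood f, hxf, hfW⟩

variable (X)

open scoped Classical in
/-- the local "norm" for `X_red ⟶ X`: lift and raise to the `q`-th power -/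
noncomputable def nilNorm (q : ℕ) (V : X.Opens)
    (s : Γ(X.nilradical.subscheme, X.nilradical.subschemeι ⁻¹ᵁ V)) : Γ(X, V) :=
  if h : ∃ a : Γ(X, V), (X.nilradical.subschemeι.app V).hom a = s then h.choose ^ q else 0

variable {X}

theorem natCast_eq_zero_of_top {p : ℕ} (hpX : (p : Γ(X, ⊤)) = 0) (V : X.Opens) :
    (p : Γ(X, V)) = 0 := by
  have := congrArg (X.presheaf.map (homOfLE (le_top : V ≤ ⊤)).op).hom hpX
  rwa [map_natCast, map_zero] at this

theorem nilNorm_eq {p : ℕ} (hp : p.Prime) (hpX : (p : Γ(X, ⊤)) = 0) (e : ℕ) {V : X.Opens}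
    (hV : IsGoodN X (p ^ e) V) (a : Γ(X, V)) :
    nilNorm X (p ^ e) V ((X.nilradical.subschemeι.app V).hom a) = a ^ (p ^ e) := by
  have h : ∃ a' : Γ(X, V), (X.nilradical.subschemeι.app V).hom a' =
      (X.nilradical.subschemeι.app V).hom a := ⟨a, rfl⟩
  rw [nilNorm, dif_pos h]
  have hc := h.choose_spec
  set a' := h.choose
  have hker : a - a' ∈ RingHom.ker (X.nilradical.subschemeι.app V).hom := by
    rw [RingHom.mem_ker, map_sub, hc, sub_self]
  have hker' : a - a' ∈ X.nilradical.ideal ⟨V, hV.1⟩ := by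
    rw [← X.nilradical.ker_subschemeι_app ⟨V, hV.1⟩]
    exact hker
  have hnil : IsNilpotent (a - a') := by
    have : a - a' ∈ nilradical Γ(X, V) := hker'
    exact mem_nilradical.mp this
  have h0 := hV.2 _ hnil
  have := add_pow_of_natCast_eq_zero p hp (natCast_eq_zero_of_top hpX V) a' (a - a') e
  rw [add_sub_cancel, h0, add_zero] at this
  exact this.symm

theorem hasNorm_nilradical [IsNoetherian X] (p : ℕ) (hp : p.Prime)
    (hpX : (p : Γ(X, ⊤)) = 0) : ∃ e : ℕ, 0 < e ∧ Nrm.HasNorm X.nilradical.subschemeι (p ^ e) := by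
  obtain ⟨n, hn⟩ := exists_isGoodN (X := X)
  have hq : n ≤ p ^ (n + 1) := (Nat.le_succ n).trans (Nat.lt_pow_self hp.one_lt).le
  refine ⟨n + 1, Nat.succ_pos n, ?_⟩
  have hsurj : ∀ V, IsGoodN X (p ^ (n + 1)) V →
      Function.Surjective (X.nilradical.subschemeι.app V).hom := fun V hV =>
    X.nilradical.subschemeι_app_surjective ⟨V, hV.1⟩
  refine NormGlue.hasNorm_of_local X.nilradical.subschemeι (IsGoodN X (p ^ (n + 1)))
    (hn _ hq) (nilNorm X (p ^ (n + 1))) ?_ (p ^ (n + 1)) (Nat.one_le_pow _ _ hp.pos) ?_ ?_ ?_ ?_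
  · intro V D hV hD h s
    obtain ⟨a, rfl⟩ := hsurj V hV s
    rw [NormGlue.resZ_app, nilNorm_eq hp hpX _ hV, nilNorm_eq hp hpX _ hD, map_pow]
  · intro V hV
    have := nilNorm_eq hp hpX (n + 1) hV 1
    rwa [map_one, one_pow] at this
  · intro V hV s t
    obtain ⟨a, rfl⟩ := hsurj V hV s
    obtain ⟨b, rfl⟩ := hsurj V hV t
    rw [← map_mul, nilNorm_eq hp hpX _ hV, nilNorm_eq hp hpX _ hV, nilNorm_eq hp hpX _ hV, mul_pow]
  · intro V hV g
    exact nilNorm_eq hp hpX _ hV g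
  · intro V hV s x hx hs
    obtain ⟨a, rfl⟩ := hsurj V hV s
    rw [nilNorm_eq hp hpX _ hV, IsLocalRing.mem_maximalIdeal, mem_nonunits_iff, map_pow]
    intro hu
    have hu' : IsUnit (X.presheaf.germ V (X.nilradical.subschemeι.base x) hx a) :=
      (isUnit_pow_iff (Nat.pos_iff_ne_zero.mp (Nat.one_le_pow _ _ hp.pos))).mp hu
    have h1 := hu'.map (X.nilradical.subschemeι.stalkMap x).hom
    have h2 : (X.nilradical.subschemeι.stalkMap x).hom
        (X.presheaf.germ V (X.nilradical.subschemeι.base x) hx a) =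
        X.nilradical.subscheme.presheaf.germ (X.nilradical.subschemeι ⁻¹ᵁ V) x hx
          ((X.nilradical.subschemeι.app V).hom a) :=
      Scheme.Hom.germ_stalkMap_apply X.nilradical.subschemeι V x hx _
    rw [h2] at h1
    rw [IsLocalRing.mem_maximalIdeal, mem_nonunits_iff] at hs
    exact hs h1

end NilNorm

end Groth.Agent.Lib.Helper29.QCoh
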