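import Groth.Agent.Lib.Helper29.FinCov10
import Groth.Agent.Lib.Helper3.SubShExt
universe u
open CategoryTheory CategoryTheory.Limits AlgebraicGeometry TopologicalSpace Opposite

/-! # Quasi-affineness descends along finite surjective morphisms carrying a norm -/

namespace Groth.Agent.Lib.Helper29.QCoh.QAff

variable {X Y : Scheme.{u}}

/-- A weak norm for `π`: multiplicative maps on sections compatible with restriction and sending
functions vanishing at a point to functions vanishing at its image. -/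
structure WeakNorm (π : X ⟶ Y) where
  norm : ∀ U : Y.Opens, Γ(X, π ⁻¹ᵁ U) →* Γ(Y, U)
  norm_res : ∀ {U V : Y.Opens} (i : V ⟶ U) (s : Γ(X, π ⁻¹ᵁ U)),
    Y.presheaf.map i.op (norm U s) = norm V (X.presheaf.map ((Opens.map π.base).map i).op s)
  norm_mem : ∀ (U : Y.Opens) (s : Γ(X, π ⁻¹ᵁ U)) (x : X) (hx : π.base x ∈ U),
    X.presheaf.germ (π ⁻¹ᵁ U) x hx s ∈ IsLocalRing.maximalIdeal (X.presheaf.stalk x) →
      Y.presheaf.germ U (π.base x) hx (norm U s) ∈
        IsLocalRing.maximalIdeal (Y.presheaf.stalk (π.base x))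

/-- A norm of some degree is a weak norm. -/
def WeakNorm.ofNorm {π : X ⟶ Y} {d : ℕ} (N : Nrm.NormOfDegree π d) : WeakNorm π where
  norm := N.norm
  norm_res := N.norm_res
  norm_mem := N.norm_mem

/-- A morphism with closed image carrying a norm of positive degree is surjective. -/
theorem surjective_of_norm {π : X ⟶ Y} {d : ℕ} (N : Nrm.NormOfDegree π d)
    (hcl : IsClosed (Set.range π.base)) : Function.Surjective π.base := by
  intro y
  by_contra hy
  let U : Y.Opens := ⟨(Set.range π.base)ᶜ, hcl.isOpen_compl⟩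
  have hyU : y ∈ U := fun ⟨x, hx⟩ => hy ⟨x, hx⟩
  have hU : π ⁻¹ᵁ U = ⊥ := by
    ext x
    simp only [Opens.coe_bot, Set.mem_empty_iff_false, iff_false]
    intro hx
    exact hx ⟨x, rfl⟩
  have h0 : (1 : Γ(X, π ⁻¹ᵁ U)) = 0 := by
    have : Subsingleton Γ(X, π ⁻¹ᵁ U) := by
      rw [hU]
      infer_instance
    exact Subsingleton.elim _ _
  have h1 : (1 : Γ(Y, U)) = 0 := by
    have e1 := N.norm_app U 0
    rw [map_zero, zero_pow (by have := N.one_le; omega), ← h0, map_one] at e1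
    exact e1
  have h2 := congrArg (Y.presheaf.germ U y hyU).hom h1
  rw [map_one, map_zero] at h2
  exact one_ne_zero h2

/-- **Quasi-affineness descends** along a finite surjective morphism carrying a weak norm. -/
theorem isQuasiAffine_of_weakNorm (π : X ⟶ Y) [IsFinite π] (hsurj : Function.Surjective π.base)
    (N : WeakNorm π) [X.IsQuasiAffine] : Y.IsQuasiAffine := by
  classical
  have : CompactSpace Y := ⟨by
    have := isCompact_range π.continuous
    rwa [hsurj.range_eq] at this⟩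
  refine Scheme.IsQuasiAffine.of_forall_exists_mem_basicOpen Y fun y => ?_
  obtain ⟨V, hV, hyV, -⟩ := Opens.isBasis_iff_nbhd.mp Y.isBasis_affineOpens (Opens.mem_top y)
  have hfin : (π.base ⁻¹' {y}).Finite := π.finite_preimage_singleton y
  obtain ⟨x₀, hx₀⟩ := hsurj y
  let I : Ideal Γ(X, ⊤) :=
    { carrier := {b | X.basicOpen b ≤ π ⁻¹ᵁ V}
      add_mem' := fun {a b} ha hb => (X.basicOpen_add_le a b).trans (sup_le ha hb)
      zero_mem' := by
        change X.basicOpen (0 : Γ(X, ⊤)) ≤ _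
        rw [Scheme.basicOpen_zero]
        exact bot_le
      smul_mem' := fun c {b} hb => by
        change X.basicOpen (c * b) ≤ _
        rw [Scheme.basicOpen_mul]
        exact inf_le_right.trans hb }
  let p : X → Ideal Γ(X, ⊤) := fun x =>
    Ideal.comap (X.presheaf.germ ⊤ x trivial).hom (IsLocalRing.maximalIdeal (X.presheaf.stalk x))
  have hp : ∀ x, (p x).IsPrime := fun x => Ideal.comap_isPrime _ _
  have hmemp : ∀ (x : X) (b : Γ(X, ⊤)), b ∈ p x ↔ x ∉ X.basicOpen b := by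
    intro x b
    rw [Scheme.mem_basicOpen _ b x trivial]
    change (X.presheaf.germ ⊤ x trivial).hom b ∈ IsLocalRing.maximalIdeal _ ↔ _
    rw [IsLocalRing.mem_maximalIdeal, mem_nonunits_iff]
  have hnot : ¬ ((I : Set Γ(X, ⊤)) ⊆ ⋃ x ∈ π.base ⁻¹' {y}, (p x : Set Γ(X, ⊤))) := by
    rw [Ideal.subset_union_prime_finite hfin x₀ x₀ (fun x _ _ _ => hp x)]
    rintro ⟨x, hx, hIx⟩
    have hxV : x ∈ π ⁻¹ᵁ V := by
      change π.base x ∈ V
      rw [show π.base x = y from hx]
      exact hyV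
    obtain ⟨_, ⟨r, hr, rfl⟩, hxr, hrV⟩ :=
      Opens.isBasis_iff_nbhd.mp (Scheme.IsQuasiAffine.isBasis_basicOpen X) hxV
    have h1 : r ∈ p x := hIx hrV
    exact ((hmemp x r).mp h1) hxr
  obtain ⟨b, hbI, hb⟩ := Set.not_subset.mp hnot
  have hbV : X.basicOpen b ≤ π ⁻¹ᵁ V := hbI
  have hbx : ∀ x, π.base x = y → x ∈ X.basicOpen b := by
    intro x hx
    by_contra hcon
    exact hb (Set.mem_biUnion (show x ∈ π.base ⁻¹' {y} from hx) ((hmemp x b).mpr hcon))
  let g : Γ(Y, ⊤) := N.norm ⊤ (show Γ(X, π ⁻¹ᵁ ⊤) from b)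
  have hgV : Y.basicOpen g ≤ V := by
    intro y' hy'
    by_contra hV'
    obtain ⟨x', rfl⟩ := hsurj y'
    have hx'b : x' ∉ X.basicOpen b := fun h => hV' (hbV h)
    have h1 : X.presheaf.germ (π ⁻¹ᵁ ⊤) x' trivial (show Γ(X, π ⁻¹ᵁ ⊤) from b) ∈
        IsLocalRing.maximalIdeal (X.presheaf.stalk x') := (hmemp x' b).mpr hx'b
    have h2 := N.norm_mem ⊤ (show Γ(X, π ⁻¹ᵁ ⊤) from b) x' trivial h1
    rw [IsLocalRing.mem_maximalIdeal, mem_nonunits_iff] at h2
    exact h2 ((Scheme.mem_basicOpen _ g (π.base x') trivial).mp hy')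
  have hyg : y ∈ Y.basicOpen g := by
    have hcl : IsClosed (π.base '' ((X.basicOpen b : Set X)ᶜ)) :=
      π.isClosedMap _ (X.basicOpen b).2.isClosed_compl
    let U : Y.Opens := ⟨(π.base '' ((X.basicOpen b : Set X)ᶜ))ᶜ, hcl.isOpen_compl⟩
    have hyU : y ∈ U := by
      rintro ⟨x, hx, hxy⟩
      exact hx (hbx x hxy)
    have hUb : π ⁻¹ᵁ U ≤ X.basicOpen b := by
      intro x hx
      by_contra hcon
      exact hx ⟨x, hcon, rfl⟩
    have hu : IsUnit (X.presheaf.map (homOfLE (le_top : π ⁻¹ᵁ U ≤ ⊤)).op b) :=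
      Groth.Agent.Lib.Helper3.SubSh.isUnit_res_of_le_basicOpen b le_top hUb
    have hu2 := hu.map (N.norm U)
    have h3 := N.norm_res (homOfLE (le_top : U ≤ ⊤)) (show Γ(X, π ⁻¹ᵁ ⊤) from b)
    have h4 : IsUnit (Y.presheaf.map (homOfLE (le_top : U ≤ ⊤)).op g) := by
      rw [show Y.presheaf.map (homOfLE (le_top : U ≤ ⊤)).op g = _ from h3]
      exact hu2
    rw [Scheme.mem_basicOpen _ g y trivial]
    have h5 := h4.map (Y.presheaf.germ U y hyU).hom
    rwa [TopCat.Presheaf.germ_res_apply] at h5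
  refine ⟨g, ?_, hyg⟩
  have h6 : Y.basicOpen (Y.presheaf.map (homOfLE (le_top : V ≤ ⊤)).op g) = Y.basicOpen g := by
    rw [Scheme.basicOpen_res]
    exact inf_eq_right.mpr hgV
  rw [← h6]
  exact hV.basicOpen _

theorem isQuasiAffine_of_hasNorm (π : X ⟶ Y) [IsFinite π] (d : ℕ) (hN : Nrm.HasNorm π d)
    (hX : X.IsQuasiAffine) : Y.IsQuasiAffine := by
  obtain ⟨N⟩ := hN
  exact isQuasiAffine_of_weakNorm π
    (surjective_of_norm N π.isClosedMap.isClosed_range) (WeakNorm.ofNorm N)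

end Groth.Agent.Lib.Helper29.QCoh.QAff
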