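import Groth.Agent.Lib.Helper29.Glue1
import Groth.Agent.Lib.Helper29.QAff1
import Groth.Agent.Lib.Helper29.IntegInv
import Groth.Agent.Lib.Helper29.QCohExt
import Groth.Agent.Lib.Helper29.QCohGen
universe u
open CategoryTheory CategoryTheory.Limits AlgebraicGeometry TopologicalSpace Opposite

/-! # The norm of an invertible module along a finite morphism carrying a norm -/

namespace Groth.Agent.Lib.Helper29.NormB
open Groth.Agent.Lib.Helper29.QCoh Groth.Agent.Lib.Helper29.QCoh.Glue
open Groth.Agent.Lib.Helper29.QCoh.QAff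

variable {X Y : Scheme.{u}} (π : X ⟶ Y) (N : WeakNorm π)

theorem norm_rres {U V : Y.Opens} (h : V ≤ U) (s : Γ(X, π ⁻¹ᵁ U)) :
    rres Y h (N.norm U s) = N.norm V (rres X (π.preimage_mono h) s) :=
  N.norm_res (homOfLE h) s

/-- A norm of the invertible module `L`: an invertible module on `Y` with trivialisations over a
cover whose transition functions are the norms of those of `L`. -/
structure NBundle (L : X.Modules) where
  M : Y.Modules
  hM : PicF.IsInvertible M
  W : Y → Y.Opens
  hW : ∀ y, y ∈ W y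
  e : ∀ y, Γ(L, π ⁻¹ᵁ W y)
  he : ∀ y, IsTriv L (π ⁻¹ᵁ W y) (e y)
  ε : ∀ y, Γ(M, W y)
  hε : ∀ y, IsTriv M (W y) (ε y)
  tr : ∀ (i j : Y) (Z : Y.Opens) (hi : Z ≤ W i) (hj : Z ≤ W j) (v : Γ(X, π ⁻¹ᵁ Z)),
    res L (π.preimage_mono hj) (e j) = v • res L (π.preimage_mono hi) (e i) →
    res M hj (ε j) = N.norm Z v • res M hi (ε i)

variable {L : X.Modules}

theorem exists_nBundle [IsFinite π] (hL : PicF.IsInvertible L) : Nonempty (NBundle π N L) := by
  have key : ∀ y : Y, ∃ (W : Y.Opens) (e : Γ(L, π ⁻¹ᵁ W)), y ∈ W ∧ IsTriv L (π ⁻¹ᵁ W) e := by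
    intro y
    obtain ⟨V₀, hy, h0⟩ := exists_nhd_trivial_preimage_of_isFinite π hL y
    obtain ⟨s₀, hs₀⟩ := (nonempty_iso_unit_iff_exists_isTriv _).mp h0
    exact ⟨V₀, s₀, hy, hs₀⟩
  choose W e hW he using key
  have hu : ∀ i j, ∃ u : Γ(X, π ⁻¹ᵁ (W i ⊓ W j)),
      res L (π.preimage_mono inf_le_right) (e j) = u • res L (π.preimage_mono inf_le_left) (e i) :=
    fun i j => ((he i).restrict (π.preimage_mono inf_le_left)).exists_eq_smul _
  choose u hu using hu
  have hu' : ∀ i j (Z : Y.Opens) (hi : Z ≤ W i) (hj : Z ≤ W j),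
      res L (π.preimage_mono hj) (e j) =
        rres X (π.preimage_mono (le_inf hi hj)) (u i j) • res L (π.preimage_mono hi) (e i) := by
    intro i j Z hi hj
    have := congrArg (res L (π.preimage_mono (le_inf hi hj))) (hu i j)
    rw [res_res, res_smul', res_res] at this
    exact this
  let c : Cocycle W :=
    { g := fun i j => N.norm (W i ⊓ W j) (u i j)
      one := fun i => by
        have h1 : u i i = 1 := by
          apply ((he i).restrict (π.preimage_mono inf_le_left)).smul_left_cancel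
          rw [← hu i i, one_smul]
        rw [h1, map_one]
      mul := by
        intro i j k Z hi hj hk
        rw [norm_rres, norm_rres, norm_rres, ← map_mul]
        congr 1
        apply ((he i).restrict (π.preimage_mono hi)).smul_left_cancel
        rw [mul_comm, mul_smul, ← hu' i j Z hi hj, ← hu' j k Z hj hk, ← hu' i k Z hi hk] }
  obtain ⟨M, ε, hM, hε, htr⟩ := exists_invertible_of_cocycle (fun y => ⟨y, hW y⟩) c
  refine ⟨⟨M, hM, W, hW, e, he, ε, hε, ?_⟩⟩
  intro i j Z hi hj v hv
  have h1 : v = rres X (π.preimage_mono (le_inf hi hj)) (u i j) := by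
    apply ((he i).restrict (π.preimage_mono hi)).smul_left_cancel
    rw [← hv, ← hu' i j Z hi hj]
  have h2 := congrArg (res M (le_inf hi hj)) (htr i j)
  rw [res_res, res_smul', res_res] at h2
  rw [h2, h1]
  congr 1
  exact norm_rres π N (le_inf hi hj) (u i j)

end Groth.Agent.Lib.Helper29.NormB
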