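import Groth.Agent.Lib.Helper29.NormB1
universe u
open CategoryTheory CategoryTheory.Limits AlgebraicGeometry TopologicalSpace Opposite

namespace Groth.Agent.Lib.Helper29.NormB
open Groth.Agent.Lib.Helper29.QCoh Groth.Agent.Lib.Helper29.QCoh.Glue
open Groth.Agent.Lib.Helper29.QCoh.QAff

variable {X Y : Scheme.{u}} {π : X ⟶ Y} {N : WeakNorm π} {L : X.Modules}

/-- The norm of a section of a power of `L`, as a section of the same power of the norm of `L`. -/
theorem exists_norm_section [IsFinite π] (B : NBundle π N L) (hL : PicF.IsInvertible L) (k : ℕ)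
    (s : unitM X ⟶ CohB1.tensorPow L k) :
    ∃ t : unitM Y ⟶ CohB1.tensorPow B.M k,
      (∀ y : Y, (∀ x : X, π.base x = y → x ∈ CohB1.genLocus _ s) → y ∈ CohB1.genLocus _ t) ∧
      (∀ x : X, π.base x ∈ CohB1.genLocus _ t → x ∈ CohB1.genLocus _ s) := by
  classical
  haveI := isQuasicoherent_of_isInvertible hL
  haveI := isQuasicoherent_of_isInvertible B.hM
  have hex : ∀ i : Y, ∃ a : Γ(X, π ⁻¹ᵁ B.W i), sval s (π ⁻¹ᵁ B.W i) = a • epow L (B.e i) k :=
    fun i => ((B.he i).epow k).exists_eq_smul _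
  choose a ha using hex
  let tf : ∀ i : Y, Γ(CohB1.tensorPow B.M k, B.W i) :=
    fun i => N.norm (B.W i) (a i) • epow B.M (B.ε i) k
  have hcompat : ∀ i j, res (CohB1.tensorPow B.M k) (inf_le_left : B.W i ⊓ B.W j ≤ B.W i) (tf i) =
      res (CohB1.tensorPow B.M k) (inf_le_right : B.W i ⊓ B.W j ≤ B.W j) (tf j) := by
    intro i j
    obtain ⟨v, hv⟩ := ((B.he i).restrict
      (π.preimage_mono (inf_le_left : B.W i ⊓ B.W j ≤ B.W i))).exists_eq_smul
        (res L (π.preimage_mono (inf_le_right : B.W i ⊓ B.W j ≤ B.W j)) (B.e j))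
    have hε := B.tr i j (B.W i ⊓ B.W j) inf_le_left inf_le_right v hv
    have hrel : rres X (π.preimage_mono (inf_le_left : B.W i ⊓ B.W j ≤ B.W i)) (a i) =
        rres X (π.preimage_mono (inf_le_right : B.W i ⊓ B.W j ≤ B.W j)) (a j) * v ^ k := by
      apply (((B.he i).restrict
        (π.preimage_mono (inf_le_left : B.W i ⊓ B.W j ≤ B.W i))).epow k).smul_left_cancel
      have h1 := congrArg (res (CohB1.tensorPow L k)
        (π.preimage_mono (inf_le_left : B.W i ⊓ B.W j ≤ B.W i))) (ha i)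
      have h2 := congrArg (res (CohB1.tensorPow L k)
        (π.preimage_mono (inf_le_right : B.W i ⊓ B.W j ≤ B.W j))) (ha j)
      rw [res_sval, res_smul', res_epow] at h1 h2
      rw [← h1, h2, hv, epow_smul, smul_smul]
    change res _ _ (N.norm (B.W i) (a i) • epow B.M (B.ε i) k) =
      res _ _ (N.norm (B.W j) (a j) • epow B.M (B.ε j) k)
    rw [res_smul', res_smul', res_epow, res_epow, norm_rres, norm_rres, hrel, hε, epow_smul,
      smul_smul, map_mul, map_pow]
  obtain ⟨σ, hσ⟩ := exists_gluing (CohB1.tensorPow B.M k) B.W ⊤ (fun _ => le_top)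
    (fun y _ => Opens.mem_iSup.mpr ⟨y, B.hW y⟩) tf hcompat
  refine ⟨homOfSection _ σ, ?_, ?_⟩
  all_goals
    have hsv : ∀ i, sval (homOfSection (CohB1.tensorPow B.M k) σ) (B.W i) =
        N.norm (B.W i) (a i) • epow B.M (B.ε i) k := by
      intro i
      rw [← res_sval (homOfSection _ σ) (le_top : B.W i ≤ ⊤)]
      refine Eq.trans ?_ (hσ i)
      congr 1
      have := app_eq_smul_sval (homOfSection (CohB1.tensorPow B.M k) σ) ⊤ 1
      rw [one_smul, homOfSection_app_one] at this
      exact this.symm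
    have hYt : ∀ i, CohB1.genLocus _ (homOfSection (CohB1.tensorPow B.M k) σ) ⊓ B.W i =
        Y.basicOpen (N.norm (B.W i) (a i)) := fun i =>
      ((B.hε i).epow k).genLocus_inf _ _ (hsv i)
    have hXs : ∀ i, CohB1.genLocus _ s ⊓ π ⁻¹ᵁ B.W i = X.basicOpen (a i) := fun i =>
      ((B.he i).epow k).genLocus_inf s (a i) (ha i)
  · intro y hy
    have hC : IsClosed (π.base '' ((X.basicOpen (a y) : Set X))ᶜ) :=
      π.isClosedMap _ (X.basicOpen (a y)).isOpen.isClosed_compl
    have hyC : y ∉ π.base '' ((X.basicOpen (a y) : Set X))ᶜ := by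
      rintro ⟨x, hx, hxy⟩
      apply hx
      have : x ∈ CohB1.genLocus _ s ⊓ π ⁻¹ᵁ B.W y :=
        ⟨hy x hxy, show π.base x ∈ B.W y from hxy ▸ B.hW y⟩
      rw [hXs y] at this
      exact this
    let U : Y.Opens := B.W y ⊓ ⟨_, hC.isOpen_compl⟩
    have hyU : y ∈ U := ⟨B.hW y, hyC⟩
    have hUW : U ≤ B.W y := inf_le_left
    have hpre : π ⁻¹ᵁ U ≤ X.basicOpen (a y) := by
      intro x hx
      by_contra hxb
      exact hx.2 ⟨x, hxb, rfl⟩
    have hu1 : IsUnit (rres X (π.preimage_mono hUW) (a y)) :=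
      (isUnit_rres_iff (π.preimage_mono hUW) (a y)).mpr hpre
    have hu2 : IsUnit (rres Y hUW (N.norm (B.W y) (a y))) := by
      rw [norm_rres]
      exact hu1.map (N.norm U)
    have hUb := (isUnit_rres_iff hUW _).mp hu2
    have hmem : y ∈ CohB1.genLocus _ (homOfSection (CohB1.tensorPow B.M k) σ) ⊓ B.W y := by
      rw [hYt y]
      exact hUb hyU
    exact hmem.1
  · intro x hx
    have hmem : π.base x ∈ Y.basicOpen (N.norm (B.W (π.base x)) (a (π.base x))) := by
      rw [← hYt (π.base x)]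
      exact ⟨hx, B.hW _⟩
    have hxW : π.base x ∈ B.W (π.base x) := B.hW _
    have hxb : x ∈ X.basicOpen (a (π.base x)) := by
      by_contra hxb
      have hnu : ¬ IsUnit (X.presheaf.germ (π ⁻¹ᵁ B.W (π.base x)) x hxW (a (π.base x))) :=
        fun h => hxb ((X.mem_basicOpen _ x hxW).mpr h)
      have h1 := N.norm_mem (B.W (π.base x)) (a (π.base x)) x hxW
        ((IsLocalRing.mem_maximalIdeal _).mpr hnu)
      have h2 := (Y.mem_basicOpen _ (π.base x) hxW).mp hmem
      exact (IsLocalRing.mem_maximalIdeal _).mp h1 h2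
    have : x ∈ CohB1.genLocus _ s ⊓ π ⁻¹ᵁ B.W (π.base x) := by
      rw [hXs]
      exact hxb
    exact this.1

/-- **EGA II 6.6.1**: the norm of an ample invertible module is ample. -/
theorem isAmple_of_nBundle [IsFinite π] (hsurj : Function.Surjective π.base) (B : NBundle π N L)
    (hL : CohB1.IsAmple L) : CohB1.IsAmple B.M := by
  classical
  have hcX : CompactSpace X := hL.2.1
  have hcY : CompactSpace Y := by
    constructor
    rw [← Set.image_univ_of_surjective hsurj]
    exact isCompact_univ.image π.base.hom.continuous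
  haveI := isQuasicoherent_of_isInvertible B.hM
  refine ⟨B.hM, hcY, fun y => ?_⟩
  obtain ⟨V₀, e₀, hV₀, hyV₀, -, he₀⟩ := exists_affine_isTriv B.hM (W := ⊤) y trivial
  have hfin : (π.base ⁻¹' {y}).Finite := π.finite_preimage_singleton y
  obtain ⟨n, s, hZs, hsV₀⟩ := exists_genLocus_finite_subset hL (π.base ⁻¹' {y}) hfin
    (π ⁻¹ᵁ V₀) (fun x hx => by
      have : π.base x = y := hx
      show π.base x ∈ V₀
      rw [this]; exact hyV₀)
  obtain ⟨t, ht1, ht2⟩ := exists_norm_section B hL.1 (n + 1) s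
  refine ⟨n, t, ht1 y (fun x hx => hZs hx), ?_⟩
  have hle : CohB1.genLocus _ t ≤ V₀ := by
    intro z hz
    obtain ⟨x, rfl⟩ := hsurj z
    exact hsV₀ (ht2 x hz)
  obtain ⟨b, hb⟩ := (he₀.epow (n + 1)).exists_eq_smul (sval t V₀)
  have h1 := (he₀.epow (n + 1)).genLocus_inf t b hb
  rw [inf_eq_left.mpr hle] at h1
  rw [h1]
  exact hV₀.basicOpen b

/-- A finite morphism carrying a norm of positive degree: an ample module upstairs gives one
downstairs. -/
theorem exists_isAmple_of_hasNorm (π : X ⟶ Y) [IsFinite π] (d : ℕ) (hN : Nrm.HasNorm π d)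
    (L : X.Modules) (hL : CohB1.IsAmple L) : ∃ M : Y.Modules, CohB1.IsAmple M := by
  obtain ⟨Nd⟩ := hN
  have hsurj := surjective_of_norm Nd π.isClosedMap.isClosed_range
  obtain ⟨B⟩ := exists_nBundle π (WeakNorm.ofNorm Nd) hL.1
  exact ⟨B.M, isAmple_of_nBundle hsurj B hL⟩

end Groth.Agent.Lib.Helper29.NormB
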