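import Groth.Agent.Lib.Helper29.NormB2
import Groth.Agent.Lib.Helper29.Twist2
import Groth.Agent.Lib.Helper29.RelAmple
universe u
open CategoryTheory CategoryTheory.Limits AlgebraicGeometry TopologicalSpace Opposite

/-! # Restriction of norms and normed bundles to opens of the base; relative ampleness -/

namespace Groth.Agent.Lib.Helper29.NormB
open Groth.Agent.Lib.Helper29.QCoh Groth.Agent.Lib.Helper29.QCoh.Glue
open Groth.Agent.Lib.Helper29.QCoh.QAff

variable {X Y : Scheme.{u}}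

/-- Basic opens of an open subscheme. -/
theorem mem_basicOpen_toScheme (U : X.Opens) (V : U.toScheme.Opens) (r : Γ(X, U.ι ''ᵁ V))
    (x : U.toScheme) :
    x ∈ U.toScheme.basicOpen (U := V) r ↔ x.1 ∈ X.basicOpen r := by
  have h : U.ι ''ᵁ U.toScheme.basicOpen (U := V) r = X.basicOpen r := by
    have h0 := Scheme.image_basicOpen U.ι (U := V) r
    rw [Scheme.Opens.ι_appIso] at h0
    exact h0
  constructor
  · intro hx
    rw [← h]
    exact ⟨x, hx, rfl⟩
  · intro hx
    rw [← h] at hx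
    obtain ⟨x', hx', e⟩ := hx
    have : x' = x := Subtype.ext e
    rw [← this]
    exact hx'

theorem germ_mem_maximalIdeal_iff (X : Scheme.{u}) {U : X.Opens} (r : Γ(X, U)) (x : X)
    (hx : x ∈ U) :
    X.presheaf.germ U x hx r ∈ IsLocalRing.maximalIdeal (X.presheaf.stalk x) ↔
      x ∉ X.basicOpen r := by
  rw [IsLocalRing.mem_maximalIdeal, mem_nonunits_iff, X.mem_basicOpen r x hx]

variable (π : X ⟶ Y) (N : WeakNorm π) (U : Y.Opens)

/-- The restriction of a weak norm to an open of the base. -/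
noncomputable def restrictNorm : WeakNorm (π ∣_ U) where
  norm V :=
    (show Γ(X, (π ⁻¹ᵁ U).ι ''ᵁ ((π ∣_ U) ⁻¹ᵁ V)) →* Γ(Y, U.ι ''ᵁ V) from
      (N.norm (U.ι ''ᵁ V)).comp
        (rres X (image_morphismRestrict_preimage π U V).ge).toMonoidHom)
  norm_res := by
    intro V V' i s
    change Y.presheaf.map (U.ι.opensFunctor.map i).op
        (N.norm (U.ι ''ᵁ V) (rres X (image_morphismRestrict_preimage π U V).ge s)) =
      N.norm (U.ι ''ᵁ V') (rres X (image_morphismRestrict_preimage π U V').ge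
        (X.presheaf.map ((π ⁻¹ᵁ U).ι.opensFunctor.map
          ((Opens.map (π ∣_ U).base).map i)).op s))
    rw [N.norm_res]
    congr 1
    change (X.presheaf.map _ ≫ X.presheaf.map _).hom s = (X.presheaf.map _ ≫ X.presheaf.map _).hom s
    rw [← Functor.map_comp, ← Functor.map_comp]
    rfl
  norm_mem := by
    intro V s x hx hmem
    rw [germ_mem_maximalIdeal_iff] at hmem ⊢
    intro hcon
    apply hmem
    rw [mem_basicOpen_toScheme] at hcon ⊢
    have hx1 : π.base x.1 ∈ U.ι ''ᵁ V := by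
      refine ⟨(π ∣_ U) x, hx, ?_⟩
      exact morphismRestrict_base_coe π U x
    have hcon' : π.base x.1 ∈ Y.basicOpen
        (N.norm (U.ι ''ᵁ V) (rres X (image_morphismRestrict_preimage π U V).ge s)) := by
      have := morphismRestrict_base_coe π U x
      rw [← this]
      exact hcon
    by_contra hnot
    have hnot' : x.1 ∉ X.basicOpen (rres X (image_morphismRestrict_preimage π U V).ge s) := by
      intro h
      apply hnot
      rw [Scheme.basicOpen_res] at h
      exact h.2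
    have h1 := N.norm_mem (U.ι ''ᵁ V) (rres X (image_morphismRestrict_preimage π U V).ge s) x.1 hx1
      ((germ_mem_maximalIdeal_iff X _ x.1 hx1).mpr hnot')
    exact (germ_mem_maximalIdeal_iff Y _ _ hx1).mp h1 hcon'

theorem restrictNorm_norm (V : U.toScheme.Opens) (s : Γ(X, (π ⁻¹ᵁ U).ι ''ᵁ ((π ∣_ U) ⁻¹ᵁ V))) :
    (restrictNorm π N U).norm V s =
      N.norm (U.ι ''ᵁ V) (rres X (image_morphismRestrict_preimage π U V).ge s) := rfl

variable {π N}

theorem le_aux1 (W : Y.Opens) :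
    (π ⁻¹ᵁ U).ι ''ᵁ ((π ∣_ U) ⁻¹ᵁ (U.ι ⁻¹ᵁ W)) ≤ π ⁻¹ᵁ W := by
  rw [image_morphismRestrict_preimage]
  apply π.preimage_mono
  rw [Scheme.Hom.image_preimage_eq_opensRange_inf]
  exact inf_le_right

theorem le_aux2 (W : Y.Opens) : U.ι ''ᵁ (U.ι ⁻¹ᵁ W) ≤ W := by
  rw [Scheme.Hom.image_preimage_eq_opensRange_inf]
  exact inf_le_right

/-- The restriction of a normed bundle to an open of the base. -/
noncomputable def NBundle.restrict {L : X.Modules} (B : NBundle π N L) (U : Y.Opens) :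
    NBundle (π ∣_ U) (restrictNorm π N U) (L.restrict (π ⁻¹ᵁ U).ι) where
  M := B.M.restrict U.ι
  hM := isInvertible_restrict U.ι B.hM
  W y := U.ι ⁻¹ᵁ B.W y.1
  hW y := B.hW y.1
  e y := res L (le_aux1 U (B.W y.1)) (B.e y.1)
  he y := IsTriv.to_restrict _ ((B.he y.1).restrict (le_aux1 U (B.W y.1)))
  ε y := res B.M (le_aux2 U (B.W y.1)) (B.ε y.1)
  hε y := IsTriv.to_restrict _ ((B.hε y.1).restrict (le_aux2 U (B.W y.1)))
  tr := by
    intro i j Z hi hj v hv
    have hi' : U.ι ''ᵁ Z ≤ B.W i.1 := (U.ι.image_mono hi).trans (le_aux2 U _)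
    have hj' : U.ι ''ᵁ Z ≤ B.W j.1 := (U.ι.image_mono hj).trans (le_aux2 U _)
    have hZ := image_morphismRestrict_preimage π U Z
    have hv1 : res L (((π ⁻¹ᵁ U).ι.image_mono ((π ∣_ U).preimage_mono hj)))
          (res L (le_aux1 U (B.W j.1)) (B.e j.1)) =
        (show Γ(X, (π ⁻¹ᵁ U).ι ''ᵁ ((π ∣_ U) ⁻¹ᵁ Z)) from v) •
          res L (((π ⁻¹ᵁ U).ι.image_mono ((π ∣_ U).preimage_mono hi)))
            (res L (le_aux1 U (B.W i.1)) (B.e i.1)) := by
      refine hv.trans ?_
      rw [restrict_smul, Scheme.Opens.ι_appIso]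
      rfl
    have hv2 := congrArg (res L hZ.ge) hv1
    rw [res_res, res_res, res_smul', res_res, res_res] at hv2
    have h3 := B.tr i.1 j.1 (U.ι ''ᵁ Z) hi' hj' _ hv2
    change res B.M (U.ι.image_mono hj) (res B.M (le_aux2 U (B.W j.1)) (B.ε j.1)) = _
    rw [restrict_smul, Scheme.Opens.ι_appIso, res_res, h3]
    change _ = (N.norm (U.ι ''ᵁ Z)) (rres X hZ.ge v) •
      res B.M (U.ι.image_mono hi) (res B.M (le_aux2 U (B.W i.1)) (B.ε i.1))
    rw [res_res]

/-- **EGA II 6.6.1, relative form**: the norm of a relatively ample module is relatively ample. -/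
theorem isRelAmple_of_nBundle {S : Scheme.{u}} (f : Y ⟶ S) [QuasiCompact f] [IsFinite π]
    (hsurj : Function.Surjective π.base) {L : X.Modules} (B : NBundle π N L)
    (hL : RelAmple.IsRelAmple (π ≫ f) L) : RelAmple.IsRelAmple f B.M := by
  refine ⟨inferInstance, fun V => ?_⟩
  have h1 : CohB1.IsAmple (L.restrict (π ⁻¹ᵁ (f ⁻¹ᵁ V.1)).ι) := hL.2 V
  have : IsFinite (π ∣_ (f ⁻¹ᵁ V.1)) :=
    IsZariskiLocalAtTarget.restrict (P := @IsFinite) inferInstance _
  have hs : Function.Surjective (π ∣_ (f ⁻¹ᵁ V.1)).base := by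
    rintro ⟨y, hy⟩
    obtain ⟨x, rfl⟩ := hsurj y
    exact ⟨⟨x, hy⟩, Subtype.ext (morphismRestrict_base_coe π _ _)⟩
  exact isAmple_of_nBundle hs (B.restrict (f ⁻¹ᵁ V.1)) h1

theorem exists_isRelAmple_of_weakNorm {S : Scheme.{u}} (f : Y ⟶ S) [QuasiCompact f] [IsFinite π]
    (hsurj : Function.Surjective π.base) (N : WeakNorm π) {L : X.Modules}
    (hLi : PicF.IsInvertible L) (hL : RelAmple.IsRelAmple (π ≫ f) L) :
    ∃ M : Y.Modules, PicF.IsInvertible M ∧ RelAmple.IsRelAmple f M := by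
  obtain ⟨B⟩ := exists_nBundle π N hLi
  exact ⟨B.M, B.hM, isRelAmple_of_nBundle f hsurj B hL⟩

end Groth.Agent.Lib.Helper29.NormB
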