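import Groth.Agent.Lib.Helper29.FinCov10
universe u
open CategoryTheory CategoryTheory.Limits AlgebraicGeometry TopologicalSpace Opposite

namespace Groth.Agent.Lib.Helper29.QCoh

namespace NormGlue

variable {Z X : Scheme.{u}} (π : Z ⟶ X)

/-- restriction of functions on `Z` between preimages -/
noncomputable abbrev resZ {U V : X.Opens} (h : V ≤ U) : Γ(Z, π ⁻¹ᵁ U) →+* Γ(Z, π ⁻¹ᵁ V) :=
  (Z.presheaf.map (homOfLE (π.preimage_mono h)).op).hom

theorem resZ_resZ {U V W : X.Opens} (h : V ≤ U) (h' : W ≤ V) (a : Γ(Z, π ⁻¹ᵁ U)) :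
    resZ π h' (resZ π h a) = resZ π (h'.trans h) a :=
  map_map_apply Z (π.preimage_mono h) (π.preimage_mono h') a

theorem resZ_self {U : X.Opens} (a : Γ(Z, π ⁻¹ᵁ U)) : resZ π (le_refl U) a = a := by
  change (Z.presheaf.map (𝟙 (op (π ⁻¹ᵁ U)))).hom a = a
  rw [Z.presheaf.map_id]
  rfl

theorem resO_resO {U V W : X.Opens} (h : V ≤ U) (h' : W ≤ V) (a : Γ(X, U)) :
    resO h' (resO h a) = resO (h'.trans h) a :=
  map_map_apply X h h' a

theorem resO_self {U : X.Opens} (a : Γ(X, U)) : resO (le_refl U) a = a := by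
  change (X.presheaf.map (𝟙 (op U))).hom a = a
  rw [X.presheaf.map_id]
  rfl

theorem resZ_app {U V : X.Opens} (h : V ≤ U) (g : Γ(X, U)) :
    resZ π h ((π.app U).hom g) = (π.app V).hom (resO h g) :=
  (congr_arg (fun ψ => ψ.hom g) (π.naturality (homOfLE h).op)).symm

variable (Good : X.Opens → Prop)
  (hcov : ∀ (W : X.Opens) (x : X), x ∈ W → ∃ V, Good V ∧ x ∈ V ∧ V ≤ W)
  (n : ∀ V : X.Opens, Γ(Z, π ⁻¹ᵁ V) → Γ(X, V))
  (hn : ∀ (V D : X.Opens), Good V → Good D → ∀ (h : D ≤ V) (s : Γ(Z, π ⁻¹ᵁ V)),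
      n D (resZ π h s) = resO h (n V s))

include hcov in
theorem eq_of_resO_good_eq {W : X.Opens} (s t : Γ(X, W))
    (h : ∀ (V : X.Opens) (_ : Good V) (hVW : V ≤ W), resO hVW s = resO hVW t) : s = t := by
  refine eq_of_res_cover_eq (unitM X) (fun V : {V : X.Opens // Good V ∧ V ≤ W} => V.1)
    (fun V => V.2.2) ?_ (toUnit s) (toUnit t) (fun V => congrArg toUnit (h V.1 V.2.1 V.2.2))
  intro x hx
  obtain ⟨V, hV, hxV, hVW⟩ := hcov W x hx
  exact Opens.mem_iSup.mpr ⟨⟨V, hV, hVW⟩, hxV⟩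

include hcov hn in
theorem n_compat {V V' W : X.Opens} (hV : Good V) (hV' : Good V')
    (hVW : V ≤ W) (hV'W : V' ≤ W) (a : Γ(Z, π ⁻¹ᵁ W)) :
    resO (inf_le_left : V ⊓ V' ≤ V) (n V (resZ π hVW a)) =
      resO (inf_le_right : V ⊓ V' ≤ V') (n V' (resZ π hV'W a)) := by
  refine eq_of_resO_good_eq Good hcov _ _ fun D hD hDV => ?_
  rw [resO_resO, resO_resO, ← hn V D hV hD, ← hn V' D hV' hD, resZ_resZ, resZ_resZ]

include hcov hn in
theorem exists_glued (W : X.Opens) (a : Γ(Z, π ⁻¹ᵁ W)) :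
    ∃ s : Γ(X, W), ∀ (V : X.Opens) (_ : Good V) (hVW : V ≤ W),
      resO hVW s = n V (resZ π hVW a) := by
  obtain ⟨s, hs⟩ := exists_gluing (unitM X)
    (fun V : {V : X.Opens // Good V ∧ V ≤ W} => V.1) W (fun V => V.2.2) (by
      intro x hx
      obtain ⟨V, hV, hxV, hVW⟩ := hcov W x hx
      exact Opens.mem_iSup.mpr ⟨⟨V, hV, hVW⟩, hxV⟩)
    (fun V => toUnit (n V.1 (resZ π V.2.2 a)))
    (fun V V' => congrArg toUnit (n_compat π Good hcov n hn V.2.1 V'.2.1 V.2.2 V'.2.2 a))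
  exact ⟨fromUnit s, fun V hV hVW => congrArg fromUnit (hs ⟨V, hV, hVW⟩)⟩

/-- The glued map on sections. -/
noncomputable def glued (W : X.Opens) (a : Γ(Z, π ⁻¹ᵁ W)) : Γ(X, W) :=
  (exists_glued π Good hcov n hn W a).choose

theorem res_glued {W V : X.Opens} (a : Γ(Z, π ⁻¹ᵁ W)) (hV : Good V)
    (hVW : V ≤ W) : resO hVW (glued π Good hcov n hn W a) = n V (resZ π hVW a) :=
  (exists_glued π Good hcov n hn W a).choose_spec V hV hVW

theorem glued_res {W W' : X.Opens} (h : W' ≤ W) (a : Γ(Z, π ⁻¹ᵁ W)) :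
    glued π Good hcov n hn W' (resZ π h a) = resO h (glued π Good hcov n hn W a) := by
  refine eq_of_resO_good_eq Good hcov _ _ fun V hV hVW => ?_
  rw [res_glued π Good hcov n hn _ hV, resZ_resZ, resO_resO, res_glued π Good hcov n hn _ hV]

theorem glued_eq {V : X.Opens} (hV : Good V) (a : Γ(Z, π ⁻¹ᵁ V)) :
    glued π Good hcov n hn V a = n V a := by
  have h := res_glued π Good hcov n hn a hV le_rfl
  rwa [resZ_self, resO_self] at h

include hcov hn in
/-- A norm of degree `d` glued from local multiplicative maps on a basis of "good" opens. -/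
theorem hasNorm_of_local (d : ℕ) (hd : 1 ≤ d)
    (h1 : ∀ V, Good V → n V 1 = 1)
    (hmul : ∀ V, Good V → ∀ a b, n V (a * b) = n V a * n V b)
    (happ : ∀ V, Good V → ∀ g : Γ(X, V), n V ((π.app V).hom g) = g ^ d)
    (hmem : ∀ V, Good V → ∀ (s : Γ(Z, π ⁻¹ᵁ V)) (x : Z) (hx : π.base x ∈ V),
      Z.presheaf.germ (π ⁻¹ᵁ V) x hx s ∈ IsLocalRing.maximalIdeal (Z.presheaf.stalk x) →
      X.presheaf.germ V (π.base x) hx (n V s) ∈
        IsLocalRing.maximalIdeal (X.presheaf.stalk (π.base x))) :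
    Nrm.HasNorm π d := by
  refine ⟨{ one_le := hd
            norm := fun U =>
              { toFun := fun s => glued π Good hcov n hn U s
                map_one' := ?_
                map_mul' := ?_ }
            norm_res := ?_
            norm_app := ?_
            norm_mem := ?_ }⟩
  · refine eq_of_resO_good_eq Good hcov _ _ fun V hV hVW => ?_
    rw [res_glued π Good hcov n hn _ hV, map_one, map_one, h1 V hV]
  · intro a b
    refine eq_of_resO_good_eq Good hcov _ _ fun V hV hVW => ?_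
    rw [map_mul, res_glued π Good hcov n hn _ hV, res_glued π Good hcov n hn _ hV,
      res_glued π Good hcov n hn _ hV, map_mul, hmul V hV]
  · intro U V i s
    have hi : i = homOfLE (leOfHom i) := rfl
    rw [hi]
    exact (glued_res π Good hcov n hn (leOfHom i) s).symm
  · intro U g
    change glued π Good hcov n hn U ((π.app U).hom g) = g ^ d
    refine eq_of_resO_good_eq Good hcov _ _ fun V hV hVW => ?_
    rw [res_glued π Good hcov n hn _ hV, resZ_app, happ V hV, map_pow]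
  · intro U s x hx hs
    obtain ⟨V, hV, hxV, hVU⟩ := hcov U (π.base x) hx
    change X.presheaf.germ U (π.base x) hx (glued π Good hcov n hn U s) ∈ _
    have e1 : X.presheaf.germ U (π.base x) hx (glued π Good hcov n hn U s) =
        X.presheaf.germ V (π.base x) hxV (resO hVU (glued π Good hcov n hn U s)) :=
      (TopCat.Presheaf.germ_res_apply X.presheaf (homOfLE hVU) (π.base x) hxV _).symm
    rw [e1, res_glued π Good hcov n hn s hV hVU]
    refine hmem V hV _ x hxV ?_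
    have e2 : Z.presheaf.germ (π ⁻¹ᵁ V) x hxV (resZ π hVU s) =
        Z.presheaf.germ (π ⁻¹ᵁ U) x hx s :=
      TopCat.Presheaf.germ_res_apply Z.presheaf (homOfLE (π.preimage_mono hVU)) x hxV s
    rw [e2]
    exact hs

end NormGlue

end Groth.Agent.Lib.Helper29.QCoh
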