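import Groth.Agent.Lib.Helper29.QAff3
universe u
open CategoryTheory CategoryTheory.Limits AlgebraicGeometry TopologicalSpace Opposite

/-! # The norm of a finite locally free morphism: a definite choice, with its value on good opens -/

namespace Groth.Agent.Lib.Helper29.QCoh.QAff
open Groth.Agent.Lib.Helper29.QCoh

section
variable {X : Scheme.{u}} (A : RelSpec.QCAlg X)
  (hcov : ∀ (W : X.Opens) (x : X), x ∈ W → ∃ V, IsGoodE A V ∧ x ∈ V ∧ V ≤ W)
include hcov

theorem nrmSectE_eq_normAt {V : X.Opens} (hV : IsGoodE A V) (a : A.presheaf.obj (op V)) :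
    nrmSectE A hcov V a = normAt A V a := by
  have h := res_nrmSectE A hcov a hV le_rfl
  rw [resA_self] at h
  have h2 : resO (le_refl V) (nrmSectE A hcov V a) = nrmSectE A hcov V a := by
    change (X.presheaf.map (𝟙 (op V))).hom _ = _
    rw [X.presheaf.map_id]
    rfl
  rw [← h2, h]

theorem nrmSectE_str_of_isGoodD {d : ℕ} {V : X.Opens} (hV : IsGoodD A d V) (r : Γ(X, V)) :
    nrmSectE A hcov V ((A.str.app (op V)).hom r) = r ^ d := by
  rw [nrmSectE_eq_normAt A hcov ⟨d, hV⟩]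
  obtain ⟨-, ⟨b⟩⟩ := hV
  let _ := algSect A V
  have := Algebra.norm_algebraMap_of_basis b r
  rw [Fintype.card_fin] at this
  exact this

end

section
variable {X : Scheme.{u}} (A : RelSpec.QCAlg X)

/-- The rank of `A` over a good open is determined at any of its points. -/
theorem rank_unique {d d' : ℕ} {V V' : X.Opens} (hV : IsGoodD A d V) (hV' : IsGoodD A d' V')
    (x : X) (hx : x ∈ V ⊓ V') : d = d' := by
  obtain ⟨f, g, hfg, hxf⟩ := exists_basicOpen_le_affine_inter hV.1 hV'.1 x hx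
  have h1 := (isGoodD_basicOpen A d hV f rfl).1
  have h2 := (isGoodD_basicOpen A d' hV' g hfg).1
  obtain ⟨-, ⟨b⟩⟩ := h1
  obtain ⟨-, ⟨b'⟩⟩ := h2
  let _ := algSect A (X.basicOpen f)
  have hnt : Nontrivial Γ(X, X.basicOpen f) := by
    refine ⟨⟨0, 1, fun h => ?_⟩⟩
    have h2 := congrArg (X.presheaf.germ (X.basicOpen f) x hxf).hom h
    rw [map_one, map_zero] at h2
    exact zero_ne_one h2
  have e1 := Module.finrank_eq_card_basis b
  have e2 := Module.finrank_eq_card_basis b'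
  rw [Fintype.card_fin] at e1 e2
  exact e1.symm.trans e2

end

section Mor
variable {X' X : Scheme.{u}} (g : X' ⟶ X) [IsFinite g] [Flat g] [LocallyOfFinitePresentation g]

theorem hcovOf : ∀ (W : X.Opens) (y : X), y ∈ W →
    ∃ V, IsGoodE (RelSpec.QCAlg.directImage g) V ∧ y ∈ V ∧ V ≤ W :=
  directImage_hcovE g (ProjF.isFinLocFree_pushforward g
    (isFinLocFree_of_iso (freeModOneIso X') (isFinLocFree_freeMod X' 1)))

/-- The norm `Γ(X', g⁻¹W) → Γ(X, W)` of a finite locally free morphism. -/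
noncomputable def Nm (W : X.Opens) : Γ(X', g ⁻¹ᵁ W) →* Γ(X, W) where
  toFun := fun s => nrmSectE (RelSpec.QCAlg.directImage g) (hcovOf g) W s
  map_one' := nrmSectE_one (RelSpec.QCAlg.directImage g) (hcovOf g) W
  map_mul' := nrmSectE_mul (RelSpec.QCAlg.directImage g) (hcovOf g) W

theorem Nm_res {W W' : X.Opens} (h : W' ≤ W) (a : Γ(X', g ⁻¹ᵁ W)) :
    Nm g W' (X'.presheaf.map (homOfLE (g.preimage_mono h)).op a) =
      X.presheaf.map (homOfLE h).op (Nm g W a) :=
  nrmSectE_res (RelSpec.QCAlg.directImage g) (hcovOf g) h a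

theorem Nm_app_of_isGoodD {d : ℕ} {V : X.Opens}
    (hV : IsGoodD (RelSpec.QCAlg.directImage g) d V) (r : Γ(X, V)) :
    Nm g V (g.app V r) = r ^ d :=
  nrmSectE_str_of_isGoodD (RelSpec.QCAlg.directImage g) (hcovOf g) hV r

theorem Nm_mem (U : X.Opens) (s : Γ(X', g ⁻¹ᵁ U)) (x : X') (hx : g.base x ∈ U)
    (hs : X'.presheaf.germ (g ⁻¹ᵁ U) x hx s ∈ IsLocalRing.maximalIdeal (X'.presheaf.stalk x)) :
    X.presheaf.germ U (g.base x) hx (Nm g U s) ∈
      IsLocalRing.maximalIdeal (X.presheaf.stalk (g.base x)) := by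
  obtain ⟨V, hV, hxV, hVU⟩ := hcovOf g U (g.base x) hx
  have h1 : X.presheaf.germ U (g.base x) hx (Nm g U s) =
      X.presheaf.germ V (g.base x) hxV (X.presheaf.map (homOfLE hVU).op (Nm g U s)) :=
    (TopCat.Presheaf.germ_res_apply X.presheaf (homOfLE hVU) (g.base x) hxV _).symm
  rw [h1, ← Nm_res g hVU s]
  obtain ⟨d, hVd⟩ := hV
  have h3 : Nm g V (X'.presheaf.map (homOfLE (g.preimage_mono hVU)).op s) =
      normAt (RelSpec.QCAlg.directImage g) V (X'.presheaf.map (homOfLE (g.preimage_mono hVU)).op s) :=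
    nrmSectE_eq_normAt (RelSpec.QCAlg.directImage g) (hcovOf g) ⟨d, hVd⟩ _
  rw [h3]
  refine germ_norm_mem g hVd _ x hxV ?_
  rw [TopCat.Presheaf.germ_res_apply X'.presheaf (homOfLE (g.preimage_mono hVU)) x hxV s]
  exact hs

end Mor

end Groth.Agent.Lib.Helper29.QCoh.QAff
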