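import Groth.Agent.Lib.Helper29.NormSec1
import Groth.Agent.Lib.Helper29.PullSect
universe u
open CategoryTheory CategoryTheory.Limits AlgebraicGeometry TopologicalSpace Opposite

/-! # The norm of a section of a pulled back invertible module -/

namespace Groth.Agent.Lib.Helper29.QCoh.QAff
open Groth.Agent.Lib.Helper29.QCoh

section
variable {X' X : Scheme.{u}} (g : X' ⟶ X) [IsFinite g] [Flat g] [LocallyOfFinitePresentation g]
  (L : X.Modules) [L.IsQuasicoherent]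

/-- A chart: an open of `X` over which `L` is trivialised and `g_* O` is free. -/
structure Chart where
  W : X.Opens
  e : Γ(L, W)
  d : ℕ
  triv : IsTriv L W e
  good : IsGoodD (RelSpec.QCAlg.directImage g) d W

variable {g L}

/-- Restriction of a chart to a smaller good open. -/
noncomputable abbrev Chart.restrict (c : Chart g L) {D : X.Opens} (h : D ≤ c.W)
    (hg : IsGoodD (RelSpec.QCAlg.directImage g) c.d D) : Chart g L :=
  ⟨D, res L h c.e, c.d, c.triv.restrict h, hg⟩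

variable (N : ℕ) (s' : unitM X' ⟶ CohB1.tensorPow ((Scheme.Modules.pullback g).obj L) (N + 1))
  (D₀ : ℕ)

theorem exists_coord (c : Chart g L) : ∃ a : Γ(X', g ⁻¹ᵁ c.W),
    sval s' (g ⁻¹ᵁ c.W) =
      a • epow ((Scheme.Modules.pullback g).obj L) (pullSect g L c.W c.e) (N + 1) :=
  ((c.triv.pullSect g).epow (N + 1)).exists_eq_smul _

/-- The coordinate of `s'` in a chart. -/
noncomputable def coord (c : Chart g L) : Γ(X', g ⁻¹ᵁ c.W) := (exists_coord N s' c).choose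

theorem coord_spec (c : Chart g L) : sval s' (g ⁻¹ᵁ c.W) =
    coord N s' c • epow ((Scheme.Modules.pullback g).obj L) (pullSect g L c.W c.e) (N + 1) :=
  (exists_coord N s' c).choose_spec

/-- The local norm of `s'` in a chart. -/
noncomputable def loc (c : Chart g L) : Γ(CohB1.tensorPow L ((N + 1) * D₀), c.W) :=
  (Nm g c.W (coord N s' c)) ^ (D₀ / c.d) • epow L c.e ((N + 1) * D₀)

theorem coord_restrict (c : Chart g L) {D : X.Opens} (h : D ≤ c.W)
    (hg : IsGoodD (RelSpec.QCAlg.directImage g) c.d D) :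
    coord N s' (c.restrict h hg) =
      X'.presheaf.map (homOfLE (g.preimage_mono h)).op (coord N s' c) := by
  have hT : IsTriv (CohB1.tensorPow ((Scheme.Modules.pullback g).obj L) (N + 1)) (g ⁻¹ᵁ D)
      (epow _ (pullSect g L D (res L h c.e)) (N + 1)) :=
    (((c.triv.restrict h).pullSect g).epow (N + 1))
  apply hT.smul_left_cancel
  have h1 : coord N s' (c.restrict h hg) • epow ((Scheme.Modules.pullback g).obj L)
      (pullSect g L D (res L h c.e)) (N + 1) = sval s' (g ⁻¹ᵁ D) :=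
    (coord_spec N s' (c.restrict h hg)).symm
  rw [h1, pullSect_res, ← res_epow, ← res_smul, ← coord_spec N s' c, res_sval]

theorem loc_restrict (c : Chart g L) {D : X.Opens} (h : D ≤ c.W)
    (hg : IsGoodD (RelSpec.QCAlg.directImage g) c.d D) :
    loc N s' D₀ (c.restrict h hg) = res (CohB1.tensorPow L ((N + 1) * D₀)) h (loc N s' D₀ c) := by
  have h1 : loc N s' D₀ (c.restrict h hg) =
      (Nm g D (coord N s' (c.restrict h hg))) ^ (D₀ / c.d) •
        epow L (res L h c.e) ((N + 1) * D₀) := rfl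
  rw [h1, coord_restrict, Nm_res]
  unfold loc
  rw [res_smul, map_pow, res_epow]

/-- Two charts on the same open with the same rank give the same local norm. -/
theorem loc_eq_aux {W : X.Opens} {e₁ e₂ : Γ(L, W)} {d : ℕ} (t₁ : IsTriv L W e₁)
    (t₂ : IsTriv L W e₂) (hg₁ hg₂ : IsGoodD (RelSpec.QCAlg.directImage g) d W) (hdiv : d ∣ D₀) :
    loc N s' D₀ (⟨W, e₁, d, t₁, hg₁⟩ : Chart g L) = loc N s' D₀ (⟨W, e₂, d, t₂, hg₂⟩ : Chart g L) := by
  obtain ⟨u, hu⟩ := t₁.exists_eq_smul e₂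
  obtain ⟨a₁, ha₁⟩ : ∃ a₁ : Γ(X', g ⁻¹ᵁ W), a₁ = coord N s' (⟨W, e₁, d, t₁, hg₁⟩ : Chart g L) :=
    ⟨_, rfl⟩
  obtain ⟨a₂, ha₂⟩ : ∃ a₂ : Γ(X', g ⁻¹ᵁ W), a₂ = coord N s' (⟨W, e₂, d, t₂, hg₂⟩ : Chart g L) :=
    ⟨_, rfl⟩
  have hs₁ : sval s' (g ⁻¹ᵁ W) = a₁ • epow ((Scheme.Modules.pullback g).obj L)
      (pullSect g L W e₁) (N + 1) := by
    rw [ha₁]; exact coord_spec N s' (⟨W, e₁, d, t₁, hg₁⟩ : Chart g L)
  have hs₂ : sval s' (g ⁻¹ᵁ W) = a₂ • epow ((Scheme.Modules.pullback g).obj L)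
      (pullSect g L W e₂) (N + 1) := by
    rw [ha₂]; exact coord_spec N s' (⟨W, e₂, d, t₂, hg₂⟩ : Chart g L)
  have hrel : a₁ = a₂ * (g.app W u) ^ (N + 1) := by
    apply ((t₁.pullSect g).epow (N + 1)).smul_left_cancel
    rw [← hs₁, hs₂, hu, pullSect_smul, epow_smul, smul_smul]
  have h1 : loc N s' D₀ (⟨W, e₁, d, t₁, hg₁⟩ : Chart g L) =
      (Nm g W a₁) ^ (D₀ / d) • epow L e₁ ((N + 1) * D₀) := by rw [ha₁]; rfl
  have h2 : loc N s' D₀ (⟨W, e₂, d, t₂, hg₂⟩ : Chart g L) =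
      (Nm g W a₂) ^ (D₀ / d) • epow L e₂ ((N + 1) * D₀) := by rw [ha₂]; rfl
  rw [h1, h2, hrel, map_mul, map_pow, Nm_app_of_isGoodD g hg₁, hu, epow_smul, smul_smul]
  congr 1
  rw [mul_pow, ← pow_mul, ← pow_mul]
  congr 2
  rw [mul_left_comm, Nat.mul_div_cancel' hdiv]

variable (hD₀ : ∀ (d : ℕ) (W : X.Opens), IsGoodD (RelSpec.QCAlg.directImage g) d W →
  (W : Set X).Nonempty → d ∣ D₀)
include hD₀

theorem loc_compat (c c' : Chart g L) :
    res (CohB1.tensorPow L ((N + 1) * D₀)) (inf_le_left : c.W ⊓ c'.W ≤ c.W) (loc N s' D₀ c) =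
      res (CohB1.tensorPow L ((N + 1) * D₀)) (inf_le_right : c.W ⊓ c'.W ≤ c'.W)
        (loc N s' D₀ c') := by
  choose f f' hff' hxf using fun x : (c.W ⊓ c'.W : X.Opens) =>
    exists_basicOpen_le_affine_inter c.good.1 c'.good.1 x.1 x.2
  have hD : ∀ x, X.basicOpen (f x) ≤ c.W ⊓ c'.W := fun x =>
    le_inf (X.basicOpen_le (f x)) ((hff' x).le.trans (X.basicOpen_le (f' x)))
  refine eq_of_res_cover_eq _ (fun x => X.basicOpen (f x)) hD ?_ _ _ ?_
  · intro x hx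
    exact Opens.mem_iSup.mpr ⟨⟨x, hx⟩, hxf ⟨x, hx⟩⟩
  · intro x
    have hg₁ := (isGoodD_basicOpen _ c.d c.good (f x) rfl).1
    have hg₂ := (isGoodD_basicOpen _ c'.d c'.good (f' x) (hff' x)).1
    have hdd : c.d = c'.d := rank_unique _ hg₁ hg₂ x.1 ⟨hxf x, hxf x⟩
    have hdiv : c.d ∣ D₀ := hD₀ c.d _ hg₁ ⟨x.1, hxf x⟩
    rw [res_res, res_res, ← loc_restrict N s' D₀ c ((hD x).trans inf_le_left) hg₁,
      ← loc_restrict N s' D₀ c' ((hD x).trans inf_le_right) hg₂]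
    obtain ⟨W, e, d, t, hgd⟩ := c
    obtain ⟨W', e', d', t', hgd'⟩ := c'
    dsimp only at hdd hg₁ hg₂ hdiv ⊢
    subst hdd
    exact loc_eq_aux N s' D₀ _ _ hg₁ hg₂ hdiv

theorem exists_normSection (hL : PicF.IsInvertible L) :
    ∃ τ : Γ(CohB1.tensorPow L ((N + 1) * D₀), ⊤), ∀ c : Chart g L,
      res (CohB1.tensorPow L ((N + 1) * D₀)) le_top τ = loc N s' D₀ c := by
  refine exists_gluing (CohB1.tensorPow L ((N + 1) * D₀)) (fun c : Chart g L => c.W) ⊤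
    (fun _ => le_top) ?_ (fun c => loc N s' D₀ c) (fun c c' => loc_compat N s' D₀ hD₀ c c')
  intro y _
  obtain ⟨W₀, e₀, -, hyW₀, -, he₀⟩ := exists_affine_isTriv hL (W := ⊤) y trivial
  obtain ⟨V, ⟨d, hVd⟩, hyV, hVW₀⟩ := hcovOf g W₀ y hyW₀
  exact Opens.mem_iSup.mpr ⟨⟨V, res L hVW₀ e₀, d, he₀.restrict hVW₀, hVd⟩, hyV⟩

end

end Groth.Agent.Lib.Helper29.QCoh.QAff
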