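import Groth.Agent.Lib.Helper29.NormSec2
import Groth.Agent.Lib.Helper29.Avoid
universe u
open CategoryTheory CategoryTheory.Limits AlgebraicGeometry TopologicalSpace Opposite

/-! # Ampleness descends along finite locally free surjective morphisms -/

namespace Groth.Agent.Lib.Helper29.QCoh.QAff
open Groth.Agent.Lib.Helper29.QCoh

section
variable {X' X : Scheme.{u}} (g : X' ⟶ X) [IsFinite g] [Flat g] [LocallyOfFinitePresentation g]
  {L : X.Modules} [L.IsQuasicoherent]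

theorem exists_chart (hL : PicF.IsInvertible L) (y : X) : ∃ c : Chart g L, y ∈ c.W := by
  obtain ⟨W₀, e₀, -, hyW₀, -, he₀⟩ := exists_affine_isTriv hL (W := ⊤) y trivial
  obtain ⟨V, ⟨d, hVd⟩, hyV, hVW₀⟩ := hcovOf g W₀ y hyW₀
  exact ⟨⟨V, res L hVW₀ e₀, d, he₀.restrict hVW₀, hVd⟩, hyV⟩

theorem rank_ne_zero {V : X.Opens} (hV : IsGoodD (RelSpec.QCAlg.directImage g) 0 V) (x' : X')
    (hx' : g.base x' ∈ V) : False := by
  obtain ⟨-, ⟨b⟩⟩ := hV
  let _ := algSect (RelSpec.QCAlg.directImage g) V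
  have hsub : Subsingleton ((RelSpec.QCAlg.directImage g).presheaf.obj (op V)) :=
    b.repr.toEquiv.subsingleton
  have h1 : (1 : Γ(X', g ⁻¹ᵁ V)) = 0 := hsub.elim _ _
  have h2 := congrArg (X'.presheaf.germ (g ⁻¹ᵁ V) x' hx').hom h1
  rw [map_one, map_zero] at h2
  exact one_ne_zero h2

variable (N : ℕ) (s' : unitM X' ⟶ CohB1.tensorPow ((Scheme.Modules.pullback g).obj L) (N + 1))
  (D₀ : ℕ)

/-- **The norm of a section**: a section of a power of `L` whose nonvanishing locus is the set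
of points all of whose preimages lie in the nonvanishing locus of `s'`. -/
theorem exists_norm_hom (hL : PicF.IsInvertible L)
    (hD₀ : ∀ (d : ℕ) (W : X.Opens), IsGoodD (RelSpec.QCAlg.directImage g) d W →
      (W : Set X).Nonempty → d ∣ D₀) (hD₀ne : D₀ ≠ 0) :
    ∃ t : unitM X ⟶ CohB1.tensorPow L ((N + 1) * D₀),
      (∀ x' : X', g.base x' ∈ CohB1.genLocus _ t → x' ∈ CohB1.genLocus _ s') ∧
      (∀ y : X, (∀ x' : X', g.base x' = y → x' ∈ CohB1.genLocus _ s') →
        y ∈ CohB1.genLocus _ t) := by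
  obtain ⟨τ, hτ⟩ := exists_normSection N s' D₀ hD₀ hL
  let t : unitM X ⟶ CohB1.tensorPow L ((N + 1) * D₀) := homOfSection _ τ
  have hsv : ∀ c : Chart g L, sval t c.W =
      (Nm g c.W (coord N s' c)) ^ (D₀ / c.d) • epow L c.e ((N + 1) * D₀) := by
    intro c
    rw [sval_homOfSection, hτ c]
    rfl
  have hk : ∀ (c : Chart g L) (y : X), y ∈ c.W → 0 < D₀ / c.d := by
    intro c y hy
    have hdiv := hD₀ c.d c.W c.good ⟨y, hy⟩
    exact Nat.div_pos (Nat.le_of_dvd (Nat.pos_of_ne_zero hD₀ne) hdiv)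
      (Nat.pos_of_dvd_of_pos hdiv (Nat.pos_of_ne_zero hD₀ne))
  have hi : ∀ (c : Chart g L) (y : X), y ∈ c.W →
      (y ∈ CohB1.genLocus _ t ↔ y ∈ X.basicOpen (Nm g c.W (coord N s' c))) := by
    intro c y hy
    rw [mem_genLocus_iff_of_isTriv t (c.triv.epow ((N + 1) * D₀)) _ (hsv c) y hy,
      X.basicOpen_pow _ (hk c y hy)]
  have hii : ∀ (c : Chart g L) (x' : X'), g.base x' ∈ c.W →
      (x' ∈ CohB1.genLocus _ s' ↔ x' ∈ X'.basicOpen (coord N s' c)) := by
    intro c x' hx'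
    exact mem_genLocus_iff_of_isTriv s' ((c.triv.pullSect g).epow (N + 1)) _
      (coord_spec N s' c) x' hx'
  refine ⟨t, ?_, ?_⟩
  · intro x' hx't
    obtain ⟨c, hc⟩ := exists_chart g hL (g.base x')
    rw [hii c x' hc]
    by_contra hcon
    have h1 : X'.presheaf.germ (g ⁻¹ᵁ c.W) x' hc (coord N s' c) ∈
        IsLocalRing.maximalIdeal (X'.presheaf.stalk x') := by
      rw [IsLocalRing.mem_maximalIdeal, mem_nonunits_iff]
      exact fun hu => hcon ((Scheme.mem_basicOpen _ _ x' hc).mpr hu)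
    have h2 := Nm_mem g c.W (coord N s' c) x' hc h1
    rw [IsLocalRing.mem_maximalIdeal, mem_nonunits_iff] at h2
    exact h2 ((Scheme.mem_basicOpen _ _ (g.base x') hc).mp ((hi c _ hc).mp hx't))
  · intro y hy
    obtain ⟨c, hc⟩ := exists_chart g hL y
    rw [hi c y hc]
    have hcl : IsClosed (g.base '' ((X'.basicOpen (coord N s' c) : Set X')ᶜ)) :=
      g.isClosedMap _ (X'.basicOpen (coord N s' c)).2.isClosed_compl
    let U₀ : X.Opens := ⟨(g.base '' ((X'.basicOpen (coord N s' c) : Set X')ᶜ))ᶜ, hcl.isOpen_compl⟩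
    let U : X.Opens := U₀ ⊓ c.W
    have hyU : y ∈ U := by
      refine ⟨?_, hc⟩
      rintro ⟨x', hx', hx'y⟩
      have hx'W : g.base x' ∈ c.W := by rw [hx'y]; exact hc
      exact hx' ((hii c x' hx'W).mp (hy x' hx'y))
    have hUW : U ≤ c.W := inf_le_right
    have hUb : g ⁻¹ᵁ U ≤ X'.basicOpen (coord N s' c) := by
      intro x' hx'
      by_contra hcon
      exact hx'.1 ⟨x', hcon, rfl⟩
    have hu : IsUnit (X'.presheaf.map (homOfLE (g.preimage_mono hUW)).op (coord N s' c)) :=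
      Groth.Agent.Lib.Helper3.SubSh.isUnit_res_of_le_basicOpen _ (g.preimage_mono hUW) hUb
    have hu2 := hu.map (Nm g U)
    rw [Nm_res g hUW] at hu2
    rw [Scheme.mem_basicOpen _ _ y hc]
    have h5 := hu2.map (X.presheaf.germ U y hyU).hom
    rwa [TopCat.Presheaf.germ_res_apply] at h5

/-- **Ampleness descends** along finite locally free surjective morphisms (EGA II 6.6.2). -/
theorem isAmple_of_isAmple_pullback (hsurj : Function.Surjective g.base)
    (hL : PicF.IsInvertible L)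
    (hM : CohB1.IsAmple ((Scheme.Modules.pullback g).obj L)) : CohB1.IsAmple L := by
  classical
  have hcX' : CompactSpace X' := hM.2.1
  have hcX : CompactSpace X := by
    constructor
    rw [← Set.image_univ_of_surjective hsurj]
    exact isCompact_univ.image g.base.hom.continuous
  choose V hVgood hyV _ using fun y : X => hcovOf g ⊤ y trivial
  choose dV hdV using hVgood
  obtain ⟨T, hT⟩ := CompactSpace.elim_nhds_subcover (fun y => (V y : Set X))
    (fun y => (V y).2.mem_nhds (hyV y))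
  obtain ⟨D₀, hD₀def⟩ : ∃ D₀ : ℕ, D₀ = ∏ y ∈ T, dV y := ⟨_, rfl⟩
  have hmemT : ∀ x : X, ∃ y ∈ T, x ∈ V y := by
    intro x
    have hx : x ∈ ⋃ y ∈ T, (V y : Set X) := by rw [hT]; trivial
    simp only [Set.mem_iUnion, exists_prop] at hx
    obtain ⟨i, hi, hxi⟩ := hx
    exact ⟨i, hi, hxi⟩
  have hD₀ : ∀ (d : ℕ) (W : X.Opens), IsGoodD (RelSpec.QCAlg.directImage g) d W →
      (W : Set X).Nonempty → d ∣ D₀ := by
    rintro d W hW ⟨x, hxW⟩
    obtain ⟨y, hyT, hxy⟩ := hmemT x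
    have hdd : d = dV y := rank_unique _ hW (hdV y) x ⟨hxW, hxy⟩
    rw [hdd, hD₀def]
    exact Finset.dvd_prod_of_mem dV hyT
  have hD₀ne : D₀ ≠ 0 := by
    rw [hD₀def, Finset.prod_ne_zero_iff]
    intro y _ h0
    obtain ⟨x', hx'⟩ := hsurj y
    have h1 := hdV y
    rw [h0] at h1
    exact rank_ne_zero g h1 x' (by rw [hx']; exact hyV y)
  refine ⟨hL, hcX, fun x => ?_⟩
  obtain ⟨V₀, e₀, hV₀, hxV₀, -, he₀⟩ := exists_affine_isTriv hL (W := ⊤) x trivial
  have hfin : (g.base ⁻¹' {x}).Finite := g.finite_preimage_singleton x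
  obtain ⟨N, s', hZs', hs'V₀⟩ := exists_genLocus_finite_subset hM (g.base ⁻¹' {x}) hfin
    (g ⁻¹ᵁ V₀) (fun x' hx' => by
      have : g.base x' = x := hx'
      show g.base x' ∈ V₀
      rw [this]; exact hxV₀)
  obtain ⟨t, ht1, ht2⟩ := exists_norm_hom g N s' D₀ hL hD₀ hD₀ne
  have hpos : 0 < (N + 1) * D₀ := Nat.mul_pos (Nat.succ_pos _) (Nat.pos_of_ne_zero hD₀ne)
  obtain ⟨m, hm⟩ : ∃ m, (N + 1) * D₀ = m + 1 := ⟨_, (Nat.succ_pred_eq_of_pos hpos).symm⟩
  have key : ∀ (k : ℕ) (t : unitM X ⟶ CohB1.tensorPow L k), CohB1.genLocus _ t ≤ V₀ →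
      IsAffineOpen (CohB1.genLocus _ t) := by
    intro k t hle
    obtain ⟨a, ha⟩ := (he₀.epow k).exists_eq_smul (sval t V₀)
    have h1 := (he₀.epow k).genLocus_inf t a ha
    rw [inf_eq_left.mpr hle] at h1
    rw [h1]
    exact hV₀.basicOpen a
  have hle : CohB1.genLocus _ t ≤ V₀ := by
    intro y hy
    obtain ⟨x', rfl⟩ := hsurj y
    exact hs'V₀ (ht1 x' hy)
  have hxt : x ∈ CohB1.genLocus _ t := ht2 x fun x' hx' => hZs' hx'
  have haff := key _ t hle
  revert t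
  rw [hm]
  intro t _ _ hle hxt haff
  exact ⟨m, t, hxt, haff⟩

end

end Groth.Agent.Lib.Helper29.QCoh.QAff
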