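import Mathlib
import Groth.Agent.Lib.Helper29.NormSec3
import Groth.Prelude.Def_Mor2

set_option autoImplicit false
universe u
open CategoryTheory CategoryTheory.Limits AlgebraicGeometry TopologicalSpace Opposite

namespace Groth.Agent.Lib.Helper29.NormTriv
open Groth.Agent.Lib.Helper29.QCoh Groth.Agent.Lib.Helper29.QCoh.QAff

variable {X' X : Scheme.{u}}

/-- The local free rank of the direct image algebra agrees with Mathlib's `finrank`. -/
theorem finrank_eq_of_isGoodD (g : X' ⟶ X) [IsFinite g] [Flat g] {d' : ℕ} {V : X.Opens}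
    (hV : IsGoodD (RelSpec.QCAlg.directImage g) d' V) (y : X) (hy : y ∈ V) :
    g.finrank y = d' := by
  obtain ⟨hVaff, ⟨b⟩⟩ := hV
  have hW : IsAffineOpen (g ⁻¹ᵁ V) := hVaff.preimage g
  have hsq : Spec.map (g.appLE V (g ⁻¹ᵁ V) le_rfl) ≫ hVaff.fromSpec = hW.fromSpec ≫ g :=
    IsAffineOpen.SpecMap_appLE_fromSpec g hVaff hW le_rfl
  have hpb : IsPullback (Spec.map (g.appLE V (g ⁻¹ᵁ V) le_rfl)) hW.fromSpec hVaff.fromSpec g :=
    IsOpenImmersion.isPullback _ _ _ _ hsq.symm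
      (by rw [hVaff.opensRange_fromSpec, hW.opensRange_fromSpec])
  have h1 := Scheme.Hom.finrank_of_isPullback hW.fromSpec
    (Spec.map (g.appLE V (g ⁻¹ᵁ V) le_rfl)) g hVaff.fromSpec hpb.flip
    (hVaff.primeIdealOf ⟨y, hy⟩)
  rw [hVaff.fromSpec_primeIdealOf ⟨y, hy⟩] at h1
  haveI : IsFinite (Spec.map (g.appLE V (g ⁻¹ᵁ V) le_rfl)) :=
    MorphismProperty.of_isPullback (P := @IsFinite) hpb.flip inferInstance
  haveI : Flat (Spec.map (g.appLE V (g ⁻¹ᵁ V) le_rfl)) :=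
    MorphismProperty.of_isPullback (P := @Flat) hpb.flip inferInstance
  have hfin : (g.appLE V (g ⁻¹ᵁ V) le_rfl).hom.Finite := (IsFinite.SpecMap_iff _).mp inferInstance
  have hflat : (g.appLE V (g ⁻¹ᵁ V) le_rfl).hom.Flat := Flat.SpecMap_iff.mp inferInstance
  rw [← h1, Scheme.Hom.finrank_SpecMap_eq_finrank hfin hflat]
  have happ : g.appLE V (g ⁻¹ᵁ V) le_rfl = g.app V := (Scheme.Hom.app_eq_appLE g).symm
  rw [happ]
  unfold RingHom.finrank
  letI : Algebra Γ(X, V) Γ(X', g ⁻¹ᵁ V) := (g.app V).hom.toAlgebra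
  let b' : Module.Basis (Fin d') Γ(X, V) Γ(X', g ⁻¹ᵁ V) := b
  haveI : Module.Free Γ(X, V) Γ(X', g ⁻¹ᵁ V) := Module.Free.of_basis b'
  haveI : Nontrivial Γ(X, V) := by
    by_contra h
    rw [not_nontrivial_iff_subsingleton] at h
    have h2 := X.basicOpen_of_isUnit (isUnit_one : IsUnit (1 : Γ(X, V)))
    rw [Subsingleton.elim (1 : Γ(X, V)) 0, X.basicOpen_zero] at h2
    have h3 : y ∈ (⊥ : X.Opens) := h2 ▸ hy
    exact h3
  rw [Module.rankAtStalk_eq_finrank_of_free]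
  simp [Module.finrank_eq_card_basis b']

end Groth.Agent.Lib.Helper29.NormTriv
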