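import Mathlib
import Groth.Agent.Lib.Helper29.NormTriv1
import Groth.Agent.Lib.Helper29.Ample

set_option autoImplicit false
universe u
open CategoryTheory CategoryTheory.Limits AlgebraicGeometry TopologicalSpace Opposite

namespace Groth.Agent.Lib.Helper29.NormTriv
open Groth.Agent.Lib.Helper29.QCoh Groth.Agent.Lib.Helper29.QCoh.QAff

theorem main (X X' : Scheme.{u}) (f : X' ⟶ X) (d : ℕ)
    (hf : Mor2.IsFinLocFreeOfDeg d f) (L : X.Modules) (hL : PicF.IsInvertible L)
    (htriv : Nonempty ((Scheme.Modules.pullback f).obj L ≅ Coh.structureModule X')) :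
    Nonempty (CohB1.tensorPow L d ≅ Coh.structureModule X) := by
  obtain ⟨⟨hfin, hflat, hlfp⟩, hrank⟩ := hf
  by_cases hd : d = 0
  · subst hd
    exact ⟨Iso.refl _⟩
  haveI := isQuasicoherent_of_isInvertible hL
  obtain ⟨θ⟩ := htriv
  let e : unitM X' ≅ CohB1.tensorPow ((Scheme.Modules.pullback f).obj L) (0 + 1) :=
    (tensorPowOne ((Scheme.Modules.pullback f).obj L) ≪≫ θ).symm
  have hs' : CohB1.genLocus _ e.hom = ⊤ := by
    have h1 := genLocus_comp_iso (𝟙 (unitM X')) e
    rw [Category.id_comp] at h1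
    rw [h1, genLocus_id]
  obtain ⟨t, -, ht⟩ := exists_norm_hom f 0 e.hom d hL
    (fun d' W hW hne => by
      obtain ⟨y, hy⟩ := hne
      have h1 := finrank_eq_of_isGoodD f hW y hy
      rw [hrank y] at h1
      exact h1 ▸ dvd_rfl) hd
  have htop : ∀ W : X.Opens, W ≤ CohB1.genLocus _ t := by
    intro W y _
    exact ht y (fun x' _ => by rw [hs']; trivial)
  haveI : IsIso t := (isIso_iff_app_bijective t).mpr fun U =>
    app_bijective_of_le_genLocus t (htop U)
  have hcast : (0 + 1) * d = d := by omega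
  exact hcast ▸ ⟨(asIso t).symm⟩

end Groth.Agent.Lib.Helper29.NormTriv
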