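import Groth.Agent.Lib.Helper29.LinRep2

/-! Local finiteness for finite families of functions (helper29, for S11188). -/

set_option autoImplicit false
universe u
open CategoryTheory MonoidalCategory CartesianMonoidalCategory MonObj AlgebraicGeometry Opposite
open TensorProduct

namespace Groth.Agent.Lib.Helper29.LinRep

open Groth.Agent.Lib.Helper29.AffAttr Groth.Agent.Lib.Helper29.Kun

variable {k : Type u} [Field k]

attribute [local instance] Groth.Agent.Lib.Helper29.AffAttr.algΓ

section A2

variable (G : Over (Spec (CommRingCat.of k))) [GrpObj G] [CompactSpace G.left]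
  [QuasiSeparatedSpace G.left] [CompactSpace (G ⊗ G).left] [QuasiSeparatedSpace (G ⊗ G).left]

set_option maxHeartbeats 1000000 in
/-- **local finiteness with matrix coefficients, for finite families**: finitely many functions lie
in the span of a finite linearly independent family which is stable under right translations. -/
theorem exists_matrix_fam {I : Type u} [Fintype I] (f : I → Γ(G.left, ⊤)) :
    ∃ (J : Type u) (_ : Fintype J) (b : J → Γ(G.left, ⊤)) (m : J → J → Γ(G.left, ⊤)),
      LinearIndependent Γ(Spec (CommRingCat.of k), ⊤) b ∧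
      (∀ i, f i ∈ Submodule.span Γ(Spec (CommRingCat.of k), ⊤) (Set.range b)) ∧
      ∀ j, appAlg μ[G] (b j) = ∑ i, appAlg (CartesianMonoidalCategory.fst G G) (b i) *
        appAlg (CartesianMonoidalCategory.snd G G) (m i j) := by
  classical
  obtain ⟨Λ, ⟨e⟩⟩ := AffAttrAlg.exists_basis_of_isField (isField_Γ_Spec k) Γ(G.left, ⊤)
  let F : I → Finset Λ := fun i => (co G e (f i)).support
  let L : Type u := Σ i : I, ↥(F i)
  let a : L → Γ(G.left, ⊤) := fun x => co G e (f x.1) x.2
  let c : L → L → Γ(G.left, ⊤) := fun x y => if x.1 = y.1 then co G e (e x.2) y.2 else 0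
  have hstab : ∀ y : L, appAlg μ[G] (a y) =
      ∑ x : L, appAlg (CartesianMonoidalCategory.fst G G) (a x) *
        appAlg (CartesianMonoidalCategory.snd G G) (c x y) := fun y => by
    rw [Fintype.sum_sigma]
    rw [Finset.sum_eq_single y.1]
    · rw [stab G e (f y.1) y.2, Finsupp.sum, ← Finset.sum_coe_sort]
      refine Finset.sum_congr rfl fun l _ => ?_
      change _ = appAlg (CartesianMonoidalCategory.fst G G) (co G e (f y.1) l) *
        appAlg (CartesianMonoidalCategory.snd G G) (if y.1 = y.1 then co G e (e l) y.2 else 0)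
      rw [if_pos rfl]
    · intro i _ hi
      refine Finset.sum_eq_zero fun l _ => ?_
      change appAlg (CartesianMonoidalCategory.fst G G) (co G e (f i) l) *
        appAlg (CartesianMonoidalCategory.snd G G) (if i = y.1 then co G e (e l) y.2 else 0) = 0
      rw [if_neg hi, map_zero, mul_zero]
    · intro h
      exact absurd (Finset.mem_univ _) h
  have hf : ∀ i, f i ∈ Submodule.span Γ(Spec (CommRingCat.of k), ⊤) (Set.range a) := by
    intro i
    have h1 := fe G e (𝟙 G) (1 : G ⟶ G) (f i)
    rw [_root_.mul_one] at h1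
    have h2 : f i = ∑ l : F i,
        (show Γ(Spec (CommRingCat.of k), ⊤) from appAlg η[G] (e l)) • a ⟨i, l⟩ := by
      have h3 : appAlg (𝟙 G) (f i) = f i := by
        rw [appAlg_apply]
        simp
      rw [← h3, h1, Finsupp.sum, ← Finset.sum_coe_sort]
      refine Finset.sum_congr rfl fun l _ => ?_
      rw [Hom.one_def, appAlg_comp, appAlg_toUnit, Algebra.smul_def, _root_.mul_comm]
      congr 1
    rw [h2]
    exact Submodule.sum_mem _ fun l _ => Submodule.smul_mem _ _ (Submodule.subset_span ⟨⟨i, l⟩, rfl⟩)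
  obtain ⟨J, ι₀, hinj, hspan, hli⟩ := exists_indep_sub (isField_Γ_Spec k) a
  haveI : Finite J := Finite.of_injective ι₀ hinj
  haveI : Fintype J := Fintype.ofFinite J
  have hmem : ∀ l, a l ∈ Submodule.span Γ(Spec (CommRingCat.of k), ⊤) (Set.range (a ∘ ι₀)) :=
    fun l => by
      rw [hspan]
      exact Submodule.subset_span ⟨l, rfl⟩
  have hm : ∀ j : J, ∃ m : J → Γ(G.left, ⊤),
      appAlg μ[G] ((a ∘ ι₀) j) = ∑ i, appAlg (CartesianMonoidalCategory.fst G G) ((a ∘ ι₀) i) *
        appAlg (CartesianMonoidalCategory.snd G G) (m i) := fun j => by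
    obtain ⟨m, hm⟩ := reexpand G G (a ∘ ι₀) a (fun l => c l (ι₀ j)) hmem
    exact ⟨m, by rw [← hm]; exact hstab (ι₀ j)⟩
  choose m hm using hm
  refine ⟨J, inferInstance, a ∘ ι₀, fun i j => m j i, hli, ?_, hm⟩
  intro i
  rw [hspan]
  exact hf i

end A2

end Groth.Agent.Lib.Helper29.LinRep
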