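import Groth.Agent.Lib.Helper29.ObsK
import Groth.Agent.Lib.Helper18.LocHom
import Groth.Agent.Lib.Helper1.NormalSmooth
import Groth.Agent.Lib.Helper10.IdComp6
import Groth.Agent.Lib.Helper18.FormFib

/-! Integral closedness of rings of invariants (helper29, for S11192). -/

set_option autoImplicit false
universe u
open CategoryTheory MonoidalCategory CartesianMonoidalCategory MonObj AlgebraicGeometry
open TensorProduct

namespace Groth.Agent.Lib.Helper29.ObsN

section Alg

/-- a subring of an integrally closed domain which is closed under exact division is integrally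
closed. -/
theorem isIntegrallyClosed_subring {A : Type*} [CommRing A] [IsDomain A] [IsIntegrallyClosed A]
    (S : Subring A)
    (hS : ∀ x : A, ∀ s1 ∈ S, ∀ s2 ∈ S, s2 ≠ 0 → s2 * x = s1 → x ∈ S) : IsIntegrallyClosed S := by
  rw [isIntegrallyClosed_iff (FractionRing S)]
  intro x hx
  let g : S →+* FractionRing A := (algebraMap A (FractionRing A)).comp S.subtype
  have hg : Function.Injective g :=
    (IsFractionRing.injective A (FractionRing A)).comp Subtype.val_injective
  let j : FractionRing S →+* FractionRing A := IsFractionRing.lift hg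
  have hj : ∀ s : S, j (algebraMap S (FractionRing S) s) = g s := fun s =>
    IsFractionRing.lift_algebraMap hg s
  have hint : IsIntegral A (j x) := by
    refine IsIntegral.map_of_comp_eq S.subtype j ?_ hx
    ext s
    exact (hj s).symm
  obtain ⟨a, ha⟩ := IsIntegrallyClosed.isIntegral_iff.1 hint
  obtain ⟨s1, s2, rfl⟩ := IsLocalization.exists_mk'_eq (nonZeroDivisors S) x
  have h1 : IsLocalization.mk' (FractionRing S) s1 s2 * algebraMap S (FractionRing S) s2 =
      algebraMap S (FractionRing S) s1 := IsLocalization.mk'_spec _ _ _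
  have h2 := congrArg j h1
  rw [map_mul, hj, hj, ← ha] at h2
  have h3 : a * (s2 : S) = (s1 : A) := by
    apply IsFractionRing.injective A (FractionRing A)
    rw [map_mul]
    exact h2
  have hs2 : ((s2 : S) : A) ≠ 0 := by
    intro h0
    have : (s2 : S) = 0 := Subtype.ext h0
    exact nonZeroDivisors.coe_ne_zero s2 this
  have haS : a ∈ S := hS a s1 s1.2 s2 (s2 : S).2 hs2 (by rw [_root_.mul_comm]; exact h3)
  refine ⟨⟨a, haS⟩, ?_⟩
  apply j.injective
  rw [hj, ← ha]
  rfl

end Alg

section Normal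

variable {k : Type u} [Field k]
  (G : Over (Spec (CommRingCat.of k))) [GrpObj G] [IsAffine G.left] [Smooth G.hom]
  [ConnectedSpace G.left]

theorem isIntegral_left : IsIntegral G.left := by
  haveI : AlgebraicGeometry.IsReduced G.left :=
    Groth.Agent.Lib.Helper14.isReduced_of_smooth_scheme G.hom
  have pt : ↥(𝟙_ (Over (Spec (CommRingCat.of k)))).left := IsLocalRing.closedPoint k
  have h2 := (Groth.Agent.Lib.Helper10.IdComp.connectedComponent_unit_irreducible_compact
    k G pt).1
  rw [PreconnectedSpace.connectedComponent_eq_univ] at h2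
  haveI : IrreducibleSpace ↥G.left := (irreducibleSpace_def _).mpr h2
  exact isIntegral_of_irreducibleSpace_of_isReduced _

theorem isNormalRing_Γ : EGA4.IsNormalRing Γ(G.left, ⊤) := by
  have hR : EGA4.IsNormalRing Γ(Spec (CommRingCat.of k), ⊤) :=
    Groth.Agent.Lib.Helper18.FormFib.isNormalRing_of_ringEquiv
      (Scheme.ΓSpecIso (CommRingCat.of k)).commRingCatIsoToRingEquiv.symm
      (Groth.Agent.Lib.Helper18.LocHom.isNormalRing_field k)
  letI : Algebra Γ(Spec (CommRingCat.of k), ⊤) Γ(G.left, ⊤) := G.hom.appTop.hom.toAlgebra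
  haveI : Algebra.Smooth Γ(Spec (CommRingCat.of k), ⊤) Γ(G.left, ⊤) :=
    HasRingHomProperty.appTop @Smooth G.hom inferInstance
  exact Groth.Agent.Lib.Helper1.NormalSmooth.isNormalRing_of_smooth _ _ hR

theorem isIntegrallyClosed_Γ [IsDomain Γ(G.left, ⊤)] : IsIntegrallyClosed Γ(G.left, ⊤) :=
  IsIntegrallyClosed.of_localization_maximal fun p _ _ => (isNormalRing_Γ G p).2

end Normal

section Div

variable {k : Type u} [Field k]
  {G H : Over (Spec (CommRingCat.of k))} [GrpObj G] [IsAffine G.left] [IsAffine H.left]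
  [Flat H.hom] (i : H ⟶ G) [IsDomain Γ(G.left, ⊤)]

theorem mem_rTransInv_of_mul (x s1 s2 : Γ(G.left, ⊤)) (h1 : s1 ∈ AGF.rTransInv i)
    (h2 : s2 ∈ AGF.rTransInv i) (hs2 : s2 ≠ 0) (hx : s2 * x = s1) : x ∈ AGF.rTransInv i := by
  let φ : Γ(G.left, ⊤) →+* Γ((G ⊗ H).left, ⊤) := ((G ◁ i) ≫ μ[G]).left.appTop.hom
  let ψ : Γ(G.left, ⊤) →+* Γ((G ⊗ H).left, ⊤) :=
    (CartesianMonoidalCategory.fst G H).left.appTop.hom
  have e1 : φ s1 = ψ s1 := h1
  have e2 : φ s2 = ψ s2 := h2
  have e3 : ψ s2 * (φ x - ψ x) = 0 := by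
    rw [mul_sub, ← map_mul, hx, ← e2, ← map_mul, hx, e1, sub_self]
  haveI : IsAffine (G ⊗ H).left := inferInstanceAs (IsAffine (Limits.pullback G.hom H.hom))
  haveI : Flat (CartesianMonoidalCategory.fst G H).left :=
    inferInstanceAs (Flat (Limits.pullback.fst G.hom H.hom))
  have hflat : ψ.Flat := Scheme.Hom.flat_appTop (f := (CartesianMonoidalCategory.fst G H).left)
  letI := ψ.toAlgebra
  haveI : Module.Flat Γ(G.left, ⊤) Γ((G ⊗ H).left, ⊤) := hflat
  have hreg : IsSMulRegular Γ(G.left, ⊤) s2 := fun a b h => mul_left_cancel₀ hs2 h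
  have hreg' := IsSMulRegular.of_flat (S := Γ((G ⊗ H).left, ⊤)) hreg
  have h4 : φ x - ψ x = 0 := hreg' (by
    change ψ s2 * (φ x - ψ x) = ψ s2 * 0
    rw [e3, mul_zero])
  exact sub_eq_zero.1 h4

end Div

end Groth.Agent.Lib.Helper29.ObsN
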