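import Groth.Agent.Lib.Helper29.ObsM
import Groth.Agent.Lib.Helper29.RTrans
import Groth.Agent.Lib.Helper29.Epi1

/-! A finite-dimensional module and a vector whose stabiliser on rational points is cut out by
finitely many right-invariance conditions (helper29, for S11188). -/

set_option autoImplicit false
universe u
open CategoryTheory MonoidalCategory CartesianMonoidalCategory MonObj AlgebraicGeometry Opposite
open TensorProduct

namespace Groth.Agent.Lib.Helper29.ObsV

open Groth.Agent.Lib.Helper29.AffAttr Groth.Agent.Lib.Helper29.Kun Groth.Agent.Lib.Helper29.LinRep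
  Groth.Agent.Lib.Helper29.RTrans Groth.Agent.Lib.Helper29.GModMat Groth.Agent.Lib.Helper29.Epi
  Groth.Agent.Lib.Helper29.GModCoef

variable {k : Type u} [Field k]

attribute [local instance] Groth.Agent.Lib.Helper29.AffAttr.algΓ

section Inv

variable (G : Over (Spec (CommRingCat.of k))) [GrpObj G] [CompactSpace G.left]
  [QuasiSeparatedSpace G.left] [CompactSpace (G ⊗ G).left] [QuasiSeparatedSpace (G ⊗ G).left]
  {J : Type u} [Fintype J] [DecidableEq J] (b : J → Γ(G.left, ⊤)) (m : J → J → Γ(G.left, ⊤))
  (hm : ∀ j, appAlg μ[G] (b j) = ∑ i, appAlg (CartesianMonoidalCategory.fst G G) (b i) *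
        appAlg (CartesianMonoidalCategory.snd G G) (m i j))
  (hli : LinearIndependent Γ(Spec (CommRingCat.of k), ⊤) b)

include hm hli in
theorem isRTransInv_iff_wv (c : J → Γ(Spec (CommRingCat.of k), ⊤)) (g : VecGrp.pt k k ⟶ G) :
    AGF.IsRTransInv g (∑ j, c j • b j) ↔ ∀ j, ev g (wv G m c j) = 0 := by
  have h1 : ∀ j, appAlg (rg g) (b j) = ∑ l, ev g (m l j) • b l := by
    intro j
    rw [rg, fe_b G b m hm]
    refine Finset.sum_congr rfl fun l _ => ?_
    rw [appAlg_tG_comp, Algebra.smul_def, _root_.mul_comm]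
    rfl
  have hexp : appAlg (rg g) (∑ j, c j • b j) = ∑ l, (∑ j, ev g (m l j) * c j) • b l := by
    rw [map_sum]
    simp_rw [map_smul, h1, Finset.smul_sum, smul_smul]
    rw [Finset.sum_comm]
    refine Finset.sum_congr rfl fun l _ => ?_
    rw [Finset.sum_smul]
    refine Finset.sum_congr rfl fun j _ => ?_
    rw [_root_.mul_comm]
  have hev : ∀ l, ev g (wv G m c l) = ∑ j, ev g (m l j) * c j - c l := by
    intro l
    rw [wv, map_sub, map_sum, ev_algebraMap]
    congr 1
    refine Finset.sum_congr rfl fun j _ => ?_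
    rw [map_mul, ev_algebraMap]
  rw [isRTransInv_iff, hexp]
  constructor
  · intro h l
    have h2 : ∑ l, (∑ j, ev g (m l j) * c j - c l) • b l = 0 := by
      simp_rw [sub_smul]
      rw [Finset.sum_sub_distrib, h, sub_self]
    rw [hev]
    exact Fintype.linearIndependent_iff.1 hli _ h2 l
  · intro h
    refine Finset.sum_congr rfl fun l _ => ?_
    have := h l
    rw [hev, sub_eq_zero] at this
    rw [this]

end Inv

section Block

variable (G : Over (Spec (CommRingCat.of k))) [GrpObj G]
  {I J : Type u} [Fintype I] [DecidableEq I] [Fintype J] [DecidableEq J]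
  (m : J → J → Γ(G.left, ⊤))
  (h1 : ∀ i j, (show Γ(Spec (CommRingCat.of k), ⊤) from appAlg η[G] (m i j)) =
      if i = j then 1 else 0)
  (hmul : ∀ i j, appAlg μ[G] (m i j) =
      ∑ l, appAlg (CartesianMonoidalCategory.fst G G) (m i l) *
      appAlg (CartesianMonoidalCategory.snd G G) (m l j))

/-- the block diagonal matrix with `I` copies of `m`. -/
noncomputable def blk (I : Type u) [DecidableEq I] :
    (I × J) → (I × J) → Γ(G.left, ⊤) := fun x y => if x.1 = y.1 then m x.2 y.2 else 0

include h1 in
theorem blk_one (x y : I × J) :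
    (show Γ(Spec (CommRingCat.of k), ⊤) from appAlg η[G] (blk G m I x y)) =
      if x = y then 1 else 0 := by
  unfold blk
  by_cases h : x.1 = y.1
  · rw [if_pos h, h1]
    by_cases h2 : x.2 = y.2
    · rw [if_pos h2, if_pos (Prod.ext h h2)]
    · rw [if_neg h2, if_neg (fun h3 => h2 (congrArg Prod.snd h3))]
  · rw [if_neg h, if_neg (fun h3 => h (congrArg Prod.fst h3))]
    exact map_zero _

include hmul in
theorem blk_mul (x y : I × J) :
    appAlg μ[G] (blk G m I x y) =
      ∑ z, appAlg (CartesianMonoidalCategory.fst G G) (blk G m I x z) *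
      appAlg (CartesianMonoidalCategory.snd G G) (blk G m I z y) := by
  rw [Fintype.sum_prod_type, Finset.sum_eq_single x.1]
  · unfold blk
    by_cases h : x.1 = y.1
    · rw [if_pos h, hmul]
      refine Finset.sum_congr rfl fun l _ => ?_
      rw [if_pos rfl, if_pos h]
    · rw [if_neg h, map_zero]
      symm
      refine Finset.sum_eq_zero fun l _ => ?_
      rw [if_neg h, map_zero, mul_zero]
  · intro i _ hi
    refine Finset.sum_eq_zero fun l _ => ?_
    unfold blk
    rw [if_neg (Ne.symm hi), map_zero, zero_mul]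
  · intro h
    exact absurd (Finset.mem_univ _) h

theorem wv_blk (c : I → J → Γ(Spec (CommRingCat.of k), ⊤)) (x : I × J) :
    wv G (blk G m I) (fun y => c y.1 y.2) x = wv G m (c x.1) x.2 := by
  unfold wv
  congr 1
  rw [Fintype.sum_prod_type, Finset.sum_eq_single x.1]
  · refine Finset.sum_congr rfl fun l _ => ?_
    unfold blk
    rw [if_pos rfl]
  · intro i _ hi
    refine Finset.sum_eq_zero fun l _ => ?_
    unfold blk
    rw [if_neg (Ne.symm hi), zero_mul]
  · intro h
    exact absurd (Finset.mem_univ _) h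

end Block

section Main

variable (G : Over (Spec (CommRingCat.of k))) [GrpObj G] [CompactSpace G.left]
  [QuasiSeparatedSpace G.left] [CompactSpace (G ⊗ G).left] [QuasiSeparatedSpace (G ⊗ G).left]

set_option maxHeartbeats 1000000 in
/-- finitely many right-invariance conditions on rational points are the stabiliser conditions of
a vector in a finite-dimensional rational module. -/
theorem exists_gmod_stab (s : Finset Γ(G.left, ⊤)) :
    ∃ (V : Type u) (_ : AddCommGroup V) (_ : Module k V) (_ : Module.Finite k V)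
      (ρ : VecGrp.GMod G V) (v : V),
      ∀ g : VecGrp.pt k k ⟶ G, ρ.ρ k g ((1 : k) ⊗ₜ[k] v) = (1 : k) ⊗ₜ[k] v ↔
        ∀ f ∈ s, AGF.IsRTransInv g f := by
  classical
  obtain ⟨J, _, b, m, hli, hmem, hm⟩ := exists_matrix_fam G (fun f : ↥s => (f : Γ(G.left, ⊤)))
  have hc : ∀ f : ↥s, ∃ c : J → Γ(Spec (CommRingCat.of k), ⊤), ∑ j, c j • b j = f := fun f =>
    (Submodule.mem_span_range_iff_exists_fun _).1 (hmem f)
  choose c hc using hc
  have h1 := matrix_one G b m hm hli
  have hmul := matrix_mul G b m hm hli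
  refine ⟨(↥s × J) → k, inferInstance, inferInstance, inferInstance,
    matGMod G (blk G m ↥s) (blk_one G m h1) (blk_mul G m hmul),
    vk (fun y : ↥s × J => c y.1 y.2), ?_⟩
  intro g
  rw [fixed_iff]
  constructor
  · intro h f hf
    have hcf : ∑ j, c ⟨f, hf⟩ j • b j = f := hc ⟨f, hf⟩
    rw [← hcf, isRTransInv_iff_wv G b m hm hli]
    intro j
    have h2 := h (⟨f, hf⟩, j)
    rw [wv_blk] at h2
    exact ΓSpecIso_hom_injective k (h2.trans (map_zero _).symm)
  · intro h x
    rw [wv_blk]
    have h2 := (isRTransInv_iff_wv G b m hm hli (c x.1) g).1 (by rw [hc]; exact h _ x.1.2) x.2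
    change (Scheme.ΓSpecIso (CommRingCat.of k)).hom.hom (ev g _) = 0
    rw [h2, map_zero]

end Main

end Groth.Agent.Lib.Helper29.ObsV
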