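import Groth.Agent.Lib.Helper10.MorSRep2

/-! Bridge between functors on `Over S` and helper10's `SFun S` (helper29). -/

set_option autoImplicit false
universe u
open CategoryTheory CategoryTheory.Limits AlgebraicGeometry Opposite

namespace Groth.Agent.Lib.Helper29.OverRep

open Groth.Agent.Lib.Helper10.ZarRep

variable {S : Scheme.{u}} (D : (Over S)ᵒᵖ ⥤ Type u)

/-- elements of `D` over varying structure maps -/
abbrev El (T : Scheme.{u}) : Type u := Σ t : T ⟶ S, D.obj (op (Over.mk t))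

/-- the cast morphism -/
def castHom {T : Scheme.{u}} {t t' : T ⟶ S} (h : t = t') : Over.mk t ⟶ Over.mk t' :=
  Over.homMk (𝟙 T) (by simp [h])

lemma castHom_rfl {T : Scheme.{u}} (t : T ⟶ S) : castHom (rfl : t = t) = 𝟙 _ := rfl

variable {D}

lemma map_op_comp {A B C : Over S} (f : A ⟶ B) (g : B ⟶ C) (x : D.obj (op C)) :
    D.map (f ≫ g).op x = D.map f.op (D.map g.op x) := by
  simp

lemma map_op_id {A : Over S} (x : D.obj (op A)) : D.map (𝟙 A).op x = x := by
  simp

lemma El.ext' {T : Scheme.{u}} {t t' : T ⟶ S} (h : t = t') (x : D.obj (op (Over.mk t)))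
    (x' : D.obj (op (Over.mk t'))) (hx : x = D.map (castHom h).op x') :
    (⟨t, x⟩ : El D T) = ⟨t', x'⟩ := by
  subst h
  rw [castHom_rfl, map_op_id] at hx
  rw [hx]

lemma El.ext_iff' {T : Scheme.{u}} {t t' : T ⟶ S} (x : D.obj (op (Over.mk t)))
    (x' : D.obj (op (Over.mk t'))) (h : (⟨t, x⟩ : El D T) = ⟨t', x'⟩) :
    ∃ h : t = t', x = D.map (castHom h).op x' := by
  cases h
  refine ⟨rfl, ?_⟩
  rw [castHom_rfl, map_op_id]

/-- pullback of elements -/
def elMap {T T' : Scheme.{u}} (g : T' ⟶ T) (x : El D T) : El D T' :=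
  ⟨g ≫ x.1, D.map (Over.homMk g rfl : Over.mk (g ≫ x.1) ⟶ Over.mk x.1).op x.2⟩

lemma elMap_id {T : Scheme.{u}} (x : El D T) : elMap (𝟙 T) x = x := by
  refine El.ext' (Category.id_comp x.1) _ _ ?_
  rfl

lemma elMap_comp {T T' T'' : Scheme.{u}} (g' : T'' ⟶ T') (g : T' ⟶ T) (x : El D T) :
    elMap (g' ≫ g) x = elMap g' (elMap g x) := by
  refine El.ext' (Category.assoc g' g x.1) _ _ ?_
  have h1 : (Over.homMk (g' ≫ g) rfl : Over.mk ((g' ≫ g) ≫ x.1) ⟶ Over.mk x.1) =
      castHom (Category.assoc g' g x.1) ≫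
        (Over.homMk g' rfl : Over.mk (g' ≫ g ≫ x.1) ⟶ Over.mk (g ≫ x.1)) ≫
        (Over.homMk g rfl : Over.mk (g ≫ x.1) ⟶ Over.mk x.1) := by
    apply Over.OverMorphism.ext
    simp [castHom]
  change D.map (Over.homMk (g' ≫ g) rfl : Over.mk ((g' ≫ g) ≫ x.1) ⟶ Over.mk x.1).op x.2 = _
  rw [h1, map_op_comp, map_op_comp]
  rfl

variable (D)

/-- the `SFun` of a functor on `Over S`. -/
noncomputable def sfun : SFun S where
  F :=
    { obj := fun T => El D T.unop
      map := fun g => ↾(fun x => elMap g.unop x)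
      map_id := fun T => ConcreteCategory.hom_ext _ _ (fun x => elMap_id x)
      map_comp := fun g g' => ConcreteCategory.hom_ext _ _
        (fun x => elMap_comp g'.unop g.unop x) }
  str := fun x => x.1
  str_map := fun _ _ => rfl

variable {D}

lemma pull_eq {T T' : Scheme.{u}} (g : T' ⟶ T) (x : El D T) :
    (sfun D).pull g x = elMap g x := rfl

/-- pulling back along the underlying map of a morphism of `Over S`. -/
lemma pull_left {T : Over S} {s₀ : Scheme.{u}} {M₀ : s₀ ⟶ S} (ξ : D.obj (op (Over.mk M₀)))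
    (z : T ⟶ Over.mk M₀) :
    (sfun D).pull z.left (⟨M₀, ξ⟩ : El D s₀) = (⟨T.hom, D.map z.op ξ⟩ : El D T.left) := by
  refine El.ext' (Over.w z) _ _ ?_
  have h1 : (Over.homMk z.left rfl : Over.mk (z.left ≫ M₀) ⟶ Over.mk M₀) =
      (castHom (Over.w z) : Over.mk (z.left ≫ M₀) ⟶ Over.mk T.hom) ≫ z := by
    apply Over.OverMorphism.ext
    simp [castHom]
  change D.map (Over.homMk z.left rfl : Over.mk (z.left ≫ M₀) ⟶ Over.mk M₀).op ξ = _
  rw [h1, map_op_comp]

/-- from `SFun` representability to representability on `Over S`. -/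
theorem representableBy_of_rep {M₀ : Scheme.{u}} {ξ₀ : El D M₀} (h : (sfun D).Rep M₀ ξ₀) :
    Nonempty (D.RepresentableBy (Over.mk ξ₀.1)) := by
  obtain ⟨s₀, x₀⟩ := ξ₀
  have hinj : ∀ (T : Over S) (z z' : T ⟶ Over.mk s₀), D.map z.op x₀ = D.map z'.op x₀ → z = z' := by
    intro T z z' hz
    apply Over.OverMorphism.ext
    refine (h T.left ⟨T.hom, D.map z.op x₀⟩).unique (pull_left x₀ z) ?_
    rw [pull_left x₀ z', hz]
  have hsurj : ∀ (T : Over S) (y : D.obj (op T)), ∃ z : T ⟶ Over.mk s₀, D.map z.op x₀ = y := by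
    intro T y
    obtain ⟨v, hv, -⟩ := h T.left ⟨T.hom, y⟩
    have h1 : v ≫ s₀ = T.hom := congrArg Sigma.fst hv
    refine ⟨Over.homMk v h1, ?_⟩
    have h2 := pull_left x₀ (Over.homMk v h1 : T ⟶ Over.mk s₀)
    have h3 : (sfun D).pull (Over.homMk v h1 : T ⟶ Over.mk s₀).left (⟨s₀, x₀⟩ : El D M₀) =
        (sfun D).pull v (⟨s₀, x₀⟩ : El D M₀) := rfl
    rw [h3, hv] at h2
    exact (eq_of_heq (Sigma.mk.inj h2).2).symm
  refine ⟨{ homEquiv := fun {T} => Equiv.ofBijective (fun z => D.map z.op x₀)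
              ⟨fun z z' hz => hinj T z z' hz, fun y => hsurj T y⟩
            homEquiv_comp := ?_ }⟩
  intro T T' f g
  change D.map (f ≫ g).op x₀ = D.map f.op (D.map g.op x₀)
  exact map_op_comp f g x₀

end Groth.Agent.Lib.Helper29.OverRep
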