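import Groth.Agent.Lib.Helper29.PA2
universe u
open CategoryTheory CategoryTheory.Limits AlgebraicGeometry Opposite TopologicalSpace
open HomogeneousIdeal HomogeneousLocalization

/-! # `Proj.map` is compatible with `toSpecZero`; irrelevant ideal of the polynomial ring -/

namespace Groth.Agent.Lib.Helper29.QCoh

section MapToSpecZero
variable {A B σ τ : Type u} [CommRing A] [SetLike σ A] [AddSubgroupClass σ A]
  [CommRing B] [SetLike τ B] [AddSubgroupClass τ B]
  {𝒜 : ℕ → σ} {ℬ : ℕ → τ} [GradedRing 𝒜] [GradedRing ℬ]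

set_option backward.isDefEq.respectTransparency false in
theorem proj_map_toSpecZero (f : 𝒜 →+*ᵍ ℬ)
    (hf : HomogeneousIdeal.irrelevant ℬ ≤ (HomogeneousIdeal.irrelevant 𝒜).map f) :
    Proj.map f hf ≫ Proj.toSpecZero 𝒜 =
      Proj.toSpecZero ℬ ≫ Spec.map (CommRingCat.ofHom f.gradedZeroRingHom) := by
  refine (Proj.mapAffineOpenCover f hf).openCover.hom_ext _ _ fun s ↦ ?_
  simp only [Scheme.AffineOpenCover.openCover_f, Proj.mapAffineOpenCover_f]
  rw [Proj.awayι_comp_map_assoc f hf s.1.2 _ s.2.2, Proj.awayι_toSpecZero,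
    Proj.awayι_toSpecZero_assoc, ← Spec.map_comp, ← Spec.map_comp]
  congr 1
  ext a
  simp only [CommRingCat.hom_comp, CommRingCat.hom_ofHom, RingHom.coe_comp, Function.comp_apply]
  simp [fromZeroRingHom, Away.map, HomogeneousLocalization.map_mk]

end MapToSpecZero

end Groth.Agent.Lib.Helper29.QCoh

namespace Groth.Agent.Lib.Helper29.QCoh

theorem irrelevant_polyGrading_eq_span (n : ℕ) (A : Type u) [CommRing A] :
    (HomogeneousIdeal.irrelevant (CohB1.polyGrading n A)).toIdeal =
      Ideal.span (Set.range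
        (MvPolynomial.X : Fin (n + 1) → MvPolynomial (Fin (n + 1)) A)) := by
  classical
  ext p
  change p ∈ HomogeneousIdeal.irrelevant _ ↔ p ∈ MvPolynomial.idealOfVars _ _
  rw [HomogeneousIdeal.mem_irrelevant_iff, GradedRing.proj_apply,
    ← pow_one (MvPolynomial.idealOfVars _ _), MvPolynomial.mem_pow_idealOfVars_iff']
  have h2 : ((DirectSum.decompose (CohB1.polyGrading n A) p 0 : CohB1.polyGrading n A 0) :
      MvPolynomial (Fin (n + 1)) A) = MvPolynomial.homogeneousComponent 0 p :=
    MvPolynomial.decomposition.decompose'_apply p 0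
  rw [h2, MvPolynomial.homogeneousComponent_zero]
  constructor
  · intro h x hx
    have hx0 : x = 0 := by
      have : x.degree = 0 := by omega
      exact (Finsupp.degree_eq_zero_iff x).mp this
    subst hx0
    simpa using congrArg (MvPolynomial.coeff 0) h
  · intro h
    rw [h 0 (by simp), map_zero]

end Groth.Agent.Lib.Helper29.QCoh
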