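import Groth.Prelude.Def_EGA41
import Mathlib

/-!
# `p`-generators (EGA 0_IV 21.1): shared lemmas for S2485 / S2486
-/

set_option autoImplicit false
universe u

namespace Groth.Agent.Lib.Helper29.PBasis

open EGA41

open TensorProduct in
/-- field case -/
theorem surjective_of_unramified_field (p : ℕ) [Fact p.Prime] (κ C : Type u) [Field κ] [CommRing C]
    [Algebra κ C] [Algebra.EssFiniteType κ C] [Algebra.FormallyUnramified κ C]
    (hp : (p : C) = 0) (hpow : ∀ c : C, c ^ p ∈ Set.range (algebraMap κ C)) :
    Function.Surjective (algebraMap κ C) := by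
  classical
  rcases subsingleton_or_nontrivial C with hC | hC
  · intro c
    exact ⟨0, Subsingleton.elim _ _⟩
  have hT : Nontrivial (C ⊗[κ] C) := by
    rw [← not_subsingleton_iff_nontrivial, ← rank_zero_iff (R := κ), rank_tensorProduct',
      mul_eq_zero, or_self, rank_zero_iff, not_subsingleton_iff_nontrivial]
    infer_instance
  have hpT : ((p : ℕ) : C ⊗[κ] C) = 0 := by
    have h1 : ((p : ℕ) : C ⊗[κ] C) = algebraMap C (C ⊗[κ] C) (p : C) := by
      rw [map_natCast]
    rw [h1, hp, map_zero]
  have hcharT : CharP (C ⊗[κ] C) p := (CharP.charP_iff_prime_eq_zero Fact.out).mpr hpT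
  have hfu : Algebra.FormallyUnramified κ (C ⊗[κ] C) := Algebra.FormallyUnramified.comp κ C _
  have heft : Algebra.EssFiniteType κ (C ⊗[κ] C) := Algebra.EssFiniteType.comp κ C _
  have hred : IsReduced (C ⊗[κ] C) := Algebra.FormallyUnramified.isReduced_of_field κ _
  intro x
  have H : (1 ⊗ₜ x : C ⊗[κ] C) = x ⊗ₜ 1 := by
    have hnil : (1 ⊗ₜ x - x ⊗ₜ 1 : C ⊗[κ] C) ^ p = 0 := by
      rw [sub_pow_char, Algebra.TensorProduct.tmul_pow, one_pow, Algebra.TensorProduct.tmul_pow, one_pow]
      obtain ⟨r, hr⟩ := hpow x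
      rw [← hr, Algebra.algebraMap_eq_smul_one, TensorProduct.smul_tmul, sub_self]
    exact sub_eq_zero.mp (IsNilpotent.eq_zero ⟨_, hnil⟩)
  by_cases h' : LinearIndependent κ ![1, x]
  · exfalso
    have h := h'.linearIndepOn_id
    let S := h.extend (Set.subset_univ _)
    let a : S := ⟨1, h.subset_extend _ (by simp)⟩
    have ha : Module.Basis.extend h a = 1 := by simp [a]
    let b : S := ⟨x, h.subset_extend _ (by simp)⟩
    have hb : Module.Basis.extend h b = x := by simp [b]
    by_cases e : a = b
    · have h1x : (1 : C) = x := congr_arg Subtype.val e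
      have := h'.injective.ne (show (0 : Fin 2) ≠ 1 by decide)
      simp [← h1x] at this
    have := DFunLike.congr_fun
      (DFunLike.congr_arg ((Module.Basis.extend h).tensorProduct (Module.Basis.extend h)).repr H) (a, b)
    simp only [Module.Basis.tensorProduct_repr_tmul_apply, ← ha, ← hb, Module.Basis.repr_self, smul_eq_mul,
      Finsupp.single_apply, e, Ne.symm e, ↓reduceIte, mul_one, mul_zero, one_ne_zero] at this
  · rw [LinearIndependent.pair_iff] at h'
    simp only [not_forall, not_and, exists_prop] at h'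
    obtain ⟨a, b, e, hab⟩ := h'
    have : IsUnit b := by
      rw [isUnit_iff_ne_zero]
      rintro rfl
      rw [zero_smul, ← Algebra.algebraMap_eq_smul_one, add_zero,
        (injective_iff_map_eq_zero' _).mp (algebraMap κ C).injective] at e
      cases hab e rfl
    use (-this.unit⁻¹ * a)
    rw [map_mul, ← Algebra.smul_def, Algebra.algebraMap_eq_smul_one, eq_neg_iff_add_eq_zero.mpr e,
      smul_neg, neg_smul, neg_neg, smul_smul, this.val_inv_mul, one_smul]

/-- A finite module `Q` with `𝔪 Q = Q` for all maximal `𝔪` is trivial; in the form: a submodule `N`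
of a finite module `S` with `N ⊔ 𝔪 S = ⊤` for all maximal `𝔪` is `⊤`. -/
theorem eq_top_of_forall_maximal_sup_smul {R S : Type*} [CommRing R] [AddCommGroup S] [Module R S]
    [Module.Finite R S] (N : Submodule R S)
    (h : ∀ 𝔪 : Ideal R, 𝔪.IsMaximal → N ⊔ 𝔪 • (⊤ : Submodule R S) = ⊤) : N = ⊤ := by
  by_contra hN
  -- the quotient module
  have hfin : Module.Finite R (S ⧸ N) := inferInstance
  have hann : Module.annihilator R (S ⧸ N) ≠ ⊤ := by
    intro htop
    apply hN
    rw [eq_top_iff]
    rintro s -
    have h1 : (1 : R) ∈ Module.annihilator R (S ⧸ N) := by rw [htop]; trivial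
    have h2 := Module.mem_annihilator.mp h1 (Submodule.Quotient.mk s)
    rw [one_smul, Submodule.Quotient.mk_eq_zero] at h2
    exact h2
  obtain ⟨𝔪, hmax, hle⟩ := Ideal.exists_le_maximal _ hann
  have htop : (⊤ : Submodule R (S ⧸ N)) ≤ 𝔪 • (⊤ : Submodule R (S ⧸ N)) := by
    rintro q -
    obtain ⟨s, rfl⟩ := Submodule.Quotient.mk_surjective N q
    have hs : s ∈ N ⊔ 𝔪 • (⊤ : Submodule R S) := by rw [h 𝔪 hmax]; trivial
    obtain ⟨n, hn, t, ht, rfl⟩ := Submodule.mem_sup.mp hs
    rw [Submodule.Quotient.mk_add, (Submodule.Quotient.mk_eq_zero N).mpr hn, zero_add]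
    have : Submodule.map N.mkQ (𝔪 • (⊤ : Submodule R S)) ≤ 𝔪 • (⊤ : Submodule R (S ⧸ N)) := by
      rw [Submodule.map_smul'']
      exact Submodule.smul_mono le_rfl le_top
    exact this ⟨t, ht, rfl⟩
  obtain ⟨r, hr1, hr0⟩ := Submodule.exists_sub_one_mem_and_smul_eq_zero_of_fg_of_le_smul 𝔪
    (⊤ : Submodule R (S ⧸ N)) Module.Finite.fg_top htop
  have hrann : r ∈ Module.annihilator R (S ⧸ N) :=
    Module.mem_annihilator.mpr (fun q => hr0 q trivial)
  have hr𝔪 : r ∈ 𝔪 := hle hrann
  have h1 : (1 : R) ∈ 𝔪 := by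
    have := sub_mem hr𝔪 hr1
    simpa using this
  exact hmax.ne_top ((Ideal.eq_top_iff_one _).mpr h1)

theorem surjective_of_unramified_of_pow_mem (p : ℕ) [Fact p.Prime] (R S : Type u) [CommRing R]
    [CommRing S] [Algebra R S] [Algebra.FiniteType R S] [Algebra.FormallyUnramified R S]
    (hp : (p : S) = 0) (hpow : ∀ s : S, s ^ p ∈ Set.range (algebraMap R S)) :
    Function.Surjective (algebraMap R S) := by
  have hint : Algebra.IsIntegral R S := by
    refine ⟨fun s => ?_⟩
    apply IsIntegral.of_pow (Fact.out : p.Prime).pos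
    obtain ⟨r, hr⟩ := hpow s
    rw [← hr]
    exact isIntegral_algebraMap
  have hfin : Module.Finite R S := Algebra.IsIntegral.finite
  have key : LinearMap.range (Algebra.linearMap R S) = ⊤ := by
    apply eq_top_of_forall_maximal_sup_smul
    intro 𝔪 hmax
    rw [eq_top_iff]
    rintro s -
    let _ : Field (R ⧸ 𝔪) := Ideal.Quotient.field 𝔪
    have hsurj := surjective_of_unramified_field p (R ⧸ 𝔪) (S ⧸ 𝔪.map (algebraMap R S))
      (by rw [← map_natCast (Ideal.Quotient.mk (𝔪.map (algebraMap R S))), hp, map_zero])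
      (by
        intro c
        obtain ⟨s', rfl⟩ := Ideal.Quotient.mk_surjective c
        obtain ⟨r, hr⟩ := hpow s'
        refine ⟨Ideal.Quotient.mk 𝔪 r, ?_⟩
        rw [← map_pow, ← hr]
        rfl)
    obtain ⟨c, hc⟩ := hsurj (Ideal.Quotient.mk _ s)
    obtain ⟨r, rfl⟩ := Ideal.Quotient.mk_surjective c
    have h1 : Ideal.Quotient.mk (𝔪.map (algebraMap R S)) (algebraMap R S r)
        = Ideal.Quotient.mk (𝔪.map (algebraMap R S)) s := hc
    have h2 : s - algebraMap R S r ∈ 𝔪.map (algebraMap R S) := by
      rw [← Ideal.Quotient.eq]; exact h1.symm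
    have h3 : s = algebraMap R S r + (s - algebraMap R S r) := by ring
    rw [h3]
    refine Submodule.add_mem_sup ⟨r, rfl⟩ ?_
    have : (𝔪.map (algebraMap R S)).restrictScalars R = 𝔪 • (⊤ : Submodule R S) := by
      rw [Ideal.smul_top_eq_map]
    rw [← this]
    exact h2
  intro s
  have hs : s ∈ LinearMap.range (Algebra.linearMap R S) := by rw [key]; trivial
  obtain ⟨r, hr⟩ := hs
  exact ⟨r, hr⟩

section
variable (p : ℕ) [Fact p.Prime] {A B : Type u} [CommRing A] [CommRing B] [Algebra A B]
  {ι : Type u} (x : ι → B)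

omit [Fact p.Prime] in
theorem pow_mem_pPower (b : B) : b ^ p ∈ pPowerSubalgebra p A B :=
  Algebra.subset_adjoin ⟨b, rfl⟩

omit [Fact p.Prime] in
theorem pMonomial_mem_adjoin (e : ι →₀ ℕ) :
    pMonomial x e ∈ Algebra.adjoin (pPowerSubalgebra p A B) (Set.range x) := by
  unfold pMonomial Finsupp.prod
  exact Subalgebra.prod_mem _ (fun i _ => Subalgebra.pow_mem _ (Algebra.subset_adjoin (Set.mem_range_self i)) _)

/-- the span of the reduced monomials -/
noncomputable def monoSpan : Submodule (pPowerSubalgebra p A B) B :=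
  Submodule.span (pPowerSubalgebra p A B)
    (Set.range fun e : {e : ι →₀ ℕ // ∀ i, e i < p} => pMonomial x e.1)

theorem mul_pMonomial_mem (α : ι) (e : {e : ι →₀ ℕ // ∀ i, e i < p}) :
    x α * pMonomial x e.1 ∈ monoSpan (A := A) p x := by
  classical
  have hp : p.Prime := Fact.out
  rcases lt_or_ge (e.1 α + 1) p with h | h
  · -- exponent stays reduced
    have he' : ∀ i, (e.1 + Finsupp.single α 1 : ι →₀ ℕ) i < p := by
      intro i
      rw [Finsupp.add_apply, Finsupp.single_apply]
      split_ifs with hi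
      · subst hi; exact h
      · rw [add_zero]; exact e.2 i
    have : pMonomial x (e.1 + Finsupp.single α 1) = x α * pMonomial x e.1 := by
      unfold pMonomial
      rw [Finsupp.prod_add_index' (h := fun i n => x i ^ n) (fun _ => pow_zero _)
        (fun _ _ _ => pow_add _ _ _),
        Finsupp.prod_single_index (h := fun i n => x i ^ n) (pow_zero _), pow_one, mul_comm]
    rw [← this]
    exact Submodule.subset_span ⟨⟨_, he'⟩, rfl⟩
  · -- exponent reaches p
    have heα : e.1 α + 1 = p := le_antisymm (e.2 α) h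
    have hsupp : α ∈ e.1.support := by
      rw [Finsupp.mem_support_iff]
      have := hp.two_le
      omega
    have he'' : ∀ i, (e.1.erase α) i < p := by
      intro i
      rw [Finsupp.erase_apply]
      split_ifs
      · exact hp.pos
      · exact e.2 i
    have h1 : pMonomial x e.1 = x α ^ (e.1 α) * pMonomial x (e.1.erase α) := by
      unfold pMonomial
      exact (Finsupp.mul_prod_erase e.1 α (fun i n => x i ^ n) hsupp).symm
    have h2 : x α * pMonomial x e.1
        = (⟨x α ^ p, pow_mem_pPower p (x α)⟩ : pPowerSubalgebra p A B) • pMonomial x (e.1.erase α) := by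
      rw [h1, ← mul_assoc, ← pow_succ', heα]
      rfl
    rw [h2]
    exact Submodule.smul_mem _ _ (Submodule.subset_span ⟨⟨_, he''⟩, rfl⟩)

theorem mul_mem_monoSpan (b : B) (hb : b ∈ Algebra.adjoin (pPowerSubalgebra p A B) (Set.range x))
    (n : B) (hn : n ∈ monoSpan (A := A) p x) : b * n ∈ monoSpan (A := A) p x := by
  induction hb using Algebra.adjoin_induction generalizing n with
  | mem b hb =>
    obtain ⟨α, rfl⟩ := hb
    unfold monoSpan at hn
    induction hn using Submodule.span_induction with
    | mem n hn =>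
      obtain ⟨e, rfl⟩ := hn
      exact mul_pMonomial_mem p x α e
    | zero => rw [mul_zero]; exact Submodule.zero_mem _
    | add n m _ _ hn hm => rw [mul_add]; exact Submodule.add_mem _ hn hm
    | smul a n _ hn =>
      rw [mul_smul_comm]
      exact Submodule.smul_mem _ _ hn
  | algebraMap a =>
    rw [← Algebra.smul_def]
    exact Submodule.smul_mem _ _ hn
  | add b c _ _ hb hc => rw [add_mul]; exact Submodule.add_mem _ (hb n hn) (hc n hn)
  | mul b c _ _ hb hc => rw [mul_assoc]; exact hb _ (hc n hn)

theorem one_mem_monoSpan : (1 : B) ∈ monoSpan (A := A) p x := by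
  have hp : p.Prime := Fact.out
  have : pMonomial x (0 : ι →₀ ℕ) = 1 := by
    unfold pMonomial
    exact Finsupp.prod_zero_index
  rw [← this]
  exact Submodule.subset_span ⟨⟨0, fun i => hp.pos⟩, rfl⟩

/-- (a) ⇔ (b) -/
theorem adjoin_eq_top_iff :
    Algebra.adjoin (pPowerSubalgebra p A B) (Set.range x) = ⊤ ↔ IsPGenerating p A x := by
  unfold IsPGenerating
  constructor
  · intro h
    rw [eq_top_iff]
    rintro b -
    have hb : b ∈ Algebra.adjoin (pPowerSubalgebra p A B) (Set.range x) := by rw [h]; trivial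
    have := mul_mem_monoSpan p x b hb 1 (one_mem_monoSpan p x)
    rwa [mul_one] at this
  · intro h
    rw [eq_top_iff]
    rintro b -
    have hb : b ∈ Submodule.span (pPowerSubalgebra p A B)
        (Set.range fun e : {e : ι →₀ ℕ // ∀ i, e i < p} => pMonomial x e.1) := by rw [h]; trivial
    have hle : Submodule.span (pPowerSubalgebra p A B)
        (Set.range fun e : {e : ι →₀ ℕ // ∀ i, e i < p} => pMonomial x e.1)
        ≤ Subalgebra.toSubmodule (Algebra.adjoin (pPowerSubalgebra p A B) (Set.range x)) := by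
      rw [Submodule.span_le]
      rintro _ ⟨e, rfl⟩
      exact pMonomial_mem_adjoin p x e.1
    exact hle hb

omit [Fact p.Prime] in
theorem D_eq_zero_of_mem_pPower [CharP B p] (b : B) (hb : b ∈ pPowerSubalgebra p A B) :
    KaehlerDifferential.D A B b = 0 := by
  unfold pPowerSubalgebra at hb
  induction hb using Algebra.adjoin_induction with
  | mem b hb =>
    obtain ⟨c, rfl⟩ := hb
    rw [Derivation.leibniz_pow, ← Nat.cast_smul_eq_nsmul B, CharP.cast_eq_zero B p, zero_smul]
  | algebraMap a => exact Derivation.map_algebraMap _ a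
  | add b c _ _ hb hc => rw [map_add, hb, hc, add_zero]
  | mul b c _ _ hb hc => rw [Derivation.leibniz, hb, hc, smul_zero, smul_zero, add_zero]

omit [Fact p.Prime] in
/-- (a) ⇒ (c) -/
theorem span_D_eq_top [CharP B p]
    (h : Algebra.adjoin (pPowerSubalgebra p A B) (Set.range x) = ⊤) :
    Submodule.span B (Set.range fun i => KaehlerDifferential.D A B (x i)) = ⊤ := by
  rw [eq_top_iff, ← KaehlerDifferential.span_range_derivation, Submodule.span_le]
  rintro _ ⟨b, rfl⟩
  have hb : b ∈ Algebra.adjoin (pPowerSubalgebra p A B) (Set.range x) := by rw [h]; trivial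
  induction hb using Algebra.adjoin_induction with
  | mem b hb =>
    obtain ⟨i, rfl⟩ := hb
    exact Submodule.subset_span ⟨i, rfl⟩
  | algebraMap a =>
    have : KaehlerDifferential.D A B (algebraMap (pPowerSubalgebra p A B) B a) = 0 :=
      D_eq_zero_of_mem_pPower p _ a.2
    rw [SetLike.mem_coe, this]
    exact Submodule.zero_mem _
  | add b c _ _ hb hc =>
    rw [map_add]
    exact Submodule.add_mem _ hb hc
  | mul b c _ _ hb hc =>
    rw [Derivation.leibniz]
    exact Submodule.add_mem _ (Submodule.smul_mem _ _ hc) (Submodule.smul_mem _ _ hb)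

/-- (c) ⇒ (a) when `B` is of finite type over `A[B^p]`. -/
theorem adjoin_eq_top_of_span_D [CharP B p]
    (hft : Algebra.FiniteType (pPowerSubalgebra p A B) B)
    (hD : Submodule.span B (Set.range fun i => KaehlerDifferential.D A B (x i)) = ⊤) :
    Algebra.adjoin (pPowerSubalgebra p A B) (Set.range x) = ⊤ := by
  set B' := Algebra.adjoin (pPowerSubalgebra p A B) (Set.range x) with hB'
  have hft' : Algebra.FiniteType B' B :=
    Algebra.FiniteType.of_restrictScalars_finiteType (pPowerSubalgebra p A B) B' B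
  let _ : Algebra A B' :=
    ((algebraMap (pPowerSubalgebra p A B) B').comp (algebraMap A (pPowerSubalgebra p A B))).toAlgebra
  have htower : IsScalarTower A B' B := IsScalarTower.of_algebraMap_eq (fun a => rfl)
  have hfu : Algebra.FormallyUnramified B' B := by
    constructor
    have hsurj := KaehlerDifferential.map_surjective A B' B
    have hzero : ∀ ω : Ω[B⁄A], KaehlerDifferential.map A B' B B ω = 0 := by
      intro ω
      have hω : ω ∈ Submodule.span B (Set.range fun i => KaehlerDifferential.D A B (x i)) := by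
        rw [hD]; trivial
      induction hω using Submodule.span_induction with
      | mem ω hω =>
        obtain ⟨i, rfl⟩ := hω
        rw [KaehlerDifferential.map_D]
        have : (algebraMap B B) (x i) = algebraMap B' B ⟨x i, Algebra.subset_adjoin ⟨i, rfl⟩⟩ := rfl
        rw [this, Derivation.map_algebraMap]
      | zero => exact map_zero _
      | add a b _ _ ha hb => rw [map_add, ha, hb, add_zero]
      | smul c a _ ha => rw [map_smul, ha, smul_zero]
    refine ⟨fun a b => ?_⟩
    obtain ⟨a', rfl⟩ := hsurj a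
    obtain ⟨b', rfl⟩ := hsurj b
    rw [hzero, hzero]
  have hsurj := surjective_of_unramified_of_pow_mem p B' B (CharP.cast_eq_zero B p) (by
    intro b
    exact ⟨algebraMap (pPowerSubalgebra p A B) B' ⟨b ^ p, pow_mem_pPower p b⟩, rfl⟩)
  rw [eq_top_iff]
  rintro b -
  obtain ⟨r, rfl⟩ := hsurj b
  exact r.2

end

end Groth.Agent.Lib.Helper29.PBasis
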