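import Groth.Agent.Lib.Helper29.PCT1
import Groth.Prelude.Def_PCone
universe u
open CategoryTheory CategoryTheory.Limits AlgebraicGeometry Opposite TopologicalSpace

/-! # The partially defined morphism `G(φ) → Proj 𝒜` and Serre twists -/

namespace Groth.Agent.Lib.Helper29.QCoh

section PCT2
variable {R A : Type u} [CommRing R] [CommRing A] [Algebra R A] {𝒜 : ℕ → Submodule R A} [GradedAlgebra 𝒜]
  {B : Type u} [CommRing B] [Algebra R B] {ℬ : ℕ → Submodule R B} [GradedAlgebra ℬ] (φ : 𝒜 →+*ᵍ ℬ)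
open HomogeneousLocalization

theorem pcone_chart_fac {d : ℕ} {f : A} (hf : f ∈ 𝒜 d) (hd : 0 < d) :
    PCone.chart φ hf hd ≫ (PCone.dom φ).ι = Proj.awayι ℬ (φ f) (φ.2 hf) hd :=
  IsOpenImmersion.lift_fac _ _ _

instance pcone_chart_isOpenImmersion {d : ℕ} {f : A} (hf : f ∈ 𝒜 d) (hd : 0 < d) :
    IsOpenImmersion (PCone.chart φ hf hd) := by
  have : IsOpenImmersion (PCone.chart φ hf hd ≫ (PCone.dom φ).ι) := by
    rw [pcone_chart_fac]; infer_instance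
  exact IsOpenImmersion.of_comp _ (PCone.dom φ).ι

theorem basicOpen_le_dom {d : ℕ} {f : A} (hf : f ∈ 𝒜 d) (hd : 0 < d) :
    Proj.basicOpen ℬ (φ f) ≤ PCone.dom φ :=
  le_iSup (fun f : {f : A // ∃ d : ℕ, 0 < d ∧ f ∈ 𝒜 d} => Proj.basicOpen ℬ (φ f.1))
    ⟨f, d, hd, hf⟩

/-- The open `D_+(φ f) ⊆ G(φ)`. -/
noncomputable def VV (f : A) : (PCone.dom φ : Scheme.{u}).Opens :=
  (PCone.dom φ).ι ⁻¹ᵁ Proj.basicOpen ℬ (φ f)

theorem image_VV {d : ℕ} {f : A} (hf : f ∈ 𝒜 d) (hd : 0 < d) :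
    (PCone.dom φ).ι ''ᵁ VV φ f = Proj.basicOpen ℬ (φ f) := by
  unfold VV
  rw [Scheme.Hom.image_preimage_eq_opensRange_inf, Scheme.Opens.opensRange_ι]
  exact inf_eq_right.mpr (basicOpen_le_dom φ hf hd)

theorem VV_mul (f g : A) : VV φ (f * g) = VV φ f ⊓ VV φ g := by
  unfold VV
  rw [map_mul, Proj.basicOpen_mul]
  rfl

theorem chart_preimage_VV {d : ℕ} {f : A} (hf : f ∈ 𝒜 d) (hd : 0 < d) :
    PCone.chart φ hf hd ⁻¹ᵁ VV φ f = ⊤ := by
  unfold VV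
  rw [← Scheme.Hom.comp_preimage, pcone_chart_fac, awayι_preimage_basicOpen_top]

theorem opensRange_chart {d : ℕ} {f : A} (hf : f ∈ 𝒜 d) (hd : 0 < d) :
    (PCone.chart φ hf hd).opensRange = VV φ f := by
  apply le_antisymm
  · rintro _ ⟨y, rfl⟩
    have : y ∈ PCone.chart φ hf hd ⁻¹ᵁ VV φ f := by rw [chart_preimage_VV]; trivial
    exact this
  · intro x hx
    have hx' : ((PCone.dom φ).ι x) ∈ (Proj.awayι ℬ (φ f) (φ.2 hf) hd).opensRange := by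
      rw [Proj.opensRange_awayι]; exact hx
    obtain ⟨y, hy⟩ := hx'
    refine ⟨y, ?_⟩
    apply (PCone.dom φ).ι.injective
    rw [← hy, ← pcone_chart_fac φ hf hd]
    rfl

variable (p : (PCone.dom φ : Scheme.{u}) ⟶ Proj 𝒜)
    (hp : ∀ (d : ℕ) (f : A) (hd : 0 < d) (hf : f ∈ 𝒜 d),
        PCone.chart φ hf hd ≫ p =
          Spec.map (CommRingCat.ofHom (HomogeneousLocalization.Away.map φ f)) ≫
            Proj.awayι 𝒜 f hf hd)

include hp in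
theorem VV_le_preimage {d : ℕ} {f : A} (hf : f ∈ 𝒜 d) (hd : 0 < d) :
    VV φ f ≤ p ⁻¹ᵁ Proj.basicOpen 𝒜 f := by
  intro x hx
  rw [← opensRange_chart φ hf hd] at hx
  obtain ⟨y, rfl⟩ := hx
  change p (PCone.chart φ hf hd y) ∈ Proj.basicOpen 𝒜 f
  rw [← Scheme.Hom.comp_apply, hp d f hd hf, Scheme.Hom.comp_apply,
    ← Proj.opensRange_awayι 𝒜 f hf hd]
  exact ⟨_, rfl⟩

theorem exists_mem_VV
    (hgen : (HomogeneousIdeal.irrelevant 𝒜).toIdeal = Ideal.span (𝒜 1 : Set A))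
    (x : (PCone.dom φ : Scheme.{u})) : ∃ f : 𝒜 1, x ∈ VV φ f.1 := by
  obtain ⟨⟨g, d, hd, hg⟩, hx⟩ := Opens.mem_iSup.mp x.2
  by_contra hcon
  push_neg at hcon
  have hmem : ∀ f : 𝒜 1, φ f.1 ∈ x.1.asHomogeneousIdeal := by
    intro f
    by_contra h
    exact hcon f h
  have hgI : g ∈ (HomogeneousIdeal.irrelevant 𝒜).toIdeal :=
    HomogeneousIdeal.mem_irrelevant_of_mem 𝒜 hd hg
  rw [hgen] at hgI
  have hle : Ideal.span (𝒜 1 : Set A) ≤
      Ideal.comap (φ : A →+* B) x.1.asHomogeneousIdeal.toIdeal := by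
    rw [Ideal.span_le]
    intro a ha
    exact hmem ⟨a, ha⟩
  exact hx (hle hgI)

end PCT2

end Groth.Agent.Lib.Helper29.QCoh
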