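import Groth.Agent.Lib.Helper29.PCT2
universe u
open CategoryTheory CategoryTheory.Limits AlgebraicGeometry Opposite TopologicalSpace

namespace Groth.Agent.Lib.Helper29.QCoh

section PCT3
variable {R A : Type u} [CommRing R] [CommRing A] [Algebra R A] {𝒜 : ℕ → Submodule R A} [GradedAlgebra 𝒜]
  {B : Type u} [CommRing B] [Algebra R B] {ℬ : ℕ → Submodule R B} [GradedAlgebra ℬ] (φ : 𝒜 →+*ᵍ ℬ)
open HomogeneousLocalization

theorem rres_injective_of_le {X : Scheme.{u}} {U V : X.Opens} (h : V ≤ U) (h' : U ≤ V) :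
    Function.Injective (rres X h) := by
  have h1 : ∀ c, rres X h' (rres X h c) = c := by
    intro c
    have : X.presheaf.map (homOfLE h).op ≫ X.presheaf.map (homOfLE h').op = 𝟙 _ := by
      rw [← Functor.map_comp]
      exact X.presheaf.map_id _
    exact congrArg (fun k => k.hom c) this
  intro a b hab
  rw [← h1 a, hab, h1 b]

/-- `(f/g)^(p-q)` over `D_+(fg)` as a degree-zero fraction with denominator `(fg)^(p+q)`. -/
theorem cSec_eq_awayToSection (f g : 𝒜 1) (p' q' : ℕ) (h : A) (hhm : h ∈ 𝒜 2)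
    (hh : h = f.1 * g.1) (num : A) (hnum : num ∈ 𝒜 ((p' + q') • 2))
    (hn : num = f.1 ^ (2 * p') * g.1 ^ (2 * q'))
    (hV : Proj.basicOpen 𝒜 h ≤ Proj.basicOpen 𝒜 f.1 ⊓ Proj.basicOpen 𝒜 g.1) :
    cSec f g p' q' (Proj.basicOpen 𝒜 h) hV =
      (Proj.awayToSection 𝒜 h).hom (Away.mk 𝒜 hhm (p' + q') num hnum) := by
  subst hh hn
  apply ofun_ext
  intro x
  rw [ofun_cSec]
  have : ofun 𝒜 ((Proj.awayToSection 𝒜 (f.1 * g.1)).hom
      (Away.mk 𝒜 hhm (p' + q') (f.1 ^ (2 * p') * g.1 ^ (2 * q')) hnum)) x =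
      Localization.mk (f.1 ^ (2 * p') * g.1 ^ (2 * q'))
        ⟨(f.1 * g.1) ^ (p' + q'), pow_not_mem_of_not_mem x.2 (p' + q')⟩ := rfl
  rw [this]
  apply mk_eq_mk_of_mul_eq
  simp only
  ring

/-- degree-one elements of `ℬ` coming from `𝒜`. -/
def φ1 (f : 𝒜 1) : ℬ 1 := ⟨φ f.1, φ.2 f.2⟩

variable (p : (PCone.dom φ : Scheme.{u}) ⟶ Proj 𝒜)
    (hp : ∀ (d : ℕ) (f : A) (hd : 0 < d) (hf : f ∈ 𝒜 d),
        PCone.chart φ hf hd ≫ p =
          Spec.map (CommRingCat.ofHom (HomogeneousLocalization.Away.map φ f)) ≫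
            Proj.awayι 𝒜 f hf hd)

include hp in
theorem VV_inf_le_preimage (f g : 𝒜 1) :
    VV φ f.1 ⊓ VV φ g.1 ≤ p ⁻¹ᵁ (Proj.basicOpen 𝒜 f.1 ⊓ Proj.basicOpen 𝒜 g.1) :=
  fun _ hx => ⟨VV_le_preimage φ p hp f.2 one_pos hx.1, VV_le_preimage φ p hp g.2 one_pos hx.2⟩

theorem VV_inf_le_preimage_ι (f g : 𝒜 1) :
    VV φ f.1 ⊓ VV φ g.1 ≤ (PCone.dom φ).ι ⁻¹ᵁ
      (Proj.basicOpen ℬ (φ1 φ f).1 ⊓ Proj.basicOpen ℬ (φ1 φ g).1) :=
  fun _ hx => ⟨hx.1, hx.2⟩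

theorem VV_le_preimage_ι' (f : A) :
    VV φ f ≤ (PCone.dom φ).ι ⁻¹ᵁ Proj.basicOpen ℬ (φ f) := fun _ hx => hx

include hp in
/-- **Key**: `p^♯((f/g)^n) = (φ f/φ g)^n` on `D_+(φ f) ∩ D_+(φ g)`. -/
theorem appLE_cSec (f g : 𝒜 1) (p' q' : ℕ) :
    (p.appLE (Proj.basicOpen 𝒜 f.1 ⊓ Proj.basicOpen 𝒜 g.1) (VV φ f.1 ⊓ VV φ g.1)
        (VV_inf_le_preimage φ p hp f g)).hom
      (cSec f g p' q' (Proj.basicOpen 𝒜 f.1 ⊓ Proj.basicOpen 𝒜 g.1) le_rfl) =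
    ((PCone.dom φ).ι.appLE (Proj.basicOpen ℬ (φ1 φ f).1 ⊓ Proj.basicOpen ℬ (φ1 φ g).1)
        (VV φ f.1 ⊓ VV φ g.1) (VV_inf_le_preimage_ι φ f g)).hom
      (cSec (φ1 φ f) (φ1 φ g) p' q'
        (Proj.basicOpen ℬ (φ1 φ f).1 ⊓ Proj.basicOpen ℬ (φ1 φ g).1) le_rfl) := by
  set h := f.1 * g.1 with hh
  have hhm : h ∈ 𝒜 2 := SetLike.mul_mem_graded f.2 g.2
  have hD : Proj.basicOpen 𝒜 h ≤ Proj.basicOpen 𝒜 f.1 ⊓ Proj.basicOpen 𝒜 g.1 :=
    (Proj.basicOpen_mul 𝒜 f.1 g.1).le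
  have hφh : φ h = (φ1 φ f).1 * (φ1 φ g).1 := map_mul φ f.1 g.1
  have hE : Proj.basicOpen ℬ (φ h) ≤
      Proj.basicOpen ℬ (φ1 φ f).1 ⊓ Proj.basicOpen ℬ (φ1 φ g).1 := by
    rw [hφh]; exact (Proj.basicOpen_mul ℬ _ _).le
  have hW1 : VV φ h ≤ VV φ f.1 ⊓ VV φ g.1 := (VV_mul φ f.1 g.1).le
  have hW2 : VV φ f.1 ⊓ VV φ g.1 ≤ VV φ h := (VV_mul φ f.1 g.1).ge
  set num := f.1 ^ (2 * p') * g.1 ^ (2 * q') with hnumdef
  have hnum : num ∈ 𝒜 ((p' + q') • 2) := by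
    have := SetLike.mul_mem_graded (SetLike.pow_mem_graded (2 * p') f.2)
      (SetLike.pow_mem_graded (2 * q') g.2)
    have e : (2 * p') • 1 + (2 * q') • 1 = (p' + q') • 2 := by
      simp only [smul_eq_mul]; ring
    rwa [e] at this
  have hφnum : φ num = (φ1 φ f).1 ^ (2 * p') * (φ1 φ g).1 ^ (2 * q') := by
    rw [hnumdef, map_mul, map_pow, map_pow]; rfl
  apply rres_injective_of_le hW1 hW2
  have e := (chart_preimage_VV φ hhm two_pos).ge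
  have hci : Function.Injective ((PCone.chart φ hhm two_pos).appLE (VV φ h) ⊤ e).hom := by
    have hiso : IsIso ((PCone.chart φ hhm two_pos).app (VV φ h)) :=
      (PCone.chart φ hhm two_pos).isIso_app _ (opensRange_chart φ hhm two_pos).ge
    have : (PCone.chart φ hhm two_pos).appLE (VV φ h) ⊤ e =
        (PCone.chart φ hhm two_pos).app (VV φ h) ≫ (Spec _).presheaf.map (homOfLE e).op := rfl
    rw [this, CommRingCat.hom_comp, RingHom.coe_comp]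
    exact (rres_injective_of_le e le_top).comp (ConcreteCategory.bijective_of_isIso _).1
  apply hci
  -- left side
  have e1 : rres _ hW1 ((p.appLE (Proj.basicOpen 𝒜 f.1 ⊓ Proj.basicOpen 𝒜 g.1)
        (VV φ f.1 ⊓ VV φ g.1) (VV_inf_le_preimage φ p hp f g)).hom
      (cSec f g p' q' (Proj.basicOpen 𝒜 f.1 ⊓ Proj.basicOpen 𝒜 g.1) le_rfl)) =
      (p.appLE (Proj.basicOpen 𝒜 h) (VV φ h) (VV_le_preimage φ p hp hhm two_pos)).hom
        ((Proj.awayToSection 𝒜 h).hom (Away.mk 𝒜 hhm (p' + q') num hnum)) := by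
    rw [← cSec_eq_awayToSection f g p' q' h hhm hh num hnum hnumdef hD]
    have h1 : p.appLE (Proj.basicOpen 𝒜 f.1 ⊓ Proj.basicOpen 𝒜 g.1)
        (VV φ f.1 ⊓ VV φ g.1) (VV_inf_le_preimage φ p hp f g) ≫
          (PCone.dom φ : Scheme.{u}).presheaf.map (homOfLE hW1).op =
        (Proj 𝒜).presheaf.map (homOfLE hD).op ≫
          p.appLE (Proj.basicOpen 𝒜 h) (VV φ h) (VV_le_preimage φ p hp hhm two_pos) := by
      rw [Scheme.Hom.appLE_map, Scheme.Hom.map_appLE]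
    have h2 := congrArg (fun k => k.hom
      (cSec f g p' q' (Proj.basicOpen 𝒜 f.1 ⊓ Proj.basicOpen 𝒜 g.1) le_rfl)) h1
    simp only [CommRingCat.hom_comp, RingHom.coe_comp, Function.comp_apply] at h2
    exact h2
  have e2 : rres _ hW1 (((PCone.dom φ).ι.appLE
        (Proj.basicOpen ℬ (φ1 φ f).1 ⊓ Proj.basicOpen ℬ (φ1 φ g).1)
        (VV φ f.1 ⊓ VV φ g.1) (VV_inf_le_preimage_ι φ f g)).hom
      (cSec (φ1 φ f) (φ1 φ g) p' q'
        (Proj.basicOpen ℬ (φ1 φ f).1 ⊓ Proj.basicOpen ℬ (φ1 φ g).1) le_rfl)) =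
      ((PCone.dom φ).ι.appLE (Proj.basicOpen ℬ (φ h)) (VV φ h) (VV_le_preimage_ι' φ h)).hom
        ((Proj.awayToSection ℬ (φ h)).hom
          (Away.mk ℬ (φ.2 hhm) (p' + q') (φ num) (φ.2 hnum))) := by
    rw [← cSec_eq_awayToSection (φ1 φ f) (φ1 φ g) p' q' (φ h) (φ.2 hhm) hφh (φ num) (φ.2 hnum)
      hφnum hE]
    have h1 : (PCone.dom φ).ι.appLE
        (Proj.basicOpen ℬ (φ1 φ f).1 ⊓ Proj.basicOpen ℬ (φ1 φ g).1)
        (VV φ f.1 ⊓ VV φ g.1) (VV_inf_le_preimage_ι φ f g) ≫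
          (PCone.dom φ : Scheme.{u}).presheaf.map (homOfLE hW1).op =
        (Proj ℬ).presheaf.map (homOfLE hE).op ≫
          (PCone.dom φ).ι.appLE (Proj.basicOpen ℬ (φ h)) (VV φ h) (VV_le_preimage_ι' φ h) := by
      rw [Scheme.Hom.appLE_map, Scheme.Hom.map_appLE]
    have h2 := congrArg (fun k => k.hom
      (cSec (φ1 φ f) (φ1 φ g) p' q'
        (Proj.basicOpen ℬ (φ1 φ f).1 ⊓ Proj.basicOpen ℬ (φ1 φ g).1) le_rfl)) h1
    simp only [CommRingCat.hom_comp, RingHom.coe_comp, Function.comp_apply] at h2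
    exact h2
  rw [e1, e2]
  have h3 := appLE_awayToSection_of_comp_eq 𝒜 (PCone.chart φ hhm two_pos) p hhm two_pos _
    (hp 2 h two_pos hhm) (VV φ h) (VV_le_preimage φ p hp hhm two_pos) e
    (Away.mk 𝒜 hhm (p' + q') num hnum)
  have h4 := appLE_awayToSection_of_comp_eq ℬ (PCone.chart φ hhm two_pos) (PCone.dom φ).ι
    (f := φ h) (Graded.map_mem φ hhm) two_pos (𝟙 _)
    (by rw [Spec.map_id, Category.id_comp]; exact pcone_chart_fac φ hhm two_pos) (VV φ h)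
    (VV_le_preimage_ι' φ h) e (Away.mk ℬ (Graded.map_mem φ hhm) (p' + q') (φ num) (Graded.map_mem φ hnum))
  refine h3.trans (Eq.trans ?_ h4.symm)
  simp only [CommRingCat.hom_ofHom, CommRingCat.hom_id, RingHom.id_apply]
  rw [Away.map_mk]

end PCT3

end Groth.Agent.Lib.Helper29.QCoh
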