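import Groth.Agent.Lib.Helper29.PCT3
import Groth.Agent.Lib.Helper29.Cocycle
universe u
open CategoryTheory CategoryTheory.Limits AlgebraicGeometry Opposite TopologicalSpace

namespace Groth.Agent.Lib.Helper29.QCoh

section PCT4
variable {R A : Type u} [CommRing R] [CommRing A] [Algebra R A] {𝒜 : ℕ → Submodule R A} [GradedAlgebra 𝒜]
  {B : Type u} [CommRing B] [Algebra R B] {ℬ : ℕ → Submodule R B} [GradedAlgebra ℬ] (φ : 𝒜 →+*ᵍ ℬ)
open HomogeneousLocalization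

theorem rres_cSec {d : ℕ} (f g : 𝒜 d) (p q : ℕ) {V V' : (Proj 𝒜).Opens}
    (hV : V ≤ Proj.basicOpen 𝒜 f.1 ⊓ Proj.basicOpen 𝒜 g.1) (h : V' ≤ V) :
    rres (Proj 𝒜) h (cSec f g p q V hV) = cSec f g p q V' (h.trans hV) := rfl

variable (p : (PCone.dom φ : Scheme.{u}) ⟶ Proj 𝒜)
    (hp : ∀ (d : ℕ) (f : A) (hd : 0 < d) (hf : f ∈ 𝒜 d),
        PCone.chart φ hf hd ≫ p =
          Spec.map (CommRingCat.ofHom (HomogeneousLocalization.Away.map φ f)) ≫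
            Proj.awayι 𝒜 f hf hd)
    (n : ℤ) (p' q' : ℕ) (hn : n = ((p' : ℤ) - q') * (1 : ℕ))

/-- local generator of the pullback. -/
noncomputable def mSec (f : 𝒜 1) :
    Γ((Scheme.Modules.pullback p).obj (Twist.twist 𝒜 n), VV φ f.1) :=
  QCoh.res _ (VV_le_preimage φ p hp f.2 one_pos)
    (pullSect p (Twist.twist 𝒜 n) (Proj.basicOpen 𝒜 f.1)
      (eSec n f p' q' hn (Proj.basicOpen 𝒜 f.1) le_rfl))

theorem isTriv_mSec (f : 𝒜 1) :
    IsTriv ((Scheme.Modules.pullback p).obj (Twist.twist 𝒜 n)) (VV φ f.1)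
      (mSec φ p hp n p' q' hn f) :=
  ((isTriv_eSec n f p' q' hn _ le_rfl).pullSect p).restrict _

theorem res_mSec (f : 𝒜 1) (V : (Proj 𝒜).Opens) (hV : V ≤ Proj.basicOpen 𝒜 f.1)
    (W : (PCone.dom φ : Scheme.{u}).Opens) (hW : W ≤ p ⁻¹ᵁ V) (hW' : W ≤ VV φ f.1) :
    QCoh.res _ hW' (mSec φ p hp n p' q' hn f) =
      QCoh.res _ hW (pullSect p (Twist.twist 𝒜 n) V (eSec n f p' q' hn V hV)) := by
  have h1 := pullSect_res p (Twist.twist 𝒜 n) hV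
    (eSec n f p' q' hn (Proj.basicOpen 𝒜 f.1) le_rfl)
  rw [res_eSec] at h1
  rw [h1, res_res]
  exact res_res _ _ _ _

theorem image_VV_le (f : 𝒜 1) :
    (PCone.dom φ).ι ''ᵁ VV φ f.1 ≤ Proj.basicOpen ℬ (φ1 φ f).1 :=
  (image_VV φ f.2 one_pos).le

/-- local generator of the restriction. -/
noncomputable def nSec (f : 𝒜 1) :
    Γ((Twist.twist ℬ n).restrict (PCone.dom φ).ι, VV φ f.1) :=
  eSec n (φ1 φ f) p' q' hn ((PCone.dom φ).ι ''ᵁ VV φ f.1) (image_VV_le φ f)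

theorem isTriv_nSec (f : 𝒜 1) :
    IsTriv ((Twist.twist ℬ n).restrict (PCone.dom φ).ι) (VV φ f.1) (nSec φ n p' q' hn f) :=
  IsTriv.to_restrict _ (isTriv_eSec n (φ1 φ f) p' q' hn _ (image_VV_le φ f))

end PCT4

end Groth.Agent.Lib.Helper29.QCoh
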