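import Groth.Agent.Lib.Helper29.PCT4
universe u
open CategoryTheory CategoryTheory.Limits AlgebraicGeometry Opposite TopologicalSpace

namespace Groth.Agent.Lib.Helper29.QCoh

section PCT5
variable {R A : Type u} [CommRing R] [CommRing A] [Algebra R A] {𝒜 : ℕ → Submodule R A} [GradedAlgebra 𝒜]
  {B : Type u} [CommRing B] [Algebra R B] {ℬ : ℕ → Submodule R B} [GradedAlgebra ℬ] (φ : 𝒜 →+*ᵍ ℬ)
open HomogeneousLocalization

variable (p : (PCone.dom φ : Scheme.{u}) ⟶ Proj 𝒜)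
    (hp : ∀ (d : ℕ) (f : A) (hd : 0 < d) (hf : f ∈ 𝒜 d),
        PCone.chart φ hf hd ≫ p =
          Spec.map (CommRingCat.ofHom (HomogeneousLocalization.Away.map φ f)) ≫
            Proj.awayι 𝒜 f hf hd)
    (n : ℤ) (p' q' : ℕ) (hn : n = ((p' : ℤ) - q') * (1 : ℕ))

/-- the transition function. -/
noncomputable def cFun (f g : 𝒜 1) : Γ((PCone.dom φ : Scheme.{u}), VV φ f.1 ⊓ VV φ g.1) :=
  (p.appLE (Proj.basicOpen 𝒜 f.1 ⊓ Proj.basicOpen 𝒜 g.1) (VV φ f.1 ⊓ VV φ g.1)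
      (VV_inf_le_preimage φ p hp f g)).hom
    (cSec f g p' q' (Proj.basicOpen 𝒜 f.1 ⊓ Proj.basicOpen 𝒜 g.1) le_rfl)

theorem mSec_cocycle (f g : 𝒜 1) :
    QCoh.res _ (inf_le_left : VV φ f.1 ⊓ VV φ g.1 ≤ VV φ f.1) (mSec φ p hp n p' q' hn f) =
      cFun φ p hp p' q' f g •
        QCoh.res _ (inf_le_right : VV φ f.1 ⊓ VV φ g.1 ≤ VV φ g.1)
          (mSec φ p hp n p' q' hn g) := by
  rw [res_mSec φ p hp n p' q' hn f _ inf_le_left _ (VV_inf_le_preimage φ p hp f g) inf_le_left,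
    res_mSec φ p hp n p' q' hn g _ inf_le_right _ (VV_inf_le_preimage φ p hp f g) inf_le_right,
    eSec_eq_cSec_smul n f g p' q' hn _ le_rfl, pullSect_smul, res_smul]
  rfl

end PCT5

end Groth.Agent.Lib.Helper29.QCoh
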