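import Groth.Agent.Lib.Helper29.PCT5
universe u
open CategoryTheory CategoryTheory.Limits AlgebraicGeometry Opposite TopologicalSpace

namespace Groth.Agent.Lib.Helper29.QCoh

section PCT6
variable {R A : Type u} [CommRing R] [CommRing A] [Algebra R A] {𝒜 : ℕ → Submodule R A} [GradedAlgebra 𝒜]
  {B : Type u} [CommRing B] [Algebra R B] {ℬ : ℕ → Submodule R B} [GradedAlgebra ℬ] (φ : 𝒜 →+*ᵍ ℬ)
open HomogeneousLocalization

variable (p : (PCone.dom φ : Scheme.{u}) ⟶ Proj 𝒜)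
    (hp : ∀ (d : ℕ) (f : A) (hd : 0 < d) (hf : f ∈ 𝒜 d),
        PCone.chart φ hf hd ≫ p =
          Spec.map (CommRingCat.ofHom (HomogeneousLocalization.Away.map φ f)) ≫
            Proj.awayι 𝒜 f hf hd)
    (n : ℤ) (p' q' : ℕ) (hn : n = ((p' : ℤ) - q') * (1 : ℕ))

theorem image_inf_le (f g : 𝒜 1) : (PCone.dom φ).ι ''ᵁ (VV φ f.1 ⊓ VV φ g.1) ≤
    Proj.basicOpen ℬ (φ1 φ f).1 ⊓ Proj.basicOpen ℬ (φ1 φ g).1 :=
  le_inf (((PCone.dom φ).ι.image_mono inf_le_left).trans (image_VV_le φ f))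
    (((PCone.dom φ).ι.image_mono inf_le_right).trans (image_VV_le φ g))

include hp in
theorem appIso_inv_cFun (f g : 𝒜 1) :
    ((PCone.dom φ).ι.appIso (VV φ f.1 ⊓ VV φ g.1)).inv.hom (cFun φ p hp p' q' f g) =
      cSec (φ1 φ f) (φ1 φ g) p' q' ((PCone.dom φ).ι ''ᵁ (VV φ f.1 ⊓ VV φ g.1))
        (image_inf_le φ f g) := by
  unfold cFun
  rw [appLE_cSec φ p hp f g p' q']
  have h3 := Scheme.Hom.appLE_appIso_inv (PCone.dom φ).ι (VV_inf_le_preimage_ι φ f g)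
  have h4 := congrArg (fun k => k.hom (cSec (φ1 φ f) (φ1 φ g) p' q'
    (Proj.basicOpen ℬ (φ1 φ f).1 ⊓ Proj.basicOpen ℬ (φ1 φ g).1) le_rfl)) h3
  simp only [CommRingCat.hom_comp, RingHom.coe_comp, Function.comp_apply] at h4
  rw [h4]
  rfl

theorem res_nSec_left (f g : 𝒜 1) :
    QCoh.res ((Twist.twist ℬ n).restrict (PCone.dom φ).ι)
        (inf_le_left : VV φ f.1 ⊓ VV φ g.1 ≤ VV φ f.1) (nSec φ n p' q' hn f) =
      eSec n (φ1 φ f) p' q' hn ((PCone.dom φ).ι ''ᵁ (VV φ f.1 ⊓ VV φ g.1))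
        ((image_inf_le φ f g).trans inf_le_left) := rfl

theorem res_nSec_right (f g : 𝒜 1) :
    QCoh.res ((Twist.twist ℬ n).restrict (PCone.dom φ).ι)
        (inf_le_right : VV φ f.1 ⊓ VV φ g.1 ≤ VV φ g.1) (nSec φ n p' q' hn g) =
      eSec n (φ1 φ g) p' q' hn ((PCone.dom φ).ι ''ᵁ (VV φ f.1 ⊓ VV φ g.1))
        ((image_inf_le φ f g).trans inf_le_right) := rfl

end PCT6

end Groth.Agent.Lib.Helper29.QCoh
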