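import Groth.Agent.Lib.Helper29.PCT6
universe u
open CategoryTheory CategoryTheory.Limits AlgebraicGeometry Opposite TopologicalSpace

namespace Groth.Agent.Lib.Helper29.QCoh

section PCT7
variable {R A : Type u} [CommRing R] [CommRing A] [Algebra R A] {𝒜 : ℕ → Submodule R A} [GradedAlgebra 𝒜]
  {B : Type u} [CommRing B] [Algebra R B] {ℬ : ℕ → Submodule R B} [GradedAlgebra ℬ] (φ : 𝒜 →+*ᵍ ℬ)
open HomogeneousLocalization

variable (p : (PCone.dom φ : Scheme.{u}) ⟶ Proj 𝒜)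
    (hp : ∀ (d : ℕ) (f : A) (hd : 0 < d) (hf : f ∈ 𝒜 d),
        PCone.chart φ hf hd ≫ p =
          Spec.map (CommRingCat.ofHom (HomogeneousLocalization.Away.map φ f)) ≫
            Proj.awayι 𝒜 f hf hd)
    (n : ℤ) (p' q' : ℕ) (hn : n = ((p' : ℤ) - q') * (1 : ℕ))

theorem nSec_cocycle (f g : 𝒜 1) :
    QCoh.res ((Twist.twist ℬ n).restrict (PCone.dom φ).ι)
        (inf_le_left : VV φ f.1 ⊓ VV φ g.1 ≤ VV φ f.1) (nSec φ n p' q' hn f) =
      cFun φ p hp p' q' f g •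
        QCoh.res ((Twist.twist ℬ n).restrict (PCone.dom φ).ι)
          (inf_le_right : VV φ f.1 ⊓ VV φ g.1 ≤ VV φ g.1) (nSec φ n p' q' hn g) := by
  rw [res_nSec_left, res_nSec_right, restrict_smul, appIso_inv_cFun φ p hp p' q' f g,
    eSec_eq_cSec_smul n (φ1 φ f) (φ1 φ g) p' q' hn _ (image_inf_le φ f g)]

include hp in
theorem exists_iso_pullback_twist_pcone
    (hgen : (HomogeneousIdeal.irrelevant 𝒜).toIdeal = Ideal.span (𝒜 1 : Set A)) :
    Nonempty ((Scheme.Modules.pullback p).obj (Twist.twist 𝒜 n) ≅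
      (Twist.twist ℬ n).restrict (PCone.dom φ).ι) := by
  obtain ⟨p', q', hn⟩ : ∃ p' q' : ℕ, n = ((p' : ℤ) - q') * (1 : ℕ) :=
    ⟨n.toNat, (-n).toNat, by rw [Int.toNat_sub_toNat_neg]; simp⟩
  obtain ⟨τ, -⟩ := exists_iso_of_cocycle (U := fun f : 𝒜 1 => VV φ f.1)
    (m := mSec φ p hp n p' q' hn) (n := nSec φ n p' q' hn)
    (exists_mem_VV φ hgen) (isTriv_mSec φ p hp n p' q' hn) (isTriv_nSec φ n p' q' hn)
    (fun f g => ⟨cFun φ p hp p' q' f g, mSec_cocycle φ p hp n p' q' hn f g,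
      nSec_cocycle φ p hp n p' q' hn f g⟩)
  exact ⟨τ⟩

end PCT7

end Groth.Agent.Lib.Helper29.QCoh
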