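import Groth.Agent.Lib.Helper29.Twist5
import Mathlib

universe u
open CategoryTheory AlgebraicGeometry Opposite TopologicalSpace

namespace Groth.Agent.Lib.Helper29.PN
open Groth.Agent.Lib.Helper29.QCoh

section Alg
variable {R A : Type u} [CommRing R] [CommRing A] [IsDomain A] [Algebra R A]
  (𝒜 : ℕ → Submodule R A) [GradedAlgebra 𝒜]

/-- homogeneity lemma -/
theorem mem_of_mul_mem {p q : ℕ} {u c : A} (hu : u ∈ 𝒜 p) (hu0 : u ≠ 0)
    (h : u * c ∈ 𝒜 (p + q)) : c ∈ 𝒜 q := by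
  classical
  have key : ∀ k, k ≠ q → (DirectSum.decompose 𝒜 c k : A) = 0 := by
    intro k hk
    have h1 := DirectSum.coe_decompose_mul_add_of_left_mem 𝒜 (i := p) (j := k) (b := c) hu
    have h2 : (DirectSum.decompose 𝒜 (u * c) (p + k) : A) = 0 := by
      rw [DirectSum.decompose_of_mem_ne 𝒜 h (by omega)]
    rw [h1] at h2
    exact (mul_eq_zero.mp h2).resolve_left hu0
  rw [← DirectSum.sum_support_decompose 𝒜 c]
  apply Submodule.sum_mem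
  intro k _
  by_cases hk : k = q
  · subst hk; exact (DirectSum.decompose 𝒜 c k).2
  · rw [key k hk]; exact Submodule.zero_mem _

theorem le_span_pow (hgen : ∀ i : ℕ, 𝒜 1 * 𝒜 i = 𝒜 (i + 1)) (m : ℕ) :
    ∀ a ∈ 𝒜 m, a ∈ (Ideal.span (𝒜 1 : Set A)) ^ m := by
  induction m with
  | zero => intro a _; simp
  | succ m ih =>
    intro a ha
    rw [← hgen m] at ha
    refine Submodule.mul_induction_on ha ?_ ?_
    · intro x hx y hy
      rw [pow_succ']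
      exact Ideal.mul_mem_mul (Ideal.subset_span hx) (ih y hy)
    · intro x y hx hy; exact Ideal.add_mem _ hx hy

/-- generic point -/
def gen (g : A) (hg : g ∈ 𝒜 1) (hg0 : g ≠ 0) : Proj 𝒜 :=
  (⟨⟨⊥, Ideal.IsHomogeneous.bot 𝒜⟩, Ideal.isPrime_bot, fun hle => hg0 (by
     have := hle (HomogeneousIdeal.mem_irrelevant_of_mem 𝒜 one_pos hg)
     exact (Submodule.mem_bot A).mp this)⟩ : ProjectiveSpectrum 𝒜)

theorem mul_eq_of_mk_eq {x : ProjectiveSpectrum 𝒜} {a b : A}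
    {s t : x.asHomogeneousIdeal.toIdeal.primeCompl}
    (h : Localization.mk a s = Localization.mk b t) : a * t.1 = b * s.1 := by
  rw [Localization.mk_eq_mk_iff, Localization.r_iff_exists] at h
  obtain ⟨c, hc⟩ := h
  have hc0 : (c : A) ≠ 0 := fun h0 => c.2 (by rw [h0]; exact Ideal.zero_mem _)
  have := mul_left_cancel₀ hc0 hc
  linear_combination this

theorem exists_not_mem (hgen : ∀ i : ℕ, 𝒜 1 * 𝒜 i = 𝒜 (i + 1)) (x : ProjectiveSpectrum 𝒜) :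
    ∃ g ∈ 𝒜 1, g ∉ x.asHomogeneousIdeal := by
  classical
  by_contra hcon
  push Not at hcon
  have h1 : Ideal.span (𝒜 1 : Set A) ≤ x.asHomogeneousIdeal.toIdeal :=
    Ideal.span_le.mpr fun g hg => hcon g hg
  apply x.not_irrelevant_le
  intro a ha
  rw [← DirectSum.sum_support_decompose 𝒜 a]
  refine Ideal.sum_mem _ fun k _ => ?_
  rcases Nat.eq_zero_or_pos k with hk | hk
  · subst hk
    have : (DirectSum.decompose 𝒜 a 0 : A) = 0 := by
      have := (HomogeneousIdeal.mem_irrelevant_iff 𝒜 a).mp ha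
      simpa [GradedRing.proj_apply] using this
    rw [this]
    exact Ideal.zero_mem _
  · apply h1
    have h2 := le_span_pow 𝒜 hgen k _ (DirectSum.decompose 𝒜 a k).2
    exact Ideal.pow_le_self (by omega) h2

end Alg

section Main
variable {R A : Type u} [CommRing R] [CommRing A] [IsDomain A] [IsNoetherianRing A] [Algebra R A]
  (𝒜 : ℕ → Submodule R A) [GradedAlgebra 𝒜]

theorem globalOf_injective (h1 : 𝒜 1 ≠ ⊥) (d : ℕ) :
    Function.Injective (fun a : ↥(𝒜 d) => Twist.globalOf 𝒜 a) := by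
  intro a b hab
  obtain ⟨g, hg, hg0⟩ := (Submodule.ne_bot_iff _).mp h1
  have h2 := congrArg (fun σ : Twist.sectN (𝒜 := 𝒜) (d : ℤ) (op ⊤) =>
    (σ.1 ⟨gen 𝒜 g hg hg0, trivial⟩).1) hab
  have h3 := mul_eq_of_mk_eq 𝒜 h2
  apply Subtype.ext
  simpa using h3

theorem globalOf_surjective (hgen : ∀ i : ℕ, 𝒜 1 * 𝒜 i = 𝒜 (i + 1)) (h1 : 𝒜 1 ≠ ⊥)
    (hint : IsIntegrallyClosed A) (d : ℕ) :
    Function.Surjective (fun a : ↥(𝒜 d) => Twist.globalOf 𝒜 a) := by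
  classical
  intro σ₀
  obtain ⟨σ, hσ⟩ : ∃ σ : Γ(Twist.twist 𝒜 (d : ℤ), ⊤), σ = σ₀ := ⟨σ₀, rfl⟩
  obtain ⟨g₀, hg₀, hg₀0⟩ := (Submodule.ne_bot_iff _).mp h1
  -- local data
  have hloc : ∀ g : 𝒜 1, ∃ (N : ℕ) (B : A), B ∈ 𝒜 (N + d) ∧
      ∀ x : Proj.basicOpen 𝒜 g.1, tfun 𝒜 σ ⟨x.1, trivial⟩ =
        Localization.mk B ⟨g.1 ^ N, pow_not_mem_of_not_mem x.2 N⟩ := fun g => by
    obtain ⟨N, i, B, hi, hB⟩ :=
      exists_tfun_eq_mk (d : ℤ) g (res (Twist.twist 𝒜 (d : ℤ)) le_top σ)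
    have hi' : i = N + d := by exact_mod_cast hi
    subst hi'
    exact ⟨N, B.1, B.2, hB⟩
  choose N B hi hB using hloc
  have hgenpt : ∀ g : 𝒜 1, ∀ hg0 : g.1 ≠ 0,
      gen 𝒜 g₀ hg₀ hg₀0 ∈ Proj.basicOpen 𝒜 g.1 := by
    intro g hg0
    rw [Proj.mem_basicOpen]
    intro hmem
    exact hg0 ((Submodule.mem_bot A).mp hmem)
  -- compat
  have hcompat : ∀ g g' : 𝒜 1, g.1 ≠ 0 → g'.1 ≠ 0 →
      (B g) * g'.1 ^ N g' = (B g') * g.1 ^ N g := by
    intro g g' hg hg'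
    have e1 := hB g ⟨_, hgenpt g hg⟩
    have e2 := hB g' ⟨_, hgenpt g' hg'⟩
    exact mul_eq_of_mk_eq 𝒜 (e1.symm.trans e2)
  obtain ⟨G₀, hG₀⟩ : ∃ G₀ : 𝒜 1, G₀.1 = g₀ := ⟨⟨g₀, hg₀⟩, rfl⟩
  have hG₀0 : G₀.1 ≠ 0 := hG₀ ▸ hg₀0
  have hu0 : G₀.1 ^ N G₀ ≠ 0 := pow_ne_zero _ hG₀0
  have hu : G₀.1 ^ N G₀ ∈ 𝒜 (N G₀) := by
    simpa using SetLike.pow_mem_graded (N G₀) G₀.2
  -- ideal J
  let J : Ideal A :=
    { carrier := {a | ∃ c, a * (B G₀) = c * G₀.1 ^ N G₀}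
      add_mem' := by
        rintro a b ⟨c, hc⟩ ⟨c', hc'⟩
        exact ⟨c + c', by rw [add_mul, add_mul, hc, hc']⟩
      zero_mem' := ⟨0, by simp⟩
      smul_mem' := by
        rintro r a ⟨c, hc⟩
        exact ⟨r * c, by rw [smul_eq_mul, mul_assoc, hc, mul_assoc]⟩ }
  have hJ : ∀ g : 𝒜 1, g.1 ∈ J.radical := by
    intro g
    by_cases hg : g.1 = 0
    · rw [hg]; exact Ideal.zero_mem _
    · exact ⟨N g, (B g), by linear_combination -(hcompat g G₀ hg hG₀0)⟩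
  have hrad : Ideal.span (𝒜 1 : Set A) ≤ J.radical :=
    Ideal.span_le.mpr fun g hg => hJ ⟨g, hg⟩
  obtain ⟨M, hM⟩ := Ideal.exists_pow_le_of_le_radical_of_fg hrad (IsNoetherian.noetherian _)
  have hmem : ∀ m, M ≤ m → ∀ a ∈ 𝒜 m, ∃ c ∈ 𝒜 (m + d),
      a * (B G₀) = c * G₀.1 ^ N G₀ := by
    intro m hm a ha
    have h2 : a ∈ J := hM (Ideal.pow_le_pow_right hm (le_span_pow 𝒜 hgen m a ha))
    obtain ⟨c, hc⟩ := h2
    refine ⟨c, ?_, hc⟩
    apply mem_of_mul_mem 𝒜 hu hu0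
    rw [mul_comm, ← hc]
    have := SetLike.mul_mem_graded ha (hi G₀)
    have e : N G₀ + (m + d) = m + (N G₀ + d) := by omega
    rw [e]
    exact this
  -- the ideal I₀ spanned by the high-degree pieces
  let I₀ : Ideal A := Ideal.span {a | ∃ m, M ≤ m ∧ a ∈ 𝒜 m}
  have hI₀ : ∀ a ∈ I₀, ∃ c ∈ I₀, a * (B G₀) = c * G₀.1 ^ N G₀ := by
    intro a ha
    refine Submodule.span_induction ?_ ?_ ?_ ?_ ha
    · rintro a ⟨m, hm, ham⟩
      obtain ⟨c, hc, hc'⟩ := hmem m hm a ham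
      exact ⟨c, Ideal.subset_span ⟨m + d, by omega, hc⟩, hc'⟩
    · exact ⟨0, Ideal.zero_mem _, by simp⟩
    · rintro a b _ _ ⟨c, hc, hc'⟩ ⟨c₂, hc₂, hc₂'⟩
      exact ⟨c + c₂, Ideal.add_mem _ hc hc₂, by rw [add_mul, add_mul, hc', hc₂']⟩
    · rintro r a _ ⟨c, hc, hc'⟩
      exact ⟨r * c, Ideal.mul_mem_left _ _ hc, by
        rw [smul_eq_mul, mul_assoc, hc', mul_assoc]⟩
  -- integrality
  let K := FractionRing A
  let t : K := algebraMap A K (B G₀) / algebraMap A K (G₀.1 ^ N G₀)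
  have hinj : Function.Injective (algebraMap A K) := IsFractionRing.injective A K
  have hden : algebraMap A K (G₀.1 ^ N G₀) ≠ 0 := fun h =>
    hu0 (hinj (h.trans (map_zero _).symm))
  let N' : Submodule A K := Submodule.map (Algebra.linearMap A K) I₀
  have hN : N' ≠ ⊥ := by
    intro hbot
    have hmemI : G₀.1 ^ M ∈ I₀ := Ideal.subset_span ⟨M, le_rfl, by
      simpa using SetLike.pow_mem_graded M G₀.2⟩
    have h2 : algebraMap A K (G₀.1 ^ M) ∈ N' := ⟨_, hmemI, rfl⟩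
    rw [hbot, Submodule.mem_bot] at h2
    exact pow_ne_zero M hG₀0 (hinj (h2.trans (map_zero _).symm))
  have hN' : N'.FG := Submodule.FG.map _ (IsNoetherian.noetherian I₀)
  have hx : ∀ n ∈ N', t • n ∈ N' := by
    rintro n ⟨a, ha, rfl⟩
    obtain ⟨c, hc, hc'⟩ := hI₀ a ha
    refine ⟨c, hc, ?_⟩
    change algebraMap A K c = t * algebraMap A K a
    have e := congrArg (algebraMap A K) hc'
    rw [map_mul, map_mul] at e
    change _ = algebraMap A K (B G₀) / algebraMap A K (G₀.1 ^ N G₀) * _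
    rw [div_mul_eq_mul_div, eq_div_iff hden, ← e, mul_comm]
  have hintt : IsIntegral A t := isIntegral_of_smul_mem_submodule N' hN hN' t hx
  obtain ⟨y, hy⟩ := (IsIntegrallyClosed.isIntegral_iff (R := A) (K := K)).mp hintt
  have hyB : y * G₀.1 ^ N G₀ = B G₀ := by
    apply hinj
    rw [map_mul, hy]
    change algebraMap A K (B G₀) / algebraMap A K (G₀.1 ^ N G₀) * _ = _
    exact div_mul_cancel₀ _ hden
  have hyd : y ∈ 𝒜 d := by
    apply mem_of_mul_mem 𝒜 hu hu0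
    rw [mul_comm, hyB]
    exact hi G₀
  refine ⟨⟨y, hyd⟩, ?_⟩
  rw [← hσ]
  refine (tfun_ext 𝒜 σ (Twist.globalOf 𝒜 ⟨y, hyd⟩) fun x => ?_).symm
  obtain ⟨g, hg, hgx⟩ := exists_not_mem 𝒜 hgen x.1
  have hg0 : g ≠ 0 := fun h => hgx (h ▸ Ideal.zero_mem _)
  have e := hB ⟨g, hg⟩ ⟨x.1, (Proj.mem_basicOpen 𝒜 g x.1).mpr hgx⟩
  refine e.trans ?_
  change _ = Localization.mk y ⟨1, _⟩
  apply mk_eq_mk_of_mul_eq
  have hc := hcompat ⟨g, hg⟩ G₀ hg0 hG₀0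
  rw [← hyB] at hc
  have := mul_right_cancel₀ hu0 (show B ⟨g, hg⟩ * G₀.1 ^ N G₀ = (y * g ^ N ⟨g, hg⟩) * G₀.1 ^ N G₀ by
    linear_combination hc)
  simp only [one_mul]
  rw [this, mul_comm]

end Main

end Groth.Agent.Lib.Helper29.PN
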