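import Groth.Agent.Lib.Helper29.PRootAlg
import Groth.Agent.Lib.Helper29.FBCBasis
universe u
open CategoryTheory CategoryTheory.Limits AlgebraicGeometry TopologicalSpace Opposite

/-! # Torsion invertible modules of order divisible by `p` and finite étale covers -/

namespace Groth.Agent.Lib.Helper29.PRoot
open Groth.Agent.Lib.Helper29.QCoh Groth.Agent.Lib.Helper29.QCoh.Glue Groth.Agent.Lib.Helper29.Punct
open Groth.Agent.Lib.Helper29 Groth.Agent.Lib.Helper29.Desc Groth.Agent.Lib.Helper29.Thick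
  Groth.Agent.Lib.Helper29.PicUFD

variable {X' X : Scheme.{u}} (f : X' ⟶ X)

theorem comap_surjective_appLE [Surjective f] {V : X.Opens} (hV : IsAffineOpen V)
    (hU : IsAffineOpen (f ⁻¹ᵁ V)) :
    Function.Surjective (PrimeSpectrum.comap (f.appLE V (f ⁻¹ᵁ V) le_rfl).hom) := by
  intro q
  obtain ⟨x', hx'⟩ := f.surjective (hV.fromSpec q)
  have hxV : hV.fromSpec q ∈ V := by
    have : hV.fromSpec q ∈ Set.range hV.fromSpec := ⟨q, rfl⟩
    rw [hV.range_fromSpec] at this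
    exact this
  have hx'U : x' ∈ f ⁻¹ᵁ V := by
    change f x' ∈ V
    rw [hx']
    exact hxV
  obtain ⟨q', hq'⟩ : ∃ q', hU.fromSpec q' = x' := by
    have : x' ∈ Set.range hU.fromSpec := by
      rw [hU.range_fromSpec]
      exact hx'U
    exact this
  refine ⟨q', ?_⟩
  have nat := IsAffineOpen.SpecMap_appLE_fromSpec f hV hU le_rfl
  have h1 : hV.fromSpec ((Spec.map (f.appLE V (f ⁻¹ᵁ V) le_rfl)) q') = f (hU.fromSpec q') := by
    have := congrArg (fun φ : Spec Γ(X', f ⁻¹ᵁ V) ⟶ X => φ q') nat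
    simpa using this
  rw [hq', hx'] at h1
  exact hV.fromSpec.isOpenEmbedding.injective h1

theorem natCast_eq_zero_of_top (p : ℕ) (hp : (p : Γ(X, ⊤)) = 0) (V : X.Opens) :
    (p : Γ(X, V)) = 0 := by
  have := congrArg (rres X (le_top : V ≤ ⊤)) hp
  simpa using this

theorem exists_pth_root_app [IsIntegral X] [Surjective f] [Etale f] [IsAffineHom f] (p : ℕ)
    [Fact p.Prime] (hp : (p : Γ(X, ⊤)) = 0) {V : X.Opens} (hV : IsAffineOpen V)
    (hne : (V : Set X).Nonempty) (a : Γ(X, V)) (y : Γ(X', f ⁻¹ᵁ V)) (hy : y ^ p = f.app V a) :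
    ∃ b : Γ(X, V), b ^ p = a := by
  haveI : Nonempty V := hne.to_subtype
  haveI : IsDomain Γ(X, V) := inferInstance
  have hU : IsAffineOpen (f ⁻¹ᵁ V) := hV.preimage f
  letI := (f.appLE V (f ⁻¹ᵁ V) le_rfl).hom.toAlgebra
  haveI : Algebra.Etale Γ(X, V) Γ(X', f ⁻¹ᵁ V) := Etale.etale_appLE f hV hU le_rfl
  haveI : Module.Flat Γ(X, V) Γ(X', f ⁻¹ᵁ V) := Flat.flat_appLE f hV hU le_rfl
  haveI : Module.FaithfullyFlat Γ(X, V) Γ(X', f ⁻¹ᵁ V) :=
    Module.FaithfullyFlat.of_comap_surjective (comap_surjective_appLE f hV hU)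
  refine PRootAlg.exists_pth_root_of_etale p (natCast_eq_zero_of_top p hp V) a y ?_
  rw [hy, Scheme.Hom.app_eq_appLE]
  rfl


set_option maxHeartbeats 1600000 in
theorem main [IsIntegral X] (p : ℕ) [hpp : Fact p.Prime] (hp : (p : Γ(X, ⊤)) = 0)
    (L : X.Modules) (hL : PicF.IsInvertible L) (d' : ℕ)
    (θ : CohB1.tensorPow L (d' * p) ≅ unitM X)
    (hroot : ∀ u : Γ(X', ⊤), IsUnit u → ∃ v : Γ(X', ⊤), v ^ p = u)
    [IsAffineHom f] [Etale f] [Surjective f]
    (ε : (Scheme.Modules.pullback f).obj L ≅ unitM X') :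
    Nonempty (CohB1.tensorPow L d' ≅ unitM X) := by
  classical
  haveI := isQuasicoherent_of_isInvertible hL
  set P := (Scheme.Modules.pullback f).obj L with hP
  have ht : IsTriv P ⊤ (sval ε.symm.hom ⊤) := isTriv_top_of_iso ε.symm
  set t := sval ε.symm.hom ⊤ with htdef
  have hloc : ∀ x : X, ∃ (V : X.Opens) (e : Γ(L, V)), IsAffineOpen V ∧ x ∈ V ∧ IsTriv L V e :=
    fun x => by
      obtain ⟨V, e, hV, hxV, -, he⟩ := exists_affine_isTriv hL (W := ⊤) x trivial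
      exact ⟨V, e, hV, hxV, he⟩
  choose V e hVaff hxV he using hloc
  -- the units `a x`
  have ha : ∀ x, ∃ a : Γ(X, V x), IsUnit a ∧
      θ.hom.app (V x) (epow L (e x) (d' * p)) = a • toUnit (1 : Γ(X, V x)) := fun x => by
    have h1 : IsTriv (unitM X) (V x) (θ.hom.app (V x) (epow L (e x) (d' * p))) :=
      ((he x).epow _).of_iso θ
    obtain ⟨u, hu, h⟩ := IsTriv.exists_isUnit_smul (isTriv_unit (V x)) h1
    exact ⟨u, hu, h⟩
  choose a hau ha using ha
  -- the units `c x`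
  have hc : ∀ x, ∃ c : Γ(X', f ⁻¹ᵁ V x), IsUnit c ∧
      res P (le_top : f ⁻¹ᵁ V x ≤ ⊤) t = c • pullSect f L (V x) (e x) := fun x => by
    obtain ⟨c, hc, h⟩ := IsTriv.exists_isUnit_smul ((he x).pullSect f) (ht.restrict le_top)
    exact ⟨c, hc, h⟩
  choose c hcu hc using hc
  have hci : ∀ x, ∃ ci : Γ(X', f ⁻¹ᵁ V x), c x * ci = 1 := fun x =>
    ⟨↑(hcu x).unit⁻¹, (hcu x).mul_val_inv⟩
  choose ci hci using hci
  -- transitions
  have hg : ∀ x y, ∃ g : Γ(X, V x ⊓ V y), IsUnit g ∧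
      res L (inf_le_left : V x ⊓ V y ≤ V x) (e x) =
        g • res L (inf_le_right : V x ⊓ V y ≤ V y) (e y) := by
    intro x y
    obtain ⟨g, hg, h⟩ := IsTriv.exists_isUnit_smul
      ((he y).restrict (inf_le_right : V x ⊓ V y ≤ V y))
      ((he x).restrict (inf_le_left : V x ⊓ V y ≤ V x))
    exact ⟨g, hg, h⟩
  choose g hgu hg using hg
  have hag : ∀ x y, rres X (inf_le_left : V x ⊓ V y ≤ V x) (a x) =
      g x y ^ (d' * p) * rres X (inf_le_right : V x ⊓ V y ≤ V y) (a y) := by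
    intro x y
    apply (isTriv_unit (V x ⊓ V y)).smul_left_cancel
    have h1 := congrArg (res (unitM X) (inf_le_left : V x ⊓ V y ≤ V x)) (ha x)
    have h2 := congrArg (res (unitM X) (inf_le_right : V x ⊓ V y ≤ V y)) (ha y)
    rw [← app_res, res_epow, res_smul', res_toUnit_one] at h1 h2
    rw [hg x y, epow_smul, Scheme.Modules.Hom.app_smul, h2, smul_smul] at h1
    exact h1.symm
  have happ : ∀ {A B : X.Opens} (h : B ≤ A) (r : Γ(X, A)),
      f.app B (rres X h r) = rres X' (f.preimage_mono h) (f.app A r) :=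
    fun h r => app_map_apply f h r
  have hcg : ∀ x y, rres X' (f.preimage_mono (inf_le_right : V x ⊓ V y ≤ V y)) (c y) =
      rres X' (f.preimage_mono (inf_le_left : V x ⊓ V y ≤ V x)) (c x) *
        f.app (V x ⊓ V y) (g x y) := by
    intro x y
    apply (((he y).pullSect f).restrict
      (f.preimage_mono (inf_le_right : V x ⊓ V y ≤ V y))).smul_left_cancel
    have h1 := congrArg (res P (f.preimage_mono (inf_le_right : V x ⊓ V y ≤ V y))) (hc y)
    have h2 := congrArg (res P (f.preimage_mono (inf_le_left : V x ⊓ V y ≤ V x))) (hc x)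
    rw [res_res, res_smul'] at h1 h2
    rw [← pullSect_res f L (inf_le_left : V x ⊓ V y ≤ V x), hg x y, pullSect_smul,
      pullSect_res f L (inf_le_right : V x ⊓ V y ≤ V y), smul_smul] at h2
    exact h1.symm.trans h2
  -- local pieces of the unit `w`
  obtain ⟨w, hwdef⟩ : ∃ w : ∀ x, Γ(X', f ⁻¹ᵁ V x),
      ∀ x, w x = c x ^ (d' * p) * f.app (V x) (a x) := ⟨_, fun _ => rfl⟩
  have hwcompat : ∀ x y,
      rres X' (f.preimage_mono (inf_le_left : V x ⊓ V y ≤ V x)) (w x) =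
        rres X' (f.preimage_mono (inf_le_right : V x ⊓ V y ≤ V y)) (w y) := by
    intro x y
    rw [hwdef, hwdef, map_mul, map_mul, map_pow, map_pow,
      ← happ (inf_le_left : V x ⊓ V y ≤ V x), ← happ (inf_le_right : V x ⊓ V y ≤ V y), hag, hcg,
      map_mul, map_pow, mul_pow]
    ring
  have hcovX' : (⊤ : X'.Opens) ≤ ⨆ x, f ⁻¹ᵁ V x := fun x' _ =>
    Opens.mem_iSup.mpr ⟨f x', hxV (f x')⟩
  obtain ⟨W, hW⟩ := exists_gluing (unitM X') (fun x => f ⁻¹ᵁ V x) ⊤ (fun _ => le_top) hcovX'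
    (fun x => toUnit (w x)) (fun x y => hwcompat x y)
  obtain ⟨wG, hwG⟩ : ∃ wG : Γ(X', ⊤), wG = fromUnit W := ⟨_, rfl⟩
  have hwGres : ∀ x, rres X' (le_top : f ⁻¹ᵁ V x ≤ ⊤) wG = w x := fun x => by
    rw [hwG]
    exact hW x
  have hwu : ∀ x, IsUnit (w x) := fun x => by
    rw [hwdef]; exact ((hcu x).pow _).mul ((hau x).map _)
  have hwGunit : IsUnit wG := by
    refine FBCBasis.isUnit_of_le_basicOpen wG fun x' _ => ?_
    have h1 : x' ∈ X'.basicOpen (rres X' (le_top : f ⁻¹ᵁ V (f x') ≤ ⊤) wG) := by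
      rw [hwGres, Scheme.basicOpen_of_isUnit X' (hwu _)]
      exact hxV (f x')
    have h2 := Scheme.basicOpen_res X' wG (homOfLE (le_top : f ⁻¹ᵁ V (f x') ≤ ⊤)).op
    change x' ∈ X'.basicOpen (X'.presheaf.map (homOfLE (le_top : f ⁻¹ᵁ V (f x') ≤ ⊤)).op wG) at h1
    rw [h2] at h1
    exact h1.2
  obtain ⟨v, hv⟩ := hroot wG hwGunit
  have hy : ∀ x, (rres X' (le_top : f ⁻¹ᵁ V x ≤ ⊤) v * ci x ^ d') ^ p = f.app (V x) (a x) := by
    intro x
    rw [mul_pow, ← map_pow, hv, hwGres, hwdef, ← pow_mul]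
    have : c x ^ (d' * p) * ci x ^ (d' * p) = 1 := by rw [← mul_pow, hci, one_pow]
    linear_combination (f.app (V x) (a x)) * this
  have hb : ∀ x, ∃ b : Γ(X, V x), b ^ p = a x := fun x =>
    exists_pth_root_app f p hp (hVaff x) ⟨x, hxV x⟩ (a x) _ (hy x)
  choose b hb using hb
  have hbu : ∀ x, IsUnit (b x) := fun x => by
    have : IsUnit (b x ^ p) := by rw [hb]; exact hau x
    exact (isUnit_pow_iff hpp.out.ne_zero).mp this
  have hbi : ∀ x, ∃ bi : Γ(X, V x), b x * bi = 1 := fun x =>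
    ⟨↑(hbu x).unit⁻¹, (hbu x).mul_val_inv⟩
  choose bi hbi using hbi
  have hbiu : ∀ x, IsUnit (bi x) := fun x =>
    IsUnit.of_mul_eq_one _ (by rw [mul_comm]; exact hbi x)
  have hbg : ∀ x y, rres X (inf_le_left : V x ⊓ V y ≤ V x) (b x) =
      g x y ^ d' * rres X (inf_le_right : V x ⊓ V y ≤ V y) (b y) := by
    intro x y
    apply PRootAlg.eq_of_pow_eq p (natCast_eq_zero_of_top p hp _)
    rw [← map_pow, hb, hag, mul_pow, ← pow_mul, ← map_pow, hb]
  obtain ⟨σ, hσdef⟩ : ∃ σ : ∀ x, Γ(CohB1.tensorPow L d', V x),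
      ∀ x, σ x = bi x • epow L (e x) d' := ⟨_, fun _ => rfl⟩
  have hσ : ∀ x, IsTriv (CohB1.tensorPow L d') (V x) (σ x) := fun x => by
    rw [hσdef]; exact IsTriv.smul_isUnit ((he x).epow d') (hbiu x)
  have hσcompat : ∀ x y, res (CohB1.tensorPow L d') (inf_le_left : V x ⊓ V y ≤ V x) (σ x) =
      res (CohB1.tensorPow L d') (inf_le_right : V x ⊓ V y ≤ V y) (σ y) := by
    intro x y
    rw [hσdef, hσdef, res_smul', res_smul', res_epow, res_epow, hg x y, epow_smul, smul_smul]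
    congr 1
    have h1 : rres X (inf_le_left : V x ⊓ V y ≤ V x) (b x) *
        rres X (inf_le_left : V x ⊓ V y ≤ V x) (bi x) = 1 := by rw [← map_mul, hbi, map_one]
    have h2 : rres X (inf_le_right : V x ⊓ V y ≤ V y) (b y) *
        rres X (inf_le_right : V x ⊓ V y ≤ V y) (bi y) = 1 := by rw [← map_mul, hbi, map_one]
    have h3 := hbg x y
    linear_combination
      (-(rres X (inf_le_left : V x ⊓ V y ≤ V x) (bi x) *
        rres X (inf_le_right : V x ⊓ V y ≤ V y) (bi y))) * h3 +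
      (-(rres X (inf_le_left : V x ⊓ V y ≤ V x) (bi x) * g x y ^ d')) * h2 +
      rres X (inf_le_right : V x ⊓ V y ≤ V y) (bi y) * h1
  have hcovtop : (⊤ : X.Opens) ≤ iSup V := fun y _ => Opens.mem_iSup.mpr ⟨y, hxV y⟩
  obtain ⟨S, hS⟩ := exists_gluing (CohB1.tensorPow L d') V ⊤ (fun _ => le_top) hcovtop σ hσcompat
  have hST : IsTriv (CohB1.tensorPow L d') ⊤ S :=
    isTriv_of_cover _ S V (fun _ => le_top) hcovtop (fun y => by rw [hS y]; exact hσ y)
  obtain ⟨φ⟩ := PicUFD.nonempty_iso_unit_of_isTriv_top hST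
  exact ⟨φ.symm⟩

end Groth.Agent.Lib.Helper29.PRoot
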