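import Mathlib
universe u
open TensorProduct

/-! # Descent of `p`-th roots along étale faithfully flat extensions of domains of char `p` -/

namespace Groth.Agent.Lib.Helper29.PRootAlg

/-- An étale algebra over a domain is reduced (after Lib27.SmoothField). -/
theorem isReduced_of_etale_of_isDomain (P B : Type*) [CommRing P] [IsDomain P] [CommRing B]
    [Algebra P B] [Algebra.Etale P B] : IsReduced B := by
  let F := FractionRing P
  have hred : IsReduced (F ⊗[P] B) :=
    Algebra.FormallyUnramified.isReduced_of_field F (F ⊗[P] B)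
  have hinj : Function.Injective (Algebra.TensorProduct.includeRight : B →ₐ[P] F ⊗[P] B) := by
    have h1 : Function.Injective (algebraMap P F) := IsFractionRing.injective P F
    have := Module.Flat.rTensor_preserves_injective_linearMap (M := B)
      (Algebra.linearMap P F) h1
    have h2 : ⇑(Algebra.TensorProduct.includeRight : B →ₐ[P] F ⊗[P] B) =
        (LinearMap.rTensor B (Algebra.linearMap P F)) ∘ (TensorProduct.lid P B).symm := by
      ext b
      simp
    rw [h2]
    exact this.comp (TensorProduct.lid P B).symm.injective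
  exact isReduced_of_injective _ hinj

/-- in a reduced ring with `p = 0`, `p`-th roots are unique -/
theorem eq_of_pow_eq {S : Type*} [CommRing S] [IsReduced S] (p : ℕ) [hp : Fact p.Prime]
    (hp0 : (p : S) = 0) {x y : S} (h : x ^ p = y ^ p) : x = y := by
  rcases subsingleton_or_nontrivial S with hS | hS
  · exact Subsingleton.elim _ _
  haveI : CharP S p := (CharP.charP_iff_prime_eq_zero hp.out).mpr hp0
  have h1 : (x - y) ^ p = 0 := by rw [sub_pow_char, h, sub_self]
  have h2 : x - y = 0 := IsReduced.eq_zero _ ⟨p, h1⟩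
  exact sub_eq_zero.mp h2

theorem exists_pth_root_of_etale {R R' : Type u} [CommRing R] [IsDomain R] [CommRing R']
    [Algebra R R'] [Algebra.Etale R R'] [Module.FaithfullyFlat R R'] (p : ℕ) [Fact p.Prime]
    (hp : (p : R) = 0) (a : R) (y : R') (hy : y ^ p = algebraMap R R' a) : ∃ b : R, b ^ p = a := by
  haveI : Algebra.Etale R (R' ⊗[R] R') := Algebra.Etale.comp R R' (R' ⊗[R] R')
  haveI : IsReduced (R' ⊗[R] R') := isReduced_of_etale_of_isDomain R (R' ⊗[R] R')
  have hp' : (p : R' ⊗[R] R') = 0 := by
    have := congrArg (algebraMap R (R' ⊗[R] R')) hp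
    simpa using this
  have h1 : (y ⊗ₜ[R] (1 : R')) ^ p = ((1 : R') ⊗ₜ[R] y) ^ p := by
    rw [Algebra.TensorProduct.tmul_pow, Algebra.TensorProduct.tmul_pow, one_pow, hy,
      Algebra.algebraMap_eq_smul_one, TensorProduct.smul_tmul]
  have h2 : y ⊗ₜ[R] (1 : R') = (1 : R') ⊗ₜ[R] y := eq_of_pow_eq p hp' h1
  have heff : Algebra.IsEffective R R' := Algebra.IsEffective.of_faithfullyFlat R R'
  have h3 : Algebra.TensorProduct.includeLeftSubRight R R' y = 0 := by
    rw [Algebra.TensorProduct.includeLeftSubRight_apply, h2, sub_self]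
  obtain ⟨b, hb⟩ := (heff y).mp h3
  refine ⟨b, ?_⟩
  have hinj : Function.Injective (algebraMap R R') := FaithfulSMul.algebraMap_injective R R'
  apply hinj
  rw [map_pow]
  change (Algebra.linearMap R R' b) ^ p = _
  rw [hb, hy]

end Groth.Agent.Lib.Helper29.PRootAlg
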