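import Groth.Agent.Lib.Helper29.Pic2
import Groth.Agent.Lib.Helper29.TwistPn2
set_option autoImplicit false
universe u
open CategoryTheory CategoryTheory.Limits AlgebraicGeometry TopologicalSpace Opposite DirectSum

namespace Groth.Agent.Lib.Helper29.Pic
open Groth.Agent.Lib.Helper29.QCoh Groth.Agent.Lib.Helper29.ZeroSch

section Pn
variable (n : ℕ) (R : Type u) [CommRing R]

open MvPolynomial in
/-- `H^0(P^n, O(-e)) = 0` for `e > 0`, `n ≥ 1`. -/
theorem eq_zero_of_neg_twist (hn : 1 ≤ n) (e : ℕ) (he : 0 < e)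
    (σ : Γ(Twist.twist (CohB1.polyGrading n R) (-(e : ℤ)), ⊤)) : σ = 0 := by
  classical
  apply tfun_ext
  intro x
  have tz : tfun (CohB1.polyGrading n R)
      (0 : Γ(Twist.twist (CohB1.polyGrading n R) (-(e : ℤ)), ⊤)) x = 0 := rfl
  rw [tz]
  obtain ⟨i, hi⟩ := exists_mem_basicOpen_X n R x.1
  obtain ⟨j, hj⟩ : ∃ j : Fin (n + 1), j ≠ i := by
    by_cases h0 : i = 0
    · exact ⟨⟨1, by omega⟩, by rw [h0]; intro h; simpa using congrArg Fin.val h⟩
    · exact ⟨0, fun h => h0 h.symm⟩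
  have h1 : ∀ i : Fin (n + 1), ∃ (N k : ℕ) (B : CohB1.polyGrading n R k),
      (k : ℤ) = N + (-(e : ℤ)) ∧
      ∀ x : Proj.basicOpen (CohB1.polyGrading n R) (X i),
        tfun (CohB1.polyGrading n R) (QCoh.res (Twist.twist (CohB1.polyGrading n R) (-(e : ℤ)))
          le_top σ) x =
          Localization.mk B.1 ⟨X i ^ N, pow_not_mem_of_not_mem x.2 N⟩ :=
    fun i => exists_tfun_eq_mk (-(e : ℤ)) (Xi n R i) _
  choose N k B hk hB using h1
  set N₀ := Finset.univ.sup N with hN₀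
  have hN : ∀ i, N i ≤ N₀ := fun i => Finset.le_sup (Finset.mem_univ i)
  have hkN : ∀ i, k i + e = N i := fun i => by have := hk i; omega
  have hB'mem : ∀ i, (B i).1 * X i ^ (N₀ - N i) ∈ CohB1.polyGrading n R (N₀ - e) := by
    intro i
    have hmem := ((B i).2 : (B i).1.IsHomogeneous (k i)).mul
      ((MvPolynomial.isHomogeneous_X R i).pow (N₀ - N i))
    have hdeg : k i + 1 * (N₀ - N i) = N₀ - e := by have := hN i; have := hkN i; omega
    rw [hdeg] at hmem
    exact hmem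
  have hB' : ∀ i (x : Proj (CohB1.polyGrading n R))
      (hx : x ∈ Proj.basicOpen (CohB1.polyGrading n R) (X i)),
      tfun (CohB1.polyGrading n R) σ ⟨x, trivial⟩ =
        Localization.mk ((B i).1 * X i ^ (N₀ - N i)) ⟨X i ^ N₀, pow_not_mem_of_not_mem hx N₀⟩ := by
    intro i x hx
    have := hB i ⟨x, hx⟩
    rw [tfun_res] at this
    refine this.trans ?_
    apply mk_eq_mk_of_mul_eq
    have hadd : N i + (N₀ - N i) = N₀ := by have := hN i; omega
    calc X i ^ N₀ * (B i).1 = X i ^ (N i + (N₀ - N i)) * (B i).1 := by rw [hadd]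
      _ = X i ^ N i * ((B i).1 * X i ^ (N₀ - N i)) := by rw [pow_add]; ring
  have hrel : ∀ i j, (B i).1 * X i ^ (N₀ - N i) * X j ^ N₀ =
      (B j).1 * X j ^ (N₀ - N j) * X i ^ N₀ := by
    intro i j
    have hP : (B i).1 * X i ^ (N₀ - N i) * X j ^ N₀ ∈
        CohB1.polyGrading n R (N₀ - e + 1 * N₀) :=
      (hB'mem i : MvPolynomial.IsHomogeneous _ _).mul ((MvPolynomial.isHomogeneous_X R j).pow N₀)
    have hQ : (B j).1 * X j ^ (N₀ - N j) * X i ^ N₀ ∈
        CohB1.polyGrading n R (N₀ - e + 1 * N₀) :=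
      (hB'mem j : MvPolynomial.IsHomogeneous _ _).mul ((MvPolynomial.isHomogeneous_X R i).pow N₀)
    have := eq_of_forall_mk_eq n R i j ⟨_, hP⟩ ⟨_, hQ⟩ (by
      intro x hxi hxj
      have e1 := hB' i x hxi
      have e2 := hB' j x hxj
      have hu : ∀ (a : MvPolynomial (Fin (n + 1)) R) (s : MvPolynomial (Fin (n + 1)) R)
          (hs : s ∉ x.asHomogeneousIdeal) (t : MvPolynomial (Fin (n + 1)) R),
          (Localization.mk (a * t) ⟨1, one_not_mem x⟩ : Twist.Loc (CohB1.polyGrading n R) x) =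
            Localization.mk a ⟨s, hs⟩ * Localization.mk (s * t) ⟨1, one_not_mem x⟩ := by
        intro a s hs t
        rw [Localization.mk_mul]
        apply mk_eq_mk_of_mul_eq
        simp only [Submonoid.coe_mul]
        ring
      change (Localization.mk ((B i).1 * X i ^ (N₀ - N i) * X j ^ N₀) ⟨1, one_not_mem x⟩ :
          Twist.Loc (CohB1.polyGrading n R) x) =
        Localization.mk ((B j).1 * X j ^ (N₀ - N j) * X i ^ N₀) ⟨1, one_not_mem x⟩
      have l1 := hu ((B i).1 * X i ^ (N₀ - N i)) (X i ^ N₀) (pow_not_mem_of_not_mem hxi N₀)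
        (X j ^ N₀)
      have l2 := hu ((B j).1 * X j ^ (N₀ - N j)) (X j ^ N₀) (pow_not_mem_of_not_mem hxj N₀)
        (X i ^ N₀)
      rw [l1, l2, ← e1, ← e2, mul_comm (X i ^ N₀) (X j ^ N₀)])
    exact congrArg Subtype.val this
  obtain ⟨c, hc⟩ := exists_eq_X_pow_mul_of_mul_eq (Ne.symm hj) N₀ (hrel i j)
  have hc0 : c = 0 := by
    ext μ
    rw [coeff_zero]
    by_contra hμ
    have h1 : coeff (Finsupp.single i N₀ + μ) (X i ^ N₀ * c) = coeff μ c := by
      rw [X_pow_eq_monomial, coeff_monomial_mul, one_mul]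
    have h2 := (hc ▸ hB'mem i : (X i ^ N₀ * c).IsHomogeneous (N₀ - e)) (h1.symm ▸ hμ)
    rw [map_add, Finsupp.weight_single] at h2
    simp only [Pi.one_apply, smul_eq_mul, mul_one] at h2
    have := hkN i
    have := hN i
    omega
  have hx : (⟨x.1, trivial⟩ : (⊤ : (Proj (CohB1.polyGrading n R)).Opens)) = x := rfl
  rw [← hx, hB' i x.1 hi, hc, hc0, mul_zero]
  exact Localization.mk_zero _

theorem false_of_twist_iso_lt [Nontrivial R] (hn : 1 ≤ n) (d d' : ℤ) (h : d < d')
    (θ : Twist.twist (CohB1.polyGrading n R) d ≅ Twist.twist (CohB1.polyGrading n R) d') :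
    False := by
  have hcov := projSpace_degree_one_cover n R
  obtain ⟨-, htens, -⟩ :=
    twist_invertible_and_tensor (iSup_basicOpen_eq_top_of_forall hcov)
  obtain ⟨e, he⟩ : ∃ e : ℕ, (e : ℤ) = d' - d := ⟨(d' - d).toNat, by omega⟩
  have hepos : 0 < e := by omega
  obtain ⟨τ⟩ := htens d (-d')
  obtain ⟨τ'⟩ := htens d' (-d')
  have hA : Twist.twist (CohB1.polyGrading n R) (d + -d') =
      Twist.twist (CohB1.polyGrading n R) (-(e : ℤ)) := by congr 1; omega
  have hB : Twist.twist (CohB1.polyGrading n R) ((0 : ℕ) : ℤ) =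
      Twist.twist (CohB1.polyGrading n R) (d' + -d') := by congr 1; simp
  obtain ⟨ψ⟩ : Nonempty (Twist.twist (CohB1.polyGrading n R) ((0 : ℕ) : ℤ) ≅
      Twist.twist (CohB1.polyGrading n R) (-(e : ℤ))) :=
    ⟨eqToIso hB ≪≫ τ'.symm ≪≫ tensorCongr θ.symm (Iso.refl _) ≪≫ τ ≪≫ eqToIso hA⟩
  have h1 : ψ.hom.app ⊤ (polySec n R 0 1) = 0 := eq_zero_of_neg_twist n R hn e hepos _
  have h2 := Groth.Agent.Lib.Helper29.QCoh.MeroK.app_inv_app ψ.symm ⊤ (polySec n R 0 1)
  change ψ.inv.app ⊤ (ψ.hom.app ⊤ (polySec n R 0 1)) = _ at h2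
  rw [h1, map_zero] at h2
  have h3 : polySec n R 0 1 = polySec n R 0 0 := by
    rw [← h2]
    have := polySec_add n R 0 0 0
    rw [add_zero] at this
    exact (left_eq_add.mp this).symm
  have h4 := polySec_injective n R 0 h3
  have h5 : (1 : MvPolynomial (Fin (n + 1)) R) = 0 := congrArg Subtype.val h4
  exact one_ne_zero h5

/-- The degree of a twist on projective space (`n ≥ 1`, nonzero ring) is well defined. -/
theorem twist_iso_imp_eq [Nontrivial R] (hn : 1 ≤ n) (d d' : ℤ)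
    (θ : Twist.twist (CohB1.polyGrading n R) d ≅ Twist.twist (CohB1.polyGrading n R) d') :
    d = d' := by
  rcases lt_trichotomy d d' with h | h | h
  · exact (false_of_twist_iso_lt n R hn d d' h θ).elim
  · exact h
  · exact (false_of_twist_iso_lt n R hn d' d h θ.symm).elim

end Pn

end Groth.Agent.Lib.Helper29.Pic
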