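import Groth.Agent.Lib.Helper29.Thick1
import Groth.Agent.Lib.Helper29.PicUFD1
universe u
open CategoryTheory CategoryTheory.Limits AlgebraicGeometry TopologicalSpace Opposite

/-! # Lifting torsion invertible modules along a thickening -/

namespace Groth.Agent.Lib.Helper29.Thick
open Groth.Agent.Lib.Helper29.QCoh Groth.Agent.Lib.Helper29.QCoh.Glue Groth.Agent.Lib.Helper29.Punct
open Groth.Agent.Lib.Helper29 Groth.Agent.Lib.Helper29.Desc

theorem IsTriv.smul_isUnit {X : Scheme.{u}} {L : X.Modules} {U : X.Opens} {e : Γ(L, U)}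
    (hT : IsTriv L U e) {a : Γ(X, U)} (ha : IsUnit a) : IsTriv L U (a • e) := by
  intro W hW
  have h1 := hT W hW
  have hu : IsUnit (rres X hW a) := ha.map _
  have h2 : Function.Bijective (fun r : Γ(X, W) => r * rres X hW a) :=
    IsUnit.isUnit_iff_mulRight_bijective.mp hu
  have : (fun r : Γ(X, W) => r • res L hW (a • e)) =
      (fun r : Γ(X, W) => r • res L hW e) ∘ (fun r : Γ(X, W) => r * rres X hW a) := by
    funext r
    simp only [Function.comp_apply]
    rw [res_smul', smul_smul]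
  rw [this]
  exact h1.comp h2

variable {X X' : Scheme.{u}} (i : X ⟶ X')

theorem exists_torsion_lift [IsClosedImmersion i] [Surjective i] (n : ℕ)
    (hn : IsUnit (n : Γ(X, ⊤))) (L : X.Modules) (hL : PicF.IsInvertible L)
    (θ : CohB1.tensorPow L n ≅ unitM X) :
    ∃ L' : X'.Modules, PicF.IsInvertible L' ∧ Nonempty (CohB1.tensorPow L' n ≅ unitM X') ∧
      Nonempty ((Scheme.Modules.pullback i).obj L' ≅ L) := by
  classical
  haveI := isQuasicoherent_of_isInvertible hL
  -- local data indexed by points of X'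
  have hdata : ∀ y : X', ∃ (U' : X'.Opens) (e : Γ(L, i ⁻¹ᵁ U')), IsAffineOpen U' ∧ y ∈ U' ∧
      IsTriv L (i ⁻¹ᵁ U') e := by
    intro y
    obtain ⟨x, rfl⟩ := i.surjective y
    obtain ⟨N, e, hxN, he⟩ := exists_isTriv hL x
    obtain ⟨Os, hOo, hO⟩ := (i.isEmbedding.isInducing.isOpen_iff).mp N.isOpen
    have hxO : i x ∈ (⟨Os, hOo⟩ : X'.Opens) := by
      have : x ∈ i ⁻¹' Os := by rw [hO]; exact hxN
      exact this
    obtain ⟨W, hW, hxW, hWle⟩ := exists_isAffineOpen_mem_and_subset (x := i x)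
      (U := ⟨Os, hOo⟩) hxO
    have hle : i ⁻¹ᵁ W ≤ N := by
      intro z hz
      have : z ∈ i ⁻¹' Os := hWle hz
      rwa [hO] at this
    exact ⟨W, res L hle e, hW, hxW, he.restrict _⟩
  choose U e hUaff hyU he using hdata
  -- the units u y
  have hu : ∀ y, ∃ u : Γ(X, i ⁻¹ᵁ U y), IsUnit u ∧
      θ.hom.app _ (epow L (e y) n) = u • toUnit 1 := by
    intro y
    have h1 := ((he y).epow n).of_iso θ
    obtain ⟨u, hu, h⟩ := IsTriv.exists_isUnit_smul (isTriv_unit _) h1
    exact ⟨u, hu, h⟩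
  choose u huu hu using hu
  have hu' : ∀ y, ∃ u' : Γ(X', U y), i.app (U y) u' = u y :=
    fun y => i.app_surjective (U y) (hUaff y) (u y)
  choose u' hu' using hu'
  have hu'u : ∀ y, IsUnit (u' y) := fun y =>
    (isUnit_iff_isUnit_app i (u' y)).mpr (by rw [hu']; exact huu y)
  have hv' : ∀ y, ∃ v' : Γ(X', U y), u' y * v' = 1 := fun y =>
    ⟨↑(hu'u y).unit⁻¹, (hu'u y).mul_val_inv⟩
  choose v' hv' using hv'
  have hv'u : ∀ y, IsUnit (v' y) := fun y =>
    IsUnit.of_mul_eq_one _ (by rw [mul_comm]; exact hv' y)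
  -- transition functions downstairs
  have hg : ∀ y z, ∃ g : Γ(X, i ⁻¹ᵁ (U y ⊓ U z)), IsUnit g ∧
      res L (i.preimage_mono (inf_le_right : U y ⊓ U z ≤ U z)) (e z) =
        g • res L (i.preimage_mono (inf_le_left : U y ⊓ U z ≤ U y)) (e y) := by
    intro y z
    obtain ⟨g, hg, h⟩ := IsTriv.exists_isUnit_smul
      ((he y).restrict (i.preimage_mono (inf_le_left : U y ⊓ U z ≤ U y)))
      ((he z).restrict (i.preimage_mono (inf_le_right : U y ⊓ U z ≤ U z)))
    exact ⟨g, hg, h⟩
  choose g hgu hg using hg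
  -- general form of the transition on a smaller open
  have hgW : ∀ (y z : X') (W : X'.Opens) (hy : W ≤ U y) (hz : W ≤ U z),
      res L (i.preimage_mono hz) (e z) =
        rres X (i.preimage_mono (le_inf hy hz)) (g y z) • res L (i.preimage_mono hy) (e y) := by
    intro y z W hy hz
    have := congrArg (res L (i.preimage_mono (le_inf hy hz))) (hg y z)
    rw [res_res, res_smul', res_res] at this
    exact this
  -- relation between the units
  have hug : ∀ y z, rres X (i.preimage_mono (inf_le_right : U y ⊓ U z ≤ U z)) (u z) =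
      g y z ^ n * rres X (i.preimage_mono (inf_le_left : U y ⊓ U z ≤ U y)) (u y) := by
    intro y z
    apply (isTriv_unit (i ⁻¹ᵁ (U y ⊓ U z))).smul_left_cancel
    have h1 := congrArg (res (unitM X) (i.preimage_mono (inf_le_right : U y ⊓ U z ≤ U z))) (hu z)
    have h2 := congrArg (res (unitM X) (i.preimage_mono (inf_le_left : U y ⊓ U z ≤ U y))) (hu y)
    rw [← app_res, res_epow, res_smul', res_toUnit_one] at h1 h2
    rw [hg y z, epow_smul, Scheme.Modules.Hom.app_smul, h2, smul_smul] at h1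
    exact h1.symm
  -- the data to take roots of
  obtain ⟨w, hwdef⟩ : ∃ w : ∀ y z, Γ(X', U y ⊓ U z), ∀ y z, w y z =
      rres X' (inf_le_right : U y ⊓ U z ≤ U z) (u' z) *
        rres X' (inf_le_left : U y ⊓ U z ≤ U y) (v' y) := ⟨_, fun _ _ => rfl⟩
  have happ : ∀ {A B : X'.Opens} (h : B ≤ A) (r : Γ(X', A)),
      i.app B (rres X' h r) = rres X (i.preimage_mono h) (i.app A r) :=
    fun h r => app_map_apply i h r
  have hw : ∀ y z, i.app (U y ⊓ U z) (w y z) = g y z ^ n := by
    intro y z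
    rw [hwdef, map_mul, happ, happ, hu', hug, mul_assoc, ← hu', ← map_mul, ← map_mul, hv',
      map_one, map_one, mul_one]
  have hroot : ∀ y z, ∃ g' : Γ(X', U y ⊓ U z), i.app (U y ⊓ U z) g' = g y z ∧ g' ^ n = w y z :=
    fun y z => exists_root i n hn (g y z) (hgu y z) (w y z) (hw y z)
  choose g' hg'1 hg'2 using hroot
  have hg'u : ∀ y z, IsUnit (g' y z) := fun y z =>
    (isUnit_iff_isUnit_app i (g' y z)).mpr (by rw [hg'1]; exact hgu y z)
  -- restricted forms
  have hwW : ∀ (y z : X') (W : X'.Opens) (hy : W ≤ U y) (hz : W ≤ U z),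
      rres X' (le_inf hy hz) (w y z) = rres X' hz (u' z) * rres X' hy (v' y) := by
    intro y z W hy hz
    rw [hwdef, map_mul, rres_rres, rres_rres]
  have huvW : ∀ (y : X') (W : X'.Opens) (hy : W ≤ U y), rres X' hy (u' y) * rres X' hy (v' y) = 1 := by
    intro y W hy
    rw [← map_mul, hv', map_one]
  -- the cocycle
  have hone : ∀ y, g' y y = 1 := by
    intro y
    symm
    apply root_unique i n hn _ _ isUnit_one
    · rw [map_one, hg'1]
      apply ((he y).restrict (i.preimage_mono (inf_le_left : U y ⊓ U y ≤ U y))).smul_left_cancel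
      rw [one_smul]
      exact hg y y
    · rw [one_pow, hg'2, hwdef]
      exact (huvW y _ _).symm
  have hmul : ∀ (x y z : X') (W : X'.Opens) (hx : W ≤ U x) (hy : W ≤ U y) (hz : W ≤ U z),
      rres X' (le_inf hx hy) (g' x y) * rres X' (le_inf hy hz) (g' y z) =
        rres X' (le_inf hx hz) (g' x z) := by
    intro x y z W hx hy hz
    symm
    apply root_unique i n hn _ _ ((hg'u x z).map _)
    · rw [map_mul, happ, happ, happ, hg'1, hg'1, hg'1]
      apply ((he x).restrict (i.preimage_mono hx)).smul_left_cancel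
      rw [← hgW x z W hx hz, mul_comm, mul_smul, ← hgW x y W hx hy, ← hgW y z W hy hz]
    · rw [mul_pow, ← map_pow, ← map_pow, ← map_pow, hg'2, hg'2, hg'2, hwW x z W hx hz,
        hwW x y W hx hy, hwW y z W hy hz]
      have := huvW y W hy
      linear_combination (-(rres X' hz (u' z) * rres X' hx (v' x))) * this
  let c : Cocycle U := { g := g', one := hone, mul := hmul }
  have hcov : ∀ y : X', ∃ k, y ∈ U k := fun y => ⟨y, hyU y⟩
  obtain ⟨L', e', hL', he', htr⟩ := exists_invertible_of_cocycle hcov c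
  have htr' : ∀ y z, res L' (inf_le_right : U y ⊓ U z ≤ U z) (e' z) =
      g' y z • res L' (inf_le_left : U y ⊓ U z ≤ U y) (e' y) := htr
  haveI := isQuasicoherent_of_isInvertible hL'
  refine ⟨L', hL', ?_, ?_⟩
  · -- torsion
    obtain ⟨s, hsdef⟩ : ∃ s : ∀ y, Γ(CohB1.tensorPow L' n, U y), ∀ y, s y =
        v' y • epow L' (e' y) n := ⟨_, fun _ => rfl⟩
    have hs : ∀ y, IsTriv (CohB1.tensorPow L' n) (U y) (s y) := fun y => by
      rw [hsdef]; exact IsTriv.smul_isUnit ((he' y).epow n) (hv'u y)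
    have hcompat : ∀ y z, res (CohB1.tensorPow L' n) (inf_le_left : U y ⊓ U z ≤ U y) (s y) =
        res (CohB1.tensorPow L' n) (inf_le_right : U y ⊓ U z ≤ U z) (s z) := by
      intro y z
      rw [hsdef, hsdef, res_smul', res_smul', res_epow, res_epow, htr' y z, epow_smul, smul_smul,
        hg'2, hwdef]
      congr 1
      have := huvW z (U y ⊓ U z) inf_le_right
      linear_combination (-(rres X' (inf_le_left : U y ⊓ U z ≤ U y) (v' y))) * this
    have hcovtop : (⊤ : X'.Opens) ≤ iSup U := fun y _ => Opens.mem_iSup.mpr ⟨y, hyU y⟩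
    obtain ⟨S, hS⟩ := exists_gluing (CohB1.tensorPow L' n) U ⊤ (fun _ => le_top) hcovtop s hcompat
    have hST : IsTriv (CohB1.tensorPow L' n) ⊤ S :=
      isTriv_of_cover _ S U (fun _ => le_top) hcovtop (fun y => by rw [hS y]; exact hs y)
    obtain ⟨φ⟩ := PicUFD.nonempty_iso_unit_of_isTriv_top hST
    exact ⟨φ.symm⟩
  · -- pullback
    refine exists_pullback_iso i L' L U hcov e' he' e he (fun y z => ?_)
    have hle : U y ⊓ U z ≤ U z ⊓ U y := le_inf inf_le_right inf_le_left
    refine ⟨rres X' hle (g' z y), ?_, ?_⟩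
    · have := congrArg (res L' hle) (htr' z y)
      rw [res_res, res_smul', res_res] at this
      exact this
    · rw [happ, hg'1]
      exact hgW z y (U y ⊓ U z) inf_le_right inf_le_left

end Groth.Agent.Lib.Helper29.Thick
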