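import Groth.Agent.Lib.Helper29.UfdAlg
import Groth.Agent.Lib.Helper29.Thick2
import Groth.Agent.Lib.Helper29.ExtUFD2
import Groth.Agent.Lib.Helper29.QCohExt
import Mathlib

set_option autoImplicit false
universe u
open CategoryTheory CategoryTheory.Limits AlgebraicGeometry TopologicalSpace Opposite

/-! # Invertible modules on open subschemes of the spectrum of a factorial ring
(no Noetherian hypothesis) -/

namespace Groth.Agent.Lib.Helper29.PicUFDGen
open Groth.Agent.Lib.Helper29.QCoh Groth.Agent.Lib.Helper29.QCoh.Glue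
  Groth.Agent.Lib.Helper29.UfdAlg Groth.Agent.Lib.Helper29

variable {X : Scheme.{u}} [IsAffine X] [IsIntegral X]

/-- The germ at the generic point, with values in the function field. -/
noncomputable def phi (W : X.Opens) (hW : genericPoint X ∈ W) : Γ(X, W) →+* X.functionField :=
  (X.presheaf.germ W (genericPoint X) hW).hom

theorem phi_res {W W' : X.Opens} (h : W' ≤ W) (hW' : genericPoint X ∈ W') (s : Γ(X, W)) :
    phi W' hW' (rres X h s) = phi W (h hW') s :=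
  X.presheaf.germ_res_apply (homOfLE h) _ hW' s

theorem phi_injective (W : X.Opens) (hW : genericPoint X ∈ W) : Function.Injective (phi W hW) :=
  germ_injective_of_isIntegral X _ hW

instance instNonemptyTop : Nonempty (⊤ : X.Opens) := ⟨⟨genericPoint X, trivial⟩⟩

instance instFrac : IsFractionRing Γ(X, ⊤) X.functionField :=
  functionField_isFractionRing_of_isAffineOpen X ⊤ (isAffineOpen_top X)

theorem algebraMap_eq_phi (r : Γ(X, ⊤)) :
    algebraMap Γ(X, ⊤) X.functionField r = phi ⊤ trivial r := rfl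

theorem unitAt_phi_of_isUnit {W : X.Opens} (f : Γ(X, ⊤))
    (hWf : W = X.basicOpen f) (hW : genericPoint X ∈ W) (s : Γ(X, W)) (hs : IsUnit s)
    (π : Γ(X, ⊤)) (hπ : Prime π) (hπf : ¬ π ∣ f) : UnitAt π (phi W hW s) := by
  subst hWf
  haveI : IsLocalization.Away f Γ(X, X.basicOpen f) :=
    (isAffineOpen_top X).isLocalization_basicOpen f
  refine unitAt_of_isUnit f (phi _ hW) (fun r => ?_) s hs π hπ hπf
  rw [RingHom.algebraMap_toAlgebra, algebraMap_eq_phi]
  exact phi_res le_top hW r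

theorem exists_isUnit_phi_of_unitAt [UniqueFactorizationMonoid Γ(X, ⊤)] {W : X.Opens}
    (f : Γ(X, ⊤)) (hWf : W = X.basicOpen f) (hW : genericPoint X ∈ W) (c : X.functionField)
    (hc0 : c ≠ 0) (hc : ∀ π : Γ(X, ⊤), Prime π → ¬ π ∣ f → UnitAt π c) :
    ∃ s : Γ(X, W), IsUnit s ∧ phi W hW s = c := by
  subst hWf
  haveI : IsLocalization.Away f Γ(X, X.basicOpen f) :=
    (isAffineOpen_top X).isLocalization_basicOpen f
  refine exists_isUnit_of_unitAt f (phi _ hW) (fun r => ?_) c hc0 hc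
  rw [RingHom.algebraMap_toAlgebra, algebraMap_eq_phi]
  exact phi_res le_top hW r

section Open
variable (U : X.Opens)

/-- The function-field valued germ on the open subscheme `U`. -/
noncomputable def phiY (V : (U : Scheme.{u}).Opens) (h : genericPoint X ∈ U.ι ''ᵁ V) :
    Γ((U : Scheme.{u}), V) →+* X.functionField := phi (U.ι ''ᵁ V) h

theorem phiY_res {V V' : (U : Scheme.{u}).Opens} (hle : V' ≤ V) (h' : genericPoint X ∈ U.ι ''ᵁ V')
    (h : genericPoint X ∈ U.ι ''ᵁ V) (s : Γ((U : Scheme.{u}), V)) :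
    phiY U V' h' (rres (U : Scheme.{u}) hle s) = phiY U V h s :=
  X.presheaf.germ_res_apply (U.ι.opensFunctor.map (homOfLE hle)) _ h' s

theorem phiY_injective (V : (U : Scheme.{u}).Opens) (h : genericPoint X ∈ U.ι ''ᵁ V) :
    Function.Injective (phiY U V h) := phi_injective _ h

end Open

theorem nonempty_iso_unit [UniqueFactorizationMonoid Γ(X, ⊤)] (U : X.Opens)
    (L : (U : Scheme.{u}).Modules) (hL : PicF.IsInvertible L) :
    Nonempty (unitM (U : Scheme.{u}) ≅ L) := by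
  classical
  by_cases hUe : (U : Set X) = ∅
  · have hbot : (⊤ : (U : Scheme.{u}).Opens) ≤ ⊥ := by
      intro y _
      have : y.1 ∈ (U : Set X) := y.2
      rw [hUe] at this
      exact absurd this (Set.notMem_empty _)
    exact PicUFD.nonempty_iso_unit_of_isTriv_top (ExtUFD.isTriv_of_le_bot L hbot (0 : Γ(L, ⊤)))
  have hηU : genericPoint X ∈ U :=
    ((genericPoint_spec X).mem_open_set_iff U.isOpen).mpr (by
      simpa using Set.nonempty_iff_ne_empty.mpr hUe)
  let ηY : (U : Scheme.{u}) := ⟨genericPoint X, hηU⟩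
  have hηim : ∀ V : (U : Scheme.{u}).Opens, ηY ∈ V → genericPoint X ∈ U.ι ''ᵁ V :=
    fun V h => ⟨ηY, h, rfl⟩
  have hloc : ∀ y : (U : Scheme.{u}), ∃ (V : (U : Scheme.{u}).Opens) (e : Γ(L, V)) (f : Γ(X, ⊤)),
      y ∈ V ∧ IsTriv L V e ∧ U.ι ''ᵁ V = X.basicOpen f := by
    intro y
    obtain ⟨V₀, e₀, hyV₀, he₀⟩ := exists_isTriv hL y
    obtain ⟨f, hfle, hyf⟩ := (isAffineOpen_top X).exists_basicOpen_le (V := U.ι ''ᵁ V₀)
      ⟨y.1, ⟨y, hyV₀, rfl⟩⟩ trivial
    have hle : U.ι ⁻¹ᵁ X.basicOpen f ≤ V₀ := by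
      intro z hz
      obtain ⟨z', hz', hzz'⟩ := hfle hz
      have : z' = z := U.ι.isOpenEmbedding.injective hzz'
      exact this ▸ hz'
    refine ⟨U.ι ⁻¹ᵁ X.basicOpen f, res L hle e₀, f, hyf, he₀.restrict _, ?_⟩
    rw [Scheme.Hom.image_preimage_eq_opensRange_inf, Scheme.Opens.opensRange_ι]
    exact inf_eq_right.mpr (hfle.trans (Scheme.Opens.ι_image_le U V₀))
  choose V e f hyV hT hVf using hloc
  have hηV : ∀ y, ηY ∈ V y := by
    intro y
    have h1 : genericPoint X ∈ U.ι ''ᵁ V y :=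
      ((genericPoint_spec X).mem_open_set_iff (U.ι ''ᵁ V y).isOpen).mpr
        ⟨y.1, trivial, ⟨y, hyV y, rfl⟩⟩
    obtain ⟨z, hz, hzη⟩ := h1
    have : z = ηY := U.ι.isOpenEmbedding.injective hzη
    exact this ▸ hz
  -- transition units
  have htr : ∀ y z, ∃ u : Γ((U : Scheme.{u}), V y ⊓ V z), IsUnit u ∧
      res L (inf_le_left : V y ⊓ V z ≤ V y) (e y) =
        u • res L (inf_le_right : V y ⊓ V z ≤ V z) (e z) :=
    fun y z => Desc.IsTriv.exists_isUnit_smul ((hT z).restrict inf_le_right)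
      ((hT y).restrict inf_le_left)
  choose u hu_unit hu_eq using htr
  let y₀ : (U : Scheme.{u}) := ηY
  let a : U.toScheme → X.functionField := fun y =>
    phiY U (V y ⊓ V y₀) (hηim _ ⟨hηV y, hηV y₀⟩) (u y y₀)
  have ha : ∀ y, a y ≠ 0 := fun y => ((hu_unit y y₀).map _).ne_zero
  -- cocycle
  have hcoc : ∀ y z, phiY U (V y ⊓ V z) (hηim _ ⟨hηV y, hηV z⟩) (u y z) * a z = a y := by
    intro y z
    set T : (U : Scheme.{u}).Opens := V y ⊓ V z ⊓ V y₀ with hTdef
    have hηT : ηY ∈ T := ⟨⟨hηV y, hηV z⟩, hηV y₀⟩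
    have hT1 : T ≤ V y ⊓ V z := inf_le_left
    have hT2 : T ≤ V z ⊓ V y₀ := fun x hx => ⟨hx.1.2, hx.2⟩
    have hT3 : T ≤ V y ⊓ V y₀ := fun x hx => ⟨hx.1.1, hx.2⟩
    have hT0 : T ≤ V y₀ := inf_le_right
    have h1 := congrArg (res L hT1) (hu_eq y z)
    have h2 := congrArg (res L hT2) (hu_eq z y₀)
    have h3 := congrArg (res L hT3) (hu_eq y y₀)
    rw [res_smul', res_res, res_res] at h1 h2 h3
    have h4 : (rres _ hT1 (u y z) * rres _ hT2 (u z y₀)) • res L hT0 (e y₀) =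
        rres _ hT3 (u y y₀) • res L hT0 (e y₀) := by
      rw [mul_smul, ← h2, ← h1, h3]
    have h5 := ((hT y₀).restrict hT0).smul_left_cancel h4
    have h6 := congrArg (phiY U T (hηim T hηT)) h5
    rw [map_mul, phiY_res U hT1 _ (hηim _ ⟨hηV y, hηV z⟩),
      phiY_res U hT2 _ (hηim _ ⟨hηV z, hηV y₀⟩),
      phiY_res U hT3 _ (hηim _ ⟨hηV y, hηV y₀⟩)] at h6
    exact h6
  have himg : ∀ y z, U.ι ''ᵁ (V y ⊓ V z) = X.basicOpen (f y * f z) := by
    intro y z
    rw [Scheme.basicOpen_mul, ← hVf y, ← hVf z]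
    ext x
    constructor
    · rintro ⟨w, ⟨hw1, hw2⟩, rfl⟩
      exact ⟨⟨w, hw1, rfl⟩, ⟨w, hw2, rfl⟩⟩
    · rintro ⟨⟨w, hw1, rfl⟩, ⟨w', hw2, hww'⟩⟩
      have : w' = w := U.ι.isOpenEmbedding.injective hww'
      exact ⟨w, ⟨hw1, this ▸ hw2⟩, rfl⟩
  have H : ∀ y z, ∀ π : Γ(X, ⊤), Prime π → ¬ π ∣ f y → ¬ π ∣ f z → UnitAt π (a y / a z) := by
    intro y z π hπ hy hz
    have : a y / a z = phiY U (V y ⊓ V z) (hηim _ ⟨hηV y, hηV z⟩) (u y z) := by
      rw [← hcoc y z]; field_simp [ha z]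
    rw [this]
    exact unitAt_phi_of_isUnit (f y * f z) (himg y z) _ (u y z) (hu_unit y z) π hπ
      (fun hd => (hπ.dvd_or_dvd hd).elim hy hz)
  have hf₀ : f y₀ ≠ 0 := by
    intro h0
    have h1 : genericPoint X ∈ U.ι ''ᵁ V y₀ := hηim _ (hηV y₀)
    rw [hVf y₀, h0, Scheme.basicOpen_zero] at h1
    exact h1
  obtain ⟨c, hc0, hc⟩ := exists_common f a ha H y₀ hf₀
  have hs : ∀ y, ∃ s : Γ((U : Scheme.{u}), V y), IsUnit s ∧
      phiY U (V y) (hηim _ (hηV y)) s = c / a y :=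
    fun y => exists_isUnit_phi_of_unitAt (f y) (hVf y) _ (c / a y) (div_ne_zero hc0 (ha y))
      (fun π hπ hπf => hc y π hπ hπf)
  choose s hs_unit hs_eq using hs
  let e' : ∀ y, Γ(L, V y) := fun y => s y • e y
  have hT' : ∀ y, IsTriv L (V y) (e' y) := fun y => Thick.IsTriv.smul_isUnit (hT y) (hs_unit y)
  have hagree : ∀ y z, res L (inf_le_left : V y ⊓ V z ≤ V y) (e' y) =
      res L (inf_le_right : V y ⊓ V z ≤ V z) (e' z) := by
    intro y z
    change res L _ (s y • e y) = res L _ (s z • e z)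
    rw [res_smul', res_smul', hu_eq y z, smul_smul]
    congr 1
    apply phiY_injective U _ (hηim (V y ⊓ V z) ⟨hηV y, hηV z⟩)
    have hu0 : phiY U (V y ⊓ V z) (hηim (V y ⊓ V z) ⟨hηV y, hηV z⟩) (u y z) ≠ 0 :=
      ((hu_unit y z).map _).ne_zero
    rw [map_mul, phiY_res U _ _ (hηim _ (hηV y)), phiY_res U _ _ (hηim _ (hηV z)), hs_eq, hs_eq,
      ← hcoc y z]
    field_simp [ha z, hu0]
  have hcover : (⊤ : (U : Scheme.{u}).Opens) ≤ iSup V := fun y _ =>
    Opens.mem_iSup.mpr ⟨y, hyV y⟩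
  obtain ⟨eg, heg⟩ := exists_gluing L V ⊤ (fun _ => le_top) hcover e' hagree
  have hTg : IsTriv L ⊤ eg := Desc.isTriv_of_cover L eg V (fun _ => le_top) hcover
    (fun y => by rw [heg y]; exact hT' y)
  exact PicUFD.nonempty_iso_unit_of_isTriv_top hTg

end Groth.Agent.Lib.Helper29.PicUFDGen
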