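import Groth.Agent.Lib.Helper29.QCohPullbackSupp
import Mathlib

set_option autoImplicit false
universe u
open CategoryTheory CategoryTheory.Limits AlgebraicGeometry TopologicalSpace Opposite
open scoped TensorProduct

namespace Groth.Agent.Lib.Helper29.Pinch
open Groth.Agent.Lib.Helper29.QCoh

/-- Milnor square algebra: a module killed by both base changes is zero. -/
theorem milnor_zero {A B C M : Type u} [CommRing A] [CommRing B] [CommRing C] [Algebra A B]
    [Algebra A C] [AddCommGroup M] [Module A M]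
    (hC : Function.Surjective (algebraMap A C))
    (h1 : RingHom.ker (algebraMap A B) ⊓ RingHom.ker (algebraMap A C) = ⊥)
    (h2 : ∀ a ∈ Ideal.map (algebraMap A B) (RingHom.ker (algebraMap A C)),
      ∃ i ∈ RingHom.ker (algebraMap A C), algebraMap A B i = a)
    (hB0 : Subsingleton (B ⊗[A] M)) (hC0 : Subsingleton (C ⊗[A] M)) : Subsingleton M := by
  set I := RingHom.ker (algebraMap A C) with hI
  -- step 2: I kills M
  have hkill : ∀ i ∈ I, ∀ m : M, i • m = 0 := by
    intro i hi m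
    have hex : ∀ b : B, ∃ j : A, j ∈ I ∧ algebraMap A B j = algebraMap A B i * b := by
      intro b
      obtain ⟨j, hj, hjb⟩ := h2 (algebraMap A B i * b)
        (Ideal.mul_mem_right _ _ (Ideal.mem_map_of_mem _ hi))
      exact ⟨j, hj, hjb⟩
    choose σ hσI hσ using hex
    have huniq : ∀ j j' : A, j ∈ I → j' ∈ I → algebraMap A B j = algebraMap A B j' → j = j' := by
      intro j j' hj hj' e
      have : j - j' ∈ RingHom.ker (algebraMap A B) ⊓ I := by
        refine Ideal.mem_inf.mpr ⟨?_, I.sub_mem hj hj'⟩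
        rw [RingHom.mem_ker, map_sub, e, sub_self]
      rw [h1] at this
      exact sub_eq_zero.mp ((Submodule.mem_bot A).mp this)
    let σl : B →ₗ[A] A :=
      { toFun := σ
        map_add' := fun b b' => by
          apply huniq _ _ (hσI _) (I.add_mem (hσI _) (hσI _))
          rw [map_add, hσ, hσ, hσ, mul_add]
        map_smul' := fun a b => by
          apply huniq _ _ (hσI _) (I.mul_mem_left a (hσI _))
          rw [map_mul, hσ, hσ, Algebra.smul_def]
          ring }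
    let β : B ⊗[A] M →ₗ[A] M := TensorProduct.lift ((LinearMap.lsmul A M).comp σl)
    have hβ : β ((1 : B) ⊗ₜ[A] m) = i • m := by
      have : σ 1 = i := huniq _ _ (hσI _) hi (by rw [hσ, mul_one])
      simp only [β, TensorProduct.lift.tmul, LinearMap.coe_comp, Function.comp_apply,
        LinearMap.lsmul_apply, σl, LinearMap.coe_mk, AddHom.coe_mk, this]
    have h0 : (1 : B) ⊗ₜ[A] m = 0 := Subsingleton.elim _ _
    rw [← hβ, h0, map_zero]
  -- step 1: M = I M
  have hIM : (I • (⊤ : Submodule A M)) = ⊤ := by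
    let ψ : A →ₗ[A] C := Algebra.linearMap A C
    have hψ : Function.Surjective ψ := hC
    have hker : LinearMap.ker ψ = I.restrictScalars A := by
      ext a; simp [ψ, hI, RingHom.mem_ker]
    let e1 : (A ⧸ I) ≃ₗ[A] C :=
      (Submodule.quotEquivOfEq _ _ (by rw [hker]; rfl)).trans (ψ.quotKerEquivOfSurjective hψ)
    let e2 : (A ⧸ I) ⊗[A] M ≃ₗ[A] C ⊗[A] M := TensorProduct.congr e1 (LinearEquiv.refl A M)
    let e3 : (A ⧸ I) ⊗[A] M ≃ₗ[A] M ⧸ (I • (⊤ : Submodule A M)) :=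
      TensorProduct.quotTensorEquivQuotSMul M I
    have hsub : Subsingleton (M ⧸ (I • (⊤ : Submodule A M))) :=
      (e3.symm.trans e2).toEquiv.subsingleton
    exact Submodule.Quotient.subsingleton_iff.mp hsub
  refine subsingleton_of_forall_eq 0 fun m => ?_
  have hm : m ∈ I • (⊤ : Submodule A M) := by rw [hIM]; trivial
  refine Submodule.smul_induction_on hm (fun i hi n _ => hkill i hi n) (fun x y hx hy => ?_)
  rw [hx, hy, add_zero]

variable {X Y : Scheme.{u}}

theorem subsingleton_sections_of_isZero (M : X.Modules) (h : IsZero M) (U : X.Opens) :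
    Subsingleton Γ(M, U) := by
  refine subsingleton_of_forall_eq 0 fun s => ?_
  have h1 : (𝟙 M : M ⟶ M) = 0 := h.eq_of_src _ _
  have h2 : (𝟙 M : M ⟶ M).app U s = (0 : M ⟶ M).app U s := by rw [h1]
  simpa using h2

theorem isZero_of_forall_affine_subsingleton (G : Y.Modules) [G.IsQuasicoherent]
    (h : ∀ V : Y.Opens, IsAffineOpen V → Subsingleton Γ(G, V)) : IsZero G := by
  rw [isZero_iff_stalk_subsingleton]
  intro y
  obtain ⟨_, ⟨V, hV, rfl⟩, hyV, -⟩ :=
    Y.isBasis_affineOpens.exists_subset_of_mem_open (Set.mem_univ y) isOpen_univ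
  rw [subsingleton_stalk_iff G hV y hyV, Module.notMem_support_iff']
  intro m
  haveI := h V hV
  exact ⟨1, fun h1 => (hV.primeIdealOf ⟨y, hyV⟩).2.ne_top ((Ideal.eq_top_iff_one _).mpr h1),
    Subsingleton.elim _ _⟩

theorem isZero_of_pullbacks {X Y Y' : Scheme.{u}} (f : X ⟶ Y) (u : Y' ⟶ Y)
    [IsAffineHom f] [IsClosedImmersion u]
    (hM : ∀ V ∈ Y.affineOpens,
      RingHom.ker (f.app V).hom ⊓ RingHom.ker (u.app V).hom = ⊥ ∧
      ∀ a ∈ Ideal.map (f.app V).hom (RingHom.ker (u.app V).hom),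
        ∃ i ∈ RingHom.ker (u.app V).hom, (f.app V).hom i = a)
    (G : Y.Modules) [G.IsQuasicoherent]
    (h1 : IsZero ((Scheme.Modules.pullback u).obj G)) (h2 : IsZero ((Scheme.Modules.pullback f).obj G)) :
    IsZero G := by
  apply isZero_of_forall_affine_subsingleton
  intro V hV
  have hfV : IsAffineOpen (f ⁻¹ᵁ V) := hV.preimage f
  have huV : IsAffineOpen (u ⁻¹ᵁ V) := hV.preimage u
  letI algB : Algebra Γ(Y, V) Γ(X, f ⁻¹ᵁ V) := (f.appLE V (f ⁻¹ᵁ V) le_rfl).hom.toAlgebra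
  letI algC : Algebra Γ(Y, V) Γ(Y', u ⁻¹ᵁ V) := (u.appLE V (u ⁻¹ᵁ V) le_rfl).hom.toAlgebra
  have hfapp : f.appLE V (f ⁻¹ᵁ V) le_rfl = f.app V := (Scheme.Hom.app_eq_appLE f).symm
  have huapp : u.appLE V (u ⁻¹ᵁ V) le_rfl = u.app V := (Scheme.Hom.app_eq_appLE u).symm
  have hB0 : Subsingleton (Γ(X, f ⁻¹ᵁ V) ⊗[Γ(Y, V)] Γ(G, V)) :=
    haveI := subsingleton_sections_of_isZero _ h2 (f ⁻¹ᵁ V)
    (pullbackSectionsEquiv f G hfV hV le_rfl).symm.toEquiv.subsingleton
  have hC0 : Subsingleton (Γ(Y', u ⁻¹ᵁ V) ⊗[Γ(Y, V)] Γ(G, V)) :=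
    haveI := subsingleton_sections_of_isZero _ h1 (u ⁻¹ᵁ V)
    (pullbackSectionsEquiv u G huV hV le_rfl).symm.toEquiv.subsingleton
  obtain ⟨hM1, hM2⟩ := hM V hV
  have ealgB : algebraMap Γ(Y, V) Γ(X, f ⁻¹ᵁ V) = (f.app V).hom := by
    rw [RingHom.algebraMap_toAlgebra, hfapp]
  have ealgC : algebraMap Γ(Y, V) Γ(Y', u ⁻¹ᵁ V) = (u.app V).hom := by
    rw [RingHom.algebraMap_toAlgebra, huapp]
  refine milnor_zero (A := Γ(Y, V)) (B := Γ(X, f ⁻¹ᵁ V)) (C := Γ(Y', u ⁻¹ᵁ V)) ?_ ?_ ?_ hB0 hC0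
  · rw [ealgC]; exact u.app_surjective V hV
  · rw [ealgB, ealgC]; exact hM1
  · rw [ealgB, ealgC]; exact hM2

end Groth.Agent.Lib.Helper29.Pinch
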