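import Groth.Agent.Lib.Helper29.Pinch1
import Groth.Agent.Lib.Helper29.QCohPullback
import Mathlib

set_option autoImplicit false
universe u
open CategoryTheory CategoryTheory.Limits AlgebraicGeometry TopologicalSpace Opposite
open scoped TensorProduct

namespace Groth.Agent.Lib.Helper29.Pinch
open Groth.Agent.Lib.Helper29.QCoh

/-- Finite generation of a base change is witnessed by finitely many elements of `M`. -/
theorem exists_finset_span_tmul {A B M : Type u} [CommRing A] [CommRing B] [Algebra A B]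
    [AddCommGroup M] [Module A M] [Module.Finite B (B ⊗[A] M)] :
    ∃ S : Finset M, Submodule.span B ((fun m : M => (1 : B) ⊗ₜ[A] m) '' (S : Set M)) = ⊤ := by
  classical
  have h1 : Submodule.span B (Set.range fun m : M => (1 : B) ⊗ₜ[A] m) = ⊤ := by
    have := Submodule.baseChange_eq_span (A := B) (⊤ : Submodule A M)
    rw [Submodule.baseChange_top] at this
    rw [this]
    congr 1
    ext t; simp
  have hfg : (Submodule.span B (Set.range fun m : M => (1 : B) ⊗ₜ[A] m)).FG := by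
    rw [h1]; exact Module.Finite.fg_top
  obtain ⟨s', hs', hspan⟩ := (Submodule.fg_span_iff_fg_span_finset_subset _).mp hfg
  choose g hg using fun t : s' => hs' t.2
  refine ⟨s'.attach.image g, ?_⟩
  rw [eq_top_iff, ← h1, hspan]
  apply Submodule.span_mono
  intro t ht
  refine ⟨g ⟨t, ht⟩, ?_, hg ⟨t, ht⟩⟩
  simp only [Finset.coe_image, Set.mem_image, Finset.mem_coe, Finset.mem_attach, true_and]
  exact ⟨⟨t, ht⟩, rfl⟩

theorem milnor_finite {A B C M : Type u} [CommRing A] [CommRing B] [CommRing C] [Algebra A B]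
    [Algebra A C] [AddCommGroup M] [Module A M]
    (hC : Function.Surjective (algebraMap A C))
    (h1 : RingHom.ker (algebraMap A B) ⊓ RingHom.ker (algebraMap A C) = ⊥)
    (h2 : ∀ a ∈ Ideal.map (algebraMap A B) (RingHom.ker (algebraMap A C)),
      ∃ i ∈ RingHom.ker (algebraMap A C), algebraMap A B i = a)
    [Module.Finite B (B ⊗[A] M)] [Module.Finite C (C ⊗[A] M)] : Module.Finite A M := by
  classical
  obtain ⟨S₁, hS₁⟩ := exists_finset_span_tmul (A := A) (B := B) (M := M)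
  obtain ⟨S₂, hS₂⟩ := exists_finset_span_tmul (A := A) (B := C) (M := M)
  set N : Submodule A M := Submodule.span A ((S₁ ∪ S₂ : Finset M) : Set M) with hN
  have key : ∀ (D : Type u) [CommRing D] [Algebra A D] (S : Finset M), (S : Set M) ⊆ N →
      Submodule.span D ((fun m : M => (1 : D) ⊗ₜ[A] m) '' (S : Set M)) = ⊤ →
      Subsingleton (D ⊗[A] (M ⧸ N)) := by
    intro D _ _ S hSN hS
    let q : D ⊗[A] M →ₗ[D] D ⊗[A] (M ⧸ N) := N.mkQ.baseChange D
    have hq : Function.Surjective q := LinearMap.lTensor_surjective D N.mkQ_surjective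
    have hq0 : q = 0 := by
      apply LinearMap.ext_on hS
      rintro _ ⟨m, hm, rfl⟩
      simp only [q, LinearMap.baseChange_tmul, LinearMap.zero_apply]
      have : N.mkQ m = 0 := (Submodule.Quotient.mk_eq_zero N).mpr (hSN hm)
      rw [this, TensorProduct.tmul_zero]
    refine subsingleton_of_forall_eq 0 fun x => ?_
    obtain ⟨y, rfl⟩ := hq x
    rw [hq0, LinearMap.zero_apply]
  have hS₁N : (S₁ : Set M) ⊆ N := fun m hm =>
    Submodule.subset_span (by simp only [Finset.coe_union]; exact Or.inl hm)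
  have hS₂N : (S₂ : Set M) ⊆ N := fun m hm =>
    Submodule.subset_span (by simp only [Finset.coe_union]; exact Or.inr hm)
  have hQ : Subsingleton (M ⧸ N) := milnor_zero hC h1 h2 (key B S₁ hS₁N hS₁) (key C S₂ hS₂N hS₂)
  have hNtop : N = ⊤ := Submodule.Quotient.subsingleton_iff.mp hQ
  refine ⟨?_⟩
  rw [← hNtop]
  exact Submodule.fg_span (Finset.finite_toSet _)

theorem isFiniteType_iff {X Y Y' : Scheme.{u}} (f : X ⟶ Y) (u : Y' ⟶ Y)
    [IsAffineHom f] [IsClosedImmersion u]
    (hM : ∀ V ∈ Y.affineOpens,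
      RingHom.ker (f.app V).hom ⊓ RingHom.ker (u.app V).hom = ⊥ ∧
      ∀ a ∈ Ideal.map (f.app V).hom (RingHom.ker (u.app V).hom),
        ∃ i ∈ RingHom.ker (u.app V).hom, (f.app V).hom i = a)
    (G : Y.Modules) [G.IsQuasicoherent] :
    SheafOfModules.IsFiniteType G ↔
      SheafOfModules.IsFiniteType ((Scheme.Modules.pullback u).obj G) ∧
        SheafOfModules.IsFiniteType ((Scheme.Modules.pullback f).obj G) := by
  constructor
  · intro h
    haveI : G.IsFiniteType := h
    exact ⟨inferInstance, inferInstance⟩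
  · rintro ⟨hu, hf⟩
    haveI : ((Scheme.Modules.pullback u).obj G).IsFiniteType := hu
    haveI : ((Scheme.Modules.pullback f).obj G).IsFiniteType := hf
    refine isFiniteType_of_module_finite G (fun V : Y.affineOpens => V.1)
      (iSup_affineOpens_eq_top Y) (fun V => V.2) (fun V => ?_)
    obtain ⟨V, hV⟩ := V
    have hfV : IsAffineOpen (f ⁻¹ᵁ V) := hV.preimage f
    have huV : IsAffineOpen (u ⁻¹ᵁ V) := hV.preimage u
    letI algB : Algebra Γ(Y, V) Γ(X, f ⁻¹ᵁ V) := (f.appLE V (f ⁻¹ᵁ V) le_rfl).hom.toAlgebra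
    letI algC : Algebra Γ(Y, V) Γ(Y', u ⁻¹ᵁ V) := (u.appLE V (u ⁻¹ᵁ V) le_rfl).hom.toAlgebra
    have hfapp : f.appLE V (f ⁻¹ᵁ V) le_rfl = f.app V := (Scheme.Hom.app_eq_appLE f).symm
    have huapp : u.appLE V (u ⁻¹ᵁ V) le_rfl = u.app V := (Scheme.Hom.app_eq_appLE u).symm
    haveI hB0 : Module.Finite Γ(X, f ⁻¹ᵁ V) (Γ(X, f ⁻¹ᵁ V) ⊗[Γ(Y, V)] Γ(G, V)) :=
      haveI := module_finite_of_isFiniteType ((Scheme.Modules.pullback f).obj G) hfV
      Module.Finite.equiv (pullbackSectionsEquiv f G hfV hV le_rfl)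
    haveI hC0 : Module.Finite Γ(Y', u ⁻¹ᵁ V) (Γ(Y', u ⁻¹ᵁ V) ⊗[Γ(Y, V)] Γ(G, V)) :=
      haveI := module_finite_of_isFiniteType ((Scheme.Modules.pullback u).obj G) huV
      Module.Finite.equiv (pullbackSectionsEquiv u G huV hV le_rfl)
    obtain ⟨hM1, hM2⟩ := hM V hV
    have ealgB : algebraMap Γ(Y, V) Γ(X, f ⁻¹ᵁ V) = (f.app V).hom := by
      rw [RingHom.algebraMap_toAlgebra, hfapp]
    have ealgC : algebraMap Γ(Y, V) Γ(Y', u ⁻¹ᵁ V) = (u.app V).hom := by
      rw [RingHom.algebraMap_toAlgebra, huapp]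
    refine milnor_finite (A := Γ(Y, V)) (B := Γ(X, f ⁻¹ᵁ V)) (C := Γ(Y', u ⁻¹ᵁ V)) ?_ ?_ ?_
    · rw [ealgC]; exact u.app_surjective V hV
    · rw [ealgB, ealgC]; exact hM1
    · rw [ealgB, ealgC]; exact hM2

end Groth.Agent.Lib.Helper29.Pinch
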