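import Groth.Agent.Lib.Helper29.Pinch2
import Mathlib

set_option autoImplicit false
universe u
open scoped TensorProduct
open TensorProduct LinearMap

namespace Groth.Agent.Lib.Helper29.Pinch

section chase
variable {A : Type u} [CommRing A]
variable {F M N' N Q : Type u} [AddCommGroup F] [Module A F] [AddCommGroup M] [Module A M]
  [AddCommGroup N'] [Module A N'] [AddCommGroup N] [Module A N] [AddCommGroup Q] [Module A Q]

/-- Lemma T: vanishing of `Tor₁(Q, M)` (computed by a flat presentation of `M`) gives injectivity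
of `N' ⊗ M → N ⊗ M` for an extension `0 → N' → N → Q → 0`. -/
theorem rTensor_injective_of_lTensor_ker_injective
    (π : F →ₗ[A] M) (hπ : Function.Surjective π) [Module.Flat A F]
    (j : N' →ₗ[A] N) (p : N →ₗ[A] Q) (hj : Function.Injective j) (hp : Function.Surjective p)
    (hex : Function.Exact j p)
    (hT : Function.Injective ((LinearMap.ker π).subtype.lTensor Q)) :
    Function.Injective (j.rTensor M) := by
  set R := LinearMap.ker π with hR
  set ι := R.subtype with hι
  have hexπ : Function.Exact ι π := LinearMap.exact_subtype_ker_map π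
  rw [injective_iff_map_eq_zero]
  intro x hx
  obtain ⟨x', rfl⟩ := LinearMap.lTensor_surjective N' hπ x
  -- w := image of x' in N ⊗ F
  have h2 : (π.lTensor N) ((j.rTensor F) x') = 0 := by
    have := LinearMap.congr_fun (LinearMap.lTensor_comp_rTensor (f := j) (g := π)) x'
    have h' := LinearMap.congr_fun (LinearMap.rTensor_comp_lTensor (f := j) (g := π)) x'
    simp only [LinearMap.comp_apply] at this h'
    rw [this, ← h', hx]
  obtain ⟨y, hy⟩ := (lTensor_exact N hexπ hπ ((j.rTensor F) x')).mp h2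
  have h4 : (ι.lTensor Q) ((p.rTensor R) y) = 0 := by
    have := LinearMap.congr_fun (LinearMap.lTensor_comp_rTensor (f := p) (g := ι)) y
    have h' := LinearMap.congr_fun (LinearMap.rTensor_comp_lTensor (f := p) (g := ι)) y
    simp only [LinearMap.comp_apply] at this h'
    rw [this, ← h', hy, ← LinearMap.comp_apply, ← LinearMap.rTensor_comp]
    have : p ∘ₗ j = 0 := by ext n; exact hex.apply_apply_eq_zero n
    rw [this, LinearMap.rTensor_zero, LinearMap.zero_apply]
  have h5 : (p.rTensor R) y = 0 := by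
    apply hT; rw [h4, map_zero]
  obtain ⟨y', hy'⟩ := (rTensor_exact R hex hp y).mp h5
  have h6 : (j.rTensor F) ((ι.lTensor N') y') = (j.rTensor F) x' := by
    have := LinearMap.congr_fun (LinearMap.lTensor_comp_rTensor (f := j) (g := ι)) y'
    have h' := LinearMap.congr_fun (LinearMap.rTensor_comp_lTensor (f := j) (g := ι)) y'
    simp only [LinearMap.comp_apply] at this h'
    rw [h', ← this, hy', hy]
  have h7 : (ι.lTensor N') y' = x' :=
    Module.Flat.rTensor_preserves_injective_linearMap j hj h6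
  rw [← h7, ← LinearMap.comp_apply, ← LinearMap.lTensor_comp]
  have : π ∘ₗ ι = 0 := by ext r; exact hexπ.apply_apply_eq_zero r
  rw [this, LinearMap.lTensor_zero, LinearMap.zero_apply]

/-- Lemma T': converse direction. -/
theorem lTensor_ker_injective_of_rTensor_injective
    (π : F →ₗ[A] M) (hπ : Function.Surjective π)
    (j : N' →ₗ[A] N) (p : N →ₗ[A] Q) (hp : Function.Surjective p)
    (hex : Function.Exact j p)
    (hN : Function.Injective ((LinearMap.ker π).subtype.lTensor N))
    (hjM : Function.Injective (j.rTensor M)) :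
    Function.Injective ((LinearMap.ker π).subtype.lTensor Q) := by
  set R := LinearMap.ker π with hR
  set ι := R.subtype with hι
  have hexπ : Function.Exact ι π := LinearMap.exact_subtype_ker_map π
  rw [injective_iff_map_eq_zero]
  intro z hz
  obtain ⟨y, rfl⟩ := LinearMap.rTensor_surjective R hp z
  have h2 : (p.rTensor F) ((ι.lTensor N) y) = 0 := by
    have := LinearMap.congr_fun (LinearMap.lTensor_comp_rTensor (f := p) (g := ι)) y
    have h' := LinearMap.congr_fun (LinearMap.rTensor_comp_lTensor (f := p) (g := ι)) y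
    simp only [LinearMap.comp_apply] at this h'
    rw [h', ← this, hz]
  obtain ⟨x', hx'⟩ := (rTensor_exact F hex hp ((ι.lTensor N) y)).mp h2
  have h3 : (j.rTensor M) ((π.lTensor N') x') = 0 := by
    have := LinearMap.congr_fun (LinearMap.lTensor_comp_rTensor (f := j) (g := π)) x'
    have h' := LinearMap.congr_fun (LinearMap.rTensor_comp_lTensor (f := j) (g := π)) x'
    simp only [LinearMap.comp_apply] at this h'
    rw [h', ← this, hx', ← LinearMap.comp_apply, ← LinearMap.lTensor_comp]
    have : π ∘ₗ ι = 0 := by ext r; exact hexπ.apply_apply_eq_zero r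
    rw [this, LinearMap.lTensor_zero, LinearMap.zero_apply]
  have h3' : (π.lTensor N') x' = 0 := by
    apply hjM; rw [h3, map_zero]
  obtain ⟨y', hy'⟩ := (lTensor_exact N' hexπ hπ x').mp h3'
  have h5 : (ι.lTensor N) ((j.rTensor R) y') = (ι.lTensor N) y := by
    have := LinearMap.congr_fun (LinearMap.lTensor_comp_rTensor (f := j) (g := ι)) y'
    have h' := LinearMap.congr_fun (LinearMap.rTensor_comp_lTensor (f := j) (g := ι)) y'
    simp only [LinearMap.comp_apply] at this h'
    rw [this, ← h', hy', hx']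
  have h6 : (j.rTensor R) y' = y := hN h5
  rw [← h6, ← LinearMap.comp_apply, ← LinearMap.rTensor_comp]
  have : p ∘ₗ j = 0 := by ext n; exact hex.apply_apply_eq_zero n
  rw [this, LinearMap.rTensor_zero, LinearMap.zero_apply]

/-- A short exact sequence with flat cokernel stays exact on the left after tensoring. -/
theorem lTensor_injective_of_flat_coker {X Y Z : Type u} [AddCommGroup X] [Module A X]
    [AddCommGroup Y] [Module A Y] [AddCommGroup Z] [Module A Z] [Module.Flat A Z]
    (i : X →ₗ[A] Y) (q : Y →ₗ[A] Z) (hi : Function.Injective i) (hq : Function.Surjective q)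
    (hex : Function.Exact i q) (W : Type u) [AddCommGroup W] [Module A W] :
    Function.Injective (i.lTensor W) := by
  rw [LinearMap.lTensor_inj_iff_rTensor_inj]
  let π : (W →₀ A) →ₗ[A] W := Finsupp.linearCombination A (id : W → W)
  have hπ : Function.Surjective π := Finsupp.linearCombination_id_surjective A W
  exact rTensor_injective_of_lTensor_ker_injective π hπ i q hi hq hex
    (Module.Flat.lTensor_preserves_injective_linearMap _ (Submodule.injective_subtype _))

end chase

section main
variable {A B : Type u} [CommRing A] [CommRing B] [Algebra A B]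
variable {M : Type u} [AddCommGroup M] [Module A M]

/-- naturality of `cancelBaseChange` in the first variable, for an ideal inclusion. -/
theorem rTensor_subtype_injective_of_flat (J : Ideal B) [Module.Flat B (B ⊗[A] M)] :
    Function.Injective ((J.subtype.restrictScalars A).rTensor M) := by
  have h1 : Function.Injective (J.subtype.rTensor (B ⊗[A] M)) :=
    Module.Flat.rTensor_preserves_injective_linearMap J.subtype (Submodule.injective_subtype _)
  let e1 := AlgebraTensorModule.cancelBaseChange A B B J M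
  let e2 := AlgebraTensorModule.cancelBaseChange A B B B M
  have hcomm : ∀ t : ↥J ⊗[B] (B ⊗[A] M),
      ((J.subtype.restrictScalars A).rTensor M) (e1 t) = e2 ((J.subtype.rTensor (B ⊗[A] M)) t) := by
    intro t
    induction t using TensorProduct.induction_on with
    | zero => simp
    | tmul x y =>
      induction y using TensorProduct.induction_on with
      | zero => simp
      | tmul b m =>
        simp only [e1, e2, AlgebraTensorModule.cancelBaseChange_tmul, LinearMap.rTensor_tmul,
          LinearMap.coe_restrictScalars, Submodule.subtype_apply, Submodule.coe_smul]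
      | add y₁ y₂ h₁ h₂ => simp only [TensorProduct.tmul_add, map_add, h₁, h₂]
    | add t₁ t₂ h₁ h₂ => simp only [map_add, h₁, h₂]
  intro a b hab
  obtain ⟨a', rfl⟩ := e1.surjective a
  obtain ⟨b', rfl⟩ := e1.surjective b
  rw [hcomm, hcomm] at hab
  rw [h1 (e2.injective hab)]

variable (I : Ideal A)

/-- Lemma G. -/
theorem rTensor_subtype_injective_of_le
    (h1 : RingHom.ker (algebraMap A B) ⊓ I = ⊥)
    [Module.Flat B (B ⊗[A] M)]
    {F : Type u} [AddCommGroup F] [Module A F] [Module.Flat A F]
    (π : F →ₗ[A] M) (hπ : Function.Surjective π)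
    (𝔟 : Ideal A) (h𝔟 : 𝔟 ≤ I)
    (φ : ↥𝔟 →ₗ[A] ↥(Ideal.map (algebraMap A B) 𝔟))
    (hφ : ∀ x, ((φ x : ↥(Ideal.map (algebraMap A B) 𝔟)) : B) = algebraMap A B (x : A))
    (hQ : Function.Injective ((LinearMap.ker π).subtype.lTensor
      (↥(Ideal.map (algebraMap A B) 𝔟) ⧸ LinearMap.range φ))) :
    Function.Injective (𝔟.subtype.rTensor M) := by
  have hφinj : Function.Injective φ := by
    rw [injective_iff_map_eq_zero]
    intro x hx
    have h0 : algebraMap A B (x : A) = 0 := by rw [← hφ, hx]; rfl
    have : (x : A) ∈ RingHom.ker (algebraMap A B) ⊓ I :=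
      Ideal.mem_inf.mpr ⟨h0, h𝔟 x.2⟩
    rw [h1] at this
    exact Subtype.ext ((Submodule.mem_bot A).mp this)
  have hstep1 : Function.Injective (φ.rTensor M) :=
    rTensor_injective_of_lTensor_ker_injective π hπ φ (LinearMap.range φ).mkQ hφinj
      (Submodule.mkQ_surjective _) (LinearMap.exact_map_mkQ_range φ) hQ
  have hstep2 : Function.Injective
      (((Ideal.map (algebraMap A B) 𝔟).subtype.restrictScalars A).rTensor M) :=
    rTensor_subtype_injective_of_flat (Ideal.map (algebraMap A B) 𝔟)
  have hcomp : ((Ideal.map (algebraMap A B) 𝔟).subtype.restrictScalars A) ∘ₗ φ =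
      (Algebra.linearMap A B) ∘ₗ 𝔟.subtype := by
    ext x
    simp only [LinearMap.comp_apply, LinearMap.coe_restrictScalars, Submodule.subtype_apply,
      Algebra.linearMap_apply]
    exact hφ x
  have hinj : Function.Injective (((Algebra.linearMap A B).rTensor M) ∘ₗ (𝔟.subtype.rTensor M)) := by
    rw [← LinearMap.rTensor_comp, ← hcomp, LinearMap.rTensor_comp]
    exact hstep2.comp hstep1
  exact Function.Injective.of_comp hinj

/-- The canonical map `𝔟 → 𝔟B`. -/
noncomputable def toMapIdeal (𝔟 : Ideal A) : ↥𝔟 →ₗ[A] ↥(Ideal.map (algebraMap A B) 𝔟) :=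
  LinearMap.codRestrict ((Ideal.map (algebraMap A B) 𝔟).restrictScalars A)
    ((Algebra.linearMap A B) ∘ₗ 𝔟.subtype) (fun x => Ideal.mem_map_of_mem _ x.2)

theorem toMapIdeal_coe (𝔟 : Ideal A) (x : ↥𝔟) :
    ((toMapIdeal (B := B) 𝔟 x : ↥(Ideal.map (algebraMap A B) 𝔟)) : B) = algebraMap A B (x : A) := rfl

/-- The cokernel of `𝔟 → 𝔟B` is killed by `I`. -/
theorem smul_mem_range_toMapIdeal
    (h2 : ∀ a ∈ Ideal.map (algebraMap A B) I, ∃ i ∈ I, algebraMap A B i = a)
    (𝔟 : Ideal A) (i : A) (hi : i ∈ I) (n : ↥(Ideal.map (algebraMap A B) 𝔟)) :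
    i • n ∈ LinearMap.range (toMapIdeal (B := B) 𝔟) := by
  have key : ∀ x ∈ Ideal.map (algebraMap A B) 𝔟, ∀ i ∈ I, ∃ β ∈ 𝔟,
      algebraMap A B β = algebraMap A B i * x := by
    intro x hx
    refine Submodule.span_induction (p := fun x _ => ∀ i ∈ I, ∃ β ∈ 𝔟,
      algebraMap A B β = algebraMap A B i * x) ?_ ?_ ?_ ?_ hx
    · rintro _ ⟨β₀, hβ₀, rfl⟩ i hi
      exact ⟨i * β₀, 𝔟.mul_mem_left i hβ₀, by rw [map_mul]⟩
    · intro i hi
      exact ⟨0, 𝔟.zero_mem, by rw [map_zero, mul_zero]⟩
    · intro x y _ _ hx hy i hi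
      obtain ⟨β₁, hβ₁, e₁⟩ := hx i hi
      obtain ⟨β₂, hβ₂, e₂⟩ := hy i hi
      exact ⟨β₁ + β₂, 𝔟.add_mem hβ₁ hβ₂, by rw [map_add, e₁, e₂, mul_add]⟩
    · intro b x _ hx i hi
      obtain ⟨i', hi', e'⟩ := h2 (algebraMap A B i * b)
        (Ideal.mul_mem_right _ _ (Ideal.mem_map_of_mem _ hi))
      obtain ⟨β, hβ, e⟩ := hx i' hi'
      refine ⟨β, hβ, ?_⟩
      rw [e, e', smul_eq_mul]; ring
  obtain ⟨β, hβ, e⟩ := key n.1 n.2 i hi
  refine ⟨⟨β, hβ⟩, Subtype.ext ?_⟩
  rw [toMapIdeal_coe]
  change algebraMap A B β = ((i • n : ↥(Ideal.map (algebraMap A B) 𝔟)) : B)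
  rw [e]
  change _ = i • (n : B)
  rw [Algebra.smul_def]

theorem subsingleton_tensor_of_subsingleton_left (Q R : Type u) [AddCommGroup Q] [Module A Q]
    [AddCommGroup R] [Module A R] [Subsingleton Q] : Subsingleton (Q ⊗[A] R) := by
  refine subsingleton_of_forall_eq 0 fun t => ?_
  induction t using TensorProduct.induction_on with
  | zero => rfl
  | tmul q r => rw [Subsingleton.elim q 0, TensorProduct.zero_tmul]
  | add x y hx hy => rw [hx, hy, add_zero]

/-- (b)+(c): `Tor₁(Q, M) = 0` for `Q` killed by `I`. -/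
theorem lTensor_ker_injective_of_torsion
    {F : Type u} [AddCommGroup F] [Module A F]
    (π : F →ₗ[A] M) (hπ : Function.Surjective π)
    (ha : Function.Injective (I.subtype.rTensor M))
    [Module.Flat (A ⧸ I) ((A ⧸ I) ⊗[A] M)]
    (Q : Type u) [AddCommGroup Q] [Module A Q] (hkill : ∀ i ∈ I, ∀ q : Q, i • q = 0) :
    Function.Injective ((LinearMap.ker π).subtype.lTensor Q) := by
  have hexπ : Function.Exact (LinearMap.ker π).subtype π := LinearMap.exact_subtype_ker_map π
  have hexC0 : Function.Exact ((LinearMap.ker π).subtype.lTensor (A ⧸ I)) (π.lTensor (A ⧸ I)) :=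
    lTensor_exact (A ⧸ I) hexπ hπ
  have hb : Function.Injective ((LinearMap.ker π).subtype.lTensor (A ⧸ I)) := by
    refine lTensor_ker_injective_of_rTensor_injective π hπ I.subtype I.mkQ
      (Submodule.mkQ_surjective _) (LinearMap.exact_subtype_mkQ I) ?_ ha
    exact Module.Flat.lTensor_preserves_injective_linearMap _ (Submodule.injective_subtype _)
  have htors : Module.IsTorsionBySet A Q (I : Set A) := fun q a => hkill a.1 a.2 q
  letI : Module (A ⧸ I) Q := htors.module
  haveI : IsScalarTower A (A ⧸ I) Q := htors.isScalarTower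
  let ιC : (A ⧸ I) ⊗[A] ↥(LinearMap.ker π) →ₗ[A ⧸ I] (A ⧸ I) ⊗[A] F :=
    (LinearMap.ker π).subtype.baseChange (A ⧸ I)
  let πC : (A ⧸ I) ⊗[A] F →ₗ[A ⧸ I] (A ⧸ I) ⊗[A] M := π.baseChange (A ⧸ I)
  have hιC : Function.Injective ιC := hb
  have hπC : Function.Surjective πC := LinearMap.lTensor_surjective (A ⧸ I) hπ
  have hexC : Function.Exact ιC πC := hexC0
  have hinj : Function.Injective (ιC.lTensor Q) :=
    lTensor_injective_of_flat_coker ιC πC hιC hπC hexC Q
  let e1 := AlgebraTensorModule.cancelBaseChange A (A ⧸ I) (A ⧸ I) Q ↥(LinearMap.ker π)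
  let e2 := AlgebraTensorModule.cancelBaseChange A (A ⧸ I) (A ⧸ I) Q F
  have hnat : ∀ t, ((LinearMap.ker π).subtype.lTensor Q) (e1 t) = e2 ((ιC.lTensor Q) t) := by
    intro t
    have := LinearMap.congr_fun
      (AlgebraTensorModule.lTensor_comp_cancelBaseChange (R := A) (A := A ⧸ I) (B := A ⧸ I)
        (M := Q) (LinearMap.ker π).subtype) t
    exact this
  intro a b hab
  obtain ⟨a', rfl⟩ := e1.surjective a
  obtain ⟨b', rfl⟩ := e1.surjective b
  rw [hnat, hnat] at hab
  rw [hinj (e2.injective hab)]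

/-- (e): from ideals below `I` to all ideals. -/
theorem rTensor_subtype_injective_of_inf
    {F : Type u} [AddCommGroup F] [Module A F] [Module.Flat A F]
    (π : F →ₗ[A] M) (hπ : Function.Surjective π)
    (hc : ∀ (Q : Type u) [AddCommGroup Q] [Module A Q], (∀ i ∈ I, ∀ q : Q, i • q = 0) →
      Function.Injective ((LinearMap.ker π).subtype.lTensor Q))
    (hd : ∀ 𝔟 : Ideal A, 𝔟 ≤ I → Function.Injective (𝔟.subtype.rTensor M))
    (𝔞 : Ideal A) : Function.Injective (𝔞.subtype.rTensor M) := by
  set 𝔟 : Ideal A := 𝔞 ⊓ I with h𝔟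
  let j₁ : ↥𝔟 →ₗ[A] ↥𝔞 := Submodule.inclusion inf_le_left
  let p₁ : ↥𝔞 →ₗ[A] A ⧸ I := I.mkQ ∘ₗ 𝔞.subtype
  let K : Submodule A (A ⧸ I) := LinearMap.range p₁
  let p₁' : ↥𝔞 →ₗ[A] ↥K := p₁.rangeRestrict
  have hp₁' : Function.Surjective p₁' := LinearMap.surjective_rangeRestrict p₁
  have hex₁ : Function.Exact j₁ p₁' := by
    intro a
    constructor
    · intro ha0
      have h0 : p₁ a = 0 := congrArg Subtype.val ha0
      have haI : (a : A) ∈ I := (Submodule.Quotient.mk_eq_zero I).mp h0
      exact ⟨⟨a.1, Ideal.mem_inf.mpr ⟨a.2, haI⟩⟩, rfl⟩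
    · rintro ⟨b, rfl⟩
      apply Subtype.ext
      have hbI : (b : A) ∈ I := (Ideal.mem_inf.mp b.2).2
      change p₁ (j₁ b) = 0
      exact (Submodule.Quotient.mk_eq_zero I).mpr hbI
  have hK : Function.Injective (K.subtype.rTensor M) := by
    refine rTensor_injective_of_lTensor_ker_injective π hπ K.subtype K.mkQ
      (Submodule.injective_subtype _) (Submodule.mkQ_surjective _) (LinearMap.exact_subtype_mkQ K) ?_
    apply hc
    intro i hi q
    obtain ⟨n, rfl⟩ := Submodule.mkQ_surjective _ q
    obtain ⟨a, rfl⟩ := Submodule.mkQ_surjective _ n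
    rw [← map_smul, ← map_smul]
    have h' : i • a ∈ I := I.mul_mem_right a hi
    have : (Submodule.mkQ I) (i • a) = 0 := (Submodule.Quotient.mk_eq_zero I).mpr h'
    rw [this, map_zero]
  rw [injective_iff_map_eq_zero]
  intro x hx
  have hx1 : (K.subtype.rTensor M) ((p₁'.rTensor M) x) = 0 := by
    rw [← LinearMap.comp_apply, ← LinearMap.rTensor_comp]
    have : K.subtype ∘ₗ p₁' = I.mkQ ∘ₗ 𝔞.subtype := by
      ext a; rfl
    rw [this, LinearMap.rTensor_comp, LinearMap.comp_apply, hx, map_zero]
  have hx2 : (p₁'.rTensor M) x = 0 := by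
    apply hK; rw [hx1, map_zero]
  obtain ⟨y, rfl⟩ := (rTensor_exact M hex₁ hp₁' x).mp hx2
  have hy : (𝔟.subtype.rTensor M) y = 0 := by
    have : 𝔟.subtype = 𝔞.subtype ∘ₗ j₁ := by ext b; rfl
    rw [this, LinearMap.rTensor_comp, LinearMap.comp_apply, hx]
  have : y = 0 := by
    apply hd 𝔟 inf_le_right; rw [hy, map_zero]
  rw [this, map_zero]

/-- Milnor square flatness, with `C = A ⧸ I`. -/
theorem milnor_flat_quot
    (h1 : RingHom.ker (algebraMap A B) ⊓ I = ⊥)
    (h2 : ∀ a ∈ Ideal.map (algebraMap A B) I, ∃ i ∈ I, algebraMap A B i = a)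
    [Module.Flat B (B ⊗[A] M)] [Module.Flat (A ⧸ I) ((A ⧸ I) ⊗[A] M)] : Module.Flat A M := by
  let π : (M →₀ A) →ₗ[A] M := Finsupp.linearCombination A (id : M → M)
  have hπ : Function.Surjective π := Finsupp.linearCombination_id_surjective A M
  -- (a) I ⊗ M → M injective
  have ha : Function.Injective (I.subtype.rTensor M) := by
    refine rTensor_subtype_injective_of_le I h1 π hπ I le_rfl (toMapIdeal I) (toMapIdeal_coe I) ?_
    have hsurj : LinearMap.range (toMapIdeal (B := B) I) = ⊤ := by
      rw [eq_top_iff]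
      rintro n -
      obtain ⟨i, hi, e⟩ := h2 n.1 n.2
      exact ⟨⟨i, hi⟩, Subtype.ext (by rw [toMapIdeal_coe]; exact e)⟩
    haveI : Subsingleton (↥(Ideal.map (algebraMap A B) I) ⧸ LinearMap.range (toMapIdeal (B := B) I)) := by
      rw [hsurj]; exact Submodule.Quotient.subsingleton_iff.mpr rfl
    haveI := subsingleton_tensor_of_subsingleton_left (A := A)
      (↥(Ideal.map (algebraMap A B) I) ⧸ LinearMap.range (toMapIdeal (B := B) I)) ↥(LinearMap.ker π)
    exact Function.injective_of_subsingleton _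
  have hc : ∀ (Q : Type u) [AddCommGroup Q] [Module A Q], (∀ i ∈ I, ∀ q : Q, i • q = 0) →
      Function.Injective ((LinearMap.ker π).subtype.lTensor Q) := fun Q _ _ hkill =>
    lTensor_ker_injective_of_torsion I π hπ ha Q hkill
  -- (d) ideals below I
  have hd : ∀ 𝔟 : Ideal A, 𝔟 ≤ I → Function.Injective (𝔟.subtype.rTensor M) := by
    intro 𝔟 h𝔟
    refine rTensor_subtype_injective_of_le I h1 π hπ 𝔟 h𝔟 (toMapIdeal 𝔟) (toMapIdeal_coe 𝔟) ?_
    apply hc
    intro i hi q
    obtain ⟨n, rfl⟩ := Submodule.mkQ_surjective _ q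
    rw [← map_smul]
    exact (Submodule.Quotient.mk_eq_zero _).mpr (smul_mem_range_toMapIdeal I h2 𝔟 i hi n)
  rw [Module.Flat.iff_rTensor_injective']
  exact rTensor_subtype_injective_of_inf I π hπ hc hd

end main

section wrapper
variable {A B C M : Type u} [CommRing A] [CommRing B] [CommRing C] [Algebra A B] [Algebra A C]
  [AddCommGroup M] [Module A M]

/-- Milnor square flatness. -/
theorem milnor_flat
    (hC : Function.Surjective (algebraMap A C))
    (h1 : RingHom.ker (algebraMap A B) ⊓ RingHom.ker (algebraMap A C) = ⊥)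
    (h2 : ∀ a ∈ Ideal.map (algebraMap A B) (RingHom.ker (algebraMap A C)),
      ∃ i ∈ RingHom.ker (algebraMap A C), algebraMap A B i = a)
    [Module.Flat B (B ⊗[A] M)] [Module.Flat C (C ⊗[A] M)] : Module.Flat A M := by
  set I := RingHom.ker (algebraMap A C) with hI
  let e : (A ⧸ I) ≃+* C := RingHom.quotientKerEquivOfSurjective hC
  letI : Algebra C (A ⧸ I) := e.symm.toRingHom.toAlgebra
  haveI : IsScalarTower A C (A ⧸ I) := IsScalarTower.of_algebraMap_eq fun a => by
    rw [RingHom.algebraMap_toAlgebra]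
    exact (RingHom.quotientKerEquivOfSurjective_symm_apply hC a).symm
  haveI : Module.Flat (A ⧸ I) ((A ⧸ I) ⊗[C] (C ⊗[A] M)) := inferInstance
  haveI : Module.Flat (A ⧸ I) ((A ⧸ I) ⊗[A] M) :=
    Module.Flat.of_linearEquiv
      (AlgebraTensorModule.cancelBaseChange A C (A ⧸ I) (A ⧸ I) M).symm
  exact milnor_flat_quot I h1 h2

/-- Milnor square: finite projectivity. -/
theorem milnor_projective
    (hC : Function.Surjective (algebraMap A C))
    (h1 : RingHom.ker (algebraMap A B) ⊓ RingHom.ker (algebraMap A C) = ⊥)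
    (h2 : ∀ a ∈ Ideal.map (algebraMap A B) (RingHom.ker (algebraMap A C)),
      ∃ i ∈ RingHom.ker (algebraMap A C), algebraMap A B i = a)
    [Module.Finite B (B ⊗[A] M)] [Module.Projective B (B ⊗[A] M)]
    [Module.Finite C (C ⊗[A] M)] [Module.Projective C (C ⊗[A] M)] :
    Module.Finite A M ∧ Module.Projective A M := by
  haveI hfin : Module.Finite A M := milnor_finite hC h1 h2
  haveI hflat : Module.Flat A M := milnor_flat hC h1 h2
  obtain ⟨n, π, hπ⟩ := Module.Finite.exists_fin' A M
  have key : ∀ (D : Type u) [CommRing D] [Algebra A D] [Module.Finite D (D ⊗[A] M)]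
      [Module.Projective D (D ⊗[A] M)], Module.Finite D (D ⊗[A] ↥(LinearMap.ker π)) := by
    intro D _ _ _ _
    have hinj : Function.Injective ((LinearMap.ker π).subtype.lTensor D) :=
      lTensor_injective_of_flat_coker (LinearMap.ker π).subtype π (Submodule.injective_subtype _) hπ
        (LinearMap.exact_subtype_ker_map π) D
    have hex0 : Function.Exact ((LinearMap.ker π).subtype.lTensor D) (π.lTensor D) :=
      lTensor_exact D (LinearMap.exact_subtype_ker_map π) hπ
    let ιD : D ⊗[A] ↥(LinearMap.ker π) →ₗ[D] D ⊗[A] (Fin n → A) :=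
      (LinearMap.ker π).subtype.baseChange D
    let πD : D ⊗[A] (Fin n → A) →ₗ[D] D ⊗[A] M := π.baseChange D
    have hπD : Function.Surjective πD := LinearMap.lTensor_surjective D hπ
    have hex : Function.Exact ιD πD := hex0
    have hιD : Function.Injective ιD := hinj
    haveI : Module.FinitePresentation D (D ⊗[A] M) := Module.finitePresentation_of_projective D _
    have hker : (LinearMap.ker πD).FG := Module.FinitePresentation.fg_ker πD hπD
    have hrange : LinearMap.range ιD = LinearMap.ker πD := (LinearMap.exact_iff.mp hex).symm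
    haveI : Module.Finite D ↥(LinearMap.range ιD) := Module.Finite.iff_fg.mpr (hrange ▸ hker)
    exact Module.Finite.equiv (LinearEquiv.ofInjective ιD hιD).symm
  haveI := key B
  haveI := key C
  have hK : Module.Finite A ↥(LinearMap.ker π) := milnor_finite hC h1 h2
  haveI : Module.FinitePresentation A M :=
    Module.finitePresentation_of_surjective π hπ (Module.Finite.iff_fg.mp hK)
  exact ⟨hfin, Module.Flat.projective_of_finitePresentation⟩

end wrapper

end Groth.Agent.Lib.Helper29.Pinch
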