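import Groth.Agent.Lib.Helper29.Pinch3
import Groth.Agent.Lib.Helper29.QCohLocFree
import Mathlib

set_option autoImplicit false
universe u
open CategoryTheory CategoryTheory.Limits AlgebraicGeometry TopologicalSpace Opposite
open scoped TensorProduct

namespace Groth.Agent.Lib.Helper29.Pinch
open Groth.Agent.Lib.Helper29.QCoh

variable {X Y : Scheme.{u}}

/-- Sections of a flat quasi-coherent module over an affine open form a flat module. -/
theorem flat_sections_of_isFlat (M : X.Modules) [M.IsQuasicoherent] (h : FlatMod.IsFlat M)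
    {U : X.Opens} (hU : IsAffineOpen U) : Module.Flat Γ(X, U) Γ(M, U) := by
  have hpt : ∀ (P : Ideal Γ(X, U)) [P.IsMaximal], ∃ (x : X) (hx : x ∈ U),
      hU.primeIdealOf ⟨x, hx⟩ = ⟨P, inferInstance⟩ := fun P _ =>
    exists_point_of_prime' hU ⟨P, inferInstance⟩
  choose x hx hP using hpt
  let _ : ∀ (P : Ideal Γ(X, U)) [P.IsMaximal], Algebra Γ(X, U) (X.presheaf.stalk (x P)) :=
    fun P _ => TopCat.Presheaf.algebra_section_stalk X.presheaf ⟨x P, hx P⟩
  let _ : ∀ (P : Ideal Γ(X, U)) [P.IsMaximal], Module Γ(X, U) (M.presheaf.stalk (x P)) :=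
    fun P _ => stalkModule M U (x P) (hx P)
  have hloc : ∀ (P : Ideal Γ(X, U)) [P.IsMaximal],
      IsLocalization.AtPrime (X.presheaf.stalk (x P)) P := fun P _ => by
    have := hU.isLocalization_stalk ⟨x P, hx P⟩
    rw [hP P] at this
    exact this
  have htower : ∀ (P : Ideal Γ(X, U)) [P.IsMaximal],
      IsScalarTower Γ(X, U) (X.presheaf.stalk (x P)) (M.presheaf.stalk (x P)) := fun P _ =>
    IsScalarTower.of_algebraMap_smul fun a m => rfl
  have hlm : ∀ (P : Ideal Γ(X, U)) [P.IsMaximal],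
      IsLocalizedModule P.primeCompl (germₗ M U (x P) (hx P)) := fun P _ => by
    have := isLocalizedModule_germ M hU (x P) (hx P)
    rw [hP P] at this
    exact this
  refine Module.flat_of_isLocalized_maximal Γ(X, U) Γ(M, U)
    (fun P _ => M.presheaf.stalk (x P))
    (fun P _ => germₗ M U (x P) (hx P)) (fun P hP' => ?_)
  haveI := hloc P
  haveI := htower P
  haveI : Module.Flat Γ(X, U) (X.presheaf.stalk (x P)) := IsLocalization.flat _ P.primeCompl
  haveI : Module.Flat (X.presheaf.stalk (x P)) (M.presheaf.stalk (x P)) := h (x P)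
  exact Module.Flat.trans Γ(X, U) (X.presheaf.stalk (x P)) (M.presheaf.stalk (x P))

/-- A quasi-coherent module with flat sections over an affine cover is flat. -/
theorem isFlat_of_flat_sections (M : X.Modules) [M.IsQuasicoherent]
    {ι : Type*} (U : ι → X.Opens) (hcov : ∀ x : X, ∃ i, x ∈ U i) (haff : ∀ i, IsAffineOpen (U i))
    (hflat : ∀ i, Module.Flat Γ(X, U i) Γ(M, U i)) : FlatMod.IsFlat M := by
  intro x
  obtain ⟨i, hx⟩ := hcov x
  let _ := stalkModule M (U i) x hx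
  let _ : Algebra Γ(X, U i) (X.presheaf.stalk x) :=
    TopCat.Presheaf.algebra_section_stalk X.presheaf ⟨x, hx⟩
  have hloc := (haff i).isLocalization_stalk ⟨x, hx⟩
  have : IsScalarTower Γ(X, U i) (X.presheaf.stalk x) (M.presheaf.stalk x) :=
    IsScalarTower.of_algebraMap_smul fun a m => rfl
  have := isLocalizedModule_germ M (haff i) x hx
  have := hflat i
  exact Module.Flat.of_isLocalizedModule (X.presheaf.stalk x)
    ((haff i).primeIdealOf ⟨x, hx⟩).asIdeal.primeCompl (germₗ M (U i) x hx)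

/-- Flatness is preserved by pullback along an affine morphism. -/
theorem isFlat_pullback_of_isAffineHom {Z : Scheme.{u}} (g : Z ⟶ Y) [IsAffineHom g]
    (G : Y.Modules) [G.IsQuasicoherent] (h : FlatMod.IsFlat G) :
    FlatMod.IsFlat ((Scheme.Modules.pullback g).obj G) := by
  refine isFlat_of_flat_sections _ (fun V : Y.affineOpens => g ⁻¹ᵁ V.1) (fun z => ?_)
    (fun V => V.2.preimage g) (fun V => ?_)
  · obtain ⟨_, ⟨V, hV, rfl⟩, hzV, -⟩ :=
      Y.isBasis_affineOpens.exists_subset_of_mem_open (Set.mem_univ (g.base z)) isOpen_univ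
    exact ⟨⟨V, hV⟩, hzV⟩
  · obtain ⟨V, hV⟩ := V
    have hgV : IsAffineOpen (g ⁻¹ᵁ V) := hV.preimage g
    letI algB : Algebra Γ(Y, V) Γ(Z, g ⁻¹ᵁ V) := (g.appLE V (g ⁻¹ᵁ V) le_rfl).hom.toAlgebra
    haveI : Module.Flat Γ(Y, V) Γ(G, V) := flat_sections_of_isFlat G h hV
    exact Module.Flat.of_linearEquiv (pullbackSectionsEquiv g G hgV hV le_rfl)

theorem isFlat_iff {X Y Y' : Scheme.{u}} (f : X ⟶ Y) (u : Y' ⟶ Y)
    [IsAffineHom f] [IsClosedImmersion u]
    (hM : ∀ V ∈ Y.affineOpens,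
      RingHom.ker (f.app V).hom ⊓ RingHom.ker (u.app V).hom = ⊥ ∧
      ∀ a ∈ Ideal.map (f.app V).hom (RingHom.ker (u.app V).hom),
        ∃ i ∈ RingHom.ker (u.app V).hom, (f.app V).hom i = a)
    (G : Y.Modules) [G.IsQuasicoherent] :
    FlatMod.IsFlat G ↔
      FlatMod.IsFlat ((Scheme.Modules.pullback u).obj G) ∧
        FlatMod.IsFlat ((Scheme.Modules.pullback f).obj G) := by
  constructor
  · intro h
    exact ⟨isFlat_pullback_of_isAffineHom u G h, isFlat_pullback_of_isAffineHom f G h⟩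
  · rintro ⟨hu, hf⟩
    refine isFlat_of_flat_sections G (fun V : Y.affineOpens => V.1) (fun y => ?_)
      (fun V => V.2) (fun V => ?_)
    · obtain ⟨_, ⟨V, hV, rfl⟩, hyV, -⟩ :=
        Y.isBasis_affineOpens.exists_subset_of_mem_open (Set.mem_univ y) isOpen_univ
      exact ⟨⟨V, hV⟩, hyV⟩
    obtain ⟨V, hV⟩ := V
    have hfV : IsAffineOpen (f ⁻¹ᵁ V) := hV.preimage f
    have huV : IsAffineOpen (u ⁻¹ᵁ V) := hV.preimage u
    letI algB : Algebra Γ(Y, V) Γ(X, f ⁻¹ᵁ V) := (f.appLE V (f ⁻¹ᵁ V) le_rfl).hom.toAlgebra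
    letI algC : Algebra Γ(Y, V) Γ(Y', u ⁻¹ᵁ V) := (u.appLE V (u ⁻¹ᵁ V) le_rfl).hom.toAlgebra
    have hfapp : f.appLE V (f ⁻¹ᵁ V) le_rfl = f.app V := (Scheme.Hom.app_eq_appLE f).symm
    have huapp : u.appLE V (u ⁻¹ᵁ V) le_rfl = u.app V := (Scheme.Hom.app_eq_appLE u).symm
    haveI hB0 : Module.Flat Γ(X, f ⁻¹ᵁ V) (Γ(X, f ⁻¹ᵁ V) ⊗[Γ(Y, V)] Γ(G, V)) :=
      haveI := flat_sections_of_isFlat ((Scheme.Modules.pullback f).obj G) hf hfV
      Module.Flat.of_linearEquiv (pullbackSectionsEquiv f G hfV hV le_rfl).symm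
    haveI hC0 : Module.Flat Γ(Y', u ⁻¹ᵁ V) (Γ(Y', u ⁻¹ᵁ V) ⊗[Γ(Y, V)] Γ(G, V)) :=
      haveI := flat_sections_of_isFlat ((Scheme.Modules.pullback u).obj G) hu huV
      Module.Flat.of_linearEquiv (pullbackSectionsEquiv u G huV hV le_rfl).symm
    obtain ⟨hM1, hM2⟩ := hM V hV
    have ealgB : algebraMap Γ(Y, V) Γ(X, f ⁻¹ᵁ V) = (f.app V).hom := by
      rw [RingHom.algebraMap_toAlgebra, hfapp]
    have ealgC : algebraMap Γ(Y, V) Γ(Y', u ⁻¹ᵁ V) = (u.app V).hom := by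
      rw [RingHom.algebraMap_toAlgebra, huapp]
    refine milnor_flat (A := Γ(Y, V)) (B := Γ(X, f ⁻¹ᵁ V)) (C := Γ(Y', u ⁻¹ᵁ V)) ?_ ?_ ?_
    · rw [ealgC]; exact u.app_surjective V hV
    · rw [ealgB, ealgC]; exact hM1
    · rw [ealgB, ealgC]; exact hM2

theorem isFinLocFree_iff {X Y Y' : Scheme.{u}} (f : X ⟶ Y) (u : Y' ⟶ Y)
    [IsAffineHom f] [IsClosedImmersion u]
    (hM : ∀ V ∈ Y.affineOpens,
      RingHom.ker (f.app V).hom ⊓ RingHom.ker (u.app V).hom = ⊥ ∧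
      ∀ a ∈ Ideal.map (f.app V).hom (RingHom.ker (u.app V).hom),
        ∃ i ∈ RingHom.ker (u.app V).hom, (f.app V).hom i = a)
    (G : Y.Modules) [G.IsQuasicoherent] :
    FlatMod.IsFinLocFree G ↔
      FlatMod.IsFinLocFree ((Scheme.Modules.pullback u).obj G) ∧
        FlatMod.IsFinLocFree ((Scheme.Modules.pullback f).obj G) := by
  constructor
  · intro h
    exact ⟨isFinLocFree_pullback u h, isFinLocFree_pullback f h⟩
  · rintro ⟨hu, hf⟩
    have key : ∀ V : Y.affineOpens, Module.Finite Γ(Y, V.1) Γ(G, V.1) ∧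
        Module.Projective Γ(Y, V.1) Γ(G, V.1) := by
      rintro ⟨V, hV⟩
      have hfV : IsAffineOpen (f ⁻¹ᵁ V) := hV.preimage f
      have huV : IsAffineOpen (u ⁻¹ᵁ V) := hV.preimage u
      letI algB : Algebra Γ(Y, V) Γ(X, f ⁻¹ᵁ V) := (f.appLE V (f ⁻¹ᵁ V) le_rfl).hom.toAlgebra
      letI algC : Algebra Γ(Y, V) Γ(Y', u ⁻¹ᵁ V) := (u.appLE V (u ⁻¹ᵁ V) le_rfl).hom.toAlgebra
      have hfapp : f.appLE V (f ⁻¹ᵁ V) le_rfl = f.app V := (Scheme.Hom.app_eq_appLE f).symm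
      have huapp : u.appLE V (u ⁻¹ᵁ V) le_rfl = u.app V := (Scheme.Hom.app_eq_appLE u).symm
      obtain ⟨hBf, hBp⟩ := finite_projective_sections_of_isFinLocFree hf hfV
      obtain ⟨hCf, hCp⟩ := finite_projective_sections_of_isFinLocFree hu huV
      haveI : Module.Finite Γ(X, f ⁻¹ᵁ V) (Γ(X, f ⁻¹ᵁ V) ⊗[Γ(Y, V)] Γ(G, V)) :=
        Module.Finite.equiv (pullbackSectionsEquiv f G hfV hV le_rfl)
      haveI : Module.Projective Γ(X, f ⁻¹ᵁ V) (Γ(X, f ⁻¹ᵁ V) ⊗[Γ(Y, V)] Γ(G, V)) :=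
        Module.Projective.of_equiv (pullbackSectionsEquiv f G hfV hV le_rfl)
      haveI : Module.Finite Γ(Y', u ⁻¹ᵁ V) (Γ(Y', u ⁻¹ᵁ V) ⊗[Γ(Y, V)] Γ(G, V)) :=
        Module.Finite.equiv (pullbackSectionsEquiv u G huV hV le_rfl)
      haveI : Module.Projective Γ(Y', u ⁻¹ᵁ V) (Γ(Y', u ⁻¹ᵁ V) ⊗[Γ(Y, V)] Γ(G, V)) :=
        Module.Projective.of_equiv (pullbackSectionsEquiv u G huV hV le_rfl)
      obtain ⟨hM1, hM2⟩ := hM V hV
      have ealgB : algebraMap Γ(Y, V) Γ(X, f ⁻¹ᵁ V) = (f.app V).hom := by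
        rw [RingHom.algebraMap_toAlgebra, hfapp]
      have ealgC : algebraMap Γ(Y, V) Γ(Y', u ⁻¹ᵁ V) = (u.app V).hom := by
        rw [RingHom.algebraMap_toAlgebra, huapp]
      refine milnor_projective (A := Γ(Y, V)) (B := Γ(X, f ⁻¹ᵁ V)) (C := Γ(Y', u ⁻¹ᵁ V)) ?_ ?_ ?_
      · rw [ealgC]; exact u.app_surjective V hV
      · rw [ealgB, ealgC]; exact hM1
      · rw [ealgB, ealgC]; exact hM2
    exact isFinLocFree_of_finite_projective_sections G (fun V : Y.affineOpens => V.1)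
      (iSup_affineOpens_eq_top Y) (fun V => V.2) (fun V => (key V).1) (fun V => (key V).2)

end Groth.Agent.Lib.Helper29.Pinch
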