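import Mathlib

/-! A Krull-intersection substitute for localized polynomial rings (helper29). -/

set_option autoImplicit false
universe u
open Polynomial

namespace Groth.Agent.Lib.Helper29.PolyKrull

variable {C : Type u} [CommRing C]

/-- In `C[X]` localized at `f * C (f.coeff 0)`, an element divisible by all powers of `X` is zero. -/
theorem eq_zero_of_forall_mem (f : C[X]) (R : Type u) [CommRing R] [Algebra C[X] R]
    [IsLocalization.Away (f * Polynomial.C (f.coeff 0)) R] (r : R)
    (h : ∀ n : ℕ, r ∈ Ideal.span {algebraMap C[X] R (X ^ (n + 1))}) : r = 0 := by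
  classical
  set f₀ := f.coeff 0 with hf₀
  set f' := f * Polynomial.C f₀ with hf'
  let B' := Localization.Away f₀
  -- the map to power series over the localization
  let Φ : C[X] →+* PowerSeries B' :=
    (PowerSeries.map (algebraMap C B')).comp (Polynomial.coeToPowerSeries.ringHom)
  have hΦunit : IsUnit (Φ f') := by
    rw [PowerSeries.isUnit_iff_constantCoeff]
    have h1 : PowerSeries.constantCoeff (Φ f') = algebraMap C B' (f₀ * f₀) := by
      have e1 : PowerSeries.constantCoeff (Φ f') = algebraMap C B' (f'.coeff 0) := by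
        change PowerSeries.constantCoeff (PowerSeries.map (algebraMap C B') (f' : PowerSeries C)) = _
        rw [← PowerSeries.coeff_zero_eq_constantCoeff_apply, PowerSeries.coeff_map,
          Polynomial.coeff_coe]
      rw [e1, hf', Polynomial.mul_coeff_zero, Polynomial.coeff_C_zero]
    rw [h1, map_mul]
    exact (IsLocalization.Away.algebraMap_isUnit f₀).mul (IsLocalization.Away.algebraMap_isUnit f₀)
  let Ψ : R →+* PowerSeries B' := IsLocalization.Away.lift f' hΦunit
  have hΨ : ∀ p : C[X], Ψ (algebraMap C[X] R p) = Φ p := fun p =>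
    IsLocalization.Away.lift_eq f' hΦunit p
  -- `Ψ r = 0`
  have hΨr : Ψ r = 0 := by
    ext n
    have hn := h n
    rw [Ideal.mem_span_singleton] at hn
    obtain ⟨s, rfl⟩ := hn
    rw [map_mul, hΨ]
    have : Φ (X ^ (n + 1)) = PowerSeries.X ^ (n + 1) := by
      simp [Φ]
    rw [this, PowerSeries.coeff_X_pow_mul']
    simp
  -- write `r` as a fraction
  obtain ⟨m, p, hp⟩ := IsLocalization.Away.surj f' r
  have hΦp : Φ p = 0 := by
    rw [← hΨ, ← hp, map_mul, hΨr, zero_mul]
  -- `p` dies in `B'[X]`
  have hpmap : Polynomial.map (algebraMap C B') p = 0 := by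
    apply Polynomial.coe_injective (R := B')
    rw [Polynomial.coe_zero]
    ext n
    have := congrArg (PowerSeries.coeff n) hΦp
    simpa [Φ] using this
  -- so a power of `f₀` kills `p`
  have hex : ∃ s : ℕ, Polynomial.C (f₀ ^ s) * p = 0 := by
    have hcoef : ∀ i, ∃ s : ℕ, f₀ ^ s * p.coeff i = 0 := by
      intro i
      have hi : algebraMap C B' (p.coeff i) = 0 := by
        have := congrArg (fun q => Polynomial.coeff q i) hpmap
        simpa using this
      rw [IsLocalization.map_eq_zero_iff (Submonoid.powers f₀)] at hi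
      obtain ⟨⟨_, s, rfl⟩, hs⟩ := hi
      exact ⟨s, hs⟩
    choose s hs using hcoef
    refine ⟨p.support.sup s, ?_⟩
    ext i
    rw [Polynomial.coeff_C_mul, Polynomial.coeff_zero]
    by_cases hi : i ∈ p.support
    · have hle : s i ≤ p.support.sup s := Finset.le_sup hi
      obtain ⟨d, hd⟩ := Nat.exists_eq_add_of_le hle
      rw [hd, pow_add, mul_comm (f₀ ^ s i), mul_assoc, hs i, mul_zero]
    · rw [Polynomial.notMem_support_iff.mp hi, mul_zero]
  obtain ⟨s, hs⟩ := hex
  have hunit' : IsUnit (algebraMap C[X] R f') := IsLocalization.Away.algebraMap_isUnit f'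
  have hunitC : IsUnit (algebraMap C[X] R (Polynomial.C f₀)) := by
    rw [hf', map_mul] at hunit'
    exact isUnit_of_mul_isUnit_right hunit'
  have hunitCs : IsUnit (algebraMap C[X] R (Polynomial.C (f₀ ^ s))) := by
    rw [map_pow, map_pow]
    exact hunitC.pow s
  have hp0 : algebraMap C[X] R p = 0 := by
    have := congrArg (algebraMap C[X] R) hs
    rw [map_mul, map_zero] at this
    exact (hunitCs.mul_right_eq_zero).mp this
  rw [hp0] at hp
  exact ((hunit'.pow m).mul_left_eq_zero).mp hp

end Groth.Agent.Lib.Helper29.PolyKrull
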