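import Mathlib.RingTheory.Localization.AtPrime.Basic
import Mathlib.RingTheory.Localization.Basic
import Mathlib.RingTheory.Ideal.Prime
import Mathlib.Algebra.Ring.Pi

/-!
# Localizations of a product ring at a prime ideal

Helper lemmas: indicator idempotents in a product ring, and equality in the localization at a
prime from agreement on a "large" set of indices.
-/

set_option autoImplicit false

namespace Groth.Agent.Lib.Helper29.ProdLocal

variable {ι : Type*} (R : ι → Type*) [∀ i, CommRing (R i)]

open Classical in
/-- indicator idempotent of a set of indices -/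
noncomputable def ind (U : Set ι) : ∀ i, R i := fun i => if i ∈ U then 1 else 0

lemma ind_apply_mem {U : Set ι} {i : ι} (h : i ∈ U) : ind R U i = 1 := by
  simp [ind, h]

lemma ind_apply_notMem {U : Set ι} {i : ι} (h : i ∉ U) : ind R U i = 0 := by
  simp [ind, h]

lemma ind_add_compl (U : Set ι) : ind R U + ind R Uᶜ = 1 := by
  funext i
  by_cases h : i ∈ U
  · simp [ind, h]
  · simp [ind, h]

lemma ind_inter (U V : Set ι) : ind R (U ∩ V) = ind R U * ind R V := by
  funext i
  by_cases hU : i ∈ U <;> by_cases hV : i ∈ V <;> simp [ind, hU, hV]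

variable (P : Ideal (∀ i, R i)) [P.IsPrime]

lemma ind_or (U : Set ι) : ind R U ∉ P ∨ ind R Uᶜ ∉ P := by
  by_contra hc
  push Not at hc
  have : (1 : ∀ i, R i) ∈ P := by
    rw [← ind_add_compl R U]
    exact P.add_mem hc.1 hc.2
  exact (Ideal.IsPrime.ne_top ‹_›) ((Ideal.eq_top_iff_one _).mpr this)

lemma ind_inter_notMem {U V : Set ι} (hU : ind R U ∉ P) (hV : ind R V ∉ P) :
    ind R (U ∩ V) ∉ P := by
  rw [ind_inter]
  intro h
  rcases (Ideal.IsPrime.mem_or_mem ‹_› h) with h | h
  · exact hU h
  · exact hV h

omit [P.IsPrime] in
/-- if `x ∉ P` then the indicator of the support of `x` is not in `P`. -/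
lemma ind_support_notMem {x : ∀ i, R i} (hx : x ∉ P) : ind R {i | x i ≠ 0} ∉ P := by
  intro h
  apply hx
  have : x = x * ind R {i | x i ≠ 0} := by
    funext i
    by_cases hi : x i = 0
    · simp [hi]
    · have : i ∈ {i | x i ≠ 0} := hi
      simp [ind_apply_mem R this]
  rw [this]
  exact P.mul_mem_left _ h

/-- equality in the localization from agreement on a large set -/
lemma algebraMap_eq_of_eqOn (U : Set ι) (hU : ind R U ∉ P) (x y : ∀ i, R i)
    (h : ∀ i ∈ U, x i = y i) :
    algebraMap (∀ i, R i) (Localization.AtPrime P) x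
      = algebraMap (∀ i, R i) (Localization.AtPrime P) y := by
  rw [IsLocalization.eq_iff_exists P.primeCompl]
  refine ⟨⟨ind R U, hU⟩, ?_⟩
  funext i
  by_cases hi : i ∈ U
  · simp [h i hi]
  · simp [ind_apply_notMem R hi]

/-- if the image of `y` in the localization is nonzero, the support of `y` is large -/
lemma ind_support_notMem_of_algebraMap_ne_zero {y : ∀ i, R i}
    (hy : algebraMap (∀ i, R i) (Localization.AtPrime P) y ≠ 0) : ind R {i | y i ≠ 0} ∉ P := by
  intro h
  apply hy
  rcases ind_or R P {i | y i ≠ 0} with h' | h'
  · exact absurd h h'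
  · rw [← map_zero (algebraMap (∀ i, R i) (Localization.AtPrime P))]
    apply algebraMap_eq_of_eqOn R P _ h'
    intro i hi
    simpa using hi

/-- The localization of a product of domains at a prime is a domain. -/
lemma isDomain_localization [∀ i, IsDomain (R i)] : IsDomain (Localization.AtPrime P) := by
  have hnzd : NoZeroDivisors (Localization.AtPrime P) := by
    constructor
    intro a b hab
    obtain ⟨⟨x, s⟩, hx⟩ := IsLocalization.surj P.primeCompl a
    obtain ⟨⟨y, t⟩, hy⟩ := IsLocalization.surj P.primeCompl b
    have hs := IsLocalization.map_units (Localization.AtPrime P) s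
    have ht := IsLocalization.map_units (Localization.AtPrime P) t
    simp only at hx hy
    have hxy : algebraMap (∀ i, R i) (Localization.AtPrime P) (x * y) = 0 := by
      rw [map_mul, ← hx, ← hy]
      calc a * algebraMap _ _ (s : ∀ i, R i) * (b * algebraMap _ _ (t : ∀ i, R i))
          = (a * b) * (algebraMap _ _ (s : ∀ i, R i) * algebraMap _ _ (t : ∀ i, R i)) := by ring
        _ = 0 := by rw [hab, zero_mul]
    obtain ⟨c, hc⟩ := (IsLocalization.map_eq_zero_iff P.primeCompl (Localization.AtPrime P) _).mp hxy
    rcases ind_or R P {i | x i = 0} with hU | hU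
    · left
      have h0 : algebraMap (∀ i, R i) (Localization.AtPrime P) x = 0 := by
        rw [← map_zero (algebraMap (∀ i, R i) (Localization.AtPrime P))]
        exact algebraMap_eq_of_eqOn R P _ hU x 0 (fun i hi => hi)
      rw [h0] at hx
      exact (hs.mul_left_eq_zero).mp hx
    · right
      have h0 : algebraMap (∀ i, R i) (Localization.AtPrime P) ((c : ∀ i, R i) * y) = 0 := by
        rw [← map_zero (algebraMap (∀ i, R i) (Localization.AtPrime P))]
        apply algebraMap_eq_of_eqOn R P _ hU
        intro i hi
        have hci := congrFun hc i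
        simp only [Pi.mul_apply, Pi.zero_apply] at hci ⊢
        have hxi : x i ≠ 0 := hi
        rcases mul_eq_zero.mp hci with h1 | h1
        · rw [h1, zero_mul]
        · rcases mul_eq_zero.mp h1 with h2 | h2
          · exact absurd h2 hxi
          · rw [h2, mul_zero]
      rw [map_mul] at h0
      have hcu := IsLocalization.map_units (Localization.AtPrime P) c
      have h1 : algebraMap (∀ i, R i) (Localization.AtPrime P) y = 0 :=
        (hcu.mul_right_eq_zero).mp h0
      rw [h1] at hy
      exact (ht.mul_left_eq_zero).mp hy
  exact NoZeroDivisors.to_isDomain _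

end Groth.Agent.Lib.Helper29.ProdLocal
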