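import Groth.Agent.Lib.Helper29.TwistPn3
universe u
open CategoryTheory CategoryTheory.Limits AlgebraicGeometry Opposite TopologicalSpace DirectSum

/-! # Triviality of `O(nd)` on `D_+(ab)`; periods for quasi-compact opens of `Proj` -/

namespace Groth.Agent.Lib.Helper29.QCoh

section TwistAB
variable {R A : Type u} [CommRing R] [CommRing A] [Algebra R A] (𝒜 : ℕ → Submodule R A) [GradedAlgebra 𝒜]

/-- `O(n d)` is trivial on `D_+(a b)` when `deg a = deg b + d` (generated by `(a/b)^n`). -/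
theorem exists_isTriv_twist_mul_ab {d : ℕ} {i j : ℕ} (a : 𝒜 i) (b : 𝒜 j) (hij : i = j + d) (n : ℤ)
    (U : (Proj 𝒜).Opens) (hU : U ≤ Proj.basicOpen 𝒜 (a.1 * b.1)) :
    ∃ e : Γ(Twist.twist 𝒜 (n * d), U), IsTriv (Twist.twist 𝒜 (n * d)) U e := by
  have hUab : ∀ x : U, a.1 ∉ x.1.asHomogeneousIdeal ∧ b.1 ∉ x.1.asHomogeneousIdeal := by
    intro x
    have := hU x.2
    rw [Proj.basicOpen_mul] at this
    exact this
  set p := n.toNat
  set q := (-n).toNat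
  have hpq : (p : ℤ) - q = n := Int.toNat_sub_toNat_neg n
  have hnum : a.1 ^ p * b.1 ^ q ∈ 𝒜 (p • i + q • j) :=
    SetLike.mul_mem_graded (SetLike.pow_mem_graded p a.2) (SetLike.pow_mem_graded q b.2)
  have hden : a.1 ^ q * b.1 ^ p ∈ 𝒜 (q • i + p • j) :=
    SetLike.mul_mem_graded (SetLike.pow_mem_graded q a.2) (SetLike.pow_mem_graded p b.2)
  have hnm : ∀ (p q : ℕ) (x : U), a.1 ^ p * b.1 ^ q ∉ x.1.asHomogeneousIdeal := fun p q x h =>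
    (x.1.isPrime.mem_or_mem h).elim (pow_not_mem_of_not_mem (hUab x).1 p)
      (pow_not_mem_of_not_mem (hUab x).2 q)
  exact ⟨_, isTriv_mkSec 𝒜 (n * d) U ⟨_, hnum⟩ ⟨_, hden⟩ (hnm p q) (hnm q p) (by
    subst hij
    rw [← hpq]
    push_cast [smul_eq_mul]
    ring)⟩

theorem nonempty_twist_restrict_basicOpen_mul_iso {d : ℕ} {i j : ℕ} (a : 𝒜 i) (b : 𝒜 j)
    (hij : i = j + d) (n : ℤ) :
    Nonempty ((Twist.twist 𝒜 (n * d)).restrict (Proj.basicOpen 𝒜 (a.1 * b.1)).ι ≅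
      Coh.structureModule ↑(Proj.basicOpen 𝒜 (a.1 * b.1))) := by
  obtain ⟨e, he⟩ := exists_isTriv_twist_mul_ab 𝒜 a b hij n _ le_rfl
  obtain ⟨σ, -⟩ := he.exists_iso_restrict
  exact ⟨σ.symm⟩

/-- A quasi-compact open of `Proj` is covered by `D_+(g)` with `g` of one common positive degree. -/
theorem exists_period_of_isCompact (Y : (Proj 𝒜).Opens) (hY : IsCompact (Y : Set (Proj 𝒜))) :
    ∃ d : ℕ, 0 < d ∧ ∀ y ∈ Y, ∃ g : 𝒜 d, y ∈ Proj.basicOpen 𝒜 g.1 := by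
  classical
  choose m hm f hf using exists_pos_mem_basicOpen 𝒜
  obtain ⟨t, ht⟩ := hY.elim_finite_subcover
    (fun y : Proj 𝒜 => (Proj.basicOpen 𝒜 (f y).1 : Set (Proj 𝒜)))
    (fun y => (Proj.basicOpen 𝒜 (f y).1).isOpen) (fun y _ => Set.mem_iUnion.mpr ⟨y, hf y⟩)
  refine ⟨∏ y ∈ t, m y, Finset.prod_pos fun y _ => hm y, fun y hy => ?_⟩
  have := ht hy
  simp only [Set.mem_iUnion] at this
  obtain ⟨z, hzt, hyz⟩ := this
  obtain ⟨k, hk⟩ := Finset.dvd_prod_of_mem m hzt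
  have hkpos : 0 < k := by
    rcases Nat.eq_zero_or_pos k with h0 | h0
    · exfalso
      have hp : 0 < ∏ y ∈ t, m y := Finset.prod_pos fun y _ => hm y
      rw [hk, h0, mul_zero] at hp
      exact lt_irrefl _ hp
    · exact h0
  have hmem : (f z).1 ^ k ∈ 𝒜 (∏ y ∈ t, m y) := by
    have := SetLike.pow_mem_graded k (f z).2
    rwa [smul_eq_mul, mul_comm, ← hk] at this
  refine ⟨⟨_, hmem⟩, ?_⟩
  change y ∈ Proj.basicOpen 𝒜 ((f z).1 ^ k)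
  rw [Proj.basicOpen_pow 𝒜 _ k hkpos]
  exact hyz

theorem exists_period_invertible_of_isCompact (Y : (Proj 𝒜).Opens)
    (hY : IsCompact (Y : Set (Proj 𝒜))) :
    ∃ d : ℕ, 0 < d ∧
      (∀ y : Proj 𝒜, y ∈ Y → ∃ (i j : ℕ) (a b : A), a ∈ 𝒜 i ∧ b ∈ 𝒜 j ∧ i = j + d ∧
        y ∈ Proj.basicOpen 𝒜 (a * b)) ∧
      ∀ n : ℤ, PicF.IsInvertible ((Twist.twist 𝒜 (n * d)).restrict Y.ι) := by
  obtain ⟨d, hd, hcov⟩ := exists_period_of_isCompact 𝒜 Y hY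
  refine ⟨d, hd, fun y hy => ?_, fun n => ?_⟩
  · obtain ⟨g, hg⟩ := hcov y hy
    refine ⟨d + d, d, g.1 * g.1, g.1, SetLike.mul_mem_graded g.2 g.2, g.2, rfl, ?_⟩
    rw [Proj.basicOpen_mul, Proj.basicOpen_mul]
    exact ⟨⟨hg, hg⟩, hg⟩
  · apply isInvertible_restrict_of_isTriv
    intro x hx
    obtain ⟨g, hg⟩ := hcov x hx
    refine ⟨Y ⊓ Proj.basicOpen 𝒜 g.1, _, ⟨hx, hg⟩, inf_le_left,
      isTriv_eSec (n * d) g n.toNat (-n).toNat (by rw [Int.toNat_sub_toNat_neg]) _ inf_le_right⟩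

end TwistAB

end Groth.Agent.Lib.Helper29.QCoh
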