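import Groth.Agent.Lib.Helper29.TwistPeriod
import Groth.Agent.Lib.Helper29.Twist7
import Groth.Agent.Lib.Helper29.RelAmple
set_option autoImplicit false
universe u
open CategoryTheory CategoryTheory.Limits AlgebraicGeometry Opposite TopologicalSpace DirectSum

namespace Groth.Agent.Lib.Helper29.QCoh

section R
variable {X X' : Scheme.{u}}

theorem restrictHom_app_bijective_iff (j : X' ⟶ X) [IsOpenImmersion j] {M : X.Modules}
    (σ : unitM X ⟶ M) (W : X'.Opens) :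
    Function.Bijective ((restrictHom j σ).app W) ↔ Function.Bijective (σ.app (j ''ᵁ W)) := by
  have hg : Function.Bijective ((restrictUnitIso' j).inv.app W) :=
    app_bijective_of_isIso (restrictUnitIso' j).inv W
  have : ((restrictHom j σ).app W : _ → _) =
      (σ.app (j ''ᵁ W) : _ → _) ∘ ((restrictUnitIso' j).inv.app W : _ → _) := by
    funext m
    rfl
  rw [this]
  exact Function.Bijective.of_comp_iff _ hg

theorem genLocus_restrictHom' (j : X' ⟶ X) [IsOpenImmersion j] {M : X.Modules}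
    (σ : unitM X ⟶ M) :
    CohB1.genLocus _ (restrictHom j σ) = j ⁻¹ᵁ CohB1.genLocus M σ := by
  ext x
  change x ∈ CohB1.genLocus _ (restrictHom j σ) ↔ j x ∈ CohB1.genLocus M σ
  rw [mem_genLocus_iff, mem_genLocus_iff]
  constructor
  · rintro ⟨W', hx, hW'⟩
    refine ⟨j ''ᵁ W', ⟨x, hx, rfl⟩, fun W hW => ?_⟩
    have hWr : W ≤ j.opensRange := hW.trans (j.image_le_opensRange W')
    have e : j ''ᵁ (j ⁻¹ᵁ W) = W := by
      rw [Scheme.Hom.image_preimage_eq_opensRange_inf]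
      exact inf_eq_right.mpr hWr
    have hle : j ⁻¹ᵁ W ≤ W' := by
      intro y hy
      obtain ⟨z, hz, hzy⟩ := hW hy
      have : z = y := j.isOpenEmbedding.injective hzy
      exact this ▸ hz
    have := (restrictHom_app_bijective_iff j σ (j ⁻¹ᵁ W)).mp (hW' _ hle)
    exact (app_bijective_congr σ e).mp this
  · rintro ⟨U, hx, hU⟩
    refine ⟨j ⁻¹ᵁ U, hx, fun W hW => ?_⟩
    rw [restrictHom_app_bijective_iff]
    apply hU
    rintro _ ⟨y, hy, rfl⟩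
    exact hW hy

end R

section P
variable {R A : Type u} [CommRing R] [CommRing A] [Algebra R A] (𝒜 : ℕ → Submodule R A)
  [GradedAlgebra 𝒜]

theorem exists_pos_basicOpen_le (Y : (Proj 𝒜).Opens) (y : Proj 𝒜) (hy : y ∈ Y) :
    ∃ (m : ℕ) (_ : 0 < m) (f : 𝒜 m), y ∈ Proj.basicOpen 𝒜 f.1 ∧ Proj.basicOpen 𝒜 f.1 ≤ Y := by
  classical
  obtain ⟨_, ⟨r, rfl⟩, hyr, hrY⟩ :=
    (ProjectiveSpectrum.isTopologicalBasis_basic_opens 𝒜).exists_subset_of_mem_open hy Y.isOpen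
  have hr : r ∉ y.asHomogeneousIdeal := hyr
  obtain ⟨i, hi⟩ : ∃ i, (decompose 𝒜 r i : A) ∉ y.asHomogeneousIdeal := by
    by_contra hcon
    push Not at hcon
    apply hr
    rw [← DirectSum.sum_support_decompose 𝒜 r]
    exact Ideal.sum_mem _ fun i _ => hcon i
  obtain ⟨m', hm', f', hf'⟩ := exists_pos_mem_basicOpen 𝒜 y
  refine ⟨i + m', by omega, ⟨(decompose 𝒜 r i : A) * f'.1,
    SetLike.mul_mem_graded (decompose 𝒜 r i).2 f'.2⟩, ?_, ?_⟩
  · change y ∈ Proj.basicOpen 𝒜 ((decompose 𝒜 r i : A) * f'.1)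
    rw [Proj.basicOpen_mul]
    exact ⟨hi, hf'⟩
  · change Proj.basicOpen 𝒜 ((decompose 𝒜 r i : A) * f'.1) ≤ Y
    rw [Proj.basicOpen_mul]
    intro p hp
    apply hrY
    change r ∉ p.asHomogeneousIdeal
    intro hrp
    exact hp.1 (p.asHomogeneousIdeal.isHomogeneous i hrp)

theorem exists_period_of_isCompact' (Y : (Proj 𝒜).Opens) (hY : IsCompact (Y : Set (Proj 𝒜))) :
    ∃ d : ℕ, 0 < d ∧ ∀ y ∈ Y, ∃ g : 𝒜 d, y ∈ Proj.basicOpen 𝒜 g.1 ∧
      Proj.basicOpen 𝒜 g.1 ≤ Y := by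
  classical
  have hch : ∀ y : Proj 𝒜, ∃ (m : ℕ) (_ : 0 < m) (f : 𝒜 m), (y ∈ Y → y ∈ Proj.basicOpen 𝒜 f.1) ∧
      Proj.basicOpen 𝒜 f.1 ≤ Y := by
    intro y
    by_cases hy : y ∈ Y
    · obtain ⟨m, hm, f, h1, h2⟩ := exists_pos_basicOpen_le 𝒜 Y y hy
      exact ⟨m, hm, f, fun _ => h1, h2⟩
    · refine ⟨1, one_pos, 0, fun h => absurd h hy, ?_⟩
      intro p hp
      exact absurd (Submodule.zero_mem _) hp
  choose m hm f hf hfY using hch
  obtain ⟨t, ht⟩ := hY.elim_finite_subcover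
    (fun y : Y => (Proj.basicOpen 𝒜 (f y.1).1 : Set (Proj 𝒜)))
    (fun y => (Proj.basicOpen 𝒜 (f y.1).1).isOpen)
    (fun y hy => Set.mem_iUnion.mpr ⟨⟨y, hy⟩, hf y hy⟩)
  refine ⟨∏ y ∈ t, m y.1, Finset.prod_pos fun y _ => hm y.1, fun y hy => ?_⟩
  have := ht hy
  simp only [Set.mem_iUnion] at this
  obtain ⟨z, hzt, hyz⟩ := this
  obtain ⟨k, hk⟩ := Finset.dvd_prod_of_mem (fun y : Y => m y.1) hzt
  have hkpos : 0 < k := by
    rcases Nat.eq_zero_or_pos k with h0 | h0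
    · exfalso
      have hp : 0 < ∏ y ∈ t, m y.1 := Finset.prod_pos fun y _ => hm y.1
      rw [hk, h0, mul_zero] at hp
      exact lt_irrefl _ hp
    · exact h0
  have hmem : (f z.1).1 ^ k ∈ 𝒜 (∏ y ∈ t, m y.1) := by
    have := SetLike.pow_mem_graded k (f z.1).2
    rwa [smul_eq_mul, mul_comm, ← hk] at this
  refine ⟨⟨_, hmem⟩, ?_, ?_⟩
  · change y ∈ Proj.basicOpen 𝒜 ((f z.1).1 ^ k)
    rw [Proj.basicOpen_pow 𝒜 _ k hkpos]
    exact hyz
  · change Proj.basicOpen 𝒜 ((f z.1).1 ^ k) ≤ Y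
    rw [Proj.basicOpen_pow 𝒜 _ k hkpos]
    exact hfY z.1

end P

end Groth.Agent.Lib.Helper29.QCoh
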