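import Groth.Agent.Lib.Helper29.ProjAmple
set_option autoImplicit false
universe u
open CategoryTheory CategoryTheory.Limits AlgebraicGeometry Opposite TopologicalSpace DirectSum

namespace Groth.Agent.Lib.Helper29.QCoh

section P
variable {R A : Type u} [CommRing R] [CommRing A] [Algebra R A] {𝒜 : ℕ → Submodule R A}
  [GradedAlgebra 𝒜]

theorem mem_genLocus_gSec_iff {d : ℕ} (n : ℕ) (hn : 0 < n) (f : 𝒜 d) (m : ℤ)
    (hm : m = (n : ℤ) * (d : ℕ)) (x : Proj 𝒜) (g : 𝒜 d) (hg : x ∈ Proj.basicOpen 𝒜 g.1) :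
    x ∈ CohB1.genLocus (Twist.twist 𝒜 m) (homOfSection _ (gSec n f m hm)) ↔
      x ∈ Proj.basicOpen 𝒜 f.1 := by
  have hm' : m = ((n : ℤ) - (0 : ℕ)) * (d : ℕ) := by rw [hm]; push_cast; ring
  constructor
  · intro hx
    by_contra hxf
    have hfx : f.1 ∈ x.asHomogeneousIdeal := by
      by_contra h; exact hxf h
    have hT1 := isTriv_sval_of_le_genLocus (homOfSection _ (gSec n f m hm))
      (inf_le_left : CohB1.genLocus (Twist.twist 𝒜 m) (homOfSection _ (gSec n f m hm)) ⊓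
        Proj.basicOpen 𝒜 g.1 ≤ _)
    obtain ⟨b, hb⟩ := hT1.exists_eq_smul (eSec m g n 0 hm' _ inf_le_right)
    rw [sval_homOfSection] at hb
    have hxU : x ∈ CohB1.genLocus (Twist.twist 𝒜 m) (homOfSection _ (gSec n f m hm)) ⊓
        Proj.basicOpen 𝒜 g.1 := ⟨hx, hg⟩
    have h1 := congrArg (fun σ => tfun 𝒜 σ ⟨x, hxU⟩) hb
    simp only [tfun_smul, tfun_eSec, tfun_res] at h1
    have h2 : tfun 𝒜 (gSec n f m hm) ⟨x, trivial⟩ =
        Localization.mk (f.1 ^ n) ⟨1, one_not_mem x⟩ := rfl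
    have hu : IsUnit (Localization.mk (g.1 ^ n) ⟨g.1 ^ 0, pow_not_mem_of_not_mem hg 0⟩ :
        Twist.Loc 𝒜 x) :=
      (isUnit_mk_iff x _ _ _).mpr (pow_not_mem_of_not_mem hg n)
    rw [h1] at hu
    have hu2 := isUnit_of_mul_isUnit_right hu
    erw [h2, isUnit_mk_iff] at hu2
    exact hu2 (Ideal.pow_mem_of_mem _ hfx n hn)
  · intro hx
    have : Proj.basicOpen 𝒜 f.1 ≤
        CohB1.genLocus (Twist.twist 𝒜 m) (homOfSection _ (gSec n f m hm)) := by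
      apply le_genLocus_of_isTriv_sval
      rw [sval_homOfSection, res_gSec n f m hm _ le_rfl]
      exact isTriv_eSec m f n 0 _ _ le_rfl
    exact this hx

theorem exists_isAmple_twist_restrict (Y : (Proj 𝒜).Opens)
    (hY : IsCompact (Y : Set (Proj 𝒜))) :
    ∃ d : ℕ, 0 < d ∧ CohB1.IsAmple ((Twist.twist 𝒜 (d : ℤ)).restrict Y.ι) := by
  obtain ⟨d, hd, hcov⟩ := exists_period_of_isCompact' 𝒜 Y hY
  have h1 : (d : ℤ) = ((1 : ℕ) : ℤ) * (d : ℕ) := by simp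
  have h1' : (d : ℤ) = (((1 : ℕ) : ℤ) - (0 : ℕ)) * (d : ℕ) := by simp
  refine ⟨d, hd, ?_, isCompact_iff_compactSpace.mp hY, fun x => ?_⟩
  · apply isInvertible_restrict_of_isTriv
    intro x hx
    obtain ⟨g, hg, hgY⟩ := hcov x hx
    exact ⟨Proj.basicOpen 𝒜 g.1, eSec (d : ℤ) g 1 0 h1' _ le_rfl, hg, hgY,
      isTriv_eSec (d : ℤ) g 1 0 h1' _ le_rfl⟩
  · obtain ⟨g, hg, hgY⟩ := hcov x.1 x.2
    set σ := homOfSection (Twist.twist 𝒜 (d : ℤ)) (gSec 1 g (d : ℤ) h1) with hσ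
    have hgl : CohB1.genLocus _ (restrictHom Y.ι σ) = Y.ι ⁻¹ᵁ Proj.basicOpen 𝒜 g.1 := by
      rw [genLocus_restrictHom']
      ext z
      change z.1 ∈ CohB1.genLocus _ σ ↔ z.1 ∈ Proj.basicOpen 𝒜 g.1
      obtain ⟨g', hg', -⟩ := hcov z.1 z.2
      exact mem_genLocus_gSec_iff 1 one_pos g (d : ℤ) h1 z.1 g' hg'
    have hg2 := genLocus_comp_iso (restrictHom Y.ι σ)
      (tensorPowOne ((Twist.twist 𝒜 (d : ℤ)).restrict Y.ι)).symm
    refine ⟨0, restrictHom Y.ι σ ≫ (tensorPowOne _).inv, ?_, ?_⟩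
    · erw [hg2, hgl]; exact hg
    · erw [hg2, hgl]
      apply (Proj.isAffineOpen_basicOpen 𝒜 g.1 g.2 hd).preimage_of_isOpenImmersion
      rw [Scheme.Opens.opensRange_ι]
      exact hgY

theorem exists_isAmple_pullback_twist {X : Scheme.{u}} [CompactSpace X] (j : X ⟶ Proj 𝒜)
    [IsOpenImmersion j] :
    ∃ d : ℕ, 0 < d ∧ CohB1.IsAmple ((Scheme.Modules.pullback j).obj (Twist.twist 𝒜 (d : ℤ))) := by
  have hY : IsCompact (j.opensRange : Set (Proj 𝒜)) := by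
    have : (j.opensRange : Set (Proj 𝒜)) = Set.range j := rfl
    rw [this]
    exact isCompact_range j.continuous
  obtain ⟨d, hd, hA⟩ := exists_isAmple_twist_restrict j.opensRange hY
  refine ⟨d, hd, ?_⟩
  rw [← isAmple_restrict_iff, isAmple_restrict_iff_opensRange]
  exact hA

end P

end Groth.Agent.Lib.Helper29.QCoh
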