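import Groth.Agent.Lib.Helper29.ProjF2
import Groth.Agent.Lib.Helper29.QCohIdealMod
universe u
open CategoryTheory CategoryTheory.Limits AlgebraicGeometry TopologicalSpace Opposite
open scoped TensorProduct

/-! # The projection formula `F ⊗ f_* O_X ≅ f_* f^* F` for affine `f` and `F` of finite type -/

namespace Groth.Agent.Lib.Helper29.QCoh.ProjF
open Groth.Agent.Lib.Helper29.QCoh Groth.Agent.Lib.Helper3

/-- Orzech-type criterion: a `B`-linear map `B ⊗[A] M → P` whose image spans is bijective when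
`P` is abstractly isomorphic to `B ⊗[A] M` and `M` is finite. -/
theorem bijective_lift_of_span_eq_top {A B M P : Type*} [CommRing A] [CommRing B] [Algebra A B]
    [AddCommGroup M] [Module A M] [Module.Finite A M]
    [AddCommGroup P] [Module A P] [Module B P] [IsScalarTower A B P]
    (e : P ≃ₗ[B] B ⊗[A] M) (ψ : M →ₗ[A] P)
    (hψ : Submodule.span B (Set.range ψ) = ⊤) :
    ∃ q : B ⊗[A] M →ₗ[B] P, (∀ (b : B) (m : M), q (b ⊗ₜ m) = b • ψ m) ∧ Function.Bijective q := by
  let q : B ⊗[A] M →ₗ[B] P :=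
    TensorProduct.AlgebraTensorModule.lift (LinearMap.toSpanSingleton B (M →ₗ[A] P) ψ)
  have hq : ∀ (b : B) (m : M), q (b ⊗ₜ m) = b • ψ m := fun b m => by
    simp [q]
  have hsurj : Function.Surjective q := by
    rw [← LinearMap.range_eq_top, eq_top_iff, ← hψ, Submodule.span_le]
    rintro _ ⟨m, rfl⟩
    exact ⟨1 ⊗ₜ m, by rw [hq, one_smul]⟩
  have hcomp : Function.Surjective (e.toLinearMap ∘ₗ q) := e.surjective.comp hsurj
  have hinj : Function.Injective (e.toLinearMap ∘ₗ q) :=
    OrzechProperty.injective_of_surjective_endomorphism _ hcomp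
  refine ⟨q, hq, ⟨?_, hsurj⟩⟩
  intro a b hab
  exact hinj (by simp [hab])

variable {X Y : Scheme.{u}} (f : X ⟶ Y) (F : Y.Modules)

/-- `f_* O_X` as an `O_Y`-module. -/
noncomputable abbrev pushUnit : Y.Modules := (Scheme.Modules.pushforward f).obj (unitM X)

/-- The pairing `(s, β) ↦ β • f^*s` defining the projection formula map. -/
noncomputable def projPairing : Pairing F (pushUnit f)
    ((Scheme.Modules.pushforward f).obj ((Scheme.Modules.pullback f).obj F)) where
  b V s β := (show Γ((Scheme.Modules.pushforward f).obj ((Scheme.Modules.pullback f).obj F), V) from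
    (fromUnit (show Γ(unitM X, f ⁻¹ᵁ V) from β)) • pullSect f F V s)
  add_left V s s' β := by
    change fromUnit (show Γ(unitM X, f ⁻¹ᵁ V) from β) • pullSect f F V (s + s') = _
    rw [map_add, smul_add]
    rfl
  add_right V s β β' := by
    change (fromUnit (show Γ(unitM X, f ⁻¹ᵁ V) from β) + fromUnit (show Γ(unitM X, f ⁻¹ᵁ V) from β')) •
      pullSect f F V s = _
    rw [add_smul]
    rfl
  smul_left V r s β := by
    change fromUnit (show Γ(unitM X, f ⁻¹ᵁ V) from β) • pullSect f F V (r • s) =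
      f.app V r • (fromUnit (show Γ(unitM X, f ⁻¹ᵁ V) from β) • pullSect f F V s)
    rw [pullSect_smul, smul_comm]
  smul_right V r s β := by
    change (f.app V r * fromUnit (show Γ(unitM X, f ⁻¹ᵁ V) from β)) • pullSect f F V s =
      f.app V r • (fromUnit (show Γ(unitM X, f ⁻¹ᵁ V) from β) • pullSect f F V s)
    rw [mul_smul]
  res {V V'} h s β := by
    change res ((Scheme.Modules.pullback f).obj F) (f.preimage_mono h)
      (fromUnit (show Γ(unitM X, f ⁻¹ᵁ V) from β) • pullSect f F V s) =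
      (X.presheaf.map (homOfLE (f.preimage_mono h)).op (fromUnit (show Γ(unitM X, f ⁻¹ᵁ V) from β))) •
        pullSect f F V' (res F h s)
    rw [res_smul, pullSect_res]

/-- The projection formula map `F ⊗ f_* O_X ⟶ f_* f^* F`. -/
noncomputable def projHom : CohB1.tensorMod F (pushUnit f) ⟶
    (Scheme.Modules.pushforward f).obj ((Scheme.Modules.pullback f).obj F) :=
  tensorDesc (projPairing f F)

theorem projHom_tmulSec (V : Y.Opens) (s : Γ(F, V)) (β : Γ(pushUnit f, V)) :
    (projHom f F).app V (tmulSec F (pushUnit f) s β) =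
      (show Γ((Scheme.Modules.pushforward f).obj ((Scheme.Modules.pullback f).obj F), V) from
        (fromUnit (show Γ(unitM X, f ⁻¹ᵁ V) from β)) • pullSect f F V s) :=
  tensorDesc_tmulSec (projPairing f F) V s β

/-- The projection formula map is bijective on sections over affine opens, for `f` affine and
`F` quasi-coherent of finite type. -/
theorem projHom_app_bijective [IsAffineHom f] [F.IsQuasicoherent] [F.IsFiniteType]
    {V : Y.Opens} (hV : IsAffineOpen V) : Function.Bijective ((projHom f F).app V) := by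
  have hU : IsAffineOpen (f ⁻¹ᵁ V) := hV.preimage f
  have hBq : (pushUnit f).IsQuasicoherent := isQuasicoherent_pushforward_of_isAffineHom f _
  let φ : Γ(Y, V) →+* Γ(X, f ⁻¹ᵁ V) := (f.appLE V (f ⁻¹ᵁ V) le_rfl).hom
  have hφ : ∀ a, φ a = f.app V a := fun a => by
    change (f.appLE V (f ⁻¹ᵁ V) le_rfl) a = _
    rw [← Scheme.Hom.app_eq_appLE]
  let _ : Algebra Γ(Y, V) Γ(X, f ⁻¹ᵁ V) := φ.toAlgebra
  let P := Γ((Scheme.Modules.pullback f).obj F, f ⁻¹ᵁ V)
  let _ : Module Γ(Y, V) P := Module.compHom P φ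
  have htower : IsScalarTower Γ(Y, V) Γ(X, f ⁻¹ᵁ V) P :=
    IsScalarTower.of_algebraMap_smul fun a n => rfl
  have hfin : Module.Finite Γ(Y, V) Γ(F, V) := module_finite_of_isFiniteType F hV
  let e : P ≃ₗ[Γ(X, f ⁻¹ᵁ V)] Γ(X, f ⁻¹ᵁ V) ⊗[Γ(Y, V)] Γ(F, V) :=
    pullbackSectionsEquiv f F hU hV le_rfl
  let ψ : Γ(F, V) →ₗ[Γ(Y, V)] P :=
    { toFun := fun s => pullSect f F V s
      map_add' := fun a b => map_add _ a b
      map_smul' := fun a s => by
        change pullSect f F V (a • s) = φ a • pullSect f F V s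
        rw [pullSect_smul, hφ] }
  have hψ : Submodule.span Γ(X, f ⁻¹ᵁ V) (Set.range ψ) = ⊤ := by
    have h := span_pullSect_eq_top f F hV hU le_rfl
    rw [← h]
    congr 1
    ext t
    constructor
    · rintro ⟨s, rfl⟩
      exact ⟨s, res_self _ _⟩
    · rintro ⟨s, rfl⟩
      exact ⟨s, (res_self _ _).symm⟩
  obtain ⟨q, hq, hqb⟩ := bijective_lift_of_span_eq_top e ψ hψ
  -- identify `Γ(f_*O_X, V)` with `Γ(X, f⁻¹V)` as modules over `Γ(Y, V)`
  let ι : Γ(pushUnit f, V) ≃ₗ[Γ(Y, V)] Γ(X, f ⁻¹ᵁ V) :=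
    { toFun := fun β => fromUnit (show Γ(unitM X, f ⁻¹ᵁ V) from β)
      invFun := fun b => (show Γ(pushUnit f, V) from toUnit b)
      left_inv := fun β => rfl
      right_inv := fun b => rfl
      map_add' := fun a b => rfl
      map_smul' := fun a β => by
        change f.app V a * fromUnit (show Γ(unitM X, f ⁻¹ᵁ V) from β) =
          φ a * fromUnit (show Γ(unitM X, f ⁻¹ᵁ V) from β)
        rw [hφ] }
  let c : Γ(F, V) ⊗[Γ(Y, V)] Γ(pushUnit f, V) ≃ₗ[Γ(Y, V)] Γ(X, f ⁻¹ᵁ V) ⊗[Γ(Y, V)] Γ(F, V) :=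
    (TensorProduct.comm Γ(Y, V) Γ(F, V) Γ(pushUnit f, V)).trans
      (TensorProduct.congr ι (LinearEquiv.refl Γ(Y, V) Γ(F, V)))
  let T := tensorSectionsEquiv F (pushUnit f) hV
  have hg : ∀ w : Γ(F, V) ⊗[Γ(Y, V)] Γ(pushUnit f, V),
      (projHom f F).app V (T w) = q (c w) := by
    intro w
    induction w using TensorProduct.induction_on with
    | zero =>
      rw [map_zero, map_zero, map_zero, map_zero]
      rfl
    | tmul s β =>
      rw [tensorSectionsEquiv_tmul, projHom_tmulSec]
      change _ = q (ι β ⊗ₜ s)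
      rw [hq]
      rfl
    | add a b ha hb =>
      rw [map_add, map_add, map_add, map_add, ha, hb]
      rfl
  have hbij : Function.Bijective (fun w => (projHom f F).app V (T w)) := by
    have : (fun w => (projHom f F).app V (T w)) = (q ∘ c) := funext hg
    rw [this]
    exact hqb.comp c.bijective
  have : ((projHom f F).app V : Γ(CohB1.tensorMod F (pushUnit f), V) → _) =
      (fun w => (projHom f F).app V (T w)) ∘ T.symm := by
    funext w
    change _ = (projHom f F).app V (T (T.symm w))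
    rw [LinearEquiv.apply_symm_apply]
  rw [this]
  exact hbij.comp T.symm.bijective

/-- **Projection formula**: `F ⊗ f_* O_X ≅ f_* f^* F` for `f` affine and `F` quasi-coherent of
finite type. -/
theorem isIso_projHom [IsAffineHom f] [F.IsQuasicoherent] [F.IsFiniteType] :
    IsIso (projHom f F) :=
  isIso_of_app_bijective_affine _ fun _ hV => projHom_app_bijective f F hV

end Groth.Agent.Lib.Helper29.QCoh.ProjF
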