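import Groth.Agent.Lib.Helper29.GSIso1
import Groth.Agent.Lib.Helper29.GrQuot
universe u
open CategoryTheory CategoryTheory.Limits AlgebraicGeometry Opposite TopologicalSpace DirectSum

/-! # The homogeneous ideal of an ideal sheaf on `Proj` -/

namespace Groth.Agent.Lib.Helper29.QCoh

section ProjIdeal
variable {R A : Type u} [CommRing R] [CommRing A] [Algebra R A] (𝒜 : ℕ → Submodule R A) [GradedAlgebra 𝒜]
variable {I : Type u} (f : I → 𝒜 1) (K : (Proj 𝒜).IdealSheafData)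

/-- `D_+(f_i)` as an affine open. -/
def affDp (i : I) : (Proj 𝒜).affineOpens :=
  ⟨Dp 𝒜 f i, Proj.isAffineOpen_basicOpen 𝒜 (f i).1 (f i).2 one_pos⟩

/-- A homogeneous element of degree `n` whose fractions `a / f_i^n` all lie in `K`. -/
def InK {n : ℕ} (a : 𝒜 n) : Prop :=
  ∀ i, frac 𝒜 f i (Dp 𝒜 f i) le_rfl a ∈ K.ideal (affDp 𝒜 f i)

theorem frac_congr (i : I) (U : (Proj 𝒜).Opens) (hU : U ≤ Dp 𝒜 f i) {k l : ℕ} (a : 𝒜 k) (b : 𝒜 l)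
    (hkl : k = l) (h : a.1 = b.1) : frac 𝒜 f i U hU a = frac 𝒜 f i U hU b := by
  subst hkl
  congr 1
  exact Subtype.ext h

theorem InK.congr {k l : ℕ} {a : 𝒜 k} (h : InK 𝒜 f K a) (b : 𝒜 l) (hkl : k = l) (hab : a.1 = b.1) :
    InK 𝒜 f K b := fun i => by
  rw [← frac_congr 𝒜 f i _ le_rfl a b hkl hab]; exact h i

theorem InK.zero {n : ℕ} : InK 𝒜 f K (0 : 𝒜 n) := fun i => by
  rw [frac_zero]; exact Ideal.zero_mem _

theorem InK.add {n : ℕ} {a b : 𝒜 n} (ha : InK 𝒜 f K a) (hb : InK 𝒜 f K b) :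
    InK 𝒜 f K (a + b) := fun i => by
  rw [frac_add]; exact Ideal.add_mem _ (ha i) (hb i)

theorem InK.mul_left {m n : ℕ} (c : 𝒜 m) {a : 𝒜 n} (ha : InK 𝒜 f K a) :
    InK 𝒜 f K (⟨c.1 * a.1, SetLike.mul_mem_graded c.2 a.2⟩ : 𝒜 (m + n)) := fun i => by
  rw [frac_mul]; exact Ideal.mul_mem_left _ _ (ha i)

/-- The homogeneous ideal of `A` attached to the ideal sheaf `K`. -/
def projIdeal : Ideal A where
  carrier := {a | ∀ n, InK 𝒜 f K (decompose 𝒜 a n)}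
  zero_mem' := fun n => by
    rw [decompose_zero, DirectSum.zero_apply]; exact InK.zero 𝒜 f K
  add_mem' := fun {a b} ha hb n => by
    rw [decompose_add, DirectSum.add_apply]; exact (ha n).add 𝒜 f K (hb n)
  smul_mem' := fun c a ha => by
    rw [smul_eq_mul]
    induction c using DirectSum.Decomposition.inductionOn 𝒜 with
    | zero => 
      intro n
      rw [zero_mul, decompose_zero, DirectSum.zero_apply]; exact InK.zero 𝒜 f K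
    | @homogeneous m c =>
      intro n
      by_cases hmn : m ≤ n
      · have h1 := DirectSum.coe_decompose_mul_of_left_mem_of_le 𝒜 (b := a) c.2 hmn
        exact ((ha (n - m)).mul_left 𝒜 f K c).congr 𝒜 f K _ (by omega) h1.symm
      · have h1 := DirectSum.coe_decompose_mul_of_left_mem_of_not_le 𝒜 (b := a) c.2 hmn
        have : decompose 𝒜 (c.1 * a) n = 0 := Subtype.ext h1
        rw [this]; exact InK.zero 𝒜 f K
    | add c c' hc hc' =>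
      intro n
      rw [add_mul, decompose_add, DirectSum.add_apply]; exact (hc n).add 𝒜 f K (hc' n)

theorem mem_projIdeal {a : A} : a ∈ projIdeal 𝒜 f K ↔ ∀ n, InK 𝒜 f K (decompose 𝒜 a n) := Iff.rfl

theorem coe_mem_projIdeal_iff {n : ℕ} (a : 𝒜 n) : a.1 ∈ projIdeal 𝒜 f K ↔ InK 𝒜 f K a := by
  rw [mem_projIdeal]
  constructor
  · intro h
    have := h n
    rwa [DirectSum.decompose_coe, DirectSum.of_eq_same] at this
  · intro h m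
    rw [DirectSum.decompose_coe]
    by_cases hmn : n = m
    · subst hmn; rw [DirectSum.of_eq_same]; exact h
    · rw [DirectSum.of_eq_of_ne _ _ _ (Ne.symm hmn)]; exact InK.zero 𝒜 f K

theorem projIdeal_isHomogeneous : (projIdeal 𝒜 f K).IsHomogeneous 𝒜 := fun i a ha => by
  rw [coe_mem_projIdeal_iff]; exact ha i

/-- Single chart version of the key saturation property. -/
theorem exists_pow_frac_mem (i₀ j : I) {n : ℕ} (a : 𝒜 n)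
    (h : frac 𝒜 f i₀ (Dp 𝒜 f i₀) le_rfl a ∈ K.ideal (affDp 𝒜 f i₀)) :
    ∃ m, (frac 𝒜 f j (Dp 𝒜 f j) le_rfl (f i₀)) ^ m * frac 𝒜 f j (Dp 𝒜 f j) le_rfl a ∈
      K.ideal (affDp 𝒜 f j) := by
  obtain ⟨r, hr⟩ : ∃ r : Γ(Proj 𝒜, (affDp 𝒜 f j).1), r = frac 𝒜 f j (Dp 𝒜 f j) le_rfl (f i₀) :=
    ⟨_, rfl⟩
  have hW : (Proj 𝒜).basicOpen r = Dp 𝒜 f j ⊓ Dp 𝒜 f i₀ := by
    rw [hr]; exact basicOpen_mkO 𝒜 _ _ _ _
  obtain ⟨W, hWdef⟩ : ∃ W : (Proj 𝒜).affineOpens, W = (Proj 𝒜).affineBasicOpen r := ⟨_, rfl⟩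
  have hWj : W.1 ≤ Dp 𝒜 f j := by rw [hWdef]; exact (Proj 𝒜).basicOpen_le r
  have hWi : W.1 ≤ Dp 𝒜 f i₀ := by rw [hWdef]; exact hW.le.trans inf_le_right
  have h1 : frac 𝒜 f i₀ W.1 hWi a ∈ K.ideal W :=
    K.ideal_le_comap_ideal (U := W) (V := affDp 𝒜 f i₀) hWi h
  have h2 : frac 𝒜 f j W.1 hWj a ∈ K.ideal W := by
    rw [frac_eq_frac_mul 𝒜 f j i₀ W.1 hWj hWi a]
    exact Ideal.mul_mem_left _ _ h1
  have h3 := K.map_ideal_basicOpen (affDp 𝒜 f j) r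
  subst hWdef
  rw [← h3] at h2
  have inst := (affDp 𝒜 f j).2.isLocalization_basicOpen r
  have h2' : algebraMap Γ(Proj 𝒜, (affDp 𝒜 f j).1) Γ(Proj 𝒜, (Proj 𝒜).basicOpen r)
        (frac 𝒜 f j (Dp 𝒜 f j) le_rfl a) ∈
      Ideal.map (algebraMap Γ(Proj 𝒜, (affDp 𝒜 f j).1) Γ(Proj 𝒜, (Proj 𝒜).basicOpen r))
        (K.ideal (affDp 𝒜 f j)) := h2
  have h4 := (IsLocalization.algebraMap_mem_map_algebraMap_iff (Submonoid.powers r)
    Γ(Proj 𝒜, (Proj 𝒜).basicOpen r)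
    (K.ideal (affDp 𝒜 f j)) (frac 𝒜 f j (Dp 𝒜 f j) le_rfl a)).1 h2'
  obtain ⟨_, ⟨m, rfl⟩, hm⟩ := h4
  rw [hr] at hm
  exact ⟨m, hm⟩

theorem frac_pow_deg (i j : I) (U : (Proj 𝒜).Opens) (hU : U ≤ Dp 𝒜 f i) (n : ℕ) :
    frac 𝒜 f i U hU (⟨(f j).1 ^ n, pow_mem_deg 𝒜 f j n⟩ : 𝒜 n) =
      (frac 𝒜 f i U hU (f j)) ^ n := by
  apply ofun_ext
  intro x
  rw [ofun_pow, ofun_frac, ofun_frac, Localization.mk_pow]
  apply mk_eq_mk_of_mul_eq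
  simp only [SubmonoidClass.coe_pow, pow_one]

theorem frac_pow_mul (i j : I) (U : (Proj 𝒜).Opens) (hU : U ≤ Dp 𝒜 f i) (m : ℕ) {n : ℕ} (a : 𝒜 n) :
    frac 𝒜 f i U hU (⟨(f j).1 ^ m * a.1,
      SetLike.mul_mem_graded (pow_mem_deg 𝒜 f j m) a.2⟩ : 𝒜 (m + n)) =
      (frac 𝒜 f i U hU (f j)) ^ m * frac 𝒜 f i U hU a := by
  rw [← frac_pow_deg, ← frac_mul]

/-- **Saturation**: if `a / f_{i₀}^n` lies in `K` on `D_+(f_{i₀})`, then `f_{i₀}^m a` lies in the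
homogeneous ideal of `K` for some `m`. -/
theorem exists_pow_mul_mem_projIdeal [Finite I] (i₀ : I) {n : ℕ} (a : 𝒜 n)
    (h : frac 𝒜 f i₀ (Dp 𝒜 f i₀) le_rfl a ∈ K.ideal (affDp 𝒜 f i₀)) :
    ∃ m, (f i₀).1 ^ m * a.1 ∈ projIdeal 𝒜 f K := by
  choose m hm using fun j => exists_pow_frac_mem 𝒜 f K i₀ j a h
  have := Fintype.ofFinite I
  obtain ⟨M, hM⟩ : ∃ M, ∀ j, m j ≤ M :=
    ⟨Finset.univ.sup m, fun j => Finset.le_sup (Finset.mem_univ j)⟩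
  refine ⟨M, ?_⟩
  have hmem : (f i₀).1 ^ M * a.1 ∈ 𝒜 (M + n) :=
    SetLike.mul_mem_graded (pow_mem_deg 𝒜 f i₀ M) a.2
  rw [show (f i₀).1 ^ M * a.1 = ((⟨_, hmem⟩ : 𝒜 (M + n)) : A) from rfl, coe_mem_projIdeal_iff]
  intro j
  rw [frac_pow_mul, ← Nat.sub_add_cancel (hM j), pow_add, mul_assoc]
  exact Ideal.mul_mem_left _ _ (hm j)

theorem frac_mem_of_pow_mul_mem (i₀ : I) {n : ℕ} (a : 𝒜 n) (m : ℕ)
    (h : (f i₀).1 ^ m * a.1 ∈ projIdeal 𝒜 f K) :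
    frac 𝒜 f i₀ (Dp 𝒜 f i₀) le_rfl a ∈ K.ideal (affDp 𝒜 f i₀) := by
  have hmem : (f i₀).1 ^ m * a.1 ∈ 𝒜 (m + n) :=
    SetLike.mul_mem_graded (pow_mem_deg 𝒜 f i₀ m) a.2
  rw [show (f i₀).1 ^ m * a.1 = ((⟨_, hmem⟩ : 𝒜 (m + n)) : A) from rfl, coe_mem_projIdeal_iff] at h
  have h1 := h i₀
  rwa [frac_pow_mul, frac_self, one_pow, one_mul] at h1

theorem frac_mem_iff [Finite I] (i₀ : I) {n : ℕ} (a : 𝒜 n) :
    frac 𝒜 f i₀ (Dp 𝒜 f i₀) le_rfl a ∈ K.ideal (affDp 𝒜 f i₀) ↔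
      ∃ m, (f i₀).1 ^ m * a.1 ∈ projIdeal 𝒜 f K :=
  ⟨exists_pow_mul_mem_projIdeal 𝒜 f K i₀ a, fun ⟨m, hm⟩ => frac_mem_of_pow_mul_mem 𝒜 f K i₀ a m hm⟩

theorem awayToSection_mk (g : 𝒜 1) (n : ℕ) (a : A) (ha : a ∈ 𝒜 (n • 1)) :
    (Proj.awayToSection 𝒜 g.1).hom (HomogeneousLocalization.Away.mk 𝒜 g.2 n a ha) =
      mkO 𝒜 (Proj.basicOpen 𝒜 g.1) (⟨a, ha⟩ : 𝒜 (n • 1)) ⟨g.1 ^ n, SetLike.pow_mem_graded n g.2⟩
        (fun x => pow_not_mem_of_not_mem x.2 n) := by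
  apply ofun_ext
  intro x
  rfl

theorem awayToSection_mk_eq_frac (i : I) {n : ℕ} (a : 𝒜 n) :
    (Proj.awayToSection 𝒜 (f i).1).hom (HomogeneousLocalization.Away.mk 𝒜 (f i).2 n a.1
      (by rw [smul_eq_mul, mul_one]; exact a.2)) = frac 𝒜 f i (Dp 𝒜 f i) le_rfl a :=
  awayToSection_mk 𝒜 (f i) n a.1 _

theorem exists_eq_frac (i : I) (r : Γ(Proj 𝒜, Dp 𝒜 f i)) :
    ∃ (n : ℕ) (a : 𝒜 n), r = frac 𝒜 f i (Dp 𝒜 f i) le_rfl a := by
  have hbij : Function.Bijective (Proj.awayToSection 𝒜 (f i).1).hom :=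
    ConcreteCategory.bijective_of_isIso (Proj.basicOpenIsoAway 𝒜 (f i).1 (f i).2 one_pos).hom
  obtain ⟨s, rfl⟩ := hbij.2 r
  obtain ⟨n, a, ha, rfl⟩ := HomogeneousLocalization.Away.mk_surjective 𝒜 (f i).2 s
  exact ⟨n, ⟨a, by rw [smul_eq_mul, mul_one] at ha; exact ha⟩, awayToSection_mk 𝒜 (f i) n a _⟩

section KerMap
variable {B : Type u} [CommRing B] [Algebra R B] (ℬ : ℕ → Submodule R B) [GradedAlgebra ℬ]
  (φ : 𝒜 →+*ᵍ ℬ) (hφ : HomogeneousIdeal.irrelevant ℬ ≤ (HomogeneousIdeal.irrelevant 𝒜).map φ)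

theorem app_map_frac_eq_zero_iff (i₀ : I) {n : ℕ} (a : 𝒜 n) :
    (Proj.map φ hφ).app (Dp 𝒜 f i₀) (frac 𝒜 f i₀ (Dp 𝒜 f i₀) le_rfl a) = 0 ↔
      ∃ m, φ ((f i₀).1 ^ m * a.1) = 0 := by
  have ha : a.1 ∈ 𝒜 (n • 1) := by rw [smul_eq_mul, mul_one]; exact a.2
  rw [← awayToSection_mk_eq_frac]
  have key := Proj.awayToSection_comp_appLE φ hφ (f i₀).2
  have h1 : (Proj.map φ hφ).app (Dp 𝒜 f i₀)
      ((Proj.awayToSection 𝒜 (f i₀).1).hom (HomogeneousLocalization.Away.mk 𝒜 (f i₀).2 n a.1 ha)) =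
      (Proj.awayToSection ℬ (φ (f i₀).1)).hom
        (HomogeneousLocalization.Away.map φ (f i₀).1
          (HomogeneousLocalization.Away.mk 𝒜 (f i₀).2 n a.1 ha)) :=
    congr($key (HomogeneousLocalization.Away.mk 𝒜 (f i₀).2 n a.1 ha))
  rw [h1, HomogeneousLocalization.Away.map_mk]
  have hbij : Function.Bijective (Proj.awayToSection ℬ (φ (f i₀).1)).hom :=
    ConcreteCategory.bijective_of_isIso
      (Proj.basicOpenIsoAway ℬ (φ (f i₀).1) (φ.2 (f i₀).2) one_pos).hom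
  change ((Proj.awayToSection ℬ (φ (f i₀).1)).hom _ :
    Γ(Proj ℬ, Proj.basicOpen ℬ (φ (f i₀).1))) = 0 ↔ _
  rw [map_eq_zero_iff _ hbij.1, ← (HomogeneousLocalization.val_injective _).eq_iff,
    HomogeneousLocalization.Away.val_mk, HomogeneousLocalization.val_zero,
    Localization.mk_eq_mk', IsLocalization.mk'_eq_zero_iff]
  constructor
  · rintro ⟨⟨_, k, rfl⟩, hk⟩
    exact ⟨k, by rw [map_mul, map_pow]; exact hk⟩
  · rintro ⟨k, hk⟩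
    exact ⟨⟨_, k, rfl⟩, by rw [map_mul, map_pow] at hk; exact hk⟩

/-- If the kernel of the graded homomorphism `φ` is the homogeneous ideal of `K`, then the kernel
of `Proj.map φ` is `K`. -/
theorem ker_map_eq_of_ker_eq [Finite I] (hcov : ∀ x : Proj 𝒜, ∃ i, x ∈ Dp 𝒜 f i)
    [QuasiCompact (Proj.map φ hφ)] (hker : ∀ a, φ a = 0 ↔ a ∈ projIdeal 𝒜 f K) :
    (Proj.map φ hφ).ker = K := by
  refine Scheme.IdealSheafData.ext_of_iSup_eq_top (affDp 𝒜 f) ?_ (fun i => ?_)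
  · exact top_le_iff.mp fun x _ => Opens.mem_iSup.mpr (hcov x)
  · ext r
    obtain ⟨n, a, rfl⟩ := exists_eq_frac 𝒜 f i r
    rw [Scheme.Hom.ker_apply, RingHom.mem_ker]
    refine (app_map_frac_eq_zero_iff 𝒜 f ℬ φ hφ i a).trans ?_
    refine Iff.trans ?_ (frac_mem_iff 𝒜 f K i a).symm
    simp only [hker]

end KerMap

end ProjIdeal

end Groth.Agent.Lib.Helper29.QCoh
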