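import Groth.Agent.Lib.Helper25.ProperOver
import Groth.Agent.Lib.Helper29.IsoLocus
universe u
open CategoryTheory CategoryTheory.Limits AlgebraicGeometry Opposite TopologicalSpace

namespace Groth.Agent.Lib.Helper29.QCoh

variable {X S : Scheme.{u}}

theorem isProperOver_of_subset (f : X ⟶ S) [LocallyOfFiniteType f] {Z Z' : Set X}
    (hZ : ClSub.IsProperOver f Z) (hZ' : IsClosed Z') (hsub : Z' ⊆ Z) :
    ClSub.IsProperOver f Z' := by
  obtain ⟨hcl, hp⟩ := hZ
  refine ⟨hZ', ?_⟩
  have hle : Scheme.IdealSheafData.vanishingIdeal ⟨Z, hcl⟩ ≤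
      Scheme.IdealSheafData.vanishingIdeal ⟨Z', hZ'⟩ :=
    Scheme.IdealSheafData.vanishingIdeal_antimono
      (show (⟨Z', hZ'⟩ : TopologicalSpace.Closeds X) ≤ ⟨Z, hcl⟩ from hsub)
  rw [← Scheme.IdealSheafData.inclusion_subschemeι hle, Category.assoc]
  infer_instance

theorem support_eq_union_of_shortExact (E : ShortComplex X.Modules) (hE : E.ShortExact) :
    CohB1.support E.X₂ = CohB1.support E.X₁ ∪ CohB1.support E.X₃ := by
  haveI := hE.mono_f
  haveI := hE.epi_g
  ext x
  have h1 := (exact_iff_stalk_function_exact E).mp hE.exact x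
  have h2 := (mono_iff_stalkMap_injective E.f).mp inferInstance x
  have h3 := (epi_iff_stalkMap_surjective E.g).mp inferInstance x
  simp only [CohB1.support, Set.mem_ofPred_eq, Set.mem_union]
  rw [← not_and_or, not_iff_not]
  constructor
  · intro h
    refine ⟨⟨fun a b => h2 (Subsingleton.elim _ _)⟩, ⟨fun a b => ?_⟩⟩
    obtain ⟨a', rfl⟩ := h3 a
    obtain ⟨b', rfl⟩ := h3 b
    rw [Subsingleton.elim a' b']
  · rintro ⟨h13, h33⟩
    refine ⟨fun a b => ?_⟩
    have hz : ∀ c : E.X₂.presheaf.stalk x, c = 0 := by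
      intro c
      obtain ⟨d, rfl⟩ := (h1 c).mp (Subsingleton.elim _ _)
      rw [Subsingleton.elim d 0, map_zero]
    rw [hz a, hz b]

theorem isProperOver_support_shortExact_iff (f : X ⟶ S) [LocallyOfFiniteType f]
    (E : ShortComplex X.Modules) (hE : E.ShortExact)
    (h₁ : Coh.IsCoh E.X₁) (h₃ : Coh.IsCoh E.X₃) :
    ClSub.IsProperOver f (CohB1.support E.X₂) ↔
      ClSub.IsProperOver f (CohB1.support E.X₁) ∧ ClSub.IsProperOver f (CohB1.support E.X₃) := by
  have hc1 : IsClosed (CohB1.support E.X₁) := by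
    haveI := h₁.2
    have h := isOpen_setOf_subsingleton_stalk E.X₁
    rw [← isOpen_compl_iff]
    convert h using 1
    ext x
    simp only [CohB1.support, Set.mem_compl_iff, Set.mem_ofPred_eq, not_not]
  have hc3 : IsClosed (CohB1.support E.X₃) := by
    haveI := h₃.2
    have h := isOpen_setOf_subsingleton_stalk E.X₃
    rw [← isOpen_compl_iff]
    convert h using 1
    ext x
    simp only [CohB1.support, Set.mem_compl_iff, Set.mem_ofPred_eq, not_not]
  rw [support_eq_union_of_shortExact E hE]
  constructor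
  · intro h
    exact ⟨isProperOver_of_subset f h hc1 Set.subset_union_left,
      isProperOver_of_subset f h hc3 Set.subset_union_right⟩
  · rintro ⟨ha, hb⟩
    have := Groth.Agent.Lib.Helper25.ProperOver.isProperOver_iUnion f (ι := Bool)
      (fun b => if b then CohB1.support E.X₁ else CohB1.support E.X₃)
      (fun b => by cases b <;> simpa)
    convert this using 1
    ext x
    simp only [Set.mem_union, Set.mem_iUnion, Bool.exists_bool]
    tauto

end Groth.Agent.Lib.Helper29.QCoh
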