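import Mathlib
universe u
open CategoryTheory AlgebraicGeometry TopologicalSpace

/-! # Local structure near an isolated point with Noetherian local ring of dimension ≤ 1 -/

namespace Groth.Agent.Lib.Helper29.Punct

theorem finite_primeSpectrum_of_dim_le_one (R : Type*) [CommRing R] [IsLocalRing R]
    [IsNoetherianRing R] (h : ringKrullDim R ≤ 1) : Finite (PrimeSpectrum R) := by
  have hd : Ring.KrullDimLE 1 R := Ring.krullDimLE_iff.mpr (by simpa using h)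
  have hall := Ring.krullDimLE_one_iff.mp hd
  have hfin : (minimalPrimes R ∪ {IsLocalRing.maximalIdeal R}).Finite :=
    (minimalPrimes.finite_of_isNoetherianRing R).union (Set.finite_singleton _)
  have hsub : (Set.univ : Set (PrimeSpectrum R)) ⊆
      PrimeSpectrum.asIdeal ⁻¹' (minimalPrimes R ∪ {IsLocalRing.maximalIdeal R}) := by
    intro p _
    rcases hall p.asIdeal p.isPrime with h1 | h1
    · exact Or.inl h1
    · exact Or.inr (IsLocalRing.eq_maximalIdeal h1)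
  have hfin2 := hfin.preimage (f := PrimeSpectrum.asIdeal)
    (fun a _ b _ hab => PrimeSpectrum.ext hab)
  exact Set.finite_univ_iff.mp (hfin2.subset hsub)

theorem finite_generizations (X : Scheme.{u}) (x : X) (hN : IsNoetherianRing (X.presheaf.stalk x))
    (h : ringKrullDim (X.presheaf.stalk x) ≤ 1) : {y : X | y ⤳ x}.Finite := by
  rw [← Scheme.range_fromSpecStalk]
  have : Finite (PrimeSpectrum (X.presheaf.stalk x)) :=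
    finite_primeSpectrum_of_dim_le_one (X.presheaf.stalk x) h
  have : Finite ↥(Spec (X.presheaf.stalk x)) := this
  exact Set.finite_range _

theorem exists_not_mem_forall_mem {A : Type*} [CommRing A] (𝔪 : PrimeSpectrum A) (f : A)
    (G : Set (PrimeSpectrum A)) (hGo : IsOpen G)
    (hG : ∀ 𝔭 : PrimeSpectrum A, f ∉ 𝔭.asIdeal → 𝔭 ≤ 𝔪 → 𝔭 ∈ G) :
    ∃ h : A, h ∉ 𝔪.asIdeal ∧
      ∀ 𝔭 : PrimeSpectrum A, h ∉ 𝔭.asIdeal → f ∉ 𝔭.asIdeal → 𝔭 ∈ G := by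
  classical
  set J := PrimeSpectrum.vanishingIdeal Gᶜ with hJ
  have hZ : PrimeSpectrum.zeroLocus (J : Set A) = Gᶜ := by
    rw [hJ, PrimeSpectrum.zeroLocus_vanishingIdeal_eq_closure, hGo.isClosed_compl.closure_eq]
  let S : Submonoid A := 𝔪.asIdeal.primeCompl ⊔ Submonoid.powers f
  by_cases hdis : Disjoint (J : Set A) (S : Set A)
  · exfalso
    obtain ⟨p, hp, hJp, hpS⟩ := Ideal.exists_le_prime_disjoint J S hdis
    let 𝔭 : PrimeSpectrum A := ⟨p, hp⟩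
    have hf : f ∉ p := fun hf => Set.disjoint_left.mp hpS hf
      (Submonoid.mem_sup_right (Submonoid.mem_powers f))
    have hle : 𝔭 ≤ 𝔪 := by
      change p ≤ 𝔪.asIdeal
      intro a ha
      by_contra ham
      exact Set.disjoint_left.mp hpS ha (Submonoid.mem_sup_left ham)
    have h1 : 𝔭 ∈ G := hG 𝔭 hf hle
    have h2 : 𝔭 ∈ Gᶜ := by
      rw [← hZ, PrimeSpectrum.mem_zeroLocus]
      exact hJp
    exact h2 h1
  · rw [Set.not_disjoint_iff] at hdis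
    obtain ⟨a, haJ, haS⟩ := hdis
    obtain ⟨h, hh, t, ht, rfl⟩ := Submonoid.mem_sup.mp haS
    obtain ⟨n, rfl⟩ := ht
    refine ⟨h, hh, fun 𝔭 hh𝔭 hf𝔭 => ?_⟩
    by_contra hG𝔭
    have hz : 𝔭 ∈ PrimeSpectrum.zeroLocus (J : Set A) := by rw [hZ]; exact hG𝔭
    rw [PrimeSpectrum.mem_zeroLocus] at hz
    have hmem := hz haJ
    rcases 𝔭.isPrime.mem_or_mem hmem with h1 | h1
    · exact hh𝔭 h1
    · exact hf𝔭 (𝔭.isPrime.mem_of_pow_mem n h1)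

theorem exists_equation {A : Type*} [CommRing A] (𝔪 : PrimeSpectrum A)
    (Q : Set (PrimeSpectrum A)) (hQc : IsCompact Q) (hQo : IsOpen Q) (hm : 𝔪 ∉ Q)
    (hQ : ∀ 𝔭, 𝔭 ∉ Q → 𝔭 = 𝔪) (hfin : {𝔭 : PrimeSpectrum A | 𝔭 < 𝔪}.Finite) :
    ∃ f h : A, h ∉ 𝔪.asIdeal ∧
      ∀ 𝔭 : PrimeSpectrum A, h ∉ 𝔭.asIdeal → (f ∉ 𝔭.asIdeal ↔ 𝔭 ∈ Q) := by
  classical
  obtain ⟨t, ht⟩ := PrimeSpectrum.isCompact_isOpen_iff.mp ⟨hQc, hQo⟩
  have hf : ∃ f ∈ 𝔪.asIdeal, ∀ 𝔭 : PrimeSpectrum A, 𝔭 < 𝔪 → f ∉ 𝔭.asIdeal := by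
    by_contra hcon
    push Not at hcon
    have hsub : ((𝔪.asIdeal : Set A)) ⊆
        ⋃ i ∈ (↑hfin.toFinset : Set (PrimeSpectrum A)), (i.asIdeal : Set A) := by
      intro a ha
      obtain ⟨𝔭, h𝔭, ha𝔭⟩ := hcon a ha
      exact Set.mem_biUnion (by simpa using h𝔭) ha𝔭
    obtain ⟨𝔭, h𝔭, hle⟩ :=
      (Ideal.subset_union_prime 𝔪 𝔪 (fun i _ _ _ => i.isPrime)).mp hsub
    have hlt : 𝔭 < 𝔪 := by simpa using h𝔭
    exact absurd hle (not_le_of_gt hlt)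
  obtain ⟨f, hfm, hf⟩ := hf
  have hmemQ : ∀ 𝔭 : PrimeSpectrum A, 𝔭 ∈ Q ↔ ∃ g ∈ t, g ∉ 𝔭.asIdeal := by
    intro 𝔭
    rw [← ht, Set.mem_compl_iff, PrimeSpectrum.mem_zeroLocus, Set.not_subset]
    rfl
  have hex : ∀ g : A, ∃ h : A, h ∉ 𝔪.asIdeal ∧ (g ∈ t →
      ∀ 𝔭 : PrimeSpectrum A, h ∉ 𝔭.asIdeal → g ∉ 𝔭.asIdeal → f ∉ 𝔭.asIdeal) := by
    intro g
    by_cases hg : g ∈ t
    · obtain ⟨h, hh, hh'⟩ := exists_not_mem_forall_mem 𝔪 g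
        {𝔭 | f ∉ 𝔭.asIdeal} (PrimeSpectrum.basicOpen f).isOpen (fun 𝔭 hg𝔭 hle => by
          have h𝔭Q : 𝔭 ∈ Q := (hmemQ 𝔭).mpr ⟨g, hg, hg𝔭⟩
          have hne : 𝔭 ≠ 𝔪 := fun h => hm (h ▸ h𝔭Q)
          exact hf 𝔭 (lt_of_le_of_ne hle hne))
      exact ⟨h, hh, fun _ => hh'⟩
    · exact ⟨1, fun h1 => 𝔪.isPrime.ne_top ((Ideal.eq_top_iff_one _).mpr h1), fun h => absurd h hg⟩
  choose H hH1 hH2 using hex
  refine ⟨f, ∏ g ∈ t, H g, ?_, fun 𝔭 h𝔭 => ⟨fun hf𝔭 => ?_, fun h𝔭Q => ?_⟩⟩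
  · intro hprod
    obtain ⟨g, -, hg⟩ := (𝔪.isPrime.prod_mem_iff).mp hprod
    exact hH1 g hg
  · by_contra h𝔭Q
    rw [hQ 𝔭 h𝔭Q] at hf𝔭
    exact hf𝔭 hfm
  · obtain ⟨g, hg, hg𝔭⟩ := (hmemQ 𝔭).mp h𝔭Q
    refine hH2 g hg 𝔭 (fun hHg => h𝔭 ?_) hg𝔭
    exact Ideal.IsPrime.prod_mem_iff.mpr ⟨g, hg, hHg⟩ |> fun h => h

end Groth.Agent.Lib.Helper29.Punct
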