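import Groth.Agent.Lib.Helper18.TildeSec2
import Groth.Agent.Lib.Helper29.FBCFlat
import Groth.Prelude.Def_Formal2
universe u
open CategoryTheory CategoryTheory.Limits AlgebraicGeometry TopologicalSpace Opposite
open scoped TensorProduct

namespace Groth.Agent.Lib.Helper29.Punct2D
open Groth.Agent.Lib.Helper29.QCoh Groth.Agent.Lib.Helper29.FBCFlat
open Groth.Agent.Lib.Helper18.TildeSec

variable (A : Type u) [CommRing A] [IsNoetherianRing A] [IsLocalRing A]

theorem image_top_eq_DJ :
    (((FEt.puncturedSpec A).ι ''ᵁ ⊤ : (Spec (CommRingCat.of A)).Opens) :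
      Opens (PrimeSpectrum.Top A)) = DJ (IsLocalRing.maximalIdeal A) := by
  rw [Scheme.Opens.ι_image_top]
  apply Opens.ext
  apply Set.ext
  intro (p : PrimeSpectrum A)
  change p ∈ ({IsLocalRing.closedPoint A}ᶜ : Set (PrimeSpectrum A)) ↔
    p ∈ (PrimeSpectrum.zeroLocus (IsLocalRing.maximalIdeal A : Set A))ᶜ
  rw [Set.mem_compl_iff, Set.mem_compl_iff, not_iff_not, Set.mem_singleton_iff,
    PrimeSpectrum.mem_zeroLocus]
  constructor
  · rintro rfl
    exact le_rfl
  · intro h
    apply PrimeSpectrum.ext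
    exact ((IsLocalRing.maximalIdeal.isMaximal A).eq_of_le p.2.ne_top h).symm

theorem aX_eq (r : A) :
    FBCFlat.aX (FEt.puncturedSpec A).ι ⊤ r =
      StructureSheaf.toOpenₗ A A ((FEt.puncturedSpec A).ι ''ᵁ ⊤) r := by
  unfold FBCFlat.aX FBCFlat.aXc
  rw [Scheme.Opens.ι_appLE]
  have := StructureSheaf.algebraMap_self_map (R := A)
    (op ((FEt.puncturedSpec A).ι ''ᵁ ⊤)) (op ⊤) (homOfLE le_top).op
  have h2 := congrArg (fun φ => φ.hom r) this
  exact h2

theorem aX_punctured_bijective (hdepth : (2 : ℕ∞) ≤ LocCoh.depth A A) :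
    Function.Bijective (FBCFlat.aX (FEt.puncturedSpec A).ι ⊤) := by
  have key := toOpenₗ_DJ_bijective_of_two_le (IsLocalRing.maximalIdeal A) (M := A) hdepth
  rw [← image_top_eq_DJ] at key
  have : (FBCFlat.aX (FEt.puncturedSpec A).ι ⊤ : A → _) =
      StructureSheaf.toOpenₗ A A ((FEt.puncturedSpec A).ι ''ᵁ ⊤) := funext (aX_eq A)
  rw [this]
  exact key

theorem main (hdepth : (2 : ℕ∞) ≤ LocCoh.depth A A) :
    Formal2.PicPullbackInjective
      (Spec.map (CommRingCat.ofHom
        (algebraMap A (AdicCompletion (IsLocalRing.maximalIdeal A) A))) ∣_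
        FEt.puncturedSpec A) := by
  intro L hL h
  haveI : Module.FaithfullyFlat A (AdicCompletion (IsLocalRing.maximalIdeal A) A) :=
    Module.FaithfullyFlat.of_flat_of_isLocalHom
  haveI : NoetherianSpace (Spec (CommRingCat.of A)) :=
    (inferInstance : NoetherianSpace (PrimeSpectrum A))
  haveI : NoetherianSpace ↥(FEt.puncturedSpec A) := NoetherianSpace.set _
  haveI : CompactSpace ↥(FEt.puncturedSpec A).toScheme :=
    (inferInstance : CompactSpace ↥(FEt.puncturedSpec A))
  haveI : QuasiSeparatedSpace ↥(FEt.puncturedSpec A).toScheme :=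
    ⟨fun U V _ _ _ _ => NoetherianSpace.isCompact (α := ↥(FEt.puncturedSpec A)) _⟩
  exact FBCFlat.nonempty_iso_unit (FEt.puncturedSpec A).ι _ _
    (isPullback_morphismRestrict _ (FEt.puncturedSpec A))
    (aX_punctured_bijective A hdepth) L hL h

end Groth.Agent.Lib.Helper29.Punct2D
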