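import Groth.Agent.Lib.Helper29.UnitIso
import Groth.Agent.Lib.Helper29.QCohPush
import Groth.Agent.Lib.Helper29.RelAmple
import Groth.Agent.Lib.Helper29.IsoCover
universe u
open CategoryTheory CategoryTheory.Limits AlgebraicGeometry TopologicalSpace Opposite

namespace Groth.Agent.Lib.Helper29.QCoh

section
variable {X Y : Scheme.{u}} (f : X ⟶ Y)

/-- A trivialising section of `L` over `f⁻¹ U` trivialises `f_* L` over `U` when
`O_Y ⟶ f_* O_X` is an isomorphism. -/
theorem IsTriv.pushforward (hf : ∀ U : Y.Opens, Function.Bijective (f.app U)) {L : X.Modules}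
    {U : Y.Opens} {t : Γ(L, f ⁻¹ᵁ U)} (ht : IsTriv L (f ⁻¹ᵁ U) t) :
    IsTriv ((Scheme.Modules.pushforward f).obj L) U
      (show Γ((Scheme.Modules.pushforward f).obj L, U) from t) := by
  intro W hW
  have h1 := ht (f ⁻¹ᵁ W) (f.preimage_mono hW)
  have : (fun r : Γ(Y, W) => r • res ((Scheme.Modules.pushforward f).obj L) hW
      (show Γ((Scheme.Modules.pushforward f).obj L, U) from t)) =
      (fun r' : Γ(X, f ⁻¹ᵁ W) => r' • res L (f.preimage_mono hW) t) ∘ (f.app W) := by
    funext r
    rfl
  rw [this]
  exact h1.comp (hf W)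

/-- A morphism mapping a trivialising section to a trivialising section is bijective on sections
over all smaller opens. -/
theorem IsTriv.app_bijective_of_isTriv {A B : X.Modules} (φ : A ⟶ B) {V : X.Opens} {a : Γ(A, V)}
    (ha : IsTriv A V a) (hb : IsTriv B V (φ.app V a)) (W : X.Opens) (hW : W ≤ V) :
    Function.Bijective (φ.app W) := by
  have h1 := ha W hW
  have h2 := hb W hW
  have e : (φ.app W) ∘ (fun r : Γ(X, W) => r • res A hW a) =
      fun r : Γ(X, W) => r • res B hW (φ.app V a) := by
    funext r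
    simp only [Function.comp_apply]
    rw [app_smul', app_res]
  rw [← e] at h2
  exact (Function.Bijective.of_comp_iff _ h1).mp h2

theorem counit_app_pullSect (L : X.Modules) (U : Y.Opens) (t : Γ(L, f ⁻¹ᵁ U)) :
    ((Scheme.Modules.pullbackPushforwardAdjunction f).counit.app L).app (f ⁻¹ᵁ U)
      (pullSect f ((Scheme.Modules.pushforward f).obj L) U
        (show Γ((Scheme.Modules.pushforward f).obj L, U) from t)) = t := by
  have h := (Scheme.Modules.pullbackPushforwardAdjunction f).right_triangle_components L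
  have h2 := congrArg (fun ψ => Scheme.Modules.Hom.app ψ U
    (show Γ((Scheme.Modules.pushforward f).obj L, U) from t)) h
  simp only [app_comp] at h2
  exact h2

/-- If `O_Y = f_* O_X` and `L` is trivial over the preimages of the members of an open cover of
`Y`, then `f_* L` is invertible and `L ≅ f^* f_* L`. -/
theorem isInvertible_pushforward_and_isIso_counit
    (hf : ∀ U : Y.Opens, Function.Bijective (f.app U)) (L : X.Modules)
    (hloc : ∀ s : Y, ∃ U : Y.Opens, s ∈ U ∧ ∃ t : Γ(L, f ⁻¹ᵁ U), IsTriv L (f ⁻¹ᵁ U) t) :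
    PicF.IsInvertible ((Scheme.Modules.pushforward f).obj L) ∧
      IsIso ((Scheme.Modules.pullbackPushforwardAdjunction f).counit.app L) := by
  constructor
  · refine isInvertible_of_isTriv' fun s => ?_
    obtain ⟨U, hsU, t, ht⟩ := hloc s
    exact ⟨U, _, hsU, IsTriv.pushforward f hf ht⟩
  · refine isIso_of_forall_exists_app_bijective _ fun x => ?_
    obtain ⟨U, hsU, t, ht⟩ := hloc (f x)
    refine ⟨f ⁻¹ᵁ U, hsU, fun W hW => ?_⟩
    have h1 := IsTriv.pullSect f (IsTriv.pushforward f hf ht)
    refine IsTriv.app_bijective_of_isTriv _ h1 ?_ W hW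
    rw [counit_app_pullSect]
    exact ht

end

end Groth.Agent.Lib.Helper29.QCoh
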