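import Groth.Agent.Lib.Helper29.QAff1
import Groth.Agent.Lib.Helper29.NormalNorm
import Groth.Agent.Lib.Helper16.ReducedSub
universe u
open CategoryTheory CategoryTheory.Limits AlgebraicGeometry TopologicalSpace Opposite

namespace Groth.Agent.Lib.Helper29.QCoh.QAff

variable {X Y : Scheme.{u}}

/-- Quasi-affineness descends along a finite surjective morphism onto a normal integral scheme. -/
theorem isQuasiAffine_of_normal (π : X ⟶ Y) [IsFinite π] [Surjective π] [IsIntegral Y]
    (hY : Pi1.IsNormalScheme Y) [X.IsQuasiAffine] : Y.IsQuasiAffine := by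
  obtain ⟨ξ, hξ⟩ := π.surjective (genericPoint Y)
  let Z : Closeds X := ⟨closure {ξ}, isClosed_closure⟩
  let I := Scheme.IdealSheafData.vanishingIdeal Z
  let i : I.subscheme ⟶ X := I.subschemeι
  have hred : IsReduced I.subscheme := Groth.Agent.Lib.Helper16.isReduced_subscheme_vanishingIdeal Z
  have hrange : Set.range i = closure {ξ} := by
    change Set.range I.subschemeι = _
    rw [Scheme.IdealSheafData.range_subschemeι, Scheme.IdealSheafData.coe_support_vanishingIdeal]
    rfl
  obtain ⟨ξ', hξ'⟩ : ξ ∈ Set.range i := by
    rw [hrange]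
    exact subset_closure rfl
  have hcl : closure ({ξ'} : Set I.subscheme) = Set.univ := by
    rw [i.isEmbedding.isInducing.closure_eq_preimage_closure_image, Set.image_singleton, hξ',
      ← hrange]
    exact Set.preimage_range _
  have hirr : IrreducibleSpace I.subscheme := by
    rw [irreducibleSpace_def]
    have h := (isIrreducible_singleton (x := ξ')).closure
    rw [hcl] at h
    exact h
  have hint : IsIntegral I.subscheme := isIntegral_of_irreducibleSpace_of_isReduced _
  have hfin : IsFinite (i ≫ π) := inferInstance
  have hsurj : Surjective (i ≫ π) := by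
    refine ⟨fun y => ?_⟩
    have hclosed : IsClosed (Set.range (i ≫ π).base) := (i ≫ π).isClosedMap.isClosed_range
    have hη : genericPoint Y ∈ Set.range (i ≫ π).base := ⟨ξ', by
      rw [Scheme.Hom.comp_base, TopCat.comp_app]
      exact (congrArg π.base hξ').trans hξ⟩
    have h1 : closure {genericPoint Y} ⊆ Set.range (i ≫ π).base :=
      hclosed.closure_subset_iff.mpr (Set.singleton_subset_iff.mpr hη)
    rw [(genericPoint_spec Y).def] at h1
    exact h1 (Set.mem_univ y)
  have hc : CompactSpace I.subscheme := QuasiCompact.compactSpace_of_compactSpace i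
  have hqa : I.subscheme.IsQuasiAffine := Scheme.IsQuasiAffine.of_isImmersion i
  obtain ⟨d, hN⟩ := NormalNorm.exists_hasNorm (i ≫ π) hY
  exact isQuasiAffine_of_hasNorm (i ≫ π) d hN hqa

end Groth.Agent.Lib.Helper29.QCoh.QAff
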