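import Groth.Agent.Lib.Helper29.QCohLocFree
import Groth.Agent.Lib.Helper29.QCohDescent
universe u
open CategoryTheory CategoryTheory.Limits AlgebraicGeometry Opposite TopologicalSpace
open scoped TensorProduct
open TensorProduct

/-! # Faithfully flat descent of finite local freeness -/

namespace Groth.Agent.Lib.Helper29.QCoh

variable {X X' Z : Scheme.{u}}

/-- Finite projectivity descends along faithfully flat ring maps. -/
theorem finite_projective_of_faithfullyFlat {R : Type u} [CommRing R] (T : Type u) [CommRing T]
    [Algebra R T] [Module.FaithfullyFlat R T] (M : Type u) [AddCommGroup M] [Module R M]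
    [Module.Finite T (T ⊗[R] M)] [Module.Projective T (T ⊗[R] M)] :
    Module.Finite R M ∧ Module.Projective R M := by
  have : Module.FinitePresentation T (T ⊗[R] M) := Module.finitePresentation_of_projective _ _
  have hfp : Module.FinitePresentation R M := finitePresentation_of_faithfullyFlat T M
  have hflat : Module.Flat R M := Module.Flat.of_flat_tensorProduct R M T
  exact ⟨inferInstance, Module.Flat.projective_of_finitePresentation⟩

/-- Descent of finite local freeness along a flat morphism from an affine scheme onto an affine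
open. -/
theorem finite_projective_of_pullback_of_isAffine (g : Z ⟶ X) [IsAffine Z] [Flat g]
    (M : X.Modules) [M.IsQuasicoherent] {V : X.Opens} (hV : IsAffineOpen V)
    (e : (⊤ : Z.Opens) ≤ g ⁻¹ᵁ V) (hsurj : ∀ v ∈ V, ∃ z, g z = v)
    (h : FlatMod.IsFinLocFree ((Scheme.Modules.pullback g).obj M)) :
    Module.Finite Γ(X, V) Γ(M, V) ∧ Module.Projective Γ(X, V) Γ(M, V) := by
  have hU : IsAffineOpen (⊤ : Z.Opens) := isAffineOpen_top Z
  let _ := (g.appLE V ⊤ e).hom.toAlgebra
  have hff := faithfullyFlat_appLE_of_surjOn g hV e hsurj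
  obtain ⟨h1, h2⟩ := finite_projective_sections_of_isFinLocFree h hU
  have : Module.Finite Γ(Z, ⊤) (Γ(Z, ⊤) ⊗[Γ(X, V)] Γ(M, V)) :=
    Module.Finite.equiv (pullbackSectionsEquiv g M hU hV e)
  have : Module.Projective Γ(Z, ⊤) (Γ(Z, ⊤) ⊗[Γ(X, V)] Γ(M, V)) :=
    Module.Projective.of_equiv' (pullbackSectionsEquiv g M hU hV e)
  exact finite_projective_of_faithfullyFlat Γ(Z, ⊤) Γ(M, V)

/-- Descent of finite local freeness along a flat, surjective, quasi-compact morphism. -/
theorem isFinLocFree_of_pullback (f : X' ⟶ X) [Flat f] [Surjective f] [QuasiCompact f]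
    (M : X.Modules) [M.IsQuasicoherent]
    (h : FlatMod.IsFinLocFree ((Scheme.Modules.pullback f).obj M)) : FlatMod.IsFinLocFree M := by
  have key : ∀ V : X.affineOpens, Module.Finite Γ(X, V.1) Γ(M, V.1) ∧
      Module.Projective Γ(X, V.1) Γ(M, V.1) := fun V => by
    obtain ⟨Z, k, hZ, hflat, hle, hsurj⟩ := exists_affine_flat_cover f V.2
    have e : (Scheme.Modules.pullback k).obj ((Scheme.Modules.pullback f).obj M) ≅
        (Scheme.Modules.pullback (k ≫ f)).obj M := (Scheme.Modules.pullbackComp k f).app M
    have h1 : FlatMod.IsFinLocFree ((Scheme.Modules.pullback (k ≫ f)).obj M) :=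
      isFinLocFree_of_iso e (isFinLocFree_pullback k h)
    exact finite_projective_of_pullback_of_isAffine (k ≫ f) M V.2 hle hsurj h1
  exact isFinLocFree_of_finite_projective_sections M (fun V : X.affineOpens => V.1)
    (isOpenCover_affineOpens X) (fun V => V.2) (fun V => (key V).1) (fun V => (key V).2)

end Groth.Agent.Lib.Helper29.QCoh
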