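import Groth.Agent.Lib.Helper29.QCohLocFree
import Groth.Prelude.Def_CohB1
universe u
open CategoryTheory CategoryTheory.Limits AlgebraicGeometry TopologicalSpace Opposite

namespace Groth.Agent.Lib.Helper29.QCoh

/-- Pure algebra behind glueing sections on a standard cover. -/
theorem glue_alg {A W : Type*} [CommRing A] [AddCommGroup W] [Module A W]
    (F : Finset A) (w : A → W) (a : A → A) (n m : ℕ)
    (h1 : ∑ f ∈ F, a f * f ^ (n + m) = 1)
    (h2 : ∀ f ∈ F, ∀ g ∈ F, (f * g) ^ m • (g ^ n • w f - f ^ n • w g) = 0)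
    (g : A) (hg : g ∈ F) :
    g ^ (n + m) • (∑ f ∈ F, (a f * f ^ m) • w f) = g ^ m • w g := by
  have key : ∀ f ∈ F, g ^ (n + m) • ((a f * f ^ m) • w f) =
      (a f * f ^ (n + m)) • (g ^ m • w g) := by
    intro f hf
    have h := h2 f hf g hg
    rw [smul_sub, sub_eq_zero] at h
    calc g ^ (n + m) • ((a f * f ^ m) • w f) = a f • ((f * g) ^ m • g ^ n • w f) := by
          simp only [smul_smul]; congr 1; ring
      _ = a f • ((f * g) ^ m • f ^ n • w g) := by rw [h]
      _ = _ := by simp only [smul_smul]; congr 1; ring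
  rw [Finset.smul_sum, Finset.sum_congr rfl key, ← Finset.sum_smul, h1, one_smul]

variable {X : Scheme.{u}}

/-- Restriction of sections of a presheaf of modules, as an additive map. -/
noncomputable abbrev pres (P : X.PresheafOfModules) {U V : X.Opens} (h : V ≤ U) :
    P.obj (op U) →+ P.obj (op V) :=
  (P.presheaf.map (homOfLE h).op).hom

theorem pres_pres (P : X.PresheafOfModules) {U V W : X.Opens} (h : V ≤ U) (h' : W ≤ V)
    (m : P.obj (op U)) : pres P h' (pres P h m) = pres P (h'.trans h) m := by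
  change (P.presheaf.map (homOfLE h).op ≫ P.presheaf.map (homOfLE h').op) m = _
  rw [← Functor.map_comp]; rfl

theorem pres_self (P : X.PresheafOfModules) {U : X.Opens} (m : P.obj (op U)) :
    pres P le_rfl m = m := by
  change (P.presheaf.map (𝟙 _)) m = _
  rw [P.presheaf.map_id]; rfl

theorem pres_smul (P : X.PresheafOfModules) {U V : X.Opens} (h : V ≤ U) (r : Γ(X, U))
    (m : P.obj (op U)) :
    pres P h (r • m) = (X.presheaf.map (homOfLE h).op r) • pres P h m :=
  P.map_smul (homOfLE h).op r m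

/-- The sheafification of a presheaf of modules on a scheme. -/
noncomputable abbrev shf (P : X.PresheafOfModules) : X.Modules := (CohB1.sheafifyMod X).obj P

/-- The unit of sheafification on sections. -/
noncomputable def unitApp (P : X.PresheafOfModules) (U : X.Opens) :
    P.obj (op U) →+ Γ(shf P, U) :=
  ((CategoryTheory.toSheafify (Opens.grothendieckTopology X) P.presheaf).app (op U)).hom

theorem unitApp_res (P : X.PresheafOfModules) {U V : X.Opens} (h : V ≤ U) (m : P.obj (op U)) :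
    unitApp P V (pres P h m) = res (shf P) h (unitApp P U m) :=
  congrArg (fun k => k.hom m)
    ((CategoryTheory.toSheafify (Opens.grothendieckTopology X) P.presheaf).naturality
      (homOfLE h).op)

theorem unitApp_smul (P : X.PresheafOfModules) (U : X.Opens) (r : Γ(X, U)) (m : P.obj (op U)) :
    unitApp P U (r • m) = r • unitApp P U m :=
  (((PresheafOfModules.sheafificationAdjunction (𝟙 X.ringCatSheaf.obj)).unit.app P).app
    (op U)).hom.map_smul r m

theorem exists_pres_eq_zero_of_unitApp_eq_zero (P : X.PresheafOfModules) {U : X.Opens}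
    (s : P.obj (op U)) (h : unitApp P U s = 0) (x : X) (hx : x ∈ U) :
    ∃ (V : X.Opens) (hV : V ≤ U), x ∈ V ∧ pres P hV s = 0 := by
  have hmem := Presheaf.equalizerSieve_mem (Opens.grothendieckTopology X)
    (CategoryTheory.toSheafify (Opens.grothendieckTopology X) P.presheaf) (X := op U) s 0
    (by
      change unitApp P U s = unitApp P U 0
      rw [h, map_zero])
  obtain ⟨V, f, hf, hxV⟩ := hmem x hx
  refine ⟨V, leOfHom f, hxV, ?_⟩
  have : P.presheaf.map f.op s = P.presheaf.map f.op 0 := hf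
  rw [map_zero] at this
  exact this

theorem exists_unitApp_eq_res (P : X.PresheafOfModules) {U : X.Opens}
    (t : Γ(shf P, U)) (x : X) (hx : x ∈ U) :
    ∃ (V : X.Opens) (hV : V ≤ U) (s : P.obj (op V)), x ∈ V ∧
      unitApp P V s = res (shf P) hV t := by
  have hmem := Presheaf.imageSieve_mem (Opens.grothendieckTopology X)
    (CategoryTheory.toSheafify (Opens.grothendieckTopology X) P.presheaf) (U := op U) t
  obtain ⟨V, f, ⟨s, hs⟩, hxV⟩ := hmem x hx
  exact ⟨V, leOfHom f, s, hxV, hs⟩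

/-- `P` localizes correctly on basic opens of affine opens. -/
structure IsLocalizingOnAffines (P : X.PresheafOfModules) : Prop where
  surj : ∀ (U : X.Opens) (_ : IsAffineOpen U) (f : Γ(X, U))
      (s : P.obj (op (X.basicOpen f))), ∃ (n : ℕ) (m : P.obj (op U)),
        (X.presheaf.map (homOfLE (X.basicOpen_le f)).op f) ^ n • s = pres P (X.basicOpen_le f) m
  inj : ∀ (U : X.Opens) (_ : IsAffineOpen U) (f : Γ(X, U)) (m : P.obj (op U)),
      pres P (X.basicOpen_le f) m = 0 → ∃ n : ℕ, f ^ n • m = 0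

/-- The annihilator of a section is the unit ideal if locally (on basic opens covering `U`)
a power of the defining function kills it. -/
theorem eq_zero_of_forall_exists_pow_smul_eq_zero {U : X.Opens} (hU : IsAffineOpen U)
    {W : Type*} [AddCommGroup W] [Module Γ(X, U) W] (s : W)
    (h : ∀ x ∈ U, ∃ f : Γ(X, U), x ∈ X.basicOpen f ∧ ∃ n : ℕ, f ^ n • s = 0) : s = 0 := by
  let I : Ideal Γ(X, U) := LinearMap.ker (LinearMap.toSpanSingleton Γ(X, U) W s)
  have hI : ∀ a : Γ(X, U), a ∈ I ↔ a • s = 0 := fun a => by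
    simp only [I, LinearMap.mem_ker, LinearMap.toSpanSingleton_apply]
  have hrad : I.radical = ⊤ := by
    have h1 : Ideal.span (I.radical : Set Γ(X, U)) = ⊤ := by
      rw [← hU.self_le_iSup_basicOpen_iff]
      intro x hx
      obtain ⟨f, hxf, n, hn⟩ := h x hx
      rw [Opens.mem_iSup]
      exact ⟨⟨f, n, (hI _).2 hn⟩, hxf⟩
    rwa [Ideal.span_eq] at h1
  have hI' : I = ⊤ := Ideal.radical_eq_top.1 hrad
  have : (1 : Γ(X, U)) ∈ I := by rw [hI']; trivial
  simpa using (hI 1).1 this

theorem eq_zero_of_unitApp_eq_zero {P : X.PresheafOfModules} (hP : IsLocalizingOnAffines P)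
    {U : X.Opens} (hU : IsAffineOpen U) (s : P.obj (op U)) (h : unitApp P U s = 0) : s = 0 := by
  refine eq_zero_of_forall_exists_pow_smul_eq_zero hU s (fun x hx => ?_)
  obtain ⟨V, hV, hxV, hs⟩ := exists_pres_eq_zero_of_unitApp_eq_zero P s h x hx
  obtain ⟨f, hfV, hxf⟩ := hU.exists_basicOpen_le ⟨x, hxV⟩ hx
  refine ⟨f, hxf, hP.inj U hU f s ?_⟩
  rw [← pres_pres P hV hfV, hs, map_zero]

theorem unitApp_injective {P : X.PresheafOfModules} (hP : IsLocalizingOnAffines P)
    {U : X.Opens} (hU : IsAffineOpen U) : Function.Injective (unitApp P U) := by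
  rw [injective_iff_map_eq_zero]
  exact fun s hs => eq_zero_of_unitApp_eq_zero hP hU s hs

theorem smul_sub_aux {R M : Type*} [CommRing R] [AddCommGroup M] [Module R M] (a b : R) (x y : M)
    (h : x - y = 0) : (b * a) • x - (a * b) • y = 0 := by
  rw [mul_comm b a, ← smul_sub, h, smul_zero]

/-- Local data: over `D(f)`, `t` comes from a section whose `f ^ n`-multiple extends to `w`. -/
def LocData (P : X.PresheafOfModules) {U : X.Opens} (t : Γ(shf P, U)) (f : Γ(X, U)) (n : ℕ)
    (w : P.obj (op U)) : Prop :=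
  ∃ s : P.obj (op (X.basicOpen f)),
    unitApp P _ s = res (shf P) (X.basicOpen_le f) t ∧
    (X.presheaf.map (homOfLE (X.basicOpen_le f)).op f) ^ n • s = pres P (X.basicOpen_le f) w

theorem LocData.mono {P : X.PresheafOfModules} {U : X.Opens} {t : Γ(shf P, U)} {f : Γ(X, U)}
    {n : ℕ} {w : P.obj (op U)} (h : LocData P t f n w) (k : ℕ) :
    LocData P t f (n + k) (f ^ k • w) := by
  obtain ⟨s, hs1, hs2⟩ := h
  refine ⟨s, hs1, ?_⟩
  rw [pres_smul, map_pow, ← hs2, smul_smul, ← pow_add, add_comm]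

theorem LocData.compat {P : X.PresheafOfModules} (hP : IsLocalizingOnAffines P)
    {U : X.Opens} (hU : IsAffineOpen U) {t : Γ(shf P, U)} {f g : Γ(X, U)}
    {n : ℕ} {w w' : P.obj (op U)} (h : LocData P t f n w) (h' : LocData P t g n w') :
    ∃ m : ℕ, (f * g) ^ m • (g ^ n • w - f ^ n • w') = 0 := by
  obtain ⟨s, hs1, hs2⟩ := h
  obtain ⟨s', hs1', hs2'⟩ := h'
  have hDf : X.basicOpen (f * g) ≤ X.basicOpen f := by
    rw [Scheme.basicOpen_mul]; exact inf_le_left
  have hDg : X.basicOpen (f * g) ≤ X.basicOpen g := by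
    rw [Scheme.basicOpen_mul]; exact inf_le_right
  have hu : pres P hDf s - pres P hDg s' = 0 := by
    refine eq_zero_of_unitApp_eq_zero hP (hU.basicOpen (f * g)) _ ?_
    rw [map_sub, unitApp_res, unitApp_res, hs1, hs1', res_res, res_res, sub_self]
  refine hP.inj U hU (f * g) _ ?_
  have e1 : pres P (X.basicOpen_le (f * g)) w = pres P hDf (pres P (X.basicOpen_le f) w) :=
    (pres_pres P _ _ w).symm
  have e2 : pres P (X.basicOpen_le (f * g)) w' = pres P hDg (pres P (X.basicOpen_le g) w') :=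
    (pres_pres P _ _ w').symm
  rw [map_sub, pres_smul, pres_smul, e1, e2, ← hs2, ← hs2', pres_smul, pres_smul, map_pow,
    map_pow, map_pow, map_pow, map_map_apply, map_map_apply, smul_smul, smul_smul]
  exact smul_sub_aux _ _ _ _ hu

theorem unitApp_surjective {P : X.PresheafOfModules} (hP : IsLocalizingOnAffines P)
    {U : X.Opens} (hU : IsAffineOpen U) : Function.Surjective (unitApp P U) := by
  intro t
  classical
  let T : Set Γ(X, U) := {f | ∃ n w, LocData P t f n w}
  have hT : Ideal.span T = ⊤ := by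
    rw [← hU.self_le_iSup_basicOpen_iff]
    intro x hx
    obtain ⟨V, hV, s, hxV, hs⟩ := exists_unitApp_eq_res P t x hx
    obtain ⟨f, hfV, hxf⟩ := hU.exists_basicOpen_le ⟨x, hxV⟩ hx
    obtain ⟨n, w, hw⟩ := hP.surj U hU f (pres P hfV s)
    rw [Opens.mem_iSup]
    refine ⟨⟨f, n, w, pres P hfV s, ?_, hw⟩, hxf⟩
    rw [unitApp_res, hs, res_res]
  obtain ⟨F, hFT, hF⟩ := (Ideal.span_eq_top_iff_finite _).1 hT
  have hch : ∀ f : Γ(X, U), ∃ (n : ℕ) (w : P.obj (op U)), f ∈ F → LocData P t f n w := by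
    intro f
    by_cases hf : f ∈ F
    · obtain ⟨n, w, h⟩ := hFT hf
      exact ⟨n, w, fun _ => h⟩
    · exact ⟨0, 0, fun h => absurd h hf⟩
  choose n w hnw using hch
  let N := F.sup n
  let w' : Γ(X, U) → P.obj (op U) := fun f => f ^ (N - n f) • w f
  have hw' : ∀ f ∈ F, LocData P t f N (w' f) := by
    intro f hf
    have := (hnw f hf).mono (N - n f)
    rwa [Nat.add_sub_cancel' (Finset.le_sup hf)] at this
  have hc : ∀ p : Γ(X, U) × Γ(X, U), ∃ m : ℕ, p.1 ∈ F → p.2 ∈ F →
      (p.1 * p.2) ^ m • (p.2 ^ N • w' p.1 - p.1 ^ N • w' p.2) = 0 := by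
    intro p
    by_cases h1 : p.1 ∈ F
    · by_cases h2 : p.2 ∈ F
      · obtain ⟨m, hm⟩ := (hw' _ h1).compat hP hU (hw' _ h2)
        exact ⟨m, fun _ _ => hm⟩
      · exact ⟨0, fun _ h => absurd h h2⟩
    · exact ⟨0, fun h => absurd h h1⟩
  choose m hm using hc
  let M := (F ×ˢ F).sup m
  have hM : ∀ f ∈ F, ∀ g ∈ F, (f * g) ^ M • (g ^ N • w' f - f ^ N • w' g) = 0 := by
    intro f hf g hg
    have hle : m (f, g) ≤ M := Finset.le_sup (f := m) (Finset.mk_mem_product hf hg)
    have := hm (f, g) hf hg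
    rw [← Nat.sub_add_cancel hle, pow_add, mul_smul, this, smul_zero]
  have hspan : Ideal.span (Set.range fun i : F => (i : Γ(X, U)) ^ (N + M)) = ⊤ := by
    have := Ideal.span_pow_eq_top (F : Set Γ(X, U)) hF (N + M)
    convert this using 2
    ext y; simp
  obtain ⟨c, hc1⟩ := (Ideal.mem_span_range_iff_exists_fun).1
    (hspan ▸ Submodule.mem_top : (1 : Γ(X, U)) ∈ _)
  let a : Γ(X, U) → Γ(X, U) := fun f => if h : f ∈ F then c ⟨f, h⟩ else 0
  have ha : ∑ f ∈ F, a f * f ^ (N + M) = 1 := by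
    rw [← hc1, ← Finset.sum_coe_sort F]
    refine Finset.sum_congr rfl fun i _ => ?_
    simp only [a, dif_pos i.2]
  let s : P.obj (op U) := ∑ f ∈ F, (a f * f ^ M) • w' f
  have hs : ∀ g ∈ F, g ^ (N + M) • s = g ^ M • w' g :=
    fun g hg => glue_alg F w' a N M ha hM g hg
  refine ⟨s, ?_⟩
  refine section_ext _ _ _ fun x hx => ?_
  have hcov : U ≤ ⨆ f : (F : Set Γ(X, U)), X.basicOpen f.1 :=
    hU.self_le_iSup_basicOpen_iff.2 hF
  obtain ⟨⟨g, hg⟩, hxg⟩ := Opens.mem_iSup.1 (hcov hx)
  obtain ⟨sg, hsg1, hsg2⟩ := hw' g hg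
  have hres : pres P (X.basicOpen_le g) s = sg := by
    have hunit : IsUnit (X.presheaf.map (homOfLE (X.basicOpen_le g)).op g) :=
      RingedSpace.isUnit_res_basicOpen _ g
    have h1 : (X.presheaf.map (homOfLE (X.basicOpen_le g)).op g) ^ (N + M) •
        pres P (X.basicOpen_le g) s =
        (X.presheaf.map (homOfLE (X.basicOpen_le g)).op g) ^ (N + M) • sg := by
      calc (X.presheaf.map (homOfLE (X.basicOpen_le g)).op g) ^ (N + M) •
            pres P (X.basicOpen_le g) s = pres P (X.basicOpen_le g) (g ^ (N + M) • s) := by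
            rw [pres_smul, map_pow]
        _ = pres P (X.basicOpen_le g) (g ^ M • w' g) := by rw [hs g hg]
        _ = (X.presheaf.map (homOfLE (X.basicOpen_le g)).op g) ^ M •
            pres P (X.basicOpen_le g) (w' g) := by rw [pres_smul, map_pow]
        _ = _ := by rw [← hsg2, smul_smul, ← pow_add, add_comm]
    exact (hunit.pow (N + M)).smul_left_cancel.1 h1
  rw [← germ_res (shf P) (X.basicOpen_le g) x hxg, ← unitApp_res, hres, hsg1, germ_res]

theorem unitApp_bijective {P : X.PresheafOfModules} (hP : IsLocalizingOnAffines P)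
    {U : X.Opens} (hU : IsAffineOpen U) : Function.Bijective (unitApp P U) :=
  ⟨unitApp_injective hP hU, unitApp_surjective hP hU⟩

end Groth.Agent.Lib.Helper29.QCoh
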