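import Mathlib

set_option autoImplicit false
universe u
open CategoryTheory CategoryTheory.Limits AlgebraicGeometry TopologicalSpace Opposite

namespace Groth.Agent.Lib.Helper29.RatDef

theorem res_eq_zero_of_eq {X : Scheme.{u}} {U V V' : X.Opens} (h : V = V') (hV : V ≤ U)
    (hV' : V' ≤ U) (s : Γ(X, U)) (hs : X.presheaf.map (homOfLE hV).op s = 0) :
    X.presheaf.map (homOfLE hV').op s = 0 := by
  subst h; exact hs

theorem res_top_injective {X : Scheme.{u}} {V : X.Opens} (h : V = ⊤) :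
    Function.Injective (X.presheaf.map (homOfLE (le_top : V ≤ ⊤)).op) := by
  subst h
  have : (homOfLE (le_top : (⊤ : X.Opens) ≤ ⊤)) = 𝟙 _ := Subsingleton.elim _ _
  rw [this, op_id, X.presheaf.map_id]
  exact fun a b hab => hab

/-- Reduced scheme with locally finitely many irreducible components is germ-injective. -/
theorem isGermInjectiveAt_of_isReduced (X : Scheme.{u}) [IsReduced X] (x : X)
    (W₀ : X.Opens) (hxW₀ : x ∈ W₀)
    (hfin : {Z : Set ↥X | Z ∈ irreducibleComponents ↥X ∧ (Z ∩ (W₀ : Set ↥X)).Nonempty}.Finite) :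
    X.IsGermInjectiveAt x := by
  classical
  set S := {Z : Set ↥X | Z ∈ irreducibleComponents ↥X ∧ (Z ∩ (W₀ : Set ↥X)).Nonempty} with hS
  set C : Set X := ⋃ Z ∈ {Z ∈ S | x ∉ Z}, Z with hC
  have hCclosed : IsClosed C := by
    apply Set.Finite.isClosed_biUnion (hfin.subset (fun Z hZ => hZ.1))
    intro Z hZ; exact isClosed_of_mem_irreducibleComponents Z hZ.1.1
  have hxC : x ∉ C := by
    simp only [hC, Set.mem_iUnion, not_exists]; intro Z hZ hx; exact hZ.2 hx
  let W₁ : X.Opens := W₀ ⊓ ⟨Cᶜ, hCclosed.isOpen_compl⟩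
  have hxW₁ : x ∈ W₁ := ⟨hxW₀, hxC⟩
  obtain ⟨_, ⟨W, hW, rfl⟩, hxW, hWW₁⟩ :=
    X.isBasis_affineOpens.exists_subset_of_mem_open hxW₁ W₁.2
  refine ⟨⟨W, hxW, hW, ?_⟩⟩
  rw [injective_iff_map_eq_zero]
  intro s hs
  obtain ⟨N, hxN, i1, i2, hsN⟩ := X.presheaf.germ_eq x hxW hxW s 0 (by rw [hs, map_zero])
  rw [map_zero] at hsN
  rw [← basicOpen_eq_bot_iff]
  by_contra hne
  obtain ⟨y, hy⟩ : ∃ y, y ∈ X.basicOpen s := by
    by_contra h; push Not at h; apply hne; ext z
    simp only [Opens.coe_bot, Set.mem_empty_iff_false, iff_false]; exact h z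
  have hyW : y ∈ W := X.basicOpen_le s hy
  set Z := irreducibleComponent y with hZdef
  have hZ : Z ∈ irreducibleComponents X := irreducibleComponent_mem_irreducibleComponents y
  have hyZ : y ∈ Z := mem_irreducibleComponent
  have hZS : Z ∈ S := ⟨hZ, ⟨y, hyZ, (hWW₁ hyW).1⟩⟩
  have hxZ : x ∈ Z := by
    by_contra hx
    have : y ∈ C := Set.mem_biUnion (show Z ∈ {Z ∈ S | x ∉ Z} from ⟨hZS, hx⟩) hyZ
    exact (hWW₁ hyW).2 this
  have hirr : IsIrreducible Z := hZ.1
  obtain ⟨z, hzZ, hz1, hz2⟩ := hirr.2 (X.basicOpen s) N (X.basicOpen s).2 N.2 ⟨y, hyZ, hy⟩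
    ⟨x, hxZ, hxN⟩
  have hz : z ∈ X.basicOpen (X.presheaf.map i1.op s) := by
    rw [Scheme.basicOpen_res]; exact ⟨hz2, hz1⟩
  rw [hsN] at hz
  simp at hz

theorem app_fromSpecStalk_injective {X : Scheme.{u}} (x : X) (W : X.Opens) (hW : IsAffineOpen W)
    (hxW : x ∈ W) (hinj : Function.Injective (X.presheaf.germ W x hxW)) (g : Γ(X, W)) :
    Function.Injective ((X.fromSpecStalk x).app (X.basicOpen g)) := by
  set f := X.fromSpecStalk x with hf
  rw [injective_iff_map_eq_zero]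
  intro s hs
  have := hW.isLocalization_basicOpen g
  obtain ⟨a, ⟨_, n, rfl⟩, rfl⟩ := IsLocalization.exists_mk'_eq (Submonoid.powers g) s
  have h2 : (f.app (X.basicOpen g)) (algebraMap Γ(X, W) Γ(X, X.basicOpen g) a) = 0 := by
    rw [← IsLocalization.mk'_spec (M := Submonoid.powers g) Γ(X, X.basicOpen g) a ⟨g ^ n, n, rfl⟩,
      map_mul, hs, zero_mul]
  rw [RingHom.algebraMap_toAlgebra] at h2
  have htop : f ⁻¹ᵁ W = ⊤ := by
    ext y
    simp only [Scheme.Hom.coe_preimage, Set.mem_preimage, SetLike.mem_coe, Opens.coe_top,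
      Set.mem_univ, iff_true]
    have h1 : f y ∈ Set.range f := ⟨y, rfl⟩
    rw [hf, Scheme.range_fromSpecStalk] at h1
    exact h1.mem_open W.2 hxW
  have hWaff : IsAffineOpen (f ⁻¹ᵁ W) := by rw [htop]; exact isAffineOpen_top _
  have h3 : ((Spec (X.presheaf.stalk x)).presheaf.map
      (homOfLE (f.preimage_mono (X.basicOpen_le g))).op) (f.app W a) = 0 := by
    have := congr($(f.naturality (homOfLE (X.basicOpen_le g)).op) a)
    simp only [CommRingCat.comp_apply] at this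
    rw [← h2]
    exact this.symm
  have hpre : f ⁻¹ᵁ X.basicOpen g = (Spec _).basicOpen (f.app W g) := Scheme.preimage_basicOpen f g
  obtain ⟨m, hm⟩ : ∃ m : ℕ, (f.app W g) ^ m * (f.app W a) = 0 := by
    apply exists_pow_mul_eq_zero_of_res_basicOpen_eq_zero_of_isAffineOpen _ hWaff
    exact res_eq_zero_of_eq hpre (f.preimage_mono (X.basicOpen_le g))
      ((Spec _).basicOpen_le _) _ h3
  have h4 : f.app W (g ^ m * a) = 0 := by rw [map_mul, map_pow, hm]
  rw [hf, Scheme.fromSpecStalk_app hxW] at h4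
  simp only [CommRingCat.comp_apply] at h4
  have h5 : (Scheme.ΓSpecIso (X.presheaf.stalk x)).inv (X.presheaf.germ W x hxW (g ^ m * a)) = 0 := by
    apply res_top_injective (hf ▸ htop)
    rw [map_zero]; exact h4
  have h5' : X.presheaf.germ W x hxW (g ^ m * a) = 0 := by
    have := congr((Scheme.ΓSpecIso (X.presheaf.stalk x)).hom $h5)
    simpa using this
  have h6 : g ^ m * a = 0 := hinj (by rw [h5', map_zero])
  rw [IsLocalization.mk'_eq_zero_iff]
  exact ⟨⟨g ^ m, m, rfl⟩, h6⟩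

theorem appTop_morphismRestrict_injective {X Y : Scheme.{u}} (f : X ⟶ Y) (D : Y.Opens)
    (h : Function.Injective (f.app D)) : Function.Injective (f ∣_ D).appTop := by
  rw [morphismRestrict_appTop]
  have key : ∀ (D' : Y.Opens) (e : D' = D), Function.Injective (f.app D') := by
    rintro _ rfl; exact h
  have h1 := key (D.ι ''ᵁ ⊤) (by simp)
  intro a b hab
  simp only [CommRingCat.comp_apply] at hab
  apply h1
  have hinj2 : Function.Injective (X.presheaf.map
      (eqToHom (image_morphismRestrict_preimage f D ⊤)).op) := by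
    have : IsIso (X.presheaf.map (eqToHom (image_morphismRestrict_preimage f D ⊤)).op) :=
      inferInstance
    exact ((ConcreteCategory.isIso_iff_bijective _).mp this).1
  exact hinj2 hab

theorem eq_of_germInjective {X Y S : Scheme.{u}} (pX : X ⟶ S) (pY : Y ⟶ S) [IsSeparated pY]
    (x : X) (W : X.Opens) (hW : IsAffineOpen W) (hxW : x ∈ W)
    (hinj : Function.Injective (X.presheaf.germ W x hxW)) (g : Γ(X, W))
    (a b : (X.basicOpen g : Scheme.{u}) ⟶ Y) (ha : a ≫ pY = (X.basicOpen g).ι ≫ pX)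
    (hb : b ≫ pY = (X.basicOpen g).ι ≫ pX)
    (hab : (X.fromSpecStalk x ∣_ X.basicOpen g) ≫ a = (X.fromSpecStalk x ∣_ X.basicOpen g) ≫ b) :
    a = b := by
  let Do : Over S := Over.mk ((X.basicOpen g).ι ≫ pX)
  let Yo : Over S := Over.mk pY
  haveI : IsSeparated Yo.hom := ‹IsSeparated pY›
  haveI : IsAffine Do.left := hW.basicOpen g
  let a' : Do ⟶ Yo := Over.homMk a ha
  let b' : Do ⟶ Yo := Over.homMk b hb
  let Qo : Over S := Over.mk ((X.fromSpecStalk x ∣_ X.basicOpen g) ≫ (X.basicOpen g).ι ≫ pX)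
  let q' : Qo ⟶ Do := Over.homMk (X.fromSpecStalk x ∣_ X.basicOpen g) rfl
  have hq' : q' ≫ a' = q' ≫ b' := by
    ext; exact hab
  let l : Qo ⟶ equalizer a' b' := equalizer.lift q' hq'
  have hl : l ≫ equalizer.ι a' b' = q' := equalizer.lift_ι _ _
  have hl' : l.left ≫ (equalizer.ι a' b').left = (X.fromSpecStalk x ∣_ X.basicOpen g) := by
    rw [← Over.comp_left, hl]; rfl
  have hqinj : Function.Injective (X.fromSpecStalk x ∣_ X.basicOpen g).appTop :=
    appTop_morphismRestrict_injective _ _ (app_fromSpecStalk_injective x W hW hxW hinj g)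
  have hιinj : Function.Injective (equalizer.ι a' b').left.appTop := by
    have h1 : (X.fromSpecStalk x ∣_ X.basicOpen g).appTop =
        (equalizer.ι a' b').left.appTop ≫ l.left.appTop := by
      rw [← Scheme.Hom.comp_appTop, hl']
    intro s t hst
    apply hqinj
    rw [h1]
    simp only [CommRingCat.comp_apply, hst]
  haveI : IsIso (equalizer.ι a' b').left :=
    IsClosedImmersion.isIso_of_injective_of_isAffine hιinj
  have hcond := congr($(equalizer.condition a' b').left)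
  simp only [Over.comp_left] at hcond
  have hcond' : (equalizer.ι a' b').left ≫ a = (equalizer.ι a' b').left ≫ b := hcond
  exact (cancel_epi (equalizer.ι a' b').left).mp hcond'

theorem hom_ext_of_basis {X Y : Scheme.{u}} (T : X.Opens) (f g : (T : Scheme.{u}) ⟶ Y)
    (H : ∀ t : X, t ∈ T → ∃ (D : X.Opens) (hD : D ≤ T), t ∈ D ∧
      X.homOfLE hD ≫ f = X.homOfLE hD ≫ g) : f = g := by
  choose D hD htD hfg using H
  let 𝒰 : (T : Scheme.{u}).OpenCover := {
    I₀ := T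
    X := fun i => (D i.1 i.2 : Scheme.{u})
    f := fun i => X.homOfLE (hD i.1 i.2)
    mem₀ := by
      rw [Scheme.presieve₀_mem_precoverage_iff]
      refine ⟨fun t => ⟨t, ⟨⟨t.1, htD t.1 t.2⟩, ?_⟩⟩, inferInstance⟩
      apply Subtype.ext
      simp }
  exact 𝒰.hom_ext _ _ (fun i => hfg i.1 i.2)

theorem exists_extension {X Y S : Scheme.{u}} (pX : X ⟶ S) (pY : Y ⟶ S) [IsSeparated pY]
    [LocallyOfFiniteType pY]
    (U : X.Opens) (h : (U : Scheme.{u}) ⟶ Y) (hh : h ≫ pY = U.ι ≫ pX) (x : X)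
    [X.IsGermInjectiveAt x]
    (w : Spec (X.presheaf.stalk x) ⟶ Y) (hw : w ≫ pY = X.fromSpecStalk x ≫ pX)
    (hwh : pullback.fst (X.fromSpecStalk x) U.ι ≫ w = pullback.snd (X.fromSpecStalk x) U.ι ≫ h) :
    ∃ (V : X.Opens) (v : (V : Scheme.{u}) ⟶ Y), x ∈ V ∧ v ≫ pY = V.ι ≫ pX ∧
        X.homOfLE (inf_le_right : U ⊓ V ≤ V) ≫ v = X.homOfLE (inf_le_left : U ⊓ V ≤ U) ≫ h := by
  obtain ⟨V₀, hxV₀, v₀, hwv, hv₀⟩ := spread_out_of_isGermInjective' pX pY w hw
  obtain ⟨W, hxW, hW, hWV₀, hinj⟩ := X.exists_le_and_germ_injective x V₀ hxV₀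
  refine ⟨W, X.homOfLE hWV₀ ≫ v₀, hxW, by simp [hv₀], ?_⟩
  apply hom_ext_of_basis
  intro t ht
  obtain ⟨g, hgle, htg⟩ := hW.exists_basicOpen_le (V := U ⊓ W) ⟨t, ht⟩ ht.2
  refine ⟨X.basicOpen g, hgle, htg, ?_⟩
  simp only [Scheme.homOfLE_homOfLE_assoc]
  set f := X.fromSpecStalk x with hf
  set D := X.basicOpen g with hD
  have hDV₀ : D ≤ V₀ := hgle.trans (inf_le_right.trans hWV₀)
  have hDU : D ≤ U := hgle.trans inf_le_left
  set q := f ∣_ D with hq
  apply eq_of_germInjective pX pY x W hW hxW hinj g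
  · simp [hv₀]
  · simp [hh]
  · -- both equal (f⁻¹D).ι ≫ w
    have e1 : (f ⁻¹ᵁ D).ι ≫ V₀.fromSpecStalkOfMem x hxV₀ = q ≫ X.homOfLE hDV₀ := by
      rw [← cancel_mono V₀.ι]
      simp only [Category.assoc, Scheme.Opens.fromSpecStalkOfMem_ι, Scheme.homOfLE_ι, hq,
        morphismRestrict_ι]
      rfl
    have e2 : (f ⁻¹ᵁ D).ι ≫ w = q ≫ X.homOfLE hDV₀ ≫ v₀ := by
      rw [hwv, ← Category.assoc, e1, Category.assoc]
    have hl : (f ⁻¹ᵁ D).ι ≫ f = (q ≫ X.homOfLE hDU) ≫ U.ι := by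
      simp only [Category.assoc, Scheme.homOfLE_ι, hq, morphismRestrict_ι]
    have e3 : (f ⁻¹ᵁ D).ι ≫ w = q ≫ X.homOfLE hDU ≫ h := by
      have := congr(pullback.lift (f ⁻¹ᵁ D).ι (q ≫ X.homOfLE hDU) hl ≫ $hwh)
      simpa only [pullback.lift_fst_assoc, pullback.lift_snd_assoc, Category.assoc] using this
    rw [← e2, e3]

theorem exists_restriction {X Y S : Scheme.{u}} (pX : X ⟶ S) (pY : Y ⟶ S)
    (U : X.Opens) (h : (U : Scheme.{u}) ⟶ Y) (x : X)
    (V : X.Opens) (v : (V : Scheme.{u}) ⟶ Y) (hxV : x ∈ V) (hv : v ≫ pY = V.ι ≫ pX)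
    (hvh : X.homOfLE (inf_le_right : U ⊓ V ≤ V) ≫ v = X.homOfLE (inf_le_left : U ⊓ V ≤ U) ≫ h) :
    ∃ w : Spec (X.presheaf.stalk x) ⟶ Y, w ≫ pY = X.fromSpecStalk x ≫ pX ∧
        pullback.fst (X.fromSpecStalk x) U.ι ≫ w = pullback.snd (X.fromSpecStalk x) U.ι ≫ h := by
  refine ⟨V.fromSpecStalkOfMem x hxV ≫ v, ?_, ?_⟩
  · rw [Category.assoc, hv, ← Category.assoc, Scheme.Opens.fromSpecStalkOfMem_ι]
  · set f := X.fromSpecStalk x with hf
    have hrange : Set.range (pullback.snd f U.ι ≫ U.ι).base ⊆ Set.range (U ⊓ V).ι.base := by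
      rintro _ ⟨p, rfl⟩
      rw [Scheme.Opens.range_ι]
      refine ⟨?_, ?_⟩
      · rw [Scheme.Hom.comp_apply]; exact (pullback.snd f U.ι p).2
      · rw [← pullback.condition, Scheme.Hom.comp_apply]
        have key : ∀ z, f z = V.ι (V.fromSpecStalkOfMem x hxV z) := fun z => by
          have h0 : V.fromSpecStalkOfMem x hxV ≫ V.ι = f := Scheme.Opens.fromSpecStalkOfMem_ι _ _ _
          rw [← Scheme.Hom.comp_apply, h0]
        rw [key]
        exact (V.fromSpecStalkOfMem x hxV (pullback.fst f U.ι p)).2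
    let t := IsOpenImmersion.lift (U ⊓ V).ι (pullback.snd f U.ι ≫ U.ι) hrange
    have ht : t ≫ (U ⊓ V).ι = pullback.snd f U.ι ≫ U.ι := IsOpenImmersion.lift_fac _ _ _
    have e1 : t ≫ X.homOfLE (inf_le_right : U ⊓ V ≤ V) = pullback.fst f U.ι ≫ V.fromSpecStalkOfMem x hxV := by
      rw [← cancel_mono V.ι]
      simp only [Category.assoc, Scheme.homOfLE_ι, ht, Scheme.Opens.fromSpecStalkOfMem_ι]
      exact pullback.condition.symm
    have e2 : t ≫ X.homOfLE (inf_le_left : U ⊓ V ≤ U) = pullback.snd f U.ι := by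
      rw [← cancel_mono U.ι]
      simp only [Category.assoc, Scheme.homOfLE_ι, ht]
    rw [← Category.assoc, ← e1, Category.assoc, hvh, ← Category.assoc, e2]

end Groth.Agent.Lib.Helper29.RatDef
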