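import Groth.Agent.Lib.Helper29.PullSect
import Groth.Prelude.Def_LinSer
universe u
open CategoryTheory CategoryTheory.Limits AlgebraicGeometry TopologicalSpace Opposite

/-! # Rational points impose at most one condition each on a linear system -/

namespace Groth.Agent.Lib.Helper29.RatPts
open Groth.Agent.Lib.Helper29.QCoh

theorem opens_eq_top_of_mem {k : Type u} [Field k] (W : (Spec (CommRingCat.of k)).Opens)
    (x : Spec (CommRingCat.of k)) (hx : x ∈ W) : W = ⊤ := by
  rw [eq_top_iff]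
  intro y _
  have : y = x := Subsingleton.elim (α := PrimeSpectrum k) y x
  rw [this]; exact hx

theorem not_isTriv_zero {Y : Scheme.{u}} (P : Y.Modules) (W : Y.Opens) (y : Y) (hy : y ∈ W) :
    ¬ IsTriv P W (0 : Γ(P, W)) := by
  intro h
  have h1 := (h W le_rfl).1
  have h2 : (1 : Γ(Y, W)) = 0 := by
    apply h1
    simp
  have h3 := congrArg (Y.presheaf.germ W y hy).hom h2
  rw [map_one, map_zero] at h3
  exact one_ne_zero h3

variable (k : Type u) [Field k] (X : Scheme.{u}) [X.Over (Spec (CommRingCat.of k))]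

theorem exists_vanishing (L : X.Modules) (hL : PicF.IsInvertible L)
    (n : ℕ) (p : Fin n → (Spec (CommRingCat.of k) ⟶ X))
    (hp : ∀ i, p i ≫ (X ↘ Spec (CommRingCat.of k)) = 𝟙 _)
    (t : Fin (n + 1) → (unitM X ⟶ L))
    (ht : LinSer.LinIndep k X L (fun j => sval (t j) ⊤)) :
    ∃ s : unitM X ⟶ L, s ≠ 0 ∧
      ∀ i, (p i) (IsLocalRing.closedPoint k) ∉ CohB1.genLocus L s := by
  classical
  set pt : Spec (CommRingCat.of k) := IsLocalRing.closedPoint k with hpt
  let ρ : k →+* Γ(Spec (CommRingCat.of k), ⊤) := (Scheme.ΓSpecIso (CommRingCat.of k)).inv.hom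
  have hρ : Function.Bijective ρ :=
    ConcreteCategory.bijective_of_isIso (Scheme.ΓSpecIso (CommRingCat.of k)).inv
  let g : k →+* Γ(X, ⊤) := Coh.toGlobal (X ↘ Spec (CommRingCat.of k))
  let ρ' : ∀ i : Fin n, k →+* Γ(Spec (CommRingCat.of k), (p i) ⁻¹ᵁ ⊤) := fun _ => ρ
  have hρ' : ∀ i, Function.Bijective (ρ' i) := fun _ => hρ
  have hρp : ∀ i (c : k), (p i).app ⊤ (g c) = ρ' i c := by
    intro i c
    have h1 := congrArg (fun q => (Scheme.Hom.appTop q).hom (ρ c)) (hp i)
    simp only [Scheme.Hom.comp_appTop, Scheme.Hom.id_appTop] at h1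
    exact h1
  -- trivialisations of the pullbacks
  have htriv : ∀ i, ∃ e : Γ((Scheme.Modules.pullback (p i)).obj L, (p i) ⁻¹ᵁ ⊤),
      IsTriv ((Scheme.Modules.pullback (p i)).obj L) ((p i) ⁻¹ᵁ ⊤) e := by
    intro i
    obtain ⟨U, e, hU, he⟩ := exists_isTriv (isInvertible_pullback (p i) hL) pt
    have hU' : U = ⊤ := opens_eq_top_of_mem U pt hU
    subst hU'
    exact ⟨e, he⟩
  choose e he using htriv
  have hcoef : ∀ i j, ∃ a : k, pullSect (p i) L ⊤ (sval (t j) ⊤) = ρ' i a • e i := by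
    intro i j
    obtain ⟨a', ha'⟩ := (he i).exists_eq_smul (pullSect (p i) L ⊤ (sval (t j) ⊤))
    obtain ⟨a, rfl⟩ := (hρ' i).2 a'
    exact ⟨a, ha'⟩
  choose A hA using hcoef
  -- linear algebra
  let Φ : (Fin (n + 1) → k) →ₗ[k] (Fin n → k) := Matrix.mulVecLin (Matrix.of A)
  have hker : ∃ c : Fin (n + 1) → k, c ≠ 0 ∧ Φ c = 0 := by
    by_contra hcon
    push Not at hcon
    have hinj : Function.Injective Φ := by
      rw [← LinearMap.ker_eq_bot, LinearMap.ker_eq_bot']
      intro c hc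
      by_contra hc0
      exact hcon c hc0 hc
    have := LinearMap.finrank_le_finrank_of_injective hinj
    simp at this
  obtain ⟨c, hc0, hc⟩ := hker
  have hc' : ∀ i, ∑ j, A i j * c j = 0 := by
    intro i
    have := congrFun hc i
    simpa [Φ, Matrix.mulVec, dotProduct] using this
  set σ : Γ(L, ⊤) := ∑ j, g (c j) • sval (t j) ⊤ with hσ
  have hpull : ∀ i, pullSect (p i) L ⊤ σ = 0 := by
    intro i
    rw [hσ, map_sum]
    have hj : ∀ j, pullSect (p i) L ⊤ (g (c j) • sval (t j) ⊤) =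
        ρ' i (A i j * c j) • e i := by
      intro j
      rw [pullSect_smul, hA, hρp, smul_smul, ← map_mul, mul_comm]
    rw [Finset.sum_congr rfl (fun j _ => hj j)]
    rw [← Finset.sum_smul, ← map_sum, hc' i, map_zero, zero_smul]
  refine ⟨homOfSection L σ, ?_, ?_⟩
  · intro h0
    have h1 : sval (homOfSection L σ) ⊤ = σ := by
      rw [sval_homOfSection, res_self]
    rw [h0] at h1
    have h2 : σ = 0 := by
      rw [← h1]
      exact map_zero (appₗ (0 : unitM X ⟶ L) ⊤).toAddMonoidHom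
    exact hc0 (ht c h2)
  · intro i hi
    set G := CohB1.genLocus L (homOfSection L σ) with hG
    have h1 : IsTriv L G (sval (homOfSection L σ) G) :=
      isTriv_sval_of_le_genLocus (homOfSection L σ) le_rfl
    have h2 := h1.pullSect (p i)
    rw [sval_homOfSection, pullSect_res, hpull i, map_zero] at h2
    exact not_isTriv_zero _ _ pt hi h2

end Groth.Agent.Lib.Helper29.RatPts
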