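import Groth.Agent.Lib.Helper29.RTrans
import Groth.Agent.Lib.Helper29.GModCoef
import Groth.Prelude.Def_W4bk4grossh1223Act

/-! The comparison `B ⊗[k] Γ(G) ≃ Γ(Spec B × G)` over a field (helper29, for S11212). -/

set_option autoImplicit false
universe u
open CategoryTheory MonoidalCategory CartesianMonoidalCategory MonObj AlgebraicGeometry Opposite
open TensorProduct

namespace Groth.Agent.Lib.Helper29.RegRep

open Groth.Agent.Lib.Helper29.AffAttr Groth.Agent.Lib.Helper29.RTrans

variable {k : Type u} [Field k]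

/-- the `k`-algebra structure on the global functions of a `k`-scheme. -/
@[reducible] noncomputable def algk (P : Over (Spec (CommRingCat.of k))) : Algebra k Γ(P.left, ⊤) :=
  ((Scheme.ΓSpecIso (CommRingCat.of k)).inv ≫ P.hom.appTop).hom.toAlgebra

attribute [local instance] algk

theorem algebraMap_algk (P : Over (Spec (CommRingCat.of k))) (c : k) :
    algebraMap k Γ(P.left, ⊤) c = P.hom.appTop.hom ((Scheme.ΓSpecIso (CommRingCat.of k)).inv.hom c) :=
  rfl

/-- pullback of functions as a `k`-algebra map. -/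
noncomputable def appK {P P' : Over (Spec (CommRingCat.of k))} (f : P ⟶ P') :
    Γ(P'.left, ⊤) →ₐ[k] Γ(P.left, ⊤) :=
  { f.left.appTop.hom with
    commutes' := fun r => by
      change f.left.appTop.hom (P'.hom.appTop.hom _) = P.hom.appTop.hom _
      rw [← CommRingCat.comp_apply, ← Scheme.Hom.comp_appTop, Over.w] }

theorem appK_apply {P P' : Over (Spec (CommRingCat.of k))} (f : P ⟶ P') (s : Γ(P'.left, ⊤)) :
    appK f s = f.left.appTop.hom s := rfl

theorem appK_comp {P P' P'' : Over (Spec (CommRingCat.of k))} (f : P ⟶ P') (g : P' ⟶ P'')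
    (s : Γ(P''.left, ⊤)) : appK (f ≫ g) s = appK f (appK g s) := by
  simp only [appK_apply, Over.comp_left, Scheme.Hom.comp_appTop, CommRingCat.comp_apply]

theorem appK_id {P : Over (Spec (CommRingCat.of k))} (s : Γ(P.left, ⊤)) : appK (𝟙 P) s = s := by
  simp [appK_apply]

section Iota

variable (B : Type u) [CommRing B] [Algebra k B]

/-- `B → Γ(Spec B)` as a `k`-algebra map. -/
noncomputable def iotaB : B →ₐ[k] Γ((VecGrp.pt k B).left, ⊤) :=
  { (Scheme.ΓSpecIso (CommRingCat.of B)).inv.hom with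
    commutes' := fun r => by
      change (Scheme.ΓSpecIso (CommRingCat.of B)).inv.hom (algebraMap k B r) =
        (Spec.map (CommRingCat.ofHom (algebraMap k B))).appTop.hom
          ((Scheme.ΓSpecIso (CommRingCat.of k)).inv.hom r)
      have h := Scheme.ΓSpecIso_inv_naturality (CommRingCat.ofHom (algebraMap k B))
      exact congrArg (fun t : CommRingCat.of k ⟶ Γ(Spec (CommRingCat.of B), ⊤) => t.hom r) h }

theorem iotaB_apply (b : B) : iotaB (k := k) B b = (Scheme.ΓSpecIso (CommRingCat.of B)).inv.hom b := rfl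

end Iota

section Theta

variable (B : Type u) [CommRing B] [Algebra k B] (G : Over (Spec (CommRingCat.of k)))

/-- the comparison map `B ⊗[k] Γ(G) → Γ(Spec B × G)`. -/
noncomputable def θ : B ⊗[k] Γ(G.left, ⊤) →ₐ[k] Γ((VecGrp.pt k B ⊗ G).left, ⊤) :=
  Algebra.TensorProduct.productMap
    ((appK (CartesianMonoidalCategory.fst (VecGrp.pt k B) G)).comp (iotaB B))
    (appK (CartesianMonoidalCategory.snd (VecGrp.pt k B) G))

theorem θ_tmul (b : B) (f : Γ(G.left, ⊤)) :
    θ B G (b ⊗ₜ f) = appK (CartesianMonoidalCategory.fst (VecGrp.pt k B) G) (iotaB B b) *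
      appK (CartesianMonoidalCategory.snd (VecGrp.pt k B) G) f := by
  simp [θ]

theorem isPushout_k [IsAffine G.left] :
    IsPushout (CommRingCat.ofHom (algebraMap k B))
      ((Scheme.ΓSpecIso (CommRingCat.of k)).inv ≫ G.hom.appTop)
      ((Scheme.ΓSpecIso (CommRingCat.of B)).inv ≫
        (CartesianMonoidalCategory.fst (VecGrp.pt k B) G).left.appTop)
      (CartesianMonoidalCategory.snd (VecGrp.pt k B) G).left.appTop := by
  haveI : IsAffine (VecGrp.pt k B).left := inferInstanceAs (IsAffine (Spec (CommRingCat.of B)))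
  refine (AffAttr.isPushout_Γ (VecGrp.pt k B) G).of_iso (Scheme.ΓSpecIso (CommRingCat.of k))
    (Scheme.ΓSpecIso (CommRingCat.of B)) (Iso.refl _) (Iso.refl _) ?_ ?_ ?_ ?_
  · exact Scheme.ΓSpecIso_naturality (CommRingCat.ofHom (algebraMap k B))
  · rw [Iso.refl_hom, Category.comp_id, Iso.hom_inv_id_assoc]
  · rw [Iso.refl_hom, Category.comp_id, Iso.hom_inv_id_assoc]
  · rw [Iso.refl_hom, Category.comp_id, Iso.refl_hom, Category.id_comp]

theorem θ_bijective [IsAffine G.left] : Function.Bijective (θ B G) := by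
  refine AffAttrAlg.bijective_of_isPushout (R := CommRingCat.of k) (A := CommRingCat.of B)
    (isPushout_k B G) rfl rfl (θ B G).toRingHom ?_ ?_
  · intro x
    change θ B G (x ⊗ₜ 1) = _
    rw [θ_tmul, map_one, _root_.mul_one]
    rfl
  · intro y
    change θ B G (1 ⊗ₜ y) = _
    rw [θ_tmul, map_one, map_one, _root_.one_mul]
    rfl

/-- the comparison isomorphism `B ⊗[k] Γ(G) ≃ Γ(Spec B × G)`. -/
noncomputable def θe [IsAffine G.left] :
    B ⊗[k] Γ(G.left, ⊤) ≃ₐ[k] Γ((VecGrp.pt k B ⊗ G).left, ⊤) :=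
  AlgEquiv.ofBijective (θ B G) (θ_bijective B G)

theorem θe_apply [IsAffine G.left] (z : B ⊗[k] Γ(G.left, ⊤)) : θe B G z = θ B G z := rfl

end Theta

section Tau

variable {G : Over (Spec (CommRingCat.of k))} [GrpObj G]

/-- right translation of `T × G` by a `T`-point of `G`. -/
noncomputable def τ {T : Over (Spec (CommRingCat.of k))} (g : T ⟶ G) : T ⊗ G ⟶ T ⊗ G :=
  lift (CartesianMonoidalCategory.fst T G)
    (CartesianMonoidalCategory.snd T G * (CartesianMonoidalCategory.fst T G ≫ g))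

theorem τ_fst {T : Over (Spec (CommRingCat.of k))} (g : T ⟶ G) :
    τ g ≫ CartesianMonoidalCategory.fst T G = CartesianMonoidalCategory.fst T G := lift_fst _ _

theorem τ_snd {T : Over (Spec (CommRingCat.of k))} (g : T ⟶ G) :
    τ g ≫ CartesianMonoidalCategory.snd T G =
      CartesianMonoidalCategory.snd T G * (CartesianMonoidalCategory.fst T G ≫ g) := lift_snd _ _

theorem τ_one (T : Over (Spec (CommRingCat.of k))) : τ (1 : T ⟶ G) = 𝟙 _ := by
  apply CartesianMonoidalCategory.hom_ext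
  · rw [τ_fst, Category.id_comp]
  · rw [τ_snd, MonObj.comp_one, _root_.mul_one, Category.id_comp]

theorem τ_mul {T : Over (Spec (CommRingCat.of k))} (g g' : T ⟶ G) : τ (g * g') = τ g ≫ τ g' := by
  apply CartesianMonoidalCategory.hom_ext
  · rw [τ_fst, Category.assoc, τ_fst, τ_fst]
  · rw [τ_snd, Category.assoc, τ_snd, MonObj.comp_mul, MonObj.comp_mul, τ_snd, ← Category.assoc,
      τ_fst, _root_.mul_assoc]

theorem τ_nat {T' T : Over (Spec (CommRingCat.of k))} (u : T' ⟶ T) (g : T ⟶ G) :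
    (u ▷ G) ≫ τ g = τ (u ≫ g) ≫ (u ▷ G) := by
  apply CartesianMonoidalCategory.hom_ext
  · rw [Category.assoc, τ_fst, Category.assoc, whiskerRight_fst, ← Category.assoc, τ_fst]
  · rw [Category.assoc, τ_snd, Category.assoc, whiskerRight_snd, τ_snd, MonObj.comp_mul,
      whiskerRight_snd, ← Category.assoc, whiskerRight_fst, Category.assoc]

end Tau

section Rho

variable {G : Over (Spec (CommRingCat.of k))} [GrpObj G] [IsAffine G.left]
  (B : Type u) [CommRing B] [Algebra k B]

/-- right translation by a `B`-point on `B ⊗ Γ(G)`, as a `k`-algebra map. -/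
noncomputable def rho (g : VecGrp.pt k B ⟶ G) : B ⊗[k] Γ(G.left, ⊤) →ₐ[k] B ⊗[k] Γ(G.left, ⊤) :=
  ((θe B G).symm : _ →ₐ[k] _).comp ((appK (τ g)).comp (θe B G : _ →ₐ[k] _))

theorem θ_rho (g : VecGrp.pt k B ⟶ G) (z : B ⊗[k] Γ(G.left, ⊤)) :
    θ B G (rho B g z) = appK (τ g) (θ B G z) := by
  change θe B G ((θe B G).symm (appK (τ g) (θe B G z))) = _
  rw [AlgEquiv.apply_symm_apply]
  rfl

theorem θ_injective : Function.Injective (θ B G) := (θ_bijective B G).1

theorem rho_one (z : B ⊗[k] Γ(G.left, ⊤)) : rho B (1 : VecGrp.pt k B ⟶ G) z = z := by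
  apply θ_injective B
  rw [θ_rho, τ_one, appK_id]

theorem rho_mul (g g' : VecGrp.pt k B ⟶ G) (z : B ⊗[k] Γ(G.left, ⊤)) :
    rho B (g * g') z = rho B g (rho B g' z) := by
  apply θ_injective B
  rw [θ_rho, θ_rho, θ_rho, τ_mul, appK_comp]

theorem rho_tmul_one (g : VecGrp.pt k B ⟶ G) (b : B) :
    rho B g (b ⊗ₜ (1 : Γ(G.left, ⊤))) = b ⊗ₜ 1 := by
  apply θ_injective B
  rw [θ_rho, θ_tmul, map_one, _root_.mul_one, ← appK_comp, τ_fst]

theorem rho_smul (g : VecGrp.pt k B ⟶ G) (b : B) (z : B ⊗[k] Γ(G.left, ⊤)) :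
    rho B g (b • z) = b • rho B g z := by
  have h : ∀ w : B ⊗[k] Γ(G.left, ⊤), b • w = (b ⊗ₜ (1 : Γ(G.left, ⊤))) * w := fun w => by
    rw [Algebra.smul_def]
    rfl
  rw [h, h, map_mul, rho_tmul_one]

/-- right translation as a `B`-linear automorphism. -/
noncomputable def rhoE (g : VecGrp.pt k B ⟶ G) :
    B ⊗[k] Γ(G.left, ⊤) ≃ₗ[B] B ⊗[k] Γ(G.left, ⊤) :=
  { toFun := rho B g
    invFun := rho B g⁻¹
    map_add' := map_add _
    map_smul' := fun b z => rho_smul B g b z
    left_inv := fun z => by rw [← rho_mul, inv_mul_cancel, rho_one]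
    right_inv := fun z => by rw [← rho_mul, mul_inv_cancel, rho_one] }

theorem rhoE_apply (g : VecGrp.pt k B ⟶ G) (z : B ⊗[k] Γ(G.left, ⊤)) : rhoE B g z = rho B g z := rfl

end Rho

section Reg

open VecGrp

variable {G H : Over (Spec (CommRingCat.of k))} [GrpObj G] [GrpObj H] [IsAffine G.left]
  (i : H ⟶ G) [IsMonHom i]

theorem appK_ptMap_iotaB {B B' : Type u} [CommRing B] [Algebra k B] [CommRing B'] [Algebra k B']
    (φ : B →ₐ[k] B') (b : B) : appK (ptMap φ) (iotaB B b) = iotaB B' (φ b) := by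
  have h := Scheme.ΓSpecIso_inv_naturality (CommRingCat.ofHom φ.toRingHom)
  exact (congrArg (fun t : CommRingCat.of B ⟶ Γ(Spec (CommRingCat.of B'), ⊤) => t.hom b) h).symm

theorem θ_Wmap {B B' : Type u} [CommRing B] [Algebra k B] [CommRing B'] [Algebra k B']
    (φ : B →ₐ[k] B') (x : B ⊗[k] Γ(G.left, ⊤)) :
    θ B' G (Wmap (M := Γ(G.left, ⊤)) φ x) = appK (ptMap φ ▷ G) (θ B G x) := by
  induction x using TensorProduct.induction_on with
  | zero => simp
  | tmul b f =>
    rw [Wmap_tmul, θ_tmul, θ_tmul, map_mul, ← appK_comp, ← appK_comp, whiskerRight_fst,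
      whiskerRight_snd, appK_comp, appK_ptMap_iotaB]
  | add x y hx hy => rw [map_add, map_add, map_add, map_add, hx, hy]

/-- **the right regular representation** of `H` (through `i : H ⟶ G`) on `Γ(G)`. -/
noncomputable def rreg : VecGrp.GMod H Γ(G.left, ⊤) where
  ρ B _ _ :=
    { toFun := fun h => rhoE B (h ≫ i)
      map_one' := by
        ext z
        rw [rhoE_apply, MonObj.one_comp, rho_one]
        rfl
      map_mul' := fun h h' => by
        ext z
        rw [rhoE_apply, MonObj.mul_comp, rho_mul]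
        rfl }
  naturality {B B'} _ _ _ _ φ g x := by
    change Wmap φ (rho B (g ≫ i) x) = rho B' ((ptMap φ ≫ g) ≫ i) (Wmap φ x)
    apply θ_injective B'
    rw [θ_Wmap, θ_rho, θ_rho, θ_Wmap, ← appK_comp, ← appK_comp, τ_nat, Category.assoc]

theorem rreg_apply (B : Type u) [CommRing B] [Algebra k B] (h : VecGrp.pt k B ⟶ H)
    (z : B ⊗[k] Γ(G.left, ⊤)) : (rreg i).ρ B h z = rho B (h ≫ i) z := rfl

theorem rreg_isMult : (rreg i).IsMult := by
  intro B _ _ g
  constructor
  · intro x y
    rw [rreg_apply, rreg_apply, rreg_apply, map_mul]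
  · rw [rreg_apply, map_one]

end Reg

end Groth.Agent.Lib.Helper29.RegRep
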