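import Groth.Agent.Lib.Helper29.RegRep1
import Groth.Agent.Lib.Helper29.QuotDesc1

/-! Invariants and stable ideals of the right regular representation (helper29, for S11212). -/

set_option autoImplicit false
universe u
open CategoryTheory MonoidalCategory CartesianMonoidalCategory MonObj AlgebraicGeometry Opposite
open TensorProduct

namespace Groth.Agent.Lib.Helper29.RegRep

open Groth.Agent.Lib.Helper29.AffAttr Groth.Agent.Lib.Helper29.RTrans VecGrp

variable {k : Type u} [Field k]

attribute [local instance] algk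

section WL

variable (B : Type u) [CommRing B] [Algebra k B] {G Q : Over (Spec (CommRingCat.of k))}

theorem θ_lTensor (φ : Q ⟶ G) (z : B ⊗[k] Γ(G.left, ⊤)) :
    θ B Q ((appK φ).toLinearMap.baseChange B z) = appK (VecGrp.pt k B ◁ φ) (θ B G z) := by
  induction z using TensorProduct.induction_on with
  | zero => simp
  | tmul b f =>
    rw [LinearMap.baseChange_tmul, θ_tmul, θ_tmul, map_mul, ← appK_comp, ← appK_comp,
      whiskerLeft_fst, whiskerLeft_snd, appK_comp]
    rfl
  | add x y hx hy => rw [map_add, map_add, map_add, map_add, hx, hy]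

theorem θ_one_tmul (f : Γ(G.left, ⊤)) :
    θ B G ((1 : B) ⊗ₜ f) = appK (CartesianMonoidalCategory.snd (VecGrp.pt k B) G) f := by
  rw [θ_tmul, map_one, map_one, _root_.one_mul]

end WL

section Stable

variable {G H : Over (Spec (CommRingCat.of k))} [GrpObj G] [GrpObj H] [IsAffine G.left]
  [IsAffine H.left] (i : H ⟶ G) [IsMonHom i]

/-- the kernel of the pullback along a right-`H`-equivariant morphism `H ⟶ G` is stable under the
right regular representation. -/
theorem isStable_ker (φ : H ⟶ G)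
    (hφ : ∀ (T : Over (Spec (CommRingCat.of k))) (x h : T ⟶ H),
      (x * h) ≫ φ = (x ≫ φ) * (h ≫ i))
    (I : Ideal Γ(G.left, ⊤)) (hI : ∀ f, f ∈ I ↔ appK φ f = 0) :
    (rreg i).IsStable (𝟙 H) (I.restrictScalars k) := by
  intro B _ _ h f hf
  have hf0 : appK φ f = 0 := (hI f).1 hf
  have hI' : I.restrictScalars k = LinearMap.ker (appK φ).toLinearMap := by
    ext f'
    exact hI f'
  rw [hI']
  have hker := Module.Flat.ker_lTensor_eq (R := k) B B (appK φ).toLinearMap
  change _ ∈ LinearMap.range (TensorProduct.AlgebraTensorModule.lTensor B B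
    (LinearMap.ker (appK φ).toLinearMap).subtype)
  rw [← hker, LinearMap.mem_ker]
  apply θ_injective (G := H) B
  change θ B H ((appK φ).toLinearMap.baseChange B (rho B ((h ≫ 𝟙 H) ≫ i) ((1 : B) ⊗ₜ f))) = θ B H 0
  rw [θ_lTensor, θ_rho, θ_one_tmul, map_zero, ← appK_comp, ← appK_comp, Category.comp_id]
  have e : ((VecGrp.pt k B ◁ φ) ≫ τ (h ≫ i)) ≫ CartesianMonoidalCategory.snd (VecGrp.pt k B) G =
      (CartesianMonoidalCategory.snd (VecGrp.pt k B) H *
        (CartesianMonoidalCategory.fst (VecGrp.pt k B) H ≫ h)) ≫ φ := by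
    rw [Category.assoc, τ_snd, MonObj.comp_mul, whiskerLeft_snd, ← Category.assoc,
      whiskerLeft_fst, hφ, Category.assoc]
  rw [e, appK_comp, hf0, map_zero]

end Stable

section Fixed

variable {G H : Over (Spec (CommRingCat.of k))} [GrpObj G] [GrpObj H] [IsAffine G.left]
  (i : H ⟶ G) [IsMonHom i]

theorem isRTransInv_of_mem_fixedUnder (f : Γ(G.left, ⊤))
    (hf : f ∈ (rreg i).fixedUnder (𝟙 H)) : AGF.IsRTransInv i f := by
  apply Groth.Agent.Lib.Helper29.GModCoef.sec_ext_pts
  intro B _ _ y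
  change appK y (appK ((G ◁ i) ≫ μ[G]) f) = appK y (appK (CartesianMonoidalCategory.fst G H) f)
  rw [← appK_comp, ← appK_comp]
  have h1 := hf B (y ≫ CartesianMonoidalCategory.snd G H)
  rw [rreg_apply, Category.comp_id] at h1
  have h2 := congrArg (θ B G) h1
  rw [θ_rho, θ_one_tmul, ← appK_comp, τ_snd] at h2
  have h3 := congrArg (appK (lift (𝟙 (VecGrp.pt k B)) (y ≫ CartesianMonoidalCategory.fst G H))) h2
  rw [← appK_comp, ← appK_comp, lift_snd, MonObj.comp_mul, lift_snd, lift_fst_assoc,
    Category.id_comp] at h3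
  rw [Groth.Agent.Lib.Helper29.QDesc.rmul_eq, MonObj.comp_mul, ← Category.assoc]
  exact h3

theorem mem_fixedUnder_of_isRTransInv (f : Γ(G.left, ⊤)) (hf : AGF.IsRTransInv i f) :
    f ∈ (rreg i).fixedUnder (𝟙 H) := by
  intro B _ _ h
  rw [rreg_apply, Category.comp_id]
  apply θ_injective B
  rw [θ_rho, θ_one_tmul, ← appK_comp, τ_snd]
  have hf' : appK ((G ◁ i) ≫ μ[G]) f = appK (CartesianMonoidalCategory.fst G H) f := hf
  have h3 := congrArg (appK (lift (CartesianMonoidalCategory.snd (VecGrp.pt k B) G)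
    (CartesianMonoidalCategory.fst (VecGrp.pt k B) G ≫ h))) hf'
  rw [← appK_comp, ← appK_comp, lift_fst, Groth.Agent.Lib.Helper29.QDesc.rmul_eq,
    MonObj.comp_mul, lift_fst, ← Category.assoc, lift_snd] at h3
  exact h3

end Fixed

end Groth.Agent.Lib.Helper29.RegRep
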