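import Groth.Agent.Lib.Helper29.RegRep2

/-! Disjoint cosets have comaximal ideals (helper29, for S11212). -/

set_option autoImplicit false
universe u
open CategoryTheory MonoidalCategory CartesianMonoidalCategory MonObj AlgebraicGeometry Opposite
open TensorProduct CategoryTheory.Limits

namespace Groth.Agent.Lib.Helper29.RegRep

open Groth.Agent.Lib.Helper29.AffAttr Groth.Agent.Lib.Helper29.RTrans VecGrp
  Groth.Agent.Lib.Helper29.QDesc Groth.Agent.Lib.Helper10.KPts

variable {k : Type u} [Field k]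

attribute [local instance] algk

section Coset

variable {G H : Over (Spec (CommRingCat.of k))} [GrpObj G] [GrpObj H]
  (i : H ⟶ G) [IsMonHom i]

theorem mx_comp_L (g : VecGrp.pt k k ⟶ G) : mx i g ≫ ((tG G ≫ g⁻¹) * 𝟙 G) = i := by
  rw [MonObj.comp_mul, Category.comp_id, ← Category.assoc, pt_ext (mx i g ≫ tG G) (tG H), mx,
    ← _root_.mul_assoc, ← MonObj.comp_mul, inv_mul_cancel, MonObj.comp_one, _root_.one_mul]

theorem mx_equivariant (g : VecGrp.pt k k ⟶ G) (T : Over (Spec (CommRingCat.of k)))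
    (x h : T ⟶ H) : (x * h) ≫ mx i g = (x ≫ mx i g) * (h ≫ i) := by
  rw [comp_mx, comp_mx, MonObj.mul_comp, _root_.mul_assoc]

theorem one_comp_mx (g : VecGrp.pt k k ⟶ G) : (1 : VecGrp.pt k k ⟶ H) ≫ mx i g = g := by
  rw [comp_mx, MonObj.one_comp, _root_.mul_one, pt_ext (tG (VecGrp.pt k k)) (𝟙 _), Category.id_comp]

theorem isClosedImmersion_mx [IsAffine G.left] [IsClosedImmersion i.left] (g : VecGrp.pt k k ⟶ G) :
    IsClosedImmersion (mx i g).left := by
  have h := congrArg (fun t : H ⟶ G => t.left) (mx_comp_L i g)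
  change (mx i g).left ≫ ((tG G ≫ g⁻¹) * 𝟙 G).left = i.left at h
  haveI : IsClosedImmersion ((mx i g).left ≫ ((tG G ≫ g⁻¹) * 𝟙 G).left) := by
    rw [h]; infer_instance
  exact IsClosedImmersion.of_comp (mx i g).left ((tG G ≫ g⁻¹) * 𝟙 G).left

end Coset

section Sup

variable [IsAlgClosed k] {G H : Over (Spec (CommRingCat.of k))} [GrpObj G] [GrpObj H]
  [IsAffine G.left] [LocallyOfFiniteType H.hom] (i : H ⟶ G) [IsMonHom i] [IsClosedImmersion i.left]

set_option maxHeartbeats 1000000 in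
theorem disjoint_range_mx (g : VecGrp.pt k k ⟶ G) (hg : ∀ h : VecGrp.pt k k ⟶ H, h ≫ i ≠ g) :
    Disjoint (Set.range i.left) (Set.range (mx i g).left) := by
  rw [← Scheme.isEmpty_pullback_iff]
  by_contra hnon
  rw [not_isEmpty_iff] at hnon
  let ZO : Over (Spec (CommRingCat.of k)) :=
    Over.mk (pullback.fst i.left (mx i g).left ≫ H.hom)
  let p₁ : ZO ⟶ H := Over.homMk (pullback.fst i.left (mx i g).left) rfl
  let p₂ : ZO ⟶ H := Over.homMk (pullback.snd i.left (mx i g).left) (by
    change pullback.snd i.left (mx i g).left ≫ H.hom = pullback.fst i.left (mx i g).left ≫ H.hom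
    have e1 : H.hom = (mx i g).left ≫ G.hom := (Over.w (mx i g)).symm
    have e2 : H.hom = i.left ≫ G.hom := (Over.w i).symm
    conv_lhs => rw [e1]
    conv_rhs => rw [e2]
    rw [← Category.assoc, ← Category.assoc, pullback.condition])
  have hp : p₁ ≫ i = p₂ ≫ mx i g := Over.OverMorphism.ext pullback.condition
  haveI : LocallyOfFiniteType (mx i g).left := by
    haveI : LocallyOfFiniteType ((mx i g).left ≫ G.hom) := by
      rw [Over.w]; infer_instance
    exact locallyOfFiniteType_of_comp (mx i g).left G.hom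
  haveI : LocallyOfFiniteType ZO.hom := by
    change LocallyOfFiniteType (pullback.fst i.left (mx i g).left ≫ H.hom)
    infer_instance
  obtain ⟨a⟩ := hnon
  obtain ⟨z, -⟩ := exists_kpoint_mem_of_isOpen (k := k) (K := k) (Y := ZO) Set.univ isOpen_univ
    ⟨a, trivial⟩
  let z' : VecGrp.pt k k ⟶ ZO := z
  have h1 : (z' ≫ p₁) ≫ i = g * ((z' ≫ p₂) ≫ i) := by
    rw [Category.assoc, hp, ← Category.assoc, comp_mx, pt_ext (tG (VecGrp.pt k k)) (𝟙 _),
      Category.id_comp]
  apply hg ((z' ≫ p₁) * (z' ≫ p₂)⁻¹)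
  rw [MonObj.mul_comp, h1, GrpObj.inv_comp, mul_inv_cancel_right]

theorem ker_sup_ker_eq_top (g : VecGrp.pt k k ⟶ G) (hg : ∀ h : VecGrp.pt k k ⟶ H, h ≫ i ≠ g) :
    RingHom.ker (appK i).toRingHom ⊔ RingHom.ker (appK (mx i g)).toRingHom = ⊤ := by
  haveI := isClosedImmersion_mx i g
  have hdis := disjoint_range_mx i g hg
  have h1 : (i.left.ker ⊔ (mx i g).left.ker).support = ⊥ := by
    rw [Scheme.IdealSheafData.support_sup]
    apply TopologicalSpace.Closeds.ext
    rw [TopologicalSpace.Closeds.coe_inf, Scheme.Hom.support_ker, Scheme.Hom.support_ker,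
      i.left.isClosedEmbedding.isClosed_range.closure_eq,
      (mx i g).left.isClosedEmbedding.isClosed_range.closure_eq]
    exact Set.disjoint_iff_inter_eq_empty.mp hdis
  have h2 := (Scheme.IdealSheafData.support_eq_bot_iff (I := i.left.ker ⊔ (mx i g).left.ker)).mp h1
  have h3 := congrArg (fun I => I.ideal ⟨⊤, isAffineOpen_top G.left⟩) h2
  simp only [Scheme.IdealSheafData.ideal_sup, Pi.sup_apply, Scheme.IdealSheafData.ideal_top,
    Pi.top_apply] at h3
  rw [Scheme.Hom.ker_apply, Scheme.Hom.ker_apply] at h3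
  exact h3

end Sup

end Groth.Agent.Lib.Helper29.RegRep
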