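import Groth.Agent.Lib.Helper29.RegRep3
import Groth.Agent.Lib.Helper14.ReducedEtale

/-! Closed subgroups with reductive identity component are observable, granted the separation
property of quotients by reductive groups (helper29, for S11212). -/

set_option autoImplicit false
universe u
open CategoryTheory MonoidalCategory CartesianMonoidalCategory MonObj AlgebraicGeometry Opposite
open TensorProduct CategoryTheory.Limits

namespace Groth.Agent.Lib.Helper29.RegRep

open Groth.Agent.Lib.Helper29.AffAttr Groth.Agent.Lib.Helper29.RTrans VecGrp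
  Groth.Agent.Lib.Helper29.QDesc

variable {k : Type u} [Field k]

attribute [local instance] algk

theorem finiteType_algk (G : Over (Spec (CommRingCat.of k))) [IsAffine G.left]
    [LocallyOfFiniteType G.hom] : Algebra.FiniteType k Γ(G.left, ⊤) := by
  have h1 : G.hom.appTop.hom.FiniteType :=
    (HasRingHomProperty.iff_of_isAffine (P := @LocallyOfFiniteType)).mp inferInstance
  have h2 : (Scheme.ΓSpecIso (CommRingCat.of k)).inv.hom.FiniteType :=
    RingHom.FiniteType.of_surjective _
      (ConcreteCategory.bijective_of_isIso (Scheme.ΓSpecIso (CommRingCat.of k)).inv).2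
  exact h1.comp h2

theorem eval_eq_of_isRTransInv {G : Over (Spec (CommRingCat.of k))} [GrpObj G]
    (g : VecGrp.pt k k ⟶ G) (f : Γ(G.left, ⊤)) (hf : AGF.IsRTransInv g f) :
    appK (1 : VecGrp.pt k k ⟶ G) f = appK g f := by
  rw [isRTransInv_iff] at hf
  have h1 : (1 : VecGrp.pt k k ⟶ G) ≫ rg g = g := by
    rw [rg, MonObj.comp_mul, Category.comp_id, ← Category.assoc,
      pt_ext ((1 : VecGrp.pt k k ⟶ G) ≫ tG G) (𝟙 _), Category.id_comp, _root_.one_mul]
  have hf' : appK (rg g) f = f := hf
  rw [← h1, appK_comp, hf']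

theorem isRadical_ker {P Q : Over (Spec (CommRingCat.of k))} (φ : Q ⟶ P)
    [_root_.IsReduced Γ(Q.left, ⊤)] : (RingHom.ker (appK φ).toRingHom).IsRadical := by
  intro f hf
  obtain ⟨n, hn⟩ := hf
  rw [RingHom.mem_ker, map_pow] at hn
  rw [RingHom.mem_ker]
  exact IsReduced.eq_zero _ ⟨n, hn⟩

set_option maxHeartbeats 1000000 in
theorem isObservableIn_of_quotSeparates [IsAlgClosed k]
    {G H : Over (Spec (CommRingCat.of k))} [GrpObj G] [GrpObj H] [IsAffine G.left] [Smooth G.hom]
    [Smooth H.hom] (i : H ⟶ G) [IsMonHom i] [IsClosedImmersion i.left]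
    (hH : VecGrp.IsReductiveGrp k H) (thmAbiv : AGF.ReductiveQuotSeparates k) :
    AGF.IsObservableIn k i := by
  intro g hgf
  by_contra hcon
  push Not at hcon
  haveI : IsAffine H.left := isAffine_of_isAffineHom i.left
  haveI : LocallyOfFiniteType H.hom := inferInstance
  haveI : LocallyOfFiniteType G.hom := inferInstance
  haveI : AlgebraicGeometry.IsReduced H.left :=
    Groth.Agent.Lib.Helper14.isReduced_of_smooth_scheme H.hom
  haveI : AlgebraicGeometry.IsReduced G.left :=
    Groth.Agent.Lib.Helper14.isReduced_of_smooth_scheme G.hom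
  haveI : _root_.IsReduced Γ(G.left, ⊤) := inferInstance
  haveI : _root_.IsReduced Γ(H.left, ⊤) := inferInstance
  have hft : Algebra.FiniteType k Γ(G.left, ⊤) := finiteType_algk G
  have hsup := ker_sup_ker_eq_top i g hcon
  have hst₁ := isStable_ker i i (fun T x h => MonObj.mul_comp x h i)
    (RingHom.ker (appK i).toRingHom) (fun f => RingHom.mem_ker)
  have hst₂ := isStable_ker i (mx i g) (mx_equivariant i g)
    (RingHom.ker (appK (mx i g)).toRingHom) (fun f => RingHom.mem_ker)
  have key := thmAbiv H hH Γ(G.left, ⊤) (rreg i) (rreg_isMult i) hft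
    (RingHom.ker (appK i).toRingHom) (RingHom.ker (appK (mx i g)).toRingHom)
    (isRadical_ker i) (isRadical_ker (mx i g)) hst₁ hst₂ hsup
  have h1 : (1 : ↥((rreg i).fixedSubalgebra (rreg_isMult i) (𝟙 H))) ∈
      Ideal.comap ((rreg i).fixedSubalgebra (rreg_isMult i) (𝟙 H)).val
        (RingHom.ker (appK i).toRingHom) ⊔
      Ideal.comap ((rreg i).fixedSubalgebra (rreg_isMult i) (𝟙 H)).val
        (RingHom.ker (appK (mx i g)).toRingHom) := by
    rw [key]; trivial
  obtain ⟨f₁, hf₁, f₂, hf₂, hsum⟩ := Submodule.mem_sup.mp h1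
  have hf₁' : appK i f₁.1 = 0 := hf₁
  have hf₂' : appK (mx i g) f₂.1 = 0 := hf₂
  have hinv : AGF.IsRTransInv i f₁.1 := isRTransInv_of_mem_fixedUnder i f₁.1 f₁.2
  have e1 := eval_eq_of_isRTransInv g f₁.1 (hgf f₁.1 hinv)
  have e2 : appK (1 : VecGrp.pt k k ⟶ G) f₁.1 = 0 := by
    have : (1 : VecGrp.pt k k ⟶ G) = (1 : VecGrp.pt k k ⟶ H) ≫ i := (MonObj.one_comp i).symm
    rw [this, appK_comp, hf₁', map_zero]
  have e3 : appK g f₂.1 = 0 := by
    rw [← one_comp_mx i g, appK_comp, hf₂', map_zero]
  have e4 : appK g (f₁.1 + f₂.1) = 1 := by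
    have : f₁.1 + f₂.1 = 1 := congrArg Subtype.val hsum
    rw [this, map_one]
  rw [map_add, ← e1, e2, e3, add_zero] at e4
  haveI : Nontrivial Γ((VecGrp.pt k k).left, ⊤) := (isField_Γ_Spec k).nontrivial
  exact zero_ne_one e4

end Groth.Agent.Lib.Helper29.RegRep
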