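import Mathlib

set_option autoImplicit false
universe u
open CategoryTheory AlgebraicGeometry TopologicalSpace

namespace Groth.Agent.Lib.Helper29.RegSec

/-- Prime avoidance on a prime spectrum: a finite set of points inside an open set is contained in
a basic open inside that open set. -/
theorem exists_basicOpen_of_finite {R : Type u} [CommRing R] (O : Set (PrimeSpectrum R))
    (hO : IsOpen O) (T : Set (PrimeSpectrum R)) (hT : T.Finite) (hTO : T ⊆ O) :
    ∃ g : R, (∀ x ∈ T, g ∉ x.asIdeal) ∧ ∀ y : PrimeSpectrum R, g ∉ y.asIdeal → y ∈ O := by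
  obtain ⟨I, hI⟩ := (PrimeSpectrum.isClosed_iff_zeroLocus_ideal Oᶜ).mp hO.isClosed_compl
  have h1 : ∀ x ∈ T, ¬ I ≤ x.asIdeal := by
    intro x hx hle
    have : x ∈ PrimeSpectrum.zeroLocus (I : Set R) := by
      rw [PrimeSpectrum.mem_zeroLocus]
      exact hle
    rw [← hI] at this
    exact this (hTO hx)
  have h2 : ¬ ((I : Set R) ⊆ ⋃ x ∈ (↑hT.toFinset : Set (PrimeSpectrum R)), (x.asIdeal : Set R)) := by
    classical
    by_cases hne : T.Nonempty
    · obtain ⟨a, ha⟩ := hne
      rw [Ideal.subset_union_prime (R := R) (s := hT.toFinset)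
        (f := fun x : PrimeSpectrum R => x.asIdeal) a a (fun i _ _ _ => i.isPrime)]
      rintro ⟨x, hx, hle⟩
      exact h1 x (hT.mem_toFinset.mp hx) hle
    · rw [Set.not_nonempty_iff_eq_empty] at hne
      subst hne
      intro hsub
      have h0 : (I : Set R) ⊆ ∅ := by simpa using hsub
      exact h0 I.zero_mem
  rw [Set.not_subset] at h2
  obtain ⟨g, hgI, hg⟩ := h2
  refine ⟨g, fun x hx hgx => hg ?_, fun y hy => ?_⟩
  · exact Set.mem_biUnion (by simpa using hx) hgx
  · by_contra hyO
    have : y ∈ PrimeSpectrum.zeroLocus (I : Set R) := by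
      rw [← hI]; exact hyO
    rw [PrimeSpectrum.mem_zeroLocus] at this
    exact hy (this hgI)

end Groth.Agent.Lib.Helper29.RegSec
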