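import Mathlib
set_option autoImplicit false

/-! Algebra for S9222 (helper29): finiteness of contracted primes for an integral algebra over a
field, a unit-producing "core lemma", and graded prime avoidance for realized polynomials. -/

namespace Groth.Agent.Lib.Helper29.SA1

open MvPolynomial

section Fin
variable (k A : Type*) [Field k] [CommRing A] [Algebra k A] [Algebra.IsIntegral k A]
  {σ : Type*} [Finite σ] (c : σ → A)
include k

/-- Only finitely many primes of `ℤ[T]` are contractions of primes of `A` under `T ↦ c`. -/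
theorem finite_comap_primes :
    {Q : Ideal (MvPolynomial σ ℤ) | ∃ p : Ideal A, p.IsPrime ∧
      Q = p.comap (aeval c : MvPolynomial σ ℤ →ₐ[ℤ] A)}.Finite := by
  classical
  let A₀ : Subalgebra k A := Algebra.adjoin k (Set.range c)
  have hfg : (A₀.toSubmodule).FG :=
    fg_adjoin_of_finite (Set.finite_range c) (fun x _ => Algebra.IsIntegral.isIntegral x)
  haveI : Module.Finite k A₀ := Module.Finite.iff_fg.mpr hfg
  haveI : IsArtinianRing A₀ := IsArtinianRing.of_finite k A₀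
  let c₀ : σ → A₀ := fun j => ⟨c j, Algebra.subset_adjoin ⟨j, rfl⟩⟩
  have hcomp : ((A₀.val.restrictScalars ℤ).comp (aeval c₀ : MvPolynomial σ ℤ →ₐ[ℤ] A₀)) =
      (aeval c : MvPolynomial σ ℤ →ₐ[ℤ] A) := by
    apply MvPolynomial.algHom_ext
    intro j
    simp [c₀]
  refine (Set.finite_range (fun q : PrimeSpectrum A₀ =>
    q.asIdeal.comap (aeval c₀ : MvPolynomial σ ℤ →ₐ[ℤ] A₀))).subset ?_
  rintro Q ⟨p, hp, rfl⟩
  refine ⟨⟨p.comap A₀.val, Ideal.comap_isPrime _ _⟩, ?_⟩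
  ext P
  simp only [Ideal.mem_comap]
  rw [← hcomp]
  rfl

end Fin

/-- **Core lemma**: if the image of an ideal `J` generates the unit ideal of an integral algebra
over a field, some element of `J` maps to a unit. -/
theorem exists_mem_isUnit_map (k : Type*) {A B : Type*} [Field k] [CommRing A] [Algebra k A]
    [Algebra.IsIntegral k A] [CommRing B] (φ : B →+* A) (J : Ideal B) (hJ : J.map φ = ⊤) :
    ∃ F ∈ J, IsUnit (φ F) := by
  classical
  rw [Ideal.map, Ideal.span_eq_top_iff_finite] at hJ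
  obtain ⟨s', hs', hspan⟩ := hJ
  have hpre : ∀ a : s', ∃ f : B, f ∈ J ∧ φ f = a.1 := fun a => by
    obtain ⟨f, hf, hfa⟩ := hs' a.2
    exact ⟨f, hf, hfa⟩
  choose f hfJ hfa using hpre
  let c : s' → A := fun a => a.1
  have hfin := finite_comap_primes k A c
  let ψ : MvPolynomial s' ℤ →ₐ[ℤ] A := aeval c
  have hψ : ∀ P, φ (aeval f P) = ψ P := by
    intro P
    have : (φ.toIntAlgHom.comp (aeval f : MvPolynomial s' ℤ →ₐ[ℤ] B)) = ψ := by
      apply MvPolynomial.algHom_ext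
      intro j
      simp [ψ, c, hfa]
    exact congrArg (fun θ : MvPolynomial s' ℤ →ₐ[ℤ] A => θ P) this
  let 𝔞 : Ideal (MvPolynomial s' ℤ) := Ideal.span (Set.range X)
  have hav : ¬ ((𝔞 : Set (MvPolynomial s' ℤ)) ⊆ ⋃ Q ∈ (hfin.toFinset : Set (Ideal _)),
      ((Q : Ideal (MvPolynomial s' ℤ)) : Set (MvPolynomial s' ℤ))) := by
    rw [Ideal.subset_union_prime (s := hfin.toFinset) (f := fun Q => Q) ⊤ ⊤ (fun Q hQ _ _ => by
      obtain ⟨p, hp, rfl⟩ := hfin.mem_toFinset.mp hQ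
      exact Ideal.comap_isPrime _ _)]
    rintro ⟨Q, hQ, hle⟩
    obtain ⟨p, hp, rfl⟩ := hfin.mem_toFinset.mp hQ
    have h1 : Ideal.span ((s' : Set A)) ≤ p := by
      refine Ideal.span_le.mpr fun a ha => ?_
      have hX : (X ⟨a, ha⟩ : MvPolynomial s' ℤ) ∈ 𝔞 := Ideal.subset_span ⟨_, rfl⟩
      have := hle hX
      simpa [Ideal.mem_comap, c] using this
    rw [hspan] at h1
    exact hp.ne_top (top_le_iff.mp h1)
  rw [Set.not_subset] at hav
  obtain ⟨P, hP𝔞, hPQ⟩ := hav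
  refine ⟨aeval f P, ?_, ?_⟩
  · have hle : 𝔞 ≤ J.comap (aeval f : MvPolynomial s' ℤ →ₐ[ℤ] B) := by
      refine Ideal.span_le.mpr ?_
      rintro _ ⟨j, rfl⟩
      simp only [SetLike.mem_coe, Ideal.mem_comap, aeval_X]
      exact hfJ j
    exact hle hP𝔞
  · rw [hψ]
    by_contra hnu
    obtain ⟨m, hm, hmem⟩ := exists_max_ideal_of_mem_nonunits (mem_nonunits_iff.mpr hnu)
    apply hPQ
    refine Set.mem_iUnion₂.mpr ⟨m.comap ψ, ?_, hmem⟩
    exact hfin.mem_toFinset.mpr ⟨m, hm.isPrime, rfl⟩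

section Graded
variable (σ : Type*)

/-- Polynomials built from `1` by same-degree sums and right multiplication by variables,
with their degree. -/
inductive Gen : ℕ → MvPolynomial σ ℤ → Prop
  | one : Gen 0 1
  | add {d : ℕ} {P P' : MvPolynomial σ ℤ} : Gen d P → Gen d P' → Gen d (P + P')
  | rmul {d : ℕ} {P : MvPolynomial σ ℤ} (j : σ) : Gen d P → Gen (d + 1) (P * X j)

variable {σ}

theorem Gen.mul {d e : ℕ} {P P' : MvPolynomial σ ℤ} (h : Gen σ d P) (h' : Gen σ e P') :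
    Gen σ (d + e) (P * P') := by
  induction h' with
  | one => simpa using h
  | add _ _ ih1 ih2 => rw [mul_add]; exact Gen.add ih1 ih2
  | rmul j _ ih => rw [← mul_assoc]; exact Gen.rmul j ih

theorem Gen.pow {d : ℕ} {P : MvPolynomial σ ℤ} (h : Gen σ d P) (n : ℕ) :
    Gen σ (d * n) (P ^ n) := by
  induction n with
  | zero => simpa using Gen.one
  | succ n ih => rw [pow_succ, Nat.mul_succ]; exact ih.mul h

theorem Gen.prod {ι : Type*} (t : Finset ι) (d : ι → ℕ) (P : ι → MvPolynomial σ ℤ)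
    (h : ∀ i ∈ t, Gen σ (d i) (P i)) : Gen σ (∑ i ∈ t, d i) (∏ i ∈ t, P i) := by
  classical
  induction t using Finset.induction_on with
  | empty => simpa using Gen.one
  | insert a t ha ih =>
    rw [Finset.sum_insert ha, Finset.prod_insert ha]
    exact (h a (Finset.mem_insert_self a t)).mul
      (ih fun i hi => h i (Finset.mem_insert_of_mem hi))

theorem Gen.var (j : σ) : Gen σ 1 (X j) := by
  have := Gen.rmul j (Gen.one (σ := σ))
  simpa using this

/-- **Graded prime avoidance** for realized polynomials. -/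
theorem exists_gen_avoid (𝒬 : Finset (Ideal (MvPolynomial σ ℤ))) (hne : 𝒬.Nonempty)
    (hp : ∀ Q ∈ 𝒬, Q.IsPrime) (hX : ∀ Q ∈ 𝒬, ∃ j : σ, (X j : MvPolynomial σ ℤ) ∉ Q) :
    ∃ (d : ℕ) (P : MvPolynomial σ ℤ), Gen σ (d + 1) P ∧ ∀ Q ∈ 𝒬, P ∉ Q := by
  classical
  induction 𝒬 using Finset.strongInduction with
  | H 𝒬 IH =>
    obtain ⟨Q₁, hQ₁⟩ := hne
    by_cases hone : 𝒬.erase Q₁ = ∅
    · obtain ⟨j, hj⟩ := hX Q₁ hQ₁
      refine ⟨0, X j, Gen.var j, fun Q hQ => ?_⟩
      have : Q = Q₁ := by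
        by_contra hne'
        have : Q ∈ 𝒬.erase Q₁ := Finset.mem_erase.mpr ⟨hne', hQ⟩
        rw [hone] at this
        exact absurd this (Finset.notMem_empty _)
      rw [this]; exact hj
    · have hsub : ∀ Q, ∃ (d : ℕ) (P : MvPolynomial σ ℤ), Q ∈ 𝒬 →
          (Gen σ (d + 1) P ∧ ∀ Q' ∈ 𝒬.erase Q, P ∉ Q') := by
        intro Q
        by_cases hQ : Q ∈ 𝒬
        · have hne2 : (𝒬.erase Q).Nonempty := by
            by_cases hQQ : Q = Q₁
            · subst hQQ; exact Finset.nonempty_iff_ne_empty.mpr hone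
            · exact ⟨Q₁, Finset.mem_erase.mpr ⟨fun h => hQQ h.symm, hQ₁⟩⟩
          obtain ⟨d, P, hG, hPQ⟩ := IH (𝒬.erase Q) (Finset.erase_ssubset hQ) hne2
            (fun Q' hQ' => hp Q' (Finset.mem_of_mem_erase hQ'))
            (fun Q' hQ' => hX Q' (Finset.mem_of_mem_erase hQ'))
          exact ⟨d, P, fun _ => ⟨hG, hPQ⟩⟩
        · exact ⟨0, 1, fun h => absurd h hQ⟩
      choose d P hdP using hsub
      by_cases hex : ∃ Q ∈ 𝒬, P Q ∉ Q
      · obtain ⟨Q, hQ, hPQ⟩ := hex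
        refine ⟨d Q, P Q, (hdP Q hQ).1, fun Q' hQ' => ?_⟩
        by_cases hQQ : Q' = Q
        · rw [hQQ]; exact hPQ
        · exact (hdP Q hQ).2 Q' (Finset.mem_erase.mpr ⟨hQQ, hQ'⟩)
      · push Not at hex
        set t := 𝒬.erase Q₁ with ht
        set D := ∑ Q ∈ t, (d Q + 1) with hD
        set Pi0 := ∏ Q ∈ t, P Q with hPi0
        have hGPi0 : Gen σ D Pi0 := Gen.prod t (fun Q => d Q + 1) P
          (fun Q hQ => (hdP Q (Finset.mem_of_mem_erase hQ)).1)
        have htne : t.Nonempty := Finset.nonempty_iff_ne_empty.mpr hone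
        have hDpos : 0 < D := by
          obtain ⟨Q₂, hQ₂⟩ := htne
          exact lt_of_lt_of_le (Nat.succ_pos (d Q₂))
            (Finset.single_le_sum (f := fun Q => d Q + 1) (fun _ _ => Nat.zero_le _) hQ₂)
        have hG1 : Gen σ ((d Q₁ + 1) * D) (P Q₁ ^ D) := (hdP Q₁ hQ₁).1.pow D
        have hG2 : Gen σ ((d Q₁ + 1) * D) (Pi0 ^ (d Q₁ + 1)) := by
          rw [mul_comm]; exact hGPi0.pow (d Q₁ + 1)
        obtain ⟨d', hd'⟩ : ∃ d', (d Q₁ + 1) * D = d' + 1 :=
          Nat.exists_eq_succ_of_ne_zero (Nat.mul_ne_zero (Nat.succ_ne_zero _) hDpos.ne')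
        refine ⟨d', P Q₁ ^ D + Pi0 ^ (d Q₁ + 1), hd' ▸ Gen.add hG1 hG2, fun Q hQ => ?_⟩
        haveI := hp Q hQ
        by_cases hQQ : Q = Q₁
        · subst hQQ
          intro hmem
          have h1 : P Q ^ D ∈ Q := Ideal.pow_mem_of_mem _ (hex Q hQ) D hDpos
          have h2 : Pi0 ^ (d Q + 1) ∈ Q := (Ideal.add_mem_iff_right _ h1).mp hmem
          have h3 : Pi0 ∈ Q := Ideal.IsPrime.mem_of_pow_mem inferInstance _ h2
          rw [hPi0, Ideal.IsPrime.prod_mem_iff] at h3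
          obtain ⟨Q', hQ', hPQ'⟩ := h3
          exact (hdP Q' (Finset.mem_of_mem_erase hQ')).2 Q
            (Finset.mem_erase.mpr ⟨fun h => (Finset.ne_of_mem_erase hQ') h.symm, hQ⟩) hPQ'
        · intro hmem
          have hQt : Q ∈ t := Finset.mem_erase.mpr ⟨hQQ, hQ⟩
          have h2 : Pi0 ^ (d Q₁ + 1) ∈ Q := by
            apply Ideal.pow_mem_of_mem _ _ _ (Nat.succ_pos _)
            rw [hPi0]
            exact Ideal.IsPrime.prod_mem_iff.mpr ⟨Q, hQt, hex Q hQ⟩
          have h1 : P Q₁ ^ D ∈ Q := (Ideal.add_mem_iff_left _ h2).mp hmem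
          have h3 : P Q₁ ∈ Q := Ideal.IsPrime.mem_of_pow_mem inferInstance _ h1
          exact (hdP Q₁ hQ₁).2 Q hQt h3

end Graded

end Groth.Agent.Lib.Helper29.SA1
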