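import Groth.Agent.Lib.Helper29.SA1
import Groth.Agent.Lib.Helper29.Avoid

/-! Realizing generated polynomials by sections of tensor powers (helper29, for S9222). -/

universe u
open CategoryTheory CategoryTheory.Limits AlgebraicGeometry TopologicalSpace Opposite

namespace Groth.Agent.Lib.Helper29.SA2
open Groth.Agent.Lib.Helper29.QCoh Groth.Agent.Lib.Helper29 MvPolynomial

variable {X : Scheme.{u}} {M : X.Modules} {σ : Type*} (τ : σ → (unitM X ⟶ M))

/-- the locus of the `i`-th section. -/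
noncomputable abbrev UU (i : σ) : X.Opens := CohB1.genLocus M (τ i)

/-- the generator of `M` over `UU τ i`. -/
noncomputable abbrev ee (i : σ) : Γ(M, UU τ i) := sval (τ i) (UU τ i)

theorem isTriv_ee (i : σ) : IsTriv M (UU τ i) (ee τ i) :=
  isTriv_sval_of_le_genLocus (τ i) le_rfl

/-- the coefficient of `τ j` with respect to `τ i` over `UU τ i`. -/
noncomputable def coef (i j : σ) : Γ(X, UU τ i) :=
  ((isTriv_ee τ i).exists_eq_smul (sval (τ j) (UU τ i))).choose

theorem coef_spec (i j : σ) : sval (τ j) (UU τ i) = coef τ i j • ee τ i :=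
  ((isTriv_ee τ i).exists_eq_smul (sval (τ j) (UU τ i))).choose_spec

theorem coef_self (i : σ) : coef τ i i = 1 := by
  apply (isTriv_ee τ i).smul_left_cancel
  rw [← coef_spec, one_smul]

/-- `s` realizes `P` in degree `d`. -/
def Real (d : ℕ) (s : unitM X ⟶ CohB1.tensorPow M d) (P : MvPolynomial σ ℤ) : Prop :=
  ∀ i, sval s (UU τ i) = (aeval (coef τ i) P : Γ(X, UU τ i)) • epow M (ee τ i) d

theorem exists_real {d : ℕ} {P : MvPolynomial σ ℤ} (h : SA1.Gen σ d P) :
    ∃ s : unitM X ⟶ CohB1.tensorPow M d, Real τ d s P := by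
  induction h with
  | one =>
    refine ⟨𝟙 (unitM X), fun i => ?_⟩
    rw [map_one, one_smul]
    rfl
  | add _ _ ih1 ih2 =>
    obtain ⟨s1, h1⟩ := ih1
    obtain ⟨s2, h2⟩ := ih2
    refine ⟨s1 + s2, fun i => ?_⟩
    rw [sval_add, h1 i, h2 i, map_add, add_smul]
  | @rmul d P j _ ih =>
    obtain ⟨s, hs⟩ := ih
    refine ⟨SecTwist.tmulHom s (τ j), fun i => ?_⟩
    change SecTwist.val (SecTwist.tmulHom s (τ j)) (UU τ i) = _
    rw [SecTwist.val_tmulHom, ← tmulSec_eq]
    change tmulSec (CohB1.tensorPow M d) M (sval s (UU τ i)) (sval (τ j) (UU τ i)) = _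
    rw [hs i, coef_spec τ i j, tmulSec_smul_left, tmulSec_smul_right, smul_smul, epow_succ,
      map_mul, aeval_X]
    rfl

theorem mem_genLocus_iff_of_real [M.IsQuasicoherent] {d : ℕ} {s : unitM X ⟶ CohB1.tensorPow M d}
    {P : MvPolynomial σ ℤ} (h : Real τ d s P) (i : σ) (x : X) (hx : x ∈ UU τ i) :
    x ∈ CohB1.genLocus _ s ↔ x ∈ X.basicOpen (aeval (coef τ i) P : Γ(X, UU τ i)) :=
  mem_genLocus_iff_of_isTriv s ((isTriv_ee τ i).epow d) _ (h i) x hx

end Groth.Agent.Lib.Helper29.SA2
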