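import Groth.Agent.Lib.Helper29.SA2

/-! A single section of a tensor power whose locus contains the image of `Spec A`, `A` integral over
a field (helper29, for S9222). -/

universe u
open CategoryTheory CategoryTheory.Limits AlgebraicGeometry TopologicalSpace Opposite

namespace Groth.Agent.Lib.Helper29.SA3
open Groth.Agent.Lib.Helper29.QCoh Groth.Agent.Lib.Helper29 MvPolynomial

/-- A localization away from an element of an integral algebra over a field is integral. -/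
theorem isIntegral_of_away (k : Type*) {A A' : Type*} [Field k] [CommRing A] [CommRing A']
    [Algebra k A] [Algebra.IsIntegral k A] [Algebra A A'] [Algebra k A'] [IsScalarTower k A A']
    (h : A) [IsLocalization.Away h A'] : Algebra.IsIntegral k A' := by
  refine ⟨fun x => ?_⟩
  obtain ⟨⟨a, ⟨_, n, rfl⟩⟩, hx⟩ := IsLocalization.surj (Submonoid.powers h) x
  change x * algebraMap A A' (h ^ n) = algebraMap A A' a at hx
  have hu : IsUnit (algebraMap A A' h) := IsLocalization.Away.algebraMap_isUnit h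
  letI : Invertible (algebraMap A A' h) := hu.invertible
  have hint : IsIntegral k (algebraMap A A' h) :=
    (Algebra.IsIntegral.isIntegral (R := k) h).algebraMap
  have hinv : IsIntegral k (⅟(algebraMap A A' h)) :=
    isAlgebraic_iff_isIntegral.mp (isAlgebraic_iff_isIntegral.mpr hint).invOf
  have hxe : x = algebraMap A A' a * (⅟(algebraMap A A' h)) ^ n := by
    rw [← hx, map_pow, mul_assoc, ← mul_pow, mul_invOf_self, one_pow, mul_one]
  rw [hxe]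
  exact ((Algebra.IsIntegral.isIntegral (R := k) a).algebraMap).mul (hinv.pow n)

section Spec
variable (k A : Type u) [Field k] [CommRing A] [Algebra k A] [Algebra.IsIntegral k A]
include k

/-- Finiteness of contracted primes for sections over a basic open of `Spec A`. -/
theorem finite_primes_basicOpen (h' : Γ(Spec (CommRingCat.of A), ⊤)) {σ : Type*} [Finite σ]
    (c : σ → Γ(Spec (CommRingCat.of A), (Spec (CommRingCat.of A)).basicOpen h')) :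
    {Q : Ideal (MvPolynomial σ ℤ) | ∃ p : Ideal Γ(Spec (CommRingCat.of A),
      (Spec (CommRingCat.of A)).basicOpen h'), p.IsPrime ∧
      Q = p.comap (aeval c : MvPolynomial σ ℤ →ₐ[ℤ] _)}.Finite := by
  let Y := Spec (CommRingCat.of A)
  let ι₀ : k →+* Γ(Y, ⊤) := (Scheme.ΓSpecIso (CommRingCat.of A)).inv.hom.comp (algebraMap k A)
  letI : Algebra k Γ(Y, ⊤) := ι₀.toAlgebra
  let e₀ : A →ₐ[k] Γ(Y, ⊤) :=
    { toRingHom := (Scheme.ΓSpecIso (CommRingCat.of A)).inv.hom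
      commutes' := fun r => rfl }
  haveI : Algebra.IsIntegral k Γ(Y, ⊤) := by
    refine Algebra.IsIntegral.of_surjective e₀ ?_
    intro y
    refine ⟨(Scheme.ΓSpecIso (CommRingCat.of A)).hom.hom y, ?_⟩
    change ((Scheme.ΓSpecIso (CommRingCat.of A)).hom ≫ (Scheme.ΓSpecIso (CommRingCat.of A)).inv) y = y
    rw [Iso.hom_inv_id]; rfl
  letI : Algebra k Γ(Y, Y.basicOpen h') :=
    ((algebraMap Γ(Y, ⊤) Γ(Y, Y.basicOpen h')).comp ι₀).toAlgebra
  haveI : IsScalarTower k Γ(Y, ⊤) Γ(Y, Y.basicOpen h') :=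
    IsScalarTower.of_algebraMap_eq (fun _ => rfl)
  haveI := (isAffineOpen_top Y).isLocalization_basicOpen h'
  haveI : Algebra.IsIntegral k Γ(Y, Y.basicOpen h') := isIntegral_of_away k h'
  exact SA1.finite_comap_primes k Γ(Y, Y.basicOpen h') c

/-- **Key step**: finitely many sections `τ i` of an invertible module whose loci cover the image
of `Spec A`; then some generated section of a positive tensor power has locus containing the image. -/
theorem exists_section_range_le {X : Scheme.{u}} {M : X.Modules} (hM : PicF.IsInvertible M)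
    (g : Spec (CommRingCat.of A) ⟶ X) {σ : Type*} [Finite σ] (τ : σ → (unitM X ⟶ M))
    (hcov : ∀ p : Spec (CommRingCat.of A), ∃ i, g p ∈ CohB1.genLocus M (τ i))
    (hne : Nonempty (Spec (CommRingCat.of A))) :
    ∃ (d : ℕ) (s : unitM X ⟶ CohB1.tensorPow M (d + 1)),
      Set.range g ⊆ (CohB1.genLocus _ s : Set X) := by
  classical
  haveI := isQuasicoherent_of_isInvertible hM
  let Y := Spec (CommRingCat.of A)
  have hloc : ∀ p : Y, ∃ (i : σ) (h' : Γ(Y, ⊤)), p ∈ Y.basicOpen h' ∧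
      Y.basicOpen h' ≤ g ⁻¹ᵁ (SA2.UU τ i) := by
    intro p
    obtain ⟨i, hi⟩ := hcov p
    obtain ⟨h', hle, hp⟩ := (isAffineOpen_top Y).exists_basicOpen_le
      (V := g ⁻¹ᵁ (SA2.UU τ i)) ⟨p, hi⟩ trivial
    exact ⟨i, h', hp, hle⟩
  choose i h' hp hle using hloc
  obtain ⟨t, ht⟩ := CompactSpace.elim_nhds_subcover
    (fun p : Y => ((Y.basicOpen (h' p) : Y.Opens) : Set Y))
    (fun p => (Y.basicOpen (h' p)).isOpen.mem_nhds (hp p))
  let φ : ∀ ℓ : Y, Γ(X, SA2.UU τ (i ℓ)) →+* Γ(Y, Y.basicOpen (h' ℓ)) :=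
    fun ℓ => (g.appLE (SA2.UU τ (i ℓ)) (Y.basicOpen (h' ℓ)) (hle ℓ)).hom
  let c : ∀ ℓ : Y, σ → Γ(Y, Y.basicOpen (h' ℓ)) := fun ℓ j => φ ℓ (SA2.coef τ (i ℓ) j)
  have hfin := fun ℓ : Y => finite_primes_basicOpen k A (h' ℓ) (c ℓ)
  let 𝒬 : Finset (Ideal (MvPolynomial σ ℤ)) := t.biUnion (fun ℓ => (hfin ℓ).toFinset)
  have hmem𝒬 : ∀ Q, Q ∈ 𝒬 ↔ ∃ ℓ ∈ t, ∃ p' : Ideal Γ(Y, Y.basicOpen (h' ℓ)), p'.IsPrime ∧
      Q = p'.comap (aeval (c ℓ) : MvPolynomial σ ℤ →ₐ[ℤ] _) := by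
    intro Q
    simp only [𝒬, Finset.mem_biUnion, Set.Finite.mem_toFinset, Set.mem_setOf_eq]
    exact Iff.rfl
  have hpt : ∀ p : Y, ∃ ℓ ∈ t, p ∈ Y.basicOpen (h' ℓ) := by
    intro p
    have : p ∈ ⋃ x ∈ t, ((Y.basicOpen (h' x) : Y.Opens) : Set Y) := by rw [ht]; trivial
    simpa using this
  have hprime : ∀ Q ∈ 𝒬, Q.IsPrime := by
    intro Q hQ
    obtain ⟨ℓ, -, p', hp', rfl⟩ := (hmem𝒬 Q).mp hQ
    exact Ideal.comap_isPrime _ _
  have hX : ∀ Q ∈ 𝒬, ∃ j : σ, (MvPolynomial.X j : MvPolynomial σ ℤ) ∉ Q := by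
    intro Q hQ
    obtain ⟨ℓ, -, p', hp', rfl⟩ := (hmem𝒬 Q).mp hQ
    refine ⟨i ℓ, fun hmem => ?_⟩
    rw [Ideal.mem_comap, aeval_X] at hmem
    have : c ℓ (i ℓ) = 1 := by
      change φ ℓ (SA2.coef τ (i ℓ) (i ℓ)) = 1
      rw [SA2.coef_self, map_one]
    rw [this] at hmem
    exact hp'.ne_top ((Ideal.eq_top_iff_one _).mpr hmem)
  have hne𝒬 : 𝒬.Nonempty := by
    obtain ⟨p₀⟩ := hne
    obtain ⟨ℓ, hℓ, hpℓ⟩ := hpt p₀
    have haff : IsAffineOpen (Y.basicOpen (h' ℓ)) := (isAffineOpen_top Y).basicOpen (h' ℓ)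
    exact ⟨_, (hmem𝒬 _).mpr ⟨ℓ, hℓ, (haff.primeIdealOf ⟨p₀, hpℓ⟩).asIdeal,
      (haff.primeIdealOf ⟨p₀, hpℓ⟩).isPrime, rfl⟩⟩
  obtain ⟨d, P, hG, hPQ⟩ := SA1.exists_gen_avoid 𝒬 hne𝒬 hprime hX
  obtain ⟨s, hs⟩ := SA2.exists_real τ hG
  refine ⟨d, s, ?_⟩
  rintro _ ⟨p, rfl⟩
  obtain ⟨ℓ, hℓ, hpℓ⟩ := hpt p
  have haff : IsAffineOpen (Y.basicOpen (h' ℓ)) := (isAffineOpen_top Y).basicOpen (h' ℓ)
  have hgp : g p ∈ SA2.UU τ (i ℓ) := hle ℓ hpℓ
  rw [SetLike.mem_coe, SA2.mem_genLocus_iff_of_real τ hs (i ℓ) (g p) hgp]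
  have hcomp : ∀ P' : MvPolynomial σ ℤ, (aeval (c ℓ) P' : Γ(Y, Y.basicOpen (h' ℓ))) =
      φ ℓ (aeval (SA2.coef τ (i ℓ)) P') := by
    intro P'
    have : ((φ ℓ).toIntAlgHom.comp (aeval (SA2.coef τ (i ℓ)) : MvPolynomial σ ℤ →ₐ[ℤ] _)) =
        (aeval (c ℓ) : MvPolynomial σ ℤ →ₐ[ℤ] _) := by
      apply MvPolynomial.algHom_ext
      intro j
      simp [c]
    exact (congrArg (fun θ : MvPolynomial σ ℤ →ₐ[ℤ] Γ(Y, Y.basicOpen (h' ℓ)) => θ P') this).symm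
  have h1 : p ∈ Y.basicOpen (φ ℓ (aeval (SA2.coef τ (i ℓ)) P)) := by
    rw [mem_basicOpen_iff_notMem_primeIdealOf haff p hpℓ]
    intro hmem
    apply hPQ _ ((hmem𝒬 _).mpr ⟨ℓ, hℓ, (haff.primeIdealOf ⟨p, hpℓ⟩).asIdeal,
      (haff.primeIdealOf ⟨p, hpℓ⟩).isPrime, rfl⟩)
    rw [Ideal.mem_comap, hcomp]
    exact hmem
  have h2 := Scheme.basicOpen_appLE g (Y.basicOpen (h' ℓ)) (SA2.UU τ (i ℓ)) (hle ℓ)
    (aeval (SA2.coef τ (i ℓ)) P)
  have h3 : p ∈ Y.basicOpen (h' ℓ) ⊓ g ⁻¹ᵁ (X.basicOpen (aeval (SA2.coef τ (i ℓ)) P :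
      Γ(X, SA2.UU τ (i ℓ)))) := h2 ▸ h1
  exact h3.2

end Spec

end Groth.Agent.Lib.Helper29.SA3
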