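import Groth.Agent.Lib.Helper29.SA3

/-! The quasi-affine step for S9222 (helper29). -/

universe u
open CategoryTheory CategoryTheory.Limits AlgebraicGeometry TopologicalSpace Opposite

namespace Groth.Agent.Lib.Helper29.SA4
open Groth.Agent.Lib.Helper29.QCoh Groth.Agent.Lib.Helper29

variable (k A : Type u) [Field k] [CommRing A] [Algebra k A] [Algebra.IsIntegral k A]
include k

theorem mem_basicOpen_iff {V : Scheme.{u}} (g' : Spec (CommRingCat.of A) ⟶ V) (f : Γ(V, ⊤))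
    (p : Spec (CommRingCat.of A)) :
    g' p ∈ V.basicOpen f ↔
      (Scheme.ΓSpecIso (CommRingCat.of A)).hom.hom (g'.appTop.hom f) ∉
        (show PrimeSpectrum A from p).asIdeal := by
  have h1 : g' p ∈ V.basicOpen f ↔ p ∈ g' ⁻¹ᵁ V.basicOpen f := Iff.rfl
  rw [h1, Scheme.preimage_basicOpen_top, basicOpen_eq_of_affine']
  rfl

/-- In a quasi-affine scheme, the image of `Spec A` (`A` integral over a field) inside an open `W'`
lies in an affine basic open `V_f ⊆ W'`. -/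
theorem exists_affine_basicOpen_range_le {V : Scheme.{u}} [V.IsQuasiAffine]
    (g' : Spec (CommRingCat.of A) ⟶ V) (W' : V.Opens) (hW' : Set.range g' ⊆ (W' : Set V)) :
    ∃ f : Γ(V, ⊤), IsAffineOpen (V.basicOpen f) ∧ V.basicOpen f ≤ W' ∧
      Set.range g' ⊆ (V.basicOpen f : Set V) := by
  classical
  obtain ⟨S, hS⟩ : ∃ S : Set (PrimeSpectrum Γ(V, ⊤)),
      S = ((V.toSpecΓ ''ᵁ W' : (Spec Γ(V, ⊤)).Opens) : Set (Spec Γ(V, ⊤))) :=
    ⟨((V.toSpecΓ ''ᵁ W' : (Spec Γ(V, ⊤)).Opens) : Set (Spec Γ(V, ⊤))), rfl⟩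
  have hSopen : IsOpen S := by rw [hS]; exact (V.toSpecΓ ''ᵁ W').isOpen
  obtain ⟨J, hJ⟩ := (PrimeSpectrum.isClosed_iff_zeroLocus_ideal Sᶜ).mp hSopen.isClosed_compl
  have hmem : ∀ x : PrimeSpectrum Γ(V, ⊤), x ∈ S ↔ ¬ ((J : Set Γ(V, ⊤)) ⊆ x.asIdeal) := by
    intro x
    have h1 : x ∈ Sᶜ ↔ x ∈ PrimeSpectrum.zeroLocus (J : Set Γ(V, ⊤)) := by rw [hJ]
    rw [Set.mem_compl_iff, PrimeSpectrum.mem_zeroLocus] at h1
    constructor
    · intro hx hJx; exact (h1.mpr hJx) hx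
    · intro hx; by_contra hxS; exact hx (h1.mp hxS)
  have hSmem : ∀ e : V, e ∈ W' → (V.toSpecΓ e : PrimeSpectrum Γ(V, ⊤)) ∈ S := by
    intro e he; rw [hS]; exact ⟨e, he, rfl⟩
  let φ : Γ(V, ⊤) →+* A := (Scheme.ΓSpecIso (CommRingCat.of A)).hom.hom.comp g'.appTop.hom
  have hmap : J.map φ = ⊤ := by
    by_contra hne
    obtain ⟨m, hm, hle⟩ := Ideal.exists_le_maximal _ hne
    let p : Spec (CommRingCat.of A) := (⟨m, hm.isPrime⟩ : PrimeSpectrum A)
    have hx := (hmem _).mp (hSmem (g' p) (hW' ⟨p, rfl⟩))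
    rw [Set.not_subset] at hx
    obtain ⟨f, hfJ, hf⟩ := hx
    have h1 : g' p ∈ V.basicOpen f := by
      rw [← Scheme.toSpecΓ_preimage_basicOpen]
      exact hf
    rw [mem_basicOpen_iff k A g' f p] at h1
    exact h1 (hle (Ideal.mem_map_of_mem φ hfJ))
  obtain ⟨F, hFJ, hFu⟩ := SA1.exists_mem_isUnit_map k φ J hmap
  have hDW : ((PrimeSpectrum.basicOpen F : Opens (PrimeSpectrum Γ(V, ⊤))) : Set _) ⊆ S := by
    intro x hx
    rw [hmem]
    intro hJx
    exact hx (hJx hFJ)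
  refine ⟨F, ?_, ?_, ?_⟩
  · rw [← Scheme.toSpecΓ_preimage_basicOpen,
      ← Scheme.Hom.isAffineOpen_iff_of_isOpenImmersion V.toSpecΓ]
    convert IsAffineOpen.Spec_basicOpen F
    exact SetLike.coe_injective (Set.image_preimage_eq_of_subset
      ((hS ▸ hDW).trans (Set.image_subset_range _ _)))
  · intro x hx
    rw [← Scheme.toSpecΓ_preimage_basicOpen] at hx
    obtain ⟨x', hx'W, hxx'⟩ := (hS ▸ hDW) hx
    rwa [← V.toSpecΓ.isEmbedding.injective hxx']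
  · rintro _ ⟨p, rfl⟩
    rw [SetLike.mem_coe, mem_basicOpen_iff k A g' F p]
    intro hmem'
    exact (show PrimeSpectrum A from p).isPrime.ne_top (Ideal.eq_top_of_isUnit_mem _ hmem' hFu)

end Groth.Agent.Lib.Helper29.SA4
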