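import Groth.Agent.Lib.Helper29.SA4

/-! S9222 assembly (helper29). -/

universe u
open CategoryTheory CategoryTheory.Limits AlgebraicGeometry TopologicalSpace Opposite

namespace Groth.Agent.Lib.Helper29.SA5
open Groth.Agent.Lib.Helper29.QCoh Groth.Agent.Lib.Helper29

theorem main {X : Scheme.{u}} (L : X.Modules) (hL : CohB1.IsAmple L)
    (k A : Type u) [Field k] [CommRing A] [Algebra k A] [Algebra.IsIntegral k A]
    (W : X.Opens) (g : Spec (CommRingCat.of A) ⟶ X) (hg : Set.range g ⊆ (W : Set X)) :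
    ∃ (n : ℕ) (s : unitM X ⟶ CohB1.tensorPow L (n + 1)),
      IsAffineOpen (CohB1.genLocus _ s) ∧ CohB1.genLocus _ s ≤ W ∧
        Set.range g ⊆ (CohB1.genLocus _ s : Set X) := by
  classical
  have hc : CompactSpace X := hL.2.1
  have hsep : X.IsSeparated := isSeparated_of_isAmple hL
  let Y := Spec (CommRingCat.of A)
  by_cases hne : Nonempty Y
  swap
  · refine ⟨0, 0, ?_, ?_, ?_⟩
    · have : CohB1.genLocus _ (0 : unitM X ⟶ CohB1.tensorPow L (0 + 1)) = ⊥ := by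
        ext x
        simp only [SetLike.mem_coe, Opens.coe_bot, Set.mem_empty_iff_false, iff_false]
        exact not_mem_genLocus_zero (isInvertible_tensorPow hL.1 _) x
      rw [this]; exact isAffineOpen_bot X
    · intro x hx
      exact absurd hx (not_mem_genLocus_zero (isInvertible_tensorPow hL.1 _) x)
    · rintro _ ⟨p, rfl⟩
      exact absurd ⟨p⟩ hne
  -- Step 1: finitely many sections
  have hsec : ∀ p : Y, ∃ (kk : ℕ) (t : unitM X ⟶ CohB1.tensorPow L (kk + 1)),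
      g p ∈ CohB1.genLocus _ t := by
    intro p
    obtain ⟨kk, t, hpt, -, -⟩ := exists_affine_genLocus_nhd hL (hg ⟨p, rfl⟩)
    exact ⟨kk, t, hpt⟩
  choose kk t ht using hsec
  obtain ⟨T, hT⟩ := CompactSpace.elim_nhds_subcover
    (fun p : Y => ((g ⁻¹ᵁ CohB1.genLocus _ (t p) : Y.Opens) : Set Y))
    (fun p => (g ⁻¹ᵁ CohB1.genLocus _ (t p)).isOpen.mem_nhds (ht p))
  have hpos : 0 < ∏ z ∈ T, (kk z + 1) := Finset.prod_pos fun z _ => Nat.succ_pos _
  obtain ⟨N, hN⟩ : ∃ N, ∏ z ∈ T, (kk z + 1) = N + 1 := ⟨_, (Nat.succ_pred_eq_of_pos hpos).symm⟩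
  have hM : PicF.IsInvertible (CohB1.tensorPow L (N + 1)) := isInvertible_tensorPow hL.1 _
  have hτ : ∀ z : T, ∃ τ : unitM X ⟶ CohB1.tensorPow L (N + 1),
      CohB1.genLocus _ τ = CohB1.genLocus _ (t z.1) := by
    intro z
    have hdvd : (kk z.1 + 1) ∣ N + 1 := by
      rw [← hN]; exact Finset.dvd_prod_of_mem (fun z => kk z + 1) z.2
    obtain ⟨b, hb⟩ := hdvd
    have hbpos : 0 < b := by
      rcases Nat.eq_zero_or_pos b with rfl | h
      · simp at hb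
      · exact h
    exact exists_pow_section hL.1 (t z.1) b (N + 1) hbpos hb.symm
  choose τ hτ using hτ
  have hcov : ∀ p : Y, ∃ i : T, g p ∈ CohB1.genLocus _ (τ i) := by
    intro p
    have : p ∈ ⋃ x ∈ T, ((g ⁻¹ᵁ CohB1.genLocus _ (t x) : Y.Opens) : Set Y) := by
      rw [hT]; trivial
    obtain ⟨z, hz, hpz⟩ := Set.mem_iUnion₂.mp this
    exact ⟨⟨z, hz⟩, by rw [hτ]; exact hpz⟩
  -- Step 2: one section
  obtain ⟨d, s₁, hs₁⟩ := SA3.exists_section_range_le k A hM g τ hcov hne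
  obtain ⟨s₂, hs₂⟩ := exists_section_of_iso (tensorPowMul L (N + 1) (d + 1)) s₁
  obtain ⟨K, hK⟩ : ∃ K, (N + 1) * (d + 1) = K + 1 :=
    ⟨_, (Nat.succ_pred_eq_of_pos (Nat.mul_pos (Nat.succ_pos _) (Nat.succ_pos _))).symm⟩
  obtain ⟨s₃, hs₃⟩ := exists_section_of_eq L hK s₂
  have hrange : Set.range g ⊆ (CohB1.genLocus _ s₃ : Set X) := by
    rw [hs₃, hs₂]; exact hs₁
  -- Step 3: quasi-affine
  have hMK : CohB1.IsAmple (CohB1.tensorPow L (K + 1)) :=
    (isAmple_iff_tensorPow hL.1 (K + 1) (Nat.succ_pos _)).mp hL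
  obtain ⟨V, hV⟩ : ∃ V : X.Opens, V = CohB1.genLocus _ s₃ := ⟨_, rfl⟩
  have hqa : (V : Scheme.{u}).IsQuasiAffine := by rw [hV]; exact isQuasiAffine_genLocus hMK s₃
  have hrV : Set.range g ⊆ Set.range V.ι := by
    rw [V.range_ι, hV]; exact hrange
  let g' : Y ⟶ (V : Scheme.{u}) := IsOpenImmersion.lift V.ι g hrV
  have hg' : g' ≫ V.ι = g := IsOpenImmersion.lift_fac V.ι g hrV
  have hgp : ∀ p : Y, V.ι (g' p) = g p := fun p => by
    rw [← hg']; rfl
  obtain ⟨r, hraff, hrW, hrg⟩ := SA4.exists_affine_basicOpen_range_le k A g' (V.ι ⁻¹ᵁ W) (by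
    rintro _ ⟨p, rfl⟩
    change V.ι (g' p) ∈ W
    rw [hgp]; exact hg ⟨p, rfl⟩)
  have himg := V.ι_image_basicOpen' r
  obtain ⟨f, hf⟩ : ∃ f : Γ(X, V), f = X.presheaf.map (eqToHom V.ι_image_top.symm).op r := ⟨_, rfl⟩
  rw [← hf] at himg
  have hfaff : IsAffineOpen (X.basicOpen f) := by
    rw [← himg]; exact hraff.image_of_isOpenImmersion V.ι
  subst hV
  obtain ⟨k', s, hs⟩ := exists_genLocus_eq_basicOpen hL.1 s₃ f
  refine ⟨k', s, hs ▸ hfaff, ?_, ?_⟩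
  · rw [hs, ← himg]
    rintro _ ⟨y, hy, rfl⟩
    exact hrW hy
  · rintro _ ⟨p, rfl⟩
    rw [hs, ← himg, ← hgp]
    exact ⟨g' p, hrg ⟨p, rfl⟩, rfl⟩

end Groth.Agent.Lib.Helper29.SA5
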