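import Groth.Agent.Lib.Helper29.SH4
import Mathlib.CategoryTheory.Limits.Constructions.FiniteProductsOfBinaryProducts
universe u
open CategoryTheory CategoryTheory.Limits AlgebraicGeometry Opposite TopologicalSpace

/-! # Serre's criterion: affineness from vanishing of `H¹` of quasi-coherent ideals -/

namespace Groth.Agent.Lib.Helper29.QCoh

section SH5
variable {X : Scheme.{u}}

/-- All quasi-coherent subobjects of `P` have vanishing `H¹`. -/
def H1Good (P : X.Modules) : Prop :=
  ∀ (K : X.Modules) (j : K ⟶ P), Mono j → K.IsQuasicoherent → Subsingleton (Coh.HH X K 1)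

theorem H1Good.of_iso {P P' : X.Modules} (e : P ≅ P') (h : H1Good P) : H1Good P' :=
  fun K j _ hK => h K (j ≫ e.inv) inferInstance hK

theorem h1Good_of_isZero {P : X.Modules} (hP : IsZero P) : H1Good P := by
  intro K j _ _
  have hK : IsZero K := by
    rw [IsZero.iff_id_eq_zero]
    apply (cancel_mono j).mp
    exact hP.eq_of_tgt _ _
  have : IsZero (Coh.toAb K) := (toSheafAb X).map_isZero hK
  exact Sheaf.subsingleton_H_of_isZero this 1

theorem H1Good.biprod {P₁ P₂ : X.Modules} [P₂.IsQuasicoherent] (h₁ : H1Good P₁) (h₂ : H1Good P₂) :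
    H1Good (P₁ ⊞ P₂) := by
  intro K j _ hK
  set φ : K ⟶ P₂ := j ≫ biprod.snd with hφ
  -- the kernel part embeds in `P₁`
  have hker : Subsingleton (Coh.HH X (kernel φ) 1) := by
    have h0 : (kernel.ι φ ≫ j) ≫ biprod.snd = 0 := by
      rw [Category.assoc]; exact kernel.condition φ
    have h1 : (kernel.ι φ ≫ j ≫ biprod.fst) ≫ biprod.inl = kernel.ι φ ≫ j := by
      have ht := biprod.total (X := P₁) (Y := P₂)
      calc (kernel.ι φ ≫ j ≫ biprod.fst) ≫ biprod.inl
          = (kernel.ι φ ≫ j) ≫ (biprod.fst ≫ biprod.inl) := by simp only [Category.assoc]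
        _ = (kernel.ι φ ≫ j) ≫ (biprod.fst ≫ biprod.inl + biprod.snd ≫ biprod.inr) := by
            rw [Preadditive.comp_add, ← Category.assoc _ biprod.snd, h0, zero_comp, add_zero]
        _ = kernel.ι φ ≫ j := by rw [ht, Category.comp_id]
    have : Mono ((kernel.ι φ ≫ j ≫ biprod.fst) ≫ (biprod.inl : P₁ ⟶ P₁ ⊞ P₂)) := by
      rw [h1]; infer_instance
    have hm : Mono (kernel.ι φ ≫ j ≫ (biprod.fst : P₁ ⊞ P₂ ⟶ P₁)) :=
      mono_of_mono _ (biprod.inl : P₁ ⟶ P₁ ⊞ P₂)
    exact h₁ _ _ hm inferInstance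
  -- the image part embeds in `P₂`
  have hcoim : Subsingleton (Coh.HH X (Abelian.coimage φ) 1) :=
    h₂ _ (Abelian.factorThruCoimage φ) inferInstance
      (inferInstanceAs (cokernel (kernel.ι φ)).IsQuasicoherent)
  have hSE : (ShortComplex.mk (kernel.ι φ) (cokernel.π (kernel.ι φ))
      (cokernel.condition _)).ShortExact :=
    ShortComplex.ShortExact.mk (ShortComplex.exact_cokernel _)
  exact subsingleton_HH_of_shortExact _ hSE 1

/-- `O_X^{n+1} ≅ O_X ⊞ O_X^n`. -/
noncomputable def freeModSuccIso (X : Scheme.{u}) (n : ℕ) :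
    FlatMod.freeMod X (n + 1) ≅ unitM X ⊞ FlatMod.freeMod X n :=
  ((extendCofanIsColimit (fun _ : Fin (n + 1) => unitM X)
    (coproductIsCoproduct (fun _ : Fin n => unitM X))
    (coprodIsCoprod (unitM X) (∐ fun _ : Fin n => unitM X))).coconePointUniqueUpToIso
      (coproductIsCoproduct (fun _ : Fin (n + 1) => unitM X))).symm ≪≫
    (biprod.isoCoprod (unitM X) (FlatMod.freeMod X n)).symm

theorem h1Good_freeMod (h : H1Good (unitM X)) (n : ℕ) : H1Good (FlatMod.freeMod X n) := by
  induction n with
  | zero =>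
    apply h1Good_of_isZero
    rw [IsZero.iff_id_eq_zero]
    apply Sigma.hom_ext
    intro k
    exact k.elim0
  | succ n ih =>
    have hq : (FlatMod.freeMod X n).IsQuasicoherent :=
      isQuasicoherent_of_isFinLocFree (isFinLocFree_freeMod X _)
    exact (H1Good.biprod h ih).of_iso (freeModSuccIso X n).symm

/-- **Serre's criterion**: a quasi-compact scheme all of whose quasi-coherent ideals have vanishing
`H¹` is affine. -/
theorem isAffine_of_forall_subsingleton_HH_one [CompactSpace X]
    (h : ∀ (I : X.Modules) (i : I ⟶ Coh.structureModule X), Mono i →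
      Coh.IsQCoh I → Subsingleton (Coh.HH X I 1)) : IsAffine X := by
  apply isAffine_of_forall_surjective
  intro n F F'' i p _ _ hF hF''
  have hF' : F.IsQuasicoherent := hF
  have hF''' : F''.IsQuasicoherent := hF''
  have hK : Subsingleton (Coh.HH X (kernel p) 1) :=
    h1Good_freeMod h n (kernel p) (kernel.ι p ≫ i) inferInstance inferInstance
  have hSE : (ShortComplex.mk (kernel.ι p) p (kernel.condition _)).ShortExact :=
    ShortComplex.ShortExact.mk (ShortComplex.exact_kernel _)
  exact app_top_surjective_of_subsingleton_HH_one _ hSE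

end SH5
end Groth.Agent.Lib.Helper29.QCoh
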