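import Groth.Agent.Lib.Helper29.QCohLocFree
import Groth.Agent.Lib.Helper29.ToProj4
universe u
open CategoryTheory CategoryTheory.Limits AlgebraicGeometry Opposite TopologicalSpace

namespace Groth.Agent.Lib.Helper29.SecK
open Groth.Agent.Lib.Helper29.QCoh
open Scheme.Modules

theorem gamma_map_eq {R : CommRingCat.{u}} (L₁ L₂ : (Spec R).Modules)
    [IsIso (fromTildeΓ L₁)]
    (e' : moduleSpecΓFunctor.obj L₁ ⟶ moduleSpecΓFunctor.obj L₂) :
    moduleSpecΓFunctor.map (inv (fromTildeΓ L₁) ≫ (tilde.functor R).map e' ≫ fromTildeΓ L₂) =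
      e' := by
  have h1 : (tilde.adjunction (R := R)).unit.app (moduleSpecΓFunctor.obj L₁) ≫
      moduleSpecΓFunctor.map (fromTildeΓ L₁) = 𝟙 _ :=
    (tilde.adjunction (R := R)).right_triangle_components L₁
  have h2 : (tilde.adjunction (R := R)).unit.app (moduleSpecΓFunctor.obj L₂) ≫
      moduleSpecΓFunctor.map (fromTildeΓ L₂) = 𝟙 _ :=
    (tilde.adjunction (R := R)).right_triangle_components L₂
  have h3 : (tilde.adjunction (R := R)).unit.app (moduleSpecΓFunctor.obj L₁) ≫
      moduleSpecΓFunctor.map ((tilde.functor R).map e') =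
      e' ≫ (tilde.adjunction (R := R)).unit.app (moduleSpecΓFunctor.obj L₂) :=
    ((tilde.adjunction (R := R)).unit.naturality e').symm
  have h4 : moduleSpecΓFunctor.map (fromTildeΓ L₁) ≫
      moduleSpecΓFunctor.map (inv (fromTildeΓ L₁) ≫ (tilde.functor R).map e' ≫ fromTildeΓ L₂) =
      moduleSpecΓFunctor.map ((tilde.functor R).map e') ≫
        moduleSpecΓFunctor.map (fromTildeΓ L₂) := by
    refine (moduleSpecΓFunctor.map_comp _ _).symm.trans ?_
    refine Eq.trans ?_ (moduleSpecΓFunctor.map_comp _ _)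
    exact congrArg _ (IsIso.hom_inv_id_assoc _ _)
  refine (Category.id_comp _).symm.trans ?_
  refine (congrArg (· ≫ _) h1.symm).trans ?_
  refine (Category.assoc _ _ _).trans ?_
  refine (congrArg (_ ≫ ·) h4).trans ?_
  refine (Category.assoc _ _ _).symm.trans ?_
  refine (congrArg (· ≫ _) h3).trans ?_
  refine (Category.assoc _ _ _).trans ?_
  refine (congrArg (_ ≫ ·) h2).trans ?_
  exact Category.comp_id _

/-- On `Spec R`, a linear isomorphism between the modules of global sections of two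
quasi-coherent modules is induced by an isomorphism of modules. -/
theorem exists_iso_of_linearEquiv {R : CommRingCat.{u}} (L₁ L₂ : (Spec R).Modules)
    [L₁.IsQuasicoherent] [L₂.IsQuasicoherent]
    (e : (moduleSpecΓFunctor.obj L₁) ≃ₗ[R] (moduleSpecΓFunctor.obj L₂)) :
    ∃ τ : L₁ ≅ L₂, ∀ x : Γ(L₁, ⊤), τ.hom.app ⊤ x = e x := by
  refine ⟨(asIso (fromTildeΓ L₁)).symm ≪≫ (tilde.functor R).mapIso e.toModuleIso ≪≫
    (asIso (fromTildeΓ L₂) :), fun x => ?_⟩
  have key := gamma_map_eq L₁ L₂ e.toModuleIso.hom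
  exact congrArg (fun φ => φ.hom x) key

end Groth.Agent.Lib.Helper29.SecK
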