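import Groth.Agent.Lib.Helper29.SecK9
universe u v
open CategoryTheory CategoryTheory.Limits AlgebraicGeometry Opposite TopologicalSpace

namespace Groth.Agent.Lib.Helper29.SecK
open Groth.Agent.Lib.Helper29.QCoh
open Scheme.Modules

theorem result_general (n : ℕ) (R : CommRingCat.{u}) (F : Submodule R (Fin (n + 1) → R)) :
    (∃ s : Spec R ⟶ Proj (CohB1.polyGrading n R),
        s ≫ CohB1.ProjSpace.toSpec n R = 𝟙 (Spec R) ∧
        ∀ c : Fin (n + 1) → R,
          (∑ i, ((Scheme.ΓSpecIso R).inv.hom (c i)) • pc n R s i = 0) ↔ c ∈ F) ↔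
      (Module.Projective R ((Fin (n + 1) → R) ⧸ F) ∧
        ∀ p : PrimeSpectrum R, Module.finrank (Localization.AtPrime p.asIdeal)
          (LocalizedModule p.asIdeal.primeCompl ((Fin (n + 1) → R) ⧸ F)) = 1) := by
  constructor
  · rintro ⟨s, -, hF⟩
    have hk : F = LinearMap.ker (Fintype.linearCombination R (pc n R s)) := by
      ext c
      rw [LinearMap.mem_ker, linearCombination_pc_eq]
      exact (hF c).symm
    subst hk
    exact forward' n R s
  · rintro ⟨hproj, hrank⟩
    obtain ⟨s, hs, hk⟩ := backward' n R F hrank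
    refine ⟨s, hs, fun c => ?_⟩
    rw [← linearCombination_pc_eq, ← LinearMap.mem_ker, hk]

theorem result_S3590 {R : Type u} [CommRing R] (n : ℕ)
    (F : Submodule R (Fin (n + 1) → R)) :
    (∃ s : Spec (CommRingCat.of R) ⟶ CohB1.ProjSpace n R,
        s ≫ CohB1.ProjSpace.toSpec n R = 𝟙 _ ∧ ProjUP.secKernel n R s = F) ↔
      (Module.Projective R ((Fin (n + 1) → R) ⧸ F) ∧
        ∀ p : PrimeSpectrum R, Module.finrank (Localization.AtPrime p.asIdeal)
          (LocalizedModule p.asIdeal.primeCompl ((Fin (n + 1) → R) ⧸ F)) = 1) := by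
  refine Iff.trans ?_ (result_general n (CommRingCat.of R) F)
  refine exists_congr fun s => and_congr_right fun _ => ?_
  rw [SetLike.ext_iff]
  exact forall_congr' fun c => by rw [mem_secKernel_iff]

end Groth.Agent.Lib.Helper29.SecK
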