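import Groth.Agent.Lib.Helper29.SecK1
import Groth.Agent.Lib.Helper29.Const2
universe u
open CategoryTheory CategoryTheory.Limits AlgebraicGeometry Opposite TopologicalSpace

namespace Groth.Agent.Lib.Helper29.SecK
open Groth.Agent.Lib.Helper29.QCoh
open Scheme.Modules

/-- On an affine scheme, sections generating an invertible module at every stalk span its module
of global sections. -/
theorem mem_span_of_generating {X : Scheme.{u}} (hX : IsAffineOpen (⊤ : X.Opens))
    {L : X.Modules} (hL : PicF.IsInvertible L) {ι : Type*} (t : ι → Γ(L, ⊤))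
    (ht : ∀ x : X, Submodule.span (X.presheaf.stalk x)
      (Set.range fun i => (L.presheaf.germ ⊤ x trivial).hom (t i)) = ⊤) (σ : Γ(L, ⊤)) :
    σ ∈ Submodule.span Γ(X, ⊤) (Set.range t) := by
  haveI := isQuasicoherent_of_isInvertible hL
  let I : Ideal Γ(X, ⊤) :=
    { carrier := {r | r • σ ∈ Submodule.span Γ(X, ⊤) (Set.range t)}
      add_mem' := by
        intro a b ha hb
        change (a + b) • σ ∈ Submodule.span Γ(X, ⊤) (Set.range t)
        rw [add_smul]
        exact Submodule.add_mem _ ha hb
      zero_mem' := by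
        change (0 : Γ(X, ⊤)) • σ ∈ Submodule.span Γ(X, ⊤) (Set.range t)
        rw [zero_smul]
        exact Submodule.zero_mem _
      smul_mem' := by
        intro c a ha
        change (c • a) • σ ∈ Submodule.span Γ(X, ⊤) (Set.range t)
        rw [smul_eq_mul, mul_smul]
        exact Submodule.smul_mem _ c ha }
  have hI : I = ⊤ := by
    apply ideal_eq_top_of_forall_mem_basicOpen hX
    intro x _
    obtain ⟨i₀, hi₀⟩ := exists_mem_genLocus_of_span_germ hL t x (ht x)
    have hT : IsTriv L (CohB1.genLocus L (homOfSection L (t i₀))) (res L le_top (t i₀)) := by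
      have := isTriv_sval_of_le_genLocus (homOfSection L (t i₀)) le_rfl
      rwa [sval_homOfSection] at this
    obtain ⟨c, hc⟩ := hT.exists_eq_smul (res L le_top σ)
    obtain ⟨f, hfV, hxf⟩ := hX.exists_basicOpen_le ⟨x, hi₀⟩ trivial
    have hloc := hX.isLocalization_basicOpen f
    obtain ⟨n, b, hb⟩ := IsLocalization.Away.surj f (rres X hfV c)
    -- `(f^n σ - b t)|_{D(f)} = 0`
    have h0 : res L (X.basicOpen_le f) (f ^ n • σ - b • t i₀) = 0 := by
      have e1 : res L (X.basicOpen_le f) σ = rres X hfV c • res L (X.basicOpen_le f) (t i₀) := by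
        have := congrArg (res L hfV) hc
        rw [res_res, res_smul, res_res] at this
        exact this
      rw [map_sub, res_smul, res_smul, e1, smul_smul, sub_eq_zero]
      congr 1
      rw [map_pow, mul_comm]
      exact hb
    obtain ⟨m, hm⟩ := exists_pow_smul_eq_zero L hX f _ h0
    refine ⟨f ^ m * f ^ n, ?_, ?_⟩
    · change (f ^ m * f ^ n) • σ ∈ Submodule.span Γ(X, ⊤) (Set.range t)
      rw [smul_sub, sub_eq_zero, smul_smul, smul_smul] at hm
      rw [hm]
      exact Submodule.smul_mem _ _ (Submodule.subset_span ⟨i₀, rfl⟩)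
    · rw [← pow_add]
      exact mem_basicOpen_pow f _ x trivial hxf
  have h1 : (1 : Γ(X, ⊤)) ∈ I := by rw [hI]; trivial
  have h2 : (1 : Γ(X, ⊤)) • σ ∈ Submodule.span Γ(X, ⊤) (Set.range t) := h1
  rwa [one_smul] at h2

end Groth.Agent.Lib.Helper29.SecK
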