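import Groth.Agent.Lib.Helper29.SecK2
import Groth.Prelude.Def_ProjUP
universe u
open CategoryTheory CategoryTheory.Limits AlgebraicGeometry Opposite TopologicalSpace

namespace Groth.Agent.Lib.Helper29.SecK
open Groth.Agent.Lib.Helper29.QCoh
open Scheme.Modules

/-- Two surjective linear maps with the same kernel differ by a linear equivalence. -/
theorem exists_linearEquiv_of_ker_eq {R E M₁ M₂ : Type*} [CommRing R] [AddCommGroup E] [Module R E]
    [AddCommGroup M₁] [Module R M₁] [AddCommGroup M₂] [Module R M₂]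
    (φ₁ : E →ₗ[R] M₁) (φ₂ : E →ₗ[R] M₂) (h₁ : Function.Surjective φ₁)
    (h₂ : Function.Surjective φ₂) (hk : LinearMap.ker φ₁ = LinearMap.ker φ₂) :
    ∃ e : M₁ ≃ₗ[R] M₂, ∀ v, e (φ₁ v) = φ₂ v := by
  refine ⟨(LinearMap.quotKerEquivOfSurjective φ₁ h₁).symm ≪≫ₗ
    (Submodule.quotEquivOfEq _ _ hk) ≪≫ₗ (LinearMap.quotKerEquivOfSurjective φ₂ h₂), fun v => ?_⟩
  have e1 : φ₁ v = LinearMap.quotKerEquivOfSurjective φ₁ h₁ (Submodule.Quotient.mk v) := rfl
  rw [e1]
  simp only [LinearEquiv.trans_apply, LinearEquiv.symm_apply_apply]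
  rfl

section Spec
variable {R : CommRingCat.{u}}

theorem smul_top_eq (L : (Spec R).Modules) (r : R) (x : Γ(L, ⊤)) :
    r • x = ((Scheme.ΓSpecIso R).inv.hom r) • x := by
  rw [Scheme.Modules.smul_Spec_def]
  congr 1

/-- Generating sections of an invertible module on `Spec R` generate the module of global
sections over `R`. -/
theorem linearCombination_surjective {L : (Spec R).Modules} (hL : PicF.IsInvertible L)
    {n : ℕ} (t : Fin n → Γ(L, ⊤))
    (ht : ∀ x : Spec R, Submodule.span ((Spec R).presheaf.stalk x)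
      (Set.range fun i => (L.presheaf.germ ⊤ x trivial).hom (t i)) = ⊤) :
    Function.Surjective (Fintype.linearCombination R t) := by
  intro σ
  have h1 := mem_span_of_generating (isAffineOpen_top (Spec R)) hL t ht σ
  obtain ⟨a, ha⟩ := (Submodule.mem_span_range_iff_exists_fun _).mp h1
  refine ⟨fun i => (Scheme.ΓSpecIso R).hom.hom (a i), ?_⟩
  rw [Fintype.linearCombination_apply, ← ha]
  apply Finset.sum_congr rfl
  intro i _
  rw [smul_top_eq]
  congr 1
  exact congrArg (fun φ => φ.hom (a i)) (Scheme.ΓSpecIso R).hom_inv_id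

end Spec

end Groth.Agent.Lib.Helper29.SecK
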