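import Groth.Agent.Lib.Helper29.SecK3
universe u
open CategoryTheory CategoryTheory.Limits AlgebraicGeometry Opposite TopologicalSpace

namespace Groth.Agent.Lib.Helper29.SecK
open Groth.Agent.Lib.Helper29.QCoh
open Scheme.Modules

section General
variable (n : ℕ) (R : CommRingCat.{u})

/-- The pulled back coordinates. -/
noncomputable abbrev pc (s : Spec R ⟶ Proj (CohB1.polyGrading n R))
    (i : Fin (n + 1)) :
    Γ((Scheme.Modules.pullback s).obj (Twist.twist (CohB1.polyGrading n R) 1), ⊤) :=
  pullSect s (Twist.twist (CohB1.polyGrading n R) 1) ⊤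
    (oneSecOn (CohB1.polyGrading n R) (Xi n R i) ⊤)

theorem linearCombination_pc_eq (s : Spec R ⟶ Proj (CohB1.polyGrading n R))
    (c : Fin (n + 1) → R) :
    Fintype.linearCombination R (pc n R s) c =
      ∑ i, ((Scheme.ΓSpecIso R).inv.hom (c i)) • pc n R s i := by
  rw [Fintype.linearCombination_apply]
  exact Finset.sum_congr rfl fun i _ => smul_top_eq _ (c i) (pc n R s i)

/-- **A section of projective space over an affine base is determined by its module of
relations.** -/
theorem section_ext' (s₁ s₂ : Spec R ⟶ Proj (CohB1.polyGrading n R))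
    (h : s₁ ≫ CohB1.ProjSpace.toSpec n R = s₂ ≫ CohB1.ProjSpace.toSpec n R)
    (H : ∀ c : Fin (n + 1) → R,
      (∑ i, ((Scheme.ΓSpecIso R).inv.hom (c i)) • pc n R s₁ i = 0) ↔
      (∑ i, ((Scheme.ΓSpecIso R).inv.hom (c i)) • pc n R s₂ i = 0)) : s₁ = s₂ := by
  have hL₁ : PicF.IsInvertible ((Scheme.Modules.pullback s₁).obj
      (Twist.twist (CohB1.polyGrading n R) 1)) :=
    isInvertible_pullback s₁ (isInvertible_twist_projSpace n R 1)
  have hL₂ : PicF.IsInvertible ((Scheme.Modules.pullback s₂).obj
      (Twist.twist (CohB1.polyGrading n R) 1)) :=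
    isInvertible_pullback s₂ (isInvertible_twist_projSpace n R 1)
  have hφ₁ := linearCombination_surjective hL₁ (pc n R s₁)
    (span_germ_pullSect_coord_eq_top n R s₁)
  have hφ₂ := linearCombination_surjective hL₂ (pc n R s₂)
    (span_germ_pullSect_coord_eq_top n R s₂)
  have hk : LinearMap.ker (Fintype.linearCombination R (pc n R s₁)) =
      LinearMap.ker (Fintype.linearCombination R (pc n R s₂)) := by
    ext c
    rw [LinearMap.mem_ker, LinearMap.mem_ker, linearCombination_pc_eq, linearCombination_pc_eq]
    exact H c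
  obtain ⟨e, he⟩ := exists_linearEquiv_of_ker_eq _ _ hφ₁ hφ₂ hk
  haveI := isQuasicoherent_of_isInvertible hL₁
  haveI := isQuasicoherent_of_isInvertible hL₂
  obtain ⟨τ, hτ⟩ := exists_iso_of_linearEquiv _ _ e
  apply projSpace_hom_ext n R s₁ s₂ h τ
  intro i
  have h3 := he (Pi.single i 1)
  rw [Fintype.linearCombination_apply_single, Fintype.linearCombination_apply_single,
    one_smul, one_smul] at h3
  exact (hτ _).trans h3

end General

end Groth.Agent.Lib.Helper29.SecK
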