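import Groth.Agent.Lib.Helper29.SecK4
universe u
open CategoryTheory CategoryTheory.Limits AlgebraicGeometry Opposite TopologicalSpace

namespace Groth.Agent.Lib.Helper29.SecK
open Groth.Agent.Lib.Helper29.QCoh
open Scheme.Modules

variable (n : ℕ) (R : Type u) [CommRing R]

theorem mem_secKernel_iff (s : Spec (CommRingCat.of R) ⟶ CohB1.ProjSpace n R)
    (c : Fin (n + 1) → R) :
    c ∈ ProjUP.secKernel n R s ↔
      ∑ i, ((Scheme.ΓSpecIso (CommRingCat.of R)).inv.hom (c i)) •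
        pc n (CommRingCat.of R) s i = 0 := by
  exact Iff.rfl

theorem section_ext (s₁ s₂ : Spec (CommRingCat.of R) ⟶ CohB1.ProjSpace n R)
    (h₁ : s₁ ≫ CohB1.ProjSpace.toSpec n R = 𝟙 _) (h₂ : s₂ ≫ CohB1.ProjSpace.toSpec n R = 𝟙 _)
    (h : ProjUP.secKernel n R s₁ = ProjUP.secKernel n R s₂) : s₁ = s₂ := by
  apply section_ext' n (CommRingCat.of R) s₁ s₂ (h₁.trans h₂.symm)
  intro c
  rw [← mem_secKernel_iff n R s₁ c, ← mem_secKernel_iff n R s₂ c, h]

end Groth.Agent.Lib.Helper29.SecK
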