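import Groth.Agent.Lib.Helper29.SecK5
import Mathlib.RingTheory.Spectrum.Prime.FreeLocus
universe u v
open CategoryTheory CategoryTheory.Limits AlgebraicGeometry Opposite TopologicalSpace

namespace Groth.Agent.Lib.Helper29.SecK
open Groth.Agent.Lib.Helper29.QCoh
open Scheme.Modules

/-- The rank of a localized module does not depend on the model of the localization. -/
theorem finrank_eq_of_isLocalizedModule {R : Type*} [CommRing R] (S : Submonoid R)
    {A A' : Type*} [CommRing A] [CommRing A'] [Algebra R A] [Algebra R A']
    [IsLocalization S A] [IsLocalization S A']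
    {M : Type*} {N N' : Type v} [AddCommGroup M] [AddCommGroup N] [AddCommGroup N'] [Module R M]
    [Module R N] [Module R N'] [Module A N] [Module A' N'] [IsScalarTower R A N]
    [IsScalarTower R A' N']
    (f : M →ₗ[R] N) (f' : M →ₗ[R] N') [IsLocalizedModule S f] [IsLocalizedModule S f'] :
    Module.finrank A N = Module.finrank A' N' := by
  let i : A ≃ₐ[R] A' := IsLocalization.algEquiv S A A'
  let j : N ≃ₗ[R] N' := IsLocalizedModule.linearEquiv S f f'
  have hc : ∀ (a : A) (m : N), j.toAddEquiv (a • m) = i a • j.toAddEquiv m := by
    intro a m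
    obtain ⟨r, s, rfl⟩ := IsLocalization.exists_mk'_eq S a
    apply ((Module.End.isUnit_iff _).mp (IsLocalizedModule.map_units f' s)).1
    change (s : R) • j (IsLocalization.mk' A r s • m) = (s : R) • (i (IsLocalization.mk' A r s) • j m)
    have h1 : (s : R) • j (IsLocalization.mk' A r s • m) = r • j m := by
      rw [← LinearEquiv.map_smul, ← smul_assoc, IsLocalization.smul_mk'_self, algebraMap_smul,
        LinearEquiv.map_smul]
    have h2 : (s : R) • i (IsLocalization.mk' A r s) = algebraMap R A' r := by
      rw [Algebra.smul_def, ← i.commutes (s : R), ← map_mul, ← Algebra.smul_def,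
        IsLocalization.smul_mk'_self, i.commutes]
    rw [h1, ← smul_assoc, h2, algebraMap_smul]
  have h := rank_eq_of_equiv_equiv (i : A → A') j.toAddEquiv i.bijective hc
  exact congrArg Cardinal.toNat h

end Groth.Agent.Lib.Helper29.SecK
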