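import Groth.Agent.Lib.Helper29.SecK6
universe u v
open CategoryTheory CategoryTheory.Limits AlgebraicGeometry Opposite TopologicalSpace

namespace Groth.Agent.Lib.Helper29.SecK
open Groth.Agent.Lib.Helper29.QCoh
open Scheme.Modules

section Spec
variable {R : CommRingCat.{u}}

theorem isFinLocFree_of_isInvertible {X : Scheme.{u}} {L : X.Modules} (hL : PicF.IsInvertible L) :
    FlatMod.IsFinLocFree L :=
  isFinLocFree_of_isFinLocFreeOfRank ((isInvertible_iff_isFinLocFreeOfRank_one L).mp hL)

attribute [local instance] RingHomInvPair.of_ringEquiv RingHomInvPair.of_ringEquiv_symm in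
/-- Global sections of an invertible module on `Spec R` form a projective `R`-module. -/
theorem projective_sections {L : (Spec R).Modules} (hL : PicF.IsInvertible L) :
    Module.Projective R Γ(L, ⊤) := by
  have h1 := (finite_projective_sections_of_isFinLocFree (isFinLocFree_of_isInvertible hL)
    (isAffineOpen_top (Spec R))).2
  let e : Γ(Spec R, ⊤) ≃+* R := (Scheme.ΓSpecIso R).commRingCatIsoToRingEquiv
  let e₂ : Γ(L, ⊤) ≃ₛₗ[(e : Γ(Spec R, ⊤) →+* R)] Γ(L, ⊤) :=
    { toFun := id
      map_add' := fun _ _ => rfl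
      map_smul' := fun a x => by
        change a • x = (e a) • x
        rw [smul_top_eq]
        congr 1
        exact (e.symm_apply_apply a).symm
      invFun := id
      left_inv := fun _ => rfl
      right_inv := fun _ => rfl }
  exact Module.Projective.of_equiv e₂

set_option backward.isDefEq.respectTransparency false in
/-- Global sections of an invertible module on `Spec R` have rank one at every prime. -/
theorem rankAtStalk_sections {L : (Spec R).Modules} (hL : PicF.IsInvertible L)
    [Module.Finite R Γ(L, ⊤)] (p : PrimeSpectrum R) :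
    Module.rankAtStalk (R := R) Γ(L, ⊤) p = 1 := by
  haveI := isQuasicoherent_of_isInvertible hL
  haveI : Module.Projective R Γ(L, ⊤) := projective_sections hL
  obtain ⟨V, ε, -, hxV, -, hT⟩ := exists_affine_isTriv hL (W := ⊤) (p : Spec R) trivial
  obtain ⟨_, ⟨_, ⟨f, rfl⟩, rfl⟩, hpf, hfV⟩ :=
    PrimeSpectrum.isBasis_basic_opens.exists_subset_of_mem_open hxV V.2
  have hT' : IsTriv L (PrimeSpectrum.basicOpen f) (res L hfV ε) := hT.restrict hfV
  -- the sections over `D(f)` are free of rank one
  let θ : Γ(Spec R, PrimeSpectrum.basicOpen f) ≃ₗ[Γ(Spec R, PrimeSpectrum.basicOpen f)]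
      Γ(L, PrimeSpectrum.basicOpen f) :=
    LinearEquiv.ofBijective (LinearMap.toSpanSingleton _ _ (res L hfV ε)) hT'.bijective
  have hloc0 := (isIso_fromTildeΓ_iff_isLocalizing L).mp inferInstance f
  obtain ⟨ρ, hloc⟩ : ∃ ρ : Γ(L, ⊤) →ₗ[R] Γ(L, PrimeSpectrum.basicOpen f),
      IsLocalizedModule (.powers f) ρ := ⟨_, hloc0⟩
  have hbc : IsBaseChange Γ(Spec R, PrimeSpectrum.basicOpen f) ρ :=
    IsLocalizedModule.isBaseChange (.powers f) Γ(Spec R, PrimeSpectrum.basicOpen f) ρ
  have hdisj : Disjoint (Submonoid.powers f : Set R) (p.asIdeal : Set R) := by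
    rw [Set.disjoint_left]
    rintro _ ⟨n, rfl⟩ hn
    exact hpf (p.isPrime.mem_of_pow_mem n hn)
  have hq : (Ideal.map (algebraMap R Γ(Spec R, PrimeSpectrum.basicOpen f)) p.asIdeal).IsPrime :=
    IsLocalization.isPrime_of_isPrime_disjoint (.powers f) _ _ p.isPrime hdisj
  have hqc : Ideal.comap (algebraMap R Γ(Spec R, PrimeSpectrum.basicOpen f))
      (Ideal.map (algebraMap R Γ(Spec R, PrimeSpectrum.basicOpen f)) p.asIdeal) = p.asIdeal :=
    IsLocalization.comap_map_of_isPrime_disjoint (.powers f) _ p.isPrime hdisj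
  have h1 := Module.rankAtStalk_isBaseChange hbc ⟨_, hq⟩
  have h2 : PrimeSpectrum.comap (algebraMap R Γ(Spec R, PrimeSpectrum.basicOpen f)) ⟨_, hq⟩ = p :=
    PrimeSpectrum.ext hqc
  rw [h2] at h1
  rw [← h1, ← Module.rankAtStalk_eq_of_equiv θ]
  haveI : Nontrivial Γ(Spec R, PrimeSpectrum.basicOpen f) := ⟨⟨0, 1, fun h => by
    have := hq.ne_top
    exact this ((Ideal.eq_top_iff_one _).mpr (h ▸ Ideal.zero_mem _))⟩⟩
  exact congrFun Module.rankAtStalk_self _

end Spec

end Groth.Agent.Lib.Helper29.SecK
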