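import Groth.Agent.Lib.Helper29.SecK7
universe u v
open CategoryTheory CategoryTheory.Limits AlgebraicGeometry Opposite TopologicalSpace

namespace Groth.Agent.Lib.Helper29.SecK
open Groth.Agent.Lib.Helper29.QCoh
open Scheme.Modules

section General
variable (n : ℕ) (R : CommRingCat.{u})

/-- The module of relations of a section has an invertible quotient. -/
theorem forward' (s : Spec R ⟶ Proj (CohB1.polyGrading n R)) :
    Module.Projective R
      ((Fin (n + 1) → R) ⧸ LinearMap.ker (Fintype.linearCombination R (pc n R s))) ∧
    ∀ p : PrimeSpectrum R, Module.rankAtStalk (R := R)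
      ((Fin (n + 1) → R) ⧸ LinearMap.ker (Fintype.linearCombination R (pc n R s))) p = 1 := by
  have hL : PicF.IsInvertible ((Scheme.Modules.pullback s).obj
      (Twist.twist (CohB1.polyGrading n R) 1)) :=
    isInvertible_pullback s (isInvertible_twist_projSpace n R 1)
  have hφ := linearCombination_surjective hL (pc n R s)
    (span_germ_pullSect_coord_eq_top n R s)
  let e₀ := LinearMap.quotKerEquivOfSurjective _ hφ
  haveI : Module.Finite R Γ((Scheme.Modules.pullback s).obj
      (Twist.twist (CohB1.polyGrading n R) 1), ⊤) := Module.Finite.of_surjective _ hφ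
  haveI := projective_sections hL
  refine ⟨Module.Projective.of_equiv' e₀.symm, fun p => ?_⟩
  rw [Module.rankAtStalk_eq_of_equiv e₀]
  exact rankAtStalk_sections hL p

end General

end Groth.Agent.Lib.Helper29.SecK
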