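import Groth.Agent.Lib.Helper29.SecK8
universe u v
open CategoryTheory CategoryTheory.Limits AlgebraicGeometry Opposite TopologicalSpace

namespace Groth.Agent.Lib.Helper29.SecK
open Groth.Agent.Lib.Helper29.QCoh
open Scheme.Modules

section General
variable {R : CommRingCat.{u}}

set_option backward.isDefEq.respectTransparency false in
/-- The module associated with a finite projective module of rank one is invertible. -/
theorem isInvertible_tilde (M : ModuleCat.{u} R) [Module.Finite R M] [Module.Projective R M]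
    (hrank : ∀ p : PrimeSpectrum R, Module.rankAtStalk (R := R) M p = 1) :
    PicF.IsInvertible (tilde M) := by
  rw [isInvertible_iff_isFinLocFreeOfRank_one, isFinLocFreeOfRank_iff_exists_affine]
  intro x
  let p : PrimeSpectrum R := x
  haveI : Module.FinitePresentation R M := Module.finitePresentation_of_projective R M
  haveI : Module.Free (Localization.AtPrime p.asIdeal) (LocalizedModule p.asIdeal.primeCompl M) :=
    Module.free_of_flat_of_isLocalRing
  obtain ⟨r, hr, hfree, hfr⟩ := Module.FinitePresentation.exists_free_localizedModule_powers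
    p.asIdeal.primeCompl (LocalizedModule.mkLinearMap p.asIdeal.primeCompl M)
    (Localization.AtPrime p.asIdeal)
  have hfr1 : Module.finrank (Localization (.powers r)) (LocalizedModule.Away r M) = 1 :=
    hfr.trans (hrank p)
  refine ⟨PrimeSpectrum.basicOpen r, IsAffineOpen.Spec_basicOpen r, hr, ?_⟩
  obtain ⟨ρ, hρ⟩ : ∃ ρ : M →ₗ[R] Γ(tilde M, PrimeSpectrum.basicOpen r),
      IsLocalizedModule (.powers r) ρ :=
    ⟨(tilde.toOpen M (PrimeSpectrum.basicOpen r)).hom,
      (inferInstance : IsLocalizedModule.Away r (tilde.toOpen M (PrimeSpectrum.basicOpen r)).hom)⟩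
  haveI : Module.Free Γ(Spec R, PrimeSpectrum.basicOpen r)
      Γ(tilde M, PrimeSpectrum.basicOpen r) :=
    free_of_free_localizedModule (Submonoid.powers r) ρ
  haveI : Module.Finite Γ(Spec R, PrimeSpectrum.basicOpen r)
      Γ(tilde M, PrimeSpectrum.basicOpen r) :=
    Module.Finite.of_isLocalizedModule (.powers r) (Rₚ := Γ(Spec R, PrimeSpectrum.basicOpen r)) ρ
  have h1 : Module.finrank Γ(Spec R, PrimeSpectrum.basicOpen r)
      Γ(tilde M, PrimeSpectrum.basicOpen r) = 1 := by
    rw [← hfr1]
    exact finrank_eq_of_isLocalizedModule (Submonoid.powers r) ρ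
      (LocalizedModule.mkLinearMap (Submonoid.powers r) M)
  haveI : Nontrivial Γ(Spec R, PrimeSpectrum.basicOpen r) :=
    nontrivial_sections_of_mem (X := Spec R) (U := PrimeSpectrum.basicOpen r) (x := x) hr
  have b := Module.finBasis Γ(Spec R, PrimeSpectrum.basicOpen r)
    Γ(tilde M, PrimeSpectrum.basicOpen r)
  rw [h1] at b
  exact ⟨b.repr⟩

/-- A morphism of modules over `Spec R` is `R`-linear on global sections. -/
noncomputable def appTopₗ {L L' : (Spec R).Modules} (φ : L ⟶ L') : Γ(L, ⊤) →ₗ[R] Γ(L', ⊤) where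
  toFun := φ.app ⊤
  map_add' := map_add _
  map_smul' := fun r x => by
    rw [smul_top_eq, smul_top_eq]
    exact Scheme.Modules.Hom.app_smul φ _ x

theorem appTopₗ_apply {L L' : (Spec R).Modules} (φ : L ⟶ L') (x : Γ(L, ⊤)) :
    appTopₗ φ x = φ.app ⊤ x := rfl

end General

section Backward
variable (n : ℕ) (R : CommRingCat.{u})

set_option backward.isDefEq.respectTransparency false in
/-- A submodule of `R^{n+1}` with invertible quotient is the module of relations of a section. -/
theorem backward' (F : Submodule R (Fin (n + 1) → R))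
    [Module.Projective R ((Fin (n + 1) → R) ⧸ F)]
    (hrank : ∀ p : PrimeSpectrum R, Module.rankAtStalk (R := R) ((Fin (n + 1) → R) ⧸ F) p = 1) :
    ∃ s : Spec R ⟶ Proj (CohB1.polyGrading n R),
      s ≫ CohB1.ProjSpace.toSpec n R = 𝟙 (Spec R) ∧
      LinearMap.ker (Fintype.linearCombination R (pc n R s)) = F := by
  have hL : PicF.IsInvertible (tilde (ModuleCat.of R ((Fin (n + 1) → R) ⧸ F))) :=
    isInvertible_tilde (ModuleCat.of R ((Fin (n + 1) → R) ⧸ F)) hrank
  obtain ⟨θ⟩ : Nonempty (((Fin (n + 1) → R) ⧸ F) ≃ₗ[R]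
      Γ(tilde (ModuleCat.of R ((Fin (n + 1) → R) ⧸ F)), ⊤)) :=
    ⟨(tilde.isoTop (ModuleCat.of R ((Fin (n + 1) → R) ⧸ F))).toLinearEquiv⟩
  have hspanA : Submodule.span Γ(Spec R, ⊤)
      (Set.range fun i : Fin (n + 1) => θ (Submodule.Quotient.mk (Pi.single i 1))) = ⊤ := by
    rw [eq_top_iff]
    rintro σ -
    obtain ⟨m, rfl⟩ := θ.surjective σ
    obtain ⟨c, rfl⟩ := Submodule.Quotient.mk_surjective F m
    have hc : c = ∑ i, c i • (Pi.single i 1 : Fin (n + 1) → R) := by
      funext j
      simp [Finset.sum_apply, Pi.single_apply]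
    have hc' : (Submodule.Quotient.mk c : ((Fin (n + 1) → R) ⧸ F)) =
        ∑ i, c i • Submodule.Quotient.mk (Pi.single i 1 : Fin (n + 1) → R) := by
      conv_lhs => rw [hc]
      exact map_sum (Submodule.mkQ F) _ _
    rw [hc', map_sum]
    apply Submodule.sum_mem
    intro i _
    rw [_root_.map_smul, smul_top_eq]
    exact Submodule.smul_mem _ _ (Submodule.subset_span ⟨i, rfl⟩)
  have ht := fun x : Spec R => span_germ_eq_top_of_span_eq_top
    (tilde (ModuleCat.of R ((Fin (n + 1) → R) ⧸ F))) (isAffineOpen_top (Spec R)) _ hspanA x trivial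
  obtain ⟨s, hs, τ, hτ⟩ := exists_to_projSpace (X := Spec R) n (R := R) (𝟙 (Spec R))
    (tilde (ModuleCat.of R ((Fin (n + 1) → R) ⧸ F))) hL _ ht
  refine ⟨s, hs, ?_⟩
  have hiso : Function.Bijective (τ.hom.app ⊤) := app_bijective_of_isIso τ.hom ⊤
  have key : (appTopₗ τ.hom).comp (Fintype.linearCombination R (pc n R s)) =
      θ.toLinearMap.comp (Submodule.mkQ F) := by
    apply LinearMap.pi_ext'
    intro i
    apply LinearMap.ext_ring
    simp only [LinearMap.coe_comp, Function.comp_apply, LinearMap.coe_single,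
      Fintype.linearCombination_apply_single, one_smul, appTopₗ_apply, LinearEquiv.coe_coe,
      Submodule.mkQ_apply]
    exact hτ i
  ext c
  have h1 : τ.hom.app ⊤ (Fintype.linearCombination R (pc n R s) c) =
      θ (Submodule.Quotient.mk c) := congrArg (fun ψ => ψ c) key
  rw [LinearMap.mem_ker]
  constructor
  · intro h
    rw [h, map_zero] at h1
    have h2 : θ (Submodule.Quotient.mk c) = θ 0 := by rw [← h1, map_zero]
    exact (Submodule.Quotient.mk_eq_zero F).mp (θ.injective h2)
  · intro h
    apply hiso.injective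
    rw [h1, map_zero, (Submodule.Quotient.mk_eq_zero F).mpr h, map_zero]

end Backward

end Groth.Agent.Lib.Helper29.SecK
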