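import Groth.Agent.Lib.Helper29.VA7
universe u
open CategoryTheory CategoryTheory.Limits AlgebraicGeometry Opposite TopologicalSpace

/-! # Functions on a product of affine charts -/

namespace Groth.Agent.Lib.Helper29.QCoh

section Pushout

/-- In a pushout square of commutative rings, the two legs jointly generate. -/
theorem closure_eq_top_of_isPushout {A B C P : CommRingCat.{u}} {f : A ⟶ B} {g : A ⟶ C}
    {inl : B ⟶ P} {inr : C ⟶ P} (h : IsPushout f g inl inr) :
    Subring.closure (Set.range inl.hom ∪ Set.range inr.hom) = ⊤ := by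
  set D := Subring.closure (Set.range inl.hom ∪ Set.range inr.hom) with hD
  let ι : CommRingCat.of D ⟶ P := CommRingCat.ofHom D.subtype
  let l : B ⟶ CommRingCat.of D := CommRingCat.ofHom
    (inl.hom.codRestrict D fun b => Subring.subset_closure (Or.inl ⟨b, rfl⟩))
  let r : C ⟶ CommRingCat.of D := CommRingCat.ofHom
    (inr.hom.codRestrict D fun c => Subring.subset_closure (Or.inr ⟨c, rfl⟩))
  have hl : l ≫ ι = inl := by ext b; rfl
  have hr : r ≫ ι = inr := by ext c; rfl
  have hw : f ≫ l = g ≫ r := by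
    ext a
    exact congrArg (fun k => k.hom a) h.w
  let d := h.desc l r hw
  have hd : d ≫ ι = 𝟙 P := by
    apply h.hom_ext
    · rw [← Category.assoc, h.inl_desc, hl, Category.comp_id]
    · rw [← Category.assoc, h.inr_desc, hr, Category.comp_id]
  rw [eq_top_iff]
  intro x _
  have : ι.hom (d.hom x) = x := congrArg (fun k => k.hom x) hd
  rw [← this]
  exact (d.hom x).2

end Pushout

section PB
variable {X Y Z : Scheme.{u}}

/-- Functions on a product of affine opens are generated by functions on the factors. -/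
theorem mem_closure_pullback_inf {f : X ⟶ Z} {g : Y ⟶ Z}
    {U : X.Opens} (hU : IsAffineOpen U) {V : Y.Opens} (hV : IsAffineOpen V)
    {W : Z.Opens} (hW : IsAffineOpen W) (hUW : U ≤ f ⁻¹ᵁ W) (hVW : V ≤ g ⁻¹ᵁ W)
    (a : Γ(pullback f g, pullback.fst f g ⁻¹ᵁ U ⊓ pullback.snd f g ⁻¹ᵁ V)) :
    a ∈ Subring.closure
      (Set.range ((pullback.fst f g).appLE U
          (pullback.fst f g ⁻¹ᵁ U ⊓ pullback.snd f g ⁻¹ᵁ V) inf_le_left).hom ∪
       Set.range ((pullback.snd f g).appLE V
          (pullback.fst f g ⁻¹ᵁ U ⊓ pullback.snd f g ⁻¹ᵁ V) inf_le_right).hom) := by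
  have : IsAffine U.toScheme := hU
  have : IsAffine V.toScheme := hV
  have : IsAffine W.toScheme := hW
  let f' : U.toScheme ⟶ W := f.resLE _ _ hUW
  let q : V.toScheme ⟶ W := g.resLE _ _ hVW
  let p : pullback f' q ⟶ pullback f g :=
    pullback.map _ _ _ _ U.ι V.ι W.ι (by simp [f']) (by simp [q])
  have hp : p.opensRange = pullback.fst f g ⁻¹ᵁ U ⊓ pullback.snd f g ⁻¹ᵁ V := by
    apply Opens.ext
    simp [p, Scheme.Pullback.range_map]
  have e₁ : p ≫ pullback.fst f g = pullback.fst f' q ≫ U.ι := pullback.lift_fst _ _ _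
  have e₂ : p ≫ pullback.snd f g = pullback.snd f' q ≫ V.ι := pullback.lift_snd _ _ _
  have hpush := closure_eq_top_of_isPushout
    (isPushout_appTop_of_isPullback (IsPullback.of_hasPullback f' q))
  have key : ∀ (O' : (pullback f g).Opens) (h : O' = p ''ᵁ ⊤)
      (h1 : O' ≤ pullback.fst f g ⁻¹ᵁ U) (h2 : O' ≤ pullback.snd f g ⁻¹ᵁ V)
      (a : Γ(pullback f g, O')),
      a ∈ Subring.closure
        (Set.range ((pullback.fst f g).appLE U O' h1).hom ∪
         Set.range ((pullback.snd f g).appLE V O' h2).hom) := by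
    intro O' h
    subst h
    intro h1 h2 a
    set D := Subring.closure
        (Set.range ((pullback.fst f g).appLE U (p ''ᵁ ⊤) h1).hom ∪
         Set.range ((pullback.snd f g).appLE V (p ''ᵁ ⊤) h2).hom) with hD
    have hψ := p.appIso_hom' ⊤
    have hbij : Function.Bijective (p.appIso ⊤).hom.hom :=
      ConcreteCategory.bijective_of_isIso (p.appIso ⊤).hom
    have r1 : ∀ x, (p.appIso ⊤).hom.hom (((pullback.fst f g).appLE U (p ''ᵁ ⊤) h1).hom x) =
        (pullback.fst f' q).appTop.hom ((U.ι.appLE U ⊤ U.ι_preimage_self.ge).hom x) := by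
      intro x
      rw [hψ]
      have h3 := Scheme.Hom.appLE_comp_appLE p (pullback.fst f g) U (p ''ᵁ ⊤) ⊤ h1
        (p.preimage_image_eq ⊤).ge
      rw [appLE_congr_hom e₁] at h3
      have h4 := Scheme.Hom.appLE_comp_appLE (pullback.fst f' q) U.ι U ⊤ ⊤
        U.ι_preimage_self.ge le_top
      rw [← h4] at h3
      have h5 : (pullback.fst f' q).appLE ⊤ ⊤ le_top = (pullback.fst f' q).appTop :=
        Scheme.Hom.appLE_eq_app _
      rw [h5] at h3
      exact congrArg (fun k => k.hom x) h3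
    have r2 : ∀ x, (p.appIso ⊤).hom.hom (((pullback.snd f g).appLE V (p ''ᵁ ⊤) h2).hom x) =
        (pullback.snd f' q).appTop.hom ((V.ι.appLE V ⊤ V.ι_preimage_self.ge).hom x) := by
      intro x
      rw [hψ]
      have h3 := Scheme.Hom.appLE_comp_appLE p (pullback.snd f g) V (p ''ᵁ ⊤) ⊤ h2
        (p.preimage_image_eq ⊤).ge
      rw [appLE_congr_hom e₂] at h3
      have h4 := Scheme.Hom.appLE_comp_appLE (pullback.snd f' q) V.ι V ⊤ ⊤
        V.ι_preimage_self.ge le_top
      rw [← h4] at h3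
      have h5 : (pullback.snd f' q).appLE ⊤ ⊤ le_top = (pullback.snd f' q).appTop :=
        Scheme.Hom.appLE_eq_app _
      rw [h5] at h3
      exact congrArg (fun k => k.hom x) h3
    have hsU : Function.Surjective (U.ι.appLE U ⊤ U.ι_preimage_self.ge).hom :=
      (ConcreteCategory.bijective_of_isIso (U.ι.appLE U ⊤ U.ι_preimage_self.ge)).2
    have hsV : Function.Surjective (V.ι.appLE V ⊤ V.ι_preimage_self.ge).hom :=
      (ConcreteCategory.bijective_of_isIso (V.ι.appLE V ⊤ V.ι_preimage_self.ge)).2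
    have hle : (⊤ : Subring Γ(pullback f' q, ⊤)) ≤ D.map (p.appIso ⊤).hom.hom := by
      rw [← hpush]
      apply Subring.closure_le.mpr
      rintro y (⟨z, rfl⟩ | ⟨z, rfl⟩)
      · obtain ⟨x, rfl⟩ := hsU z
        exact ⟨_, Subring.subset_closure (Or.inl ⟨x, rfl⟩), r1 x⟩
      · obtain ⟨x, rfl⟩ := hsV z
        exact ⟨_, Subring.subset_closure (Or.inr ⟨x, rfl⟩), r2 x⟩
    obtain ⟨d, hd, hda⟩ := hle (Subring.mem_top ((p.appIso ⊤).hom.hom a))
    rw [← hbij.1 hda]
    exact hd
  exact key _ (by rw [← hp, Scheme.Hom.image_top_eq_opensRange]) _ _ a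

end PB

end Groth.Agent.Lib.Helper29.QCoh
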