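import Groth.Agent.Lib.Helper29.Segre1
universe u
open CategoryTheory CategoryTheory.Limits AlgebraicGeometry Opposite TopologicalSpace

/-! # Segre: generation of chart rings and ratio identities -/

namespace Groth.Agent.Lib.Helper29.QCoh

section AwayGen
variable (n : ℕ) (R : Type u) [CommRing R]
open HomogeneousLocalization MvPolynomial

theorem dehom_surjective (i : Fin (n + 1)) : Function.Surjective (dehom n R i) := by
  intro x
  obtain ⟨k, a, ha, rfl⟩ := Away.mk_surjective (CohB1.polyGrading n R) (isHomogeneous_X R i) x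
  exact ⟨a, dehom_eq_mk n R i k a ha⟩

theorem dehom_C (i : Fin (n + 1)) (r : R) : dehom n R i (C r) = cFrac n R i r := by
  unfold dehom cFrac
  rw [coe_eval₂Hom, eval₂_C]
  rfl

theorem dehom_X (i l : Fin (n + 1)) : dehom n R i (X l) = xFrac n R i l := by
  unfold dehom
  rw [coe_eval₂Hom, eval₂_X]

/-- The chart ring `R[X]_(X_i)` is generated by the constants and the `X_l / X_i`. -/
theorem away_X_mem_closure (i : Fin (n + 1)) (x : Away (CohB1.polyGrading n R) (X i)) :
    x ∈ Subring.closure (Set.range (cFrac n R i) ∪ Set.range (xFrac n R i)) := by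
  obtain ⟨a, rfl⟩ := dehom_surjective n R i x
  induction a using MvPolynomial.induction_on with
  | C r =>
    rw [dehom_C]
    exact Subring.subset_closure (Or.inl ⟨r, rfl⟩)
  | add p q hp hq =>
    rw [map_add]
    exact Subring.add_mem _ hp hq
  | mul_X p l hp =>
    rw [map_mul, dehom_X]
    exact Subring.mul_mem _ hp (Subring.subset_closure (Or.inr ⟨l, rfl⟩))

end AwayGen

section ULiftInt

theorem ulift_int_map_mem {B : Type*} [Ring B] (D : Subring B) (φ : ULift.{u} ℤ →+* B)
    (r : ULift.{u} ℤ) : φ r ∈ D := by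
  have : r = ((r.down : ℤ) : ULift.{u} ℤ) := rfl
  rw [this, map_intCast]
  exact intCast_mem D _

end ULiftInt

section Ratio
variable (n : ℕ) (R : Type u) [CommRing R] {X : Scheme.{u}}
open HomogeneousLocalization MvPolynomial

/-- The pulled back coordinate section `r^* X_l`. -/
noncomputable def coordHom (r : X ⟶ Proj (CohB1.polyGrading n R)) (l : Fin (n + 1)) :
    unitM X ⟶ (Scheme.Modules.pullback r).obj (Twist.twist (CohB1.polyGrading n R) 1) :=
  pullHom r (homOfSection _ (oneSecOn (CohB1.polyGrading n R) (Xi n R l) ⊤))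

theorem genLocus_coordHom (r : X ⟶ Proj (CohB1.polyGrading n R)) (l : Fin (n + 1)) :
    CohB1.genLocus _ (coordHom n R r l) =
      r ⁻¹ᵁ Proj.basicOpen (CohB1.polyGrading n R) (MvPolynomial.X l) := by
  unfold coordHom
  rw [genLocus_pullHom r (isInvertible_twist_projSpace n R 1), genLocus_oneSecOn]

/-- On a chart, `r^* X_l = r^#(X_l / X_a) • r^* X_a`. -/
theorem sval_coordHom_eq_smul (r : X ⟶ Proj (CohB1.polyGrading n R)) (a l : Fin (n + 1))
    (W : X.Opens) (hW : W ≤ r ⁻¹ᵁ Proj.basicOpen (CohB1.polyGrading n R) (MvPolynomial.X a)) :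
    sval (coordHom n R r l) W =
      (r.appLE (Proj.basicOpen (CohB1.polyGrading n R) (MvPolynomial.X a)) W hW).hom
        ((Proj.awayToSection (CohB1.polyGrading n R) (MvPolynomial.X a)).hom (xFrac n R a l)) •
        sval (coordHom n R r a) W := by
  set D := Proj.basicOpen (CohB1.polyGrading n R) (MvPolynomial.X a) with hD
  have key : ∀ l', sval (coordHom n R r l') (r ⁻¹ᵁ D) =
      pullSect r (Twist.twist (CohB1.polyGrading n R) 1) D
        (oneSecOn (CohB1.polyGrading n R) (Xi n R l') D) := by
    intro l'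
    unfold coordHom
    rw [sval_pullHom, sval_homOfSection, res_oneSecOn]
  have h1 := key l
  rw [show D = Proj.basicOpen (CohB1.polyGrading n R) (Xi n R a).1 from rfl] at h1
  rw [oneSecOn_eq_smul (CohB1.polyGrading n R) (Xi n R l) (Xi n R a), pullSect_smul] at h1
  have h2 := key a
  rw [← res_sval (coordHom n R r l) hW, ← res_sval (coordHom n R r a) hW, h1, res_smul]
  congr 1
  exact congrArg _ h2.symm

end Ratio

end Groth.Agent.Lib.Helper29.QCoh
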