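import Groth.Agent.Lib.Helper29.Segre2
universe u
open CategoryTheory CategoryTheory.Limits AlgebraicGeometry Opposite TopologicalSpace

/-! # The Segre embedding over the integers -/

namespace Groth.Agent.Lib.Helper29.QCoh

section SegreZ
open HomogeneousLocalization MvPolynomial

theorem res_sval_tmulHom {X : Scheme.{u}} {A B : X.Modules} (s : unitM X ⟶ A) (t : unitM X ⟶ B)
    (W : X.Opens) :
    QCoh.res (CohB1.tensorMod A B) (le_top : W ≤ ⊤) (sval (SecTwist.tmulHom s t) ⊤) =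
      tmulSec A B (sval s W) (sval t W) := by
  rw [res_sval, tmulSec_eq]
  exact SecTwist.val_tmulHom s t W

theorem exists_segre_Z (n m : ℕ) :
    ∃ φ : pullback (CohB1.ProjSpace.toSpec n (ULift.{u} ℤ)) (CohB1.ProjSpace.toSpec m (ULift.{u} ℤ)) ⟶
        CohB1.ProjSpace (n * m + n + m) (ULift.{u} ℤ), IsClosedImmersion φ ∧
      Nonempty (CohB1.tensorMod
        ((Scheme.Modules.pullback (pullback.fst (CohB1.ProjSpace.toSpec n (ULift.{u} ℤ))
          (CohB1.ProjSpace.toSpec m (ULift.{u} ℤ)))).obj (Twist.twistProjSpace n (ULift.{u} ℤ) 1))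
        ((Scheme.Modules.pullback (pullback.snd (CohB1.ProjSpace.toSpec n (ULift.{u} ℤ))
          (CohB1.ProjSpace.toSpec m (ULift.{u} ℤ)))).obj (Twist.twistProjSpace m (ULift.{u} ℤ) 1)) ≅
        (Scheme.Modules.pullback φ).obj (Twist.twistProjSpace (n * m + n + m) (ULift.{u} ℤ) 1)) := by
  classical
  let p₁ : pullback (CohB1.ProjSpace.toSpec n (ULift.{u} ℤ)) (CohB1.ProjSpace.toSpec m (ULift.{u} ℤ)) ⟶
      Proj (CohB1.polyGrading n (ULift.{u} ℤ)) := pullback.fst _ _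
  let p₂ : pullback (CohB1.ProjSpace.toSpec n (ULift.{u} ℤ)) (CohB1.ProjSpace.toSpec m (ULift.{u} ℤ)) ⟶
      Proj (CohB1.polyGrading m (ULift.{u} ℤ)) := pullback.snd _ _
  let f : pullback (CohB1.ProjSpace.toSpec n (ULift.{u} ℤ)) (CohB1.ProjSpace.toSpec m (ULift.{u} ℤ)) ⟶
      Spec (CommRingCat.of (ULift.{u} ℤ)) := p₁ ≫ CohB1.ProjSpace.toSpec n (ULift.{u} ℤ)
  have hO₁ := isInvertible_twist_projSpace n (ULift.{u} ℤ) 1
  have hO₂ := isInvertible_twist_projSpace m (ULift.{u} ℤ) 1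
  have hA := isInvertible_pullback p₁ hO₁
  have hB := isInvertible_pullback p₂ hO₂
  have hM := isInvertible_tensorMod hA hB
  set A := (Scheme.Modules.pullback p₁).obj (Twist.twist (CohB1.polyGrading n (ULift.{u} ℤ)) 1) with hAdef
  set B := (Scheme.Modules.pullback p₂).obj (Twist.twist (CohB1.polyGrading m (ULift.{u} ℤ)) 1) with hBdef
  set M := CohB1.tensorMod A B with hMdef
  let h : Fin (n + 1) → Fin (m + 1) → (unitM _ ⟶ M) := fun a b =>
    SecTwist.tmulHom (coordHom n (ULift.{u} ℤ) p₁ a) (coordHom m (ULift.{u} ℤ) p₂ b)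
  have hN : (n + 1) * (m + 1) = n * m + n + m + 1 := by ring
  let e : Fin (n * m + n + m + 1) ≃ Fin (n + 1) × Fin (m + 1) :=
    (finCongr hN.symm).trans finProdFinEquiv.symm
  let σ : Fin (n * m + n + m + 1) → Γ(M, ⊤) := fun j => sval (h (e j).1 (e j).2) ⊤
  let D₁ : Fin (n + 1) → (Proj (CohB1.polyGrading n (ULift.{u} ℤ))).Opens := fun a =>
    Proj.basicOpen (CohB1.polyGrading n (ULift.{u} ℤ)) (MvPolynomial.X a)
  let D₂ : Fin (m + 1) → (Proj (CohB1.polyGrading m (ULift.{u} ℤ))).Opens := fun b =>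
    Proj.basicOpen (CohB1.polyGrading m (ULift.{u} ℤ)) (MvPolynomial.X b)
  have hD₁ : ∀ a, IsAffineOpen (D₁ a) := fun a =>
    Proj.isAffineOpen_basicOpen (CohB1.polyGrading n (ULift.{u} ℤ)) (MvPolynomial.X a)
      (isHomogeneous_X _ a) one_pos
  have hD₂ : ∀ b, IsAffineOpen (D₂ b) := fun b =>
    Proj.isAffineOpen_basicOpen (CohB1.polyGrading m (ULift.{u} ℤ)) (MvPolynomial.X b)
      (isHomogeneous_X _ b) one_pos
  have hloc : ∀ j, CohB1.genLocus M (homOfSection M (σ j)) =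
      p₁ ⁻¹ᵁ D₁ (e j).1 ⊓ p₂ ⁻¹ᵁ D₂ (e j).2 := by
    intro j
    rw [genLocus_homOfSection_sval]
    change CohB1.genLocus (CohB1.tensorMod A B) (SecTwist.tmulHom _ _) = _
    rw [genLocus_tmulHom hA hB, genLocus_coordHom, genLocus_coordHom]
  have haff : ∀ a b, IsAffineOpen (p₁ ⁻¹ᵁ D₁ a ⊓ p₂ ⁻¹ᵁ D₂ b) := fun a b =>
    isAffineOpen_pullback_inf (hD₁ a) (hD₂ b)
      (isAffineOpen_top (Spec (CommRingCat.of (ULift.{u} ℤ)))) le_top le_top
  have hcov : ∀ x, ∃ j, (fun _ : Fin (n * m + n + m + 1) => True) j ∧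
      x ∈ CohB1.genLocus M (homOfSection M (σ j)) := by
    intro x
    obtain ⟨a, ha⟩ := exists_mem_basicOpen_X n (ULift.{u} ℤ) (p₁ x)
    obtain ⟨b, hb⟩ := exists_mem_basicOpen_X m (ULift.{u} ℤ) (p₂ x)
    refine ⟨e.symm (a, b), trivial, ?_⟩
    rw [hloc, Equiv.apply_symm_apply]
    exact ⟨ha, hb⟩
  have hle : ∀ j, (fun _ : Fin (n * m + n + m + 1) => True) j →
      CohB1.genLocus M (homOfSection M (σ j)) ≤
        f ⁻¹ᵁ (fun _ : Fin (n * m + n + m + 1) => (⊤ : (Spec (CommRingCat.of (ULift.{u} ℤ))).Opens)) j :=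
    fun j _ => le_top
  have hσ : ∀ a b, σ (e.symm (a, b)) = sval (h a b) ⊤ := by
    intro a b
    simp only [σ, Equiv.apply_symm_apply]
  have hgen : ∀ j (hj : (fun _ : Fin (n * m + n + m + 1) => True) j)
      (g : Γ(pullback (CohB1.ProjSpace.toSpec n (ULift.{u} ℤ)) (CohB1.ProjSpace.toSpec m (ULift.{u} ℤ)), CohB1.genLocus M (homOfSection M (σ j)))),
      g ∈ Subring.closure (Set.range (f.appLE
        ((fun _ : Fin (n * m + n + m + 1) => (⊤ : (Spec (CommRingCat.of (ULift.{u} ℤ))).Opens)) j)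
          _ (hle j hj)).hom ∪
        {c | ∃ l, QCoh.res M (le_top : CohB1.genLocus M (homOfSection M (σ j)) ≤ ⊤) (σ l) =
          c • QCoh.res M (le_top : CohB1.genLocus M (homOfSection M (σ j)) ≤ ⊤) (σ j)}) := by
    intro j hj
    obtain ⟨a, ha⟩ : ∃ a, a = (e j).1 := ⟨_, rfl⟩
    obtain ⟨b, hb⟩ : ∃ b, b = (e j).2 := ⟨_, rfl⟩
    have hσj : σ j = sval (h a b) ⊤ := by rw [ha, hb]
    have key : ∀ (W₀ : (pullback (CohB1.ProjSpace.toSpec n (ULift.{u} ℤ)) (CohB1.ProjSpace.toSpec m (ULift.{u} ℤ))).Opens) (_ : W₀ = p₁ ⁻¹ᵁ D₁ a ⊓ p₂ ⁻¹ᵁ D₂ b)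
        (hle₀ : W₀ ≤ f ⁻¹ᵁ ⊤) (g : Γ(pullback (CohB1.ProjSpace.toSpec n (ULift.{u} ℤ)) (CohB1.ProjSpace.toSpec m (ULift.{u} ℤ)), W₀)),
        g ∈ Subring.closure (Set.range (f.appLE ⊤ W₀ hle₀).hom ∪
          {c | ∃ l, QCoh.res M (le_top : W₀ ≤ ⊤) (σ l) =
            c • QCoh.res M (le_top : W₀ ≤ ⊤) (σ j)}) := by
      intro W₀ hW₀
      subst hW₀
      intro hle₀ g
      set T := Subring.closure (Set.range (f.appLE ⊤ (p₁ ⁻¹ᵁ D₁ a ⊓ p₂ ⁻¹ᵁ D₂ b) hle₀).hom ∪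
          {c | ∃ l, QCoh.res M (le_top : p₁ ⁻¹ᵁ D₁ a ⊓ p₂ ⁻¹ᵁ D₂ b ≤ ⊤) (σ l) =
            c • QCoh.res M (le_top : p₁ ⁻¹ᵁ D₁ a ⊓ p₂ ⁻¹ᵁ D₂ b ≤ ⊤) (σ j)}) with hT
      have hPB := mem_closure_pullback_inf (hD₁ a) (hD₂ b)
        (isAffineOpen_top (Spec (CommRingCat.of (ULift.{u} ℤ)))) le_top le_top g
      refine Subring.closure_le.mpr ?_ hPB
      rintro c (⟨y, rfl⟩ | ⟨y, rfl⟩)
      · have hbij : Function.Bijective (Proj.awayToSection (CohB1.polyGrading n (ULift.{u} ℤ))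
            (MvPolynomial.X a)).hom :=
          ConcreteCategory.bijective_of_isIso (Proj.basicOpenIsoAway
            (CohB1.polyGrading n (ULift.{u} ℤ)) (MvPolynomial.X a) (isHomogeneous_X _ a) one_pos).hom
        obtain ⟨x, rfl⟩ := hbij.2 y
        have hx := away_X_mem_closure n (ULift.{u} ℤ) a x
        let ρ : Away (CohB1.polyGrading n (ULift.{u} ℤ)) (MvPolynomial.X a) →+*
            Γ(pullback (CohB1.ProjSpace.toSpec n (ULift.{u} ℤ)) (CohB1.ProjSpace.toSpec m (ULift.{u} ℤ)), p₁ ⁻¹ᵁ D₁ a ⊓ p₂ ⁻¹ᵁ D₂ b) :=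
          (p₁.appLE (D₁ a) (p₁ ⁻¹ᵁ D₁ a ⊓ p₂ ⁻¹ᵁ D₂ b) inf_le_left).hom.comp
            (Proj.awayToSection (CohB1.polyGrading n (ULift.{u} ℤ)) (MvPolynomial.X a)).hom
        have hρ : Subring.closure (Set.range (cFrac n (ULift.{u} ℤ) a) ∪
            Set.range (xFrac n (ULift.{u} ℤ) a)) ≤ T.comap ρ := by
          apply Subring.closure_le.mpr
          rintro z (⟨r, rfl⟩ | ⟨l, rfl⟩)
          · exact ulift_int_map_mem T (ρ.comp ((fromZeroRingHom (CohB1.polyGrading n (ULift.{u} ℤ)) _).comp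
              (algebraMap (ULift.{u} ℤ) (CohB1.polyGrading n (ULift.{u} ℤ) 0)))) r
          · refine Subring.subset_closure (Or.inr ⟨e.symm (l, b), ?_⟩)
            rw [hσ, hσj, res_sval_tmulHom, res_sval_tmulHom,
              sval_coordHom_eq_smul n (ULift.{u} ℤ) p₁ a l _ inf_le_left, tmulSec_smul_left]
            rfl
        exact hρ hx
      · have hbij : Function.Bijective (Proj.awayToSection (CohB1.polyGrading m (ULift.{u} ℤ))
            (MvPolynomial.X b)).hom :=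
          ConcreteCategory.bijective_of_isIso (Proj.basicOpenIsoAway
            (CohB1.polyGrading m (ULift.{u} ℤ)) (MvPolynomial.X b) (isHomogeneous_X _ b) one_pos).hom
        obtain ⟨x, rfl⟩ := hbij.2 y
        have hx := away_X_mem_closure m (ULift.{u} ℤ) b x
        let ρ : Away (CohB1.polyGrading m (ULift.{u} ℤ)) (MvPolynomial.X b) →+*
            Γ(pullback (CohB1.ProjSpace.toSpec n (ULift.{u} ℤ)) (CohB1.ProjSpace.toSpec m (ULift.{u} ℤ)), p₁ ⁻¹ᵁ D₁ a ⊓ p₂ ⁻¹ᵁ D₂ b) :=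
          (p₂.appLE (D₂ b) (p₁ ⁻¹ᵁ D₁ a ⊓ p₂ ⁻¹ᵁ D₂ b) inf_le_right).hom.comp
            (Proj.awayToSection (CohB1.polyGrading m (ULift.{u} ℤ)) (MvPolynomial.X b)).hom
        have hρ : Subring.closure (Set.range (cFrac m (ULift.{u} ℤ) b) ∪
            Set.range (xFrac m (ULift.{u} ℤ) b)) ≤ T.comap ρ := by
          apply Subring.closure_le.mpr
          rintro z (⟨r, rfl⟩ | ⟨l, rfl⟩)
          · exact ulift_int_map_mem T (ρ.comp ((fromZeroRingHom (CohB1.polyGrading m (ULift.{u} ℤ)) _).comp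
              (algebraMap (ULift.{u} ℤ) (CohB1.polyGrading m (ULift.{u} ℤ) 0)))) r
          · refine Subring.subset_closure (Or.inr ⟨e.symm (a, l), ?_⟩)
            rw [hσ, hσj, res_sval_tmulHom, res_sval_tmulHom,
              sval_coordHom_eq_smul m (ULift.{u} ℤ) p₂ b l _ inf_le_right, tmulSec_smul_right]
            rfl
        exact hρ hx
    intro g
    exact key _ (by rw [hloc, ← ha, ← hb]) _ g
  obtain ⟨i, hi, hif, ⟨ι⟩⟩ := exists_immersion_of_sections M f hM (n * m + n + m) σ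
    (fun _ => True) (fun _ => ⊤) hcov (fun j _ => isAffineOpen_top _)
    (fun j _ => by rw [hloc]; exact haff _ _) hle hgen
  -- properness
  have hp₂ : IsProper (CohB1.ProjSpace.toSpec m (ULift.{u} ℤ)) := isProper_toSpec m (ULift.{u} ℤ)
  have hp₁ : IsProper (CohB1.ProjSpace.toSpec n (ULift.{u} ℤ)) := isProper_toSpec n (ULift.{u} ℤ)
  have hfst : IsProper (pullback.fst (CohB1.ProjSpace.toSpec n (ULift.{u} ℤ))
      (CohB1.ProjSpace.toSpec m (ULift.{u} ℤ))) := inferInstance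
  have hf : IsProper f :=
    MorphismProperty.comp_mem (W := @IsProper) _ _ hfst hp₁
  have hsep : IsSeparated (CohB1.ProjSpaceOver.toBase (n * m + n + m)
      (Spec (CommRingCat.of (ULift.{u} ℤ)))) := inferInstance
  have hcomp : IsProper (i ≫ CohB1.ProjSpaceOver.toBase (n * m + n + m)
      (Spec (CommRingCat.of (ULift.{u} ℤ)))) := by
    have : i ≫ CohB1.ProjSpaceOver.toBase (n * m + n + m)
      (Spec (CommRingCat.of (ULift.{u} ℤ))) = f := hif
    rw [this]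
    exact hf
  have hip : IsProper i := IsProper.of_comp i (CohB1.ProjSpaceOver.toBase (n * m + n + m)
      (Spec (CommRingCat.of (ULift.{u} ℤ))))
  have hcl : IsClosed (Set.range i.base) := i.isClosedMap.isClosed_range
  have hci : IsClosedImmersion i := IsClosedImmersion.of_isPreimmersion i hcl
  have hiso : IsIso (specULiftZIsTerminal.from (Spec (CommRingCat.of (ULift.{u} ℤ)))) := by
    have : specULiftZIsTerminal.from (Spec (CommRingCat.of (ULift.{u} ℤ))) = 𝟙 _ :=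
      specULiftZIsTerminal.hom_ext _ _
    rw [this]
    infer_instance
  have hfi : IsIso (pullback.fst (CohB1.ProjSpace.toSpec (n * m + n + m) (ULift.{u} ℤ))
      (specULiftZIsTerminal.from (Spec (CommRingCat.of (ULift.{u} ℤ))))) := inferInstance
  let i' : pullback (CohB1.ProjSpace.toSpec n (ULift.{u} ℤ)) (CohB1.ProjSpace.toSpec m (ULift.{u} ℤ)) ⟶
      pullback (CohB1.ProjSpace.toSpec (n * m + n + m) (ULift.{u} ℤ))
        (specULiftZIsTerminal.from (Spec (CommRingCat.of (ULift.{u} ℤ)))) := i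
  have hci' : IsClosedImmersion i' := hci
  let ι' : M ≅ (Scheme.Modules.pullback i').obj
      ((Scheme.Modules.pullback (pullback.fst (CohB1.ProjSpace.toSpec (n * m + n + m) (ULift.{u} ℤ))
        (specULiftZIsTerminal.from (Spec (CommRingCat.of (ULift.{u} ℤ)))))).obj
          (Twist.twistProjSpace (n * m + n + m) (ULift.{u} ℤ) 1)) := ι
  exact ⟨i' ≫ pullback.fst _ _, inferInstance, ⟨ι' ≪≫ pullbackCompIso i' (pullback.fst _ _) _⟩⟩

end SegreZ

end Groth.Agent.Lib.Helper29.QCoh
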