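import Groth.Agent.Lib.Helper29.Segre3
universe u
open CategoryTheory CategoryTheory.Limits AlgebraicGeometry Opposite TopologicalSpace

/-! # Base change of a product, and the Segre embedding over any base -/

namespace Groth.Agent.Lib.Helper29.QCoh

section ProdBC
variable {C : Type*} [Category C] [HasPullbacks C] {P₁ P₂ S T : C}

set_option backward.isDefEq.respectTransparency false in
/-- `(P₁ ×_T S) ×_S (P₂ ×_T S) = (P₁ ×_T P₂) ×_T S`. -/
theorem isPullback_prod_baseChange (q₁ : P₁ ⟶ T) (q₂ : P₂ ⟶ T) (t : S ⟶ T) :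
    IsPullback
      (pullback.fst (pullback.snd q₁ t) (pullback.snd q₂ t) ≫ pullback.snd q₁ t)
      (pullback.lift (pullback.fst (pullback.snd q₁ t) (pullback.snd q₂ t) ≫ pullback.fst q₁ t)
        (pullback.snd (pullback.snd q₁ t) (pullback.snd q₂ t) ≫ pullback.fst q₂ t)
        (by rw [Category.assoc, Category.assoc, pullback.condition, pullback.condition,
          pullback.condition_assoc]))
      t (pullback.fst q₁ q₂ ≫ q₁) := by
  refine IsPullback.of_isLimit' ⟨?_⟩ (PullbackCone.IsLimit.mk _ ?_ ?_ ?_ ?_)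
  · simp [pullback.condition]
  · intro c
    refine pullback.lift (pullback.lift (c.snd ≫ pullback.fst q₁ q₂) c.fst ?_)
      (pullback.lift (c.snd ≫ pullback.snd q₁ q₂) c.fst ?_) ?_
    · rw [Category.assoc]; exact c.condition.symm
    · rw [Category.assoc, ← pullback.condition]; exact c.condition.symm
    · simp
  · intro c
    simp
  · intro c
    apply pullback.hom_ext <;> simp
  · intro c k hk₁ hk₂
    have h1 : k ≫ pullback.fst _ _ ≫ pullback.fst q₁ t = c.snd ≫ pullback.fst q₁ q₂ := by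
      rw [← hk₂]; simp
    have h2 : k ≫ pullback.snd _ _ ≫ pullback.fst q₂ t = c.snd ≫ pullback.snd q₁ q₂ := by
      rw [← hk₂]; simp
    have h3 : k ≫ pullback.fst _ _ ≫ pullback.snd q₁ t = c.fst := by
      rw [← hk₁]
    have h4 : k ≫ pullback.snd _ _ ≫ pullback.snd q₂ t = c.fst := by
      rw [← hk₁, ← pullback.condition]
    apply pullback.hom_ext
    · apply pullback.hom_ext
      · simp [h1]
      · simp [h3]
    · apply pullback.hom_ext
      · simp [h2]
      · simp [h4]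

end ProdBC

section SegreS

/-- **The Segre embedding** `P^n_S ×_S P^m_S ⟶ P^{nm+n+m}_S` over an arbitrary base, together with
the identification of the pullback of `O(1)` with `O(1) ⊠ O(1)`. -/
theorem exists_segre' (S : Scheme.{u}) (n m : ℕ) :
    ∃ φ : pullback (CohB1.ProjSpaceOver.toBase n S) (CohB1.ProjSpaceOver.toBase m S) ⟶
        CohB1.ProjSpaceOver (n * m + n + m) S,
      IsClosedImmersion φ ∧ φ ≫ CohB1.ProjSpaceOver.toBase (n * m + n + m) S =
        pullback.fst (CohB1.ProjSpaceOver.toBase n S) (CohB1.ProjSpaceOver.toBase m S) ≫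
          CohB1.ProjSpaceOver.toBase n S ∧
      Nonempty (CohB1.tensorMod
        ((Scheme.Modules.pullback (pullback.fst (CohB1.ProjSpaceOver.toBase n S)
          (CohB1.ProjSpaceOver.toBase m S))).obj (Twist.twistOver n S 1))
        ((Scheme.Modules.pullback (pullback.snd (CohB1.ProjSpaceOver.toBase n S)
          (CohB1.ProjSpaceOver.toBase m S))).obj (Twist.twistOver m S 1)) ≅
        (Scheme.Modules.pullback φ).obj (Twist.twistOver (n * m + n + m) S 1)) := by
  obtain ⟨φZ, hφZ, ⟨ιZ⟩⟩ := exists_segre_Z.{u} n m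
  have hout := isPullback_prod_baseChange (CohB1.ProjSpace.toSpec n (ULift.{u} ℤ))
    (CohB1.ProjSpace.toSpec m (ULift.{u} ℤ)) (specULiftZIsTerminal.from S)
  set π : pullback (pullback.snd (CohB1.ProjSpace.toSpec n (ULift.{u} ℤ)) (specULiftZIsTerminal.from S))
      (pullback.snd (CohB1.ProjSpace.toSpec m (ULift.{u} ℤ)) (specULiftZIsTerminal.from S)) ⟶
      pullback (CohB1.ProjSpace.toSpec n (ULift.{u} ℤ)) (CohB1.ProjSpace.toSpec m (ULift.{u} ℤ)) :=
    pullback.lift
    (pullback.fst (pullback.snd (CohB1.ProjSpace.toSpec n (ULift.{u} ℤ)) (specULiftZIsTerminal.from S))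
      (pullback.snd (CohB1.ProjSpace.toSpec m (ULift.{u} ℤ)) (specULiftZIsTerminal.from S)) ≫
        pullback.fst (CohB1.ProjSpace.toSpec n (ULift.{u} ℤ)) (specULiftZIsTerminal.from S))
    (pullback.snd (pullback.snd (CohB1.ProjSpace.toSpec n (ULift.{u} ℤ)) (specULiftZIsTerminal.from S))
      (pullback.snd (CohB1.ProjSpace.toSpec m (ULift.{u} ℤ)) (specULiftZIsTerminal.from S)) ≫
        pullback.fst (CohB1.ProjSpace.toSpec m (ULift.{u} ℤ)) (specULiftZIsTerminal.from S))
    (specULiftZIsTerminal.hom_ext _ _) with hπ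
  have hπ1 : π ≫ pullback.fst (CohB1.ProjSpace.toSpec n (ULift.{u} ℤ))
      (CohB1.ProjSpace.toSpec m (ULift.{u} ℤ)) =
      pullback.fst (pullback.snd (CohB1.ProjSpace.toSpec n (ULift.{u} ℤ)) (specULiftZIsTerminal.from S))
        (pullback.snd (CohB1.ProjSpace.toSpec m (ULift.{u} ℤ)) (specULiftZIsTerminal.from S)) ≫
        pullback.fst (CohB1.ProjSpace.toSpec n (ULift.{u} ℤ)) (specULiftZIsTerminal.from S) :=
    pullback.lift_fst _ _ _
  have hπ2 : π ≫ pullback.snd (CohB1.ProjSpace.toSpec n (ULift.{u} ℤ))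
      (CohB1.ProjSpace.toSpec m (ULift.{u} ℤ)) =
      pullback.snd (pullback.snd (CohB1.ProjSpace.toSpec n (ULift.{u} ℤ)) (specULiftZIsTerminal.from S))
        (pullback.snd (CohB1.ProjSpace.toSpec m (ULift.{u} ℤ)) (specULiftZIsTerminal.from S)) ≫
        pullback.fst (CohB1.ProjSpace.toSpec m (ULift.{u} ℤ)) (specULiftZIsTerminal.from S) :=
    pullback.lift_snd _ _ _
  let φ : pullback (pullback.snd (CohB1.ProjSpace.toSpec n (ULift.{u} ℤ)) (specULiftZIsTerminal.from S))
      (pullback.snd (CohB1.ProjSpace.toSpec m (ULift.{u} ℤ)) (specULiftZIsTerminal.from S)) ⟶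
      pullback (CohB1.ProjSpace.toSpec (n * m + n + m) (ULift.{u} ℤ)) (specULiftZIsTerminal.from S) :=
    pullback.lift (π ≫ φZ)
      (pullback.fst (pullback.snd (CohB1.ProjSpace.toSpec n (ULift.{u} ℤ)) (specULiftZIsTerminal.from S))
        (pullback.snd (CohB1.ProjSpace.toSpec m (ULift.{u} ℤ)) (specULiftZIsTerminal.from S)) ≫
          pullback.snd (CohB1.ProjSpace.toSpec n (ULift.{u} ℤ)) (specULiftZIsTerminal.from S))
      (specULiftZIsTerminal.hom_ext _ _)
  have h1 : φ ≫ pullback.fst _ _ = π ≫ φZ := pullback.lift_fst _ _ _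
  have h2 : φ ≫ pullback.snd _ _ =
      pullback.fst (pullback.snd (CohB1.ProjSpace.toSpec n (ULift.{u} ℤ)) (specULiftZIsTerminal.from S))
        (pullback.snd (CohB1.ProjSpace.toSpec m (ULift.{u} ℤ)) (specULiftZIsTerminal.from S)) ≫
          pullback.snd (CohB1.ProjSpace.toSpec n (ULift.{u} ℤ)) (specULiftZIsTerminal.from S) :=
    pullback.lift_snd _ _ _
  have hright : IsPullback
      (pullback.snd (CohB1.ProjSpace.toSpec (n * m + n + m) (ULift.{u} ℤ)) (specULiftZIsTerminal.from S))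
      (pullback.fst (CohB1.ProjSpace.toSpec (n * m + n + m) (ULift.{u} ℤ)) (specULiftZIsTerminal.from S))
      (specULiftZIsTerminal.from S) (CohB1.ProjSpace.toSpec (n * m + n + m) (ULift.{u} ℤ)) :=
    (IsPullback.of_hasPullback _ _).flip
  have houter : IsPullback (φ ≫ pullback.snd _ _) π (specULiftZIsTerminal.from S)
      (φZ ≫ CohB1.ProjSpace.toSpec (n * m + n + m) (ULift.{u} ℤ)) := by
    rw [h2]
    have : φZ ≫ CohB1.ProjSpace.toSpec (n * m + n + m) (ULift.{u} ℤ) =
        pullback.fst (CohB1.ProjSpace.toSpec n (ULift.{u} ℤ)) (CohB1.ProjSpace.toSpec m (ULift.{u} ℤ)) ≫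
          CohB1.ProjSpace.toSpec n (ULift.{u} ℤ) := specULiftZIsTerminal.hom_ext _ _
    rw [this]
    exact hout
  have hleft : IsPullback φ π (pullback.fst _ _) φZ := IsPullback.of_right houter h1 hright
  have hci : IsClosedImmersion φ := MorphismProperty.of_isPullback hleft.flip hφZ
  have hO₁ : PicF.IsInvertible (Twist.twistProjSpace n (ULift.{u} ℤ) 1) :=
    isInvertible_twist_projSpace n (ULift.{u} ℤ) 1
  have hO₂ : PicF.IsInvertible (Twist.twistProjSpace m (ULift.{u} ℤ) 1) :=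
    isInvertible_twist_projSpace m (ULift.{u} ℤ) 1
  obtain ⟨θ, -⟩ := exists_pullbackTensorIso π
    (isInvertible_pullback (pullback.fst (CohB1.ProjSpace.toSpec n (ULift.{u} ℤ))
      (CohB1.ProjSpace.toSpec m (ULift.{u} ℤ))) hO₁)
    (isInvertible_pullback (pullback.snd (CohB1.ProjSpace.toSpec n (ULift.{u} ℤ))
      (CohB1.ProjSpace.toSpec m (ULift.{u} ℤ))) hO₂)
  refine ⟨φ, hci, h2, ⟨?_⟩⟩
  let e₁ := pullbackCompIso π (pullback.fst (CohB1.ProjSpace.toSpec n (ULift.{u} ℤ))
      (CohB1.ProjSpace.toSpec m (ULift.{u} ℤ))) (Twist.twistProjSpace n (ULift.{u} ℤ) 1) ≪≫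
    pullbackCongrIso hπ1 _ ≪≫ (pullbackCompIso _ _ _).symm
  let e₂ := pullbackCompIso π (pullback.snd (CohB1.ProjSpace.toSpec n (ULift.{u} ℤ))
      (CohB1.ProjSpace.toSpec m (ULift.{u} ℤ))) (Twist.twistProjSpace m (ULift.{u} ℤ) 1) ≪≫
    pullbackCongrIso hπ2 _ ≪≫ (pullbackCompIso _ _ _).symm
  let e₃ := pullbackCompIso φ (pullback.fst (CohB1.ProjSpace.toSpec (n * m + n + m) (ULift.{u} ℤ))
      (specULiftZIsTerminal.from S)) (Twist.twistProjSpace (n * m + n + m) (ULift.{u} ℤ) 1) ≪≫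
    pullbackCongrIso h1 _ ≪≫ (pullbackCompIso π φZ _).symm
  exact (tensorCongr e₁ e₂).symm ≪≫ θ.symm ≪≫ (Scheme.Modules.pullback π).mapIso ιZ ≪≫ e₃.symm

/-- **The Segre embedding** `P^n_S ×_S P^m_S ⟶ P^{nm+n+m}_S` over an arbitrary base. -/
theorem exists_segre (S : Scheme.{u}) (n m : ℕ) :
    ∃ φ : pullback (CohB1.ProjSpaceOver.toBase n S) (CohB1.ProjSpaceOver.toBase m S) ⟶
        CohB1.ProjSpaceOver (n * m + n + m) S,
      IsClosedImmersion φ ∧ φ ≫ CohB1.ProjSpaceOver.toBase (n * m + n + m) S =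
        pullback.fst (CohB1.ProjSpaceOver.toBase n S) (CohB1.ProjSpaceOver.toBase m S) ≫
          CohB1.ProjSpaceOver.toBase n S := by
  obtain ⟨φ, h1, h2, -⟩ := exists_segre' S n m
  exact ⟨φ, h1, h2⟩

end SegreS

end Groth.Agent.Lib.Helper29.QCoh
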