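import Groth.Agent.Lib.Helper29.Avoid
import Groth.Agent.Lib.Helper29.VA6
universe u
open CategoryTheory CategoryTheory.Limits AlgebraicGeometry TopologicalSpace Opposite

/-! # Stable affine opens under a finite group action -/

namespace Groth.Agent.Lib.Helper29.StableAff
open Groth.Agent.Lib.Helper29.QCoh

variable {X : Scheme.{u}}

theorem mem_iInf_opens {α ι : Type*} [TopologicalSpace α] [Finite ι] (U : ι → Opens α) (y : α) :
    y ∈ ⨅ i, U i ↔ ∀ i, y ∈ U i := by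
  rw [← SetLike.mem_coe, Opens.coe_iInf, Set.mem_iInter]; rfl

theorem exists_stable_affine [X.IsSeparated] {L : X.Modules} (hL : CohB1.IsAmple L)
    (G : Type*) [Group G] [Finite G] (ρ : G →* Aut X) (x : X) :
    ∃ U : X.Opens, x ∈ U ∧ IsAffineOpen U ∧ ∀ σ : G, (ρ σ).hom ⁻¹ᵁ U = U := by
  have hZ : (Set.range fun σ : G => (ρ σ).hom x).Finite := Set.finite_range _
  obtain ⟨n, s, hZs, -, hVaff⟩ :=
    Groth.Agent.Lib.Helper29.QCoh.exists_affine_genLocus_finite_subset hL _ hZ ⊤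
      (fun _ _ => trivial)
  set V := CohB1.genLocus _ s with hV
  refine ⟨⨅ σ : G, (ρ σ).hom ⁻¹ᵁ V, ?_, ?_, ?_⟩
  · rw [mem_iInf_opens]
    intro σ
    exact hZs ⟨σ, rfl⟩
  · exact IsAffineOpen.iInf fun σ => hVaff.preimage_of_isIso (ρ σ).hom
  · intro τ
    apply Opens.ext
    ext y
    change (ρ τ).hom y ∈ (⨅ σ : G, (ρ σ).hom ⁻¹ᵁ V) ↔ y ∈ (⨅ σ : G, (ρ σ).hom ⁻¹ᵁ V)
    rw [mem_iInf_opens, mem_iInf_opens]
    change (∀ σ : G, (ρ σ).hom ((ρ τ).hom y) ∈ V) ↔ ∀ σ : G, (ρ σ).hom y ∈ V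
    constructor
    · intro h σ
      have := h (σ * τ⁻¹)
      rw [map_mul, map_inv] at this
      have h3 : (ρ τ).hom ≫ (ρ σ * (ρ τ)⁻¹).hom = (ρ σ).hom := by
        change (ρ τ).hom ≫ ((ρ τ).inv ≫ (ρ σ).hom) = (ρ σ).hom
        rw [Iso.hom_inv_id_assoc]
      have h2 : (ρ σ * (ρ τ)⁻¹).hom ((ρ τ).hom y) = (ρ σ).hom y := by
        rw [← Scheme.Hom.comp_apply, h3]
      rwa [h2] at this
    · intro h σ
      have := h (σ * τ)
      rw [map_mul] at this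
      have h2 : (ρ σ * ρ τ).hom y = (ρ σ).hom ((ρ τ).hom y) := by
        rw [← Scheme.Hom.comp_apply]
        rfl
      rwa [h2] at this

end Groth.Agent.Lib.Helper29.StableAff
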