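import Groth.Agent.Lib.Helper29.Desc3
universe u
open CategoryTheory CategoryTheory.Limits AlgebraicGeometry TopologicalSpace Opposite

/-! # Unique `n`-th roots of units along a thickening -/

namespace Groth.Agent.Lib.Helper29.Thick
open Groth.Agent.Lib.Helper29.QCoh Groth.Agent.Lib.Helper29.QCoh.Glue Groth.Agent.Lib.Helper29.Punct
open Groth.Agent.Lib.Helper29 Groth.Agent.Lib.Helper29.Desc

variable {X X' : Scheme.{u}} (i : X ⟶ X')

theorem isUnit_iff_isUnit_app [Surjective i] {U' : X'.Opens} (a : Γ(X', U')) :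
    IsUnit a ↔ IsUnit (i.app U' a) := by
  constructor
  · intro h; exact h.map _
  · intro h
    have h1 : X.basicOpen (i.app U' a) = i ⁻¹ᵁ U' := Scheme.basicOpen_of_isUnit _ h
    rw [← Scheme.preimage_basicOpen] at h1
    have h2 : U' ≤ X'.basicOpen a := by
      intro y hy
      obtain ⟨x, rfl⟩ := i.surjective y
      have : x ∈ i ⁻¹ᵁ X'.basicOpen a := by rw [h1]; exact hy
      exact this
    have := (isUnit_rres_iff (le_refl U') a).mpr h2
    rwa [rres_self] at this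

theorem isNilpotent_of_app_eq_zero [Surjective i] {U' : X'.Opens}
    (hU' : IsCompact (U' : Set X')) (a : Γ(X', U')) (ha : i.app U' a = 0) : IsNilpotent a := by
  rw [Scheme.isNilpotent_iff_basicOpen_eq_bot_of_isCompact hU']
  have h1 : i ⁻¹ᵁ X'.basicOpen a = ⊥ := by
    rw [Scheme.preimage_basicOpen, ha, Scheme.basicOpen_zero]
  ext y
  constructor
  · intro hy
    obtain ⟨x, rfl⟩ := i.surjective y
    have : x ∈ i ⁻¹ᵁ X'.basicOpen a := hy
    rw [h1] at this
    exact this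
  · intro hy
    exact absurd hy (by simp)

theorem isUnit_natCast [Surjective i] (n : ℕ) (hn : IsUnit (n : Γ(X, ⊤))) (U' : X'.Opens) :
    IsUnit (n : Γ(X', U')) := by
  rw [isUnit_iff_isUnit_app i, map_natCast]
  have := hn.map (rres X (le_top : i ⁻¹ᵁ U' ≤ ⊤))
  rwa [map_natCast] at this

theorem root_unique_of_isCompact [Surjective i] (n : ℕ) {U' : X'.Opens}
    (hU' : IsCompact (U' : Set X')) (hn : IsUnit (n : Γ(X', U'))) (g₁ g₂ : Γ(X', U'))
    (hg₁ : IsUnit g₁) (h12 : i.app U' g₁ = i.app U' g₂) (hpow : g₁ ^ n = g₂ ^ n) : g₁ = g₂ := by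
  obtain ⟨P, hP⟩ : ∃ P : Polynomial Γ(X', U'), P = Polynomial.X ^ n - Polynomial.C (g₁ ^ n) :=
    ⟨_, rfl⟩
  have hev : ∀ r : Γ(X', U'), Polynomial.aeval r P = r ^ n - g₁ ^ n := by
    intro r; rw [hP]; simp
  have hder : Polynomial.aeval g₁ (Polynomial.derivative P) = (n : Γ(X', U')) * g₁ ^ (n - 1) := by
    rw [hP, Polynomial.derivative_sub, Polynomial.derivative_X_pow, Polynomial.derivative_C,
      sub_zero]
    simp
  have hx : IsNilpotent (Polynomial.aeval g₁ P) := by rw [hev, sub_self]; exact IsNilpotent.zero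
  have hx' : IsUnit (Polynomial.aeval g₁ (Polynomial.derivative P)) := by
    rw [hder]; exact hn.mul (hg₁.pow _)
  obtain ⟨r, -, hr⟩ := Polynomial.existsUnique_nilpotent_sub_and_aeval_eq_zero hx hx'
  have h1 := hr g₁ ⟨by rw [sub_self]; exact IsNilpotent.zero, by rw [hev, sub_self]⟩
  have h2 := hr g₂ ⟨isNilpotent_of_app_eq_zero i hU' _ (by rw [map_sub, h12, sub_self]),
    by rw [hev, hpow, sub_self]⟩
  rw [h1, h2]

theorem exists_affine_cover (U' : X'.Opens) :
    U' ≤ ⨆ A : {A : X'.Opens // IsAffineOpen A ∧ A ≤ U'}, A.1 := by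
  intro y hy
  obtain ⟨W, hW, hyW, hWle⟩ := exists_isAffineOpen_mem_and_subset (x := y) (U := U') hy
  exact Opens.mem_iSup.mpr ⟨⟨W, hW, hWle⟩, hyW⟩

theorem root_unique [Surjective i] (n : ℕ) (hn : IsUnit (n : Γ(X, ⊤))) {U' : X'.Opens}
    (g₁ g₂ : Γ(X', U')) (hg₁ : IsUnit g₁)
    (h12 : i.app U' g₁ = i.app U' g₂) (hpow : g₁ ^ n = g₂ ^ n) : g₁ = g₂ := by
  apply fun_ext_of_cover (X := X') (fun A : {A : X'.Opens // IsAffineOpen A ∧ A ≤ U'} => A.1) U'
    (fun A => A.2.2) (exists_affine_cover U') g₁ g₂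
  intro A
  apply root_unique_of_isCompact i n A.2.1.isCompact (isUnit_natCast i n hn A.1) _ _ (hg₁.map _)
  · have e1 := app_map_apply i A.2.2 g₁
    have e2 := app_map_apply i A.2.2 g₂
    change i.app A.1 (rres X' A.2.2 g₁) = i.app A.1 (rres X' A.2.2 g₂)
    change i.app A.1 (rres X' A.2.2 g₁) = _ at e1
    change i.app A.1 (rres X' A.2.2 g₂) = _ at e2
    rw [e1, e2, h12]
  · rw [← map_pow, ← map_pow, hpow]

theorem exists_root_of_isAffineOpen [IsClosedImmersion i] [Surjective i] (n : ℕ)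
    (hn : IsUnit (n : Γ(X, ⊤))) {U' : X'.Opens} (hU' : IsAffineOpen U') (g : Γ(X, i ⁻¹ᵁ U'))
    (hg : IsUnit g) (w : Γ(X', U')) (hw : i.app U' w = g ^ n) :
    ∃ g' : Γ(X', U'), i.app U' g' = g ∧ g' ^ n = w := by
  obtain ⟨g0, hg0⟩ := i.app_surjective U' hU' g
  have hg0u : IsUnit g0 := (isUnit_iff_isUnit_app i g0).mpr (by rw [hg0]; exact hg)
  have hnU := isUnit_natCast i n hn U'
  obtain ⟨P, hP⟩ : ∃ P : Polynomial Γ(X', U'), P = Polynomial.X ^ n - Polynomial.C w := ⟨_, rfl⟩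
  have hev : ∀ r : Γ(X', U'), Polynomial.aeval r P = r ^ n - w := by
    intro r; rw [hP]; simp
  have hder : Polynomial.aeval g0 (Polynomial.derivative P) = (n : Γ(X', U')) * g0 ^ (n - 1) := by
    rw [hP, Polynomial.derivative_sub, Polynomial.derivative_X_pow, Polynomial.derivative_C,
      sub_zero]
    simp
  have hx : IsNilpotent (Polynomial.aeval g0 P) := by
    rw [hev]
    apply isNilpotent_of_app_eq_zero i hU'.isCompact
    rw [map_sub, map_pow, hg0, hw, sub_self]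
  have hx' : IsUnit (Polynomial.aeval g0 (Polynomial.derivative P)) := by
    rw [hder]; exact hnU.mul (hg0u.pow _)
  obtain ⟨r, ⟨hr1, hr2⟩, -⟩ := Polynomial.existsUnique_nilpotent_sub_and_aeval_eq_zero hx hx'
  have hr2' : r ^ n = w := by
    rw [hev] at hr2; exact sub_eq_zero.mp hr2
  refine ⟨r, ?_, hr2'⟩
  obtain ⟨Q, hQ⟩ : ∃ Q : Polynomial Γ(X, i ⁻¹ᵁ U'),
      Q = Polynomial.X ^ n - Polynomial.C (g ^ n) := ⟨_, rfl⟩
  have hevQ : ∀ r : Γ(X, i ⁻¹ᵁ U'), Polynomial.aeval r Q = r ^ n - g ^ n := by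
    intro r; rw [hQ]; simp
  have hderQ : Polynomial.aeval g (Polynomial.derivative Q) =
      (n : Γ(X, i ⁻¹ᵁ U')) * g ^ (n - 1) := by
    rw [hQ, Polynomial.derivative_sub, Polynomial.derivative_X_pow, Polynomial.derivative_C,
      sub_zero]
    simp
  have hnU0 : IsUnit (n : Γ(X, i ⁻¹ᵁ U')) := by
    have := hnU.map (i.app U').hom
    rwa [map_natCast] at this
  have hy : IsNilpotent (Polynomial.aeval g Q) := by rw [hevQ, sub_self]; exact IsNilpotent.zero
  have hy' : IsUnit (Polynomial.aeval g (Polynomial.derivative Q)) := by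
    rw [hderQ]; exact hnU0.mul (hg.pow _)
  obtain ⟨s, -, hs⟩ := Polynomial.existsUnique_nilpotent_sub_and_aeval_eq_zero hy hy'
  have h1 := hs g ⟨by rw [sub_self]; exact IsNilpotent.zero, by rw [hevQ, sub_self]⟩
  have h2 := hs (i.app U' r) ⟨?_, ?_⟩
  · rw [h2, ← h1]
  · have := hr1.map (i.app U').hom
    rw [map_sub] at this
    change IsNilpotent (i.app U' g0 - i.app U' r) at this
    rwa [hg0] at this
  · rw [hevQ, ← map_pow, hr2', hw, sub_self]

theorem exists_root [IsClosedImmersion i] [Surjective i] (n : ℕ)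
    (hn : IsUnit (n : Γ(X, ⊤))) {U' : X'.Opens} (g : Γ(X, i ⁻¹ᵁ U'))
    (hg : IsUnit g) (w : Γ(X', U')) (hw : i.app U' w = g ^ n) :
    ∃ g' : Γ(X', U'), i.app U' g' = g ∧ g' ^ n = w := by
  have hloc : ∀ A : {A : X'.Opens // IsAffineOpen A ∧ A ≤ U'}, ∃ gA : Γ(X', A.1),
      i.app A.1 gA = rres X (i.preimage_mono A.2.2) g ∧ gA ^ n = rres X' A.2.2 w := by
    intro A
    apply exists_root_of_isAffineOpen i n hn A.2.1 _ (hg.map _)
    have e1 := app_map_apply i A.2.2 w
    change i.app A.1 (rres X' A.2.2 w) = rres X _ (i.app U' w) at e1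
    rw [e1, hw, map_pow]
  choose gA hgA1 hgA2 using hloc
  have hgAu : ∀ A, IsUnit (gA A) := fun A =>
    (isUnit_iff_isUnit_app i (gA A)).mpr (by rw [hgA1]; exact hg.map _)
  obtain ⟨g', hg'⟩ := exists_glue_fun (X := X')
    (fun A : {A : X'.Opens // IsAffineOpen A ∧ A ≤ U'} => A.1) U' (fun A => A.2.2)
    (exists_affine_cover U') gA (by
      intro A B
      apply root_unique i n hn _ _ ((hgAu A).map _)
      · have e1 := app_map_apply i (inf_le_left : A.1 ⊓ B.1 ≤ A.1) (gA A)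
        have e2 := app_map_apply i (inf_le_right : A.1 ⊓ B.1 ≤ B.1) (gA B)
        change i.app (A.1 ⊓ B.1) (rres X' inf_le_left (gA A)) = rres X _ _ at e1
        change i.app (A.1 ⊓ B.1) (rres X' inf_le_right (gA B)) = rres X _ _ at e2
        rw [e1, e2, hgA1, hgA1, rres_rres, rres_rres]
      · rw [← map_pow, ← map_pow, hgA2, hgA2, rres_rres, rres_rres])
  refine ⟨g', ?_, ?_⟩
  · apply fun_ext_of_cover (X := X)
      (fun A : {A : X'.Opens // IsAffineOpen A ∧ A ≤ U'} => i ⁻¹ᵁ A.1) (i ⁻¹ᵁ U')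
      (fun A => i.preimage_mono A.2.2) (by
        intro x hx
        obtain ⟨A, hA⟩ := Opens.mem_iSup.mp (exists_affine_cover U' hx)
        exact Opens.mem_iSup.mpr ⟨A, hA⟩)
    intro A
    have e1 := app_map_apply i A.2.2 g'
    change i.app A.1 (rres X' A.2.2 g') = rres X _ (i.app U' g') at e1
    rw [← e1, hg' A, hgA1]
  · apply fun_ext_of_cover (X := X') (fun A : {A : X'.Opens // IsAffineOpen A ∧ A ≤ U'} => A.1) U'
      (fun A => A.2.2) (exists_affine_cover U')
    intro A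
    rw [map_pow, hg' A, hgA2 A]

end Groth.Agent.Lib.Helper29.Thick
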