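import Groth.Agent.Lib.Helper29.QCohQcqs
import Groth.Agent.Lib.Helper29.QCohPullback
universe u
open CategoryTheory CategoryTheory.Limits AlgebraicGeometry Opposite TopologicalSpace

namespace Groth.Agent.Lib.Helper29.QCoh

theorem exists_iso_tilde_restrict {R : CommRingCat.{u}} (V : (Spec R).Opens)
    (hV : IsCompact (V : Set (Spec R))) (F : (V : Scheme.{u}).Modules) [F.IsQuasicoherent] :
    ∃ M : ModuleCat.{u} R, Nonempty (F ≅ (tilde M).restrict V.ι) := by
  haveI : CompactSpace (V : Scheme.{u}) := isCompact_iff_compactSpace.mp hV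
  haveI : QuasiCompact V.ι := inferInstance
  have hN : ((Scheme.Modules.pushforward V.ι).obj F).IsQuasicoherent :=
    isQuasicoherent_pushforward_of_qcqs V.ι F
  have hiso : IsIso ((Scheme.Modules.pushforward V.ι).obj F).fromTildeΓ :=
    Scheme.Modules.isIso_fromTildeΓ_of_isQuasicoherent _
  refine ⟨(modulesSpecToSheaf.obj ((Scheme.Modules.pushforward V.ι).obj F)).presheaf.obj
    (Opposite.op ⊤), ⟨?_⟩⟩
  exact ((Scheme.Modules.restrictFunctorAdjCounitIso V.ι).app F).symm ≪≫
    (Scheme.Modules.restrictFunctor V.ι).mapIso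
      (asIso ((Scheme.Modules.pushforward V.ι).obj F).fromTildeΓ).symm

end Groth.Agent.Lib.Helper29.QCoh
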