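import Groth.Agent.Lib.Helper29.ToProj2
import Groth.Agent.Lib.Helper29.TwistPn3
import Groth.Prelude.Def_ProjUP
universe u
open CategoryTheory CategoryTheory.Limits AlgebraicGeometry Opposite TopologicalSpace DirectSum

/-! # The universal property of projective space: existence -/

namespace Groth.Agent.Lib.Helper29.QCoh

section GenCover
variable {X : Scheme.{u}} {L : X.Modules}

/-- If the germs at `x` of global sections `s i` of an invertible module span the stalk, one of
them generates `L` near `x`. -/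
theorem exists_mem_genLocus_of_span_germ (hL : PicF.IsInvertible L) {ι : Type*}
    (s : ι → Γ(L, ⊤)) (x : X)
    (hs : Submodule.span (X.presheaf.stalk x)
      (Set.range fun i => (L.presheaf.germ ⊤ x trivial).hom (s i)) = ⊤) :
    ∃ i, x ∈ CohB1.genLocus L (homOfSection L (s i)) := by
  obtain ⟨U, ε, hxU, hε⟩ := exists_isTriv hL x
  have ha : ∀ i, ∃ a : Γ(X, U), QCoh.res L le_top (s i) = a • ε := fun i => hε.exists_eq_smul _
  choose a ha using ha
  by_contra hcon
  push Not at hcon
  have hnu : ∀ i, X.presheaf.germ U x hxU (a i) ∈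
      IsLocalRing.maximalIdeal (X.presheaf.stalk x) := by
    intro i
    rw [IsLocalRing.mem_maximalIdeal, mem_nonunits_iff]
    intro hu
    apply hcon i
    have h1 := hε.genLocus_inf (homOfSection L (s i)) (a i)
      (by rw [sval_homOfSection]; exact ha i)
    have h2 : x ∈ X.basicOpen (a i) := (X.mem_basicOpen (a i) x hxU).mpr hu
    rw [← h1] at h2
    exact h2.1
  have hgerm : ∀ i, (L.presheaf.germ ⊤ x trivial).hom (s i) =
      X.presheaf.germ U x hxU (a i) • L.presheaf.germ U x hxU ε := by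
    intro i
    rw [← germ_smul, ← ha i, germ_res]
  have htop := hε.span_germ_eq_top x hxU
  have hle : (⊤ : Submodule (X.presheaf.stalk x) (L.presheaf.stalk x)) ≤
      IsLocalRing.maximalIdeal (X.presheaf.stalk x) • ⊤ := by
    have h0 : Submodule.span (X.presheaf.stalk x)
        (Set.range fun i => (L.presheaf.germ ⊤ x trivial).hom (s i)) ≤
        IsLocalRing.maximalIdeal (X.presheaf.stalk x) •
          (⊤ : Submodule (X.presheaf.stalk x) (L.presheaf.stalk x)) := by
      rw [Submodule.span_le]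
      rintro _ ⟨i, rfl⟩
      change (L.presheaf.germ ⊤ x trivial).hom (s i) ∈ _
      rw [hgerm i]
      exact Submodule.smul_mem_smul (hnu i) Submodule.mem_top
    rwa [hs] at h0
  have hfg : (⊤ : Submodule (X.presheaf.stalk x) (L.presheaf.stalk x)).FG := by
    rw [← htop]
    exact Submodule.fg_span_singleton _
  have hbot := Submodule.eq_bot_of_le_smul_of_le_jacobson_bot _ _ hfg hle
    (IsLocalRing.maximalIdeal_le_jacobson _)
  have hε0 : L.presheaf.germ U x hxU ε = 0 := by
    have : L.presheaf.germ U x hxU ε ∈ (⊤ : Submodule (X.presheaf.stalk x) (L.presheaf.stalk x)) :=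
      Submodule.mem_top
    rw [hbot] at this
    exact this
  obtain ⟨W, hWU, hxW, hW0⟩ := exists_res_eq_zero_of_germ_eq_zero L x hxU ε hε0
  have hinj := (hε W hWU).1
  have h10 : (1 : Γ(X, W)) = 0 := hinj (by
    change (1 : Γ(X, W)) • QCoh.res L hWU ε = (0 : Γ(X, W)) • QCoh.res L hWU ε
    rw [hW0, smul_zero, smul_zero])
  have := congrArg (X.presheaf.germ W x hxW) h10
  rw [map_one, map_zero] at this
  exact one_ne_zero this

end GenCover

section ChartSpec
variable {R A : Type u} [CommRing R] [CommRing A] [Algebra R A] (𝒜 : ℕ → Submodule R A) [GradedAlgebra 𝒜]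
variable {X : Scheme.{u}}
open HomogeneousLocalization

theorem awayLift_fromZeroRingHom {B : Type u} [CommRing B] (φ : A →+* B) (f : A)
    (hu : IsUnit (φ f)) (a : 𝒜 0) :
    awayLift 𝒜 φ f hu (fromZeroRingHom 𝒜 _ a) = φ a.1 := by
  change (IsLocalization.Away.lift (S := Localization.Away f) f hu)
    ((fromZeroRingHom 𝒜 (Submonoid.powers f) a).val) = _
  have : (fromZeroRingHom 𝒜 (Submonoid.powers f) a).val =
      algebraMap A (Localization.Away f) a.1 := by
    change Localization.mk a.1 1 = _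
    rw [Localization.mk_one_eq_algebraMap]
  rw [this, IsLocalization.Away.lift_eq]

theorem chartHom_toSpecZero (V : X.Opens) (φ : A →+* Γ(X, V)) {f : A} {d : ℕ} (hf : f ∈ 𝒜 d)
    (hd : 0 < d) (hu : IsUnit (φ f)) :
    chartHom 𝒜 V φ hf hd hu ≫ Proj.toSpecZero 𝒜 =
      V.toSpecΓ ≫ Spec.map (CommRingCat.ofHom (φ.comp (algebraMap (𝒜 0) A))) := by
  unfold chartHom
  rw [Category.assoc, Category.assoc, Proj.awayι_toSpecZero, ← Spec.map_comp]
  congr 2
  ext a
  exact awayLift_fromZeroRingHom 𝒜 φ f hu a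

/-- Every morphism to an affine scheme is induced by its ring map on global functions. -/
theorem eq_toSpecΓ_comp {S : CommRingCat.{u}} (q : X ⟶ Spec S) :
    q = X.toSpecΓ ≫ Spec.map ((Scheme.ΓSpecIso S).inv ≫ q.appTop) := by
  rw [Spec.map_comp, ← Scheme.toSpecΓ_naturality_assoc, toSpecΓ_SpecMap_ΓSpecIso_inv,
    Category.comp_id]

theorem ι_comp_eq_toSpecΓ_comp {S : CommRingCat.{u}} (q : X ⟶ Spec S) (V : X.Opens) :
    V.ι ≫ q = V.toSpecΓ ≫ Spec.map ((Scheme.ΓSpecIso S).inv ≫ q.appTop ≫
      X.presheaf.map (homOfLE (le_top : V ≤ ⊤)).op) := by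
  conv_lhs => rw [eq_toSpecΓ_comp q]
  rw [← Scheme.Opens.toSpecΓ_SpecMap_presheaf_map_top_assoc, ← Spec.map_comp]
  simp only [Category.assoc]

end ChartSpec

section EvalHomog

theorem eval₂Hom_mul_of_isHomogeneous {σ R B : Type*} [CommRing R] [CommRing B] (c : R →+* B)
    (y : σ → B) (u : B) {a : MvPolynomial σ R} {k : ℕ} (ha : a.IsHomogeneous k) :
    MvPolynomial.eval₂Hom c (fun l => u * y l) a = u ^ k * MvPolynomial.eval₂Hom c y a := by
  classical
  conv_lhs => rw [← MvPolynomial.support_sum_monomial_coeff a]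
  conv_rhs => rw [← MvPolynomial.support_sum_monomial_coeff a]
  rw [map_sum, map_sum, Finset.mul_sum]
  refine Finset.sum_congr rfl fun d hd => ?_
  rw [MvPolynomial.coe_eval₂Hom, MvPolynomial.eval₂_monomial, MvPolynomial.coe_eval₂Hom,
    MvPolynomial.eval₂_monomial]
  have hk := ha.degree_eq_sum_deg_support hd
  simp only [Finsupp.prod, mul_pow, Finset.prod_mul_distrib, Finset.prod_pow_eq_pow_sum, ← hk]
  ring

end EvalHomog

section UnivProp
variable {R : Type u} [CommRing R] (n : ℕ) {X : Scheme.{u}}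

/-- **Existence part of the universal property of projective space.** -/
theorem exists_to_projSpace (q : X ⟶ Spec (CommRingCat.of R)) (L : X.Modules)
    (hL : PicF.IsInvertible L) (s : Fin (n + 1) → Γ(L, ⊤))
    (hs : ∀ x : X, Submodule.span (X.presheaf.stalk x)
      (Set.range fun i => (L.presheaf.germ ⊤ x trivial).hom (s i)) = ⊤) :
    ∃ (r : X ⟶ Proj (CohB1.polyGrading n R)) (_ : r ≫ CohB1.ProjSpace.toSpec n R = q)
      (τ : (Scheme.Modules.pullback r).obj (Twist.twist (CohB1.polyGrading n R) 1) ≅ L),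
      ∀ i, τ.hom.app ⊤ (pullSect r (Twist.twist (CohB1.polyGrading n R) 1) ⊤
        (oneSecOn (CohB1.polyGrading n R) (Xi n R i) ⊤)) = s i := by
  classical
  let t : Fin (n + 1) → (unitM X ⟶ L) := fun i => homOfSection L (s i)
  let V : Fin (n + 1) → X.Opens := fun i => CohB1.genLocus L (t i)
  have hcov : ∀ x : X, ∃ i, x ∈ V i := fun x => exists_mem_genLocus_of_span_germ hL s x (hs x)
  let e : ∀ i, Γ(L, V i) := fun i => QCoh.res L le_top (s i)
  have he : ∀ i, IsTriv L (V i) (e i) := fun i => by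
    have := isTriv_sval_of_le_genLocus (t i) (le_refl (V i))
    rwa [sval_homOfSection] at this
  have hc : ∀ l i, ∃ c : Γ(X, V i), QCoh.res L le_top (s l) = c • e i :=
    fun l i => (he i).exists_eq_smul _
  choose c hc using hc
  have hcii : ∀ i, c i i = 1 := fun i => (he i).smul_left_cancel (by rw [← hc i i, one_smul])
  let g : R →+* Γ(X, ⊤) := q.appTop.hom.comp (Scheme.ΓSpecIso (CommRingCat.of R)).inv.hom
  let φ : ∀ i, MvPolynomial (Fin (n + 1)) R →+* Γ(X, V i) := fun i =>
    MvPolynomial.eval₂Hom ((rres X (le_top : V i ≤ ⊤)).comp g) (fun l => c l i)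
  have hφX : ∀ i l, φ i (MvPolynomial.X l) = c l i := fun i l => MvPolynomial.eval₂Hom_X' _ _ _
  have h1 : ∀ i, φ i (Xi n R i).1 = 1 := fun i => by rw [hφX, hcii]
  -- the cocycle relation of the coefficients
  have hcc : ∀ i j l, rres X (inf_le_left : V i ⊓ V j ≤ V i) (c l i) =
      rres X (inf_le_left : V i ⊓ V j ≤ V i) (c j i) *
        rres X (inf_le_right : V i ⊓ V j ≤ V j) (c l j) := by
    intro i j l
    apply ((he i).restrict (inf_le_left : V i ⊓ V j ≤ V i)).smul_left_cancel
    have hL1 : rres X (inf_le_left : V i ⊓ V j ≤ V i) (c l i) •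
        QCoh.res L (inf_le_left : V i ⊓ V j ≤ V i) (e i) =
        QCoh.res L (le_top : V i ⊓ V j ≤ ⊤) (s l) := by
      rw [← res_smul, ← hc l i, res_res]
    have hL2 : rres X (inf_le_left : V i ⊓ V j ≤ V i) (c j i) •
        QCoh.res L (inf_le_left : V i ⊓ V j ≤ V i) (e i) =
        QCoh.res L (inf_le_right : V i ⊓ V j ≤ V j) (e j) := by
      rw [← res_smul, ← hc j i, res_res, res_res]
    have hL3 : rres X (inf_le_right : V i ⊓ V j ≤ V j) (c l j) •
        QCoh.res L (inf_le_right : V i ⊓ V j ≤ V j) (e j) =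
        QCoh.res L (le_top : V i ⊓ V j ≤ ⊤) (s l) := by
      rw [← res_smul, ← hc l j, res_res]
    rw [hL1, mul_comm, mul_smul, hL2, hL3]
  -- the gluing hypothesis
  have hcoef : ∀ i j, (rres X (inf_le_left : V i ⊓ V j ≤ V i)).comp
      ((rres X (le_top : V i ≤ ⊤)).comp g) =
      (rres X (inf_le_right : V i ⊓ V j ≤ V j)).comp ((rres X (le_top : V j ≤ ⊤)).comp g) := by
    intro i j
    ext a
    simp only [RingHom.comp_apply]
    rw [map_map_apply, map_map_apply]
  have hglue : ∀ (i j : Fin (n + 1)) (k : ℕ) (a : MvPolynomial (Fin (n + 1)) R),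
      a ∈ CohB1.polyGrading n R k →
      (X.presheaf.map (homOfLE (inf_le_left : V i ⊓ V j ≤ V i)).op).hom (φ i a) =
        ((X.presheaf.map (homOfLE (inf_le_left : V i ⊓ V j ≤ V i)).op).hom
          (φ i ((fun l => (Xi n R l).1) j))) ^ k *
          (X.presheaf.map (homOfLE (inf_le_right : V i ⊓ V j ≤ V j)).op).hom (φ j a) := by
    intro i j k a ha
    have e1 : (rres X (inf_le_left : V i ⊓ V j ≤ V i)).comp (φ i) =
        MvPolynomial.eval₂Hom ((rres X (inf_le_right : V i ⊓ V j ≤ V j)).comp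
          ((rres X (le_top : V j ≤ ⊤)).comp g))
          (fun l => rres X (inf_le_left : V i ⊓ V j ≤ V i) (c j i) *
            rres X (inf_le_right : V i ⊓ V j ≤ V j) (c l j)) := by
      rw [MvPolynomial.comp_eval₂Hom, hcoef i j]
      congr 1
      funext l
      exact hcc i j l
    have e2 : (rres X (inf_le_right : V i ⊓ V j ≤ V j)).comp (φ j) =
        MvPolynomial.eval₂Hom ((rres X (inf_le_right : V i ⊓ V j ≤ V j)).comp
          ((rres X (le_top : V j ≤ ⊤)).comp g))
          (fun l => rres X (inf_le_right : V i ⊓ V j ≤ V j) (c l j)) := by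
      rw [MvPolynomial.comp_eval₂Hom]
    have e3 := eval₂Hom_mul_of_isHomogeneous
      ((rres X (inf_le_right : V i ⊓ V j ≤ V j)).comp ((rres X (le_top : V j ≤ ⊤)).comp g))
      (fun l => rres X (inf_le_right : V i ⊓ V j ≤ V j) (c l j))
      (rres X (inf_le_left : V i ⊓ V j ≤ V i) (c j i)) (a := a) (k := k) ha
    rw [← e1, ← e2] at e3
    rw [hφX]
    exact e3
  obtain ⟨r, hr⟩ := exists_glued_toProj (CohB1.polyGrading n R) V
    (by
      rw [IsOpenCover, eq_top_iff]
      intro x _
      obtain ⟨i, hi⟩ := hcov x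
      exact Opens.mem_iSup.mpr ⟨i, hi⟩)
    (fun l => (Xi n R l).1) (fun l => (Xi n R l).2) φ h1 hglue
  have hr' : ∀ i, (V i).ι ≫ r = chartHom (CohB1.polyGrading n R) (V i) (φ i) (Xi n R i).2 one_pos
      (by rw [h1]; exact isUnit_one) := hr
  have hVcover : IsOpenCover V := by
    rw [IsOpenCover, eq_top_iff]
    intro x _
    obtain ⟨i, hi⟩ := hcov x
    exact Opens.mem_iSup.mpr ⟨i, hi⟩
  -- compatibility with the structure morphisms
  have hq : r ≫ CohB1.ProjSpace.toSpec n R = q := by
    apply (X.openCoverOfIsOpenCover V hVcover).hom_ext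
    intro i
    change (V i).ι ≫ r ≫ CohB1.ProjSpace.toSpec n R = (V i).ι ≫ q
    rw [← Category.assoc, hr' i, ι_comp_eq_toSpecΓ_comp q (V i)]
    unfold CohB1.ProjSpace.toSpec
    have hz := chartHom_toSpecZero (CohB1.polyGrading n R) (V i) (φ i) (Xi n R i).2 one_pos
      (by rw [h1]; exact isUnit_one)
    erw [reassoc_of% hz]
    rw [← Spec.map_comp]
    congr 2
    ext a
    change φ i (MvPolynomial.C a) = _
    exact MvPolynomial.eval₂Hom_C _ _ a
  -- the isomorphism
  have hce : ∀ i j, QCoh.res L (inf_le_left : V i ⊓ V j ≤ V i) (e i) =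
      rres X (inf_le_right : V i ⊓ V j ≤ V j) (φ j (Xi n R i).1) •
        QCoh.res L (inf_le_right : V i ⊓ V j ≤ V j) (e j) := by
    intro i j
    rw [hφX, ← res_smul, ← hc i j, res_res, res_res]
  obtain ⟨τ, hτ⟩ := exists_iso_pullback_twist_one (CohB1.polyGrading n R) r V hcov
    (fun l => Xi n R l) φ h1 hr' L e he hce
  refine ⟨r, hq, τ, fun l => ?_⟩
  apply eq_of_res_cover_eq L V (fun i => le_top) (by
    intro x _
    obtain ⟨i, hi⟩ := hcov x
    exact Opens.mem_iSup.mpr ⟨i, hi⟩)
  intro j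
  rw [hτ (Xi n R l) j, hφX, ← hc l j]

end UnivProp

end Groth.Agent.Lib.Helper29.QCoh
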