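import Groth.Agent.Lib.Helper29.ToProj4
import Mathlib.LinearAlgebra.SymmetricAlgebra.Basic
universe u
open CategoryTheory CategoryTheory.Limits AlgebraicGeometry Opposite TopologicalSpace DirectSum

namespace Groth.Agent.Lib.Helper29.QCoh

section HomogInd
variable {A S : Type*} [CommRing A] [CommRing S] [Algebra A S] (𝒮 : ℕ → Submodule A S)
  [GradedAlgebra 𝒮]

/-- Induction principle for homogeneous elements of a graded algebra generated by homogeneous
elements. -/
theorem homogeneous_induction (s : Set S) (hs : Algebra.adjoin A s = ⊤) (P : ℕ → S → Prop)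
    (h0 : ∀ k, P k 0)
    (hadd : ∀ k a b, a ∈ 𝒮 k → b ∈ 𝒮 k → P k a → P k b → P k (a + b))
    (hmul : ∀ k l a b, a ∈ 𝒮 k → b ∈ 𝒮 l → P k a → P l b → P (k + l) (a * b))
    (halg : ∀ r : A, P 0 (algebraMap A S r))
    (hgen : ∀ x ∈ s, ∃ d, x ∈ 𝒮 d ∧ P d x) :
    ∀ k a, a ∈ 𝒮 k → P k a := by
  classical
  let H : Set S := {a | ∀ k, P k (decompose 𝒮 a k : S)}
  have hH0 : (0 : S) ∈ H := by
    intro k
    rw [decompose_zero, DirectSum.zero_apply, ZeroMemClass.coe_zero]
    exact h0 k
  have hHadd : ∀ a b, a ∈ H → b ∈ H → a + b ∈ H := by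
    intro a b ha hb k
    rw [decompose_add, DirectSum.add_apply, Submodule.coe_add]
    exact hadd k _ _ (Submodule.coe_mem _) (Submodule.coe_mem _) (ha k) (hb k)
  have hHsum : ∀ {ι : Type} (t : Finset ι) (g : ι → S), (∀ i ∈ t, g i ∈ H) →
      ∑ i ∈ t, g i ∈ H := by
    intro ι t g
    induction t using Finset.induction_on with
    | empty => intro _; simpa using hH0
    | insert i t hi ih =>
      intro h
      rw [Finset.sum_insert hi]
      exact hHadd _ _ (h i (Finset.mem_insert_self i t))
        (ih fun j hj => h j (Finset.mem_insert_of_mem hj))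
  have hHhom : ∀ d a, a ∈ 𝒮 d → P d a → a ∈ H := by
    intro d a ha hP k
    by_cases hk : d = k
    · subst hk
      rw [decompose_of_mem_same 𝒮 ha]
      exact hP
    · rw [decompose_of_mem_ne 𝒮 ha hk]
      exact h0 k
  have hHmul : ∀ a b, a ∈ H → b ∈ H → a * b ∈ H := by
    intro a b ha hb
    rw [← sum_support_decompose 𝒮 a, ← sum_support_decompose 𝒮 b, Finset.sum_mul]
    refine hHsum _ _ fun p _ => ?_
    rw [Finset.mul_sum]
    refine hHsum _ _ fun q _ => ?_
    exact hHhom (p + q) _ (SetLike.mul_mem_graded (Submodule.coe_mem _) (Submodule.coe_mem _))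
      (hmul p q _ _ (Submodule.coe_mem _) (Submodule.coe_mem _) (ha p) (hb q))
  have hHalg : ∀ r : A, algebraMap A S r ∈ H := fun r =>
    hHhom 0 _ (SetLike.algebraMap_mem_graded 𝒮 r) (halg r)
  have hall : ∀ a : S, a ∈ H := by
    intro a
    have ha : a ∈ Algebra.adjoin A s := by rw [hs]; trivial
    induction ha using Algebra.adjoin_induction with
    | mem x hx =>
      obtain ⟨d, hd, hP⟩ := hgen x hx
      exact hHhom d x hd hP
    | algebraMap r => exact hHalg r
    | add x y _ _ hx hy => exact hHadd x y hx hy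
    | mul x y _ _ hx hy => exact hHmul x y hx hy
  intro k a ha
  have := hall a k
  rwa [decompose_of_mem_same 𝒮 ha] at this

end HomogInd

end Groth.Agent.Lib.Helper29.QCoh
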