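import Groth.Agent.Lib.Helper29.ToProj5a
universe u
open CategoryTheory CategoryTheory.Limits AlgebraicGeometry Opposite TopologicalSpace DirectSum

namespace Groth.Agent.Lib.Helper29.QCoh

section Scaling
variable {A S : Type*} [CommRing A] [CommRing S] [Algebra A S] (𝒮 : ℕ → Submodule A S)
  [GradedAlgebra 𝒮]

theorem ringHom_scaling_of_adjoin (s : Set S) (hs : Algebra.adjoin A s = ⊤) (hs1 : s ⊆ 𝒮 1)
    {B : Type*} [CommRing B] (F G : S →+* B) (u : B)
    (h0 : ∀ r : A, F (algebraMap A S r) = G (algebraMap A S r))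
    (h1 : ∀ x ∈ s, F x = u * G x) :
    ∀ k a, a ∈ 𝒮 k → F a = u ^ k * G a := by
  apply homogeneous_induction 𝒮 s hs (fun k a => F a = u ^ k * G a)
  · intro k; simp
  · intro k a b _ _ ha hb
    rw [map_add, map_add, ha, hb, mul_add]
  · intro k l a b _ _ ha hb
    rw [map_mul, map_mul, ha, hb, pow_add]; ring
  · intro r; rw [pow_zero, one_mul, h0]
  · intro x hx
    exact ⟨1, hs1 hx, by rw [pow_one, h1 x hx]⟩

theorem ringHom_ext_of_adjoin (s : Set S) (hs : Algebra.adjoin A s = ⊤)
    {B : Type*} [CommRing B] (F G : S →+* B)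
    (h0 : ∀ r : A, F (algebraMap A S r) = G (algebraMap A S r))
    (h1 : ∀ x ∈ s, F x = G x) : F = G := by
  ext a
  have ha : a ∈ Algebra.adjoin A s := by rw [hs]; trivial
  induction ha using Algebra.adjoin_induction with
  | mem x hx => exact h1 x hx
  | algebraMap r => exact h0 r
  | add x y _ _ hx hy => rw [map_add, map_add, hx, hy]
  | mul x y _ _ hx hy => rw [map_mul, map_mul, hx, hy]

end Scaling

section SymLift
variable {A S M : Type*} [CommRing A] [CommRing S] [Algebra A S] [AddCommGroup M] [Module A M]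
  {ι : M →ₗ[A] S}

theorem IsSymmetricAlgebra.adjoin_range_eq_top (hsym : IsSymmetricAlgebra ι) :
    Algebra.adjoin A (Set.range ι) = ⊤ := by
  rw [eq_top_iff]
  intro a ha0
  clear ha0
  induction a using hsym.induction with
  | algebraMap r => exact Subalgebra.algebraMap_mem _ r
  | ι x => exact Algebra.subset_adjoin ⟨x, rfl⟩
  | mul a b ha hb => exact Subalgebra.mul_mem _ ha hb
  | add a b ha hb => exact Subalgebra.add_mem _ ha hb

theorem IsSymmetricAlgebra.exists_ringHom (hsym : IsSymmetricAlgebra ι) {B : Type*} [CommRing B]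
    (γ : A →+* B) (c : M → B) (hadd : ∀ m m', c (m + m') = c m + c m')
    (hsmul : ∀ a m, c (a • m) = γ a * c m) :
    ∃ φ : S →+* B, (∀ a, φ (algebraMap A S a) = γ a) ∧ ∀ m, φ (ι m) = c m := by
  letI : Algebra A B := γ.toAlgebra
  let cl : M →ₗ[A] B :=
    { toFun := c
      map_add' := hadd
      map_smul' := fun a m => by rw [hsmul]; rfl }
  exact ⟨(hsym.lift cl).toRingHom, fun a => (hsym.lift cl).commutes a, fun m => hsym.lift_eq cl m⟩

end SymLift

end Groth.Agent.Lib.Helper29.QCoh
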