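import Groth.Agent.Lib.Helper29.ToProj5b
universe u
open CategoryTheory CategoryTheory.Limits AlgebraicGeometry Opposite TopologicalSpace DirectSum

namespace Groth.Agent.Lib.Helper29.QCoh

section AwayGen
variable {R A : Type u} [CommRing R] [CommRing A] [Algebra R A] (𝒜 : ℕ → Submodule R A)
  [GradedAlgebra 𝒜]
open HomogeneousLocalization

theorem away_mk_zero {f : A} {d : ℕ} (hf : f ∈ 𝒜 d) (k : ℕ) :
    Away.mk 𝒜 hf k 0 (Submodule.zero_mem _) = 0 := by
  apply HomogeneousLocalization.val_injective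
  rw [Away.val_mk, HomogeneousLocalization.val_zero, Localization.mk_zero]

theorem away_mk_add {f : A} {d : ℕ} (hf : f ∈ 𝒜 d) (k : ℕ) (a b : A) (ha : a ∈ 𝒜 (k • d))
    (hb : b ∈ 𝒜 (k • d)) :
    Away.mk 𝒜 hf k (a + b) (Submodule.add_mem _ ha hb) =
      Away.mk 𝒜 hf k a ha + Away.mk 𝒜 hf k b hb := by
  apply HomogeneousLocalization.val_injective
  rw [HomogeneousLocalization.val_add, Away.val_mk, Away.val_mk, Away.val_mk,
    Localization.add_mk_self]

theorem away_mk_mul {f : A} {d : ℕ} (hf : f ∈ 𝒜 d) (k l : ℕ) (a b : A) (ha : a ∈ 𝒜 (k • d))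
    (hb : b ∈ 𝒜 (l • d)) (hab : a * b ∈ 𝒜 ((k + l) • d)) :
    Away.mk 𝒜 hf (k + l) (a * b) hab = Away.mk 𝒜 hf k a ha * Away.mk 𝒜 hf l b hb := by
  apply HomogeneousLocalization.val_injective
  rw [HomogeneousLocalization.val_mul, Away.val_mk, Away.val_mk, Away.val_mk,
    Localization.mk_mul]
  congr 1
  apply Subtype.ext
  exact pow_add f k l

theorem away_mk_algebraMap {f : A} {d : ℕ} (hf : f ∈ 𝒜 d) (r : R)
    (h : algebraMap R A r ∈ 𝒜 (0 • d)) :
    Away.mk 𝒜 hf 0 (algebraMap R A r) h =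
      fromZeroRingHom 𝒜 _ (algebraMap R (𝒜 0) r) := by
  apply HomogeneousLocalization.val_injective
  rw [Away.val_mk]
  change _ = Localization.mk (algebraMap R A r) 1
  congr 1
  apply Subtype.ext
  exact pow_zero f

/-- If `A` is generated over `R` by a set `s` of elements of degree one, then `A_(f)` for `f`
of degree one is generated by the constants and the fractions `x / f`, `x ∈ s`. -/
theorem away_ringHom_ext_of_adjoin (s : Set A) (hs : Algebra.adjoin R s = ⊤) (hs1 : s ⊆ 𝒜 1)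
    {f : A} (hf : f ∈ 𝒜 1) {B : Type*} [CommRing B] (ψ ψ' : Away 𝒜 f →+* B)
    (hC : ∀ r : R, ψ (fromZeroRingHom 𝒜 _ (algebraMap R (𝒜 0) r)) =
      ψ' (fromZeroRingHom 𝒜 _ (algebraMap R (𝒜 0) r)))
    (hX : ∀ x (hx : x ∈ s), ψ (Away.mk 𝒜 hf 1 x (by rw [one_smul]; exact hs1 hx)) =
      ψ' (Away.mk 𝒜 hf 1 x (by rw [one_smul]; exact hs1 hx))) : ψ = ψ' := by
  have key := homogeneous_induction 𝒜 s hs
    (fun k a => ∀ ha : a ∈ 𝒜 (k • 1), ψ (Away.mk 𝒜 hf k a ha) = ψ' (Away.mk 𝒜 hf k a ha))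
    (by
      intro k ha
      rw [away_mk_zero, map_zero, map_zero])
    (by
      intro k a b ha hb hPa hPb hab
      have ha' : a ∈ 𝒜 (k • 1) := by rwa [smul_eq_mul, mul_one]
      have hb' : b ∈ 𝒜 (k • 1) := by rwa [smul_eq_mul, mul_one]
      rw [away_mk_add 𝒜 hf k a b ha' hb', map_add, map_add, hPa ha', hPb hb'])
    (by
      intro k l a b ha hb hPa hPb hab
      have ha' : a ∈ 𝒜 (k • 1) := by rwa [smul_eq_mul, mul_one]
      have hb' : b ∈ 𝒜 (l • 1) := by rwa [smul_eq_mul, mul_one]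
      rw [away_mk_mul 𝒜 hf k l a b ha' hb', map_mul, map_mul, hPa ha', hPb hb'])
    (by
      intro r h
      rw [away_mk_algebraMap, hC])
    (by
      intro x hx
      exact ⟨1, hs1 hx, fun _ => hX x hx⟩)
  ext y
  obtain ⟨k, a, ha, rfl⟩ := Away.mk_surjective 𝒜 hf y
  exact key k a (by rwa [smul_eq_mul, mul_one] at ha) ha

/-- If `A` is generated over `R` by a set of elements of degree one, these elements cover
`Proj`. -/
theorem exists_mem_basicOpen_of_adjoin (s : Set A) (hs : Algebra.adjoin R s = ⊤) (hs1 : s ⊆ 𝒜 1)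
    (x : Proj 𝒜) : ∃ f ∈ s, x ∈ Proj.basicOpen 𝒜 f := by
  by_contra hcon
  push Not at hcon
  have hmem : ∀ f ∈ s, f ∈ x.asHomogeneousIdeal := by
    intro f hf
    by_contra h
    exact hcon f hf ((ProjectiveSpectrum.mem_basicOpen 𝒜 f x).mpr h)
  have key := homogeneous_induction 𝒜 s hs
    (fun k a => 0 < k → a ∈ x.asHomogeneousIdeal)
    (fun k _ => Ideal.zero_mem _)
    (fun k a b _ _ hPa hPb hk => Ideal.add_mem _ (hPa hk) (hPb hk))
    (by
      intro k l a b _ _ hPa hPb hkl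
      rcases Nat.eq_zero_or_pos k with hk | hk
      · have hl : 0 < l := by omega
        exact Ideal.mul_mem_left _ _ (hPb hl)
      · exact Ideal.mul_mem_right _ _ (hPa hk))
    (fun r h => absurd h (lt_irrefl 0))
    (fun f hf => ⟨1, hs1 hf, fun _ => hmem f hf⟩)
  apply x.not_irrelevant_le
  intro a ha
  classical
  rw [← sum_support_decompose 𝒜 a]
  refine Ideal.sum_mem _ fun k _ => ?_
  rcases Nat.eq_zero_or_pos k with hk | hk
  · subst hk
    have : (decompose 𝒜 a 0 : A) = 0 := by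
      have := (HomogeneousIdeal.mem_irrelevant_iff 𝒜 a).mp ha
      simpa [GradedRing.proj_apply] using this
    rw [this]
    exact Ideal.zero_mem _
  · exact key k _ (Submodule.coe_mem _) hk

end AwayGen

end Groth.Agent.Lib.Helper29.QCoh
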