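import Groth.Agent.Lib.Helper29.ToProj5c
universe u
open CategoryTheory CategoryTheory.Limits AlgebraicGeometry Opposite TopologicalSpace DirectSum

namespace Groth.Agent.Lib.Helper29.QCoh

section SymUnivProp
variable {A S M : Type u} [CommRing A] [CommRing S] [Algebra A S] (𝒮 : ℕ → Submodule A S)
  [GradedAlgebra 𝒮] [AddCommGroup M] [Module A M] {X : Scheme.{u}}

/-- **Existence part of the universal property of `Proj` of a symmetric algebra.** -/
theorem exists_to_proj_sym (ι : M →ₗ[A] S) (hι : ∀ m : M, ι m ∈ 𝒮 1)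
    (hsym : IsSymmetricAlgebra ι) (q : X ⟶ Spec (CommRingCat.of A)) (L : X.Modules)
    (hL : PicF.IsInvertible L) (v : M →+ Γ(L, ⊤))
    (hv : ∀ (a : A) (m : M), v (a • m) = ProjUP.toGlobal q a • v m)
    (hs : ∀ x : X, Submodule.span (X.presheaf.stalk x)
      (Set.range fun i => (L.presheaf.germ ⊤ x trivial).hom (v i)) = ⊤) :
    ∃ (r : X ⟶ Proj 𝒮)
      (_ : r ≫ Proj.toSpecZero 𝒮 ≫ Spec.map (CommRingCat.ofHom (algebraMap A (𝒮 0))) = q)
      (τ : (Scheme.Modules.pullback r).obj (Twist.twist 𝒮 1) ≅ L),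
      ∀ m, τ.hom.app ⊤ (pullSect r (Twist.twist 𝒮 1) ⊤
        (oneSecOn 𝒮 ⟨ι m, hι m⟩ ⊤)) = v m := by
  classical
  let t : M → (unitM X ⟶ L) := fun i => homOfSection L (v i)
  let V : M → X.Opens := fun i => CohB1.genLocus L (t i)
  have hcov : ∀ x : X, ∃ i, x ∈ V i := fun x =>
    exists_mem_genLocus_of_span_germ hL (fun i => v i) x (hs x)
  let e : ∀ i, Γ(L, V i) := fun i => QCoh.res L le_top (v i)
  have he : ∀ i, IsTriv L (V i) (e i) := fun i => by
    have := isTriv_sval_of_le_genLocus (t i) (le_refl (V i))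
    rwa [sval_homOfSection] at this
  have hc : ∀ l i, ∃ c : Γ(X, V i), QCoh.res L le_top (v l) = c • e i :=
    fun l i => (he i).exists_eq_smul _
  choose c hc using hc
  have hcii : ∀ i, c i i = 1 := fun i => (he i).smul_left_cancel (by rw [← hc i i, one_smul])
  let g : A →+* Γ(X, ⊤) := ProjUP.toGlobal q
  let γ : ∀ i, A →+* Γ(X, V i) := fun i => (rres X (le_top : V i ≤ ⊤)).comp g
  have hcadd : ∀ i l l', c (l + l') i = c l i + c l' i := by
    intro i l l'
    apply (he i).smul_left_cancel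
    rw [← hc, map_add, map_add, add_smul, ← hc, ← hc]
  have hcsmul : ∀ i (a : A) l, c (a • l) i = γ i a * c l i := by
    intro i a l
    apply (he i).smul_left_cancel
    rw [← hc, hv, res_smul, hc l i, mul_smul]
    rfl
  have hφ : ∀ i, ∃ φ : S →+* Γ(X, V i), (∀ a, φ (algebraMap A S a) = γ i a) ∧
      ∀ m, φ (ι m) = c m i := fun i =>
    IsSymmetricAlgebra.exists_ringHom hsym (γ i) (fun l => c l i) (hcadd i) (hcsmul i)
  choose φ hφalg hφX using hφ
  have h1 : ∀ i, φ i (ι i) = 1 := fun i => by rw [hφX, hcii]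
  -- the cocycle relation of the coefficients
  have hcc : ∀ i j l, rres X (inf_le_left : V i ⊓ V j ≤ V i) (c l i) =
      rres X (inf_le_left : V i ⊓ V j ≤ V i) (c j i) *
        rres X (inf_le_right : V i ⊓ V j ≤ V j) (c l j) := by
    intro i j l
    apply ((he i).restrict (inf_le_left : V i ⊓ V j ≤ V i)).smul_left_cancel
    have hL1 : rres X (inf_le_left : V i ⊓ V j ≤ V i) (c l i) •
        QCoh.res L (inf_le_left : V i ⊓ V j ≤ V i) (e i) =
        QCoh.res L (le_top : V i ⊓ V j ≤ ⊤) (v l) := by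
      rw [← res_smul, ← hc l i, res_res]
    have hL2 : rres X (inf_le_left : V i ⊓ V j ≤ V i) (c j i) •
        QCoh.res L (inf_le_left : V i ⊓ V j ≤ V i) (e i) =
        QCoh.res L (inf_le_right : V i ⊓ V j ≤ V j) (e j) := by
      rw [← res_smul, ← hc j i, res_res, res_res]
    have hL3 : rres X (inf_le_right : V i ⊓ V j ≤ V j) (c l j) •
        QCoh.res L (inf_le_right : V i ⊓ V j ≤ V j) (e j) =
        QCoh.res L (le_top : V i ⊓ V j ≤ ⊤) (v l) := by
      rw [← res_smul, ← hc l j, res_res]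
    rw [hL1, mul_comm, mul_smul, hL2, hL3]
  have hcoef : ∀ i j (a : A), rres X (inf_le_left : V i ⊓ V j ≤ V i) (γ i a) =
      rres X (inf_le_right : V i ⊓ V j ≤ V j) (γ j a) := by
    intro i j a
    simp only [γ, RingHom.comp_apply]
    rw [map_map_apply, map_map_apply]
  have hrange : Set.range ι ⊆ (𝒮 1 : Set S) := by
    rintro _ ⟨m, rfl⟩
    exact hι m
  have hglue : ∀ (i j : M) (k : ℕ) (a : S), a ∈ 𝒮 k →
      (X.presheaf.map (homOfLE (inf_le_left : V i ⊓ V j ≤ V i)).op).hom (φ i a) =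
        ((X.presheaf.map (homOfLE (inf_le_left : V i ⊓ V j ≤ V i)).op).hom
          (φ i ((fun l => ι l) j))) ^ k *
          (X.presheaf.map (homOfLE (inf_le_right : V i ⊓ V j ≤ V j)).op).hom (φ j a) := by
    intro i j k a ha
    have := ringHom_scaling_of_adjoin 𝒮 (Set.range ι)
      (IsSymmetricAlgebra.adjoin_range_eq_top hsym) hrange
      ((rres X (inf_le_left : V i ⊓ V j ≤ V i)).comp (φ i))
      ((rres X (inf_le_right : V i ⊓ V j ≤ V j)).comp (φ j))
      (rres X (inf_le_left : V i ⊓ V j ≤ V i) (c j i))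
      (by
        intro a
        simp only [RingHom.comp_apply]
        rw [hφalg, hφalg, hcoef])
      (by
        rintro _ ⟨l, rfl⟩
        simp only [RingHom.comp_apply]
        rw [hφX, hφX, hcc i j l])
      k a ha
    simp only [RingHom.comp_apply] at this
    rw [hφX]
    exact this
  have hVcover : IsOpenCover V := by
    rw [IsOpenCover, eq_top_iff]
    intro x _
    obtain ⟨i, hi⟩ := hcov x
    exact Opens.mem_iSup.mpr ⟨i, hi⟩
  obtain ⟨r, hr⟩ := exists_glued_toProj 𝒮 V hVcover (fun l => ι l) hι φ h1 hglue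
  have hr' : ∀ i, (V i).ι ≫ r = chartHom 𝒮 (V i) (φ i) (hι i) one_pos
      (by rw [h1]; exact isUnit_one) := hr
  -- compatibility with the structure morphisms
  have hq : r ≫ Proj.toSpecZero 𝒮 ≫ Spec.map (CommRingCat.ofHom (algebraMap A (𝒮 0))) = q := by
    apply (X.openCoverOfIsOpenCover V hVcover).hom_ext
    refine fun (i : M) => ?_
    change (V i).ι ≫ r ≫ Proj.toSpecZero 𝒮 ≫ _ = (V i).ι ≫ q
    rw [← Category.assoc, hr' i, ι_comp_eq_toSpecΓ_comp q (V i)]
    have hz := chartHom_toSpecZero 𝒮 (V i) (φ i) (hι i) one_pos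
      (by rw [h1]; exact isUnit_one)
    rw [reassoc_of% hz]
    rw [← Spec.map_comp]
    congr 2
    ext a
    change φ i (algebraMap A S a) = _
    exact hφalg i a
  -- the isomorphism
  have hce : ∀ i j, QCoh.res L (inf_le_left : V i ⊓ V j ≤ V i) (e i) =
      rres X (inf_le_right : V i ⊓ V j ≤ V j) (φ j (ι i)) •
        QCoh.res L (inf_le_right : V i ⊓ V j ≤ V j) (e j) := by
    intro i j
    rw [hφX, ← res_smul, ← hc i j, res_res, res_res]
  obtain ⟨τ, hτ⟩ := exists_iso_pullback_twist_one 𝒮 r V hcov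
    (fun l => (⟨ι l, hι l⟩ : 𝒮 1)) φ h1 hr' L e he hce
  refine ⟨r, hq, τ, fun l => ?_⟩
  apply eq_of_res_cover_eq L V (fun i => le_top) (by
    intro x _
    obtain ⟨i, hi⟩ := hcov x
    exact Opens.mem_iSup.mpr ⟨i, hi⟩)
  intro j
  rw [hτ ⟨ι l, hι l⟩ j, hφX, ← hc l j]

end SymUnivProp

end Groth.Agent.Lib.Helper29.QCoh
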