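import Groth.Agent.Lib.Helper29.ToProj5d
universe u
open CategoryTheory CategoryTheory.Limits AlgebraicGeometry Opposite TopologicalSpace DirectSum

namespace Groth.Agent.Lib.Helper29.QCoh

section GenUnique
variable {R A : Type u} [CommRing R] [CommRing A] [Algebra R A] (𝒜 : ℕ → Submodule R A)
  [GradedAlgebra 𝒜] {X : Scheme.{u}}
open HomogeneousLocalization

theorem gSec_one_eq_oneSecOn' (f : 𝒜 1) :
    gSec 1 f 1 (by simp) = oneSecOn 𝒜 f ⊤ := by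
  apply tfun_ext
  intro x
  rw [tfun_oneSecOn]
  change Localization.mk (f.1 ^ 1) _ = _
  apply mk_eq_mk_of_mul_eq
  simp

theorem genLocus_oneSecOn' (hcov : ∀ x : Proj 𝒜, ∃ g : 𝒜 1, x ∈ Proj.basicOpen 𝒜 g.1)
    (f : 𝒜 1) :
    CohB1.genLocus (Twist.twist 𝒜 1) (homOfSection _ (oneSecOn 𝒜 f ⊤)) =
      Proj.basicOpen 𝒜 f.1 := by
  rw [← gSec_one_eq_oneSecOn']
  exact genLocus_homOfSection_gSec hcov 1 one_pos f 1 (by simp)

/-- The preimages of a degree-one chart under two morphisms to `Proj` whose pullbacks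
of `O(1)` are identified compatibly with the section coincide. -/
theorem preimage_basicOpen_eq_of_iso' (hcov : ∀ x : Proj 𝒜, ∃ g : 𝒜 1, x ∈ Proj.basicOpen 𝒜 g.1)
    (r r' : X ⟶ Proj 𝒜)
    (τ : (Scheme.Modules.pullback r).obj (Twist.twist 𝒜 1) ≅
      (Scheme.Modules.pullback r').obj (Twist.twist 𝒜 1)) (f : 𝒜 1)
    (hτ : τ.hom.app ⊤ (pullSect r (Twist.twist 𝒜 1) ⊤ (oneSecOn 𝒜 f ⊤)) =
      pullSect r' (Twist.twist 𝒜 1) ⊤ (oneSecOn 𝒜 f ⊤)) :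
    r ⁻¹ᵁ Proj.basicOpen 𝒜 f.1 = r' ⁻¹ᵁ Proj.basicOpen 𝒜 f.1 := by
  set si := homOfSection (Twist.twist 𝒜 1) (oneSecOn 𝒜 f ⊤) with hsi
  have hM : PicF.IsInvertible (Twist.twist 𝒜 1) :=
    (twist_invertible_and_tensor (iSup_basicOpen_eq_top_of_forall hcov)).1 1
  have h1 := genLocus_pullHom r hM si
  have h2 := genLocus_pullHom r' hM si
  rw [genLocus_oneSecOn' 𝒜 hcov] at h1 h2
  rw [← h1, ← h2, ← genLocus_comp_iso (pullHom r si) τ]
  congr 1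
  apply hom_ext_of_sval
  have e1 : sval (pullHom r si ≫ τ.hom) ⊤ = τ.hom.app ⊤ (sval (pullHom r si) ⊤) := rfl
  have e2 := sval_pullHom r si ⊤
  have e3 := sval_pullHom r' si ⊤
  have e4 : sval si ⊤ = oneSecOn 𝒜 f ⊤ := by
    rw [hsi, sval_homOfSection, res_self]
  rw [e4] at e2 e3
  rw [e1]
  exact (congrArg _ e2).trans (hτ.trans e3.symm)

theorem awayToSection_fromZero (f : A) {m : ℕ} (hf : f ∈ 𝒜 m) (hm : 0 < m) (c : R) :
    (Proj.awayToSection 𝒜 f).hom (fromZeroRingHom 𝒜 _ (algebraMap R (𝒜 0) c)) =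
      ((Proj 𝒜).presheaf.map (homOfLE (le_top : Proj.basicOpen 𝒜 f ≤ ⊤)).op).hom
        ((Proj.toSpecZero 𝒜 ≫ Spec.map (CommRingCat.ofHom (algebraMap R (𝒜 0)))).appTop.hom
          ((Scheme.ΓSpecIso (CommRingCat.of R)).inv.hom c)) := by
  have h := toSpecZero_appTop_res 𝒜 f hf hm
  have h2 := congrArg (fun φ => φ.hom (algebraMap R (𝒜 0) c)) h
  simp only [CommRingCat.hom_comp, RingHom.coe_comp, Function.comp_apply,
    CommRingCat.hom_ofHom] at h2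
  refine h2.symm.trans ?_
  congr 1
  have h1 := Scheme.ΓSpecIso_inv_naturality
    (CommRingCat.ofHom (algebraMap R (𝒜 0)))
  have h3 := congrArg (fun φ => ((Proj.toSpecZero 𝒜).appTop).hom (φ.hom c)) h1
  simp only [CommRingCat.hom_comp, RingHom.coe_comp, Function.comp_apply,
    CommRingCat.hom_ofHom] at h3
  rw [h3]
  rfl

/-- **Uniqueness of morphisms to `Proj` of an algebra generated in degree one**: two morphisms
over the base whose pullbacks of `O(1)` are identified compatibly with the pullbacks of the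
generators coincide. -/
theorem proj_hom_ext_of_adjoin (s : Set A) (hs : Algebra.adjoin R s = ⊤) (hs1 : s ⊆ 𝒜 1)
    (r r' : X ⟶ Proj 𝒜)
    (hrr' : r ≫ Proj.toSpecZero 𝒜 ≫ Spec.map (CommRingCat.ofHom (algebraMap R (𝒜 0))) =
      r' ≫ Proj.toSpecZero 𝒜 ≫ Spec.map (CommRingCat.ofHom (algebraMap R (𝒜 0))))
    (τ : (Scheme.Modules.pullback r).obj (Twist.twist 𝒜 1) ≅
      (Scheme.Modules.pullback r').obj (Twist.twist 𝒜 1))
    (hτ : ∀ f (hf : f ∈ s), τ.hom.app ⊤ (pullSect r (Twist.twist 𝒜 1) ⊤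
        (oneSecOn 𝒜 ⟨f, hs1 hf⟩ ⊤)) =
      pullSect r' (Twist.twist 𝒜 1) ⊤ (oneSecOn 𝒜 ⟨f, hs1 hf⟩ ⊤)) : r = r' := by
  have hcov : ∀ x : Proj 𝒜, ∃ g : 𝒜 1, x ∈ Proj.basicOpen 𝒜 g.1 := by
    intro x
    obtain ⟨f, hf, hx⟩ := exists_mem_basicOpen_of_adjoin 𝒜 s hs hs1 x
    exact ⟨⟨f, hs1 hf⟩, hx⟩
  have hpre : ∀ f (hf : f ∈ s), r ⁻¹ᵁ Proj.basicOpen 𝒜 f = r' ⁻¹ᵁ Proj.basicOpen 𝒜 f :=
    fun f hf => preimage_basicOpen_eq_of_iso' 𝒜 hcov r r' τ ⟨f, hs1 hf⟩ (hτ f hf)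
  let W : s → X.Opens := fun i => r ⁻¹ᵁ Proj.basicOpen 𝒜 i.1
  have hW : IsOpenCover W := by
    rw [IsOpenCover, eq_top_iff]
    intro x _
    obtain ⟨f, hf, hx⟩ := exists_mem_basicOpen_of_adjoin 𝒜 s hs hs1 (r x)
    exact Opens.mem_iSup.mpr ⟨⟨f, hf⟩, hx⟩
  apply (X.openCoverOfIsOpenCover W hW).hom_ext
  refine fun (i : s) => ?_
  change (W i).ι ≫ r = (W i).ι ≫ r'
  obtain ⟨f, hf⟩ := i
  have hf1 : f ∈ 𝒜 1 := hs1 hf
  have hle : W ⟨f, hf⟩ ≤ r' ⁻¹ᵁ Proj.basicOpen 𝒜 f := (hpre f hf).le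
  -- the comparison of coefficients
  have key : ∀ l (hl : l ∈ s), τ.hom.app (W ⟨f, hf⟩) (pullSect r (Twist.twist 𝒜 1)
      (Proj.basicOpen 𝒜 f) (oneSecOn 𝒜 ⟨l, hs1 hl⟩ _)) =
      QCoh.res _ hle (pullSect r' (Twist.twist 𝒜 1) (Proj.basicOpen 𝒜 f)
      (oneSecOn 𝒜 ⟨l, hs1 hl⟩ _)) := by
    intro l hl
    rw [← res_oneSecOn 𝒜 ⟨l, hs1 hl⟩ (le_top : Proj.basicOpen 𝒜 f ≤ ⊤),
      pullSect_res, pullSect_res, app_res, res_res]
    exact congrArg _ (hτ l hl)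
  have hT : IsTriv _ (W ⟨f, hf⟩) (QCoh.res _ hle (pullSect r' (Twist.twist 𝒜 1)
      (Proj.basicOpen 𝒜 f) (oneSecOn 𝒜 ⟨f, hf1⟩ _))) :=
    ((isTriv_oneSecOn 𝒜 ⟨f, hf1⟩ _ le_rfl).pullSect r').restrict hle
  have hcoef : ∀ l (hl : l ∈ s), (r.app (Proj.basicOpen 𝒜 f)).hom
      ((Proj.awayToSection 𝒜 f).hom (Away.mk 𝒜 hf1 1 l (by rw [one_smul]; exact hs1 hl))) =
      rres X hle ((r'.app (Proj.basicOpen 𝒜 f)).hom
        ((Proj.awayToSection 𝒜 f).hom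
          (Away.mk 𝒜 hf1 1 l (by rw [one_smul]; exact hs1 hl)))) := by
    intro l hl
    apply hT.smul_left_cancel
    have h1 := key l hl
    rw [oneSecOn_eq_smul 𝒜 ⟨l, hs1 hl⟩ ⟨f, hf1⟩, pullSect_smul,
      pullSect_smul, Scheme.Modules.Hom.app_smul, key f hf, res_smul] at h1
    exact h1
  have hg : ((W ⟨f, hf⟩).ι ≫ r) ⁻¹ᵁ Proj.basicOpen 𝒜 f = ⊤ := by
    rw [Scheme.Hom.comp_preimage]
    exact Scheme.Opens.ι_preimage_self _
  have hg' : ((W ⟨f, hf⟩).ι ≫ r') ⁻¹ᵁ Proj.basicOpen 𝒜 f = ⊤ := by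
    rw [Scheme.Hom.comp_preimage, ← hpre f hf]
    exact Scheme.Opens.ι_preimage_self _
  apply hom_ext_of_appLE (Proj.isAffineOpen_basicOpen 𝒜 f hf1 one_pos) _ _ hg hg'
  rw [Scheme.Hom.comp_appLE, Scheme.Hom.comp_appLE, Scheme.Opens.ι_appLE, Scheme.Opens.ι_appLE]
  have hiso : IsIso (Proj.awayToSection 𝒜 f) :=
    (Proj.basicOpenIsoAway 𝒜 f hf1 one_pos).isIso_hom
  rw [← cancel_epi (Proj.awayToSection 𝒜 f)]
  apply CommRingCat.hom_ext
  apply away_ringHom_ext_of_adjoin 𝒜 s hs hs1 hf1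
  · intro c
    simp only [CommRingCat.hom_comp, RingHom.coe_comp, Function.comp_apply]
    rw [awayToSection_fromZero 𝒜 f hf1 one_pos]
    have hz : ∀ (ρ : X ⟶ Proj 𝒜) (V' : X.Opens)
        (hV' : V' ≤ ρ ⁻¹ᵁ Proj.basicOpen 𝒜 f),
        (X.presheaf.map (homOfLE hV').op).hom
          ((ρ.app (Proj.basicOpen 𝒜 f)).hom
            (((Proj 𝒜).presheaf.map (homOfLE (le_top : Proj.basicOpen 𝒜 f ≤ ⊤)).op).hom
              ((Proj.toSpecZero 𝒜 ≫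
                Spec.map (CommRingCat.ofHom (algebraMap R (𝒜 0)))).appTop.hom
                ((Scheme.ΓSpecIso (CommRingCat.of R)).inv.hom c)))) =
        (X.presheaf.map (homOfLE (le_top : V' ≤ ⊤)).op).hom
          ((ρ ≫ Proj.toSpecZero 𝒜 ≫
              Spec.map (CommRingCat.ofHom (algebraMap R (𝒜 0)))).appTop.hom
            ((Scheme.ΓSpecIso (CommRingCat.of R)).inv.hom c)) := by
      intro ρ V' hV'
      have hn := ρ.naturality (homOfLE (le_top : Proj.basicOpen 𝒜 f ≤ ⊤)).op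
      have hn2 := congrArg (fun k => k.hom ((Proj.toSpecZero 𝒜 ≫
        Spec.map (CommRingCat.ofHom (algebraMap R (𝒜 0)))).appTop.hom
        ((Scheme.ΓSpecIso (CommRingCat.of R)).inv.hom c))) hn
      simp only [CommRingCat.hom_comp, RingHom.coe_comp, Function.comp_apply] at hn2
      rw [hn2, Scheme.Hom.comp_appTop]
      exact map_map_apply X _ _ _
    refine (hz r _ _).trans (Eq.trans ?_ (hz r' _ _).symm)
    rw [hrr']
  · intro l hl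
    simp only [CommRingCat.hom_comp, RingHom.coe_comp, Function.comp_apply]
    rw [hcoef l hl]
    exact map_map_apply X _ _ _

end GenUnique

end Groth.Agent.Lib.Helper29.QCoh
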