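import Mathlib.LinearAlgebra.LinearIndependent.Lemmas
import Mathlib.LinearAlgebra.Basis.Basic
import Mathlib.LinearAlgebra.Basis.Submodule
import Mathlib.LinearAlgebra.Dual.Defs
import Mathlib.RingTheory.Finiteness.Basic
import Mathlib.Algebra.Module.Torsion.Free
import Mathlib.LinearAlgebra.FreeModule.Basic

/-! Finite modules over a domain: a free submodule containing a nonzero multiple of everything. -/

set_option autoImplicit false
universe u

namespace Groth.Agent.Lib.Helper29

open Module

/-- Key lemma: in a finite module over a domain there is a finite linearly independent family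
`e` and a nonzero scalar `c` with `c • M ⊆ span e`. -/
theorem exists_linearIndependent_smul_mem_span (R : Type u) [CommRing R] [IsDomain R]
    (M : Type u) [AddCommGroup M] [Module R M] [Module.Finite R M] :
    ∃ (ι : Type u) (_ : Fintype ι) (e : ι → M) (c : R), LinearIndependent R e ∧ c ≠ 0 ∧
      ∀ x : M, c • x ∈ Submodule.span R (Set.range e) := by
  classical
  obtain ⟨S, hS⟩ := (Module.finite_def (R := R) (M := M)).1 inferInstance
  obtain ⟨s, hs, hmax⟩ := exists_maximal_linearIndepOn R (fun i : S => (i : M))
  have ha : ∀ i : S, ∃ a : R, a ≠ 0 ∧ a • (i : M) ∈ Submodule.span R ((fun i : S => (i : M)) '' s) := by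
    intro i
    by_cases hi : i ∈ s
    · exact ⟨1, one_ne_zero, by rw [one_smul]; exact Submodule.subset_span ⟨i, hi, rfl⟩⟩
    · exact hmax i hi
  choose a ha0 ha using ha
  refine ⟨ULift.{u} s, inferInstance, fun i => ((i.down : S) : M), ∏ i : S, a i, ?_, ?_, ?_⟩
  · exact hs.comp _ (Equiv.ulift.injective)
  · exact Finset.prod_ne_zero_iff.2 fun i _ => ha0 i
  · have hrange : Set.range (fun i : ULift.{u} s => ((i.down : S) : M)) =
        (fun i : S => (i : M)) '' s := by
      ext x
      constructor
      · rintro ⟨i, rfl⟩
        exact ⟨i.down, i.down.2, rfl⟩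
      · rintro ⟨i, hi, rfl⟩
        exact ⟨⟨⟨i, hi⟩⟩, rfl⟩
    rw [hrange]
    intro x
    have hx : x ∈ Submodule.span R (S : Set M) := by rw [hS]; trivial
    induction hx using Submodule.span_induction with
    | mem y hy =>
      have := ha ⟨y, hy⟩
      rw [← Finset.mul_prod_erase Finset.univ a (Finset.mem_univ (⟨y, hy⟩ : S)), mul_comm, mul_smul]
      exact Submodule.smul_mem _ _ this
    | zero => simp
    | add y z _ _ hy hz => rw [smul_add]; exact Submodule.add_mem _ hy hz
    | smul r y _ hy => rw [smul_comm]; exact Submodule.smul_mem _ _ hy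


section coord

variable {R : Type u} [CommRing R] {M : Type u} [AddCommGroup M] [Module R M]
  {ι : Type u} [Fintype ι] {e : ι → M} (hli : LinearIndependent R e) {c : R}
  (hc : ∀ x : M, c • x ∈ Submodule.span R (Set.range e))

/-- The coordinates of `c • x` with respect to the independent family `e`. -/
noncomputable def coordMap : M →ₗ[R] (ι → R) :=
  (Finsupp.linearEquivFunOnFinite R R ι).toLinearMap ∘ₗ hli.repr ∘ₗ
    (LinearMap.codRestrict (Submodule.span R (Set.range e)) (c • LinearMap.id) hc)

theorem sum_coordMap_smul (x : M) : ∑ i, coordMap hli hc x i • e i = c • x := by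
  have h := hli.linearCombination_repr ⟨c • x, hc x⟩
  rw [Finsupp.linearCombination_apply, Finsupp.sum_fintype _ _ (by simp)] at h
  have h2 : (LinearMap.codRestrict (Submodule.span R (Set.range e)) (c • LinearMap.id) hc) x =
      ⟨c • x, hc x⟩ := rfl
  simpa [coordMap, h2] using h

theorem coordMap_eq_zero_iff (x : M) : coordMap hli hc x = 0 ↔ c • x = 0 := by
  constructor
  · intro h
    rw [← sum_coordMap_smul hli hc x, h]
    simp
  · intro h
    have h0 : (⟨c • x, hc x⟩ : Submodule.span R (Set.range e)) = 0 := by
      ext; exact h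
    have h2 : (LinearMap.codRestrict (Submodule.span R (Set.range e)) (c • LinearMap.id) hc) x =
        ⟨c • x, hc x⟩ := rfl
    simp [coordMap, h2, h0]

end coord

end Groth.Agent.Lib.Helper29
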