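import Groth.Agent.Lib.Helper29.UPt1
import Groth.Agent.Lib.Helper29.GModOps1

/-! Right-invariant functions are stable under left translation (helper29, for S11207). -/

set_option autoImplicit false
universe u
open CategoryTheory MonoidalCategory CartesianMonoidalCategory MonObj AlgebraicGeometry Opposite
open TensorProduct

namespace Groth.Agent.Lib.Helper29.RegRep

open Groth.Agent.Lib.Helper29.AffAttr Groth.Agent.Lib.Helper29.RTrans VecGrp
open Groth.Agent.Lib.Helper29.GModOps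

variable {k : Type u} [Field k]

attribute [local instance] algk

section SAlg

variable {G H : Over (Spec (CommRingCat.of k))} [GrpObj G] [GrpObj H] (i : H ⟶ G)

/-- right-translation-invariant functions as a `k`-subalgebra. -/
noncomputable def rInvAlg : Subalgebra k Γ(G.left, ⊤) :=
  AlgHom.equalizer (appK ((G ◁ i) ≫ μ[G])) (appK (CartesianMonoidalCategory.fst G H))

theorem mem_rInvAlg_iff (f : Γ(G.left, ⊤)) : f ∈ rInvAlg i ↔ f ∈ AGF.rTransInv i := Iff.rfl

/-- the difference of the two pullbacks. -/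
noncomputable def Dmap : Γ(G.left, ⊤) →ₗ[k] Γ((G ⊗ H).left, ⊤) :=
  (appK ((G ◁ i) ≫ μ[G])).toLinearMap - (appK (CartesianMonoidalCategory.fst G H)).toLinearMap

theorem Dmap_apply (f : Γ(G.left, ⊤)) :
    Dmap i f = appK ((G ◁ i) ≫ μ[G]) f - appK (CartesianMonoidalCategory.fst G H) f := rfl

theorem exact_rInv : Function.Exact (rInvAlg i).val.toLinearMap (Dmap i) := by
  intro y
  constructor
  · intro hy
    have hy' : y ∈ rInvAlg i := sub_eq_zero.mp hy
    exact ⟨⟨y, hy'⟩, rfl⟩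
  · rintro ⟨s, rfl⟩
    exact sub_eq_zero.mpr s.2

theorem evK_mul_of_mem (f : Γ(G.left, ⊤)) (hf : f ∈ rInvAlg i) {B : Type u} [CommRing B]
    [Algebra k B] (x : VecGrp.pt k B ⟶ G) (h : VecGrp.pt k B ⟶ H) :
    evK (x * (h ≫ i)) f = evK x f := by
  have e : x * (h ≫ i) = lift x h ≫ ((G ◁ i) ≫ μ[G]) := by
    rw [Groth.Agent.Lib.Helper29.QDesc.rmul_eq, MonObj.comp_mul, lift_fst, lift_snd_assoc]
  have hf' : appK ((G ◁ i) ≫ μ[G]) f = appK (CartesianMonoidalCategory.fst G H) f := hf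
  rw [e, evK_comp, hf', ← evK_comp, lift_fst]

variable [IsAffine G.left] [IsAffine H.left]

theorem lreg_stable (B : Type u) [CommRing B] [Algebra k B] (g : VecGrp.pt k B ⟶ G)
    (s : rInvAlg i) :
    (lreg G).ρ B g ((1 : B) ⊗ₜ[k] (rInvAlg i).val.toLinearMap s) ∈
      LinearMap.range (incl (rInvAlg i).val.toLinearMap B) := by
  haveI : IsAffine (G ⊗ H).left := inferInstanceAs (IsAffine (Limits.pullback G.hom H.hom))
  have hex := Module.Flat.lTensor_exact B (exact_rInv i)
  have h0 : (Dmap i).lTensor B ((lreg G).ρ B g ((1 : B) ⊗ₜ[k] (rInvAlg i).val.toLinearMap s)) = 0 := by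
    rw [lreg_apply, Dmap, LinearMap.lTensor_sub, LinearMap.sub_apply, sub_eq_zero]
    apply θ_injective (G := G ⊗ H) B
    have hb : ∀ (φ : G ⊗ H ⟶ G) (z : B ⊗[k] Γ(G.left, ⊤)),
        (appK φ).toLinearMap.lTensor B z = (appK φ).toLinearMap.baseChange B z := fun φ z => rfl
    rw [hb, hb, θ_lTensor, θ_lTensor, θ_rhoL, θ_one_tmul, ← appK_comp, ← appK_comp, ← appK_comp,
      ← appK_comp]
    have hs : appK ((G ◁ i) ≫ μ[G]) (s : Γ(G.left, ⊤)) =
        appK (CartesianMonoidalCategory.fst G H) (s : Γ(G.left, ⊤)) := s.2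
    have e1 : ((VecGrp.pt k B ◁ ((G ◁ i) ≫ μ[G])) ≫ τL g) ≫
        CartesianMonoidalCategory.snd (VecGrp.pt k B) G =
        lift ((CartesianMonoidalCategory.fst (VecGrp.pt k B) (G ⊗ H) ≫ g)⁻¹ *
          (CartesianMonoidalCategory.snd (VecGrp.pt k B) (G ⊗ H) ≫
            CartesianMonoidalCategory.fst G H))
          (CartesianMonoidalCategory.snd (VecGrp.pt k B) (G ⊗ H) ≫
            CartesianMonoidalCategory.snd G H) ≫ ((G ◁ i) ≫ μ[G]) := by
      rw [Category.assoc, τL_snd, MonObj.comp_mul, comp_inv', whiskerLeft_fst_assoc,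
        whiskerLeft_snd, Groth.Agent.Lib.Helper29.QDesc.rmul_eq, MonObj.comp_mul, MonObj.comp_mul,
        lift_fst, lift_snd_assoc, _root_.mul_assoc, Category.assoc]
    have e2 : ((VecGrp.pt k B ◁ CartesianMonoidalCategory.fst G H) ≫ τL g) ≫
        CartesianMonoidalCategory.snd (VecGrp.pt k B) G =
        (CartesianMonoidalCategory.fst (VecGrp.pt k B) (G ⊗ H) ≫ g)⁻¹ *
          (CartesianMonoidalCategory.snd (VecGrp.pt k B) (G ⊗ H) ≫
            CartesianMonoidalCategory.fst G H) := by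
      rw [Category.assoc, τL_snd, MonObj.comp_mul, comp_inv', whiskerLeft_fst_assoc,
        whiskerLeft_snd]
    change appK (((VecGrp.pt k B ◁ ((G ◁ i) ≫ μ[G])) ≫ τL g) ≫
        CartesianMonoidalCategory.snd (VecGrp.pt k B) G) (s : Γ(G.left, ⊤)) =
      appK (((VecGrp.pt k B ◁ CartesianMonoidalCategory.fst G H) ≫ τL g) ≫
        CartesianMonoidalCategory.snd (VecGrp.pt k B) G) (s : Γ(G.left, ⊤))
    rw [e1, e2, appK_comp, hs, ← appK_comp, lift_fst]
  obtain ⟨y, hy⟩ := (hex _).mp h0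
  exact ⟨y, hy⟩

end SAlg

end Groth.Agent.Lib.Helper29.RegRep
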