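import Groth.Agent.Lib.Helper29.TransP1
import Groth.Agent.Lib.Helper29.GModOps2

/-! The coaction element and its invariance (helper29, for S11207). -/

set_option autoImplicit false
universe u
open CategoryTheory MonoidalCategory CartesianMonoidalCategory MonObj AlgebraicGeometry Opposite
open TensorProduct

namespace Groth.Agent.Lib.Helper29.RegRep

open Groth.Agent.Lib.Helper29.AffAttr Groth.Agent.Lib.Helper29.RTrans VecGrp
open Groth.Agent.Lib.Helper29.GModOps

variable {k : Type u} [Field k]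

attribute [local instance] algk

section EV2

variable {G : Over (Spec (CommRingCat.of k))}
  (A : Type u) [AddCommGroup A] [Module k A]
  {B B' : Type u} [CommRing B] [Algebra k B] [CommRing B'] [Algebra k B']

/-- evaluation of `B ⊗ (Γ(G) ⊗ A)` at a point of `Spec B × G`. -/
noncomputable def EV2 (φ : B →ₐ[k] B') (x : VecGrp.pt k B' ⟶ G) :
    B ⊗[k] (Γ(G.left, ⊤) ⊗[k] A) →ₗ[k] B' ⊗[k] A :=
  (evT φ x).toLinearMap.rTensor A ∘ₗ (TensorProduct.assoc k B Γ(G.left, ⊤) A).symm.toLinearMap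

theorem EV2_tmul (φ : B →ₐ[k] B') (x : VecGrp.pt k B' ⟶ G) (b : B) (f : Γ(G.left, ⊤)) (a : A) :
    EV2 A φ x (b ⊗ₜ[k] (f ⊗ₜ[k] a)) = (φ b * evK x f) ⊗ₜ[k] a := by
  change (evT φ x).toLinearMap.rTensor A ((TensorProduct.assoc k B Γ(G.left, ⊤) A).symm
    (b ⊗ₜ[k] (f ⊗ₜ[k] a))) = _
  rw [TensorProduct.assoc_symm_tmul, LinearMap.rTensor_tmul, AlgHom.toLinearMap_apply, evT_tmul]

theorem EV2_dBsymm (φ : B →ₐ[k] B') (x : VecGrp.pt k B' ⟶ G) (z : B ⊗[k] Γ(G.left, ⊤))
    (w : B ⊗[k] A) :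
    EV2 A φ x ((dB (M₁ := Γ(G.left, ⊤)) (M₂ := A) B).symm (z ⊗ₜ[B] w)) =
      evT φ x z • Wmap (M := A) φ w := by
  induction z using TensorProduct.induction_on with
  | zero => simp
  | tmul b f =>
    induction w using TensorProduct.induction_on with
    | zero => simp
    | tmul b' a =>
      rw [TensorProduct.AlgebraTensorModule.distribBaseChange_symm_tmul, EV2_tmul, evT_tmul,
        Wmap_tmul, TensorProduct.smul_tmul', smul_eq_mul, map_mul]
      congr 1
      ring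
    | add w w' hw hw' =>
      rw [TensorProduct.tmul_add, map_add, map_add, hw, hw', map_add, smul_add]
  | add z z' hz hz' =>
    rw [TensorProduct.add_tmul, map_add, map_add, hz, hz', map_add, add_smul]

theorem EV2_one_tmul (φ : B →ₐ[k] B') (x : VecGrp.pt k B' ⟶ G) (c : Γ(G.left, ⊤) ⊗[k] A) :
    EV2 A φ x ((1 : B) ⊗ₜ[k] c) = Wmap (M := A) (evK x) c := by
  induction c using TensorProduct.induction_on with
  | zero => simp
  | tmul f a => rw [EV2_tmul, map_one, _root_.one_mul, Wmap_tmul]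
  | add c c' hc hc' => rw [TensorProduct.tmul_add, map_add, map_add, hc, hc']

end EV2

section Coact

variable {G : Over (Spec (CommRingCat.of k))} [GrpObj G] [IsAffine G.left]
  {A : Type u} [AddCommGroup A] [Module k A] (ρ : VecGrp.GMod G A)
  {B B' : Type u} [CommRing B] [Algebra k B] [CommRing B'] [Algebra k B']

theorem EV2_tensor (φ : B →ₐ[k] B') (x : VecGrp.pt k B' ⟶ G) (g : VecGrp.pt k B ⟶ G)
    (c : Γ(G.left, ⊤) ⊗[k] A) :
    EV2 A φ x ((tensor (lreg G) ρ).ρ B g ((1 : B) ⊗ₜ[k] c)) =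
      ρ.ρ B' (ptMap φ ≫ g) (Wmap (M := A) (evK ((ptMap φ ≫ g)⁻¹ * x)) c) := by
  induction c using TensorProduct.induction_on with
  | zero => simp
  | tmul f a =>
    rw [tensor_one_tmul, EV2_dBsymm, lreg_apply, evT_rhoL, evT_tmul, map_one, _root_.one_mul,
      ρ.naturality, Wmap_tmul, map_one, Wmap_tmul]
    have e : (evK ((ptMap φ ≫ g)⁻¹ * x) f) ⊗ₜ[k] a =
        (evK ((ptMap φ ≫ g)⁻¹ * x) f) • ((1 : B') ⊗ₜ[k] a) := by
      rw [TensorProduct.smul_tmul', smul_eq_mul, _root_.mul_one]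
    rw [e, map_smul]
  | add c c' hc hc' =>
    rw [TensorProduct.tmul_add, map_add, map_add, hc, hc', map_add, map_add]

/-- the coaction element `a ↦ (x ↦ x · a)`. -/
noncomputable def coact (a : A) : Γ(G.left, ⊤) ⊗[k] A :=
  ρ.ρ Γ(G.left, ⊤) (upt G) ((1 : Γ(G.left, ⊤)) ⊗ₜ[k] a)

theorem Wmap_coact (g : VecGrp.pt k B ⟶ G) (a : A) :
    Wmap (M := A) (evK g) (coact ρ a) = ρ.ρ B g ((1 : B) ⊗ₜ[k] a) :=
  (rho_eq_Wmap_coact ρ g a).symm

theorem evT_univ (z : B ⊗[k] Γ(G.left, ⊤)) :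
    evT (Algebra.TensorProduct.includeLeft : B →ₐ[k] B ⊗[k] Γ(G.left, ⊤))
      (ptMap (Algebra.TensorProduct.includeRight : Γ(G.left, ⊤) →ₐ[k] B ⊗[k] Γ(G.left, ⊤)) ≫
        upt G) z = z := by
  induction z using TensorProduct.induction_on with
  | zero => simp
  | tmul b f =>
    rw [evT_tmul, evK_ptMap, evK_upt, Algebra.TensorProduct.includeLeft_apply,
      Algebra.TensorProduct.includeRight_apply, Algebra.TensorProduct.tmul_mul_tmul,
      _root_.mul_one, _root_.one_mul]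
  | add z z' hz hz' => rw [map_add, hz, hz']

theorem EV2_univ_injective :
    Function.Injective (EV2 A
      (Algebra.TensorProduct.includeLeft : B →ₐ[k] B ⊗[k] Γ(G.left, ⊤))
      (ptMap (Algebra.TensorProduct.includeRight : Γ(G.left, ⊤) →ₐ[k] B ⊗[k] Γ(G.left, ⊤)) ≫
        upt G)) := by
  have h : (evT (Algebra.TensorProduct.includeLeft : B →ₐ[k] B ⊗[k] Γ(G.left, ⊤))
      (ptMap (Algebra.TensorProduct.includeRight : Γ(G.left, ⊤) →ₐ[k] B ⊗[k] Γ(G.left, ⊤)) ≫
        upt G)).toLinearMap = LinearMap.id := by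
    apply LinearMap.ext
    intro z
    exact evT_univ z
  unfold EV2
  rw [h, LinearMap.rTensor_id]
  exact (TensorProduct.assoc k B Γ(G.left, ⊤) A).symm.injective

/-- the coaction element is invariant under left translation tensor the action. -/
theorem coact_invariant (a : A) (g : VecGrp.pt k B ⟶ G) :
    (tensor (lreg G) ρ).ρ B g ((1 : B) ⊗ₜ[k] coact ρ a) = (1 : B) ⊗ₜ[k] coact ρ a := by
  apply EV2_univ_injective (A := A) (B := B) (G := G)
  rw [EV2_tensor, EV2_one_tmul, Wmap_coact, Wmap_coact]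
  have h := map_mul (ρ.ρ (B ⊗[k] Γ(G.left, ⊤)))
    (ptMap (Algebra.TensorProduct.includeLeft : B →ₐ[k] B ⊗[k] Γ(G.left, ⊤)) ≫ g)
    ((ptMap (Algebra.TensorProduct.includeLeft : B →ₐ[k] B ⊗[k] Γ(G.left, ⊤)) ≫ g)⁻¹ *
      (ptMap (Algebra.TensorProduct.includeRight : Γ(G.left, ⊤) →ₐ[k] B ⊗[k] Γ(G.left, ⊤)) ≫
        upt G))
  rw [mul_inv_cancel_left] at h
  rw [h]
  rfl

end Coact

end Groth.Agent.Lib.Helper29.RegRep
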