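import Groth.Agent.Lib.Helper29.TransP2

/-! The transfer principle `A^H = (k[G]^H ⊗ A)^G` (helper29, for S11207). -/

set_option autoImplicit false
universe u
open CategoryTheory MonoidalCategory CartesianMonoidalCategory MonObj AlgebraicGeometry Opposite
open TensorProduct

namespace Groth.Agent.Lib.Helper29.RegRep

open Groth.Agent.Lib.Helper29.AffAttr Groth.Agent.Lib.Helper29.RTrans VecGrp
open Groth.Agent.Lib.Helper29.GModOps

variable {k : Type u} [Field k]

attribute [local instance] algk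

section Nat

theorem ptMap_appK_upt {P Q : Over (Spec (CommRingCat.of k))} [IsAffine P.left] [IsAffine Q.left]
    (φ : Q ⟶ P) : ptMap (appK φ) ≫ upt P = upt Q ≫ φ := by
  apply pt_hom_ext
  intro f
  rw [evK_ptMap, evK_upt, evK_comp, evK_upt]

theorem ptMap_id_comp {P : Over (Spec (CommRingCat.of k))} [IsAffine P.left]
    {B : Type u} [CommRing B] [Algebra k B] (g : VecGrp.pt k B ⟶ P) :
    ptMap (AlgHom.id k B) ≫ g = g := by
  apply pt_hom_ext
  intro f
  rw [evK_ptMap]
  rfl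

/-- evaluation at the identity. -/
noncomputable def evOne (G : Over (Spec (CommRingCat.of k))) [GrpObj G] : Γ(G.left, ⊤) →ₐ[k] k :=
  evK (1 : VecGrp.pt k k ⟶ G)

theorem evK_one {G : Over (Spec (CommRingCat.of k))} [GrpObj G] (B : Type u) [CommRing B]
    [Algebra k B] (f : Γ(G.left, ⊤)) :
    evK (1 : VecGrp.pt k B ⟶ G) f = algebraMap k B (evOne G f) := by
  have e : (1 : VecGrp.pt k B ⟶ G) = ptMap (Algebra.ofId k B) ≫ (1 : VecGrp.pt k k ⟶ G) :=
    (MonObj.comp_one _).symm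
  rw [e, evK_ptMap]
  rfl

end Nat

section Main

variable {G H : Over (Spec (CommRingCat.of k))} [GrpObj G] [GrpObj H] [IsAffine G.left]
  [IsAffine H.left] (i : H ⟶ G)
  {A : Type u} [CommRing A] [Algebra k A] (ρ : VecGrp.GMod G A)

/-- the inclusion of the right-invariant functions. -/
noncomputable abbrev incS : rInvAlg i →ₗ[k] Γ(G.left, ⊤) := (rInvAlg i).val.toLinearMap

theorem incS_injective : Function.Injective (incS i) := Subtype.val_injective

/-- left translation on the right-invariant functions. -/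
noncomputable def ρS : VecGrp.GMod G (rInvAlg i) :=
  restrict (lreg G) (incS i) (incS_injective i) (lreg_stable i)

theorem ρS_isMult : (ρS i).IsMult :=
  restrict_isMult (lreg G) (rInvAlg i).val (incS_injective i) (lreg_stable i) (lreg_isMult G)

/-- the diagonal action on `k[G]^H ⊗ A`. -/
noncomputable def ρC : VecGrp.GMod G ((rInvAlg i) ⊗[k] A) := tensor (ρS i) ρ

theorem ρC_isMult (hρ : ρ.IsMult) : (ρC i ρ).IsMult := tensor_isMult (ρS i) ρ (ρS_isMult i) hρ

/-- the inclusion `k[G]^H ⊗ A → k[G] ⊗ A`. -/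
noncomputable abbrev rT : (rInvAlg i) ⊗[k] A →ₗ[k] Γ(G.left, ⊤) ⊗[k] A := (incS i).rTensor A

theorem rT_injective : Function.Injective (rT (A := A) i) :=
  Module.Flat.rTensor_preserves_injective_linearMap (incS i) (incS_injective i)

theorem ρC_compat (B : Type u) [CommRing B] [Algebra k B] (g : VecGrp.pt k B ⟶ G)
    (z : B ⊗[k] ((rInvAlg i) ⊗[k] A)) :
    (rT i).baseChange B ((ρC i ρ).ρ B g z) =
      (tensor (lreg G) ρ).ρ B g ((rT i).baseChange B z) :=
  tensor_restrict_compat (lreg G) ρ (incS i) (incS_injective i) (lreg_stable i) B g z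

/-- evaluation at the identity: `k[G]^H ⊗ A → A`. -/
noncomputable def epsA : (rInvAlg i) ⊗[k] A →ₐ[k] A :=
  Algebra.TensorProduct.lift ((Algebra.ofId k A).comp ((evOne G).comp (rInvAlg i).val))
    (AlgHom.id k A) (fun _ _ => Commute.all _ _)

theorem epsA_tmul (s : rInvAlg i) (a : A) :
    epsA i (s ⊗ₜ[k] a) = algebraMap k A (evOne G (s : Γ(G.left, ⊤))) * a := by
  simp [epsA, Algebra.ofId_apply]

theorem Wmap_evK_one (B : Type u) [CommRing B] [Algebra k B] (F : (rInvAlg i) ⊗[k] A) :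
    Wmap (M := A) (evK (1 : VecGrp.pt k B ⟶ G)) (rT i F) = (1 : B) ⊗ₜ[k] epsA i F := by
  induction F using TensorProduct.induction_on with
  | zero => simp
  | tmul s a =>
    rw [LinearMap.rTensor_tmul, Wmap_tmul, epsA_tmul, AlgHom.toLinearMap_apply,
      Subalgebra.val_apply, evK_one, Algebra.algebraMap_eq_smul_one, TensorProduct.smul_tmul,
      Algebra.smul_def]
  | add F F' hF hF' => rw [map_add, map_add, hF, hF', map_add, TensorProduct.tmul_add]

theorem Wmap_evK_of_H (B : Type u) [CommRing B] [Algebra k B] (h : VecGrp.pt k B ⟶ H)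
    (F : (rInvAlg i) ⊗[k] A) :
    Wmap (M := A) (evK (h ≫ i)) (rT i F) = Wmap (M := A) (evK (1 : VecGrp.pt k B ⟶ G)) (rT i F) := by
  induction F using TensorProduct.induction_on with
  | zero => simp
  | tmul s a =>
    rw [LinearMap.rTensor_tmul, Wmap_tmul, Wmap_tmul, AlgHom.toLinearMap_apply,
      Subalgebra.val_apply]
    have h1 := evK_mul_of_mem i (s : Γ(G.left, ⊤)) s.2 (1 : VecGrp.pt k B ⟶ G) h
    rw [_root_.one_mul] at h1
    rw [h1]
  | add F F' hF hF' => simp only [map_add, hF, hF']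

/-- invariants of the diagonal action evaluate to `H`-invariants. -/
theorem epsA_fixed (F : (rInvAlg i) ⊗[k] A) (hF : F ∈ (ρC i ρ).fixedUnder (𝟙 G))
    (B : Type u) [CommRing B] [Algebra k B] (h : VecGrp.pt k B ⟶ H) :
    ρ.ρ B (h ≫ i) ((1 : B) ⊗ₜ[k] epsA i F) = (1 : B) ⊗ₜ[k] epsA i F := by
  have h1 := hF B (h ≫ i)
  rw [Category.comp_id] at h1
  have h2 := congrArg ((rT i).baseChange B) h1
  rw [ρC_compat, LinearMap.baseChange_tmul] at h2
  have h3 := congrArg (EV2 A (AlgHom.id k B) (h ≫ i)) h2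
  rw [EV2_tensor, EV2_one_tmul, ptMap_id_comp, inv_mul_cancel, Wmap_evK_one, Wmap_evK_of_H,
    Wmap_evK_one] at h3
  exact h3

theorem coact_mem (a : A)
    (ha : ∀ (B : Type u) [CommRing B] [Algebra k B] (h : VecGrp.pt k B ⟶ H),
      ρ.ρ B (h ≫ i) ((1 : B) ⊗ₜ[k] a) = (1 : B) ⊗ₜ[k] a) :
    ∃ F : (rInvAlg i) ⊗[k] A, rT i F = coact ρ a := by
  haveI : IsAffine (G ⊗ H).left := inferInstanceAs (IsAffine (Limits.pullback G.hom H.hom))
  have hex := Module.Flat.rTensor_exact A (exact_rInv i)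
  have h0 : (Dmap i).rTensor A (coact ρ a) = 0 := by
    rw [Dmap, LinearMap.rTensor_sub, LinearMap.sub_apply, sub_eq_zero]
    change Wmap (M := A) (appK ((G ◁ i) ≫ μ[G])) (coact ρ a) =
      Wmap (M := A) (appK (CartesianMonoidalCategory.fst G H)) (coact ρ a)
    have n1 := ρ.naturality (appK ((G ◁ i) ≫ μ[G])) (upt G) ((1 : Γ(G.left, ⊤)) ⊗ₜ[k] a)
    have n2 := ρ.naturality (appK (CartesianMonoidalCategory.fst G H)) (upt G)
      ((1 : Γ(G.left, ⊤)) ⊗ₜ[k] a)
    rw [Wmap_tmul, map_one, ptMap_appK_upt] at n1 n2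
    have e : upt (G ⊗ H) ≫ ((G ◁ i) ≫ μ[G]) =
        (upt (G ⊗ H) ≫ CartesianMonoidalCategory.fst G H) *
          ((upt (G ⊗ H) ≫ CartesianMonoidalCategory.snd G H) ≫ i) := by
      rw [Groth.Agent.Lib.Helper29.QDesc.rmul_eq, MonObj.comp_mul, Category.assoc]
    rw [e, map_mul, LinearEquiv.mul_apply, ha] at n1
    exact n1.trans n2.symm
  obtain ⟨y, hy⟩ := (hex _).mp h0
  exact ⟨y, hy⟩

/-- every `H`-invariant is the value at the identity of an invariant of the diagonal action. -/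
theorem exists_fixed (a : A)
    (ha : ∀ (B : Type u) [CommRing B] [Algebra k B] (h : VecGrp.pt k B ⟶ H),
      ρ.ρ B (h ≫ i) ((1 : B) ⊗ₜ[k] a) = (1 : B) ⊗ₜ[k] a) :
    ∃ F : (rInvAlg i) ⊗[k] A, F ∈ (ρC i ρ).fixedUnder (𝟙 G) ∧ epsA i F = a := by
  obtain ⟨F, hF⟩ := coact_mem i ρ a ha
  refine ⟨F, ?_, ?_⟩
  · intro B _ _ g
    rw [Category.comp_id]
    apply incl_injective (rT (A := A) i) (rT_injective i) B
    change (rT i).baseChange B _ = (rT i).baseChange B _
    rw [ρC_compat, LinearMap.baseChange_tmul, hF, coact_invariant]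
  · have h1 := Wmap_evK_one (A := A) i k F
    rw [hF, Wmap_coact, map_one] at h1
    change (1 : k) ⊗ₜ[k] a = _ at h1
    have h2 := congrArg (TensorProduct.lid k A) h1
    rw [TensorProduct.lid_tmul, TensorProduct.lid_tmul, one_smul, one_smul] at h2
    exact h2.symm

/-- **the transfer principle**: finite generation passes from `k[G]^H` to `A^H`. -/
theorem finiteType_fixed [Algebra.FiniteType k A] (hρ : ρ.IsMult)
    (hS : Algebra.FiniteType k (rInvAlg i))
    (hG : VecGrp.IsReductiveGrp k G) (thmA : VecGrp.ReductiveInvariantsFG k) :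
    Algebra.FiniteType k ↥(ρ.fixedSubalgebra hρ i) := by
  haveI : Algebra.FiniteType k ((rInvAlg i) ⊗[k] A) :=
    Algebra.FiniteType.trans hS (inferInstance : Algebra.FiniteType (rInvAlg i) ((rInvAlg i) ⊗[k] A))
  obtain ⟨s, hs1, hs2⟩ := thmA G hG ((rInvAlg i) ⊗[k] A) (ρC i ρ) (ρC_isMult i ρ hρ) inferInstance
  rw [← Subalgebra.fg_iff_finiteType]
  have hle : Algebra.adjoin k (↑s : Set ((rInvAlg i) ⊗[k] A)) ≤
      (ρC i ρ).fixedSubalgebra (ρC_isMult i ρ hρ) (𝟙 G) := Algebra.adjoin_le hs1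
  have e : ρ.fixedSubalgebra hρ i = (Algebra.adjoin k (↑s : Set ((rInvAlg i) ⊗[k] A))).map (epsA i) := by
    apply le_antisymm
    · intro a ha
      obtain ⟨F, hF1, hF2⟩ := exists_fixed i ρ a ha
      exact ⟨F, hs2 hF1, hF2⟩
    · rintro a ⟨F, hF, rfl⟩
      exact epsA_fixed i ρ F (hle hF)
  rw [e]
  exact (Subalgebra.fg_adjoin_finset s).map (epsA i)

end Main

end Groth.Agent.Lib.Helper29.RegRep
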