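import Groth.Agent.Lib.Helper29.Twist4
universe u
open CategoryTheory CategoryTheory.Limits AlgebraicGeometry Opposite TopologicalSpace DirectSum

/-! # Sections of `O(d)` over `D_+(f)` as global fractions; zero criterion -/

namespace Groth.Agent.Lib.Helper29.QCoh

section TwistZero
variable {R A : Type u} [CommRing R] [CommRing A] [Algebra R A] {𝒜 : ℕ → Submodule R A} [GradedAlgebra 𝒜]

/-- The annihilator of an element, as an ideal. -/
def annIdeal (c : A) : Ideal A where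
  carrier := {a | a * c = 0}
  zero_mem' := zero_mul c
  add_mem' := by
    intro a b ha hb
    change (a + b) * c = 0
    rw [add_mul, ha, hb, add_zero]
  smul_mem' := by
    intro r a ha
    change r * a * c = 0
    rw [mul_assoc, ha, mul_zero]

theorem mem_annIdeal (c a : A) : a ∈ annIdeal c ↔ a * c = 0 := Iff.rfl

theorem annIdeal_isHomogeneous {k : ℕ} (c : 𝒜 k) : (annIdeal c.1).IsHomogeneous 𝒜 := by
  intro i a ha
  rw [mem_annIdeal] at ha ⊢
  have := DirectSum.coe_decompose_mul_add_of_right_mem 𝒜 (a := a) (b := c.1) (i := i) c.2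
  rw [← this, ha, DirectSum.decompose_zero]
  rfl

/-- **Zero criterion**: if a homogeneous `c` vanishes in all the localizations at points of
`D_+(f)` (`f` homogeneous of positive degree), a power of `f` kills `c`. -/
theorem exists_pow_mul_eq_zero_of_forall_mk_eq_zero {k : ℕ} (c : 𝒜 k) {m : ℕ} (hm : 0 < m)
    (f : 𝒜 m)
    (h : ∀ x : Proj 𝒜, x ∈ Proj.basicOpen 𝒜 f.1 →
      (Localization.mk c.1 ⟨1, one_not_mem x⟩ : Twist.Loc 𝒜 x) = 0) :
    ∃ N : ℕ, f.1 ^ N * c.1 = 0 := by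
  have hhom := annIdeal_isHomogeneous c
  suffices hf : f.1 ∈ (annIdeal c.1).radical by
    obtain ⟨N, hN⟩ := hf
    exact ⟨N, hN⟩
  rw [hhom.radical_eq]
  by_contra hcon
  rw [Ideal.mem_sInf] at hcon
  push Not at hcon
  obtain ⟨J, ⟨hJhom, hIJ, hJprime⟩, hfJ⟩ := hcon
  have hirr : ¬ HomogeneousIdeal.irrelevant 𝒜 ≤ (⟨J, hJhom⟩ : HomogeneousIdeal 𝒜) := by
    intro hle
    apply hfJ
    have hfirr : f.1 ∈ HomogeneousIdeal.irrelevant 𝒜 := by
      rw [HomogeneousIdeal.mem_irrelevant_iff, GradedRing.proj_apply,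
        DirectSum.decompose_of_mem_ne 𝒜 f.2 hm.ne']
    exact hle hfirr
  let x : ProjectiveSpectrum 𝒜 := ⟨⟨J, hJhom⟩, hJprime, hirr⟩
  have hx : x ∈ Proj.basicOpen 𝒜 f.1 := hfJ
  have h0 := h x hx
  rw [Localization.mk_eq_mk'_apply, IsLocalization.mk'_eq_zero_iff] at h0
  obtain ⟨s, hs⟩ := h0
  exact s.2 (hIJ hs)

end TwistZero

section TwistSections
variable {R A : Type u} [CommRing R] [CommRing A] [Algebra R A] {𝒜 : ℕ → Submodule R A} [GradedAlgebra 𝒜]

/-- Every function on `D_+(f)` (`deg f > 0`) is a global fraction `a / f^j`. -/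
theorem exists_ofun_eq_mk {m : ℕ} (hm : 0 < m) (f : 𝒜 m)
    (r : Γ(Proj 𝒜, Proj.basicOpen 𝒜 f.1)) :
    ∃ (i : ℕ) (a : 𝒜 i) (j : ℕ) (_ : f.1 ^ j ∈ 𝒜 i), ∀ x : Proj.basicOpen 𝒜 f.1,
      ofun 𝒜 r x = Localization.mk a.1 ⟨f.1 ^ j, pow_not_mem_of_not_mem x.2 j⟩ := by
  have hbij : Function.Bijective (Proj.awayToSection 𝒜 f.1).hom :=
    ConcreteCategory.bijective_of_isIso (Proj.basicOpenIsoAway 𝒜 f.1 f.2 hm).hom
  obtain ⟨s, rfl⟩ := hbij.2 r
  obtain ⟨⟨i, a, b, hb⟩, rfl⟩ := HomogeneousLocalization.mk_surjective s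
  have hb' : ∃ j, f.1 ^ j = b.1 := hb
  obtain ⟨j, hj'⟩ := hb'
  refine ⟨i, a, j, hj' ▸ b.2, fun x => ?_⟩
  change (HomogeneousLocalization.mapId 𝒜 _ (HomogeneousLocalization.mk ⟨i, a, b, hb⟩)).val = _
  change Localization.mk a.1 ⟨b.1, _⟩ = _
  congr 1
  exact Subtype.ext hj'.symm

/-- Every section of `O(d)` over `D_+(f)` (`deg f = 1`) is a global fraction `B / f^N` with
`deg B = N + d`. -/
theorem exists_tfun_eq_mk (d : ℤ) (f : 𝒜 1) (σ : Γ(Twist.twist 𝒜 d, Proj.basicOpen 𝒜 f.1)) :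
    ∃ (N i : ℕ) (B : 𝒜 i), (i : ℤ) = N + d ∧ ∀ x : Proj.basicOpen 𝒜 f.1,
      tfun 𝒜 σ x = Localization.mk B.1 ⟨f.1 ^ N, pow_not_mem_of_not_mem x.2 N⟩ := by
  have hd : d = ((d.toNat : ℤ) - (-d).toNat) * (1 : ℕ) := by
    rw [Int.toNat_sub_toNat_neg]; simp
  have hT := isTriv_eSec d f d.toNat (-d).toNat hd (Proj.basicOpen 𝒜 f.1) le_rfl
  obtain ⟨r, rfl⟩ := hT.exists_eq_smul σ
  obtain ⟨i', a, j, hb, hr⟩ := exists_ofun_eq_mk one_pos f r
  by_cases hij : i' = j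
  · subst hij
    refine ⟨i' + (-d).toNat, i' + d.toNat • 1,
      ⟨a.1 * f.1 ^ d.toNat, SetLike.mul_mem_graded a.2 (SetLike.pow_mem_graded _ f.2)⟩, ?_, ?_⟩
    · have := Int.toNat_sub_toNat_neg d
      push_cast [smul_eq_mul]
      omega
    · intro x
      rw [tfun_smul, tfun_eSec, hr, Localization.mk_mul]
      apply mk_eq_mk_of_mul_eq
      simp only [Submonoid.coe_mul]
      ring
  · have h0 : f.1 ^ j = 0 := by
      have h1 := DirectSum.decompose_of_mem_same 𝒜 hb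
      have hj : f.1 ^ j ∈ 𝒜 j := by
        have := SetLike.pow_mem_graded j f.2
        rwa [smul_eq_mul, mul_one] at this
      have h2 := DirectSum.decompose_of_mem_ne 𝒜 hj (Ne.symm hij)
      rw [← h1, h2]
    refine ⟨(-d).toNat, d.toNat, 0, ?_, ?_⟩
    · have := Int.toNat_sub_toNat_neg d
      omega
    · intro x
      exfalso
      apply x.2
      have : f.1 ^ j ∈ x.1.asHomogeneousIdeal := by rw [h0]; exact Ideal.zero_mem _
      exact x.1.isPrime.mem_of_pow_mem j this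

end TwistSections

end Groth.Agent.Lib.Helper29.QCoh
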