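import Groth.Agent.Lib.Helper29.ToProj5e
universe u
open CategoryTheory CategoryTheory.Limits AlgebraicGeometry Opposite TopologicalSpace DirectSum

/-! # Twisting sheaves on `Proj` covered by `D_+(f)` with `deg f = d` -/

namespace Groth.Agent.Lib.Helper29.QCoh

section Period
variable {R A : Type u} [CommRing R] [CommRing A] [Algebra R A] {𝒜 : ℕ → Submodule R A} [GradedAlgebra 𝒜]

/-- Serre twists `O(nd)` on `Proj` covered by the `D_+(f)`, `deg f = d`: invertibility and the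
multiplicative structure. -/
theorem twist_period_invertible_and_tensor {d : ℕ}
    (hU : ∀ x : Proj 𝒜, ∃ f : 𝒜 d, x ∈ Proj.basicOpen 𝒜 (f : A)) :
    (∀ n : ℤ, PicF.IsInvertible (Twist.twist 𝒜 (n * d))) ∧
      (∀ m n : ℤ, Nonempty (CohB1.tensorMod (Twist.twist 𝒜 (m * d)) (Twist.twist 𝒜 (n * d)) ≅
        Twist.twist 𝒜 ((m + n) * d))) ∧
      ∀ n : ℕ, Nonempty (Twist.twist 𝒜 ((n : ℤ) * d) ≅ CohB1.tensorPow (Twist.twist 𝒜 (d : ℤ)) n) := by
  have hE : ∀ n : ℤ, n * d = ((n.toNat : ℤ) - (-n).toNat) * (d : ℕ) := by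
    intro n; rw [Int.toNat_sub_toNat_neg]
  have hinv : ∀ n : ℤ, PicF.IsInvertible (Twist.twist 𝒜 (n * d)) := by
    intro n
    refine isInvertible_of_isTriv' fun x => ?_
    obtain ⟨f, hf⟩ := hU x
    exact ⟨_, _, hf, isTriv_eSec (n * d) f n.toNat (-n).toNat (hE n) _ le_rfl⟩
  have hqc : ∀ n : ℤ, (Twist.twist 𝒜 (n * d)).IsQuasicoherent := fun n =>
    isQuasicoherent_of_isInvertible (hinv n)
  refine ⟨hinv, ?_, ?_⟩
  · intro m n
    have := hqc m
    have := hqc n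
    obtain ⟨φ, -⟩ := exists_iso_of_cocycle
      (M := CohB1.tensorMod (Twist.twist 𝒜 (m * d)) (Twist.twist 𝒜 (n * d)))
      (N := Twist.twist 𝒜 ((m + n) * d))
      (U := fun f : 𝒜 d => Proj.basicOpen 𝒜 (f : A))
      (m := fun f => tmulSec _ _ (eSec (m * d) f m.toNat (-m).toNat (hE m) _ le_rfl)
        (eSec (n * d) f n.toNat (-n).toNat (hE n) _ le_rfl))
      (n := fun f => eSec ((m + n) * d) f (m + n).toNat (-(m + n)).toNat (hE (m + n)) _ le_rfl)
      hU (fun f => (isTriv_eSec (m * d) f _ _ (hE m) _ le_rfl).tensor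
        (isTriv_eSec (n * d) f _ _ (hE n) _ le_rfl))
      (fun f => isTriv_eSec ((m + n) * d) f _ _ (hE (m + n)) _ le_rfl)
      (fun f g => by
        refine ⟨cSec f g (m + n).toNat (-(m + n)).toNat _ le_rfl, ?_, ?_⟩
        · rw [res_tmulSec, res_tmulSec, res_eSec, res_eSec, res_eSec, res_eSec,
            eSec_eq_cSec_smul (m * d) f g _ _ (hE m) _ le_rfl,
            eSec_eq_cSec_smul (n * d) f g _ _ (hE n) _ le_rfl,
            tmulSec_smul_left, tmulSec_smul_right, smul_smul]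
          congr 1
          rw [mul_comm]
          exact cSec_mul f g _ _ _ _ _ _ (by omega) _ _
        · rw [res_eSec, res_eSec]
          exact eSec_eq_cSec_smul ((m + n) * d) f g _ _ (hE (m + n)) _ le_rfl)
    exact ⟨φ⟩
  · intro n
    have h1' : ((1 : ℤ) * d) = (d : ℤ) := one_mul _
    have hq1 : (Twist.twist 𝒜 (d : ℤ)).IsQuasicoherent := by
      have := hqc 1
      rwa [h1'] at this
    have h1 : (d : ℤ) = (((1 : ℕ) : ℤ) - (0 : ℕ)) * (d : ℕ) := by simp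
    have hn : (n : ℤ) * d = (((n : ℕ) : ℤ) - (0 : ℕ)) * (d : ℕ) := by simp
    have := hqc n
    obtain ⟨φ, -⟩ := exists_iso_of_cocycle (M := Twist.twist 𝒜 ((n : ℤ) * d))
      (N := CohB1.tensorPow (Twist.twist 𝒜 (d : ℤ)) n)
      (U := fun f : 𝒜 d => Proj.basicOpen 𝒜 (f : A))
      (m := fun f => eSec ((n : ℤ) * d) f n 0 hn _ le_rfl)
      (n := fun f => epow (Twist.twist 𝒜 (d : ℤ)) (eSec (d : ℤ) f 1 0 h1 _ le_rfl) n)
      hU (fun f => isTriv_eSec ((n : ℤ) * d) f _ _ hn _ le_rfl)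
      (fun f => (isTriv_eSec (d : ℤ) f _ _ h1 _ le_rfl).epow n)
      (fun f g => by
        refine ⟨cSec f g n 0 _ le_rfl, ?_, ?_⟩
        · rw [res_eSec, res_eSec]
          exact eSec_eq_cSec_smul ((n : ℤ) * d) f g _ _ hn _ le_rfl
        · rw [res_epow, res_epow, res_eSec, res_eSec,
            eSec_eq_cSec_smul (d : ℤ) f g _ _ h1 _ le_rfl, epow_smul, cSec_pow]
          simp only [mul_one, mul_zero])
    exact ⟨φ⟩

theorem genLocus_homOfSection_gSec_period {d : ℕ}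
    (hcov : ∀ x : Proj 𝒜, ∃ g : 𝒜 d, x ∈ Proj.basicOpen 𝒜 g.1)
    (n : ℕ) (hn : 0 < n) (f : 𝒜 d) (m : ℤ) (hm : m = (n : ℤ) * (d : ℕ)) :
    CohB1.genLocus (Twist.twist 𝒜 m) (homOfSection _ (gSec n f m hm)) =
      Proj.basicOpen 𝒜 f.1 := by
  have hm' : m = ((n : ℤ) - (0 : ℕ)) * (d : ℕ) := by rw [hm]; push_cast; ring
  apply le_antisymm
  · intro x hx
    by_contra hxf
    have hfx : f.1 ∈ x.asHomogeneousIdeal := by
      by_contra h; exact hxf h
    obtain ⟨g, hg⟩ := hcov x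
    have hT1 := isTriv_sval_of_le_genLocus (homOfSection _ (gSec n f m hm))
      (inf_le_left : CohB1.genLocus (Twist.twist 𝒜 m) (homOfSection _ (gSec n f m hm)) ⊓
        Proj.basicOpen 𝒜 g.1 ≤ _)
    obtain ⟨b, hb⟩ := hT1.exists_eq_smul (eSec m g n 0 hm' _ inf_le_right)
    rw [sval_homOfSection] at hb
    have hxU : x ∈ CohB1.genLocus (Twist.twist 𝒜 m) (homOfSection _ (gSec n f m hm)) ⊓
        Proj.basicOpen 𝒜 g.1 := ⟨hx, hg⟩
    have h1 := congrArg (fun σ => tfun 𝒜 σ ⟨x, hxU⟩) hb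
    simp only [tfun_smul, tfun_eSec, tfun_res] at h1
    have h2 : tfun 𝒜 (gSec n f m hm) ⟨x, trivial⟩ =
        Localization.mk (f.1 ^ n) ⟨1, one_not_mem x⟩ := rfl
    have hu : IsUnit (Localization.mk (g.1 ^ n) ⟨g.1 ^ 0, pow_not_mem_of_not_mem hg 0⟩ :
        Twist.Loc 𝒜 x) :=
      (isUnit_mk_iff x _ _ _).mpr (pow_not_mem_of_not_mem hg n)
    rw [h1] at hu
    have hu2 := isUnit_of_mul_isUnit_right hu
    erw [h2, isUnit_mk_iff] at hu2
    exact hu2 (Ideal.pow_mem_of_mem _ hfx n hn)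
  · apply le_genLocus_of_isTriv_sval
    rw [sval_homOfSection, res_gSec n f m hm _ le_rfl]
    exact isTriv_eSec m f n 0 _ _ le_rfl

/-- If `Proj` is quasi-compact and covered by the `D_+(f)`, `deg f = d > 0`, then `O(d)` is
ample. -/
theorem isAmple_twist_period [CompactSpace (Proj 𝒜)] {d : ℕ} (hd : 0 < d)
    (hcov : ∀ x : Proj 𝒜, ∃ g : 𝒜 d, x ∈ Proj.basicOpen 𝒜 g.1) :
    CohB1.IsAmple (Twist.twist 𝒜 (d : ℤ)) := by
  have hinv : PicF.IsInvertible (Twist.twist 𝒜 (d : ℤ)) := by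
    have := (twist_period_invertible_and_tensor hcov).1 1
    rwa [one_mul] at this
  refine ⟨hinv, inferInstance, fun x => ?_⟩
  obtain ⟨f, hx⟩ := hcov x
  have h1 : (d : ℤ) = ((1 : ℕ) : ℤ) * (d : ℕ) := by simp
  have hgl := genLocus_homOfSection_gSec_period hcov 1 one_pos f (d : ℤ) h1
  have hg := genLocus_comp_iso (homOfSection _ (gSec 1 f (d : ℤ) h1))
    (tensorPowOne (Twist.twist 𝒜 (d : ℤ))).symm
  refine ⟨0, homOfSection _ (gSec 1 f (d : ℤ) h1) ≫ (tensorPowOne _).inv, ?_, ?_⟩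
  · erw [hg, hgl]; exact hx
  · erw [hg, hgl]; exact Proj.isAffineOpen_basicOpen 𝒜 f.1 f.2 hd

end Period

end Groth.Agent.Lib.Helper29.QCoh
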