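import Groth.Agent.Lib.Helper29.LReg1

/-! Evaluation at points and the universal point of an affine `k`-scheme (helper29, for S11207). -/

set_option autoImplicit false
universe u
open CategoryTheory MonoidalCategory CartesianMonoidalCategory MonObj AlgebraicGeometry Opposite
open TensorProduct

namespace Groth.Agent.Lib.Helper29.RegRep

open Groth.Agent.Lib.Helper29.AffAttr Groth.Agent.Lib.Helper29.RTrans VecGrp

variable {k : Type u} [Field k]

attribute [local instance] algk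

section Ev

variable {P : Over (Spec (CommRingCat.of k))}

theorem iotaB_bijective (B : Type u) [CommRing B] [Algebra k B] :
    Function.Bijective (iotaB (k := k) B) :=
  ConcreteCategory.bijective_of_isIso (Scheme.ΓSpecIso (CommRingCat.of B)).inv

/-- `B ≃ Γ(Spec B)` as a `k`-algebra isomorphism. -/
noncomputable def iotaE (B : Type u) [CommRing B] [Algebra k B] :
    B ≃ₐ[k] Γ((VecGrp.pt k B).left, ⊤) :=
  AlgEquiv.ofBijective (iotaB B) (iotaB_bijective B)

theorem iotaE_apply (B : Type u) [CommRing B] [Algebra k B] (b : B) : iotaE (k := k) B b = iotaB B b :=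
  rfl

variable {B : Type u} [CommRing B] [Algebra k B]

/-- evaluation of global functions at a `B`-point, as a `k`-algebra map. -/
noncomputable def evK (g : VecGrp.pt k B ⟶ P) : Γ(P.left, ⊤) →ₐ[k] B :=
  ((iotaE (k := k) B).symm : _ →ₐ[k] _).comp (appK g)

theorem iotaB_evK (g : VecGrp.pt k B ⟶ P) (f : Γ(P.left, ⊤)) : iotaB B (evK g f) = appK g f := by
  change iotaE (k := k) B ((iotaE (k := k) B).symm (appK g f)) = _
  rw [AlgEquiv.apply_symm_apply]

theorem evK_eq_iff (g : VecGrp.pt k B ⟶ P) (f : Γ(P.left, ⊤)) (b : B) :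
    evK g f = b ↔ appK g f = iotaB B b := by
  rw [← iotaB_evK]
  exact ⟨fun h => by rw [h], fun h => (iotaB_bijective B).1 h⟩

theorem evK_comp {Q : Over (Spec (CommRingCat.of k))} (h : VecGrp.pt k B ⟶ Q) (φ : Q ⟶ P)
    (f : Γ(P.left, ⊤)) : evK (h ≫ φ) f = evK h (appK φ f) := by
  rw [evK_eq_iff, iotaB_evK, appK_comp]

theorem evK_iotaB (b : B) : evK (𝟙 (VecGrp.pt k B)) (iotaB B b) = b := by
  rw [evK_eq_iff, appK_id]

theorem evK_ptMap {B' : Type u} [CommRing B'] [Algebra k B'] (φ : B →ₐ[k] B')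
    (g : VecGrp.pt k B ⟶ P) (f : Γ(P.left, ⊤)) : evK (ptMap φ ≫ g) f = φ (evK g f) := by
  rw [evK_eq_iff, appK_comp, ← appK_ptMap_iotaB, iotaB_evK]

theorem evK_ptMap_iotaB {B' : Type u} [CommRing B'] [Algebra k B'] (φ : B →ₐ[k] B') (b : B) :
    evK (ptMap φ) (iotaB B b) = φ b := by
  rw [evK_eq_iff, appK_ptMap_iotaB]

theorem evK_ext (s t : Γ(P.left, ⊤))
    (h : ∀ (B : Type u) [CommRing B] [Algebra k B] (g : VecGrp.pt k B ⟶ P), evK g s = evK g t) :
    s = t := by
  apply Groth.Agent.Lib.Helper29.GModCoef.sec_ext_pts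
  intro B _ _ g
  change appK g s = appK g t
  rw [← iotaB_evK, ← iotaB_evK, h B g]

theorem pt_hom_ext [IsAffine P.left] (g g' : VecGrp.pt k B ⟶ P)
    (h : ∀ f : Γ(P.left, ⊤), evK g f = evK g' f) : g = g' := by
  apply Over.OverMorphism.ext
  apply ext_of_isAffine
  ext f
  change appK g f = appK g' f
  rw [← iotaB_evK, ← iotaB_evK, h f]

end Ev

section UPt

variable (P : Over (Spec (CommRingCat.of k))) [IsAffine P.left]

theorem upt_w : P.left.isoSpec.inv ≫ P.hom =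
    Spec.map (CommRingCat.ofHom (algebraMap k Γ(P.left, ⊤))) := by
  rw [Iso.inv_comp_eq]
  have h := Scheme.toSpecΓ_naturality P.hom
  have e : CommRingCat.ofHom (algebraMap k Γ(P.left, ⊤)) =
      (Scheme.ΓSpecIso (CommRingCat.of k)).inv ≫ P.hom.appTop := rfl
  rw [e, Spec.map_comp]
  change _ = P.left.toSpecΓ ≫ _
  rw [← reassoc_of% h, toSpecΓ_SpecMap_ΓSpecIso_inv, Category.comp_id]

/-- the universal point of an affine `k`-scheme. -/
noncomputable def upt : VecGrp.pt k Γ(P.left, ⊤) ⟶ P :=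
  Over.homMk P.left.isoSpec.inv (upt_w P)

theorem evK_upt (f : Γ(P.left, ⊤)) : evK (upt P) f = f := by
  rw [evK_eq_iff]
  change P.left.isoSpec.inv.appTop.hom f = (Scheme.ΓSpecIso _).inv.hom f
  have h1 : P.left.isoSpec.hom.appTop ≫ P.left.isoSpec.inv.appTop = 𝟙 _ := by
    rw [← Scheme.Hom.comp_appTop, Iso.inv_hom_id]
    rfl
  have h2 : P.left.isoSpec.hom.appTop = (Scheme.ΓSpecIso Γ(P.left, ⊤)).hom :=
    Scheme.toSpecΓ_appTop P.left
  rw [h2] at h1
  have h : P.left.isoSpec.inv.appTop = (Scheme.ΓSpecIso Γ(P.left, ⊤)).inv :=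
    (Iso.hom_comp_eq_id _).mp h1
  rw [h]

variable {P}

theorem eq_ptMap_upt {B : Type u} [CommRing B] [Algebra k B] (g : VecGrp.pt k B ⟶ P) :
    ptMap (evK g) ≫ upt P = g := by
  apply pt_hom_ext
  intro f
  rw [evK_ptMap, evK_upt]

/-- the action of a point on `1 ⊗ m` is the specialisation of the coaction. -/
theorem rho_eq_Wmap_coact {G : Over (Spec (CommRingCat.of k))} [GrpObj G] [IsAffine G.left]
    {M : Type u} [AddCommGroup M] [Module k M] (ρ : VecGrp.GMod G M)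
    {B : Type u} [CommRing B] [Algebra k B] (g : VecGrp.pt k B ⟶ G) (m : M) :
    ρ.ρ B g ((1 : B) ⊗ₜ[k] m) =
      Wmap (evK g) (ρ.ρ Γ(G.left, ⊤) (upt G) ((1 : Γ(G.left, ⊤)) ⊗ₜ[k] m)) := by
  rw [ρ.naturality, eq_ptMap_upt, Wmap_tmul, map_one]

end UPt

section EvT

variable {G : Over (Spec (CommRingCat.of k))}
  {B B' : Type u} [CommRing B] [Algebra k B] [CommRing B'] [Algebra k B']

/-- evaluation of `B ⊗ Γ(G)` at a point of `Spec B × G`. -/
noncomputable def evT (φ : B →ₐ[k] B') (x : VecGrp.pt k B' ⟶ G) : B ⊗[k] Γ(G.left, ⊤) →ₐ[k] B' :=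
  Algebra.TensorProduct.lift φ (evK x) (fun _ _ => Commute.all _ _)

theorem evT_tmul (φ : B →ₐ[k] B') (x : VecGrp.pt k B' ⟶ G) (b : B) (f : Γ(G.left, ⊤)) :
    evT φ x (b ⊗ₜ f) = φ b * evK x f := by
  simp [evT]

theorem evK_lift_θ (φ : B →ₐ[k] B') (x : VecGrp.pt k B' ⟶ G) (z : B ⊗[k] Γ(G.left, ⊤)) :
    evK (lift (ptMap φ) x) (θ B G z) = evT φ x z := by
  induction z using TensorProduct.induction_on with
  | zero => simp
  | tmul b f =>
    rw [θ_tmul, map_mul, ← evK_comp, ← evK_comp, lift_fst, lift_snd, evK_ptMap_iotaB, evT_tmul]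
  | add z w hz hw => rw [map_add, map_add, map_add, hz, hw]

theorem evT_rhoL [GrpObj G] [IsAffine G.left] (φ : B →ₐ[k] B') (x : VecGrp.pt k B' ⟶ G)
    (g : VecGrp.pt k B ⟶ G) (z : B ⊗[k] Γ(G.left, ⊤)) :
    evT φ x (rhoL B g z) = evT φ ((ptMap φ ≫ g)⁻¹ * x) z := by
  have e : lift (ptMap φ) x ≫ τL g = lift (ptMap φ) ((ptMap φ ≫ g)⁻¹ * x) := by
    apply CartesianMonoidalCategory.hom_ext
    · rw [Category.assoc, τL_fst, lift_fst, lift_fst]
    · rw [Category.assoc, τL_snd, MonObj.comp_mul, comp_inv', lift_snd, lift_fst_assoc, lift_snd]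
  rw [← evK_lift_θ, θ_rhoL, ← evK_comp, ← evK_lift_θ, e]

end EvT

end Groth.Agent.Lib.Helper29.RegRep
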