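import Mathlib

set_option autoImplicit false
universe u

namespace Groth.Agent.Lib.Helper29.UfdAlg

variable {A K : Type*} [CommRing A] [IsDomain A] [Field K] [Algebra A K] [IsFractionRing A K]

/-- `c` is a unit at the prime element `π`: a fraction whose numerator and denominator are prime
to `π`. -/
def UnitAt (π : A) (c : K) : Prop :=
  ∃ p q : A, ¬ π ∣ p ∧ ¬ π ∣ q ∧ c * algebraMap A K q = algebraMap A K p

theorem UnitAt.ne_zero {π : A} {c : K} (h : UnitAt π c) : c ≠ 0 := by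
  obtain ⟨p, q, hp, hq, h⟩ := h
  rintro rfl
  rw [zero_mul] at h
  have : p = 0 := (IsFractionRing.injective A K) (by rw [← h, map_zero])
  exact hp (this ▸ dvd_zero π)

theorem UnitAt.mul {π : A} (hπ : Prime π) {c c' : K} (h : UnitAt π c) (h' : UnitAt π c') :
    UnitAt π (c * c') := by
  obtain ⟨p, q, hp, hq, e⟩ := h
  obtain ⟨p', q', hp', hq', e'⟩ := h'
  refine ⟨p * p', q * q', fun hd => (hπ.dvd_or_dvd hd).elim hp hp',
    fun hd => (hπ.dvd_or_dvd hd).elim hq hq', ?_⟩
  rw [map_mul, map_mul, ← e, ← e']; ring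

theorem UnitAt.inv {π : A} {c : K} (h : UnitAt π c) : UnitAt π c⁻¹ := by
  have hc : c ≠ 0 := h.ne_zero
  obtain ⟨p, q, hp, hq, e⟩ := h
  refine ⟨q, p, hq, hp, ?_⟩
  rw [← e]; field_simp

theorem UnitAt.div {π : A} (hπ : Prime π) {c c' : K} (h : UnitAt π c) (h' : UnitAt π c') :
    UnitAt π (c / c') := by
  rw [div_eq_mul_inv]; exact h.mul hπ h'.inv

theorem UnitAt.of_associated {π t : A} (h : Associated π t) {c : K} (hc : UnitAt π c) :
    UnitAt t c := by
  obtain ⟨p, q, hp, hq, e⟩ := hc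
  exact ⟨p, q, fun hd => hp (h.dvd_iff_dvd_left.mpr hd), fun hd => hq (h.dvd_iff_dvd_left.mpr hd), e⟩

theorem unitAt_algebraMap {π t : A} (h : ¬ π ∣ t) (hπ : ¬ IsUnit π) :
    UnitAt (K := K) π (algebraMap A K t) :=
  ⟨t, 1, h, mt isUnit_of_dvd_one hπ, by simp⟩

theorem UnitAt.pow {π : A} (hπ : Prime π) {c : K} (h : UnitAt π c) (n : ℕ) : UnitAt π (c ^ n) := by
  induction n with
  | zero =>
    rw [pow_zero]
    exact ⟨1, 1, mt isUnit_of_dvd_one hπ.not_isUnit, mt isUnit_of_dvd_one hπ.not_isUnit, by simp⟩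
  | succ n ih => rw [pow_succ]; exact ih.mul hπ h

theorem UnitAt.zpow {π : A} (hπ : Prime π) {c : K} (h : UnitAt π c) (m : ℤ) :
    UnitAt π (c ^ m) := by
  cases m with
  | ofNat n => rw [Int.ofNat_eq_natCast, zpow_natCast]; exact h.pow hπ n
  | negSucc n => rw [zpow_negSucc]; exact (h.pow hπ (n + 1)).inv

theorem exists_zpow_mul_unitAt [UniqueFactorizationMonoid A] {t : A} (ht : Prime t) (c : K)
    (hc : c ≠ 0) :
    ∃ (m : ℤ) (w : K), UnitAt t w ∧ c = (algebraMap A K t) ^ m * w := by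
  obtain ⟨p, q, hq, rfl⟩ := IsFractionRing.div_surjective (A := A) c
  have hp0 : p ≠ 0 := by rintro rfl; simp at hc
  have hq0 : q ≠ 0 := nonZeroDivisors.ne_zero hq
  obtain ⟨k, p', hp', rfl⟩ := WfDvdMonoid.max_power_factor hp0 ht.irreducible
  obtain ⟨l, q', hq', rfl⟩ := WfDvdMonoid.max_power_factor hq0 ht.irreducible
  have hτ : algebraMap A K t ≠ 0 := by
    rw [ne_eq, map_eq_zero_iff _ (IsFractionRing.injective A K)]; exact ht.ne_zero
  have hq'0 : algebraMap A K q' ≠ 0 := by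
    rw [ne_eq, map_eq_zero_iff _ (IsFractionRing.injective A K)]
    rintro rfl; exact hq' (dvd_zero t)
  refine ⟨(k : ℤ) - l, algebraMap A K p' / algebraMap A K q', ⟨p', q', hp', hq', ?_⟩, ?_⟩
  · field_simp
  · rw [zpow_sub₀ hτ, zpow_natCast, zpow_natCast, map_mul, map_mul, map_pow, map_pow]
    field_simp

theorem exists_dvd_pow [UniqueFactorizationMonoid A] (f q : A) (hq : q ≠ 0)
    (h : ∀ π : A, Prime π → π ∣ q → π ∣ f) : ∃ N : ℕ, q ∣ f ^ N := by
  refine UniqueFactorizationMonoid.induction_on_prime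
    (P := fun q => q ≠ 0 → (∀ π : A, Prime π → π ∣ q → π ∣ f) → ∃ N : ℕ, q ∣ f ^ N) q ?_ ?_ ?_ hq h
  · intro h0; exact absurd rfl h0
  · intro x hx _ _; exact ⟨0, hx.dvd⟩
  · intro a p ha0 hp ih _ h
    obtain ⟨N, hN⟩ := ih ha0 (fun π hπ hd => h π hπ (dvd_mul_of_dvd_right hd p))
    exact ⟨N + 1, by rw [pow_succ']; exact mul_dvd_mul (h p hp (dvd_mul_right p a)) hN⟩

theorem unitAt_of_isUnit {B : Type*} [CommRing B] [Algebra A B] (f : A) [IsLocalization.Away f B]
    (ψ : B →+* K) (hψ : ∀ r, ψ (algebraMap A B r) = algebraMap A K r) (s : B) (hs : IsUnit s)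
    (π : A) (hπ : Prime π) (hπf : ¬ π ∣ f) : UnitAt π (ψ s) := by
  obtain ⟨s', hss'⟩ := hs.exists_right_inv
  obtain ⟨⟨a, ⟨_, n, rfl⟩⟩, ha⟩ := IsLocalization.surj (Submonoid.powers f) s
  obtain ⟨⟨b, ⟨_, m, rfl⟩⟩, hb⟩ := IsLocalization.surj (Submonoid.powers f) s'
  simp only at ha hb
  have h1 : algebraMap A K (f ^ n * f ^ m) = algebraMap A K (a * b) := by
    rw [← hψ, ← hψ]
    congr 1
    rw [map_mul, map_mul (algebraMap A B) a b, ← ha, ← hb]
    have : s * algebraMap A B (f ^ n) * (s' * algebraMap A B (f ^ m)) =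
        (s * s') * (algebraMap A B (f ^ n) * algebraMap A B (f ^ m)) := by ring
    rw [this, hss', one_mul]
  have h2 : f ^ n * f ^ m = a * b := IsFractionRing.injective A K h1
  have hπa : ¬ π ∣ a := by
    intro hd
    have : π ∣ f ^ (n + m) := by rw [pow_add, h2]; exact dvd_mul_of_dvd_left hd b
    exact hπf (hπ.dvd_of_dvd_pow this)
  refine ⟨a, f ^ n, hπa, fun hd => hπf (hπ.dvd_of_dvd_pow hd), ?_⟩
  rw [← hψ, ← hψ, ← map_mul, ha]

theorem exists_isUnit_of_unitAt [UniqueFactorizationMonoid A] {B : Type*} [CommRing B] [Algebra A B]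
    (f : A) [IsLocalization.Away f B] (ψ : B →+* K)
    (hψ : ∀ r, ψ (algebraMap A B r) = algebraMap A K r) (c : K) (hc0 : c ≠ 0)
    (hc : ∀ π : A, Prime π → ¬ π ∣ f → UnitAt π c) : ∃ s : B, IsUnit s ∧ ψ s = c := by
  obtain ⟨p, ⟨q, hq⟩, hrel, rfl⟩ := IsFractionRing.exists_reduced_fraction (A := A) c
  have hq0 : q ≠ 0 := nonZeroDivisors.ne_zero hq
  have hqK : algebraMap A K q ≠ 0 := by
    rw [ne_eq, map_eq_zero_iff _ (IsFractionRing.injective A K)]; exact hq0
  have hp0 : p ≠ 0 := by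
    rintro rfl; simp at hc0
  have hcq : IsLocalization.mk' K p ⟨q, hq⟩ * algebraMap A K q = algebraMap A K p :=
    IsLocalization.mk'_spec K p ⟨q, hq⟩
  have key : ∀ π : A, Prime π → ¬ π ∣ f → ¬ π ∣ q ∧ ¬ π ∣ p := by
    intro π hπ hπf
    obtain ⟨p', q', hp', hq', e⟩ := hc π hπ hπf
    have h1 : p * q' = p' * q := by
      apply IsFractionRing.injective A K
      rw [map_mul, map_mul, ← hcq, ← e]; ring
    constructor
    · intro hd
      have : π ∣ p * q' := by rw [h1]; exact dvd_mul_of_dvd_right hd p'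
      rcases hπ.dvd_or_dvd this with h | h
      · exact hπ.not_isUnit (hrel h hd)
      · exact hq' h
    · intro hd
      have : π ∣ p' * q := by rw [← h1]; exact dvd_mul_of_dvd_left hd q'
      rcases hπ.dvd_or_dvd this with h | h
      · exact hp' h
      · exact hπ.not_isUnit (hrel hd h)
  obtain ⟨N, hN⟩ := exists_dvd_pow f q hq0 (fun π hπ hd => by
    by_contra hπf; exact (key π hπ hπf).1 hd)
  obtain ⟨M, hM⟩ := exists_dvd_pow f p hp0 (fun π hπ hd => by
    by_contra hπf; exact (key π hπ hπf).2 hd)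
  have hfB : IsUnit (algebraMap A B f) := IsLocalization.Away.algebraMap_isUnit f
  have hunit : ∀ (x : A) (n : ℕ), x ∣ f ^ n → IsUnit (algebraMap A B x) := by
    intro x n ⟨y, hy⟩
    have : IsUnit (algebraMap A B x * algebraMap A B y) := by
      rw [← map_mul, ← hy, map_pow]; exact hfB.pow n
    exact isUnit_of_mul_isUnit_left this
  have hqB := hunit q N hN
  have hpB := hunit p M hM
  refine ⟨algebraMap A B p * ↑hqB.unit⁻¹, hpB.mul (Units.isUnit _), ?_⟩
  have h3 : ψ (↑hqB.unit⁻¹) * algebraMap A K q = 1 := by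
    rw [← hψ, ← map_mul]
    have : (↑hqB.unit⁻¹ : B) * algebraMap A B q = 1 := by
      have := hqB.unit.inv_mul
      rwa [IsUnit.unit_spec] at this
    rw [this, map_one]
  rw [map_mul, hψ]
  have : IsLocalization.mk' K p ⟨q, hq⟩ = algebraMap A K p / algebraMap A K q := by
    rw [eq_div_iff hqK]; exact hcq
  rw [this, eq_div_iff hqK, mul_assoc, h3, mul_one]

theorem exists_common [UniqueFactorizationMonoid A] {I : Type*} (f : I → A) (a : I → K)
    (ha : ∀ i, a i ≠ 0)
    (H : ∀ i j, ∀ π : A, Prime π → ¬ π ∣ f i → ¬ π ∣ f j → UnitAt π (a i / a j))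
    (i₀ : I) (hf₀ : f i₀ ≠ 0) :
    ∃ c : K, c ≠ 0 ∧ ∀ i, ∀ π : A, Prime π → ¬ π ∣ f i → UnitAt π (c / a i) := by
  classical
  have key : ∀ T : Finset A, ∀ c₀ : K, c₀ ≠ 0 →
      (∀ i, ∀ π : A, Prime π → (∀ t ∈ T, ¬ Associated π t) → ¬ π ∣ f i → UnitAt π (c₀ / a i)) →
      ∃ c : K, c ≠ 0 ∧ ∀ i, ∀ π : A, Prime π → ¬ π ∣ f i → UnitAt π (c / a i) := by
    intro T
    induction T using Finset.induction_on with
    | empty =>
      intro c₀ hc₀ h
      exact ⟨c₀, hc₀, fun i π hπ hπf => h i π hπ (by simp) hπf⟩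
    | insert t T' htT' ih =>
      intro c₀ hc₀ h
      by_cases hcase : Prime t ∧ ∃ i, ¬ t ∣ f i
      · obtain ⟨ht, i_t, hit⟩ := hcase
        obtain ⟨m, w, hw, hcw⟩ := exists_zpow_mul_unitAt ht (c₀ / a i_t)
          (div_ne_zero hc₀ (ha i_t))
        have hτ : algebraMap A K t ≠ 0 := by
          rw [ne_eq, map_eq_zero_iff _ (IsFractionRing.injective A K)]; exact ht.ne_zero
        have hz : (algebraMap A K t) ^ m ≠ 0 := zpow_ne_zero _ hτ
        refine ih (c₀ * ((algebraMap A K t) ^ m)⁻¹) (mul_ne_zero hc₀ (inv_ne_zero hz)) ?_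
        intro i π hπ hπT hπf
        by_cases hassoc : Associated π t
        · have htf : ¬ t ∣ f i := fun hd => hπf (hassoc.dvd_iff_dvd_left.mpr hd)
          have hc₀' : c₀ = (algebraMap A K t) ^ m * w * a i_t := by
            rw [← hcw]; field_simp [ha i_t]
          have e : c₀ * ((algebraMap A K t) ^ m)⁻¹ / a i = w * (a i_t / a i) := by
            rw [hc₀']; field_simp
          rw [e]
          exact (hw.mul ht (H i_t i t ht hit htf)).of_associated hassoc.symm
        · have hπt : ¬ π ∣ t := fun hd => hassoc (hπ.associated_of_dvd ht hd)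
          have e : c₀ * ((algebraMap A K t) ^ m)⁻¹ / a i =
              (c₀ / a i) * ((algebraMap A K t) ^ m)⁻¹ := by ring
          rw [e]
          refine (h i π hπ ?_ hπf).mul hπ ((unitAt_algebraMap hπt hπ.not_isUnit).zpow hπ m).inv
          intro t' ht'
          rcases Finset.mem_insert.mp ht' with rfl | ht'
          · exact hassoc
          · exact hπT t' ht'
      · refine ih c₀ hc₀ ?_
        intro i π hπ hπT hπf
        refine h i π hπ ?_ hπf
        intro t' ht'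
        rcases Finset.mem_insert.mp ht' with rfl | ht'
        · intro hassoc
          apply hcase
          exact ⟨hassoc.prime hπ, i, fun hd => hπf (hassoc.dvd_iff_dvd_left.mpr hd)⟩
        · exact hπT t' ht'
  refine key (UniqueFactorizationMonoid.factors (f i₀)).toFinset (a i₀) (ha i₀) ?_
  intro i π hπ hπT hπf
  refine H i₀ i π hπ ?_ hπf
  intro hd
  obtain ⟨q, hq, hassoc⟩ := UniqueFactorizationMonoid.exists_mem_factors_of_dvd hf₀ hπ.irreducible hd
  exact hπT q (Multiset.mem_toFinset.mpr hq) hassoc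

end Groth.Agent.Lib.Helper29.UfdAlg
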