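import Groth.Agent.Lib.Helper29.ToProj4
universe u
open CategoryTheory CategoryTheory.Limits AlgebraicGeometry Opposite TopologicalSpace

/-! # An immersion criterion via affine charts -/

namespace Groth.Agent.Lib.Helper29.QCoh

theorem app_surjective_congr {X P : Scheme.{u}} (r : X ⟶ P) {U U' : P.Opens} (h : U' = U)
    (hs : Function.Surjective (r.app U).hom) : Function.Surjective (r.app U').hom := by
  subst h; exact hs

instance : MorphismProperty.RespectsRight @IsImmersion @IsOpenImmersion where
  postcomp {X Y Z} i hi f hf := by
    haveI : IsOpenImmersion i := hi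
    haveI : IsImmersion f := hf
    infer_instance

/-- A morphism whose restriction over each member of a family of affine opens covering its image
has affine source and is surjective on functions is an immersion. -/
theorem isImmersion_of_affine_charts {X P : Scheme.{u}} (r : X ⟶ P) {ι : Type*} (U : ι → P.Opens)
    (hU : ∀ α, IsAffineOpen (U α)) (hcov : ∀ x : X, ∃ α, r x ∈ U α)
    (haff : ∀ α, IsAffineOpen (r ⁻¹ᵁ U α))
    (hsurj : ∀ α, Function.Surjective (r.app (U α)).hom) : IsImmersion r := by
  apply IsZariskiLocalAtTarget.of_range_subset_iSup (P := @IsImmersion) U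
  · rintro _ ⟨x, rfl⟩
    obtain ⟨α, hα⟩ := hcov x
    exact Opens.mem_iSup.mpr ⟨α, hα⟩
  · intro α
    haveI : IsAffine ((r ⁻¹ᵁ U α : X.Opens) : Scheme.{u}) := haff α
    haveI : IsAffine ((U α : P.Opens) : Scheme.{u}) := hU α
    haveI : IsClosedImmersion (r ∣_ U α) := by
      apply IsClosedImmersion.of_surjective_of_isAffine
      rw [morphismRestrict_appTop]
      have h1 : Function.Surjective (r.app ((U α).ι ''ᵁ ⊤)).hom :=
        app_surjective_congr r (Scheme.Opens.ι_image_top _) (hsurj α)
      have h2 : Function.Surjective
          (X.presheaf.map (eqToHom (image_morphismRestrict_preimage r (U α) ⊤)).op).hom :=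
        ((ConcreteCategory.bijective_of_isIso _)).2
      exact h2.comp h1
    infer_instance

end Groth.Agent.Lib.Helper29.QCoh
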