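import Groth.Agent.Lib.Helper29.VA1
import Groth.Agent.Lib.Helper29.RelAmple2
import Groth.Prelude.Def_LCI2
universe u
open CategoryTheory CategoryTheory.Limits AlgebraicGeometry Opposite TopologicalSpace

/-! # Very ampleness from sections -/

namespace Groth.Agent.Lib.Helper29.QCoh

section
variable {X S : Scheme.{u}} (M : X.Modules)

theorem span_germ_eq_top_of_mem_genLocus {ι : Type*} (σ : ι → Γ(M, ⊤)) (x : X) (j : ι)
    (hx : x ∈ CohB1.genLocus M (homOfSection M (σ j))) :
    Submodule.span (X.presheaf.stalk x)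
      (Set.range fun i => (M.presheaf.germ ⊤ x trivial).hom (σ i)) = ⊤ := by
  have hT := isTriv_sval_of_le_genLocus (homOfSection M (σ j)) (le_refl _)
  rw [sval_homOfSection] at hT
  have h1 := hT.span_germ_eq_top x hx
  rw [germ_res] at h1
  rw [eq_top_iff, ← h1]
  apply Submodule.span_mono
  rintro _ rfl
  exact ⟨j, rfl⟩

/-- Transport surjectivity of `appLE` (for the full preimage) to `app`. -/
theorem app_surjective_of_appLE {P : Scheme.{u}} (r : X ⟶ P) (U : P.Opens) (W : X.Opens)
    (hW : r ⁻¹ᵁ U = W) (hs : Function.Surjective (r.appLE U W hW.ge).hom) :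
    Function.Surjective (r.app U).hom := by
  subst hW
  rwa [Scheme.Hom.appLE, show (homOfLE (le_refl (r ⁻¹ᵁ U))).op = 𝟙 _ from rfl,
    CategoryTheory.Functor.map_id, Category.comp_id] at hs

end

section Main
variable {X S : Scheme.{u}} (M : X.Modules)
open MvPolynomial HomogeneousLocalization

/-- **Very ampleness from sections**: an invertible module with finitely many global sections,
some of whose non-vanishing loci are affine, cover `X`, lie over affine opens of the base, and
have function rings generated by the base and the ratios of the sections, is very ample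
relative to the base. -/
theorem exists_immersion_of_sections (f : X ⟶ S) (hM : PicF.IsInvertible M) (n : ℕ)
    (σ : Fin (n + 1) → Γ(M, ⊤)) (good : Fin (n + 1) → Prop) (V : Fin (n + 1) → S.Opens)
    (hcov : ∀ x : X, ∃ j, good j ∧ x ∈ CohB1.genLocus M (homOfSection M (σ j)))
    (hV : ∀ j, good j → IsAffineOpen (V j))
    (hW : ∀ j, good j → IsAffineOpen (CohB1.genLocus M (homOfSection M (σ j))))
    (hle : ∀ j, good j → CohB1.genLocus M (homOfSection M (σ j)) ≤ f ⁻¹ᵁ V j)
    (hgen : ∀ j (hj : good j) (g : Γ(X, CohB1.genLocus M (homOfSection M (σ j)))),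
      g ∈ Subring.closure (Set.range (f.appLE (V j) _ (hle j hj)).hom ∪
        {c | ∃ l, QCoh.res M (le_top : CohB1.genLocus M (homOfSection M (σ j)) ≤ ⊤) (σ l) =
          c • QCoh.res M (le_top : CohB1.genLocus M (homOfSection M (σ j)) ≤ ⊤) (σ j)})) :
    ∃ i : X ⟶ CohB1.ProjSpaceOver n S, IsImmersion i ∧
      i ≫ pullback.snd (CohB1.ProjSpace.toSpec n (ULift.{u} ℤ)) (specULiftZIsTerminal.from S) = f ∧
      Nonempty (M ≅ (Scheme.Modules.pullback i).obj (Twist.twistOver n S 1)) := by
  obtain ⟨r, hr, τ, hτ⟩ := exists_to_projSpace (R := ULift.{u} ℤ) n (specULiftZIsTerminal.from X) M hM σ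
    (fun x => by
      obtain ⟨j, _, hx⟩ := hcov x
      exact span_germ_eq_top_of_mem_genLocus M σ x j hx)
  let i : X ⟶ CohB1.ProjSpaceOver n S := pullback.lift r f (specULiftZIsTerminal.hom_ext _ _)
  have hi1 : i ≫ pullback.fst _ _ = r := pullback.lift_fst _ _ _
  have hi2 : i ≫ pullback.snd _ _ = f := pullback.lift_snd _ _ _
  refine ⟨i, ?_, hi2, ⟨?_⟩⟩
  · let D : Fin (n + 1) → (Proj (CohB1.polyGrading n (ULift.{u} ℤ))).Opens := fun j =>
      Proj.basicOpen (CohB1.polyGrading n (ULift.{u} ℤ)) (MvPolynomial.X j)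
    have hD : ∀ j, IsAffineOpen (D j) := fun j =>
      Proj.isAffineOpen_basicOpen (CohB1.polyGrading n (ULift.{u} ℤ)) (MvPolynomial.X j)
        (isHomogeneous_X _ j) one_pos
    let U : {j // good j} → (CohB1.ProjSpaceOver n S).Opens := fun j =>
      pullback.fst (CohB1.ProjSpace.toSpec n (ULift.{u} ℤ)) (specULiftZIsTerminal.from S) ⁻¹ᵁ D j.1 ⊓
        pullback.snd (CohB1.ProjSpace.toSpec n (ULift.{u} ℤ)) (specULiftZIsTerminal.from S) ⁻¹ᵁ V j.1
    have hrpre : ∀ j, r ⁻¹ᵁ D j = CohB1.genLocus M (homOfSection M (σ j)) := by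
      intro j
      set sj := homOfSection (Twist.twist (CohB1.polyGrading n (ULift.{u} ℤ)) 1)
        (oneSecOn (CohB1.polyGrading n (ULift.{u} ℤ)) (Xi n (ULift.{u} ℤ) j) ⊤) with hsj
      have hO := isInvertible_twist_projSpace n (ULift.{u} ℤ) 1
      have h1 := genLocus_pullHom r hO sj
      rw [genLocus_oneSecOn] at h1
      rw [← h1, ← genLocus_comp_iso (pullHom r sj) τ]
      congr 1
      apply hom_ext_of_sval
      have e1 : sval (pullHom r sj ≫ τ.hom) ⊤ = τ.hom.app ⊤ (sval (pullHom r sj) ⊤) := rfl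
      have e2 := sval_pullHom r sj ⊤
      have e4 : sval sj ⊤ = oneSecOn (CohB1.polyGrading n (ULift.{u} ℤ)) (Xi n (ULift.{u} ℤ) j) ⊤ := by
        rw [hsj, sval_homOfSection, res_self]
      rw [e4] at e2
      rw [e1]
      refine (congrArg _ e2).trans ((hτ j).trans ?_)
      rw [sval_homOfSection, res_self]
    have hipre : ∀ j : {j // good j}, i ⁻¹ᵁ U j = CohB1.genLocus M (homOfSection M (σ j.1)) := by
      intro j
      change i ⁻¹ᵁ (_ ⊓ _) = _
      rw [Scheme.Hom.preimage_inf, ← Scheme.Hom.comp_preimage, ← Scheme.Hom.comp_preimage, hi1, hi2]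
      exact (congrArg (fun W => W ⊓ f ⁻¹ᵁ V j.1) (hrpre j.1)).trans
        (inf_eq_left.mpr (hle j.1 j.2))
    apply isImmersion_of_affine_charts i U
    · intro j
      exact isAffineOpen_pullback_inf (hD j.1) (hV j.1 j.2)
        (isAffineOpen_top (Spec (CommRingCat.of (ULift.{u} ℤ)))) le_top le_top
    · intro x
      obtain ⟨j, hj, hx⟩ := hcov x
      refine ⟨⟨j, hj⟩, ?_⟩
      change x ∈ i ⁻¹ᵁ U ⟨j, hj⟩
      rw [hipre]
      exact hx
    · intro j
      rw [hipre]
      exact hW j.1 j.2
    · intro j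
      apply app_surjective_of_appLE i (U j) _ (hipre j)
      -- the ratio identity on `r ⁻¹ D_j`
      have hratio : ∀ l, QCoh.res M (le_top : r ⁻¹ᵁ D j.1 ≤ ⊤) (σ l) =
          (r.app (D j.1)).hom ((Proj.awayToSection (CohB1.polyGrading n (ULift.{u} ℤ))
            (MvPolynomial.X j.1)).hom (xFrac n (ULift.{u} ℤ) j.1 l)) •
            QCoh.res M (le_top : r ⁻¹ᵁ D j.1 ≤ ⊤) (σ j.1) := by
        intro l
        have key : ∀ l', τ.hom.app (r ⁻¹ᵁ D j.1)
            (pullSect r (Twist.twist (CohB1.polyGrading n (ULift.{u} ℤ)) 1) (D j.1)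
              (oneSecOn (CohB1.polyGrading n (ULift.{u} ℤ)) (Xi n (ULift.{u} ℤ) l') (D j.1))) =
            QCoh.res M (le_top : r ⁻¹ᵁ D j.1 ≤ ⊤) (σ l') := by
          intro l'
          rw [← res_oneSecOn (CohB1.polyGrading n (ULift.{u} ℤ)) (Xi n (ULift.{u} ℤ) l')
            (le_top : D j.1 ≤ ⊤), pullSect_res, app_res]
          exact congrArg _ (hτ l')
        have h1 := key l
        rw [show D j.1 = Proj.basicOpen (CohB1.polyGrading n (ULift.{u} ℤ))
            (Xi n (ULift.{u} ℤ) j.1).1 from rfl] at h1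
        rw [oneSecOn_eq_smul (CohB1.polyGrading n (ULift.{u} ℤ)) (Xi n (ULift.{u} ℤ) l)
          (Xi n (ULift.{u} ℤ) j.1), pullSect_smul, Scheme.Modules.Hom.app_smul] at h1
        rw [← h1]
        congr 1
        exact key j.1
      have hT : IsTriv M (CohB1.genLocus M (homOfSection M (σ j.1)))
          (QCoh.res M le_top (σ j.1)) := by
        have hT := isTriv_sval_of_le_genLocus (homOfSection M (σ j.1)) (le_refl _)
        rwa [sval_homOfSection] at hT
      have hrange : ∀ g : Γ(X, CohB1.genLocus M (homOfSection M (σ j.1))),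
          g ∈ (i.appLE (U j) _ (hipre j).ge).hom.range := by
        intro g
        refine (Subring.closure_le.mpr ?_) (hgen j.1 j.2 g)
        rintro c (⟨a, rfl⟩ | ⟨l, hl⟩)
        · refine ⟨((pullback.snd (CohB1.ProjSpace.toSpec n (ULift.{u} ℤ))
            (specULiftZIsTerminal.from S)).appLE (V j.1) (U j) inf_le_right).hom a, ?_⟩
          have h1 := Scheme.Hom.appLE_comp_appLE i (pullback.snd (CohB1.ProjSpace.toSpec n (ULift.{u} ℤ))
            (specULiftZIsTerminal.from S)) (V j.1) (U j) _ inf_le_right (hipre j).ge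
          rw [appLE_congr_hom hi2] at h1
          exact congrArg (fun k => k.hom a) h1
        · refine ⟨((pullback.fst (CohB1.ProjSpace.toSpec n (ULift.{u} ℤ))
            (specULiftZIsTerminal.from S)).appLE (D j.1) (U j) inf_le_left).hom
              ((Proj.awayToSection (CohB1.polyGrading n (ULift.{u} ℤ))
                (MvPolynomial.X j.1)).hom (xFrac n (ULift.{u} ℤ) j.1 l)), ?_⟩
          have h1 := Scheme.Hom.appLE_comp_appLE i (pullback.fst (CohB1.ProjSpace.toSpec n (ULift.{u} ℤ))
            (specULiftZIsTerminal.from S)) (D j.1) (U j) _ inf_le_left (hipre j).ge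
          rw [appLE_congr_hom hi1] at h1
          have h2 := congrArg (fun k => k.hom ((Proj.awayToSection (CohB1.polyGrading n (ULift.{u} ℤ))
                (MvPolynomial.X j.1)).hom (xFrac n (ULift.{u} ℤ) j.1 l))) h1
          refine h2.trans ?_
          apply hT.smul_left_cancel
          rw [← hl]
          have h3 := congrArg (QCoh.res M (hrpre j.1).ge) (hratio l)
          rw [res_res, res_smul, res_res] at h3
          rw [h3]
          rfl
      intro g
      exact hrange g
  · exact τ.symm ≪≫ (pullbackCongrIso hi1.symm _) ≪≫ (pullbackCompIso i (pullback.fst _ _) _).symm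

theorem isRelVeryAmplePn_of_sections (f : X ⟶ S) (hM : PicF.IsInvertible M) (n : ℕ)
    (σ : Fin (n + 1) → Γ(M, ⊤)) (good : Fin (n + 1) → Prop) (V : Fin (n + 1) → S.Opens)
    (hcov : ∀ x : X, ∃ j, good j ∧ x ∈ CohB1.genLocus M (homOfSection M (σ j)))
    (hV : ∀ j, good j → IsAffineOpen (V j))
    (hW : ∀ j, good j → IsAffineOpen (CohB1.genLocus M (homOfSection M (σ j))))
    (hle : ∀ j, good j → CohB1.genLocus M (homOfSection M (σ j)) ≤ f ⁻¹ᵁ V j)
    (hgen : ∀ j (hj : good j) (g : Γ(X, CohB1.genLocus M (homOfSection M (σ j)))),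
      g ∈ Subring.closure (Set.range (f.appLE (V j) _ (hle j hj)).hom ∪
        {c | ∃ l, QCoh.res M (le_top : CohB1.genLocus M (homOfSection M (σ j)) ≤ ⊤) (σ l) =
          c • QCoh.res M (le_top : CohB1.genLocus M (homOfSection M (σ j)) ≤ ⊤) (σ j)})) :
    RelAmple.IsRelVeryAmplePn f M :=
  ⟨n, exists_immersion_of_sections M f hM n σ good V hcov hV hW hle hgen⟩

end Main

end Groth.Agent.Lib.Helper29.QCoh
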