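import Groth.Agent.Lib.Helper29.VA2
universe u
open CategoryTheory CategoryTheory.Limits AlgebraicGeometry Opposite TopologicalSpace

/-! # Ring generation lemmas for very ampleness -/

namespace Groth.Agent.Lib.Helper29.QCoh

section Alg

theorem closure_eq_top_of_away {C C₀ : Type*} [CommRing C] [CommRing C₀] [Algebra C C₀] (d₀ : C)
    [IsLocalization.Away d₀ C₀]
    {ι : Type*} (d : ι → C) (hd : Ideal.span (Set.range d) = ⊤) (c : ι → C₀)
    (hc : ∀ i, algebraMap C C₀ (d i) = c i * algebraMap C C₀ d₀) (g : C₀) :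
    g ∈ Subring.closure (Set.range (algebraMap C C₀) ∪ Set.range c) := by
  set D := Subring.closure (Set.range (algebraMap C C₀) ∪ Set.range c) with hD
  have hφ : ∀ x, algebraMap C C₀ x ∈ D := fun x =>
    Subring.subset_closure (Or.inl ⟨x, rfl⟩)
  have hcD : ∀ i, c i ∈ D := fun i => Subring.subset_closure (Or.inr ⟨i, rfl⟩)
  have h1 : (1 : C) ∈ Ideal.span (Set.range d) := by rw [hd]; trivial
  obtain ⟨a, ha⟩ := (Finsupp.mem_span_range_iff_exists_finsupp).mp h1
  set w : C₀ := a.sum (fun i r => algebraMap C C₀ r * c i) with hw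
  have hwD : w ∈ D := by
    rw [hw, Finsupp.sum]
    exact Subring.sum_mem _ fun i _ => Subring.mul_mem _ (hφ _) (hcD i)
  have hw1 : w * algebraMap C C₀ d₀ = 1 := by
    rw [hw, Finsupp.sum, Finset.sum_mul]
    have := congrArg (algebraMap C C₀) ha
    rw [map_one, Finsupp.sum, map_sum] at this
    rw [← this]
    refine Finset.sum_congr rfl fun i _ => ?_
    rw [smul_eq_mul, map_mul, hc i, mul_assoc]
  obtain ⟨n, x, hx⟩ := IsLocalization.Away.surj d₀ g
  have : g = algebraMap C C₀ x * w ^ n := by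
    calc g = g * (w * algebraMap C C₀ d₀) ^ n := by rw [hw1, one_pow, mul_one]
      _ = (g * algebraMap C C₀ d₀ ^ n) * w ^ n := by ring
      _ = algebraMap C C₀ x * w ^ n := by rw [hx]
  rw [this]
  exact Subring.mul_mem _ (hφ x) (Subring.pow_mem _ hwD n)

end Alg

section Geo
variable {X : Scheme.{u}}

theorem mem_closure_basicOpen_aux {W W₀ : X.Opens} (hW : IsAffineOpen W) (d₀ : Γ(X, W))
    (hW₀ : W₀ = X.basicOpen d₀) (hle : W₀ ≤ W) {ι : Type*} (d : ι → Γ(X, W))
    (hd : Ideal.span (Set.range d) = ⊤) (c : ι → Γ(X, W₀))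
    (hc : ∀ i, rres X hle (d i) = c i * rres X hle d₀) (g : Γ(X, W₀)) :
    g ∈ Subring.closure (Set.range (rres X hle) ∪ Set.range c) := by
  subst hW₀
  haveI := hW.isLocalization_basicOpen d₀
  exact closure_eq_top_of_away d₀ d hd c hc g

/-- On an affine open `W` trivialising `B`, the functions on the non-vanishing locus in `W` of a
section `u i₀` are generated by the functions on `W` and the ratios `u i / u i₀`, provided the
`u i` generate `B` on `W`. -/
theorem mem_closure_of_isTriv {B : X.Modules} {W : X.Opens} (hW : IsAffineOpen W)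
    {ε : Γ(B, W)} (hε : IsTriv B W ε) {ι : Type*} (u : ι → (unitM X ⟶ B))
    (hcov : ∀ x ∈ W, ∃ i, x ∈ CohB1.genLocus B (u i)) (i₀ : ι)
    (c : ι → Γ(X, W ⊓ CohB1.genLocus B (u i₀)))
    (hc : ∀ i, sval (u i) (W ⊓ CohB1.genLocus B (u i₀)) =
      c i • sval (u i₀) (W ⊓ CohB1.genLocus B (u i₀)))
    (g : Γ(X, W ⊓ CohB1.genLocus B (u i₀))) :
    g ∈ Subring.closure (Set.range (rres X (inf_le_left : W ⊓ CohB1.genLocus B (u i₀) ≤ W)) ∪
      Set.range c) := by
  have hd : ∀ i, ∃ d : Γ(X, W), sval (u i) W = d • ε := fun i => hε.exists_eq_smul _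
  choose d hd using hd
  have hloc : ∀ i, CohB1.genLocus B (u i) ⊓ W = X.basicOpen (d i) :=
    fun i => hε.genLocus_inf (u i) (d i) (hd i)
  have hW₀ : W ⊓ CohB1.genLocus B (u i₀) = X.basicOpen (d i₀) := by
    rw [inf_comm]; exact hloc i₀
  refine mem_closure_basicOpen_aux hW (d i₀) hW₀ inf_le_left d ?_ c ?_ g
  · rw [← hW.self_le_iSup_basicOpen_iff]
    intro x hx
    obtain ⟨i, hi⟩ := hcov x hx
    have : x ∈ X.basicOpen (d i) := by rw [← hloc i]; exact ⟨hi, hx⟩
    exact Opens.mem_iSup.mpr ⟨⟨d i, ⟨i, rfl⟩⟩, this⟩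
  · intro i
    have hT := hε.restrict (inf_le_left : W ⊓ CohB1.genLocus B (u i₀) ≤ W)
    apply hT.smul_left_cancel
    have h1 := congrArg (QCoh.res B (inf_le_left : W ⊓ CohB1.genLocus B (u i₀) ≤ W)) (hd i)
    have h2 := congrArg (QCoh.res B (inf_le_left : W ⊓ CohB1.genLocus B (u i₀) ≤ W)) (hd i₀)
    rw [res_sval, res_smul'] at h1 h2
    rw [← h1, mul_smul, ← h2, hc i]

end Geo

section FT
variable {X S : Scheme.{u}}

theorem exists_finite_generators (f : X ⟶ S) [LocallyOfFiniteType f] {V : S.Opens}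
    (hV : IsAffineOpen V) {W : X.Opens} (hW : IsAffineOpen W) (e : W ≤ f ⁻¹ᵁ V) :
    ∃ β : Finset Γ(X, W), ∀ c : Γ(X, W),
      c ∈ Subring.closure (Set.range (f.appLE V W e).hom ∪ (β : Set Γ(X, W))) := by
  have h := HasRingHomProperty.appLE @LocallyOfFiniteType f inferInstance ⟨V, hV⟩ ⟨W, hW⟩ e
  letI := (f.appLE V W e).hom.toAlgebra
  obtain ⟨β, hβ⟩ := (show Algebra.FiniteType Γ(S, V) Γ(X, W) from h).out
  refine ⟨β, fun c => ?_⟩
  have : c ∈ Algebra.adjoin Γ(S, V) (β : Set Γ(X, W)) := by rw [hβ]; trivial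
  exact Algebra.mem_adjoin_iff.mp this

end FT

section Wrapper
variable {X S : Scheme.{u}} (M : X.Modules)

/-- Version of `isRelVeryAmplePn_of_sections` with good sections indexed by a finite type `G` and
extra sections indexed by a finite type `E`. -/
theorem isRelVeryAmplePn_of_sections' (f : X ⟶ S) (hM : PicF.IsInvertible M)
    {G E : Type*} [Finite G] [Finite E]
    (σg : G → Γ(M, ⊤)) (σx : E → Γ(M, ⊤)) (V : G → S.Opens)
    (hcov : ∀ x : X, ∃ j, x ∈ CohB1.genLocus M (homOfSection M (σg j)))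
    (hV : ∀ j, IsAffineOpen (V j))
    (hW : ∀ j, IsAffineOpen (CohB1.genLocus M (homOfSection M (σg j))))
    (hle : ∀ j, CohB1.genLocus M (homOfSection M (σg j)) ≤ f ⁻¹ᵁ V j)
    (hgen : ∀ j (g : Γ(X, CohB1.genLocus M (homOfSection M (σg j)))),
      g ∈ Subring.closure (Set.range (f.appLE (V j) _ (hle j)).hom ∪
        ({c | ∃ l, QCoh.res M (le_top : CohB1.genLocus M (homOfSection M (σg j)) ≤ ⊤) (σg l) =
          c • QCoh.res M (le_top : CohB1.genLocus M (homOfSection M (σg j)) ≤ ⊤) (σg j)} ∪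
        {c | ∃ l, QCoh.res M (le_top : CohB1.genLocus M (homOfSection M (σg j)) ≤ ⊤) (σx l) =
          c • QCoh.res M (le_top : CohB1.genLocus M (homOfSection M (σg j)) ≤ ⊤) (σg j)}))) :
    RelAmple.IsRelVeryAmplePn f M := by
  classical
  let T := Option (G ⊕ E)
  haveI : Finite T := inferInstance
  obtain ⟨n, hn⟩ : ∃ n, Nat.card T = n + 1 :=
    ⟨Nat.card T - 1, (Nat.succ_pred_eq_of_pos Nat.card_pos).symm⟩
  let e : T ≃ Fin (n + 1) := (Finite.equivFin T).trans (finCongr hn)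
  let σT : T → Γ(M, ⊤) := fun t => t.elim 0 (Sum.elim σg σx)
  let goodT : T → Prop := fun t => ∃ j : G, t = some (Sum.inl j)
  let VT : T → S.Opens := fun t => t.elim ⊤ (Sum.elim V (fun _ => ⊤))
  refine isRelVeryAmplePn_of_sections M f hM n (fun k => σT (e.symm k))
    (fun k => goodT (e.symm k)) (fun k => VT (e.symm k)) ?_ ?_ ?_ ?_ ?_
  · intro x
    obtain ⟨j, hj⟩ := hcov x
    refine ⟨e (some (Sum.inl j)), ?_, ?_⟩
    · exact ⟨j, by rw [Equiv.symm_apply_apply]⟩
    · rw [Equiv.symm_apply_apply]; exact hj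
  · rintro k ⟨j, hj⟩
    change IsAffineOpen (VT (e.symm k))
    rw [hj]
    exact hV j
  · rintro k ⟨j, hj⟩
    change IsAffineOpen (CohB1.genLocus M (homOfSection M (σT (e.symm k))))
    rw [hj]
    exact hW j
  · rintro k ⟨j, hj⟩
    change CohB1.genLocus M (homOfSection M (σT (e.symm k))) ≤ f ⁻¹ᵁ VT (e.symm k)
    rw [hj]
    exact hle j
  · rintro k ⟨j, hj⟩
    have key : ∀ (t : T) (_ : t = some (Sum.inl j))
        (hle' : CohB1.genLocus M (homOfSection M (σT t)) ≤ f ⁻¹ᵁ VT t)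
        (g : Γ(X, CohB1.genLocus M (homOfSection M (σT t)))),
        g ∈ Subring.closure (Set.range (f.appLE (VT t) _ hle').hom ∪
          {c | ∃ l : Fin (n + 1),
            QCoh.res M (le_top : CohB1.genLocus M (homOfSection M (σT t)) ≤ ⊤) (σT (e.symm l)) =
            c • QCoh.res M (le_top : CohB1.genLocus M (homOfSection M (σT t)) ≤ ⊤) (σT t)}) := by
      intro t ht
      subst ht
      intro hle' g
      refine Subring.closure_mono ?_ (hgen j g)
      apply Set.union_subset_union_right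
      rintro c (⟨l, hl⟩ | ⟨l, hl⟩)
      · exact ⟨e (some (Sum.inl l)), by rw [Equiv.symm_apply_apply]; exact hl⟩
      · exact ⟨e (some (Sum.inr l)), by rw [Equiv.symm_apply_apply]; exact hl⟩
    exact key (e.symm k) hj _

end Wrapper

end Groth.Agent.Lib.Helper29.QCoh
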