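import Groth.Agent.Lib.Helper29.VA3
import Groth.Agent.Lib.Helper29.SerreA
universe u
open CategoryTheory CategoryTheory.Limits AlgebraicGeometry Opposite TopologicalSpace

/-! # Very ampleness of `B ⊗ Λ^N`: the core construction -/

namespace Groth.Agent.Lib.Helper29.QCoh

section Core
variable {X S : Scheme.{u}}

theorem res_sval_tmulHom_powHom {Λ B : X.Modules} (u : unitM X ⟶ B) (s : unitM X ⟶ Λ) (N : ℕ)
    (W : X.Opens) :
    QCoh.res (CohB1.tensorMod B (CohB1.tensorPow Λ N)) (le_top : W ≤ ⊤)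
      (sval (SecTwist.tmulHom u (SecTwist.powHom s N)) ⊤) =
      tmulSec B (CohB1.tensorPow Λ N) (sval u W) (epow Λ (sval s W) N) := by
  rw [res_sval, ← sval_powHom, tmulSec_eq]
  exact SecTwist.val_tmulHom u (SecTwist.powHom s N) W

theorem isRelVeryAmplePn_tensor_pow_core (f : X ⟶ S)
    {Λ B : X.Modules} (hΛ : PicF.IsInvertible Λ) (hB : PicF.IsInvertible B) (N : ℕ)
    {J I : Type*} [Finite J] [Finite I]
    (s : J → (unitM X ⟶ Λ)) (V : J → S.Opens) (hV : ∀ j, IsAffineOpen (V j))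
    (hWaff : ∀ j, IsAffineOpen (CohB1.genLocus Λ (s j)))
    (hWle : ∀ j, CohB1.genLocus Λ (s j) ≤ f ⁻¹ᵁ V j)
    (hWcov : ∀ x : X, ∃ j, x ∈ CohB1.genLocus Λ (s j))
    (ε : ∀ j, Γ(B, CohB1.genLocus Λ (s j))) (hε : ∀ j, IsTriv B _ (ε j))
    (u : I → (unitM X ⟶ B)) (hucov : ∀ x : X, ∃ i, x ∈ CohB1.genLocus B (u i))
    (β : ∀ j, Finset Γ(X, CohB1.genLocus Λ (s j)))
    (hβ : ∀ j (c : Γ(X, CohB1.genLocus Λ (s j))),
      c ∈ Subring.closure (Set.range (f.appLE (V j) _ (hWle j)).hom ∪ (β j : Set _)))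
    (hext : ∀ j (b : Γ(X, CohB1.genLocus Λ (s j))), b ∈ β j → ∀ i,
      ∃ t' : Γ(CohB1.tensorMod B (CohB1.tensorPow Λ (N + 1)), ⊤),
        QCoh.res _ (le_top : CohB1.genLocus Λ (s j) ≤ ⊤) t' =
          tmulSec B (CohB1.tensorPow Λ (N + 1)) (b • sval (u i) (CohB1.genLocus Λ (s j)))
            (epow Λ (sval (s j) (CohB1.genLocus Λ (s j))) (N + 1))) :
    RelAmple.IsRelVeryAmplePn f (CohB1.tensorMod B (CohB1.tensorPow Λ (N + 1))) := by
  classical
  have hΛN := isInvertible_tensorPow hΛ (N + 1)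
  have hM := isInvertible_tensorMod hB hΛN
  set M := CohB1.tensorMod B (CohB1.tensorPow Λ (N + 1)) with hMdef
  let h : J → I → (unitM X ⟶ M) := fun j i => SecTwist.tmulHom (u i) (SecTwist.powHom (s j) (N + 1))
  let σg : J × I → Γ(M, ⊤) := fun p => sval (h p.1 p.2) ⊤
  let σx : (Σ j : J, I × ↥(β j)) → Γ(M, ⊤) := fun q =>
    (hext q.1 q.2.2.1 q.2.2.2 q.2.1).choose
  have hσx : ∀ q : (Σ j : J, I × ↥(β j)),
      QCoh.res M (le_top : CohB1.genLocus Λ (s q.1) ≤ ⊤) (σx q) =
        tmulSec B (CohB1.tensorPow Λ (N + 1)) (q.2.2.1 • sval (u q.2.1) (CohB1.genLocus Λ (s q.1)))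
          (epow Λ (sval (s q.1) (CohB1.genLocus Λ (s q.1))) (N + 1)) := fun q =>
    (hext q.1 q.2.2.1 q.2.2.2 q.2.1).choose_spec
  have hloc : ∀ p : J × I, CohB1.genLocus M (homOfSection M (σg p)) =
      CohB1.genLocus Λ (s p.1) ⊓ CohB1.genLocus B (u p.2) := by
    intro p
    rw [genLocus_homOfSection_sval]
    change CohB1.genLocus (CohB1.tensorMod B (CohB1.tensorPow Λ (N + 1)))
      (SecTwist.tmulHom (u p.2) (SecTwist.powHom (s p.1) (N + 1))) = _
    rw [genLocus_tmulHom hB hΛN, genLocus_powHom hΛ, inf_comm]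
  refine isRelVeryAmplePn_of_sections' M f hM σg σx (fun p => V p.1) ?_ (fun p => hV p.1) ?_ ?_ ?_
  · intro x
    obtain ⟨j, hj⟩ := hWcov x
    obtain ⟨i, hi⟩ := hucov x
    exact ⟨(j, i), by rw [hloc]; exact ⟨hj, hi⟩⟩
  · intro p
    rw [hloc]
    exact isAffineOpen_inf_genLocus hB (u p.2) (hWaff p.1)
  · intro p
    rw [hloc]
    exact inf_le_left.trans (hWle p.1)
  · rintro ⟨j, i⟩
    have key : ∀ (W₀ : X.Opens) (_ : W₀ = CohB1.genLocus Λ (s j) ⊓ CohB1.genLocus B (u i))
        (hle₀ : W₀ ≤ f ⁻¹ᵁ V j) (g : Γ(X, W₀)),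
        g ∈ Subring.closure (Set.range (f.appLE (V j) W₀ hle₀).hom ∪
          ({c | ∃ l, QCoh.res M (le_top : W₀ ≤ ⊤) (σg l) =
              c • QCoh.res M (le_top : W₀ ≤ ⊤) (σg (j, i))} ∪
           {c | ∃ l, QCoh.res M (le_top : W₀ ≤ ⊤) (σx l) =
              c • QCoh.res M (le_top : W₀ ≤ ⊤) (σg (j, i))})) := by
      intro W₀ hW₀
      subst hW₀
      intro hle₀
      set Wj := CohB1.genLocus Λ (s j) with hWj
      set W₀ := Wj ⊓ CohB1.genLocus B (u i) with hW₀
      set D := Subring.closure (Set.range (f.appLE (V j) W₀ hle₀).hom ∪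
          ({c | ∃ l, QCoh.res M (le_top : W₀ ≤ ⊤) (σg l) =
              c • QCoh.res M (le_top : W₀ ≤ ⊤) (σg (j, i))} ∪
           {c | ∃ l, QCoh.res M (le_top : W₀ ≤ ⊤) (σx l) =
              c • QCoh.res M (le_top : W₀ ≤ ⊤) (σg (j, i))})) with hD
      have hle0j : W₀ ≤ Wj := inf_le_left
      -- the good sections on `W₀`
      have F1 : ∀ i', QCoh.res M (le_top : W₀ ≤ ⊤) (σg (j, i')) =
          tmulSec B (CohB1.tensorPow Λ (N + 1)) (sval (u i') W₀) (epow Λ (sval (s j) W₀) (N + 1)) :=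
        fun i' => res_sval_tmulHom_powHom (u i') (s j) (N + 1) W₀
      -- (i) generators of the chart ring are ratios
      have step1 : ∀ b ∈ β j, rres X hle0j b ∈ D := by
        intro b hb
        apply Subring.subset_closure
        refine Or.inr (Or.inr ⟨⟨j, i, ⟨b, hb⟩⟩, ?_⟩)
        have h1 := hσx ⟨j, i, ⟨b, hb⟩⟩
        have h2 := congrArg (QCoh.res M hle0j) h1
        rw [res_res] at h2
        rw [h2, tmulSec_smul_left, res_smul']
        congr 1
        rw [F1 i, ← res_sval_tmulHom_powHom (u i) (s j) (N + 1) Wj, res_res]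
        exact (res_sval_tmulHom_powHom (u i) (s j) (N + 1) W₀)
      -- (ii) the whole chart ring of `Wj` lands in `D`
      have step2 : ∀ c : Γ(X, Wj), rres X hle0j c ∈ D := by
        intro c
        have hc := hβ j c
        induction hc using Subring.closure_induction with
        | mem x hx =>
          rcases hx with ⟨a, rfl⟩ | hx
          · apply Subring.subset_closure
            refine Or.inl ⟨a, ?_⟩
            have := Scheme.Hom.appLE_map f (hWle j) (homOfLE hle0j).op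
            exact (congrArg (fun k => k.hom a) this).symm
          · exact step1 x hx
        | zero => rw [map_zero]; exact Subring.zero_mem _
        | one => rw [map_one]; exact Subring.one_mem _
        | add x y _ _ hx hy => rw [map_add]; exact Subring.add_mem _ hx hy
        | neg x _ hx => rw [map_neg]; exact Subring.neg_mem _ hx
        | mul x y _ _ hx hy => rw [map_mul]; exact Subring.mul_mem _ hx hy
      -- (iii) ratios of the generating sections of `B`
      have hTi : IsTriv B W₀ (sval (u i) W₀) :=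
        isTriv_sval_of_le_genLocus (u i) (inf_le_right : W₀ ≤ CohB1.genLocus B (u i))
      have hcr : ∀ i', ∃ c : Γ(X, W₀), sval (u i') W₀ = c • sval (u i) W₀ :=
        fun i' => hTi.exists_eq_smul _
      choose cr hcr using hcr
      have step3 : ∀ i', cr i' ∈ D := by
        intro i'
        apply Subring.subset_closure
        refine Or.inr (Or.inl ⟨(j, i'), ?_⟩)
        rw [F1 i', F1 i, hcr i', tmulSec_smul_left]
      -- (iv) conclusion
      intro g
      have h4 := mem_closure_of_isTriv (hWaff j) (hε j) u (fun x _ => hucov x) i cr hcr g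
      refine (Subring.closure_le.mpr ?_) h4
      rintro c (⟨c', rfl⟩ | ⟨i', rfl⟩)
      · exact step2 c'
      · exact step3 i'
    exact key _ (hloc (j, i)) _

end Core

end Groth.Agent.Lib.Helper29.QCoh
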