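import Mathlib
set_option autoImplicit false

/-! Content ideal of a linear map into a finite projective module, and its localization
(helper29, for S10845). -/

namespace Groth.Agent.Lib.Helper29.VanA

/-- The content ideal of `φ : M → P`: generated by all `ℓ (φ x)`, `ℓ` a linear functional on `P`. -/
def content {R M P : Type*} [CommRing R] [AddCommGroup M] [Module R M] [AddCommGroup P]
    [Module R P] (φ : M →ₗ[R] P) : Ideal R :=
  Ideal.span {a | ∃ (l : P →ₗ[R] R) (x : M), a = l (φ x)}

theorem apply_mem_content {R M P : Type*} [CommRing R] [AddCommGroup M] [Module R M]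
    [AddCommGroup P] [Module R P] (φ : M →ₗ[R] P) (l : P →ₗ[R] R) (x : M) :
    l (φ x) ∈ content φ :=
  Ideal.subset_span ⟨l, x, rfl⟩

/-- For projective `P`, `φ x` is a combination of elements of `P` with coefficients in the
content ideal. -/
theorem exists_sum_of_projective {R M P : Type*} [CommRing R] [AddCommGroup M] [Module R M]
    [AddCommGroup P] [Module R P] [Module.Projective R P] (φ : M →ₗ[R] P) (x : M) :
    ∃ (T : Finset P) (c : P → R), (∀ p, c p ∈ content φ) ∧ φ x = ∑ p ∈ T, c p • p := by
  obtain ⟨s, hs⟩ := (Module.projective_def' (R := R) (P := P)).mp inferInstance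
  refine ⟨(s (φ x)).support, fun p => s (φ x) p, fun p => ?_, ?_⟩
  · exact apply_mem_content φ ((Finsupp.lapply p).comp s) x
  · have h := LinearMap.congr_fun hs (φ x)
    simp only [LinearMap.comp_apply, LinearMap.id_apply] at h
    conv_lhs => rw [← h]
    rw [Finsupp.linearCombination_apply, Finsupp.sum]
    rfl

section Loc
variable {R R' M M' P P' : Type*} [CommRing R] [CommRing R'] [Algebra R R'] (f : R)
  [IsLocalization.Away f R'] [AddCommGroup M] [Module R M] [AddCommGroup M'] [Module R M']
  [Module R' M'] [IsScalarTower R R' M'] [AddCommGroup P] [Module R P] [AddCommGroup P']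
  [Module R P'] [Module R' P'] [IsScalarTower R R' P']
  (lM : M →ₗ[R] M') [IsLocalizedModule (Submonoid.powers f) lM]
  (lP : P →ₗ[R] P') [IsLocalizedModule (Submonoid.powers f) lP]
include f

/-- A functional on `P` localizes to a functional on `P'`. -/
theorem exists_loc_functional (l : P →ₗ[R] R) :
    ∃ l' : P' →ₗ[R'] R', ∀ p, l' (lP p) = algebraMap R R' (l p) := by
  refine ⟨(IsLocalizedModule.map (Submonoid.powers f) lP (Algebra.linearMap R R')
    l).extendScalarsOfIsLocalization (Submonoid.powers f) R', fun p => ?_⟩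
  rw [LinearMap.extendScalarsOfIsLocalization_apply', IsLocalizedModule.map_apply]
  rfl

theorem map_content_eq [Module.FinitePresentation R P] (φ : M →ₗ[R] P) (φ' : M' →ₗ[R'] P')
    (hφ : ∀ m, φ' (lM m) = lP (φ m)) :
    (content φ).map (algebraMap R R') = content φ' := by
  apply le_antisymm
  · rw [Ideal.map_le_iff_le_comap]
    refine Ideal.span_le.mpr ?_
    rintro _ ⟨l, x, rfl⟩
    obtain ⟨l', hl'⟩ := exists_loc_functional (R' := R') f lP l
    change algebraMap R R' (l (φ x)) ∈ content φ'
    rw [← hl', ← hφ]
    exact apply_mem_content φ' l' (lM x)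
  · refine Ideal.span_le.mpr ?_
    rintro _ ⟨l', x', rfl⟩
    obtain ⟨⟨m, s⟩, hm⟩ := IsLocalizedModule.surj (Submonoid.powers f) lM x'
    obtain ⟨h, t, ht⟩ := Module.FinitePresentation.exists_lift_of_isLocalizedModule
      (Submonoid.powers f) (Algebra.linearMap R R') ((l'.restrictScalars R).comp lP)
    have h1 : algebraMap R R' (h (φ m)) = (t : R) • l' (lP (φ m)) := by
      have := LinearMap.congr_fun ht (φ m)
      simp only [LinearMap.comp_apply, Algebra.linearMap_apply, LinearMap.smul_apply,
        LinearMap.restrictScalars_apply] at this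
      rw [this, Submonoid.smul_def]
    have h2 : lP (φ m) = (s : R) • φ' x' := by
      rw [← hφ, ← hm, Submonoid.smul_def, ← algebraMap_smul R' (s : R) x', map_smul,
        algebraMap_smul]
    have h3 : algebraMap R R' (h (φ m)) = algebraMap R R' ((t : R) * (s : R)) * l' (φ' x') := by
      rw [h1, h2, ← algebraMap_smul R' (s : R) (φ' x'), map_smul, ← algebraMap_smul R' (t : R),
        smul_eq_mul, smul_eq_mul, map_mul, mul_assoc]
    have hu : IsUnit (algebraMap R R' ((t : R) * (s : R))) :=
      IsLocalization.map_units R' (⟨(t : R) * (s : R), (t * s).2⟩ : Submonoid.powers f)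
    obtain ⟨u, hu⟩ := hu
    have h4 : l' (φ' x') = ((u⁻¹ : R'ˣ) : R') * algebraMap R R' (h (φ m)) := by
      rw [h3, ← hu, ← mul_assoc, Units.inv_mul, one_mul]
    change l' (φ' x') ∈ Ideal.map (algebraMap R R') (content φ)
    rw [h4]
    exact Ideal.mul_mem_left _ _ (Ideal.mem_map_of_mem _ (apply_mem_content φ h m))

end Loc

end Groth.Agent.Lib.Helper29.VanA
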