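import Groth.Agent.Lib.Helper29.ColonLoc
import Groth.Agent.Lib.Helper29.GenLocus
import Groth.Agent.Lib.Helper29.QCohLocFree
import Groth.Prelude.Def_PicF2
set_option autoImplicit false
universe u
open CategoryTheory CategoryTheory.Limits AlgebraicGeometry TopologicalSpace Opposite

namespace Groth.Agent.Lib.Helper29.ZeroSch
open Groth.Agent.Lib.Helper29.QCoh

variable {X : Scheme.{u}}

/-- The colon ideal `(O·s : L)` over an open, as an ideal of `Γ(X, U)`. -/
noncomputable def zI (L : X.Modules) (s : Coh.structureModule X ⟶ L) (U : X.Opens) :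
    Ideal Γ(X, U) := PicF2.zeroIdealOn L s U

theorem mem_zI (L : X.Modules) (s : Coh.structureModule X ⟶ L) (U : X.Opens) (a : Γ(X, U)) :
    a ∈ zI L s U ↔ ∀ m : Γ(L, U), ∃ b : Γ(X, U), a • m = b • sval s U := Iff.rfl

theorem zI_map_basicOpen (L : X.Modules) [L.IsQuasicoherent] (s : Coh.structureModule X ⟶ L)
    {U : X.Opens} (hU : IsAffineOpen U) (hfin : Module.Finite Γ(X, U) Γ(L, U)) (f : Γ(X, U)) :
    (zI L s U).map (X.presheaf.map (homOfLE (X.basicOpen_le f)).op).hom =
      zI L s (X.basicOpen f) := by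
  letI := sectionsModule L (X.basicOpen_le f)
  haveI := hU.isLocalization_basicOpen f
  haveI := isLocalizedModule_res_basicOpen L hU f
  haveI : IsScalarTower Γ(X, U) Γ(X, X.basicOpen f) Γ(L, X.basicOpen f) :=
    IsScalarTower.of_algebraMap_smul (fun r m => rfl)
  refine ColonLoc.map_colon_eq (A := Γ(X, U)) (B := Γ(X, X.basicOpen f)) f
    (resₗ L (X.basicOpen_le f)) (sval s U) (zI L s U) (zI L s (X.basicOpen f))
    (fun a => Iff.rfl) (fun a' => ?_)
  rw [mem_zI]
  have : resₗ L (X.basicOpen_le f) (sval s U) = sval s (X.basicOpen f) :=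
    res_sval s (X.basicOpen_le f)
  rw [this]

/-- On every affine open, the ideal of the zero scheme of a section of a finite locally free
module is the colon ideal. -/
theorem zeroScheme_ideal {L : X.Modules} (hL : FlatMod.IsFinLocFree L)
    (s : Coh.structureModule X ⟶ L) (U : X.affineOpens) :
    (PicF2.zeroScheme L s).ideal U = zI L s U.1 := by
  haveI := isQuasicoherent_of_isFinLocFree hL
  let J : X.IdealSheafData :=
    { ideal := fun V => zI L s V.1
      map_ideal_basicOpen := fun V f =>
        zI_map_basicOpen L s V.2 (finite_projective_sections_of_isFinLocFree hL V.2).1 f }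
  apply le_antisymm
  · exact Scheme.IdealSheafData.ideal_ofIdeals_le _ U
  · have hJ : J ≤ PicF2.zeroScheme L s :=
      Scheme.IdealSheafData.le_ofIdeals_iff.mpr (fun V => le_rfl)
    exact hJ U

end Groth.Agent.Lib.Helper29.ZeroSch
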