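import Groth.Agent.Lib.Helper29.VanA
import Groth.Agent.Lib.Helper29.LFD6
import Groth.Agent.Lib.Helper29.ZeroSch1

/-! The vanishing scheme of a homomorphism `v : E ⟶ F` into a finite locally free module
(helper29, for S10845). -/

universe u
open CategoryTheory CategoryTheory.Limits AlgebraicGeometry TopologicalSpace Opposite

namespace Groth.Agent.Lib.Helper29.VanB
open Groth.Agent.Lib.Helper29.QCoh Groth.Agent.Lib.Helper29 Groth.Agent.Lib.Helper29.LFD

variable {S : Scheme.{u}} {E F : S.Modules} (v : E ⟶ F)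

/-- The content ideal of `v` over an open. -/
noncomputable def cI (V : S.Opens) : Ideal Γ(S, V) := VanA.content (appₗ v V)

theorem cI_map_basicOpen [E.IsQuasicoherent] (hF : FlatMod.IsFinLocFree F) {V : S.Opens}
    (hV : IsAffineOpen V) (f : Γ(S, V)) :
    (cI v V).map (S.presheaf.map (homOfLE (S.basicOpen_le f)).op).hom =
      cI v (S.basicOpen f) := by
  haveI := isQuasicoherent_of_isFinLocFree hF
  letI := sectionsModule E (S.basicOpen_le f)
  letI := sectionsModule F (S.basicOpen_le f)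
  haveI := hV.isLocalization_basicOpen f
  haveI := isLocalizedModule_res_basicOpen E hV f
  haveI := isLocalizedModule_res_basicOpen F hV f
  haveI : IsScalarTower Γ(S, V) Γ(S, S.basicOpen f) Γ(E, S.basicOpen f) :=
    IsScalarTower.of_algebraMap_smul (fun r m => rfl)
  haveI : IsScalarTower Γ(S, V) Γ(S, S.basicOpen f) Γ(F, S.basicOpen f) :=
    IsScalarTower.of_algebraMap_smul (fun r m => rfl)
  haveI : Module.Finite Γ(S, V) Γ(F, V) := (finite_projective_sections_of_isFinLocFree hF hV).1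
  haveI : Module.Projective Γ(S, V) Γ(F, V) :=
    (finite_projective_sections_of_isFinLocFree hF hV).2
  haveI : Module.FinitePresentation Γ(S, V) Γ(F, V) := Module.finitePresentation_of_projective _ _
  exact VanA.map_content_eq (R' := Γ(S, S.basicOpen f)) f (resₗ E (S.basicOpen_le f))
    (resₗ F (S.basicOpen_le f)) (appₗ v V) (appₗ v (S.basicOpen f))
    (fun m => app_res v (S.basicOpen_le f) m)

/-- The ideal sheaf of the vanishing scheme of `v`. -/
noncomputable def vanIdeal [E.IsQuasicoherent] (hF : FlatMod.IsFinLocFree F) : S.IdealSheafData :=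
  { ideal := fun V => cI v V.1
    map_ideal_basicOpen := fun V f => cI_map_basicOpen v hF V.2 f }

theorem pullSect_app_eq_zero [E.IsQuasicoherent] (hF : FlatMod.IsFinLocFree F) {W : S.Opens}
    (hW : IsAffineOpen W) (x : Γ(E, W)) :
    pullSect (vanIdeal v hF).subschemeι F W (v.app W x) = 0 := by
  haveI : Module.Projective Γ(S, W) Γ(F, W) :=
    (finite_projective_sections_of_isFinLocFree hF hW).2
  obtain ⟨T, c, hc, hsum⟩ := VanA.exists_sum_of_projective (appₗ v W) x
  rw [← appₗ_apply, hsum, map_sum]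
  refine Finset.sum_eq_zero fun p _ => ?_
  rw [pullSect_smul]
  have h1 : c p ∈ RingHom.ker ((vanIdeal v hF).subschemeι.app W).hom := by
    have := (vanIdeal v hF).ker_subschemeι_app ⟨W, hW⟩
    rw [this]
    exact hc p
  rw [RingHom.mem_ker] at h1
  rw [show ((vanIdeal v hF).subschemeι.app W) (c p) = 0 from h1, zero_smul]

theorem pullSect_app_eq_zero' [E.IsQuasicoherent] (hF : FlatMod.IsFinLocFree F) (U : S.Opens)
    (l : Γ(E, U)) : pullSect (vanIdeal v hF).subschemeι F U (v.app U l) = 0 := by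
  refine eq_zero_of_res_cover_eq_zero _
    (fun W : {W : S.affineOpens // W.1 ≤ U} => (vanIdeal v hF).subschemeι ⁻¹ᵁ W.1.1)
    (fun W => (vanIdeal v hF).subschemeι.preimage_mono W.2) ?_ _ (fun W => ?_)
  · intro z hz
    obtain ⟨W, hW, hzW, hWU⟩ := exists_isAffineOpen_mem_and_subset
      (x := (vanIdeal v hF).subschemeι z) (U := U) hz
    exact Opens.mem_iSup.mpr ⟨⟨⟨W, hW⟩, hWU⟩, hzW⟩
  · rw [← pullSect_res _ F W.2, ← app_res]
    exact pullSect_app_eq_zero v hF W.1.2 _

theorem le_ker_of_pullback_map_eq_zero [E.IsQuasicoherent] (hF : FlatMod.IsFinLocFree F)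
    {T : Scheme.{u}} (f : T ⟶ S) (h0 : (Scheme.Modules.pullback f).map v = 0) :
    vanIdeal v hF ≤ f.ker := by
  haveI := isQuasicoherent_of_isFinLocFree hF
  rw [Scheme.Hom.ker, Scheme.IdealSheafData.le_ofIdeals_iff]
  intro V
  refine Ideal.span_le.mpr ?_
  rintro _ ⟨l, x, rfl⟩
  rw [SetLike.mem_coe, RingHom.mem_ker]
  change f.app V.1 (l (appₗ v V.1 x)) = 0
  have key : ∀ t : T, t ∈ f ⁻¹ᵁ V.1 → ∃ (N : T.Opens) (hN : N ≤ f ⁻¹ᵁ V.1), t ∈ N ∧
      rres T hN (f.app V.1 (l (appₗ v V.1 x))) = 0 := by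
    intro t ht
    obtain ⟨V', n, e, hyV', hB⟩ := exists_isBasis hF (f t)
    obtain ⟨h, hhle, hyh⟩ := V.2.exists_basicOpen_le (V := V.1 ⊓ V')
      ⟨f t, ⟨ht, hyV'⟩⟩ ht
    have hWV : S.basicOpen h ≤ V.1 := S.basicOpen_le h
    have hB' := hB.restrict (hhle.trans inf_le_right)
    -- localized functional
    obtain ⟨l', hl'⟩ : ∃ l' : Γ(F, S.basicOpen h) →ₗ[Γ(S, S.basicOpen h)] Γ(S, S.basicOpen h),
        ∀ p : Γ(F, V.1), l' (res F hWV p) = rres S hWV (l p) := by
      letI := sectionsModule F (S.basicOpen_le h)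
      haveI := V.2.isLocalization_basicOpen h
      haveI := isLocalizedModule_res_basicOpen F V.2 h
      haveI : IsScalarTower Γ(S, V.1) Γ(S, S.basicOpen h) Γ(F, S.basicOpen h) :=
        IsScalarTower.of_algebraMap_smul (fun r m => rfl)
      exact VanA.exists_loc_functional (R' := Γ(S, S.basicOpen h)) h (resₗ F (S.basicOpen_le h)) l
    -- coordinates
    obtain ⟨c, hc⟩ := (hB' (S.basicOpen h) le_rfl).2 (v.app _ (res E hWV x))
    simp only [res_self] at hc
    have h1 : pullSect f F (S.basicOpen h) (v.app _ (res E hWV x)) = 0 := by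
      rw [← pullSect_naturality, h0]; rfl
    rw [← hc, map_sum] at h1
    simp only [pullSect_smul] at h1
    have hBf := IsBasis.pullSect f hB'
    have hinj' := (hBf (f ⁻¹ᵁ (S.basicOpen h)) le_rfl).1
    simp only [res_self] at hinj'
    have h2 : (fun k => f.app (S.basicOpen h) (c k)) = fun _ => 0 := by
      apply hinj'
      simp only [zero_smul, Finset.sum_const_zero]
      exact h1
    refine ⟨f ⁻¹ᵁ (S.basicOpen h), f.preimage_mono hWV, hyh, ?_⟩
    have hnat : rres T (f.preimage_mono hWV) (f.app V.1 (l (appₗ v V.1 x))) =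
        f.app (S.basicOpen h) (rres S hWV (l (appₗ v V.1 x))) := by
      have := f.naturality (homOfLE hWV).op
      exact (congrArg (fun k => k.hom (l (appₗ v V.1 x))) this).symm
    rw [hnat, ← hl', appₗ_apply, ← app_res, ← hc, map_sum, map_sum]
    refine Finset.sum_eq_zero fun k _ => ?_
    rw [map_smul, smul_eq_mul, map_mul, congrFun h2 k, zero_mul]
  choose N hN htN hNz using key
  refine T.sheaf.eq_of_locally_eq' (fun t : (f ⁻¹ᵁ V.1 : T.Opens) => N t.1 t.2) (f ⁻¹ᵁ V.1)
    (fun t => homOfLE (hN t.1 t.2)) ?_ _ 0 (fun t => ?_)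
  · intro y hy
    exact Opens.mem_iSup.mpr ⟨⟨y, hy⟩, htN y hy⟩
  · exact (hNz t.1 t.2).trans (map_zero (rres T (hN t.1 t.2))).symm

theorem exists_vanishing_ideal [E.IsQuasicoherent] (hF : FlatMod.IsFinLocFree F) :
    ∃ I : S.IdealSheafData, ∀ (T : Scheme.{u}) (f : T ⟶ S),
      (∃ g : T ⟶ I.subscheme, g ≫ I.subschemeι = f) ↔
        (Scheme.Modules.pullback f).map v = 0 := by
  refine ⟨vanIdeal v hF, fun T f => ⟨?_, fun h0 => ?_⟩⟩
  · rintro ⟨g, rfl⟩
    apply pullback_hom_ext
    intro U l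
    rw [pullSect_naturality]
    change _ = 0
    rw [← pullbackComp_hom_pullSect, pullSect_app_eq_zero' v hF U l, map_zero]
    exact map_zero _
  · have hle : (vanIdeal v hF).subschemeι.ker ≤ f.ker := by
      rw [Scheme.IdealSheafData.ker_subschemeι]
      exact le_ker_of_pullback_map_eq_zero v hF f h0
    exact ⟨IsClosedImmersion.lift (vanIdeal v hF).subschemeι f hle,
      IsClosedImmersion.lift_fac _ _ _⟩

end Groth.Agent.Lib.Helper29.VanB
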