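import Groth.Agent.Lib.Helper29.ZeroSch2
import Groth.Agent.Lib.Helper29.Curve1
import Groth.Agent.Lib.Helper29.MeroCore8
import Groth.Agent.Lib.Helper29.PullSect
set_option autoImplicit false
universe u
open CategoryTheory CategoryTheory.Limits AlgebraicGeometry TopologicalSpace Opposite

namespace Groth.Agent.Lib.Helper29.ZeroSch
open Groth.Agent.Lib.Helper29.QCoh Groth.Agent.Lib.Helper29.QCoh.MeroK

variable {X : Scheme.{u}}

theorem divCond_one_of_effective (D : Mero.Divisor X) (hD : Mero.IsEffective D) (x : X) :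
    Mero.DivCond D x 1 := by
  intro g hg
  obtain ⟨c, hc⟩ := hD x
  set uc : (Mero.KStalk X x)ˣ := (IsLocalization.map_units (Mero.KStalk X x) c).unit with huc
  have hucv : (uc : Mero.KStalk X x) =
      algebraMap (X.presheaf.stalk x) (Mero.KStalk X x) c.1 := rfl
  rw [hc] at hg
  obtain ⟨u, hu⟩ := (QuotientGroup.eq (s := Mero.stalkUnits X x)).mp hg
  have hu' : algebraMap (X.presheaf.stalk x) (Mero.KStalk X x) u.1 =
      (uc⁻¹ * g : (Mero.KStalk X x)ˣ).1 := congrArg Units.val hu
  have hg' : g.1 = (uc : Mero.KStalk X x) *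
      algebraMap (X.presheaf.stalk x) (Mero.KStalk X x) u.1 := by
    rw [hu', Units.val_mul, ← mul_assoc, Units.mul_inv, one_mul]
  rw [one_mul, hg', hucv, ← map_mul]
  exact ⟨_, rfl⟩

/-- The section `1` of `O_X(D)` for an effective divisor. -/
noncomputable def oneSec (D : Mero.Divisor X) (hD : Mero.IsEffective D) : Γ(Mero.divMod D, ⊤) :=
  divMk D 1 (fun x => by rw [Mero.kmod_one_apply]; exact divCond_one_of_effective D hD x.1)

theorem oneSec_apply (D : Mero.Divisor X) (hD : Mero.IsEffective D) (x : (⊤ : X.Opens)) :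
    (oneSec D hD).1 x = 1 := rfl

theorem exists_section_of_effective [IsIntegral X] {L : X.Modules} (hL : PicF.IsInvertible L)
    (D : Mero.Divisor X) (hD : Mero.IsEffective D) (e : L ≅ Mero.divMod D) :
    ∃ s : unitM X ⟶ L, s ≠ 0 ∧ Mero.IsDivOfIdeal D (PicF2.zeroScheme L s) := by
  set s : unitM X ⟶ L := homOfSection L (e.inv.app ⊤ (oneSec D hD)) with hs
  have hsv : ∀ U : X.Opens, sval s U =
      e.inv.app U (QCoh.res (Mero.divMod D) le_top (oneSec D hD)) := by
    intro U
    rw [hs, sval_homOfSection, app_res]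
  refine ⟨s, ?_, ?_⟩
  · intro h0
    have h1 : sval s ⊤ = 0 := by rw [h0]; rfl
    rw [hsv ⊤] at h1
    have h2 : QCoh.res (Mero.divMod D) (le_top : (⊤ : X.Opens) ≤ ⊤) (oneSec D hD) = 0 := by
      have := congrArg (e.hom.app ⊤) h1
      rw [app_inv_app, map_zero] at this
      exact this
    obtain ⟨x⟩ : Nonempty X := inferInstance
    have h3 := congrArg (fun t : Γ(Mero.divMod D, ⊤) => t.1 ⟨x, trivial⟩) h2
    simp only [div_res_apply, div_zero_apply] at h3
    exact one_ne_zero h3
  · intro x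
    obtain ⟨U₀, hxU₀, f₀, hf₀⟩ := D.2 x
    obtain ⟨U, hU, hxU, hUU₀⟩ := exists_isAffineOpen_mem_and_subset (x := x) (U := U₀) hxU₀
    set f : (Γ(Mero.kmod X, U))ˣ := resUnit hUU₀ f₀ with hf
    have hfD : ∀ y : U, D.1 y.1 = Mero.germOf f y := fun y => by
      rw [hf, germOf_resUnit]; exact hf₀ ⟨y.1, hUU₀ y.2⟩
    have hrange : ∀ y : U, (f : Γ(Mero.kmod X, U)).1 y ∈
        (algebraMap (X.presheaf.stalk y.1) (Mero.KStalk X y.1)).range := by
      intro y
      have := (divCond_iff_of_germOf D f y (hfD y) 1).mp (divCond_one_of_effective D hD y.1)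
      rwa [one_mul] at this
    obtain ⟨r, hr⟩ := exists_eq_toK (f : Γ(Mero.kmod X, U)) hrange
    have hreg : r ∈ Mero.regSub X U := by
      intro y
      refine Curve1.num_mem_nonZeroDivisors
        (Units.map (Mero.evalK X U y).toMonoidHom f) _ 1 ?_
      change (f : Γ(Mero.kmod X, U)).1 y = _
      rw [← hr, Mero.toK_apply]
    have htriv : IsTriv L U (e.inv.app U (divGen D f hfD)) :=
      IsTriv.of_iso e.symm (isTriv_divGen D f hfD)
    have hone : QCoh.res (Mero.divMod D) (le_top : U ≤ ⊤) (oneSec D hD) = r • divGen D f hfD := by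
      refine div_ext D fun y => ?_
      rw [div_res_apply, oneSec_apply, div_smul_apply, divGen_apply, smul_eq_mk_mul,
        ← Mero.toK_apply, hr]
      exact (unit_val_mul_inv f y).symm
    have hsU : sval s U = r • e.inv.app U (divGen D f hfD) := by
      rw [hsv U, hone, app_smul']
    refine ⟨⟨U, hU⟩, hxU, r, hreg, zeroScheme_ideal_of_isTriv hL s hU htriv r hsU, fun y => ?_⟩
    rw [hfD y]
    exact germOf_toK_unit ⟨r, hreg⟩ f hr.symm y

end Groth.Agent.Lib.Helper29.ZeroSch
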