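import Groth.Agent.Lib.Helper29.ZeroSch3
import Groth.Agent.Lib.Helper29.Curve3
set_option autoImplicit false
universe u
open CategoryTheory CategoryTheory.Limits AlgebraicGeometry TopologicalSpace Opposite

namespace Groth.Agent.Lib.Helper29.ZeroSch
open Groth.Agent.Lib.Helper29.QCoh Groth.Agent.Lib.Helper29.QCoh.MeroK
open Groth.Agent.Lib.Helper29.Curve1

variable {X : Scheme.{u}}

theorem exists_unit_of_span_eq {A : Type*} [CommRing A] (a b : A) (hb : b ∈ nonZeroDivisors A)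
    (h : Ideal.span {a} = Ideal.span {b}) : ∃ u : Aˣ, a = u * b := by
  have h1 : a ∈ Ideal.span {b} := h ▸ Ideal.subset_span rfl
  have h2 : b ∈ Ideal.span {a} := h.symm ▸ Ideal.subset_span rfl
  rw [Ideal.mem_span_singleton'] at h1 h2
  obtain ⟨u, hu⟩ := h1
  obtain ⟨v, hv⟩ := h2
  have h3 : (v * u - 1) * b = 0 := by
    rw [sub_mul, one_mul, mul_assoc, hu, hv, sub_self]
  have h4 : v * u = 1 := sub_eq_zero.mp ((mem_nonZeroDivisors_iff_right.mp hb) _ h3)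
  exact ⟨⟨u, v, by rw [mul_comm]; exact h4, h4⟩, hu.symm⟩

theorem regClass_mul {x : X} (a b : Mero.regStalk X x) :
    regClass (a * b) = regClass a * regClass b := by
  unfold regClass
  rw [← QuotientGroup.mk_mul]
  congr 1
  apply Units.ext
  rw [Units.val_mul]
  change algebraMap _ _ (a.1 * b.1) = algebraMap _ _ a.1 * algebraMap _ _ b.1
  rw [map_mul]

theorem regClass_eq_of_unit_mul {x : X} (a b : Mero.regStalk X x) (u : (X.presheaf.stalk x)ˣ)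
    (h : a.1 = u * b.1) : regClass a = regClass b := by
  unfold regClass
  rw [QuotientGroup.eq]
  refine ⟨u⁻¹, ?_⟩
  rw [eq_inv_mul_iff_mul_eq]
  apply Units.ext
  rw [Units.val_mul]
  change algebraMap _ _ a.1 * algebraMap _ _ ((u⁻¹ : (X.presheaf.stalk x)ˣ) : X.presheaf.stalk x) =
    algebraMap _ _ b.1
  rw [← map_mul, h, mul_comm (u : X.presheaf.stalk x), mul_assoc, Units.mul_inv, mul_one]

theorem unit_mem_regSub {U : X.Opens} (u : (Γ(X, U))ˣ) : (u : Γ(X, U)) ∈ Mero.regSub X U := by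
  intro y
  exact (IsUnit.map (X.presheaf.germ U y.1 y.2).hom u.isUnit).mem_nonZeroDivisors

theorem isDivOfIdeal_tensor {L₁ L₂ : X.Modules} (hL₁ : PicF.IsInvertible L₁)
    (hL₂ : PicF.IsInvertible L₂) (s₁ : unitM X ⟶ L₁) (s₂ : unitM X ⟶ L₂)
    (D₁ D₂ : Mero.Divisor X) (hD₁ : Mero.IsDivOfIdeal D₁ (PicF2.zeroScheme L₁ s₁))
    (hD₂ : Mero.IsDivOfIdeal D₂ (PicF2.zeroScheme L₂ s₂)) :
    Mero.IsDivOfIdeal (D₁ * D₂)
      (PicF2.zeroScheme (CohB1.tensorMod L₁ L₂) (SecTwist.tmulHom s₁ s₂)) := by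
  haveI := isQuasicoherent_of_isInvertible hL₁
  haveI := isQuasicoherent_of_isInvertible hL₂
  intro x
  obtain ⟨U₁, hxU₁, f₁, hf₁, hI₁, hg₁⟩ := hD₁ x
  obtain ⟨U₂, hxU₂, f₂, hf₂, hI₂, hg₂⟩ := hD₂ x
  obtain ⟨V, e₁, e₂, hV, hxV, hVU, he₁, he₂⟩ :=
    exists_affine_isTriv₂ hL₁ hL₂ (W := U₁.1 ⊓ U₂.1) x ⟨hxU₁, hxU₂⟩
  have hV1 : V ≤ U₁.1 := hVU.trans inf_le_left
  have hV2 : V ≤ U₂.1 := hVU.trans inf_le_right
  obtain ⟨a₁, ha₁⟩ := he₁.exists_eq_smul (sval s₁ V)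
  obtain ⟨a₂, ha₂⟩ := he₂.exists_eq_smul (sval s₂ V)
  -- compare `a_i` with `f_i`
  have key : ∀ (L : X.Modules) (hL : PicF.IsInvertible L) (s : unitM X ⟶ L) (U : X.affineOpens)
      (hVU : V ≤ U.1) (f : Γ(X, U.1)) (hf : f ∈ Mero.regSub X U.1)
      (hI : (PicF2.zeroScheme L s).ideal U = Ideal.span {f}) (e : Γ(L, V)) (he : IsTriv L V e)
      (a : Γ(X, V)) (ha : sval s V = a • e),
      ∃ u : (Γ(X, V))ˣ, a = u * X.presheaf.map (homOfLE hVU).op f := by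
    intro L hL s U hVU f hf hI e he a ha
    have h1 := zeroScheme_ideal_of_isTriv hL s hV he a ha
    have h2 := (PicF2.zeroScheme L s).map_ideal (U := ⟨V, hV⟩) (V := U) hVU
    rw [hI, Ideal.map_span, Set.image_singleton, h1] at h2
    have hreg : X.presheaf.map (homOfLE hVU).op f ∈ nonZeroDivisors Γ(X, V) :=
      Depth1.mem_nonZeroDivisors_of_germ _ (fun y hy => Mero.regSub_res (homOfLE hVU) hf ⟨y, hy⟩)
    exact exists_unit_of_span_eq _ _ hreg h2.symm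
  obtain ⟨u₁, hu₁⟩ := key L₁ hL₁ s₁ U₁ hV1 f₁ hf₁ hI₁ e₁ he₁ a₁ ha₁
  obtain ⟨u₂, hu₂⟩ := key L₂ hL₂ s₂ U₂ hV2 f₂ hf₂ hI₂ e₂ he₂ a₂ ha₂
  have hr₁ : a₁ ∈ Mero.regSub X V := by
    rw [hu₁]; exact Submonoid.mul_mem _ (unit_mem_regSub u₁) (Mero.regSub_res (homOfLE hV1) hf₁)
  have hr₂ : a₂ ∈ Mero.regSub X V := by
    rw [hu₂]; exact Submonoid.mul_mem _ (unit_mem_regSub u₂) (Mero.regSub_res (homOfLE hV2) hf₂)
  have hab : sval (SecTwist.tmulHom s₁ s₂) V = (a₁ * a₂) • tmulSec L₁ L₂ e₁ e₂ := by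
    change SecTwist.val (SecTwist.tmulHom s₁ s₂) V = _
    rw [SecTwist.val_tmulHom, ← tmulSec_eq]
    change tmulSec L₁ L₂ (sval s₁ V) (sval s₂ V) = _
    rw [ha₁, ha₂, tmulSec_smul_left, tmulSec_smul_right, smul_smul]
  refine ⟨⟨V, hV⟩, hxV, a₁ * a₂, Submonoid.mul_mem _ hr₁ hr₂,
    zeroScheme_ideal_of_isTriv (isInvertible_tensorMod hL₁ hL₂) _ hV (he₁.tensor he₂) _ hab,
    fun y => ?_⟩
  change D₁.1 y.1 * D₂.1 y.1 = regClass (Mero.regGerm y ⟨a₁ * a₂, _⟩)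
  rw [hg₁ ⟨y.1, hV1 y.2⟩, hg₂ ⟨y.1, hV2 y.2⟩]
  change regClass (Mero.regGerm ⟨y.1, hV1 y.2⟩ ⟨f₁, hf₁⟩) *
    regClass (Mero.regGerm ⟨y.1, hV2 y.2⟩ ⟨f₂, hf₂⟩) = _
  rw [← regClass_mul]
  symm
  refine regClass_eq_of_unit_mul _ _
    (Units.map (X.presheaf.germ V y.1 y.2).hom.toMonoidHom (u₁ * u₂)) ?_
  change X.presheaf.germ V y.1 y.2 (a₁ * a₂) =
    X.presheaf.germ V y.1 y.2 ((u₁ * u₂ : (Γ(X, V))ˣ) : Γ(X, V)) *
      (X.presheaf.germ U₁.1 y.1 (hV1 y.2) f₁ * X.presheaf.germ U₂.1 y.1 (hV2 y.2) f₂)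
  rw [hu₁, hu₂, Units.val_mul]
  simp only [map_mul, TopCat.Presheaf.germ_res_apply]
  ring

end Groth.Agent.Lib.Helper29.ZeroSch
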